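import Cfsg.Statements.S1944
import Cfsg.Agent.H1.Solv
import Cfsg.Agent.H2.CharP

set_option autoImplicit false
open Cfsg

namespace Cfsg.Agent.S1944

open Subgroup in
theorem exists_trace {G A : Type*} [Group G] [Finite G] [CommGroup A] (K : Subgroup G) (act : G → A →* A)
    (h1 : ∀ g x a, act (g * x) a = act g (act x a)) :
    ∃ tr : A →* A, (∀ a, (∀ s ∈ K, act s a = a) → ∀ g, act g (tr a) = tr a) ∧
      (∀ a, (∀ g, act g a = a) → tr a = a ^ K.index) := by
  classical
  have := Fintype.ofFinite (G ⧸ K)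
  have hi : ∀ a : A, a ^ K.index = ∏ _y : G ⧸ K, a := fun a => by
    rw [index, Nat.card_eq_fintype_card, Finset.prod_const, Finset.card_univ]
  refine ⟨∏ y : G ⧸ K, act y.out, fun a ha g => ?_, fun a ha => ?_⟩
  · rw [MonoidHom.finset_prod_apply, map_prod]
    refine Fintype.prod_equiv (MulAction.toPerm g) _ _ fun y => ?_
    have : (g * y.out)⁻¹ * (g • y).out ∈ K := QuotientGroup.eq.1 (by
      rw [QuotientGroup.out_eq', ← smul_eq_mul, ← MulAction.Quotient.smul_coe, QuotientGroup.out_eq'])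
    show _ = act (g • y).out a
    rw [← mul_inv_cancel_left (g * y.out) (g • y).out, h1 (g * y.out), ha _ this, h1]
  · rw [MonoidHom.finset_prod_apply, hi]; exact Finset.prod_congr rfl fun y _ => ha _

/-- Let S be a Sylow p-subgroup of the finite group G and suppose that the centre Z(S) lies in O_{p',p}(G). The elements of S each of which is its only G-conjugate in S form a subgroup W of Z(S); W is then a direct factor of Z(S): there is a subgroup K of Z(S) with W ∩ K = 1 and WK = Z(S). -/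
theorem result {G : Type*} [Group G] [Finite G] {p : ℕ} [Fact p.Prime] (S : Sylow p G)
    (hZ : ((S : Subgroup G) ⊓ Subgroup.centralizer ((S : Subgroup G) : Set G)) ≤ Cfsg.pPrimePCore p G) :
    ∃ W K : Subgroup G, (∀ x : G, x ∈ W ↔ (x ∈ (S : Subgroup G) ∧ ∀ g : G, g * x * g⁻¹ ∈ (S : Subgroup G) → g * x * g⁻¹ = x)) ∧
      K ≤ ((S : Subgroup G) ⊓ Subgroup.centralizer ((S : Subgroup G) : Set G)) ∧ W ⊓ K = ⊥ ∧ W ⊔ K = ((S : Subgroup G) ⊓ Subgroup.centralizer ((S : Subgroup G) : Set G)) := by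
  open Subgroup CfsgH1 CfsgH2 in
    classical
    have hp : p.Prime := Fact.out
    set T : Subgroup G := (S : Subgroup G) ⊓ pPrimePCore p G with hTd
    have hT : IsSylowIn p T (pPrimePCore p G) := IsSylowIn.sylow_inf_normal S _
    set N : Subgroup G := normalizer (T : Set G) with hN
    set V : Subgroup G := T ⊓ centralizer (T : Set G) with hV
    set Z : Subgroup G := (S : Subgroup G) ⊓ centralizer ((S : Subgroup G) : Set G) with hZd
    have hSN : (S : Subgroup G) ≤ N := fun s hs => CfsgH2.mem_normalizer_of_conj_mem fun x hx =>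
      ⟨(S : Subgroup G).mul_mem ((S : Subgroup G).mul_mem hs hx.1) ((S : Subgroup G).inv_mem hs), (pPrimePCore_normal p G).conj_mem _ hx.2 _⟩
    have hZV : Z ≤ V := fun x hx => ⟨⟨hx.1, hZ hx⟩, fun y hy => hx.2 y hy.1⟩
    have hcV : ∀ n ∈ N, ∀ v ∈ V, n * v * n⁻¹ ∈ V := by
      intro n hn v hv
      refine ⟨CfsgH2.conj_mem_of_mem_normalizer hn hv.1, fun y hy => ?_⟩
      have h1 := hv.2 _ (CfsgH2.conj_mem_of_mem_normalizer (inv_mem hn) hy)
      calc y * (n * v * n⁻¹) = n * (n⁻¹ * y * n⁻¹⁻¹ * v) * n⁻¹ := by group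
        _ = _ := by rw [h1]; group
    letI : CommGroup V := { (inferInstance : Group V) with
      mul_comm := fun a b => Subtype.ext (b.2.2 a a.2.1) }
    let act : N → V →* V := fun n =>
      { toFun := fun v => ⟨n * v * n⁻¹, hcV n n.2 v v.2⟩
        map_one' := Subtype.ext (by simp)
        map_mul' := fun a b => Subtype.ext (by
          show (n : G) * (a * b) * (n : G)⁻¹ = (n * a * (n : G)⁻¹) * (n * b * (n : G)⁻¹); group) }
    obtain ⟨tr, t1, t2⟩ := exists_trace ((S : Subgroup G).subgroupOf N) act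
      (fun g x a => Subtype.ext (by
        show (g : G) * x * a * ((g : G) * x)⁻¹ = g * (x * a * (x : G)⁻¹) * (g : G)⁻¹; group))
    have hnd : ¬ p ∣ ((S : Subgroup G).subgroupOf N).index := fun h =>
      S.not_dvd_index (h.trans (relIndex_dvd_index_of_le hSN))
    have hVp : IsPGroup p V := S.isPGroup'.to_le (inf_le_left.trans inf_le_left)
    have hco : ∀ v : V, (((S : Subgroup G).subgroupOf N).index).Coprime (orderOf v) := by
      intro v
      obtain ⟨k, hk⟩ := (IsPGroup.iff_orderOf.1 hVp) v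
      rw [hk]; exact ((Nat.Prime.coprime_iff_not_dvd hp).2 hnd).symm.pow_right k
    have fixW : ∀ v : V, (v : G) ∈ centralizer (N : Set G) → ∀ g, act g v = v := by
      intro v hv g
      apply Subtype.ext
      show (g : G) * v * (g : G)⁻¹ = v
      rw [hv g g.2]; group
    refine ⟨Z ⊓ centralizer (N : Set G), Z ⊓ tr.ker.map V.subtype, fun x => ⟨?_, ?_⟩, inf_le_left, ?_, ?_⟩
    · rintro ⟨hx, hxN⟩
      refine ⟨hx.1, fun g hg => ?_⟩
      obtain ⟨n, hn, hng⟩ := hT.frattini (g := g) (by rw [normalizer_eq_top]; trivial)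
      rw [← sylowIn_sup_pPrimeCore hT, sup_comm, ← SetLike.mem_coe, normal_mul] at hn
      obtain ⟨k, hk, t, ht, rfl⟩ := hn
      have h1 : t⁻¹ * k * t * (t⁻¹ * t * g) ∈ N := by
        have := mul_mem (inv_mem (le_normalizer ht)) hng
        convert this using 1; group
      set k' := t⁻¹ * k * t
      have hk' : k' ∈ pPrimeCore p G := by
        simpa using (inferInstance : (pPrimeCore p G).Normal).conj_mem _ hk t⁻¹
      rw [inv_mul_cancel, one_mul] at h1
      have h2 := hxN _ h1
      have h3 : g * x * g⁻¹ * x⁻¹ = k'⁻¹ * (x * k' * x⁻¹) := by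
        have : g * x * g⁻¹ = k'⁻¹ * (k' * g * x) * g⁻¹ := by group
        rw [this, h2]; group
      have h4 : g * x * g⁻¹ * x⁻¹ ∈ (S : Subgroup G) ⊓ pPrimeCore p G :=
        ⟨(S : Subgroup G).mul_mem hg ((S : Subgroup G).inv_mem hx.1), by
          rw [h3]; exact (pPrimeCore p G).mul_mem ((pPrimeCore p G).inv_mem hk') ((inferInstance : (pPrimeCore p G).Normal).conj_mem _ hk' x)⟩
      have h5 : (S : Subgroup G) ⊓ pPrimeCore p G = ⊥ := by
        obtain ⟨k, hk⟩ := IsPGroup.iff_card.1 S.isPGroup'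
        exact inf_eq_bot_of_coprime (by rw [hk]; exact ((coprime_card_pPrimeCore p G).symm).pow_left k)
      rw [h5, mem_bot] at h4
      exact mul_inv_eq_one.1 h4
    · rintro ⟨hx, h⟩
      have hxZ : x ∈ Z := ⟨hx, fun s hs => by
        have := h s ((S : Subgroup G).mul_mem ((S : Subgroup G).mul_mem hs hx) ((S : Subgroup G).inv_mem hs))
        rw [mul_inv_eq_iff_eq_mul] at this; exact this⟩
      refine ⟨hxZ, fun n hn => ?_⟩
      have := h n (hcV n hn x (hZV hxZ)).1.1
      rw [mul_inv_eq_iff_eq_mul] at this; exact this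
    · rw [eq_bot_iff]
      rintro x ⟨⟨hx, hxN⟩, -, v, hv, rfl⟩
      have h1 := t2 v (fixW v hxN)
      rw [MonoidHom.mem_ker.1 hv] at h1
      have h2 : orderOf v = 1 := Nat.Coprime.eq_one_of_dvd (hco v).symm (orderOf_dvd_of_pow_eq_one h1.symm)
      rw [mem_bot, orderOf_eq_one_iff.1 h2]; rfl
    · refine le_antisymm (sup_le inf_le_left inf_le_left) fun a ha => ?_
      let v : V := ⟨a, hZV ha⟩
      have h1 := t1 v (fun s hs => Subtype.ext (by
        show (s : G) * a * (s : G)⁻¹ = a
        rw [ha.2 s hs]; group))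
      obtain ⟨m, hm⟩ := exists_pow_eq_self_of_coprime (hco (tr v))
      have hw : ((tr v ^ m : V) : G) ∈ centralizer (N : Set G) := by
        rw [coe_pow]
        refine pow_mem (fun n hn => ?_) m
        have := congrArg Subtype.val (h1 ⟨n, hn⟩)
        exact mul_inv_eq_iff_eq_mul.1 this
      have hwZ : ((tr v ^ m : V) : G) ∈ Z := ⟨(tr v ^ m).2.1.1, fun s hs => hw s (hSN hs)⟩
      have h2 : tr (tr v ^ m) = tr v := by
        rw [t2 _ (fixW _ hw), ← pow_mul, mul_comm, pow_mul, hm]
      have e : a = ((tr v ^ m : V) : G) * (((tr v ^ m)⁻¹ * v : V) : G) := by simp [v]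
      rw [e]
      refine mul_mem (mem_sup_left ⟨hwZ, hw⟩) (mem_sup_right ⟨?_, (tr v ^ m)⁻¹ * v, ?_, rfl⟩)
      · exact Z.mul_mem (Z.inv_mem hwZ) ha
      · show tr _ = 1
        rw [map_mul, map_inv, h2, inv_mul_cancel]

end Cfsg.Agent.S1944
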