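import Cfsg.Statements.S0992
import Cfsg.Agent.H1.PG3
import Cfsg.Agent.H8.Small2

set_option autoImplicit false
open Cfsg

namespace Cfsg.Agent.S0992

/-- Let G be a non-abelian finite simple group of even order not divisible by 8, and T a Sylow 2-subgroup. Then T is a Klein four-group and the centralizer of T has index 3 in the normalizer of T. -/
theorem result {G : Type*} [Group G] [Finite G] [IsSimpleGroup G] (hG : ¬ IsMulCommutative G) (h2 : Even (Nat.card G)) (h8 : ¬ 8 ∣ Nat.card G) (T : Sylow 2 G) : IsKleinFour ↥(T : Subgroup G) ∧ (Subgroup.centralizer ((T : Subgroup G) : Set G)).relIndex (Subgroup.normalizer ((T : Subgroup G) : Set G)) = 3 := by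
  open Subgroup CfsgH1 CfsgFT CfsgH2 CfsgH8 in
  have S := NAS.of_comm hG
  have hT := IsSylowIn.of_sylow_top T
  have nc : ¬ IsCyclic T := fun h => S.not_npc Nat.prime_two h2.two_dvd
    (hasNPC_top_iff.1 (hasNPC_of_cyclic_two hT h))
  obtain ⟨k, hk⟩ := T.isPGroup'.exists_card_eq
  have k2 : k < 3 := by
    by_contra! h
    exact h8 (((pow_dvd_pow 2 h).trans hk.symm.dvd).trans (card_subgroup_dvd_card _))
  obtain rfl : k = 2 := by
    interval_cases k
    · exact absurd (isCyclic_of_card_dvd_prime (p := 2) (by simp [hk])) nc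
    · exact absurd (isCyclic_of_prime_card (p := 2) hk) nc
    · rfl
  have K : IsKleinFour T := ⟨hk, (not_isCyclic_iff_exponent_eq_prime Nat.prime_two hk).1 nc⟩
  refine ⟨K, ?_⟩
  have h3 : _ ∣ 24 := (relIndex_cent_dvd (T : Subgroup G)).trans
    ((card_dvd_of_injective (MulAut.toPerm T) fun a b h => MulEquiv.toEquiv_injective h).trans
      (by rw [Nat.card_perm, hk]; rfl))
  have h4 := (hT.mono le_normalizer le_top).not_dvd_of_le (K := C((T : Subgroup G)))
    (fun x hx y hy => IsKleinFour_comm K hy hx) (centralizer_le_normalizer _)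
  have h5 := mt relIndex_eq_one.1 (S.burnside T h2.two_dvd)
  have := Nat.le_of_dvd (by norm_num) h3
  generalize C((T : Subgroup G)).relIndex N((T : Subgroup G)) = n at *
  interval_cases n <;> omega

end Cfsg.Agent.S0992
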