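import Cfsg.Statements.S3707

set_option autoImplicit false
open Cfsg

namespace Cfsg.Agent.S3707

open MulAction
def J (G : Type*) {Ω : Type*} [Group G] [MulAction G Ω] (Γ : Set Ω) : Prop := ∀ x ∈ Γ, ∀ y ∈ Γ, ∃ g : G, (∀ z ∉ Γ, g • z = z) ∧ g • x = y
section
open scoped Pointwise
variable {G Ω : Type*} [Group G] [MulAction G Ω] {A B : Set Ω}
theorem J.union (h : J G A) (h' : J G B) {c : Ω} (hc : c ∈ A) (hc' : c ∈ B) : J G (A ∪ B) := by
  have k : ∀ x ∈ A ∪ B, (∃ g : G, (∀ z ∉ A ∪ B, g • z = z) ∧ g • x = c) ∧ ∃ g : G, (∀ z ∉ A ∪ B, g • z = z) ∧ g • c = x := by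
    rintro x (hx | hx)
    · exact ⟨(h x hx c hc).imp fun _ h => ⟨fun z e => h.1 z fun a => e (.inl a), h.2⟩,
        (h c hc x hx).imp fun _ h => ⟨fun z e => h.1 z fun a => e (.inl a), h.2⟩⟩
    · exact ⟨(h' x hx c hc').imp fun _ h => ⟨fun z e => h.1 z fun a => e (.inr a), h.2⟩,
        (h' c hc' x hx).imp fun _ h => ⟨fun z e => h.1 z fun a => e (.inr a), h.2⟩⟩
  intro x hx y hy
  obtain ⟨g, h1, h2⟩ := (k x hx).1
  obtain ⟨u, h3, h4⟩ := (k y hy).2
  exact ⟨u * g, fun z e => by rw [mul_smul, h1 z e, h3 z e], by rw [mul_smul, h2, h4]⟩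
theorem J.smul (h : J G A) (g : G) : J G (g • A) := by
  rintro _ ⟨x, hx, rfl⟩ _ ⟨y, hy, rfl⟩
  obtain ⟨u, h1, h2⟩ := h x hx y hy
  exact ⟨g * u * g⁻¹, fun z e => by rw [mul_smul, mul_smul, h1 _ (mt Set.mem_smul_set_iff_inv_smul_mem.2 e), smul_inv_smul],
    by simp [mul_smul, h2]⟩
end
open scoped Pointwise in

/-- Let G be a finite primitive permutation group on Ω of degree n and Γ ⊂ Ω a subset with 1 < #Γ ≤ n/2 such that the pointwise stabilizer of Ω ∖ Γ is transitive on Γ. Then G is 3-transitive on Ω. -/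
theorem result {G Ω : Type*} [Group G] [Finite G] [MulAction G Ω] [FaithfulSMul G Ω] [Finite Ω] (hprim : MulAction.IsPreprimitive G Ω) (Γ : Set Ω) (h1 : 1 < Γ.ncard) (h2 : 2 * Γ.ncard ≤ Nat.card Ω) (htr : ∀ x ∈ Γ, ∀ y ∈ Γ, ∃ g : G, (∀ z ∉ Γ, g • z = z) ∧ g • x = y) : MulAction.IsMultiplyPretransitive G Ω 3 := by
  classical
  have t : IsMultiplyPretransitive G Ω 2 := hprim.is_two_pretransitive (s := Γᶜ) (n := Nat.card Ω - Γ.ncard - 1)
    (by rw [Set.ncard_compl]; omega) (by omega) ⟨fun x y => by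
      obtain ⟨g, h, h'⟩ := htr x (not_not.1 x.2) y (not_not.1 y.2)
      exact ⟨⟨g, (mem_fixingSubgroup_iff G).2 h⟩, Subtype.ext h'⟩⟩
  have t2 : ∀ {a b c d : Ω}, a ≠ b → c ≠ d → ∃ g : G, g • a = c ∧ g • b = d := is_two_pretransitive_iff.1 t
  obtain ⟨L, hL, hm⟩ := Set.exists_max_image {L : Set Ω | J G L ∧ L.ncard + 2 ≤ Nat.card Ω} Set.ncard (Set.toFinite _) ⟨Γ, htr, by omega⟩
  have h3 := hm Γ ⟨htr, by omega⟩
  have un : ∀ g k : G, ¬ Disjoint (g • L) (k • L) → (g • L ∪ k • L).ncard + 2 ≤ Nat.card Ω → g • L = k • L := fun g k h h' => by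
    obtain ⟨c, c1, c2⟩ := Set.not_disjoint_iff.1 h
    have := hm _ ⟨(hL.1.smul g).union (hL.1.smul k) c1 c2, h'⟩
    exact (Set.eq_of_subset_of_ncard_le Set.subset_union_left (by rwa [Set.ncard_smul_set])).trans
      (Set.eq_of_subset_of_ncard_le Set.subset_union_right (by rwa [Set.ncard_smul_set])).symm
  have h4 : Nat.card Ω < 2 * L.ncard + 2 := by_contra fun h => by
    rcases hprim.isTrivialBlock_of_isBlock (isBlock_iff_smul_eq_or_disjoint.2 fun g => or_iff_not_imp_right.2 fun d => by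
      simpa using un g 1 (by simpa) (by
        have := Set.ncard_union_le (g • L) ((1 : G) • L)
        rw [Set.ncard_smul_set, Set.ncard_smul_set] at this
        omega)) with e | e
    · have := Set.ncard_le_one_iff_subsingleton.2 e
      omega
    · have := hL.2
      rw [e, Set.ncard_univ] at this
      omega
  have uq : ∀ g k : G, ∀ x y, x ≠ y → x ∉ g • L → y ∉ g • L → x ∉ k • L → y ∉ k • L → g • L = k • L := fun g k x y h a b c d => by
    have : (g • L ∪ k • L).ncard + 2 ≤ Nat.card Ω := by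
      have := Set.ncard_le_ncard (show g • L ∪ k • L ⊆ {x, y}ᶜ by
        rintro z hz (rfl | rfl) <;> exact hz.elim ‹_› ‹_›)
      have := Set.ncard_add_ncard_compl {x, y}
      rw [Set.ncard_pair h] at this
      omega
    refine un g k (fun e => ?_) this
    rw [Set.ncard_union_eq e, Set.ncard_smul_set, Set.ncard_smul_set] at this
    omega
  have ex : ∀ x y, x ≠ y → ∃ g : G, x ∉ g • L ∧ y ∉ g • L := fun x y h => by
    obtain ⟨a, ha, b, hb, e⟩ := (Set.one_lt_ncard (s := Lᶜ)).1 (by have := hL.2; rw [Set.ncard_compl]; omega)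
    obtain ⟨g, rfl, rfl⟩ := t2 e h
    exact ⟨g, by simpa using ha, by simpa using hb⟩
  by_cases c : L.ncard + 2 = Nat.card Ω
  · refine ⟨fun x y => ?_⟩
    have n : y 0 ≠ y 1 := y.injective.ne (by decide)
    obtain ⟨g, g0, g1⟩ := t2 (x.injective.ne (show (0 : Fin 3) ≠ 1 by decide)) n
    obtain ⟨k, k0, k1⟩ := ex _ _ n
    have e : k • L = {y 0, y 1}ᶜ := Set.eq_of_subset_of_ncard_le (by rintro z hz (rfl | rfl) <;> contradiction)
      (by rw [Set.ncard_compl, Set.ncard_pair n, Set.ncard_smul_set]; omega)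
    obtain ⟨u, u1, u2⟩ := hL.1.smul k (g • x 2) (by simp [e, ← g0, ← g1]) (y 2) (by simp [e])
    refine ⟨u * g, Function.Embedding.ext fun i => ?_⟩
    rw [Function.Embedding.smul_apply, mul_smul]
    fin_cases i
    exacts [(congrArg _ g0).trans (u1 _ k0), (congrArg _ g1).trans (u1 _ k1), u2]
  exfalso
  obtain ⟨γ, hγ, γ', hγ', n⟩ := (Set.one_lt_ncard).1 h1
  have th : ∀ (g : G) x y, ∃ w, w ∉ g • L ∧ w ≠ x ∧ w ≠ y := fun g x y => by
    obtain ⟨w, h, h'⟩ := Set.exists_mem_notMem_of_ncard_lt_ncard (show ({x, y} : Set Ω).ncard < (g • L)ᶜ.ncard by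
      have := Set.ncard_insert_le x {y}
      have := hL.2
      rw [Set.ncard_compl, Set.ncard_smul_set]
      simp at *
      omega)
    exact ⟨w, h, not_or.1 h'⟩
  have A : ∀ g : G, γ ∉ g • L → ∀ x ∉ Γ, ∀ y ∉ Γ, x ≠ y → x ∉ g • L → y ∉ g • L → ∀ z ∈ Γ, z ∉ g • L := fun g h x hx y hy e a b z hz => by
    obtain ⟨k, k1, rfl⟩ := htr γ hγ z hz
    rw [uq g (k * g) x y e a b (by rwa [mul_smul, ← k1 x hx, Set.smul_mem_smul_set_iff]) (by rwa [mul_smul, ← k1 y hy, Set.smul_mem_smul_set_iff]),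
      mul_smul, Set.smul_mem_smul_set_iff]
    exact h
  have B : ∀ g : G, γ ∉ g • L → ∀ x ∉ Γ, ∀ y ∉ Γ, x ∉ g • L → y ∉ g • L → x = y := fun g h x hx y hy a b => by_contra fun e => by
    have a1 := A g h x hx y hy e a b
    obtain ⟨z, hz⟩ : (g • L).Nonempty := Set.nonempty_of_ncard_ne_zero (by rw [Set.ncard_smul_set]; omega)
    obtain ⟨k, k1, k2⟩ := ex γ z fun e => h (e ▸ hz)
    obtain ⟨w, w1, w2, w3⟩ := th k γ z
    by_cases d : w ∈ Γ
    · exact k2 (uq g k γ w w2.symm h (a1 w d) k1 w1 ▸ hz)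
    · exact k2 (uq g k γ γ' n h (a1 _ hγ') k1 (A k k1 w d z (fun e => a1 z e hz) w3 w1 k2 _ hγ') ▸ hz)
  choose k k1 k2 using fun δ : ↥Γᶜ => ex γ δ fun e => δ.2 (e ▸ hγ)
  choose w w1 w2 w3 using fun δ : ↥Γᶜ => th (k δ) γ δ
  have := Nat.card_le_card_of_injective (fun δ : ↥Γᶜ => (⟨w δ, by_contra fun e => w3 δ (B _ (k1 δ) _ e _ δ.2 (w1 δ) (k2 δ)), w2 δ⟩ : ↥(Γ \ {γ})))
    fun x y e => by
      have e : w x = w y := congrArg Subtype.val e
      exact Subtype.ext (B _ (k1 x) _ x.2 _ y.2 (k2 x) (uq _ _ γ (w x) (w2 x).symm (k1 x) (w1 x) (k1 y) (e ▸ w1 y) ▸ k2 y))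
  rw [Nat.card_coe_set_eq, Nat.card_coe_set_eq, Set.ncard_compl, Set.ncard_diff_singleton_of_mem hγ] at this
  omega

end Cfsg.Agent.S3707
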