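import Cfsg.Statements.S3779
import Cfsg.Agent.H2.LieG
import Cfsg.Agent.H1.Frob

set_option autoImplicit false
open Cfsg

namespace Cfsg.Agent.S3779
open Subgroup CfsgH2
open scoped commutatorElement

open CfsgH1 CfsgH2.Kre

/-- Let G be a finite group with an automorphism of prime order p fixing only the identity. Then G is nilpotent; if p = 2 then G is abelian, if p = 3 then G has class at most 2, and in general the class of G is at most ξ = 1 + (p−1) + (p−1)² + ⋯ + (p−1)^(n−1) with n = 2^(p−1) − 1 (the Higman–Kreknin–Kostrikin bound). -/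
theorem result {G : Type*} [Group G] [Finite G] {p : ℕ} (hp : p.Prime) (α : MulAut G) (hα : orderOf α = p) (hfpf : ∀ g : G, α g = g → g = 1) : (p = 2 → (⊤ : Subgroup G).lowerCentralSeries 1 = ⊥) ∧ (p = 3 → (⊤ : Subgroup G).lowerCentralSeries 2 = ⊥) ∧ (⊤ : Subgroup G).lowerCentralSeries (Finset.sum (Finset.range (2 ^ (p - 1) - 1)) (fun i => (p - 1) ^ i)) = ⊥ := by
  haveI := Fact.mk hp
  have hα' : α ^ p = 1 := hα ▸ pow_orderOf_eq_one α
  have hnil : Group.IsNilpotent G := by
    refine nilpotent_of_fpf_aut (A := zpowers α) (by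
      rw [Ne, zpowers_eq_bot]; rintro rfl; exact hp.one_lt.ne (by rw [← hα, orderOf_one])) ?_
    intro a ha ha1 g hg
    have : zpowers a = zpowers α := CfsgFT.eq_zpowers_of_card_prime (by rwa [Nat.card_zpowers, hα]) ha ha1
    obtain ⟨k, hk⟩ : α ∈ zpowers a := this ▸ mem_zpowers α
    refine hfpf g ?_
    rw [← hk]
    exact MulAction.mem_stabilizer_iff.1 (zpow_mem (MulAction.mem_stabilizer_iff.2 hg : a ∈ MulAction.stabilizer (MulAut G) g) k)
  have h3 := group_bound hp α hα' hfpf hnil _ (fun M _ A h1 h2 => kostrikin hp _ A h1 h2 (kreknin h1 h2))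
  refine ⟨?_, ?_, h3⟩
  · rintro rfl; simpa using h3
  · rintro rfl
    exact group_bound hp α hα' hfpf hnil 2 (fun M _ A h1 h2 => lcs_three h1 h2)


end Cfsg.Agent.S3779
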