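import Cfsg.Statements.S2759
import Cfsg.Agent.H9.Inv
import Cfsg.Agent.H2.BG4

set_option autoImplicit false
open Cfsg

namespace Cfsg.Agent.S2759

/-- For a finite group G, the symmetric group of degree 4 is involved in G if and only if there is a 2-subgroup T of G such that the symmetric group of degree 3 is involved in N(T)/C(T). -/
theorem result {G : Type*} [Group G] [Finite G] : Cfsg.Involves (Equiv.Perm (Fin 4)) G ↔ ∃ T : Subgroup G, IsPGroup 2 ↥T ∧ Cfsg.Involves (Equiv.Perm (Fin 3)) (↥(Subgroup.normalizer (T : Set G)) ⧸ (Subgroup.centralizer (T : Set G)).subgroupOf (Subgroup.normalizer (T : Set G))) := by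
  open Subgroup CfsgH2 CfsgH9 CfsgFT in
  have := Fact.mk Nat.prime_two
  have := Fact.mk Nat.prime_three
  obtain ⟨e⟩ := dihedral_three
  refine ⟨fun h => ?_, fun ⟨T, t1, t2⟩ => sec_qd_two_iff.1 ?_⟩
  · obtain ⟨K, -, f, hf⟩ := involves_iff.1 h
    let V : Subgroup (Equiv.Perm (Fin 4)) :=
      { carrier := {g | g * g = 1 ∧ Equiv.Perm.sign g = 1}
        one_mem' := by decide
        mul_mem' := fun {a b} => by revert a b; decide +kernel
        inv_mem' := fun {a} => by revert a; decide }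
    have : V.Normal := ⟨show ∀ n : Equiv.Perm (Fin 4), n * n = 1 ∧ Equiv.Perm.sign n = 1 → ∀ g, g * n * g⁻¹ * (g * n * g⁻¹) = 1 ∧
      Equiv.Perm.sign (g * n * g⁻¹) = 1 by decide +kernel⟩
    obtain ⟨T, t1, t2, t3⟩ := exists_lift_normalizer (p := 2) hf (P := V) fun g => ⟨1, Subtype.ext ((sq _).trans g.2.1)⟩
    have hf' : Function.Surjective (f.comp (normalizer (T : Set K)).subtype) := fun g =>
      let ⟨x, x1, x2⟩ := t3 (le_normalizer_of_normal (mem_top g)); ⟨⟨x, x1⟩, x2⟩
    have o1 : orderOf (Equiv.swap (0 : Fin 4) 1) = 2 ^ 1 := orderOf_eq_prime (p := 2) (by decide) (by decide)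
    have o2 : orderOf (Equiv.swap (0 : Fin 4) 1 * Equiv.swap 1 2) = 3 ^ 1 := orderOf_eq_prime (p := 3) (by decide) (by decide)
    obtain ⟨R, y, r1, r2, y1, ⟨j, y2⟩, y3⟩ := lift_norm hf' o1 (isPGroup_zpowers_of_orderOf o2)
      (cj_eq_iff_mem_normalizer.1 (by rw [cj_zpowers, ← zpowers_inv]; congr 1; decide))
    let g : normalizer (T : Set K) →* normalizer ((T.map K.subtype : Subgroup G) : Set G) :=
      (K.subtype.comp (normalizer (T : Set K)).subtype).codRestrict _ fun x => le_normalizer_map _ (mem_map_of_mem _ x.2)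
    let π := (QuotientGroup.mk' ((centralizer ((T.map K.subtype : Subgroup G) : Set G)).subgroupOf _)).comp g
    refine ⟨T.map K.subtype, t1.map _, involves_iff.2 (((sec_dihedral_iff (p := 3) (by decide)).1.2 ⟨π y, R.map π,
      exists_orderOf_eq_pow ((isPGroup_zpowers_of_orderOf y2).map π) (mem_map_of_mem _ (mem_zpowers y)), r1.map _,
      le_normalizer_map _ (mem_map_of_mem _ y1), fun c => ?_⟩).congr e)⟩
    obtain ⟨r, r3, r4⟩ := r2.ge (mem_zpowers _)
    have c1 : π ((r * y)⁻¹ * (y * r)) = 1 := by rw [map_mul, map_inv, map_mul, map_mul, c _ (mem_map_of_mem _ r3), inv_mul_cancel]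
    obtain ⟨t, t4, t5⟩ := t2.ge (show Equiv.swap 0 1 * Equiv.swap 2 3 ∈ V from ⟨by decide, by decide⟩)
    have c2 := congrArg f (Subtype.ext ((QuotientGroup.eq_one_iff _).1 c1 _ (mem_map_of_mem _ t4)) :
      t * ((r * y)⁻¹ * (y * r) : normalizer (T : Set K)) = ((r * y)⁻¹ * (y * r) : normalizer (T : Set K)) * t)
    simp only [map_mul, map_inv, coe_mul, coe_inv, t5, show f r = _ from r4, show f y = _ from y3] at c2
    revert c2
    decide
  · obtain ⟨x, y, ⟨_, x1⟩, ⟨_, y1⟩, y2, h⟩ := (sec_dihedral_iff (p := 3) (by decide)).2.1 ((involves_iff.1 t2).congr e.symm)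
    obtain ⟨y, y1, h⟩ := exists_prime_inv y1 y2 h
    obtain ⟨x, rfl⟩ := QuotientGroup.mk'_surjective _ x
    obtain ⟨y, rfl⟩ := QuotientGroup.mk'_surjective _ y
    obtain ⟨s, -, ⟨k, s1⟩, s2⟩ := exists_p_lift _ x x1
    obtain ⟨r, -, ⟨l, r1⟩, r2⟩ := exists_p_lift _ y (y1.trans (pow_one 3).symm)
    rw [← s2, ← r2] at h
    rw [← r2] at y1
    have n := normalizer_le_normalizer_map_frattini T
    have c : ∀ z : normalizer (T : Set G), QuotientGroup.mk' ((centralizer (T : Set G)).subgroupOf _) z = 1 →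
        qm ((frattini T).map T.subtype) ⟨(z : G), n z.2⟩ ∈ centralizer (quo ((frattini T).map T.subtype) T : Set (Quo ((frattini T).map T.subtype))) := fun z hz =>
      quo_le_cent le_rfl (qm_mem_quo (x := ⟨(z : G), n z.2⟩) (show (z : G) ∈ centralizer (T : Set G) from (QuotientGroup.eq_one_iff z).1 hz))
    obtain ⟨k, s3⟩ := exists_orderOf_eq_pow (pgroup_quo (isPGroup_zpowers_of_orderOf ((orderOf_coe s).trans s1)) _)
      (qm_mem_quo (x := ⟨(s : G), n s.2⟩) (mem_zpowers _))
    refine (sec_subtype.1 (Sec.of_surjective _ (qm_surj _) (sec_qd_two_ea (ea_quo_of (le_normalizer.trans n)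
      (commutator_le_map_frattini t1) fun x hx => pow_mem_map_frattini t1 hx) s3 (quo_le_norm le_rfl (qm_mem_quo (x := ⟨(s : G), n s.2⟩) s.2))
      (quo_le_norm le_rfl (qm_mem_quo (x := ⟨(r : G), n r.2⟩) r.2)) (fun c' => ?_) (c (r * r * r) ?_)
      (c (r * (s * r * s⁻¹)) ?_)))).mono le_top
    · have z := zpowers_le.2 r.2
      have := res_le_cent_of_comm_le_frattini t1 z ((commutator_comm _ _).le.trans ((quo_le_cent_iff (z.trans n)
        (le_normalizer.trans n)).1 ((quo_zpowers ⟨(r : G), n r.2⟩).le.trans (zpowers_le.2 c'))))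
        (mem_resIn_of_coprime (mem_zpowers _) (by rw [orderOf_coe, r1]; exact Nat.Coprime.pow_left _ (by decide)))
      rw [show QuotientGroup.mk' _ r = 1 from (QuotientGroup.eq_one_iff r).2 this, orderOf_one] at y1
      omega
    · rw [map_mul, map_mul, ← pow_three', ← y1, pow_orderOf_eq_one]
    · rw [map_mul, map_mul, map_mul, map_inv, h, mul_inv_cancel]

end Cfsg.Agent.S2759
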