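import Cfsg.Statements.S3755
import Cfsg.Agent.H9.Inv
import Cfsg.Agent.FT.Rank
import Cfsg.Agent.FT.Hall
import Cfsg.Agent.H1.Generation
import Cfsg.Agent.H2.SylNum
import Cfsg.Agent.H2.Critical

set_option autoImplicit false
open Cfsg

namespace Cfsg.Agent.S3755

/-- Let M and V be subgroups of a finite group with V an elementary abelian 2-group, M normalizing V and acting faithfully on it (M ∩ C(V) = 1), and C_M(O_{2'}(M)) ≤ O_{2'}(M). If some elementary abelian 2-subgroup A of M satisfies |V : C_V(A)| < |A|², then M has a section isomorphic to the symmetric group of degree 3. -/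
theorem result {X : Type*} [Group X] [Finite X] (M V : Subgroup X) (hV : Cfsg.IsElementaryAbelian 2 V) (hMV : M ≤ Subgroup.normalizer (V : Set X)) (hfaith : M ⊓ Subgroup.centralizer (V : Set X) = ⊥) (hcon : Subgroup.centralizer (Cfsg.pPrimeCore 2 ↥M : Set ↥M) ≤ Cfsg.pPrimeCore 2 ↥M) (A : Subgroup X) (hAM : A ≤ M) (hA : Cfsg.IsElementaryAbelian 2 A) (hsmall : (V ⊓ Subgroup.centralizer (A : Set X)).relIndex V < Nat.card A ^ 2) : Cfsg.Involves (Equiv.Perm (Fin 3)) ↥M := by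
  open Subgroup CfsgH1 CfsgH2 CfsgFT CfsgH9 in
  by_contra hcon3
  haveI := Fact.mk Nat.prime_two
  haveI := Fact.mk Nat.prime_three
  set F := (pPrimeCore 2 M).map M.subtype with hF
  have FM : F ≤ M := map_subtype_le _
  have nF : M ≤ N(F) := le_norm_map_subtype _
  have F2 : (Nat.card F).Coprime 2 := coprime_card_map_pPrimeCore M
  have cF : M ⊓ C(F) ≤ F := by rw [← map_subtype_cent]; exact map_mono hcon
  have Vp := ea_isPGroup hV
  rw [inf_relIndex_left] at hsmall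
  refine hsmall.not_ge ?_
  clear hsmall
  induction A using subgroup_induction_up with
  | h A ih =>
  by_cases h0 : A = ⊥
  · rw [h0, card_bot, one_pow]; exact Nat.pos_of_ne_zero (relIndex_ne_zero _ _)
  have Ap := ea_isPGroup hA
  have cop : (Nat.card A).Coprime (Nat.card F) := (coprime_card_of_pgroup Ap F2).symm
  haveI : IsMulCommutative A := comm_iff.2 (ea_le_centralizer hA)
  obtain ⟨B, BA, ⟨a, ha, e⟩, hB⟩ : ∃ B ≤ A, (∃ a ∈ A, B ⊔ zpowers a = A) ∧ ¬ F ⊓ C(B) ≤ C(A) := by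
    by_contra h
    push Not at h
    have := le_of_cocyclic (hAM.trans nF) cop h
    exact h0 (by rw [← inf_eq_bot_of_coprime' cop, left_eq_inf]; exact (le_inf hAM (cent_symm this)).trans cF)
  have a2 : a ^ 2 = 1 := (ea_iff.1 hA).2 a ha
  have cA : C(A) = C(B) ⊓ C1(a) := by rw [← e, cent_sup, cent_zpowers]
  obtain ⟨c, hc, hc'⟩ := SetLike.not_le_iff_exists.1 hB
  have aB : a ∈ C(B) := cent_anti BA (ea_le_centralizer hA ha)
  have ai : a⁻¹ = a := inv_eq_of_mul_eq_one_left (by rw [← sq, a2])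
  have y1 : c * (a * c⁻¹ * a⁻¹) ≠ 1 := fun h => hc' (cA.ge ⟨hc.2, mem_cent1.2 (by
    calc a * c = (c * (a * c⁻¹ * a⁻¹))⁻¹ * (c * a) := by group
      _ = c * a := by rw [h]; simp)⟩)
  have y2 : c * (a * c⁻¹ * a⁻¹) ∈ F ⊓ C(B) := mul_mem hc ⟨CfsgH2.conj_mem_of_mem_normalizer (nF (hAM ha)) (inv_mem hc.1),
    C(B).mul_mem (C(B).mul_mem aB (C(B).inv_mem hc.2)) (C(B).inv_mem aB)⟩
  have y3 : a * (c * (a * c⁻¹ * a⁻¹)) * a⁻¹ = (c * (a * c⁻¹ * a⁻¹))⁻¹ := by
    calc _ = a * c * (a * a) * a⁻¹ * c⁻¹ * (a * a)⁻¹ := by group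
      _ = _ := by rw [← sq, a2]; group
  generalize c * (a * c⁻¹ * a⁻¹) = y at y1 y2 y3
  obtain ⟨r, hr, hd⟩ := exists_prime_dvd_card (H := zpowers y) (by simpa using y1)
  obtain ⟨x, hx, ho⟩ := exists_orderOf_eq_prime hr hd
  have x2 : x ∈ F ⊓ C(B) := zpowers_le.2 y2 hx
  have x3 : a * x * a⁻¹ = x⁻¹ := by
    obtain ⟨i, rfl⟩ := hx
    show a * y ^ i * a⁻¹ = (y ^ i)⁻¹
    rw [← conj_zpow, y3, inv_zpow]
  haveI := Fact.mk hr
  have r2 : r.Coprime 2 := F2.coprime_dvd_left (ho ▸ Subgroup.orderOf_dvd_natCard _ x2.1)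
  have aB' : a ∉ B := fun h => hB (by rw [← e, sup_eq_left.2 (zpowers_le.2 h)]; exact inf_le_right)
  have oa : orderOf a = 2 := orderOf_eq_prime a2 fun h => aB' (h ▸ one_mem _)
  have r3 : r ≠ 3 := by
    rintro rfl
    obtain ⟨φ⟩ := dihedral_three
    exact hcon3 (involves_iff.2 ((sec_dihedral (G := M) (p := 3) (by decide) (x := ⟨a, hAM ha⟩) (y := ⟨x, FM x2.1⟩)
      (k := 1) (by rw [orderOf_mk, oa]; rfl) (by rw [orderOf_mk, ho]) (Subtype.ext x3)).congr φ))
  have cAB := card_sup_zpowers (p := 2) (cent_le_norm _ aB) aB' (a2 ▸ one_mem _)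
  rw [e] at cAB
  have i1 := ih B (by have : 0 < Nat.card B := Nat.card_pos; omega) (BA.trans hAM) (ea_mono hA BA)
  set U := V ⊓ C(B) with hU
  have xU : zpowers x ≤ N(U) := zpowers_le.2 (le_normalizer_inf' ((inf_le_left.trans FM).trans hMV)
    (le_norm_of_le inf_le_right) x2)
  have xU' : ¬ U ≤ C(zpowers x) := fun h => by
    have := thompson_A_times_B (Ap.to_le BA) (by rw [Nat.card_zpowers, ho]; exact r2) Vp
      (cent_symm (zpowers_le.2 x2.2)) ((BA.trans hAM).trans hMV) (zpowers_le.2 (hMV (FM x2.1))) h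
    rw [mem_bot.1 (hfaith.le ⟨FM x2.1, zpowers_le.1 this⟩), orderOf_one] at ho
    exact hr.one_lt.ne ho
  have Up : IsPGroup 2 U := Vp.to_le inf_le_left
  have i2 : 4 ≤ C1(a).relIndex U := by
    by_contra h
    obtain ⟨k, hk⟩ := Up.index (C1(a).subgroupOf U)
    rw [← relIndex] at hk
    have h2 : C1(a).relIndex U ≤ 2 := by
      rw [hk] at h ⊢
      rcases k with _ | _ | k
      · simp
      · simp
      · exact absurd (Nat.pow_le_pow_right two_pos (show 2 ≤ k + 1 + 1 by omega)) h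
    have h3 : C1(x * a * x⁻¹).relIndex U = C1(a).relIndex U := by
      rw [← cj_centralizer_singleton, ← relIndex_cj x C1(a), cj_eq_of_norm (zpowers_le.1 xU)]
    have h4 := relIndex_inf_le (H := C1(a)) (K := C1(x * a * x⁻¹)) (L := U)
    have h5 : C1(a) ⊓ C1(x * a * x⁻¹) ≤ C(zpowers x) := by
      rintro u ⟨u1, u2⟩
      have k1 : x ^ 2 ∈ C1(u) := by
        have := mul_mem (mem_cent1_symm u2) (inv_mem (mem_cent1_symm u1))
        rwa [show x * a * x⁻¹ * a⁻¹ = x * (a * x * a⁻¹)⁻¹ by group, x3, inv_inv, ← sq] at this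
      rw [cent_zpowers]
      exact mem_cent1_symm (mem_of_pow_mem_of_coprime (ho ▸ r2) k1)
    have h6 := relIndex_le_of_le_left h5 (relIndex_ne_zero _ U)
    have h7 := relIndex_cent_modEq (isPGroup_zpowers_of_orderOf (k := 1) (by rw [ho, pow_one])) xU (by
      obtain ⟨l, hl⟩ := IsPGroup.iff_card.1 Up
      rw [hl]; exact hr.coprime_iff_not_dvd.1 (r2.pow_right l))
    have h8 : C(zpowers x).relIndex U ≠ 1 := fun h => xU' (relIndex_eq_one.1 h)
    have h9 := relIndex_ne_zero C(zpowers x) U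
    have h10 := Nat.le_of_dvd (by omega) ((Nat.modEq_iff_dvd' (by omega)).1 h7.symm)
    have h11 : r ≤ 3 := by rw [h3] at h4; have := Nat.mul_le_mul h2 h2; omega
    have := hr.two_le
    interval_cases r
    · exact absurd r2 (by decide)
    · exact r3 rfl
  have i3 : C(A).relIndex V = C1(a).relIndex U * C(B).relIndex V := by
    rw [cA, inf_comm, ← relIndex_inf_mul_relIndex, hU, inf_comm V]
  rw [i3, cAB]
  nlinarith [Nat.mul_le_mul i2 i1]

end Cfsg.Agent.S3755
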