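import Cfsg.Statements.S0825
import Cfsg.Agent.H5.Iso3

set_option autoImplicit false
open Cfsg

namespace Cfsg.Agent.S0825

open CfsgH5

/-- O⁺_6(2) ≅ S_8: the isometry group of the hyperbolic form x_1y_1 + x_2y_2 + x_3y_3 over the field with 2 elements is isomorphic to the symmetric group on 8 letters. -/
theorem result {F : Type*} [Field F] [Fintype F] (hF : Fintype.card F = 2) : Nonempty (↥(Cfsg.isometryGroup F (Cfsg.quadFormPlus 3 F)) ≃* Equiv.Perm (Fin 8)) := by
  obtain ⟨V, S, hS, hd, hp, ψ, hψ⟩ := exists_perm_orth hF le_rfl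
  obtain ⟨e, he⟩ := hS.exists_isom_plus (hp.2 odd_one) hd
  have : Finite (V ≃ₗ[F] V) := DFunLike.finite _
  obtain ⟨f⟩ := equiv_of_inj ψ hψ (by
    rw [hS.orth_card_plus (hp.2 odd_one) (by omega) hd, Nat.card_eq_fintype_card, hF, Nat.card_perm,
      Nat.card_fin]; decide)
  exact ⟨((oEquiv (plusForm_Q _)).trans he.isomEquiv.symm).trans f.symm⟩

end Cfsg.Agent.S0825
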