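import Cfsg.Statements.S0256
import Cfsg.Agent.H5.Iso3
import Cfsg.Agent.S0825

set_option autoImplicit false
open Cfsg

namespace Cfsg.Agent.S0256

open CfsgH5

/-- PSL_4(2) is isomorphic to A_8. -/
theorem result {F : Type*} [Field F] [Fintype F] (hF : Fintype.card F = 2) : Nonempty (Matrix.ProjectiveSpecialLinearGroup (Fin 4) F ≃* alternatingGroup (Fin 8)) := by
  obtain ⟨e⟩ := Cfsg.Agent.S0825.result hF
  obtain ⟨f⟩ := exists_omega_six_plus (F := F)
  have h := card_center_Omega_one (plusForm_Q (F := F) 3) (plusForm_nondeg 3) (by simp) (.inr (by simp))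
    (.inl (two_eq_zero_of_not_odd (by rw [hF]; decide)))
  exact ⟨f.symm.trans ((pomEquiv (plusForm_Q 3)).symm.trans ((qcBot h).trans ((commCongr e).trans
    (MulEquiv.subgroupCongr (alternatingGroup.commutator_perm_eq (by simp))))))⟩

end Cfsg.Agent.S0256
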