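import Cfsg.Statements.S0678
import Cfsg.Agent.H3.Pd1
import Cfsg.Agent.S0675

set_option autoImplicit false
open Cfsg

namespace Cfsg.Agent.S0678

open Subgroup CfsgPm MulAction
theorem dvd_two {G α : Type*} [Group G] [Finite α] [MulAction G α] [Nontrivial α] (h : IsMultiplyPretransitive G α 2) :
    Nat.card α * (Nat.card α - 1) ∣ Nat.card G := by
  obtain ⟨a, b, hab⟩ := exists_pair_ne α
  have := isPretransitive_of_is_two_pretransitive (G := G) (α := α)
  have h1 : orbit (stabilizer G a) b = {a}ᶜ := Set.ext fun x => ⟨fun ⟨g, hg⟩ e => hab (by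
      rw [← smul_left_cancel_iff g]; exact (g.2.trans e.symm).trans hg.symm), fun hx => by
    obtain ⟨g, h1, h2⟩ := is_two_pretransitive_iff.1 h hab (Ne.symm hx)
    exact ⟨⟨g, h1⟩, h2⟩⟩
  have h2 := (stabilizer (stabilizer G a) b).index_dvd_card
  rw [index_stabilizer, h1, Set.ncard_compl, Set.ncard_singleton] at h2
  rw [← (stabilizer G a).index_mul_card, index_stabilizer_of_transitive]
  exact Nat.mul_dvd_mul_left _ h2
theorem aux {α : Type*} [Fintype α] [DecidableEq α] (hα : Fintype.card α = 7) (G : Subgroup (Equiv.Perm α)) [IsPretransitive G α]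
    (hG : ¬ Group.IsSolvable G) (hA : ¬ alternatingGroup α ≤ G) : Nat.card G = 168 := by
  have : Fact (Nat.Prime 7) := ⟨by norm_num⟩
  have c : Nat.card α = 7 := by rw [Nat.card_eq_fintype_card, hα]
  have : Nontrivial α := Fintype.one_lt_card_iff_nontrivial.1 (by omega)
  have h0 := dvd_two ((S0675.result (hα ▸ Fact.out) G).resolve_left hG)
  have h5 := bochert G fun g hg h3 => hA (Equiv.Perm.alternatingGroup_le_of_isPreprimitive_of_isThreeCycle_mem
    (IsPreprimitive.of_prime_card (c ▸ Fact.out)) h3 hg)
  have h6 := Nat.mul_le_mul_left (Nat.card G) h5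
  rw [G.card_mul_index, Nat.card_perm, c, hα] at h6
  obtain ⟨P⟩ : Nonempty (Sylow 7 G) := inferInstance
  have hP := (card_sylow_of_prime c P).trans c.symm
  obtain ⟨d, h1, h2⟩ := card_norm_of_prime (c ▸ Fact.out) hP
  have h3 := card_sylow_modEq_one 7 G
  have h4 := (normalizer (P.1 : Set G)).card_mul_index
  rw [P.card_eq_index_normalizer] at h3
  have h7 : (normalizer (P.1 : Set G)).index ≠ 1 := fun e => by
    have := normalizer_eq_top_iff.1 (index_eq_one.1 e)
    exact hG (solv_of_normal_prime (c ▸ Fact.out) hP)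
  have h8 : Nat.card G ≠ 210 := fun e => by
    have := IsZGroup.of_squarefree (G := G) (by rw [e]; decide +kernel)
    exact hG inferInstance
  rw [h2, c] at h4
  rw [c] at h1 h0
  have := Nat.le_of_dvd (by norm_num) h1
  unfold Nat.ModEq at h3
  change (normalizer (P.1 : Set G)).index % 7 = _ at h3
  norm_num [Nat.factorial] at h6
  have := Nat.card_pos (α := G)
  interval_cases d <;> omega

/-- A non-solvable transitive permutation group on 7 points that does not contain the alternating group is a simple group of order 168. -/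
theorem result {α : Type*} [Fintype α] [DecidableEq α] (hα : Fintype.card α = 7) (G : Subgroup (Equiv.Perm α)) [MulAction.IsPretransitive G α] (hG : ¬ Group.IsSolvable G) (hA : ¬ alternatingGroup α ≤ G) : Nat.card G = 168 ∧ IsSimpleGroup G := by
  have h := aux hα G hG hA
  have c : Nat.card α = 7 := by rw [Nat.card_eq_fintype_card, hα]
  have hp : (Nat.card α).Prime := by rw [c]; norm_num
  refine ⟨h, @IsSimpleGroup.mk _ _ (Finite.one_lt_card_iff_nontrivial.1 (by omega)) fun N hN => or_iff_not_imp_left.2 fun e => ?_⟩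
  have := IsPreprimitive.of_prime_card (G := G) hp
  have t : IsPretransitive N α := IsQuasiPreprimitive.isPretransitive_of_normal fun e' => e (eq_bot_iff.2 fun x hx =>
    eq_of_smul_eq_smul (α := α) fun a => (e'.ge (Set.mem_univ a) ⟨x, hx⟩).trans (one_smul _ a).symm)
  have : IsPretransitive (N.map G.subtype) α := ⟨fun x y => by
    obtain ⟨g, hg⟩ := t.1 x y
    exact ⟨⟨_, g.1, g.2, rfl⟩, hg⟩⟩
  have := aux hα (N.map G.subtype) (fun s => by
    have := CfsgH1.isSolvable_of_equiv (equivMapOfInjective N _ G.subtype_injective).symm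
    obtain ⟨A, _, h⟩ := normal_of_solv hp N e
    exact hG (solv_of_normal_prime hp h)) fun h => hA (h.trans (map_subtype_le _))
  exact eq_top_of_card_eq _ (by rw [← card_map_of_injective G.subtype_injective, this, h])

end Cfsg.Agent.S0678
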