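import Cfsg.Statements.S0713
import Mathlib
import Cfsg.Agent.H8.Perm2

set_option autoImplicit false
open Cfsg

namespace Cfsg.Agent.S0713

/-- Jordan's Theorem: a primitive permutation group of degree `n ≥ 5` containing a `p`-cycle for a prime `p ≤ n - 3` contains the alternating group. -/
theorem result {α : Type*} [Fintype α] [DecidableEq α] (G : Subgroup (Equiv.Perm α)) (hG : MulAction.IsPreprimitive G α) {p : ℕ} (hp : p.Prime) (hn : 5 ≤ Fintype.card α) (hpn : p + 3 ≤ Fintype.card α) {g : Equiv.Perm α} (hgc : g.IsCycle) (hgp : g.support.card = p) (hg : g ∈ G) : alternatingGroup α ≤ G := by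
  haveI := Fact.mk hp
  set Γ := g.supportᶜ with hΓ
  have hΓc : Γ.card + p = Fintype.card α := by rw [hΓ, add_comm, ← hgp, Finset.card_add_card_compl]
  have hord : orderOf g = p := by rw [hgc.orderOf, hgp]
  have hmt : MulAction.IsMultiplyPretransitive G α Γ.card := by
    have hs : (Γ : Set α) = (g.support : Set α)ᶜ := by simp [hΓ]
    haveI := Equiv.Perm.isPretransitive_of_isCycle_mem hgc hg
    rw [← hs] at this
    have h1 := CfsgH8.card_offFixing (G := G) Γ
    haveI := (hG.isMultiplyPreprimitive (s := Γ) (n := Γ.card - 1) (by simp; omega)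
      (by rw [Nat.card_eq_fintype_card]; have := hp.two_le; omega)
      (MulAction.IsPreprimitive.of_prime_card (by convert hp; omega))).isMultiplyPretransitive
    exact MulAction.isMultiplyPretransitive_of_le (n := Γ.card - 1 + 2) (by omega)
      (by rw [Nat.card_eq_fintype_card]; have := hp.two_le; omega)
  let H := fixingSubgroup G (Γ : Set α)
  have hfix : ∀ (j : ℤ), ∀ x ∈ Γ, (g ^ j) x = x := fun j x hx =>
    Equiv.Perm.zpow_apply_eq_self_of_apply_eq_self
      (Equiv.Perm.notMem_support.1 (Finset.mem_compl.1 hx)) j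
  have hgH : (⟨g, hg⟩ : G) ∈ H := fun x => by simpa using hfix 1 x x.2
  obtain ⟨d, hd, hcyc⟩ := hgc
  have hdΓ : ∀ x, x ∉ Γ → ∃ j : ℤ, (g ^ j) d = x := fun x hx => hcyc (by simpa [hΓ] using hx)
  obtain ⟨P, hP⟩ := (show IsPGroup p (Subgroup.zpowers (⟨_, hgH⟩ : H)) from IsPGroup.of_card (n := 1) (by
    rw [Nat.card_zpowers, ← Subgroup.orderOf_coe, ← Subgroup.orderOf_coe, pow_one]
    exact hord)).exists_le_sylow
  have hS : ∀ Q : Sylow p H, (⟨_, hgH⟩ : H) ∈ Q → ∀ y ∈ Q, ∃ j : ℤ, ((y : G) : Equiv.Perm α) = g ^ j := by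
    intro Q hQ y hy
    obtain ⟨j, hj⟩ := hdΓ (((y : G) : Equiv.Perm α) d) fun h => by
      have h1 : ((y : G) : Equiv.Perm α) (((y : G) : Equiv.Perm α) d) = ((y : G) : Equiv.Perm α) d :=
        y.2 ⟨_, h⟩
      rw [Equiv.apply_eq_iff_eq] at h1
      rw [h1] at h
      simp [hΓ, hd] at h
    refine ⟨j, ?_⟩
    obtain ⟨e, he⟩ := Q.2 ⟨(⟨_, hgH⟩ : H) ^ (-j) * y, mul_mem (zpow_mem hQ _) hy⟩
    have he' : (g ^ (-j) * ((y : G) : Equiv.Perm α)) ^ p ^ e = 1 := by
      simpa [Subtype.ext_iff] using he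
    set z := g ^ (-j) * ((y : G) : Equiv.Perm α) with hz
    have hz1 : z = 1 := by
      by_contra h
      obtain ⟨n, hn⟩ := Multiset.exists_mem_of_ne_zero (mt Equiv.Perm.cycleType_eq_zero.1 h)
      have h1 := Equiv.Perm.le_card_support_of_mem_cycleType hn
      have h2 := Equiv.Perm.two_le_of_mem_cycleType hn
      obtain ⟨i, -, rfl⟩ := (Nat.dvd_prime_pow hp).1
        ((Equiv.Perm.dvd_of_mem_cycleType hn).trans (orderOf_dvd_of_pow_eq_one he'))
      have h3 : p ≤ p ^ i := Nat.le_self_pow (by rintro rfl; simp at h2) p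
      have h4 : z.support ⊆ g.support.erase d := fun x hx => by
        rw [Equiv.Perm.mem_support] at hx
        refine Finset.mem_erase.2 ⟨?_, not_not.1 fun h => hx ?_⟩
        · rintro rfl
          exact hx (by rw [hz, Equiv.Perm.mul_apply, ← hj, ← Equiv.Perm.mul_apply]; simp)
        · rw [hz, Equiv.Perm.mul_apply, show ((y : G) : Equiv.Perm α) x = x from
            y.2 ⟨x, Finset.mem_compl.2 h⟩, hfix _ x (Finset.mem_compl.2 h)]
      have := Finset.card_le_card h4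
      rw [Finset.card_erase_of_mem (Equiv.Perm.mem_support.2 hd)] at this
      have := hp.pos
      omega
    rw [hz, zpow_neg, inv_mul_eq_one] at hz1
    exact hz1.symm
  have key : ∀ a ∈ Γ, ∀ b ∈ Γ, ∃ u ∈ G, (∀ x ∈ Γ, u x = Equiv.swap a b x) ∧
      ∃ j : ℤ, u * g * u⁻¹ = g ^ j := by
    intro a ha b hb
    obtain ⟨x, hx⟩ := CfsgH8.mt_fun hmt Γ rfl (Equiv.swap a b) (Equiv.swap a b).injective.injOn
    have hsw : ∀ y ∈ Γ, Equiv.swap a b y ∈ Γ := fun y hy => by
      rw [Equiv.swap_apply_def]; split_ifs; exacts [hb, ha, hy]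
    have hxi : ∀ y ∈ Γ, x⁻¹ • y = Equiv.swap a b y := fun y hy => by
      rw [inv_smul_eq_iff, hx _ (hsw y hy), Equiv.swap_apply_self]
    have hx' : x * ⟨g, hg⟩ * x⁻¹ ∈ H := fun y => by
      change (x * ⟨g, hg⟩ * x⁻¹) • (y : α) = y
      rw [mul_smul, mul_smul, hxi y y.2, show (⟨g, hg⟩ : G) • _ = _ from hgH ⟨_, hsw y y.2⟩,
        hx _ (hsw y y.2), Equiv.swap_apply_self]
    obtain ⟨Q, hQ⟩ := (show IsPGroup p (Subgroup.zpowers (⟨_, hx'⟩ : H)) from IsPGroup.of_card (n := 1) (by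
      rw [Nat.card_zpowers, ← Subgroup.orderOf_coe, pow_one]
      exact ((MulAut.conj x).orderOf_eq _).trans ((Subgroup.orderOf_coe _).symm.trans hord))).exists_le_sylow
    obtain ⟨h, rfl⟩ := MulAction.exists_smul_eq H Q P
    obtain ⟨j, hj⟩ := hS (h • Q) (hP (Subgroup.mem_zpowers _)) (MulAut.conj h • ⟨_, hx'⟩)
      (Subgroup.smul_mem_pointwise_smul _ (MulAut.conj h) Q.1 (hQ (Subgroup.mem_zpowers _)))
    refine ⟨(h : G) * x, ((h : G) * x).2, fun y hy => ?_, j, by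
      rw [← hj]
      change _ = ((h : G) : Equiv.Perm α) * ((x : Equiv.Perm α) * g * (x : Equiv.Perm α)⁻¹) *
        ((h : G) : Equiv.Perm α)⁻¹
      group⟩
    change (h : G) • x • y = _
    rw [hx y hy]
    exact h.2 ⟨_, hsw y hy⟩
  obtain ⟨a, ha, b, hb, c, hc, hab, hac, hbc⟩ := Finset.two_lt_card.1 (show 2 < Γ.card by omega)
  obtain ⟨u, hu, hu1, i, hi⟩ := key a ha b hb
  obtain ⟨v, hv, hv1, j, hj⟩ := key a ha c hc
  have hw : Commute ((v * u)⁻¹ * (u * v)) g := by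
    have h1 : u * v * g * (u * v)⁻¹ = v * u * g * (v * u)⁻¹ := by
      calc u * v * g * (u * v)⁻¹ = u * (v * g * v⁻¹) * u⁻¹ := by group
        _ = g ^ (i * j) := by rw [hj, ← conj_zpow, hi, ← zpow_mul]
        _ = v * (u * g * u⁻¹) * v⁻¹ := by rw [hi, ← conj_zpow, hj, ← zpow_mul, mul_comm]
        _ = _ := by group
    change _ = _
    calc (v * u)⁻¹ * (u * v) * g = (v * u)⁻¹ * (u * v * g * (u * v)⁻¹) * (u * v) := by group
      _ = _ := by rw [h1]; group
  have hsw : ∀ a ∈ Γ, ∀ b ∈ Γ, ∀ y ∈ Γ, Equiv.swap a b y ∈ Γ := fun a ha b hb y hy => by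
    rw [Equiv.swap_apply_def]; split_ifs; exacts [hb, ha, hy]
  have hwΓ : ∀ x ∈ Γ, ((v * u)⁻¹ * (u * v)) x = (Equiv.swap a c * Equiv.swap a b) x := fun x hx => by
    rw [Equiv.Perm.mul_apply, Equiv.Perm.inv_eq_iff_eq]
    simp only [Equiv.Perm.mul_apply]
    rw [hv1 x hx, hu1 _ (hsw a ha c hc x hx), hu1 _ (hsw a ha c hc _ (hsw a ha b hb x hx)),
      hv1 _ (hsw a ha b hb _ (hsw a ha c hc _ (hsw a ha b hb x hx)))]
    by_cases h1 : x = a
    · subst h1; simp [Equiv.swap_apply_of_ne_of_ne, *, hab.symm, hac.symm, hbc.symm]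
    by_cases h2 : x = b
    · subst h2; simp [Equiv.swap_apply_of_ne_of_ne, *, hab.symm, hac.symm, hbc.symm]
    by_cases h3 : x = c
    · subst h3; simp [Equiv.swap_apply_of_ne_of_ne, *, hab.symm, hac.symm, hbc.symm]
    simp [Equiv.swap_apply_of_ne_of_ne, h1, h2, h3]
  have hwG : (v * u)⁻¹ * (u * v) ∈ G := mul_mem (inv_mem (mul_mem hv hu)) (mul_mem hu hv)
  generalize (v * u)⁻¹ * (u * v) = w at hw hwΓ hwG
  obtain ⟨l, hl⟩ := hdΓ (w d) fun h => by
    have h1 : g (w d) = w d := by simpa using hfix 1 _ h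
    rw [← Equiv.Perm.mul_apply, ← hw.eq, Equiv.Perm.mul_apply, w.apply_eq_iff_eq] at h1
    exact hd h1
  have : g ^ (-l) * w = Equiv.swap a c * Equiv.swap a b := Equiv.ext fun x => by
    by_cases hx : x ∈ Γ
    · rw [Equiv.Perm.mul_apply, hwΓ x hx]
      exact hfix _ _ (hsw a ha c hc _ (hsw a ha b hb x hx))
    · rw [Equiv.Perm.mul_apply (Equiv.swap a c), Equiv.swap_apply_of_ne_of_ne (x := x)
        (by rintro rfl; exact hx ha) (by rintro rfl; exact hx hb), Equiv.swap_apply_of_ne_of_ne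
        (by rintro rfl; exact hx ha) (by rintro rfl; exact hx hc)]
      obtain ⟨m, rfl⟩ := hdΓ x hx
      rw [Equiv.Perm.mul_apply, ← Equiv.Perm.mul_apply w, (hw.zpow_right m).eq, Equiv.Perm.mul_apply,
        ← hl, ← Equiv.Perm.mul_apply, ← Equiv.Perm.mul_apply]
      congr 1
      group
  exact Equiv.Perm.alternatingGroup_le_of_isPreprimitive_of_isThreeCycle_mem hG
    (Equiv.Perm.isThreeCycle_swap_mul_swap_same hac hab hbc.symm) (this ▸ mul_mem (zpow_mem hg _) hwG)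

end Cfsg.Agent.S0713
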