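import Cfsg.Statements.S0200
import Cfsg.Agent.H2.Invol
import Cfsg.Agent.H2.BaerSuzuki
import Cfsg.Agent.H1.Cores

set_option autoImplicit false
open Cfsg

namespace Cfsg.Agent.S0200
open Subgroup CfsgH2
open scoped commutatorElement

/-- An involution lying in no normal 2-subgroup of a finite group inverts a nontrivial element of odd order (a consequence of the Baer–Suzuki Theorem). -/
theorem result {G : Type*} [Group G] [Finite G] (t : G) (ht : orderOf t = 2) (hO : ∀ N : Subgroup G, N.Normal → IsPGroup 2 N → t ∉ N) : ∃ h : G, h ≠ 1 ∧ Odd (orderOf h) ∧ t * h * t⁻¹ = h⁻¹ := by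
  have ht2 := mul_self_of_orderOf_two ht
  by_contra hc
  push Not at hc
  refine hO (Cfsg.pCore 2 G) inferInstance (CfsgH1.isPGroup_pCore 2 G) (baer_suzuki fun g => ?_)
  obtain ⟨a, b, ha, hb, ⟨k, hk⟩, hb2, e⟩ := exists_p_part (p := 2) (t * (g * t * g⁻¹))
  have hb1 : b = 1 := by
    by_contra h1
    refine hc b h1 (coprime_two_iff_odd.1 hb2) ?_
    obtain ⟨i, rfl⟩ := hb
    simp only
    rw [conj_zpow_of_inv (invol_inverts ht2 (conj_mul_self ht2 g)), zpow_neg]
  rw [hb1, mul_one] at e
  exact isPGroup_closure_invol ht2 (conj_mul_self ht2 g) (e ▸ hk)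


end Cfsg.Agent.S0200
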