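import Cfsg.Statements.S0416
import Cfsg.Agent.H3.Sh1

set_option autoImplicit false
open Cfsg

namespace Cfsg.Agent.S0416

open CfsgPm MulAction
theorem aux {G Ω : Type*} [Group G] [MulAction G Ω] [Finite Ω] (h5 : 5 ≤ Nat.card Ω) (h : IsMultiplyPretransitive G Ω 5)
    (hs : ∀ x : Fin 5 ↪ Ω, stabilizer G x = ⊥) : Nat.card Ω = 5 ∨ Nat.card Ω = 6 ∨ Nat.card Ω = 7 ∨ Nat.card Ω = 12 := by
  obtain ⟨a⟩ : Nonempty Ω := (Nat.card_pos_iff.1 (by omega)).1
  have : IsPretransitive G Ω := is_one_pretransitive_iff.1 (isMultiplyPretransitive_of_le (n := 5) (by omega) h5)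
  have c := SubMulAction.nat_card_ofStabilizer_add_one_eq G a
  have := Fintype.ofFinite (SubMulAction.ofStabilizer G a)
  have := (sharp4 (SubMulAction.ofStabilizer.isMultiplyPretransitive.1 h) (sharp_stab hs a)
    (Function.Embedding.nonempty_of_card_le (by rw [← Nat.card_eq_fintype_card (α := SubMulAction.ofStabilizer G a), Fintype.card_fin]; omega))).2
  omega

/-- Degrees of sharply 5-transitive permutation groups are 5, 6, 7, 12. -/
theorem result {α : Type*} [Fintype α] [DecidableEq α] (G : Subgroup (Equiv.Perm α)) (h5 : 5 ≤ Fintype.card α) [MulAction.IsMultiplyPretransitive G α 5] (hsharp : ∀ x : Fin 5 ↪ α, MulAction.stabilizer G x = ⊥) : Fintype.card α = 5 ∨ Fintype.card α = 6 ∨ Fintype.card α = 7 ∨ Fintype.card α = 12 := by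
  simpa using aux (by simpa) ‹_› hsharp

end Cfsg.Agent.S0416
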