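import Cfsg.Statements.S0711
import Mathlib
import Cfsg.Agent.H8.Perm2

set_option autoImplicit false
open Cfsg

namespace Cfsg.Agent.S0711

open Equiv Equiv.Perm in
theorem exists_T {α : Type*} [Fintype α] [DecidableEq α] (g : Perm α) (a₀ : α) (j : ℕ)
    (hj : j ≤ g.support.card) : ∃ T ⊆ g.support, T.card = j ∧ ∃ a, ∀ y ∈ T, y ≠ a → g y ∈ T := by
  induction j with
  | zero => exact ⟨∅, by simp, rfl, a₀, by simp⟩
  | succ j ih =>
    obtain ⟨T, h1, h2, a, h3⟩ := ih (by omega)
    by_cases h : a ∈ T ∧ g a ∉ T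
    · refine ⟨insert (g a) T, Finset.insert_subset (apply_mem_support.2 (h1 h.1)) h1,
        by rw [Finset.card_insert_of_notMem h.2, h2], g a, fun y hy hya => ?_⟩
      have hy' := (Finset.mem_insert.1 hy).resolve_left hya
      by_cases h4 : y = a
      · simp [h4]
      · simp [h3 y hy' h4]
    · obtain ⟨z, hz, hzT⟩ := Finset.exists_mem_notMem_of_card_lt_card (show T.card < g.support.card by omega)
      refine ⟨insert z T, Finset.insert_subset hz h1, by rw [Finset.card_insert_of_notMem hzT, h2], z,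
        fun y hy hya => Finset.mem_insert_of_mem ?_⟩
      have hy' := (Finset.mem_insert.1 hy).resolve_left hya
      by_cases h4 : y = a
      · subst h4; exact not_not.1 fun h5 => h ⟨hy', h5⟩
      · exact h3 y hy' h4

open Equiv Equiv.Perm in
theorem supp_bound {α : Type*} [Fintype α] [DecidableEq α] (g x : Perm α) (T I A : Finset α)
    (hx : ∀ y ∈ T, x y = y) (hI : ∀ y ∈ I, y ∈ g.support ∧ x⁻¹ y ∈ g.support)
    (hA : ∀ y ∈ A, y ∈ g.support ∧ y ∈ T ∧ g y ∈ T) :
    ((x * g * x⁻¹)⁻¹ * g).support.card + I.card + A.card ≤ 2 * g.support.card := by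
  have h1 : ((x * g * x⁻¹)⁻¹ * g).support ⊆ (g.support ∪ (x * g * x⁻¹).support) \ A := by
    intro y hy
    refine Finset.mem_sdiff.2 ⟨?_, fun h => mem_support.1 hy ?_⟩
    · have := support_mul_le _ _ hy
      rw [support_inv, sup_comm] at this
      exact this
    · obtain ⟨-, h2, h3⟩ := hA y h
      rw [mul_apply, inv_eq_iff_eq, mul_apply, mul_apply, inv_eq_iff_eq.2 (hx y h2).symm, hx _ h3]
  have h2 := Finset.card_le_card h1
  have h3 : A ⊆ g.support ∪ (x * g * x⁻¹).support := fun y hy => Finset.mem_union_left _ (hA y hy).1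
  rw [Finset.card_sdiff_of_subset h3] at h2
  have h4 := Finset.card_union_add_card_inter g.support (x * g * x⁻¹).support
  have h5 : I ⊆ g.support ∩ (x * g * x⁻¹).support := fun y hy => Finset.mem_inter.2 ⟨(hI y hy).1, by
    have := (hI y hy).2
    rw [mem_support] at this ⊢
    rwa [mul_apply, mul_apply, Ne, ← eq_inv_iff_eq]⟩
  have h6 := Finset.card_le_card h5
  have h7 := Finset.card_le_card h3
  rw [card_support_conj] at h4
  omega

/-- A `k`-transitive permutation group (`k ≥ 3`) with a non-identity element of support smaller than `2k - 2` contains a non-identity element of support at most 3, and therefore contains the alternating group. -/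
theorem result {α : Type*} [Fintype α] [DecidableEq α] (G : Subgroup (Equiv.Perm α)) {k : ℕ} (hk : 3 ≤ k) (hkn : k ≤ Fintype.card α) (hG : MulAction.IsMultiplyPretransitive G α k) (g : Equiv.Perm α) (hg : g ∈ G) (hg1 : g ≠ 1) (hsupp : g.support.card < 2 * k - 2) : (∃ h : Equiv.Perm α, h ∈ G ∧ h ≠ 1 ∧ h.support.card ≤ 3) ∧ alternatingGroup α ≤ G := by
  have main : ∀ m, ∀ g ∈ G, g ≠ 1 → g.support.card = m → m < 2 * k - 2 →
      ∃ h : Equiv.Perm α, h ∈ G ∧ h ≠ 1 ∧ h.support.card ≤ 3 := by
    intro m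
    induction m using Nat.strong_induction_on with
    | _ m ih =>
    intro g hg hg1 hm hlt
    by_cases h3 : m ≤ 3
    · exact ⟨g, hg, hg1, hm ▸ h3⟩
    suffices ∃ h ∈ G, h ≠ 1 ∧ h.support.card < m by
      obtain ⟨h, h1, h2, h4⟩ := this
      exact ih _ h4 h h1 h2 rfl (by omega)
    have hkn' : k ≤ Nat.card α := by rwa [Nat.card_eq_fintype_card]
    obtain ⟨a₀, ha₀⟩ : g.support.Nonempty := Finset.card_pos.1 (by omega)
    by_cases hu : g.support = Finset.univ
    · obtain ⟨b, hb, hb'⟩ := Finset.exists_mem_notMem_of_card_lt_card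
        (show ({a₀} : Finset α).card < g.support.card by simp; omega)
      obtain ⟨c, hc, hc'⟩ := Finset.exists_mem_notMem_of_card_lt_card
        (show ({a₀, b} : Finset α).card < g.support.card from Finset.card_le_two.trans_lt (by omega))
      simp only [Finset.mem_insert, Finset.mem_singleton, not_or] at hb' hc'
      obtain ⟨x, h1, h2⟩ := CfsgH8.trOff_of_mt' hG hkn' {a₀} (by simp; omega) b (by simpa) c
        (by simpa using hc'.1)
      refine ⟨x, x.2, fun h => hc'.2 (by rw [← h2]; change (x : Equiv.Perm α) b = b; simp [h]), ?_⟩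
      rw [← hm, hu]
      exact Finset.card_lt_card ⟨Finset.subset_univ _, fun h => Equiv.Perm.mem_support.1
        (h (Finset.mem_univ a₀)) (h1 a₀ (by simp))⟩
    obtain ⟨c, hc⟩ : ∃ c, c ∉ g.support := by
      by_contra h
      push Not at h
      exact hu (Finset.eq_univ_of_forall h)
    have hne : ∀ (x : Equiv.Perm α) b, b ∈ g.support → x b = c → (x * g * x⁻¹)⁻¹ * g ≠ 1 := by
      intro x b hb hx h
      rw [inv_mul_eq_one] at h
      have := congrArg (· c) h
      simp only [Equiv.Perm.mul_apply, Equiv.Perm.notMem_support.1 hc] at this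
      rw [← hx] at this
      simp [Equiv.Perm.mem_support.1 hb] at this
    have hmem : ∀ x : G, ((x : Equiv.Perm α) * g * (x : Equiv.Perm α)⁻¹)⁻¹ * g ∈ G := fun x =>
      mul_mem (inv_mem (mul_mem (mul_mem x.2 hg) (inv_mem x.2))) hg
    have hfix : ∀ (x : Equiv.Perm α) (T : Finset α), T ⊆ g.support → (∀ y ∈ T, x y = y) →
        ∀ y ∈ T, y ∈ g.support ∧ x⁻¹ y ∈ g.support := fun x T h1 h2 y hy =>
      ⟨h1 hy, by rw [Equiv.Perm.inv_eq_iff_eq.2 (h2 y hy).symm]; exact h1 hy⟩
    obtain ⟨T, h1, h2, a, h4⟩ := exists_T g a₀ (min (m - 1) (k - 1)) (by omega)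
    have hA : ∀ y ∈ T.erase a, y ∈ g.support ∧ y ∈ T ∧ g y ∈ T := fun y hy => by
      rw [Finset.mem_erase] at hy
      exact ⟨h1 hy.2, hy.2, h4 y hy.2 hy.1⟩
    have hA' := Finset.pred_card_le_card_erase (s := T) (a := a)
    by_cases hex : (a ∈ T ∧ g a ∉ T) ∧ k < m
    · obtain ⟨d, hd, hd'⟩ := Finset.exists_mem_notMem_of_card_lt_card
        (show (insert (g a) T).card < g.support.card from (Finset.card_insert_le _ _).trans_lt (by omega))
      simp only [Finset.mem_insert, not_or] at hd'
      obtain ⟨x, h5, h6⟩ := CfsgH8.trOff_of_mt' hG hkn' T (by omega) _ hex.1.2 d hd'.2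
      have := supp_bound g x T (insert d T) _ h5 (fun y hy => by
        rcases Finset.mem_insert.1 hy with rfl | hy
        · exact ⟨hd, Equiv.Perm.inv_eq_iff_eq.2 h6.symm ▸ Equiv.Perm.apply_mem_support.2 (h1 hex.1.1)⟩
        · exact hfix x T h1 h5 y hy) hA
      rw [Finset.card_insert_of_notMem hd'.2] at this
      refine ⟨_, hmem x, fun h => hd'.1 ?_, by omega⟩
      rw [inv_mul_eq_one] at h
      have h7 := congrArg (· a) h
      simp only [Equiv.Perm.mul_apply] at h7
      rw [Equiv.Perm.inv_eq_iff_eq.2 (h5 a hex.1.1).symm] at h7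
      exact h6.symm.trans h7
    · obtain ⟨b, hb, hb'⟩ := Finset.exists_mem_notMem_of_card_lt_card
        (show T.card < g.support.card by omega)
      obtain ⟨x, h5, h6⟩ := CfsgH8.trOff_of_mt' hG hkn' T (by omega) b hb' c fun h => hc (h1 h)
      refine ⟨_, hmem x, hne x b hb h6, ?_⟩
      by_cases hk' : k < m
      · have := supp_bound g x T T T h5 (hfix x T h1 h5) fun y hy => ⟨h1 hy, hy, by
          by_cases h7 : y = a
          · subst h7; exact not_not.1 fun h => hex ⟨⟨hy, h⟩, hk'⟩
          · exact h4 y hy h7⟩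
        omega
      · have := supp_bound g x T T _ h5 (hfix x T h1 h5) hA
        omega
  obtain ⟨h, h1, h2, h3⟩ := main _ g hg hg1 rfl hsupp
  refine ⟨⟨h, h1, h2, h3⟩, ?_⟩
  have hp := MulAction.isPreprimitive_of_is_two_pretransitive
    (MulAction.isMultiplyPretransitive_of_le (G := G) (α := α) (n := k) (by omega)
      (by rwa [Nat.card_eq_fintype_card]))
  have := Equiv.Perm.two_le_card_support_of_ne_one h2
  by_cases h4 : h.support.card = 2
  · rw [Equiv.Perm.subgroup_eq_top_of_isPreprimitive_of_isSwap_mem hp h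
      (Equiv.Perm.card_support_eq_two.1 h4) h1]
    exact le_top
  · exact Equiv.Perm.alternatingGroup_le_of_isPreprimitive_of_isThreeCycle_mem hp
      (card_support_eq_three_iff.1 (by omega)) h1

end Cfsg.Agent.S0711
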