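import Cfsg.Statements.S4436
import Cfsg.Agent.H4.Cover2

set_option autoImplicit false
open Cfsg

namespace Cfsg.Agent.S4436

open CfsgH4 CfsgH3 CfsgH2 MonoidAlgebra

/-- Let N be a normal subgroup of the finite group G, b a block of N (relative to a maximal ideal M of the algebraic integers containing p), T the stabilizer of b in G, N ≤ T, and B′ a block of T covering b (some member of B′ has a constituent in b on restriction to N) that induces the block B of G. Then every defect group of B′ is a defect group of B, and for every ψ ∈ B′ the induced character ψ^G is an irreducible character of G lying in B with the same height as ψ. -/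
theorem result {G : Type*} [Group G] [Fintype G] (p : ℕ) [Fact p.Prime] (M : Ideal Cfsg.AlgInt) (hM : Cfsg.IsPModular p M) (N : Subgroup G) [hN : N.Normal] [Fintype N] (b : Set (Cfsg.IrrCharacter N)) (hb : Cfsg.IsPBlock M b) (T : Subgroup G) [Fintype T] (hT : ∀ g : G, g ∈ T ↔ ∀ θ ∈ b, ∀ θ' : Cfsg.IrrCharacter N, (∀ n : N, (θ' : N → ℂ) n = (θ : N → ℂ) ⟨g * n * g⁻¹, hN.conj_mem n n.2 g⟩) → θ' ∈ b) (hNT : N ≤ T) (B' : Set (Cfsg.IrrCharacter T)) (hB' : Cfsg.IsPBlock M B') (hcov : (∃ ψ ∈ B', ∃ θ ∈ b, Cfsg.classInner (fun n : N => (ψ : T → ℂ) ⟨(n : G), hNT n.2⟩) (θ : N → ℂ) ≠ 0)) (B : Set (Cfsg.IrrCharacter G)) (hind : Cfsg.IsInducedBlock M T B' B) : (∀ D : Subgroup T, Cfsg.IsDefectGroup p M B' D → Cfsg.IsDefectGroup p M B (D.map T.subtype)) ∧ ∀ ψ ∈ B', ∃ χ ∈ B, (χ : G → ℂ) = Cfsg.indFun T (ψ : T → ℂ) ∧ Cfsg.blockHeight p B (χ : G → ℂ) = Cfsg.blockHeight p B' (ψ : T → ℂ) := by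
  have := hM.2.1
  have := charP_of_isPModular hM
  have hT' : T = ⊤ ⊓ stabA (bIdS M N b) := by
    ext g; rw [hT, top_inf_eq, mem_stabA_iff_normal hb]
  have h := (cover_iff_S hNT hB' hb).1 hcov
  have hB := hind.2.1
  refine ⟨fun D hD => (isDefectGroup_iff hB).2 (frB_isDef hb hT' hB' h hind
    ((isDefectGroup_iff_S hB').1 hD)), fun ψ hψ => ?_⟩
  obtain ⟨χ, h1, -⟩ := frB_exists hb hT' hB' h hψ
  have h2 := (frB_mem_iff hb hT' hB' h hind χ).2 ⟨ψ, hψ, h1⟩
  refine ⟨χ, h2, h1, ?_⟩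
  obtain ⟨D, hD⟩ := (isPrim_bIdS hB').exists_isDef p le_rfl Subgroup.le_normalizer
  have h3 := (card_isDef_S hB' hD).symm.trans (card_isDef hB (frB_isDef hb hT' hB' h hind hD))
  have h4 := Nat.pow_right_injective (Fact.out : p.Prime).two_le h3
  have h5 := minNu_add_blockDefect (p := p) ⟨χ, h2⟩
  have h6 := minNu_add_blockDefect (p := p) ⟨ψ, hψ⟩
  have h7 := factorization_card_add_index (p := p) T
  have h8 := nu_eq_add_height (p := p) h2
  have h9 := nu_eq_add_height (p := p) hψ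
  have h10 : nu p χ.1 = T.index.factorization p + nu p ψ.1 := by
    have : charDegree χ.1 = T.index * charDegree ψ.1 := charDegree_eq (by
      rw [h1, indFun_one, Nat.cast_mul, coe_charDegree ψ.2.isChar])
    rw [nu, this, Nat.factorization_mul Subgroup.index_ne_zero_of_finite (charDegree_pos ψ.2).ne']
    rfl
  omega

end Cfsg.Agent.S4436
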