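import Cfsg.Statements.S4492
import Cfsg.Agent.H4.Cover2

set_option autoImplicit false
open Cfsg

namespace Cfsg.Agent.S4492

open CfsgH4 CfsgH3 CfsgH2 MonoidAlgebra

/-- Let G be a finite p-solvable group, N = O_{p'}(G) its largest normal subgroup of order prime to p, and θ an irreducible character of N invariant under conjugation by G; fix a maximal ideal M of the algebraic integers containing p. Then the irreducible characters of G lying over θ (those whose restriction to N contains θ) form a single p-block of G, and the defect groups of that block are exactly the Sylow p-subgroups of G. -/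
theorem result {G : Type*} [Group G] [Fintype G] (p : ℕ) [Fact p.Prime] (M : Ideal Cfsg.AlgInt) (hM : Cfsg.IsPModular p M) (hsolv : Cfsg.IsPSolvable p G) (N : Subgroup G) [hN : N.Normal] [Fintype N] (hNdef : N = Cfsg.pPrimeCore p G) (θ : Cfsg.IrrCharacter N) (hinv : ∀ (g : G) (n : N), (θ : N → ℂ) ⟨g * n * g⁻¹, hN.conj_mem n n.2 g⟩ = (θ : N → ℂ) n) : ∃ B : Set (Cfsg.IrrCharacter G), Cfsg.IsPBlock M B ∧ (∀ χ : Cfsg.IrrCharacter G, χ ∈ B ↔ Cfsg.classInner (fun n : N => (χ : G → ℂ) n) (θ : N → ℂ) ≠ 0) ∧ (∀ P : Sylow p G, Cfsg.IsDefectGroup p M B (P : Subgroup G)) ∧ ∀ D : Subgroup G, Cfsg.IsDefectGroup p M B D → ∃ P : Sylow p G, D = (P : Subgroup G) := by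
  have := hM.2.1
  have := charP_of_isPModular hM
  subst hNdef
  have hK := CfsgH1.not_dvd_card_pPrimeCore p G
  have hθ := isPBlock_singleton (M := M) hK θ
  have hfT : bIdS M _ {θ} ∈ Fix (Res M) ⊤ := fun g _ => (mem_stabA_iff_normal hθ).2 <| by
    rintro _ rfl ξ' h
    exact Subtype.ext (funext fun n => (h n).trans (hinv g n))
  obtain ⟨Q, hQ⟩ := IsSylowIn.exists_sylowIn p (pPrimePCore p G)
  obtain ⟨k, hk⟩ := CfsgH1.exists_relIndex_pPrimePCore (p := p) (G := G)
  obtain ⟨h1, h2⟩ := isPrim_of_constrained CfsgH1.pPrimeCore_le_pPrimePCore le_top le_normalizer_top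
    le_normalizer_top hK (fun x hx h => mem_of_pregular_of_relIndex le_normalizer_of_normal' hk hx h) hQ
    (fun x _ _ h => CfsgH1.IsPSolvable.centralizer_le_pPrimePCore hsolv
      (CfsgH1.sylowIn_sup_pPrimeCore hQ).ge h) (isPrim_bIdS hθ) hfT
  obtain ⟨B, hB, h3⟩ := exists_block_of_isPrim h1
  refine ⟨B, hB, fun χ => ?_, fun P => ?_, fun D hD => ?_⟩
  · rw [over_iff, ← eSet_eq_of_bId_eq (eSet_mem_SG hB) (eSet_mem_SG hθ) h3, eChi_mul_eSet_ne_zero_iff]
  · rw [isDefectGroup_iff hB, h3, h2]; exact IsSylowIn.of_sylow_top P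
  · rw [isDefectGroup_iff hB, h3, h2] at hD
    obtain ⟨P, hP⟩ := hD.of_top
    exact ⟨P, hP.symm⟩

end Cfsg.Agent.S4492
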