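import Cfsg.Statements.S0985
import Cfsg.Agent.H1.PG3

set_option autoImplicit false
open Cfsg

namespace Cfsg.Agent.S0985

/-- If the number of Sylow p-subgroups of a finite group is not congruent to 1 modulo p^k, then there are two distinct Sylow p-subgroups P and R such that the index of P ∩ R in P is at most p^(k-1). -/
theorem result {G : Type*} [Group G] [Finite G] (p k : ℕ) [Fact p.Prime] (h : ¬ Nat.card (Sylow p G) ≡ 1 [MOD p ^ k]) : ∃ P R : Sylow p G, P ≠ R ∧ ((R : Subgroup G).subgroupOf (P : Subgroup G)).index ≤ p ^ (k - 1) := by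
  open Subgroup CfsgH1 CfsgFT CfsgH2 MulAction in
  by_contra! h0
  obtain ⟨P⟩ : Nonempty (Sylow p G) := inferInstance
  have h1 : Nat.card {R // R ≠ P} + 1 = Nat.card (Sylow p G) := by
    classical rw [← Finite.card_option]; exact Nat.card_congr (Equiv.optionSubtypeNe P)
  refine h (h1 ▸ ((Nat.modEq_zero_iff_dvd.2 (dvd_card_of_fiber (fun R : {R // R ≠ P} => orbit (P : Subgroup G) R.1)
    fun R => ?_)).add_right 1).trans (by rw [zero_add]))
  have h2 : Nat.card {x : {R // R ≠ P} // orbit (P : Subgroup G) x.1 = orbit (P : Subgroup G) R.1} =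
      (stabilizer (P : Subgroup G) R.1).index := by
    rw [index_stabilizer, ← Nat.card_coe_set_eq]
    refine Nat.card_congr ⟨fun x => ⟨x.1.1, orbit_eq_iff.1 x.2⟩, fun y => ⟨⟨y.1, fun e => R.2 ?_⟩, orbit_eq_iff.2 y.2⟩,
      fun _ => rfl, fun _ => rfl⟩
    obtain ⟨g, hg⟩ := y.2
    have : g⁻¹ • P = P := Sylow.smul_eq_iff_mem_normalizer.2 (le_normalizer g⁻¹.2)
    exact (eq_inv_smul_iff.2 (hg.trans e)).trans this
  have h3 := h0 P R.1 R.2.symm
  rw [h2, stab_sylow P.isPGroup']
  obtain ⟨j, hj⟩ := P.isPGroup'.index ((R.1 : Subgroup G).subgroupOf P)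
  rw [hj] at h3 ⊢
  exact pow_dvd_pow p (by have := (Nat.pow_lt_pow_iff_right (Fact.out : p.Prime).one_lt).1 h3; omega)

end Cfsg.Agent.S0985
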