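import Cfsg.Statements.S0953
import Cfsg.Agent.H4.Rob2

set_option autoImplicit false
open Cfsg

namespace Cfsg.Agent.S0953

open CfsgH4 CfsgH3 CfsgH2 MonoidAlgebra

/-- Let P be a Sylow p-subgroup of the finite group G with normalizer N, and fix a maximal ideal M of the algebraic integers containing p. The number of blocks of G having P as a defect group equals the number of conjugacy classes of N consisting of elements of order prime to p that centralize P. -/
theorem result {G : Type*} [Group G] [Finite G] (p : ℕ) [Fact p.Prime] (M : Ideal Cfsg.AlgInt) (hM : Cfsg.IsPModular p M) (P : Sylow p G) : Nat.card {B : Set (Cfsg.IrrCharacter G) // Cfsg.IsPBlock M B ∧ Cfsg.IsDefectGroup p M B (P : Subgroup G)} = Nat.card {C : ConjClasses (Subgroup.normalizer ((P : Subgroup G) : Set G)) // ∀ n : Subgroup.normalizer ((P : Subgroup G) : Set G), ConjClasses.mk n = C → ¬ p ∣ orderOf n ∧ (n : G) ∈ Subgroup.centralizer ((P : Subgroup G) : Set G)} := by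
  classical
  have := hM.2.1
  have := charP_of_isPModular hM
  set N := Subgroup.normalizer ((P : Subgroup G) : Set G) with hN
  set ι := {C : ConjClasses N // ∀ n : N, ConjClasses.mk n = C → ¬ p ∣ orderOf n ∧
    (n : G) ∈ Subgroup.centralizer ((P : Subgroup G) : Set G)} with hι
  have := Fintype.ofFinite ι
  choose r hr using fun i : ι => ConjClasses.mk_surjective i.1
  have hP := IsSylowIn.of_sylow_top P
  have h1 : ∀ i, ¬ p ∣ orderOf (r i : G) := fun i => by simpa using (i.2 _ (hr i)).1
  have h2 : ∀ i, (r i : G) ∈ Subgroup.centralizer ((P : Subgroup G) : Set G) :=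
    fun i => (i.2 _ (hr i)).2
  have hinj : ∀ i j, IsConj (r i : G) (r j) → i = j := by
    intro i j h
    obtain ⟨n, hn, h3⟩ := cjIn_normalizer_of_sylow (N := ⊤) (hP.mono (le_inf le_top
      (le_centralizer_singleton_iff.2 (h2 i))) le_top) (le_centralizer_singleton_iff.2 (h2 j))
      (cjIn_top.2 h)
    refine Subtype.ext ?_
    rw [← hr, ← hr, ConjClasses.mk_eq_mk_iff_isConj, isConj_iff]
    exact ⟨⟨n, hn.2⟩, Subtype.ext h3⟩
  refine le_antisymm (card_blocks_le (M := M) _ (fun B h => h.1) (fun i => (r i : G)) hinj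
    fun B B' x hB hB' h3 h4 => ?_) ?_
  · obtain ⟨n, -, h5⟩ := mem_of_lam_cs_ne_zero (isPrim_bId hB.1) P.isPGroup' le_top
      ((isDefectGroup_iff hB.1).1 hB.2).ne_zero (Subgroup.mem_top x) h4
    have h6 : ¬ p ∣ orderOf (n * x * n⁻¹) := by
      rw [orderOf_conj']; exact not_dvd_of_coeff_bId hB'.1 h3
    let y : N := ⟨_, Subgroup.centralizer_le_normalizer _ h5⟩
    let i : ι := ⟨ConjClasses.mk y, fun m hm => by
      obtain ⟨c, rfl⟩ := isConj_iff.1 (ConjClasses.mk_eq_mk_iff_isConj.1 hm.symm)
      refine ⟨by rw [orderOf_conj']; simpa [y] using h6, ?_⟩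
      exact conj_mem_of_mem_normalizer (normalizer_le_normalizer_centralizer _ c.2) h5⟩
    refine ⟨i, ?_⟩
    have h7 : IsConj (r i) y := ConjClasses.mk_eq_mk_iff_isConj.1 (hr i)
    exact (N.subtype.map_isConj h7).trans (isConj_conj n (IsConj.refl x)).symm
  · have hx : ∀ i, (Nat.card (Subgroup.centralizer ({(r i : G)} : Set G))).factorization p =
        (Nat.card G).factorization p := fun i =>
      not_dvd_index_iff.1 (not_dvd_index_of_mem P (h2 i))
    obtain ⟨f, h3, h4, -⟩ := exists_blocks_of_det (M := M) P (fun i => (r i : G)) hx (by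
      have : (Matrix.of fun i j => red M ((pc (P : Subgroup G) (r i : G) (r j) : ℂ) /
          (p : ℂ) ^ ((Nat.card G).factorization p - (Nat.card G).factorization p))) =
          Matrix.diagonal fun i =>
            (((Subgroup.centralizer ({(r i : G)} : Set G)).index : ℕ) : Res M) := by
        ext i j
        rw [Matrix.of_apply, Nat.sub_self, pow_zero, div_one, red_natCast,
          (CharP.natCast_eq_natCast (Res M) p).2 (pc_modEq_sylow P (h1 i) (h1 j)),
          Matrix.diagonal_apply]
        by_cases h : i = j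
        · subst h; rw [if_pos (IsConj.refl _), if_pos rfl]
        · rw [if_neg h, if_neg fun h' => h (hinj _ _ h')]; simp
      rw [this, Matrix.det_diagonal]
      exact Finset.prod_ne_zero_iff.2 fun i _ => by
        rw [Ne, CharP.cast_eq_zero_iff (Res M) p]; exact not_dvd_index_of_mem P (h2 i))
    refine Nat.card_le_card_of_injective (fun i => ⟨f i, (h4 i).1, ?_⟩) fun i j h =>
      h3 (congrArg Subtype.val h)
    rw [isDefectGroup_iff (h4 i).1, isDef_iff_sylow_of_minNu (h4 i).1
      ((minNu_eq_zero_iff (block_nonempty (h4 i).1)).2 (h4 i).2)]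
    exact hP

end Cfsg.Agent.S0953
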