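import Cfsg.Statements.S0955
import Cfsg.Agent.H4.Kernel

set_option autoImplicit false
open Cfsg

namespace Cfsg.Agent.S0955

open CfsgH4 CfsgH3 CfsgH2 MonoidAlgebra

/-- Let D be a defect group of a block of the finite group G relative to a maximal ideal M of the algebraic integers containing the prime p. Then D is the largest normal p-subgroup of its own normalizer: O_p(N_G(D)) = D. -/
theorem result {G : Type*} [Group G] [Finite G] (p : ℕ) [Fact p.Prime] (M : Ideal Cfsg.AlgInt) (hM : Cfsg.IsPModular p M) (B : Set (Cfsg.IrrCharacter G)) (hB : Cfsg.IsPBlock M B) (D : Subgroup G) (hD : Cfsg.IsDefectGroup p M B D) : (Cfsg.pCore p (Subgroup.normalizer (D : Set G))).map (Subgroup.normalizer (D : Set G)).subtype = D := by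
  have := hM.2.1
  have := charP_of_isPModular hM
  have hE := isPrim_bId hB
  have hE' := (isDefectGroup_iff hB).1 hD
  have h1 := hE.isPrim_Br' hE'
  have h2 := hE'.isDef_Br
  rw [top_inf_eq] at h1 h2
  refine le_antisymm (h2.le_of_normal (Subgroup.map_subtype_le _)
    (CfsgH1.normalizer_le_normalizer_map_of_characteristic _ |>.trans' Subgroup.le_normalizer)
    (CfsgH1.isPGroup_map_pCore _) h1.mem h1.idem) ?_
  exact CfsgH1.le_map_pCore Subgroup.le_normalizer le_rfl hE'.pgroup

end Cfsg.Agent.S0955
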