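import Cfsg.Statements.S0305
import Cfsg.Agent.H1.PSL2a
import Cfsg.Agent.H5.OrthMat

set_option autoImplicit false
open Cfsg

namespace Cfsg.Agent.S0305

/-- GO^+_2(q) is dihedral of order 2(q-1). -/
theorem result {F : Type*} [Field F] [Fintype F] {q : ℕ} (hF : Fintype.card F = q) : Nonempty (Cfsg.isometryGroup F (Cfsg.quadFormPlus 1 F) ≃* DihedralGroup (q - 1)) := by
  open CfsgH1.L2 CfsgH5 CfsgH2 Matrix in
  subst hF
  let d : Fˣ →* Matrix (Fin 1 ⊕ Fin 1) (Fin 1 ⊕ Fin 1) F :=
    { toFun := fun c => diagonal (Sum.elim (fun _ => c) fun _ => (c⁻¹ : Fˣ))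
      map_one' := by ext i j; rcases i with i | i <;> simp [diagonal, one_apply]
      map_mul' := fun a b => by
        rw [diagonal_mul_diagonal]; congr 1; ext i; rcases i with i | i <;> simp [mul_comm] }
  let B : Matrix (Fin 1 ⊕ Fin 1) (Fin 1 ⊕ Fin 1) F := fromBlocks 0 1 1 0
  have hB : B * B = 1 := by simp [B, fromBlocks_multiply]
  obtain ⟨z, hz⟩ := IsCyclic.exists_generator (α := Fˣ)
  have ho : orderOf (d.toHomUnits z) = Fintype.card F - 1 := by
    rw [orderOf_injective d.toHomUnits fun a b h => Units.ext (by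
      simpa [d] using congrArg (fun g => g.val (Sum.inl 0) (Sum.inl 0)) h), orderOf_eq_card_of_forall_mem_zpowers hz,
      Nat.card_units, Nat.card_eq_fintype_card]
  refine Idx2.dihedral (idx2_of (a := d.toHomUnits z) (b := ⟨B, B, hB, hB⟩) (fun u _ => ?_) (fun u _ => ?_) ?_ ?_ ?_
    (Units.ext (by simpa using hB))) ho
  · simp [d, quadFormPlus, mulVec_diagonal]; field_simp
  · simp [B, quadFormPlus, mulVec, dotProduct, mul_comm]
  · rintro ⟨k, hk⟩
    have := congrArg (fun g => g.val (Sum.inl 0) (Sum.inr 0)) ((map_zpow d.toHomUnits z k).trans hk)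
    generalize z ^ k = y at this
    simp [d, B] at this
  · rw [card_isometryGroup (plusForm_Q 1), (plusForm_nondeg 1).orth_card_plus (plusForm_isPlus 1) le_rfl (finrank_sp 1), ho]
    simp
  · rw [_root_.zpow_neg_one, ← map_inv, mul_inv_eq_iff_eq_mul]
    refine Units.ext (?_ : B * d z = d z⁻¹ * B)
    generalize hw : z⁻¹ = w
    obtain rfl : z = w⁻¹ := by rw [← hw, inv_inv]
    ext i j
    rcases i with i | i <;> rcases j with j | j <;> simp [d, B, mul_apply, diagonal, Subsingleton.elim i 0, Subsingleton.elim j 0]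

end Cfsg.Agent.S0305
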