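import Cfsg.Statements.S2315
import Cfsg.Agent.H5.Tw1

set_option autoImplicit false
open Cfsg

namespace Cfsg.Agent.S2315

open CfsgH5 Matrix

/-- Steinberg's count of unipotent elements for the general linear group: over a finite field with q elements of characteristic p, the number of elements of GL_n of p-power order (the unipotent matrices) is q^(n(n−1)). -/
theorem result {F : Type*} [Field F] [Fintype F] (p : ℕ) [Fact p.Prime] [CharP F p] (n : ℕ) :
    Nat.card {g : Matrix.GeneralLinearGroup (Fin n) F // ∃ k : ℕ, orderOf g = p ^ k} = Fintype.card F ^ (n * (n - 1)) := by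
  rw [← card_nilpotent]
  rcases n with _ | n
  · simpa using Nat.card_eq_one_iff_exists.2 ⟨⟨1, 0, by simp⟩, fun _ => Subsingleton.elim _ _⟩
  have h : ∀ (g : GL (Fin (n + 1)) F) k, (g.1 - 1) ^ p ^ k = 0 ↔ g ^ p ^ k = 1 := fun g k => by
    rw [sub_pow_char_pow_of_commute _ _ (Commute.one_right _), one_pow, sub_eq_zero, ← Units.val_eq_one,
      Units.val_pow_eq_pow_val]
  have h1 : ∀ g : GL (Fin (n + 1)) F, (∃ k, orderOf g = p ^ k) ↔ IsNilpotent (g.1 - 1) := fun g => by
    rw [exists_orderOf_eq_prime_pow_iff]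
    exact ⟨fun ⟨k, hk⟩ => ⟨_, (h g k).2 hk⟩, fun ⟨k, hk⟩ => ⟨k, (h g k).1
      (pow_eq_zero_of_le (Nat.lt_pow_self (Fact.out : p.Prime).one_lt).le hk)⟩⟩
  refine Nat.card_congr (Equiv.ofBijective (fun g => ⟨toLinAlgEquiv' (g.1.1 - 1), ((h1 _).1 g.2).map _⟩)
    ⟨fun a b e => Subtype.ext (Units.ext (by simpa using e)), fun N => ?_⟩)
  have h2 := N.2.map (toLinAlgEquiv' (R := F)).symm
  exact ⟨⟨h2.isUnit_add_one.unit, (h1 _).2 (by simpa using h2)⟩, Subtype.ext (by simp)⟩

end Cfsg.Agent.S2315
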