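import Cfsg.Statements.S0261
import Cfsg.Agent.H1.PSL2c

set_option autoImplicit false
open Cfsg

namespace Cfsg.Agent.S0261

/-- For q odd, the Sylow 2-subgroups of SL_2(q) are generalised quaternion. -/
theorem result {F : Type*} [Field F] [Fintype F] (hF : Odd (Fintype.card F)) (P : Sylow 2 (Matrix.SpecialLinearGroup (Fin 2) F)) : ∃ k : ℕ, 1 ≤ k ∧ Nonempty ((P : Subgroup (Matrix.SpecialLinearGroup (Fin 2) F)) ≃* QuaternionGroup (2 ^ k)) := by
  open Subgroup CfsgH1 CfsgH3 CfsgH1.L2 CfsgH2 in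
  classical
  obtain ⟨i, j, h, h1, h2, -⟩ := sylow2_struct hF (.of_sylow_top P)
  rcases cyclic_or_quat' P.2 (uniqInv_S h.h2 _) with k | ⟨r, k⟩
  · exact (h.not_mem (mem_centralizer_singleton_iff.2 (congrArg Subtype.val
      (k.isMulCommutative.is_comm.comm (⟨j, h2⟩ : P.1) ⟨i, h1⟩)))).elim
  · exact ⟨r + 1, by omega, k⟩

end Cfsg.Agent.S0261
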