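import Cfsg.Statements.S0246
import Cfsg.Agent.H5.SpMat

set_option autoImplicit false
open Cfsg

namespace Cfsg.Agent.S0246

/-- The centre of Sp_{2m}(q), m at least 1, is {1, -1}: it has order gcd(2, q-1). -/
theorem result {F : Type*} [Field F] [Fintype F] {q : ℕ} (hF : Fintype.card F = q) (m : ℕ) (hm : 1 ≤ m) : Nat.card (Subgroup.center (Matrix.symplecticGroup (Fin m) F)) = Nat.gcd 2 (q - 1) := by
  rw [← hF, ← CfsgH5.card_pow_eq_one_field two_ne_zero]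
  have hmem : ∀ c : F, c ^ 2 = 1 → c • (1 : Matrix (Fin m ⊕ Fin m) (Fin m ⊕ Fin m) F) ∈
      Matrix.symplecticGroup (Fin m) F := by
    intro c hc
    rw [SymplecticGroup.mem_iff]
    simp [smul_smul, ← pow_two, hc]
  symm
  refine Nat.card_congr (Equiv.ofBijective (fun c => ⟨⟨_, hmem c.1 c.2⟩,
    (CfsgH5.mem_center_sp hm).2 ⟨c.1, rfl⟩⟩) ⟨fun a b h => ?_, fun g => ?_⟩)
  · have := congr_fun (congr_fun (congr_arg (fun x => x.1.1) h) (.inl ⟨0, hm⟩)) (.inl ⟨0, hm⟩)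
    exact Subtype.ext (by simpa using this)
  · obtain ⟨c, hc⟩ := (CfsgH5.mem_center_sp hm).1 g.2
    have h1 := SymplecticGroup.mem_iff.1 g.1.2
    rw [hc] at h1
    have := congr_fun (congr_fun h1 (.inr ⟨0, hm⟩)) (.inl ⟨0, hm⟩)
    simp [Matrix.J, smul_smul] at this
    exact ⟨⟨c, by rw [pow_two, this]⟩, Subtype.ext (Subtype.ext hc.symm)⟩

end Cfsg.Agent.S0246
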