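import Cfsg.Statements.S2600
import Mathlib
import Cfsg.Agent.H8.OutB2

set_option autoImplicit false
open Cfsg

namespace Cfsg.Agent.S2600

/-- Outer automorphism group of PSp_4(q) for q = 2^f even: it is cyclic of order 2f, generated by the class of the exceptional (graph-field) automorphism whose square is the Frobenius field automorphism. -/
theorem result {F : Type*} [Field F] [Fintype F] {f : ℕ} (hf : 1 ≤ f) (hF : Fintype.card F = 2 ^ f) : IsCyclic (Cfsg.Out (Cfsg.PSp 2 F)) ∧ Nat.card (Cfsg.Out (Cfsg.PSp 2 F)) = 2 * f := by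
  have h2 := CfsgH8.two_eq_of_card hF
  have : CharP F 2 := CharTwo.of_one_ne_zero_of_two_eq_zero one_ne_zero h2
  obtain ⟨e1⟩ := CfsgH8.equiv_C2 F
  obtain ⟨e2⟩ := CfsgH8.out_equiv_of_equiv e1
  have := CfsgH8.isCyclic_out_B2 F
  refine ⟨isCyclic_of_surjective e2 e2.surjective, (Nat.card_congr e2.toEquiv).symm.trans ?_⟩
  rw [CfsgH6.Chev.admB2.card_out, CfsgH6.Chev.kerB2, CfsgH6.Chev.rangeB2 2, CfsgH6.card_ringAut hF,
    Nat.card_eq_fintype_card, hF, pow_one, if_pos rfl]
  have : Nat.gcd 2 (2 ^ f - 1) = 1 := by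
    obtain ⟨k, rfl⟩ := Nat.exists_eq_add_of_le' hf
    have := Nat.one_le_two_pow (n := k)
    exact (Nat.coprime_two_left.2 (Nat.odd_iff.2 (by rw [pow_succ]; omega)))
  rw [this, one_mul]

end Cfsg.Agent.S2600
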