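import Cfsg.Statements.S4476
import Cfsg.Agent.H4.Ord4

set_option autoImplicit false
open Cfsg

namespace Cfsg.Agent.S4476

open CfsgH4 CfsgH3

/-- Let G be a finite group of even order g with exactly t involutions, and put α = (g − 1)/t (a rational number). Then (a) some non-identity element x of G has at most α² conjugates; and (b) some non-principal real-valued irreducible character of G has degree at most α. -/
theorem result {G : Type*} [Group G] [Fintype G] (heven : Even (Nat.card G)) (t : ℕ) (ht : Nat.card {x : G // orderOf x = 2} = t) : (∃ x : G, x ≠ 1 ∧ ((Subgroup.centralizer ({x} : Set G)).index : ℚ) ≤ (((Nat.card G : ℚ) - 1) / t) ^ 2) ∧ ∃ χ : Cfsg.IrrCharacter G, (χ : G → ℂ) ≠ (fun _ => 1) ∧ (∀ g : G, ((χ : G → ℂ) g).im = 0) ∧ (Cfsg.charDegree (χ : G → ℂ) : ℚ) ≤ ((Nat.card G : ℚ) - 1) / t := by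
  classical
  have ht0 : 0 < t := by
    have := Fact.mk Nat.prime_two
    obtain ⟨x, hx⟩ := exists_prime_orderOf_dvd_card' 2 heven.two_dvd
    have : Nonempty {x : G // orderOf x = 2} := ⟨⟨x, hx⟩⟩
    exact ht ▸ Nat.card_pos
  obtain ⟨a, ha, hb⟩ := fs_int (G := G)
  let o : IrrCharacter G := ⟨fun _ => 1, isIrr_one⟩
  have ho : charDegree o.1 = 1 := charDegree_eq (by simp [o])
  let S := (Finset.univ.erase o).filter fun χ : IrrCharacter G => (fun g => (starRingEnd ℂ) (χ.1 g)) = χ.1
  have e1 : (t : ℤ) + 1 = ∑ χ, a χ * charDegree χ.1 := by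
    apply Int.cast_injective (α := ℂ)
    push_cast
    rw [← ht, ← Nat.cast_succ, Nat.succ_eq_add_one, ← card_sqrt_one, card_sqrt_eq]
    exact Finset.sum_congr rfl fun χ _ => by rw [ha, χ.2.isChar.conj_one, coe_charDegree χ.2.isChar]
  have e2 : (t : ℚ) ≤ ∑ χ ∈ S, (charDegree χ.1 : ℚ) := by
    have h1 : a o = 1 := by exact_mod_cast (ha o).symm.trans fs_one
    rw [← Finset.add_sum_erase _ _ (Finset.mem_univ o), h1, ho] at e1
    have : ∑ χ ∈ Finset.univ.erase o, a χ * charDegree χ.1 ≤ ∑ χ ∈ S, (charDegree χ.1 : ℤ) := by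
      rw [Finset.sum_filter]
      refine Finset.sum_le_sum fun χ _ => ?_
      rcases hb χ with ⟨x, y⟩ | ⟨x, y | y⟩
      · simp [y, x]
      · simp [y, x]
      · simp [y, x]
    have : (t : ℤ) ≤ ∑ χ ∈ S, (charDegree χ.1 : ℤ) := by push_cast at e1; omega
    exact_mod_cast this
  have e3 : ∑ χ ∈ S, (charDegree χ.1 : ℚ) ^ 2 ≤ Nat.card G - 1 := by
    rw [← sum_charDegree_sq, ← Finset.add_sum_erase _ _ (Finset.mem_univ o), ho]
    push_cast
    rw [add_sub_cancel_left]
    exact Finset.sum_le_sum_of_subset_of_nonneg (Finset.filter_subset _ _) fun _ _ _ => sq_nonneg _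
  have t0 : (0 : ℚ) < t := by exact_mod_cast ht0
  have g1 : (1 : ℚ) < Nat.card G := by
    have := Nat.card_pos (α := G)
    obtain ⟨k, hk⟩ := heven
    exact_mod_cast (by omega : 1 < Nat.card G)
  constructor
  · by_contra! h
    have e4 : (S.card : ℚ) + 1 ≤ Nat.card (ConjClasses G) := by
      rw [← card_irr_eq_card_conjClasses, Nat.card_eq_fintype_card, ← Finset.card_univ,
        ← Finset.card_erase_add_one (Finset.mem_univ o)]
      exact_mod_cast Nat.succ_le_succ (Finset.card_filter_le _ _)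
    have e5 := sum_card_centralizer (G := G)
    rw [← Finset.add_sum_erase _ _ (Finset.mem_univ 1), (Subgroup.centralizer_eq_top_iff_subset.2
      (by simp)), Subgroup.card_top] at e5
    have e6 : ((Nat.card G - 1 : ℚ) / t) ^ 2 * ∑ x ∈ Finset.univ.erase (1 : G),
        (Nat.card (Subgroup.centralizer ({x} : Set G)) : ℚ) < (Nat.card G - 1) * Nat.card G := by
      have : (Nat.card G - 1 : ℚ) * Nat.card G = ∑ x ∈ Finset.univ.erase (1 : G), (Nat.card G : ℚ) := by
        rw [Finset.sum_const, Finset.card_erase_of_mem (Finset.mem_univ _), Finset.card_univ,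
          ← Nat.card_eq_fintype_card, nsmul_eq_mul, Nat.cast_sub Nat.card_pos, Nat.cast_one]
      rw [this, Finset.mul_sum]
      refine Finset.sum_lt_sum_of_nonempty ?_ fun x hx => ?_
      · rw [← Finset.card_pos, Finset.card_erase_of_mem (Finset.mem_univ _), Finset.card_univ,
          ← Nat.card_eq_fintype_card]
        have : 1 < Nat.card G := by exact_mod_cast g1
        omega
      · refine (mul_lt_mul_of_pos_right (h x (Finset.mem_erase.1 hx).1)
          (by exact_mod_cast Nat.card_pos)).trans_eq ?_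
        exact_mod_cast (Subgroup.centralizer ({x} : Set G)).index_mul_card
    have e7 := congrArg (Nat.cast : ℕ → ℚ) e5
    push_cast at e7
    have e8 := sq_sum_le_card_mul_sum_sq (s := S) (f := fun χ => (charDegree χ.1 : ℚ))
    have e9 : (t : ℚ) ^ 2 ≤ (Nat.card (ConjClasses G) - 1) * (Nat.card G - 1) :=
      calc _ ≤ _ := pow_le_pow_left₀ t0.le e2 2
        _ ≤ _ := e8
        _ ≤ _ := mul_le_mul (by linarith) e3 (Finset.sum_nonneg fun _ _ => sq_nonneg _)
          (by have : (0 : ℚ) ≤ S.card := Nat.cast_nonneg _; linarith)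
    rw [eq_sub_of_add_eq' e7, div_pow, div_mul_eq_mul_div, div_lt_iff₀ (by positivity)] at e6
    have : (Nat.card G - 1 : ℚ) * Nat.card G * t ^ 2 ≤
        (Nat.card G - 1) * Nat.card G * ((Nat.card (ConjClasses G) - 1) * (Nat.card G - 1)) :=
      mul_le_mul_of_nonneg_left e9 (by nlinarith)
    nlinarith
  · by_contra! h
    have hS : S.Nonempty := by
      rw [Finset.nonempty_iff_ne_empty]; intro e; rw [e] at e2; simp at e2; omega
    have : ∑ χ ∈ S, (Nat.card G - 1 : ℚ) / t * charDegree χ.1 < ∑ χ ∈ S, (charDegree χ.1 : ℚ) ^ 2 := by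
      refine Finset.sum_lt_sum_of_nonempty hS fun χ hχ => ?_
      obtain ⟨x, y⟩ := Finset.mem_filter.1 hχ
      rw [sq]
      exact mul_lt_mul_of_pos_right (h χ (fun e => (Finset.mem_erase.1 x).1 (Subtype.ext e))
        (conj_eq_iff_im.1 y)) (by exact_mod_cast charDegree_pos χ.2)
    rw [← Finset.mul_sum] at this
    have h2 := mul_le_mul_of_nonneg_left e2 (div_nonneg (sub_pos.2 g1).le t0.le)
    rw [div_mul_cancel₀ _ t0.ne'] at h2
    linarith

end Cfsg.Agent.S4476
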