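import Cfsg.Statements.S4717
import Cfsg.Agent.H4.Pairs3

set_option autoImplicit false
open Cfsg

namespace Cfsg.Agent.S4717

open CfsgH4 CfsgH3 CfsgH2 MonoidAlgebra

/-- Let p be a prime, M a maximal ideal of the algebraic integers containing p, and r a natural number; say that a finite group X has deficiency class r when X has no non-principal p-block of defect ≥ r. If G has deficiency class r then so does the centralizer of every p-element of G; conversely, if r > 0 and the centralizer of every element of order p has deficiency class r, then G has deficiency class r. -/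
theorem result {G : Type*} [Group G] [Finite G] (p : ℕ) [Fact p.Prime] (M : Ideal Cfsg.AlgInt) (hM : Cfsg.IsPModular p M) (r : ℕ) : ((∀ B' : Set (Cfsg.IrrCharacter G), Cfsg.IsPBlock M B' → B' ≠ Cfsg.principalBlock M G → Cfsg.blockDefect p B' < r) → ∀ y : G, (∃ k : ℕ, orderOf y = p ^ k) → (∀ B' : Set (Cfsg.IrrCharacter ↥(Subgroup.centralizer ({y} : Set G))), Cfsg.IsPBlock M B' → B' ≠ Cfsg.principalBlock M ↥(Subgroup.centralizer ({y} : Set G)) → Cfsg.blockDefect p B' < r)) ∧ (0 < r → (∀ y : G, orderOf y = p → (∀ B' : Set (Cfsg.IrrCharacter ↥(Subgroup.centralizer ({y} : Set G))), Cfsg.IsPBlock M B' → B' ≠ Cfsg.principalBlock M ↥(Subgroup.centralizer ({y} : Set G)) → Cfsg.blockDefect p B' < r)) → (∀ B' : Set (Cfsg.IrrCharacter G), Cfsg.IsPBlock M B' → B' ≠ Cfsg.principalBlock M G → Cfsg.blockDefect p B' < r)) := by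
  have := hM.2.1
  have := charP_of_isPModular hM
  refine ⟨fun h y hy b hb hne => ?_, fun hr h B hB hne => ?_⟩
  · obtain ⟨B, hB⟩ := inducedBlockDefined_centralizer hy hb
    exact (blockDefect_le_of_induced hB).trans_lt
      (h B hB.2.1 fun h0 => hne ((third_main p hB).2 h0))
  · by_contra hcon
    obtain ⟨D, hD⟩ := exists_isDef_blk p hB
    have h1 : D ≠ ⊥ := fun h0 => by
      rw [(blockDefect_eq_zero_iff hB hD).2 h0] at hcon
      exact hcon hr
    obtain ⟨y, hy, hyc, hyo⟩ := exists_center_orderOf hD.pgroup h1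
    obtain ⟨e, hm⟩ := hD.exists_mp (isPrim_bId hB)
    obtain ⟨f, hs⟩ := hm.bp.exists_sl (Subgroup.zpowers_le.2 hy)
    have h2 : D ≤ Subgroup.centralizer (Subgroup.zpowers y : Set G) := by
      rw [centralizer_zpowers]
      exact fun w hw => Subgroup.mem_centralizer_singleton_iff.2 (hyc w hw)
    have h3 := hm.abelian_isDef hs h2
    have h4 := (hs.left.ind_iff hm.prim ((Subgroup.zpowers_le.2 hy).trans
      (le_inf le_top h2))).2 (hm.mul_of_sl hs)
    have h5 := hs.left.prim
    rw [Cn_top, centralizer_zpowers] at h3 h4 h5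
    obtain ⟨b, hb, rfl⟩ := exists_block_of_isPrim_S h5
    have h6 := (isInducedBlock_iff' hb hB).2 h4
    have h7 := h y hyo b hb fun h0 => hne ((third_main p h6).1 h0)
    have h8 := (card_isDef_S hb h3).symm.trans (card_isDef hB hD)
    rw [Nat.pow_right_injective (Fact.out : p.Prime).two_le h8] at h7
    exact hcon h7

end Cfsg.Agent.S4717
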