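import Cfsg.Statements.S0292
import Cfsg.Agent.H5.OrthMat

set_option autoImplicit false
open Cfsg

namespace Cfsg.Agent.S0292

open CfsgH5

/-- 2 |PΩ_{2m+1}(q)| = q^(m^2) prod_{i=1}^{m} (q^(2i) - 1), for q odd and m at least 3 (type B_m). -/
theorem result {F : Type*} [Field F] [Fintype F] {q : ℕ} (hF : Fintype.card F = q) (hodd : Odd q) (m : ℕ) (hm : 3 ≤ m) : 2 * Nat.card (Cfsg.POmega F (Cfsg.quadFormOdd m F)) = q ^ (m ^ 2) * ∏ i ∈ Finset.range m, (q ^ (2 * (i + 1)) - 1) := by
  subst hF
  have h2 := two_ne_zero_of_odd hodd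
  have hS := oddForm_nondeg (F := F) m h2
  have h1 : Nat.card (Subgroup.center (Omega F (quadFormOdd m F))) * Nat.card (POmega F (quadFormOdd m F)) =
      Nat.card (Omega F (quadFormOdd m F)) := card_quotient_center_mul _
  rw [card_center_Omega_one (oddForm_Q m) hS (by simp; omega) (Or.inl (gen_of_two_ne_zero h2))
    (Or.inr (by rw [hS.neg_mem_om_iff h2, finrank_odd]; simp)), Subgroup.card_bot, one_mul,
    card_Omega (oddForm_Q m)] at h1
  have h3 := Form.card_om_mul (S := oddForm m F)
  rw [hS.index_commutator_odd h2 (by rw [finrank_odd]; omega), Form.orth_card_odd m hS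
    (finrank_odd m), Nat.card_eq_fintype_card (α := F), mul_assoc] at h3
  rw [h1]; omega

end Cfsg.Agent.S0292
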