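import Cfsg.Statements.S0293
import Cfsg.Agent.H5.OrthMat

set_option autoImplicit false
open Cfsg

namespace Cfsg.Agent.S0293

open CfsgH5

/-- gcd(4, q^m - 1) |PΩ^+_{2m}(q)| = q^(m(m-1)) (q^m - 1) prod_{i=1}^{m-1} (q^(2i) - 1), m at least 4 (type D_m). -/
theorem result {F : Type*} [Field F] [Fintype F] {q : ℕ} (hF : Fintype.card F = q) (m : ℕ) (hm : 4 ≤ m) : Nat.gcd 4 (q ^ m - 1) * Nat.card (Cfsg.POmega F (Cfsg.quadFormPlus m F)) = q ^ (m * (m - 1)) * (q ^ m - 1) * ∏ i ∈ Finset.range (m - 1), (q ^ (2 * (i + 1)) - 1) := by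
  subst hF
  have hS := plusForm_nondeg (F := F) m
  have h1 : Nat.card (Subgroup.center (Omega F (quadFormPlus m F))) * Nat.card (POmega F (quadFormPlus m F)) =
      Nat.card (Omega F (quadFormPlus m F)) := card_quotient_center_mul _
  rw [card_Omega (plusForm_Q m)] at h1
  have h3 := Form.card_om_mul (S := plusForm m F)
  rw [hS.orth_card_plus (plusForm_isPlus m) (by omega) (finrank_sp m),
    Nat.card_eq_fintype_card (α := F), mul_assoc 2, mul_assoc 2] at h3
  have hq : 0 < Fintype.card F ^ m := pow_pos Fintype.card_pos _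
  by_cases hodd : Odd (Fintype.card F)
  · have h2 := two_ne_zero_of_odd hodd
    rw [hS.index_commutator_odd h2 (by rw [finrank_sp]; omega)] at h3
    have h4 := hS.neg_mem_om_iff_even h2 (finrank_sp m)
    simp only [plusForm_isPlus, true_iff] at h4
    obtain ⟨k, hk⟩ := hodd.pow (n := m)
    by_cases h5 : Fintype.card F ^ m % 4 = 1
    · rw [card_center_Omega_two (plusForm_Q m) hS (by simp; omega) h2 (h4.2 h5)] at h1
      rw [Nat.gcd_eq_left (by omega)]; omega
    · rw [card_center_Omega_one (plusForm_Q m) hS (by simp; omega)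
        (Or.inl (gen_of_two_ne_zero h2)) (Or.inr (mt h4.1 h5)), Subgroup.card_bot] at h1
      rw [Nat.gcd_rec, show (Fintype.card F ^ m - 1) % 4 = 2 by omega]
      norm_num; omega
  · have h2 := two_eq_zero_of_not_odd hodd
    rw [hS.index_commutator_two h2 (Or.inr (by rw [finrank_sp]; omega))
      (by rw [finrank_sp]; omega)] at h3
    rw [card_center_Omega_one (plusForm_Q m) hS (by simp; omega) (Or.inr (by simp; omega))
      (Or.inl h2), Subgroup.card_bot] at h1
    obtain ⟨k, hk⟩ : Even (Fintype.card F ^ m) :=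
      (Nat.not_odd_iff_even.1 hodd).pow_of_ne_zero (by omega)
    rw [show Nat.gcd 4 (Fintype.card F ^ m - 1) = 1 from Nat.Coprime.pow_left (m := 2) 2
      (Nat.coprime_two_left.2 ⟨k - 1, by omega⟩)]
    omega

end Cfsg.Agent.S0293
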