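import Cfsg.Statements.S0157
import Cfsg.Agent.H3.Brauer2

set_option autoImplicit false
open Cfsg

namespace Cfsg.Agent.S0157
open CfsgH3

/-- For a transitive action of a finite group on a finite set with at least two points: the action is 2-transitive if and only if the function sending g to (number of fixed points of g) − 1 is an irreducible character. -/
theorem result {G : Type*} [Group G] [Finite G] (X : Type*) [MulAction G X] [Finite X] [MulAction.IsPretransitive G X] (hX : 2 ≤ Nat.card X) : Cfsg.IsIrrCharacter G (fun g => (Nat.card (MulAction.fixedBy X g) : ℂ) - 1) ↔ MulAction.IsMultiplyPretransitive G X 2 := by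
  classical
  have := Fintype.ofFinite G
  have hnt : Nontrivial X := Finite.one_lt_card_iff_nontrivial.mp hX
  have hπ := isChar_permChar (G := G) (X := X)
  have h1 : classInner (permChar (G := G) X) (fun _ => 1) = 1 := by
    obtain ⟨x⟩ : Nonempty X := inferInstance
    rw [permChar_eq_indFun x, ip_indFun_one_one]
  have h2 : classInner (permChar (G := G) X) (permChar X) =
      Nat.card (MulAction.orbitRel.Quotient G (X × X)) := by
    rw [← ip_permChar_one, permChar_prod, ip_mul_left]
    congr 1
    ext g; simp [permChar]
  have h3 : IsCharacter G (permChar (G := G) X - fun _ => 1) :=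
    hπ.sub_constituent isIrr_one (by rw [h1]; exact one_ne_zero)
  have h4 : classInner (permChar (G := G) X - fun _ => 1) (permChar (G := G) X - fun _ => 1) =
      Nat.card (MulAction.orbitRel.Quotient G (X × X)) - 1 := by
    rw [ip_sub_left, ip_sub_right, ip_sub_right, h2, h1, ← hπ.inner_comm isChar_one, h1,
      isIrr_one.inner_self]; ring
  have h5 : IsIrrCharacter G (permChar (G := G) X - fun _ => 1) ↔
      Nat.card (MulAction.orbitRel.Quotient G (X × X)) = 2 := by
    constructor
    · intro h
      have := h.inner_self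
      rw [h4, sub_eq_iff_eq_add] at this
      exact_mod_cast this
    · intro h
      exact h3.irr_of_inner_eq_one (by rw [h4, h]; norm_num)
  refine h5.trans ?_
  rw [MulAction.is_two_pretransitive_iff]
  obtain ⟨a, b, hab⟩ := exists_pair_ne X
  have hne : ∀ x y : X, x ≠ y → (Quotient.mk'' (x, y) : MulAction.orbitRel.Quotient G (X × X)) ≠
      Quotient.mk'' (a, a) := by
    intro x y hxy h
    obtain ⟨g, hg⟩ := Quotient.exact' h
    simp only [Prod.smul_mk, Prod.mk.injEq] at hg
    exact hxy (hg.1.symm.trans hg.2)
  constructor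
  · intro h x y z w hxy hzw
    obtain ⟨o, -, ho⟩ := (Nat.card_eq_two_iff' (Quotient.mk'' (a, a))).mp h
    have := (ho _ (hne z w hzw)).trans (ho _ (hne x y hxy)).symm
    obtain ⟨g, hg⟩ := Quotient.exact' this
    simp only [Prod.smul_mk, Prod.mk.injEq] at hg
    exact ⟨g, hg⟩
  · intro h
    refine (Nat.card_eq_two_iff' (Quotient.mk'' (a, a))).mpr ⟨Quotient.mk'' (a, b), hne a b hab, ?_⟩
    intro o ho
    obtain ⟨⟨x, y⟩, rfl⟩ := Quotient.exists_rep o
    have hxy : x ≠ y := by
      rintro rfl
      obtain ⟨g, hg⟩ := MulAction.exists_smul_eq G a x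
      exact ho (Quotient.sound' ⟨g, by simp [hg]⟩)
    obtain ⟨g, h1, h2⟩ := h hab hxy
    exact Quotient.sound' ⟨g, by simp [h1, h2]⟩

end Cfsg.Agent.S0157
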