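import Cfsg.Statements.S2332
import Mathlib
import Cfsg.Agent.H8.SW3
import Cfsg.Agent.H8.LS4
import Cfsg.Agent.S0157

set_option autoImplicit false
open Cfsg

namespace Cfsg.Agent.S2332

/-- Smallest degree of a non-linear irreducible complex representation of SL_n over a finite field with q elements, for n ≥ 3 and (n, q) not one of (3, 2), (3, 4), (4, 2), (4, 3): every irreducible complex representation of SL_n(F) of degree at least 2 has degree at least (q^n − q)/(q − 1), and there is an irreducible complex representation of exactly that degree. -/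
theorem result {F : Type*} [Field F] [Fintype F] [DecidableEq F] (n : ℕ) (hn : 3 ≤ n)
    (hex : (n, Fintype.card F) ≠ (3, 2) ∧ (n, Fintype.card F) ≠ (3, 4) ∧ (n, Fintype.card F) ≠ (4, 2) ∧ (n, Fintype.card F) ≠ (4, 3)) :
    (∀ (k : ℕ) (ρ : Representation ℂ (Matrix.SpecialLinearGroup (Fin n) F) (Fin k → ℂ)), ρ.IsIrreducible → 2 ≤ k → (Fintype.card F ^ n - Fintype.card F) / (Fintype.card F - 1) ≤ k) ∧
    (∃ ρ : Representation ℂ (Matrix.SpecialLinearGroup (Fin n) F) (Fin ((Fintype.card F ^ n - Fintype.card F) / (Fintype.card F - 1)) → ℂ), ρ.IsIrreducible) := by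
  have hq : 2 ≤ Fintype.card F := Fintype.one_lt_card
  refine ⟨fun k ρ hρ hk => ?_, ?_⟩
  · classical
    haveI : Finite (Module.Dual F (Fin n → F)) := Finite.of_injective _ DFunLike.coe_injective
    letI := Fintype.ofFinite (Module.Dual F (Fin n → F))
    let S : CfsgH8.SLR F (Fin n → F) (Fin k → ℂ) :=
      { R := fun x => if h : LinearMap.det x = 1 then ρ ⟨LinearMap.toMatrix' x, by rwa [LinearMap.det_toMatrix']⟩ else 0
        ψ := AddChar.FiniteField.primitiveChar_to_Complex F
        prim := AddChar.FiniteField.primitiveChar_to_Complex_isPrimitive F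
        one := by
          rw [dif_pos (map_one _), ← map_one ρ]
          exact congrArg ρ (Subtype.ext LinearMap.toMatrix'_id)
        mul := fun g x hg hx => by
          rw [dif_pos hg, dif_pos hx, dif_pos (by simp [hg, hx])]
          exact (congrArg ρ (Subtype.ext (LinearMap.toMatrix'_mul _ _))).trans (map_mul ρ _ _) }
    have hr : ∀ j, ¬ (Fintype.card F - 1 ∣ j) → ∃ r : F, r ≠ 0 ∧ r ^ j ≠ 1 := fun j h => by
      rw [← FiniteField.forall_pow_eq_one_iff] at h
      push Not at h
      obtain ⟨x, hx⟩ := h
      exact ⟨x, x.ne_zero, fun e => hx (Units.ext (by simpa using e))⟩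
    have hn' : ∀ j, n ≠ j → Fintype.card (Fin n → F) ≠ Fintype.card F ^ j := fun j h e =>
      h (Nat.pow_right_injective hq (by simpa using e))
    simp only [ne_eq, Prod.mk.injEq, not_and] at hex
    let i : Fin n := ⟨0, by omega⟩
    let j : Fin n := ⟨1, by omega⟩
    have hij : i ≠ j := by simp [i, j]
    have hB : CfsgH8.Bs (LinearMap.ker (LinearMap.proj i) ⊓ LinearMap.ker (LinearMap.proj j) : Submodule F (Fin n → F))
        (LinearMap.proj i) (LinearMap.proj j) :=
      ⟨fun _ => Iff.rfl, Pi.single i 1, Pi.single j 1, by simp, by simp [hij], by simp [hij.symm], by simp⟩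
    have h1 := hB.card.2
    have := S.bound (fun T hT => CfsgH3.exists_scalar_of_commute ρ T fun g => ?_) ?_ ?_ hB ?_ (v := Pi.single j 1)
      (by simp [hij.symm]) fun e => ?_
    · rw [Module.finrank_fin_fun, Fintype.card_fun, Fintype.card_fin] at this
      exact Nat.div_le_of_le_mul this
    · have h2 : LinearMap.det (Matrix.toLin' g.1) = 1 := by simp
      have h3 := hT _ h2
      simp only [CfsgH8.SLR.Cj, S, dif_pos h2, LinearMap.toMatrix'_toLin'] at h3
      exact h3.symm
    · by_cases h : n = 4
      · exact .inl (hr 2 fun e => by have := Nat.le_of_dvd two_pos e; omega)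
      · exact .inr (hn' _ h)
    · by_cases h : n = 3
      · exact .inl (hr 3 fun e => by rcases (Nat.dvd_prime Nat.prime_three).1 e with e | e <;> omega)
      · exact .inr (hn' _ h)
    · obtain ⟨m, rfl⟩ : ∃ m, n = m + 3 := ⟨n - 3, by omega⟩
      rw [Fintype.card_fun, Fintype.card_fin, show Fintype.card F ^ (m + 3) = Fintype.card F ^ 2 * Fintype.card F ^ (m + 1) by
        ring] at h1
      rw [← Nat.eq_of_mul_eq_mul_left (by positivity) h1, pow_succ]
      rcases m with _ | m
      · simp; omega
      · have := Nat.one_le_pow m _ (show 0 < Fintype.card F by omega)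
        rw [pow_succ]; nlinarith [Nat.mul_le_mul this hq]
    · have h2 : LinearMap.det (LinearMap.transvection (LinearMap.proj i) (Pi.single j 1 : Fin n → F)) = 1 := by
        simp [LinearMap.transvection.det, hij.symm]
      simp only [CfsgH8.SLR.U, S, dif_pos h2] at e
      haveI : Nontrivial (Fin n) := ⟨⟨i, j, hij⟩⟩
      obtain ⟨r, -, hr⟩ := Matrix.SpecialLinearGroup.mem_center_iff.1 (CfsgH8.ker_le_center
        (CfsgH5.commutator_SL (.inl (by simpa using hn))) (CfsgH5.isSimple_PSL (.inl (by simpa using hn))) ρ hρ
        (by simpa using hk) e)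
      simpa [LinearMap.transvection.apply, hij, hij.symm] using congrFun (congrFun hr j) i
  · have hc := Projectivization.card' F (Fin n → F)
    rw [Nat.card_eq_fintype_card, Nat.card_eq_fintype_card (α := F), Fintype.card_fun, Fintype.card_fin] at hc
    haveI := MulAction.isPretransitive_of_is_two_pretransitive (G := Matrix.SpecialLinearGroup (Fin n) F)
      (α := Projectivization F (Fin n → F))
    have h1 : Fintype.card F ^ n - Fintype.card F = (Fintype.card F - 1) * (Nat.card (Projectivization F (Fin n → F)) - 1) := by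
      rw [hc, Nat.mul_sub_one (Fintype.card F - 1), mul_comm (Fintype.card F - 1)]; omega
    have h2 : 2 ≤ Nat.card (Projectivization F (Fin n → F)) := by
      by_contra h
      have h3 := Nat.pow_lt_pow_right hq (show 1 < n by omega)
      rw [show Nat.card (Projectivization F (Fin n → F)) - 1 = 0 by omega, mul_zero] at h1
      rw [pow_one] at h3
      omega
    obtain ⟨m, ρ, hρ, h⟩ := (S0157.result (G := Matrix.SpecialLinearGroup (Fin n) F) _ h2).2 inferInstance
    have h3 := congrFun h 1
    rw [Representation.char_one, Module.finrank_fin_fun, MulAction.fixedBy_one_eq_univ, Nat.card_univ,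
      ← Nat.cast_pred (by omega), Nat.cast_inj] at h3
    rw [h1, Nat.mul_div_cancel_left _ (by omega), ← h3]
    exact ⟨ρ, hρ⟩

end Cfsg.Agent.S2332
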