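import Cfsg.Statements.S0281
import Cfsg.Agent.H5.Iso2
import Cfsg.Agent.H8.SU2

set_option autoImplicit false
open Cfsg

namespace Cfsg.Agent.S0281

open CfsgH5 Matrix

/-- SU_2(q) is isomorphic to SL_2(q). -/
theorem result {F K : Type*} [Field F] [Fintype F] [Field K] [Fintype K] {q : ℕ} (hF : Fintype.card F = q ^ 2) (hK : Fintype.card K = q) : Nonempty (Cfsg.SU 2 F q ≃* Matrix.SpecialLinearGroup (Fin 2) K) := by
  obtain ⟨L, _, _, hL, φ, hφ⟩ := CfsgH8.exists_SL2_to_SU2 hF
  have hq := two_le_of_card_sq hF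
  have h1 := card_SU_mul hF (n := 2) (by norm_num)
  rw [card_GU hF] at h1
  simp [Finset.prod_range_succ] at h1
  have h2 : Nat.card (SU 2 F q) = q * (q ^ 2 - 1) := by
    apply Nat.eq_of_mul_eq_mul_left (Nat.succ_pos q)
    rw [Nat.succ_eq_add_one, h1]; ring
  haveI : Finite (SU 2 F q) := Nat.finite_of_card_ne_zero (by
    rw [h2]; have : 1 < q ^ 2 := by nlinarith
    exact Nat.mul_ne_zero (by omega) (by omega))
  have h3 := Nat.card_le_card_of_injective _ hφ
  rw [card_SL_two, h2] at h3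
  have h4 : Fintype.card L = q := by
    by_contra h
    have h5 : q < Fintype.card L := by omega
    have h6 : q ^ 2 < Fintype.card L ^ 2 := Nat.pow_lt_pow_left h5 (by norm_num)
    have : 1 < q ^ 2 := by nlinarith
    have : q * (q ^ 2 - 1) < Fintype.card L * (Fintype.card L ^ 2 - 1) :=
      Nat.mul_lt_mul'' h5 (by omega)
    omega
  obtain ⟨e⟩ := equiv_of_inj φ hφ (by rw [card_SL_two, h2, h4])
  obtain ⟨e'⟩ := nonempty_slCongr (ι := Fin 2) (F := L) (K := K) (by rw [h4, hK])
  exact ⟨e.symm.trans e'⟩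

end Cfsg.Agent.S0281
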