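import Cfsg.Statements.S0306
import Cfsg.Agent.H5.Iso2

set_option autoImplicit false
open Cfsg

namespace Cfsg.Agent.S0306

open CfsgH5

/-- GO^-_2(q) is dihedral of order 2(q+1). -/
theorem result {F : Type*} [Field F] [Fintype F] {q : ℕ} (hF : Fintype.card F = q) (a b : F) (hab : ∀ z₁ z₂ : F, z₁ ^ 2 + a * z₁ * z₂ + b * z₂ ^ 2 = 0 → z₁ = 0 ∧ z₂ = 0) : Nonempty (Cfsg.isometryGroup F (Cfsg.quadFormMinus 0 F a b) ≃* DihedralGroup (q + 1)) := by
  obtain ⟨K, _, _, hK⟩ : ∃ (K : Type) (_ : Field K) (_ : Fintype K), Fintype.card K = q ^ 2 := by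
    obtain ⟨p, _, k, hp, -⟩ := FiniteField.card' F
    haveI := Fact.mk hp
    letI := Fintype.ofFinite (FiniteField.Extension F p 2)
    exact ⟨FiniteField.Extension F p 2, inferInstance, inferInstance, by
      rw [← hF, ← Nat.card_eq_fintype_card, ← Nat.card_eq_fintype_card, FiniteField.natCard_extension]⟩
  obtain ⟨_, E, hE⟩ := exists_QE hK hF
  haveI := E.finite
  have ha : ∀ x, E.nrm.Q x = 0 → x = 0 := fun x hx => E.norm_eq_zero (E.nrm_Q x ▸ hx)
  obtain ⟨e, he⟩ := Form.exists_isom_aniso (S := minusForm 0 F a b) (fun x hx => minusForm_aniso 0 hab x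
    (Form.mem_perp_fam.2 ⟨fun i => i.elim0, fun i => i.elim0⟩) ((Form.q_eq_zero_iff _).2 hx)) (finrank_minus 0) ha E.rank
  obtain ⟨ψ⟩ : Nonempty (Multiplicative (ZMod (q + 1)) ≃* normOne hK) :=
    card_normOne hK ▸ ⟨zmodCyclicMulEquiv inferInstance⟩
  let ζ : ZMod (q + 1) → K := fun i => (ψ (.ofAdd i)).1.1
  have h1 : ∀ i j, ζ (i + j) = ζ i * ζ j := fun i j => by simp [ζ]
  have h2 : ∀ i, ζ i * E.σ (ζ i) = 1 := fun i => hE ▸ (ψ (.ofAdd i)).2
  have h0 : ζ 0 = 1 := by simp [ζ]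
  have h3 : ∀ i j, ζ (j - i) = E.σ (ζ i) * ζ j := fun i j => by
    rw [← one_mul (ζ _), ← h2 i, mul_comm (ζ i), mul_assoc, ← h1, add_sub_cancel]
  let s : K →ₗ[F] K := ⟨⟨E.σ, map_add _⟩, E.σ_smul⟩
  obtain ⟨φ, hφ⟩ := exists_hom_of (G := DihedralGroup (q + 1))
    (fun g => g.casesOn (fun i => LinearMap.mulLeft F (ζ i)) fun i => s ∘ₗ LinearMap.mulLeft F (ζ i))
    (fun v => by rw [DihedralGroup.one_def]; simp [h0]) (by
      rintro (i | i) (j | j) v <;> simp [s, h1, h3, E.σσ, mul_assoc])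
  have h4 : ∀ g, φ g ∈ E.nrm.isom := by
    rintro (i | i) <;> refine (Form.orth_mem_isom _).2 fun x => ?_ <;> rw [hφ, E.nrm_Q, E.nrm_Q] <;>
      congr 1 <;> simp only [s, E.σσ, LinearMap.mulLeft_apply, map_mul, LinearMap.comp_apply,
        LinearMap.coe_mk, AddHom.coe_mk] <;> linear_combination x * E.σ x * h2 i
  haveI : Finite (K ≃ₗ[F] K) := Finite.of_injective _ DFunLike.coe_injective
  obtain ⟨k⟩ := equiv_of_inj (φ.codRestrict _ h4) ((injective_iff_map_eq_one _).2 (by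
    rintro (i | i) h <;> have h5 := fun x => (hφ _ x).symm.trans (LinearEquiv.congr_fun (congrArg Subtype.val h) x)
    · have := h5 1
      simp [ζ] at this
      simp [this]
    · obtain ⟨c, hc⟩ := E.ne
      have := h5 1
      refine absurd ?_ hc
      simpa [s, show E.σ (ζ i) = 1 by simpa [s] using this] using h5 c))
    (by rw [Form.card_isom_of_aniso ha E.rank, DihedralGroup.nat_card, Nat.card_eq_fintype_card, hF])
  exact ⟨(oEquiv (minusForm_Q 0 a b)).trans (he.isomEquiv.trans k.symm)⟩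

end Cfsg.Agent.S0306
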