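import Cfsg.Statements.S4623
import Cfsg.Agent.H2.Carm
import Cfsg.Agent.H2.PGroup2

set_option autoImplicit false
open Cfsg

namespace Cfsg.Agent.S4623
open Subgroup CfsgH2
open scoped commutatorElement

open Equiv Equiv.Perm MulAction
open scoped Pointwise

section
variable {α : Type*} [Fintype α] [DecidableEq α] {p : ℕ} [hp : Fact p.Prime]

def Yg (r : Setoid α) : Subgroup (Perm α) where
  carrier := {σ | ∀ x, r (σ x) x}
  mul_mem' := fun {a b} ha hb x => r.trans (ha (b x)) (hb x)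
  one_mem' := fun x => r.refl x
  inv_mem' := fun {a} ha x => r.symm (by simpa using ha (a⁻¹ x))

theorem orb_iff {K : Subgroup (Perm α)} {y : Perm α} (hy : y ∈ K) (x x0 : α) :
    y x ∈ orbit K x0 ↔ x ∈ orbit K x0 :=
  ⟨fun ⟨k, e⟩ => ⟨(⟨y, hy⟩ : K)⁻¹ * k, by
      show (y⁻¹ * (k : Perm α)) x0 = x
      rw [Perm.mul_apply, Perm.inv_eq_iff_eq]; exact e⟩,
    fun ⟨k, e⟩ => ⟨(⟨y, hy⟩ : K) * k, by
      show (y * (k : Perm α)) x0 = y x
      rw [Perm.mul_apply]; exact congrArg y e⟩⟩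

def Good (p : ℕ) (t : Perm α) : Prop := t ^ p = 1 ∧ (p = 2 → t.IsSwap ∨ sign t = 1)

theorem Good.conj {t : Perm α} (h : Good p t) (g : Perm α) : Good p (g * t * g⁻¹) := by
  refine ⟨by rw [conj_pow, h.1]; group, fun e => (h.2 e).imp ?_ fun k => by simp [k]⟩
  rintro ⟨a, b, hab, rfl⟩
  exact ⟨g a, g b, g.injective.ne hab, (swap_apply_apply g a b).symm⟩

theorem exists_t {P M : Subgroup (Perm α)} (hP : IsPGroup p P) {x0 : α} (h1 : P ⊓ stabilizer _ x0 ≤ M)
    (h2 : M ≤ P) (h3 : M.relIndex P = p) (h4 : P ≤ normalizer (M : Set (Perm α))) {g : Perm α}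
    (hg : g ∈ P) (hgM : g ∉ M) : ∃ t : Perm α, Good p t ∧
      (∀ x, x ∉ orbit P x0 → t x = x) ∧ (∀ x ∈ orbit P x0, x ∉ orbit M x0 → t x = g x) ∧
      ∀ x ∈ orbit M x0, t x = g ((g ^ p)⁻¹ x) := by
  classical
  have gp : g ^ p ∈ M := h3 ▸ pow_relIndex_mem' h4 hg
  have oP : ∀ y ∈ P, ∀ x, y x ∈ orbit P x0 ↔ x ∈ orbit P x0 := fun y hy x =>
    orb_iff hy x x0
  have oM : ∀ y ∈ M, ∀ x, y x ∈ orbit M x0 ↔ x ∈ orbit M x0 := fun y hy x =>
    orb_iff hy x x0
  have BO : ∀ x ∈ orbit M x0, x ∈ orbit P x0 := by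
    rintro _ ⟨m, rfl⟩; exact ⟨⟨m, h2 m.2⟩, rfl⟩
  let g' : Perm α := ofSubtype (g.subtypePerm (p := (· ∈ orbit P x0)) (oP g hg))
  let u : Perm α := ofSubtype ((g ^ p)⁻¹.subtypePerm (p := (· ∈ orbit M x0)) (oM _ (inv_mem gp)))
  have t1 : ∀ x, x ∉ orbit P x0 → (g' * u) x = x := fun x hx => by
    rw [Perm.mul_apply, ofSubtype_apply_of_not_mem _ (fun h => hx (BO x h)), ofSubtype_apply_of_not_mem _ hx]
  have t2 : ∀ x ∈ orbit P x0, x ∉ orbit M x0 → (g' * u) x = g x := fun x hx hx' => by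
    rw [Perm.mul_apply, ofSubtype_apply_of_not_mem _ hx', ofSubtype_apply_of_mem _ hx]; rfl
  have t3 : ∀ x ∈ orbit M x0, (g' * u) x = g ((g ^ p)⁻¹ x) := fun x hx => by
    rw [Perm.mul_apply, ofSubtype_apply_of_mem _ hx]
    exact ofSubtype_apply_of_mem _ (BO _ ((oM _ (inv_mem gp) x).2 hx))
  generalize g' * u = t at t1 t2 t3
  have nB : ∀ i, 0 < i → i < p → ∀ b ∈ orbit M x0, (g ^ i) b ∉ orbit M x0 := by
    rintro i i0 ip _ ⟨m, rfl⟩ ⟨m', e⟩
    have k : (m' : Perm α)⁻¹ * g ^ i * m ∈ M := h1 <| mem_inf.2 ⟨P.mul_mem (P.mul_mem (P.inv_mem (h2 m'.2)) (P.pow_mem hg i)) (h2 m.2), by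
      show ((m' : Perm α)⁻¹ * g ^ i * m) x0 = x0
      rw [Perm.mul_apply, Perm.mul_apply, Perm.inv_eq_iff_eq]
      exact e.symm⟩
    rw [M.mul_mem_cancel_right m.2, M.mul_mem_cancel_left (inv_mem m'.2)] at k
    exact hgM (mem_of_pow_mem_of_pow_mem (Nat.coprime_of_lt_prime i0.ne' ip hp.out) gp k)
  have it : ∀ b ∈ orbit M x0, ∀ i, i < p → (t ^ (i + 1)) b = (g ^ (i + 1)) ((g ^ p)⁻¹ b) := by
    intro b hb i
    have hb' := (oM _ (inv_mem gp) b).2 hb
    induction i with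
    | zero => intro _; simpa using t3 b hb
    | succ i ih =>
      intro hi
      rw [pow_succ', Perm.mul_apply, ih (by omega), t2 _ ((oP _ (pow_mem hg _) _).2 (BO _ hb'))
        (nB _ (by omega) hi _ hb'), pow_succ' g (i + 1), Perm.mul_apply]
  have tB : ∀ b ∈ orbit M x0, (t ^ p) b = b := fun b hb => by
    have := it b hb (p - 1) (by have := hp.out.pos; omega)
    rw [Nat.sub_add_cancel hp.out.one_le] at this
    rw [this]; simp
  have dec : ∀ x ∈ orbit P x0, ∃ i < p, ∃ b ∈ orbit M x0, x = (t ^ i) b := by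
    rintro _ ⟨⟨y, hy⟩, rfl⟩
    obtain ⟨m, hm, k, rfl⟩ := (mem_sup_zpowers (h4 hg)).1
      ((sup_zpowers_eq_of_relIndex_prime h3 h2 hg hgM).ge hy)
    have p0 : (0 : ℤ) < p := by exact_mod_cast hp.out.pos
    obtain ⟨i, hi⟩ := Int.eq_ofNat_of_zero_le (Int.emod_nonneg k p0.ne')
    have ip : i < p := by have := Int.emod_lt_of_pos k p0; omega
    have e : m * g ^ k = g ^ i * ((g ^ i)⁻¹ * (m * (g ^ p) ^ (k / p)) * g ^ i) := by
      conv_lhs => rw [← Int.mul_ediv_add_emod k p, hi, zpow_add, zpow_mul, zpow_natCast, zpow_natCast]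
      group
    have hm' : (g ^ i)⁻¹ * (m * (g ^ p) ^ (k / p)) * g ^ i ∈ M :=
      conj_mem_of_mem_normalizer' (h4 (pow_mem hg i)) (mul_mem hm (zpow_mem gp _))
    generalize (g ^ i)⁻¹ * (m * (g ^ p) ^ (k / p)) * g ^ i = m' at e hm'
    have hb : m' x0 ∈ orbit M x0 := ⟨⟨m', hm'⟩, rfl⟩
    have e' : (⟨m * g ^ k, hy⟩ : P) • x0 = (g ^ i) (m' x0) := by
      show (m * g ^ k) x0 = _
      rw [e]; rfl
    simp only [e']
    rcases i with _ | i
    · exact ⟨0, ip, _, hb, rfl⟩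
    · exact ⟨i + 1, ip, (g ^ p) (m' x0), (oM _ gp _).2 hb, by rw [it _ ((oM _ gp _).2 hb) i (by omega)]; simp⟩
  have tp : t ^ p = 1 := by
    ext x
    by_cases hx : x ∈ orbit P x0
    · obtain ⟨i, -, b, hb, rfl⟩ := dec x hx
      rw [← Perm.mul_apply, ← pow_add, add_comm, pow_add, Perm.mul_apply, tB b hb]; rfl
    · exact pow_apply_eq_self_of_apply_eq_self (t1 x hx) p
  refine ⟨t, ⟨tp, fun e => ?_⟩, t1, t2, t3⟩
  subst e
  have nb : ∀ b ∈ orbit M x0, t b ≠ b := fun b hb e => by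
    have := nB 1 (by norm_num) (by norm_num) _ ((oM _ (inv_mem gp) b).2 hb)
    rw [pow_one, ← t3 b hb, e] at this
    exact this hb
  have sup : (t.support : Set α) = orbit P x0 := by
    ext x
    rw [Finset.mem_coe, mem_support]
    refine ⟨fun h => by by_contra hx; exact h (t1 x hx), fun hx => ?_⟩
    obtain ⟨i, -, b, hb, rfl⟩ := dec x hx
    intro e
    rw [← Perm.mul_apply, ← pow_succ', pow_succ, Perm.mul_apply] at e
    exact nb b hb ((t ^ i).injective e)
  obtain ⟨a, ha⟩ := hP.card_orbit x0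
  rw [← sup, Nat.card_coe_set_eq, Set.ncard_coe_finset] at ha
  have c1 := cycleType_of_pow_prime_eq_one tp
  have c2 := sum_cycleType t
  have c3 := sign_of_cycleType t
  generalize t.cycleType.card = k at c1 c3
  rw [c1, Multiset.sum_replicate, smul_eq_mul] at c2 c3
  rcases a with _ | _ | a
  · omega
  · exact Or.inl (card_support_eq_two.1 ha)
  · right
    have : k = 2 * 2 ^ a := by rw [pow_succ, pow_succ] at ha; omega
    rw [c3, this]
    exact Even.neg_one_pow ⟨3 * 2 ^ a, by ring⟩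

theorem gen_good (Y : Subgroup (Perm α)) : ∀ (r : Setoid α) (P : Subgroup (Perm α)), Y = Yg r →
    IsSylowIn p P Y → P ≤ Subgroup.closure {t | t ∈ P ∧ Good p t} := by
  classical
  induction Y using subgroup_induction_up with
  | _ Y ih =>
  intro r P hY hP
  subst hY
  by_cases h0 : P = ⊥
  · rw [h0]; exact bot_le
  obtain ⟨x0, hx0⟩ : ∃ x0, P ⊓ stabilizer (Perm α) x0 < P := by
    by_contra hn
    push Not at hn
    refine h0 (eq_bot_iff.2 fun g hg => Equiv.ext fun x => ?_)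
    exact ((eq_of_le_of_not_lt inf_le_left (hn x)).ge hg).2
  obtain ⟨M, h1, h2, h3, h4⟩ := exists_relIndex_prime hP.pgroup hx0
  obtain ⟨g, hg, hgM⟩ := SetLike.exists_of_lt (lt_of_relIndex_prime h3 h2)
  let c : α → Set α := fun x => if x ∈ orbit P x0 then orbit M x else ∅
  have oP : ∀ y ∈ P, ∀ x, y x ∈ orbit P x0 ↔ x ∈ orbit P x0 := fun y hy x =>
    orb_iff hy x x0
  have cy : ∀ y ∈ P, ∀ x, c (y x) = y • c x := by
    intro y hy x
    by_cases hx : x ∈ orbit P x0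
    · simp only [c, hx, (oP y hy x).2 hx, if_true]
      ext w
      constructor
      · rintro ⟨m, rfl⟩
        exact ⟨_, ⟨⟨_, conj_mem_of_mem_normalizer' (h4 hy) m.2⟩, rfl⟩, by simp [Subgroup.smul_def]⟩
      · rintro ⟨_, ⟨m, rfl⟩, rfl⟩
        exact ⟨⟨_, conj_mem_of_mem_normalizer (h4 hy) m.2⟩, by simp [Subgroup.smul_def]⟩
    · simp only [c, hx, mt (oP y hy x).1 hx, if_false, Set.smul_set_empty]
  have cm : ∀ y ∈ M, ∀ x, c (y x) = c x := by
    intro y hy x
    by_cases hx : x ∈ orbit P x0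
    · simp only [c, hx, (oP y (h2 hy) x).2 hx, if_true]
      exact orbit_smul (⟨y, hy⟩ : M) x
    · simp only [c, hx, mt (oP y (h2 hy) x).1 hx, if_false]
  let r' : Setoid α := r ⊓ Setoid.ker c
  have mY : ∀ σ, σ ∈ Yg r' ↔ σ ∈ Yg r ∧ ∀ x, c (σ x) = c x := fun σ =>
    ⟨fun h => ⟨fun x => (h x).1, fun x => (h x).2⟩, fun h x => ⟨h.1 x, h.2 x⟩⟩
  have l1 : Yg r' ≤ Yg r := fun σ h => ((mY σ).1 h).1
  have l2 : M ≤ Yg r' := fun σ h => (mY σ).2 ⟨hP.le (h2 h), cm σ h⟩
  have l3 : P ≤ normalizer (Yg r' : Set (Perm α)) := fun y hy =>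
    mem_normalizer_of_conj_mem fun σ hσ => (mY _).2 ⟨mul_mem (mul_mem (hP.le hy) (l1 hσ)) (inv_mem (hP.le hy)),
      fun x => by
        rw [Perm.mul_apply, Perm.mul_apply, cy y hy, ((mY σ).1 hσ).2, ← cy y hy]; simp⟩
  have l4 : g ∉ Yg r' := by
    intro h
    have := ((mY g).1 h).2 x0
    simp only [c, mem_orbit_self, (oP g hg x0).2 (mem_orbit_self x0), if_true] at this
    obtain ⟨m, e⟩ := this.le (mem_orbit_self _)
    have k : (m : Perm α)⁻¹ * g ∈ M := h1 <| mem_inf.2 ⟨P.mul_mem (P.inv_mem (h2 m.2)) hg, by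
      show ((m : Perm α)⁻¹ * g) x0 = x0
      rw [Perm.mul_apply, Perm.inv_eq_iff_eq]; exact e.symm⟩
    exact hgM ((M.mul_mem_cancel_left (inv_mem m.2)).1 k)
  have l5 : P ⊓ Yg r' = M := (eq_or_eq_of_relIndex_prime h3 (le_inf h2 l2) inf_le_left).resolve_right
    fun e => l4 (e.ge hg).2
  have s1 : IsSylowIn p P (P ⊔ Yg r') := hP.mono le_sup_left (sup_le hP.le l1)
  have n1 : P ⊔ Yg r' ≤ normalizer (Yg r' : Set (Perm α)) := sup_le l3 le_normalizer
  have s2 : IsSylowIn p M (Yg r') := l5 ▸ s1.inf_of_normalizer' le_sup_right n1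
  have i1 := ih _ (card_lt_of_lt (lt_of_le_of_ne l1 fun e => l4 (e.ge (hP.le hg)))) r' M rfl s2
  obtain ⟨t, ht, t1, t2, t3⟩ := exists_t hP.pgroup h1 h2 h3 h4 hg hgM
  have gp : g ^ p ∈ M := h3 ▸ pow_relIndex_mem' h4 hg
  have l6 : g⁻¹ * t ∈ Yg r' := by
    intro x
    rw [Perm.mul_apply]
    by_cases hx : x ∈ orbit P x0
    · by_cases hx' : x ∈ orbit M x0
      · rw [t3 x hx', show ∀ z, g⁻¹ (g z) = z from fun z => by simp]
        exact l2 (inv_mem gp) x
      · rw [t2 x hx hx', show ∀ z, g⁻¹ (g z) = z from fun z => by simp]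
    · rw [t1 x hx]
      refine ⟨hP.le (inv_mem hg) x, ?_⟩
      show c _ = c _
      simp only [c, hx, mt (oP _ (inv_mem hg) x).1 hx, if_false]
  have l7 : t ∈ P ⊔ Yg r' := by
    have := mul_mem (mem_sup_left hg) (mem_sup_right (S := P) l6)
    rwa [mul_inv_cancel_left] at this
  have l8 : t ∉ Yg r' := fun h => l4 (by
    have := mul_mem h (inv_mem l6)
    rwa [mul_inv_rev, inv_inv, mul_inv_cancel_left] at this)
  obtain ⟨k, -, hk⟩ := (Nat.dvd_prime_pow hp.out).1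
    (show orderOf t ∣ p ^ 1 by rw [pow_one]; exact orderOf_dvd_of_pow_eq_one ht.1)
  obtain ⟨y, hy, hy'⟩ := s1.exists_cj_le (isPGroup_zpowers_of_orderOf hk) (zpowers_le.2 l7)
  have l9 : y * t * y⁻¹ ∈ P := hy' (conj_mem_cj y (mem_zpowers t))
  have l10 : y * t * y⁻¹ ∉ M := fun h => l8 (by
    have := conj_mem_of_mem_normalizer' (n1 hy) (l2 h)
    rwa [show y⁻¹ * (y * t * y⁻¹) * y = t by group] at this)
  refine (sup_zpowers_eq_of_relIndex_prime h3 h2 l9 l10).ge.trans (sup_le (i1.trans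
    (Subgroup.closure_mono fun s hs => ⟨h2 hs.1, hs.2⟩)) (zpowers_le.2 (subset_closure ⟨l9, ht.conj y⟩)))

theorem gen_top {P : Subgroup (Perm α)} (hP : IsSylowIn p P ⊤) :
    P ≤ Subgroup.closure {t | t ∈ P ∧ Good p t} :=
  gen_good ⊤ ⊤ P (eq_top_iff.2 fun _ _ _ => trivial).symm hP

theorem swap_sq {T : Subgroup (Perm α)} (hT : IsPGroup 2 T) {s t : Perm α} (hs : s ∈ T) (ht : t ∈ T)
    (h1 : s.IsSwap) (h2 : t.IsSwap) : (s * t) ^ 2 = 1 := by
  haveI : Fact (Nat.Prime 2) := ⟨Nat.prime_two⟩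
  have key : ∀ a b c : α, a ≠ b → a ≠ c → swap a b ∈ T → swap a c ∈ T → swap a b = swap a c := by
    intro a b c h1 h2 h3 h4
    by_contra hn
    have := (isThreeCycle_swap_mul_swap_same h1 h2 (fun e => hn (by rw [e]))).orderOf
    exact absurd (eq_one_of_mem_pgroup_of_coprime hT (mul_mem h3 h4) (by rw [this]; norm_num))
      (fun e => by rw [e, orderOf_one] at this; omega)
  obtain ⟨a, b, hab, rfl⟩ := h1
  obtain ⟨c, d, hcd, rfl⟩ := h2
  suffices Commute (swap a b) (swap c d) by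
    rw [this.mul_pow, sq, sq, swap_mul_self, swap_mul_self, one_mul]
  by_cases e1 : a = c
  · subst e1; rw [key a b d hab hcd hs ht]
  by_cases e2 : a = d
  · subst e2; rw [swap_comm c] at ht ⊢; rw [key a b c hab hcd.symm hs ht]
  by_cases e3 : b = c
  · subst e3; rw [swap_comm a] at hs ⊢; rw [key b a d hab.symm hcd hs ht]
  by_cases e4 : b = d
  · subst e4; rw [swap_comm a] at hs ⊢; rw [swap_comm c] at ht ⊢; rw [key b a c hab.symm hcd.symm hs ht]
  exact swap_commute e1 e2 e3 e4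

theorem gen_alt {T : Subgroup (Perm α)} (hT : IsSylowIn p T ⊤) :
    T ⊓ alternatingGroup α ≤ Subgroup.closure {t | t ∈ T ⊓ alternatingGroup α ∧ t ^ p = 1} := by
  have h1 := gen_top hT
  set K := Subgroup.closure {t | t ∈ T ⊓ alternatingGroup α ∧ t ^ p = 1} with hK
  by_cases h : ∀ t ∈ T, Good p t → sign t = 1
  · exact inf_le_left.trans (h1.trans (Subgroup.closure_mono fun t ht => ⟨⟨ht.1, h t ht.1 ht.2⟩, ht.2.1⟩))
  push Not at h
  obtain ⟨τ, hτ, gτ, sτ⟩ := h
  have p2 : p = 2 := by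
    by_contra h2
    have := congrArg sign gτ.1
    rw [map_pow, (Int.units_eq_one_or _).resolve_left sτ, (hp.out.odd_of_ne_two h2).neg_one_pow, map_one] at this
    exact absurd this (by decide)
  subst p2
  have wτ := (gτ.2 rfl).resolve_right sτ
  have ττ : τ * τ = 1 := by rw [← sq, gτ.1]
  have hKA : K ≤ alternatingGroup α := (Subgroup.closure_le _).2 fun t ht => ht.1.2
  have step : ∀ x s, s ∈ T → Good 2 s → (x ∈ K ∨ x * τ ∈ K) → (x * s ∈ K ∨ x * s * τ ∈ K) := by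
    intro x s hs gs hx
    rcases gs.2 rfl with w | w
    · have e1 : s * τ ∈ K := Subgroup.subset_closure ⟨mem_inf.2 ⟨T.mul_mem hs hτ,
        mem_alternatingGroup.2 (by rw [map_mul, w.sign_eq, wτ.sign_eq]; simp)⟩,
        swap_sq hT.pgroup hs hτ w wτ⟩
      have e2 : τ * s ∈ K := Subgroup.subset_closure ⟨mem_inf.2 ⟨T.mul_mem hτ hs,
        mem_alternatingGroup.2 (by rw [map_mul, w.sign_eq, wτ.sign_eq]; simp)⟩,
        swap_sq hT.pgroup hτ hs wτ w⟩
      rcases hx with hx | hx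
      · right; rw [mul_assoc]; exact mul_mem hx e1
      · left
        have := mul_mem hx e2
        rwa [mul_assoc, ← mul_assoc τ, ττ, one_mul] at this
    · rcases hx with hx | hx
      · exact Or.inl (K.mul_mem hx (Subgroup.subset_closure ⟨mem_inf.2 ⟨hs, mem_alternatingGroup.2 w⟩, gs.1⟩))
      · right
        have e1 : τ * s * τ⁻¹ ∈ K := Subgroup.subset_closure ⟨mem_inf.2 ⟨T.mul_mem (T.mul_mem hτ hs) (T.inv_mem hτ),
          mem_alternatingGroup.2 (by simp [w])⟩, (gs.conj τ).1⟩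
        have := K.mul_mem hx e1
        rwa [inv_eq_of_mul_eq_one_left ττ, ← mul_assoc, ← mul_assoc, mul_assoc x, ττ, mul_one] at this
  have all : ∀ x ∈ Subgroup.closure {t | t ∈ T ∧ Good 2 t}, x ∈ K ∨ x * τ ∈ K := by
    intro x hx
    induction hx using closure_induction_right with
    | one => exact Or.inl (one_mem _)
    | mul_right x _ y hy ih => exact step x y hy.1 hy.2 ih
    | mul_inv_cancel x _ y hy ih =>
      rw [inv_eq_of_mul_eq_one_left (show y * y = 1 by rw [← sq, hy.2.1])]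
      exact step x y hy.1 hy.2 ih
  intro x hx
  refine (all x (h1 hx.1)).resolve_right fun h => sτ ?_
  exact ((alternatingGroup α).mul_mem_cancel_left hx.2).1 (hKA h)

end

theorem pow_mem_comm {G : Type*} [Group G] {p : ℕ} {K : Subgroup G}
    (h : K ≤ Subgroup.closure {t | t ∈ K ∧ t ^ p = 1}) (x : K) : x ^ p ∈ _root_.commutator K := by
  have e : Subgroup.closure {t | t ∈ K ∧ t ^ p = 1} ≤ K := (Subgroup.closure_le _).2 fun t ht => ht.1
  have key : ∀ g (hg : g ∈ Subgroup.closure {t | t ∈ K ∧ t ^ p = 1}),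
      Abelianization.of (⟨g, e hg⟩ : K) ^ p = 1 := by
    intro g hg
    induction hg using closure_induction with
    | mem x hx => rw [← map_pow, show (⟨x, _⟩ : K) ^ p = 1 from Subtype.ext hx.2, map_one]
    | one => rw [show (⟨1, _⟩ : K) = 1 from rfl, map_one, one_pow]
    | mul x y hx hy h1 h2 =>
      rw [show (⟨x * y, _⟩ : K) = ⟨x, e hx⟩ * ⟨y, e hy⟩ from rfl, map_mul, mul_pow, h1, h2, one_mul]
    | inv x hx h1 => rw [show (⟨x⁻¹, _⟩ : K) = ⟨x, e hx⟩⁻¹ from rfl, map_inv, inv_pow, h1, inv_one]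
  have := key x (h x.2)
  rw [← map_pow] at this
  rwa [← Abelianization.ker_of]

/-- For every prime p and every n, a Sylow p-subgroup P of the symmetric group on n letters has P/P' elementary abelian (the p-th power of every element of P lies in the derived subgroup of P), and the same holds for a Sylow p-subgroup of the alternating group on n letters. -/
theorem result (p : ℕ) [Fact p.Prime] (n : ℕ) (P : Sylow p (Equiv.Perm (Fin n))) (Q : Sylow p (alternatingGroup (Fin n))) :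
    (∀ x : (P : Subgroup (Equiv.Perm (Fin n))), x ^ p ∈ commutator (P : Subgroup (Equiv.Perm (Fin n)))) ∧
    (∀ x : (Q : Subgroup (alternatingGroup (Fin n))), x ^ p ∈ commutator (Q : Subgroup (alternatingGroup (Fin n)))) := by
  refine ⟨pow_mem_comm ((gen_top (IsSylowIn.of_sylow_top P)).trans
    (Subgroup.closure_mono fun t ht => ⟨ht.1, ht.2.1⟩)), pow_mem_comm ?_⟩
  have h1 := IsSylowIn.of_sylow_map Q
  obtain ⟨T, hT, hQT⟩ := IsSylowIn.exists_le h1.pgroup (le_top (a := _))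
  have h2 : T ⊓ alternatingGroup (Fin n) = _ :=
    h1.eq_of_le hT.pgroup.to_inf_left (le_inf hQT h1.le) inf_le_right
  have h3 := gen_alt hT
  rw [h2] at h3
  rw [← map_le_map_iff_of_injective (alternatingGroup (Fin n)).subtype_injective]
  refine h3.trans ((Subgroup.closure_le _).2 ?_)
  rintro _ ⟨⟨t, ht, rfl⟩, h4⟩
  exact mem_map_of_mem _ (subset_closure ⟨ht, Subtype.ext h4⟩)


end Cfsg.Agent.S4623
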