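import Cfsg.Statements.S4035
import Cfsg.Agent.H2.Mix
import Cfsg.Agent.H1.Ten4
import Cfsg.Agent.H1.Frob
import Cfsg.Agent.H1.SZ

set_option autoImplicit false
open Cfsg

namespace Cfsg.Agent.S4035
open Subgroup CfsgH2
open scoped commutatorElement

open CfsgFT CfsgH1

/-- Let G be a finite group and p a prime such that p divides the size of no conjugacy class of p-regular elements (elements of order prime to p). Then G is the internal direct product of a Sylow p-subgroup P and a normal subgroup H of order prime to p: P is normal, P ⊓ H = 1 and PH = G. -/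
theorem result {G : Type*} [Group G] [Finite G] {p : ℕ} [Fact p.Prime]
    (h : ∀ x : G, (orderOf x).Coprime p → ¬ p ∣ (ConjClasses.mk x).carrier.ncard) (P : Sylow p G) :
    (P : Subgroup G).Normal ∧ ∃ H : Subgroup G, H.Normal ∧ ¬ p ∣ Nat.card H ∧
      (P : Subgroup G) ⊓ H = ⊥ ∧ (P : Subgroup G) ⊔ H = ⊤ := by
  have k : ∀ b : G, (orderOf b).Coprime p → ∀ S, IsSylowIn p S C1(b) → ∃ g, cj g S = P := fun b hb S hS => by
    have := h b hb
    rw [ncard_carrier_eq_index, ← relIndex_top_right] at this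
    obtain ⟨g, -, e⟩ := (hS.trans_of_not_dvd le_top this).exists_cj_eq (IsSylowIn.of_sylow_top P)
    exact ⟨g, e⟩
  have hn : (P : Subgroup G).Normal := by
    refine normal_of_top_le (le_trans (eq_top_of_forall_conj (H := (P : Subgroup G) ⊔ C(P)) fun g => ?_).ge
      (sup_le le_normalizer (cent_le_norm _)))
    obtain ⟨a, b, ha, hb, ⟨j, hj⟩, e, rfl⟩ := exists_p_part (p := p) g
    obtain ⟨S, hS, aS⟩ := IsSylowIn.exists_le (isPGroup_zpowers_of_orderOf hj) (H := C1(b))
      (zpowers_le.2 (mem_cent1.2 (mem_cent.1 (comm_of_cyclic inferInstance ha) b hb)))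
    obtain ⟨x, hx⟩ := k b e S hS
    refine ⟨x⁻¹, ?_⟩
    rw [inv_inv, show x * (a * b) * x⁻¹ = x * a * x⁻¹ * (x * b * x⁻¹) by group, ← hx, ← cj_centralizer, ← cj_sup]
    exact mul_mem (conj_mem_cj x (mem_sup_left (aS (mem_zpowers a))))
      (conj_mem_cj x (mem_sup_right (le_cent1_iff.1 hS.le)))
  obtain ⟨H, hH⟩ := exists_right_complement'_of_coprime (N := (P : Subgroup G)) P.card_coprime_index
  have hc : ¬ p ∣ Nat.card H := by rw [IsComplement'.card_right_eq_index hH]; exact P.not_dvd_index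
  refine ⟨hn, H, normal_of_top_le (hH.sup_eq_top.ge.trans (sup_le (le_norm_of_cent' fun b hb => ?_) le_normalizer)),
    hc, hH.disjoint.eq_bot, hH.sup_eq_top⟩
  obtain ⟨S, hS⟩ := IsSylowIn.exists_sylowIn p C1(b)
  obtain ⟨x, hx⟩ := k b (((Fact.out : p.Prime).coprime_iff_not_dvd.2 hc).symm.coprime_dvd_left
    (orderOf_dvd_natCard H hb)) S hS
  rw [cj_eq_iff_eq_cj_inv, cj_eq_of_normal] at hx
  exact le_cent1_iff.1 (hx ▸ hS.le)


end Cfsg.Agent.S4035
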