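import Cfsg.Statements.S0618
import Cfsg.Agent.H9.KS5

set_option autoImplicit false
open Cfsg

namespace Cfsg.Agent.S0618

/-- A p-separable group with trivial p'-core in which the Thompson factorization fails has p = 2 or 3, and J(G) induces on the normal closure of Ω₁(Z(S)) a group containing a normal SL(2, p). -/
theorem result {G : Type*} [Group G] [Finite G] {p : ℕ} [Fact p.Prime] (hsep : Cfsg.IsPSolvable p G) (hO : Cfsg.pPrimeCore p G = ⊥) (hnf : ¬ Cfsg.IsThompsonFactorizable p G) : (p = 2 ∨ p = 3) ∧ ∃ E : Subgroup G, Subgroup.centralizer ((⨆ S : Sylow p G, Cfsg.omegaOne p ((S : Subgroup G) ⊓ Subgroup.centralizer ((S : Subgroup G) : Set G))) : Set G) ≤ E ∧ E ≤ Cfsg.thompsonSubgroup p G ⊔ Subgroup.centralizer ((⨆ S : Sylow p G, Cfsg.omegaOne p ((S : Subgroup G) ⊓ Subgroup.centralizer ((S : Subgroup G) : Set G))) : Set G) ∧ Cfsg.thompsonSubgroup p G ⊔ Subgroup.centralizer ((⨆ S : Sylow p G, Cfsg.omegaOne p ((S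 : Subgroup G) ⊓ Subgroup.centralizer ((S : Subgroup G) : Set G))) : Set G) ≤ Subgroup.normalizer (E : Set G) ∧ ∃ hn : ((Subgroup.centralizer ((⨆ S : Sylow p G, Cfsg.omegaOne p ((S : Subgroup G) ⊓ Subgroup.centralizer ((S : Subgroup G) : Set G))) : Set G)).subgroupOf E).Normal, Nonempty ((↥E ⧸ (Subgroup.centralizer ((⨆ S : Sylow p G, Cfsg.omegaOne p ((S : Subgroup G) ⊓ Subgroup.centralizer ((S : Subgroup G) : Set G))) : Set G)).subgroupOf E) ≃* Matrix.SpecialLinearGroup (Fin 2) (ZMod p)) := by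
  have hc := CfsgH1.IsPSolvable.centralizer_pCore_le hsep hO
  have hV := CfsgH2.pred_top_iff.1 (CfsgH9.pred_VS hc)
  have hL : IsPSolvable p (⊤ : Subgroup G) := CfsgH1.IsPSolvable.of_surjective hsep (Subgroup.topEquiv (G := G)).symm.toMonoidHom
    (Subgroup.topEquiv (G := G)).symm.surjective
  rw [CfsgH9.fact_iff hO, ← CfsgH9.J_top] at hnf
  obtain ⟨B, b1, b2⟩ := CfsgH9.exists_tv hV hL hnf
  have h := CfsgH9.s3_ps (H := thompsonSubgroupOf p ⊤) hV hL (.of_normal CfsgH9.J_le (Subgroup.le_normalizer.trans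
    (CfsgH9.normalizer_le_normalizer_J _)))
  have b := h.blk' b1 b2
  have n := h.nE (CfsgH9.gen_ps hV hL) b1 b2 rfl
  obtain ⟨E, b, n⟩ : ∃ E, CfsgH9.Blk p _ _ _ B E ∧ _ ≤ Subgroup.normalizer (E : Set (CfsgH9.Hol (CfsgH9.VS p G))) := ⟨_, b, n⟩
  have t : ∀ A : Subgroup G, A ≤ Subgroup.normalizer (CfsgH9.VS p G : Set G) := fun A => le_top.trans hV.norm
  have c : CfsgH9.ps (CfsgH9.VS p G) (Subgroup.centralizer (CfsgH9.VS p G : Set G)) ≤ ⊥ :=
    (le_inf le_rfl ((CfsgH9.ps_le_cent (t _) le_rfl).2 le_rfl)).trans CfsgH9.ps_faithful.le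
  have ce : Subgroup.centralizer ((⨆ S : Sylow p G, omegaOne p ((S : Subgroup G) ⊓ Subgroup.centralizer ((S : Subgroup G) :
      Set G))) : Set G) = Subgroup.centralizer (CfsgH9.VS p G : Set G) :=
    le_antisymm (Subgroup.le_centralizer_iff.1 (iSup_le fun S => Subgroup.le_centralizer_iff.1 (Subgroup.centralizer_le
      (le_iSup (fun S : Sylow p G => (omegaOne p (CfsgH9.zc (S : Subgroup G)) : Set G)) S))))
      (Subgroup.centralizer_le (iSup_le fun S => CfsgH9.oz_le_VS S))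
  rw [← CfsgH9.J_top, ce]
  refine ⟨b.prime, CfsgH9.pb _ E, (CfsgH9.ps_le_iff (t _)).1 (c.trans bot_le), (Subgroup.map_mono (Subgroup.comap_mono
    b.lH')).trans (CfsgH9.pb_ps (t _)).le, CfsgH9.le_norm_pb (t _) ((CfsgH9.ps_sup (t _) (t _)).le.trans
    (sup_le n (c.trans bot_le))), ?_⟩
  obtain ⟨f, f1, f2⟩ := CfsgH9.exists_psHom (t (CfsgH9.pb _ E))
  obtain ⟨e⟩ := b.equiv
  have k := CfsgH9.ps_inf_pb (b.lH'.trans (CfsgH9.ps_mono le_top))
  rw [top_inf_eq] at k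
  refine CfsgH9.quot_equiv_of (((MulEquiv.subgroupCongr k).trans e).toMonoidHom.comp f) (((MulEquiv.subgroupCongr k).trans e).surjective.comp f1) fun d => ?_
  rw [MonoidHom.comp_apply, MulEquiv.coe_toMonoidHom, MulEquiv.map_eq_one_iff, Subtype.ext_iff, f2]
  exact SetLike.ext_iff.1 CfsgH9.ker_hψ _

end Cfsg.Agent.S0618
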