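import Cfsg.Statements.S0014
import Cfsg.Agent.H1.Prim
import Cfsg.Agent.H2.PGroup

set_option autoImplicit false
open Cfsg

namespace Cfsg.Agent.S0014

/-- Burnside's basis Theorem: in a finite p-group whose Frattini quotient has order p ^ n, every generating set contains n elements that already generate, and no set with fewer than n elements generates. -/
theorem result {G : Type*} [Group G] [Finite G] (p n : ℕ) [Fact p.Prime]
    (hG : IsPGroup p G) (hn : (frattini G).index = p ^ n) :
    (∀ S : Finset G, Subgroup.closure (S : Set G) = ⊤ → ∃ T : Finset G, T ⊆ S ∧ T.card = n ∧ Subgroup.closure (T : Set G) = ⊤) ∧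
    (∀ T : Finset G, Subgroup.closure (T : Set G) = ⊤ → n ≤ T.card) := by
  open Subgroup CfsgH1 CfsgFT in
  classical
  have key : ∀ S : Finset G, ∃ T ⊆ S, frattini G ⊔ closure (T : Set G) = frattini G ⊔ closure (S : Set G) ∧
      Nat.card (frattini G ⊔ closure (T : Set G) : Subgroup G) = Nat.card (frattini G) * p ^ T.card := by
    intro S
    induction S using Finset.induction_on with
    | empty => exact ⟨∅, le_rfl, rfl, by simp⟩
    | insert x S _ ih =>
      obtain ⟨T, h1, h2, h3⟩ := ih
      have e : ∀ U : Finset G, frattini G ⊔ closure ((insert x U : Finset G) : Set G) =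
          frattini G ⊔ closure (U : Set G) ⊔ zpowers x := fun U => by
        rw [Finset.coe_insert, Set.insert_eq, Set.union_comm, Subgroup.closure_union, sup_assoc,
          zpowers_eq_closure]
      by_cases hx : x ∈ frattini G ⊔ closure (T : Set G)
      · exact ⟨T, h1.trans (Finset.subset_insert _ _), by
          rw [e, ← h2, sup_eq_left.2 (zpowers_le.2 hx)], h3⟩
      · have hT : x ∉ T := fun h => hx (mem_sup_right (subset_closure h))
        refine ⟨insert x T, Finset.insert_subset_insert _ h1, by rw [e, e, h2], ?_⟩
        rw [e, CfsgH2.card_sup_zpowers (p := p) (le_norm_of_der_le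
          ((CfsgH2.commutator_le_frattini hG).trans le_sup_left) le_top (mem_top x)) hx
          (mem_sup_left (CfsgH2.pow_mem_frattini hG x)), h3, Finset.card_insert_of_notMem hT]
        ring
  have k2 : ∀ S : Finset G, closure (S : Set G) = ⊤ → ∃ T ⊆ S, T.card = n ∧ closure (T : Set G) = ⊤ :=
    fun S hS => by
    obtain ⟨T, h1, h2, h3⟩ := key S
    rw [hS, sup_top_eq] at h2
    rw [h2, card_top, ← (frattini G).card_mul_index, hn] at h3
    exact ⟨T, h1, (Nat.pow_right_injective (Fact.out : p.Prime).two_le
      (Nat.eq_of_mul_eq_mul_left Nat.card_pos h3)).symm,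
      eq_top_of_sup_le_frattini le_rfl (by rw [sup_comm]; exact h2)⟩
  refine ⟨k2, fun T hT => ?_⟩
  obtain ⟨U, h1, h2, -⟩ := k2 T hT
  exact h2 ▸ Finset.card_le_card h1

end Cfsg.Agent.S0014
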