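import Cfsg.Statements.S0015
import Cfsg.Agent.FT.Min
import Cfsg.Agent.H1.Solv
import Cfsg.Agent.H2.PGroup2

set_option autoImplicit false
open Cfsg

namespace Cfsg.Agent.S0015

/-- In a finite nilpotent group, an abelian normal subgroup that is maximal among abelian normal subgroups equals its own centralizer. -/
theorem result {G : Type*} [Group G] [Finite G] [Group.IsNilpotent G]
    (N : Subgroup G) [N.Normal] [IsMulCommutative N]
    (hmax : ∀ M : Subgroup G, M.Normal → IsMulCommutative M → N ≤ M → M = N) :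
    Subgroup.centralizer (N : Set G) = N := by
  refine le_antisymm ?_ (CfsgFT.comm_iff.1 inferInstance)
  by_contra hc
  let C := Subgroup.centralizer (N : Set G)
  have hne : C.map (QuotientGroup.mk' N) ≠ ⊥ := by rwa [Ne, CfsgH1.map_mk'_eq_bot_iff]
  haveI : (C.map (QuotientGroup.mk' N)).Normal :=
    Subgroup.Normal.map inferInstance _ (QuotientGroup.mk'_surjective N)
  obtain ⟨_, ⟨⟨x, hx, rfl⟩, h2⟩, h1⟩ := CfsgFT.exists_mem_ne_one
    (CfsgFT.inf_centralizer_ne_bot_of_nilpotent (K := ⊤) inferInstance le_top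
    Subgroup.le_normalizer_of_normal hne)
  have h3 : ∀ g : G, g * x * g⁻¹ * x⁻¹ ∈ N := fun g => by
    rw [← QuotientGroup.eq_one_iff]
    have := h2 (g : G ⧸ N) (Subgroup.mem_top _)
    simp only [QuotientGroup.mk'_apply] at this
    simp [this]
  have h4 := hmax (N ⊔ Subgroup.zpowers x) (CfsgFT.normal_of_top_le
    (CfsgH2.le_normalizer_sup_zpowers Subgroup.le_normalizer_of_normal fun g _ => h3 g))
    (CfsgH2.isMulCommutative_sup_zpowers inferInstance hx) le_sup_left
  exact h1 ((QuotientGroup.eq_one_iff _).2 (h4 ▸ Subgroup.mem_sup_right (Subgroup.mem_zpowers x)))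

end Cfsg.Agent.S0015
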