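import Cfsg.Statements.S0020
import Cfsg.Agent.H1.Fact

set_option autoImplicit false
open Pointwise
open Cfsg

namespace Cfsg.Agent.S0020

/-- A finite solvable group admits a Sylow system: Sylow subgroups, one for each prime, that pairwise permute as sets. -/
theorem result {G : Type*} [Group G] [Finite G] [Group.IsSolvable G] :
    ∃ S : (p : Nat.Primes) → Sylow (p : ℕ) G,
      ∀ p q : Nat.Primes, (S p : Set G) * (S q : Set G) = (S q : Set G) * (S p : Set G) := by
  obtain ⟨K, hK⟩ := CfsgH1.exists_complSys (G := G)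
  have h : ∀ p : Nat.Primes, ∃ P : Sylow (p : ℕ) G, (P : Subgroup G) = CfsgH1.sysHall K {(p : ℕ)} :=
    fun p => by
      haveI := Fact.mk p.2
      exact (CfsgFT.hall_singleton_iff.1 (CfsgH1.hall_sysHall hK _)).of_top
  choose S hS using h
  refine ⟨S, fun p q => ?_⟩
  have key : ∀ p q : Nat.Primes, (S p : Set G) * (S q : Set G) =
      CfsgH1.sysHall K ({(p : ℕ)} ∪ {(q : ℕ)}) := fun p q => by
    rw [(CfsgH1.fac_sysHall hK {(p : ℕ)} {(q : ℕ)}).set_eq (CfsgH1.sysHall_mono K Set.subset_union_left)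
      (CfsgH1.sysHall_mono K Set.subset_union_right), ← hS, ← hS]; rfl
  rw [key, key, Set.union_comm]

end Cfsg.Agent.S0020
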