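import Cfsg.Statements.S0021
import Cfsg.Agent.H1.Fact

set_option autoImplicit false
open Pointwise
open Cfsg

namespace Cfsg.Agent.S0021

/-- A finite group with a family of pairwise permuting Sylow subgroups, one for each prime, is solvable (this direction rests on Burnside's two-prime Theorem). -/
theorem result {G : Type*} [Group G] [Finite G]
    (S : (p : Nat.Primes) → Sylow (p : ℕ) G)
    (hS : ∀ p q : Nat.Primes, (S p : Set G) * (S q : Set G) = (S q : Set G) * (S p : Set G)) :
    Group.IsSolvable G := by
  classical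
  refine CfsgH1.solvable_of_sylow_basis
    (S := fun q => if h : q.Prime then (S ⟨q, h⟩ : Subgroup G) else ⊥) (fun q => ?_) fun p q => ?_
  · split_ifs with h
    · haveI := Fact.mk h
      exact (CfsgH2.IsSylowIn.of_sylow_top (S ⟨q, h⟩)).hall
    · exact CfsgFT.Hall.bot fun r hr _ e => h (e ▸ hr)
  · split_ifs with h1 h2
    · exact CfsgH1.prm_of_set_comm (hS ⟨p, h1⟩ ⟨q, h2⟩)
    · exact (CfsgH1.prm_bot _).symm
    · exact CfsgH1.prm_bot _
    · exact CfsgH1.prm_bot _

end Cfsg.Agent.S0021
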