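import Cfsg.Statements.S0031
import Cfsg.Agent.H1.Fact

set_option autoImplicit false
open Cfsg

namespace Cfsg.Agent.S0031

/-- A fixed-point-free automorphism of a finite group maps some Sylow p-subgroup to itself. -/
theorem result {G : Type*} [Group G] [Finite G] (φ : G ≃* G)
    (hφ : MonoidHom.FixedPointFree (φ : G →* G)) (p : ℕ) [Fact p.Prime] :
    ∃ P : Sylow p G, (P : Subgroup G).map (φ : G →* G) = P := by
  obtain ⟨P⟩ : Nonempty (Sylow p G) := inferInstance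
  have h1 := (CfsgH2.IsSylowIn.of_sylow_top P).map (φ : G →* G)
  rw [Subgroup.map_top_of_surjective _ φ.surjective] at h1
  obtain ⟨g, -, hg⟩ := (CfsgH2.IsSylowIn.of_sylow_top P).exists_cj_eq h1
  obtain ⟨x, rfl⟩ := hφ.commutatorMap_surjective g⁻¹⁻¹⁻¹ |>.imp fun x hx => (by
    simpa using congrArg Inv.inv hx : (MonoidHom.commutatorMap (φ : G →* G) x)⁻¹ = g)
  obtain ⟨Q, hQ⟩ := ((CfsgH2.IsSylowIn.of_sylow_top P).cj_of_mem_normalizer
    (g := x⁻¹) (CfsgFT.le_norm_top ⊤ trivial)).of_top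
  refine ⟨Q, ?_⟩
  rw [hQ, CfsgH2.cj_eq_smul, CfsgH1.map_conj_smul, ← hg, ← CfsgH2.cj_eq_smul, CfsgH2.cj_cj]
  congr 1
  simp [MonoidHom.commutatorMap_apply, div_eq_mul_inv]

end Cfsg.Agent.S0031
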