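import Cfsg.Statements.S0032
import Cfsg.Agent.H1.Fact

set_option autoImplicit false
open Cfsg

namespace Cfsg.Agent.S0032

/-- If an automorphism of a finite group fixes only the identity and maps a normal subgroup N into itself, then the only cosets of N it fixes are those in N: a fixed coset xN forces x ∈ N. -/
theorem result {G : Type*} [Group G] [Finite G] (φ : G ≃* G)
    (hφ : MonoidHom.FixedPointFree (φ : G →* G)) (N : Subgroup G) [N.Normal] (hN : ∀ n ∈ N, φ n ∈ N)
    (x : G) (hx : (φ x)⁻¹ * x ∈ N) : x ∈ N := by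
  let ψ : N →* N := ((φ : G →* G).comp N.subtype).codRestrict N fun n => hN n n.2
  have hψ : MonoidHom.FixedPointFree ψ := fun n hn => Subtype.ext (hφ n (congrArg Subtype.val hn))
  have h1 : x * (φ x)⁻¹ ∈ N := by
    have := Subgroup.Normal.conj_mem inferInstance _ hx (φ x)
    have h2 : φ x * ((φ x)⁻¹ * x) * (φ x)⁻¹ = x * (φ x)⁻¹ := by group
    rwa [h2] at this
  obtain ⟨n, hn⟩ := hψ.commutatorMap_surjective ⟨_, h1⟩
  have h2 : MonoidHom.commutatorMap (φ : G →* G) n = MonoidHom.commutatorMap (φ : G →* G) x := by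
    have := congrArg Subtype.val hn
    simp only [MonoidHom.commutatorMap_apply, div_eq_mul_inv] at this ⊢
    exact this
  rw [← hφ.commutatorMap_injective h2]; exact n.2

end Cfsg.Agent.S0032
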