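import Cfsg.Statements.S0040
import Cfsg.Agent.H1.Prim
import Cfsg.Agent.S0016

set_option autoImplicit false
open Cfsg

namespace Cfsg.Agent.S0040

/-- Sylow subgroups of Frobenius complements: if H complements a nontrivial normal subgroup K and every nonidentity element of H has trivial centraliser in K, then each Sylow subgroup of H is cyclic or isomorphic to a generalized quaternion group. -/
theorem result {G : Type*} [Group G] [Finite G] (K H : Subgroup G) [K.Normal]
    (hc : Subgroup.IsComplement' K H) (hK : K ≠ ⊥) (hfpf : ∀ h ∈ H, h ≠ 1 → K ⊓ Subgroup.centralizer {h} = ⊥)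
    (p : ℕ) [Fact p.Prime] (P : Sylow p H) :
    IsCyclic P ∨ ∃ n : ℕ, Nonempty (P ≃* QuaternionGroup (2 ^ n)) := by
  open Subgroup CfsgH1 CfsgFT in
  refine (Cfsg.Agent.S0016.result p P.2 fun X Y hX hY => ?_).imp_right And.right
  have hp : p.Prime := Fact.out
  have hP : IsPGroup p P := P.2
  haveI : Nontrivial P := by
    obtain ⟨x, hx, -⟩ := exists_zpowers_of_card_prime (hX ▸ hp)
    exact ⟨x, 1, hx⟩
  obtain ⟨Z, hZ⟩ := exists_elem_one (dvd_card_of_isPGroup (hP.to_subgroup _)
    (center_ne_bot (H := (⊤ : Subgroup P)) (hP.to_subgroup _).isNilpotent top_ne_bot))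
  rw [elem_one_iff] at hZ
  let f : P →* G := H.subtype.comp (P : Subgroup H).subtype
  have hf : Function.Injective f := H.subtype_injective.comp (P : Subgroup H).subtype_injective
  have key : ∀ X : Subgroup P, Nat.card X = p → X = Z := fun X hX => by
    by_contra ne
    have hE := elem_two_sup (H := ⊤) le_top le_top hX hZ.2 ne
      (hZ.1.trans (inf_le_right.trans (cent_anti le_top)))
    have h1 : (X ⊔ Z).map f ≤ H := by rintro _ ⟨x, -, rfl⟩; exact (x : H).2
    have hreg : ∀ a ∈ (X ⊔ Z).map f, a ≠ 1 → K ⊓ C1(a) = ⊥ := fun a ha => hfpf a (h1 ha)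
    haveI := (ea_map hE.ea f).1
    have hd := card_dvd_card_sub_one le_normalizer_of_normal hreg
    have hcy := isCyclic_of_fpf le_normalizer_of_normal (((Nat.coprime_self_sub_left
      (Nat.card_pos (α := K))).2 (Nat.coprime_one_left _)).coprime_dvd_left hd) hK hreg
    exact not_isCyclic_of_elem hE le_rfl
      (isCyclic_of_surjective _ (equivMapOfInjective _ _ hf).symm.surjective)
  rw [key X hX, key Y hY]

end Cfsg.Agent.S0040
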