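import Cfsg.Statements.S0048
import Cfsg.Agent.H1.Fact

set_option autoImplicit false
open Cfsg

namespace Cfsg.Agent.S0048

/-- In a finite solvable group every maximal subgroup has index a prime power. -/
theorem result {G : Type*} [Group G] [Finite G] [Group.IsSolvable G]
    (M : Subgroup G) (hM : IsCoatom M) : IsPrimePow M.index := by
  obtain ⟨N, hN⟩ := exists_minimal_of_wellFoundedLT (fun N : Subgroup G => N.Normal ∧ ¬ N ≤ M)
    ⟨⊤, inferInstance, fun h => hM.1 (top_unique h)⟩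
  obtain ⟨n1, n2⟩ := hN.prop
  have hb : N ≠ ⊥ := fun e => n2 (e ▸ bot_le)
  have hlt := CfsgH1.commutator_lt_of_isSolvable (M := N) inferInstance hb
  have h1 : ⁅N, N⁆ ≤ M := by
    by_contra h
    exact hlt.not_ge (hN.le_of_le ⟨inferInstance, h⟩ hlt.le)
  have hs : N ⊔ M = ⊤ := by
    rw [sup_comm]; exact hM.2 _ (left_lt_sup.2 n2)
  have hi : M.index = M.relIndex N := by
    rw [← Subgroup.relIndex_top_right, ← hs, CfsgFT.relIndex_sup_norm' Subgroup.le_normalizer_of_normal]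
  have hnorm : (N ⊓ M).Normal := CfsgFT.normal_of_top_le (hs ▸ sup_le
    (CfsgFT.le_norm_of_der_le (le_inf hlt.le h1) inf_le_left)
    (CfsgH1.le_normalizer_inf Subgroup.le_normalizer_of_normal Subgroup.le_normalizer))
  obtain ⟨p, hp, hd⟩ : ∃ p : ℕ, p.Prime ∧ p ∣ M.index := Nat.exists_prime_and_dvd
    (by rw [Ne, Subgroup.index_eq_one]; exact hM.1)
  haveI := Fact.mk hp
  obtain ⟨P, hP⟩ := CfsgH2.IsSylowIn.exists_sylowIn p N
  have hPM : ¬ P ≤ M := fun h => hP.not_dvd_of_le (le_inf hP.le h) inf_le_left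
    (by rwa [Subgroup.inf_relIndex_left, ← hi])
  have hn2 : (N ⊓ M ⊔ P).Normal := by
    refine CfsgFT.normal_of_top_le (hs ▸ sup_le (CfsgFT.le_norm_of_der_le
      ((le_inf hlt.le h1).trans le_sup_left) (sup_le inf_le_left hP.le)) fun m hm => ?_)
    obtain ⟨n, hn, h⟩ := hP.frattini (g := m) (Subgroup.le_normalizer_of_normal hm)
    have h3 : n * m ∈ Subgroup.normalizer ((N ⊓ M ⊔ P : Subgroup G) : Set G) :=
      CfsgH1.le_normalizer_sup Subgroup.le_normalizer_of_normal le_rfl h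
    have h4 := CfsgFT.le_norm_of_der_le
      ((le_inf hlt.le h1).trans (le_sup_left (b := P))) (sup_le inf_le_left hP.le) hn
    simpa using Subgroup.mul_mem _ (Subgroup.inv_mem _ h4) h3
  have h5 : N ⊓ M ⊔ P = N := le_antisymm (sup_le inf_le_left hP.le)
    (hN.le_of_le ⟨hn2, fun h => hPM (le_sup_right.trans h)⟩ (sup_le inf_le_left hP.le))
  obtain ⟨k, hk⟩ := CfsgFT.relIndex_eq_pow hP.pgroup (N ⊓ M)
  rw [← CfsgFT.relIndex_sup_norm Subgroup.le_normalizer_of_normal, h5, Subgroup.inf_relIndex_left,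
    ← hi] at hk
  refine ⟨p, k, hp.prime, Nat.pos_of_ne_zero ?_, hk.symm⟩
  rintro rfl
  rw [hk] at hd; exact hp.one_lt.ne' (Nat.dvd_one.1 hd)

end Cfsg.Agent.S0048
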