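import Cfsg.Statements.S0050
import Cfsg.Agent.H1.Hall

set_option autoImplicit false
open Cfsg

namespace Cfsg.Agent.S0050

/-- Frattini argument for Hall subgroups: if L is a solvable normal subgroup and H a subgroup of L of order coprime to its index in L, then L together with the normaliser of H generates the whole group. -/
theorem result {G : Type*} [Group G] [Finite G] (L : Subgroup G) [L.Normal] (hL : Group.IsSolvable L)
    (H : Subgroup G) (hHL : H ≤ L) (hHall : (Nat.card H).Coprime (H.relIndex L)) :
    L ⊔ Subgroup.normalizer (H : Set G) = ⊤ := by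
  have h1 : IsPiHallOf {p | ¬ p ∣ H.relIndex L} H L :=
    ⟨hHL, CfsgH1.IsPiNum.coprime_iff.mpr hHall, fun _ _ hp => hp⟩
  rw [eq_top_iff]
  intro g _
  obtain ⟨l, hl, h⟩ := (CfsgH1.piSep_of_isSolvable (G := L) False _).hallOf_conj
    (CfsgH1.IsPiHallOf.conj h1 (g := g) (by rw [Subgroup.normalizer_eq_top]; trivial)) h1 False.elim
  rw [CfsgH1.conj_smul_conj_smul, CfsgH1.conj_smul_eq_iff_mem_normalizer] at h
  have := mul_mem (Subgroup.mem_sup_left (inv_mem hl) : _ ∈ L ⊔ Subgroup.normalizer (H : Set G))
    (Subgroup.mem_sup_right h)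
  simpa using this

end Cfsg.Agent.S0050
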