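import Cfsg.Statements.S0054
import Cfsg.Agent.H1.Prim

set_option autoImplicit false
open Cfsg

namespace Cfsg.Agent.S0054

/-- A regular normal subgroup of a finite 2-transitive group is elementary abelian: it is commutative and all its elements have order dividing one prime. -/
theorem result {G : Type*} [Group G] [Finite G]
    {X : Type*} [Nonempty X] [MulAction G X] (h2 : MulAction.IsMultiplyPretransitive G X 2)
    (N : Subgroup G) [N.Normal] (htrans : MulAction.IsPretransitive N X) (hreg : ∀ x : X, MulAction.stabilizer N x = ⊥) :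
    IsMulCommutative N ∧ ∃ p : ℕ, p.Prime ∧ ∀ n ∈ N, n ^ p = 1 := by
  open Subgroup CfsgH1 CfsgFT in
  obtain ⟨x⟩ := ‹Nonempty X›
  have reg : ∀ n ∈ N, n • x = x → n = 1 := fun n hn h =>
    congrArg Subtype.val ((hreg x).le (show (⟨n, hn⟩ : N) ∈ MulAction.stabilizer N x from h))
  have key : ∀ n ∈ N, ∀ m ∈ N, n ≠ 1 → m ≠ 1 → ∃ g : G, g * n * g⁻¹ = m := fun n hn m hm n1 m1 => by
    obtain ⟨g, h1, h2⟩ := MulAction.is_two_pretransitive_iff.1 h2
      (fun e => n1 (reg n hn e.symm)) (fun e => m1 (reg m hm e.symm))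
    refine ⟨g, (inv_mul_eq_one.1 (reg _ (mul_mem (inv_mem hm) (Normal.conj_mem inferInstance n hn g))
      ?_)).symm⟩
    rw [mul_smul, mul_smul, mul_smul, inv_smul_eq_iff, inv_smul_eq_iff.2 h1.symm, h2]
  by_cases hb : N = ⊥
  · subst hb
    exact ⟨inferInstance, 2, Nat.prime_two, fun n hn => by rw [mem_bot.1 hn, one_pow]⟩
  obtain ⟨p, hp, hd⟩ := exists_prime_dvd_card hb
  haveI := Fact.mk hp
  obtain ⟨y, hy, ho⟩ := exists_orderOf_eq_prime hp hd
  have y1 : y ≠ 1 := by rintro rfl; simp at ho; exact hp.one_lt.ne ho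
  have he : ∀ n ∈ N, n ^ p = 1 := fun n hn => by
    by_cases n1 : n = 1
    · rw [n1, one_pow]
    obtain ⟨g, rfl⟩ := key y hy n hn y1 n1
    rw [conj_pow, ← ho, pow_orderOf_eq_one]; simp
  refine ⟨comm_iff.2 fun n hn => ?_, p, hp, he⟩
  obtain ⟨z, hz, z1⟩ := exists_mem_ne_one (center_ne_bot (isPGroup_of_forall_pow_eq_one he).isNilpotent hb)
  by_cases n1 : n = 1
  · rw [n1]; exact one_mem _
  obtain ⟨g, rfl⟩ := key z hz.1 n hn z1 n1
  exact Normal.conj_mem inferInstance z hz.2 g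

end Cfsg.Agent.S0054
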