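import Cfsg.Statements.S0057
import Cfsg.Agent.H1.Prim

set_option autoImplicit false
open Cfsg

namespace Cfsg.Agent.S0057

/-- Under coprime action, if the centraliser of A in K has prime index p in K then the commutator subgroup [K, A] has order exactly p. -/
theorem result {G : Type*} [Group G] [Finite G] (A K : Subgroup G) (hAK : A ≤ Subgroup.normalizer (K : Set G))
    (hcop : (Nat.card A).Coprime (Nat.card K)) (hsolv : Group.IsSolvable A ∨ Group.IsSolvable K)
    (p : ℕ) (hp : p.Prime) (hidx : (K ⊓ Subgroup.centralizer (A : Set G)).relIndex K = p) :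
    Nat.card (⁅K, A⁆ : Subgroup G) = p := by
  open Subgroup CfsgH1 CfsgFT in
  haveI := Fact.mk hp
  obtain ⟨P, hP, hAP⟩ := exists_invariant_sylow hAK hcop hsolv p
  have hnl : ¬ P ≤ K ⊓ C(A) := fun h => hP.not_dvd_of_le h inf_le_left hidx.symm.dvd
  have h1 := le_relIndex_of_not_le hP.pgroup hnl
  have f := Fac.of_relIndex hP.le inf_le_left (hidx ▸ h1)
  have h2 := f.relIndex hP.le inf_le_left
  have e : ⁅K, A⁆ = ⁅P, A⁆ := le_antisymm (commutator_le_of_forall_mul fun k hk => by
    obtain ⟨a, ha, b, hb, e⟩ := f k hk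
    exact ⟨a, ha, b, hb.2, e.symm⟩) (commutator_mono hP.le le_rfl)
  have hDP : ⁅P, A⁆ ≤ P := comm_le_left hAP
  have cop := coprime_mono hcop le_rfl hP.le
  have h3 : (P ⊓ C(A)).relIndex P = p := by
    rw [← hidx, ← h2, ← inf_relIndex_right (K ⊓ C(A)), inf_right_comm, inf_eq_right.2 hP.le]
  have n0 : P ≤ N(P ⊓ C(A)) := le_norm_of_relIndex_le hP.pgroup inf_le_left h3.le
  have h4 : ⁅P, A⁆ ≤ C(P ⊓ C(A)) := cent_of_comm_eq_bot (by
    rw [Subgroup.commutator_comm P A]
    refine commutator_commutator_eq_bot_of_rotate ?_ ?_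
    · exact eq_bot_iff.2 ((commutator_mono (comm_le_right n0) le_rfl).trans
        (comm_eq_bot inf_le_right).le)
    · rw [comm_eq_bot inf_le_right, commutator_bot_left])
  set D := ⁅P, A⁆ with hD
  have hDD : ⁅D, A⁆ = D := commutator_commutator_eq hAP cop
  have hAD : A ≤ N(D) := normalizer_commutator_ge_right P A
  have hnl2 : ¬ D ≤ C(A) := fun h => hnl (le_inf hP.le (cent_of_comm_eq_bot
    (hDD.symm.trans (comm_eq_bot h))))
  have h5 : (D ⊓ C(A)).relIndex D = p := by
    refine le_antisymm ?_ (le_relIndex_of_not_le (hP.pgroup.to_le hDP) fun h => hnl2 (h.trans inf_le_right))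
    rw [inf_relIndex_left, ← h3, inf_relIndex_left]
    exact relIndex_le_of_le_right hDP (CfsgH2.relIndex_ne_zero _ _)
  obtain ⟨x, hx, hx'⟩ := SetLike.not_le_iff_exists.1 hnl2
  have h6 : (D ⊓ C(A)) ⊔ zpowers x = D := by
    have := congrArg (map D.subtype) (sup_zpowers_eq_top_of_index_prime (N := (D ⊓ C(A)).subgroupOf D)
      (h5 ▸ hp : ((D ⊓ C(A)).relIndex D).Prime) (x := ⟨x, hx⟩) fun h => hx' h.2)
    rwa [Subgroup.map_sup, MonoidHom.map_zpowers, ← MonoidHom.range_eq_map, range_subtype,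
      map_subgroupOf_eq_of_le inf_le_left] at this
  have h7 : D ≤ C(D ⊓ C(A)) := cent_mono h4 le_rfl (inf_le_inf_right _ hDP)
  have h8 : D ≤ C(D) := by
    conv_lhs => rw [← h6]
    refine sup_le (cent_symm h7) ?_
    conv_rhs => rw [← h6]
    exact le_cent_sup ((zpowers_le.2 hx).trans h7) (comm_of_cyclic inferInstance)
  have h9 := coprime_comm_inf_cent h8 hAD (coprime_mono cop le_rfl hDP)
  rw [hDD] at h9
  rw [e, ← h5, h9, relIndex_bot_left]

end Cfsg.Agent.S0057
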