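import Cfsg.Statements.S0060
import Cfsg.Agent.H1.Prim

set_option autoImplicit false
open Pointwise
open Cfsg

namespace Cfsg.Agent.S0060

/-- Brodkey's Theorem: in a finite group with abelian Sylow p-subgroups and no nontrivial normal p-subgroup, some conjugate of a Sylow p-subgroup meets it trivially. -/
theorem result {G : Type*} [Group G] [Finite G] (p : ℕ) [Fact p.Prime]
    (S : Sylow p G) (hS : IsMulCommutative S) (hOp : Cfsg.pCore p G = ⊥) :
    ∃ g : G, (S : Subgroup G) ⊓ MulAut.conj g • (S : Subgroup G) = ⊥ := by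
  open Subgroup CfsgH1 CfsgFT CfsgH2 in
  obtain ⟨D, ⟨g, hg⟩, hmin⟩ := exists_minimal_of_wellFoundedLT
    (fun D : Subgroup G => ∃ g, (S : Subgroup G) ⊓ cj g S = D) ⟨_, 1, rfl⟩
  have hc : (S : Subgroup G) ≤ C((S : Subgroup G)) := comm_iff.1 hS
  have hS' := IsSylowIn.of_sylow_top S
  have h1 : (S : Subgroup G) ≤ N(D) := le_norm_of_comm hc (hg ▸ inf_le_left)
  have h2 : cj g S ≤ N(D) := le_norm_of_comm (cj_le_cent_cj hc g) (hg ▸ inf_le_right)
  have h3 : IsSylowIn p (cj g S) N(D) := (hS'.cj_of_mem_normalizer (le_norm_top ⊤ trivial)).mono h2 le_top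
  refine ⟨g, hg.trans (eq_bot_iff.2 (hOp ▸ le_trans ?_
    (le_pCore (N := (S : Subgroup G).normalCore) (S.2.to_le (normalCore_le _)))))⟩
  intro d hd y
  obtain ⟨x, hx, h4⟩ := h3.exists_cj_le (Q := cj y⁻¹ S ⊓ N(D)) ((IsPGroup_cj S.2 _).to_le inf_le_left)
    inf_le_right
  have h5 := hmin ⟨x * y⁻¹, rfl⟩ (hg ▸ le_inf inf_le_left (le_trans ?_ h4))
  · have := (mem_inf.1 (h5 (CfsgH2.conj_mem_of_mem_normalizer hx hd))).2
    rw [← cj_cj, conj_mem_cj_iff, mem_cj, inv_inv] at this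
    exact this
  · rw [cj_inf, cj_cj, cj_eq_of_mem hx, inf_comm]
    exact inf_le_inf_left _ h1

end Cfsg.Agent.S0060
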