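import Cfsg.Statements.S0063
import Cfsg.Agent.H1.Prim

set_option autoImplicit false
open Cfsg

namespace Cfsg.Agent.S0063

/-- A finite group of prime-power order p ^ m with m > 1 is nilpotent of class at most m - 1. -/
theorem result {G : Type*} [Group G] [Finite G] (p m : ℕ) [Fact p.Prime]
    (hG : Nat.card G = p ^ m) (hm : 1 < m) : Group.nilpotencyClass G ≤ m - 1 := by
  open Subgroup CfsgH1 CfsgFT in
  induction m using Nat.strong_induction_on generalizing G with | _ m ih => ?_
  have hp : IsPGroup p G := IsPGroup.of_card hG
  haveI := hp.isNilpotent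
  haveI : Nontrivial G := by
    rw [← Finite.one_lt_card_iff_nontrivial, hG]
    exact Nat.one_lt_pow (by omega) (Fact.out : p.Prime).one_lt
  obtain ⟨k, hk⟩ := (hp.to_quotient (center G)).exists_card_eq
  have hZ : center G ≠ ⊥ := (nontrivial_iff_ne_bot _).1 hp.center_nontrivial
  have h1 := card_quotient_lt hZ
  rw [hk, hG, Nat.pow_lt_pow_iff_right (Fact.out : p.Prime).one_lt] at h1
  by_cases h2 : 1 < k
  · have := ih k h1 hk h2
    rw [Group.nilpotencyClass_eq_quotient_center_plus_one]
    omega
  · have : IsCyclic (G ⧸ center G) := by
      rcases Nat.eq_zero_or_pos k with rfl | h3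
      · haveI := (Nat.card_eq_one_iff_unique.1 (by simpa using hk)).1
        infer_instance
      · exact isCyclic_of_prime_card (p := p) (by rw [hk, show k = 1 by omega, pow_one])
    have h3 : Group.nilpotencyClass G ≤ 1 := by
      rw [← Subgroup.upperCentralSeries_eq_top_iff_nilpotencyClass_le, Subgroup.upperCentralSeries_one]
      exact top_unique fun x _ => mem_center_iff.2 fun y =>
        commutative_of_cyclic_center_quotient (QuotientGroup.mk' (center G)) (by simp) y x
    omega

end Cfsg.Agent.S0063
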