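import Cfsg.Statements.S0064
import Cfsg.Agent.FT.Pi

set_option autoImplicit false
open Cfsg

namespace Cfsg.Agent.S0064

/-- A finite group is nilpotent exactly when each of its subgroups is subnormal. -/
theorem result {G : Type*} [Group G] [Finite G] :
    Group.IsNilpotent G ↔ ∀ H : Subgroup G, H.IsSubnormal := by
  refine ⟨fun h H => CfsgLead.SN.top_iff.1 (CfsgFT.sn_of_nilpotent inferInstance le_top), fun h => ?_⟩
  refine (Group.isNilpotent_of_finite_tfae.out 0 3).2 fun p _ P => ?_
  have : (P : Subgroup G) = pCore p G :=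
    le_antisymm (CfsgH1.le_pCore_of_isSubnormal (h _) P.2) (CfsgH1.pCore_le_sylow P)
  rw [this]
  infer_instance

end Cfsg.Agent.S0064
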