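import Cfsg.Statements.S0069
import Cfsg.Agent.H1.Prim

set_option autoImplicit false
open Cfsg

namespace Cfsg.Agent.S0069

/-- A Frobenius complement has nontrivial centre: if H ≠ 1 complements a nontrivial normal subgroup K and every nonidentity element of H has trivial centraliser in K, then the centre of H is nontrivial. -/
theorem result {G : Type*} [Group G] [Finite G] (K H : Subgroup G) [K.Normal]
    (hc : Subgroup.IsComplement' K H) (hK : K ≠ ⊥) (hH : H ≠ ⊥) (hfpf : ∀ h ∈ H, h ≠ 1 → K ⊓ Subgroup.centralizer {h} = ⊥) :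
    Subgroup.center H ≠ ⊥ := by
  open Subgroup CfsgH1 CfsgFT in
  have nK : ∀ X : Subgroup G, X ≤ N(K) := fun _ => le_normalizer_of_normal
  suffices h : H ⊓ C(H) ≠ ⊥ by
    obtain ⟨z, hz, z1⟩ := exists_mem_ne_one h
    exact ne_bot_of_mem (x := (⟨z, hz.1⟩ : H)) (mem_center_iff.2 fun a =>
      Subtype.ext (mem_cent.1 hz.2 a a.2)) fun e => z1 (congrArg Subtype.val e)
  by_cases h2 : 2 ∣ Nat.card H
  · obtain ⟨t, ht, ho⟩ := exists_orderOf_eq_prime Nat.prime_two h2
    have t1 : t ≠ 1 := by rintro rfl; simp at ho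
    have tt : t * t = 1 := by rw [← pow_two, ← ho, pow_orderOf_eq_one]
    refine ne_bot_of_mem (mem_inf.2 ⟨ht, mem_cent.2 fun a ha => ?_⟩) t1
    have hs : a * t * a⁻¹ ∈ H := mul_mem (mul_mem ha ht) (inv_mem ha)
    have i1 := inverts_of_fpf (nK H ht) tt (hfpf t ht t1)
    have i2 := inverts_of_fpf (nK H hs) (by rw [conj_mul, tt]; simp) (hfpf _ hs (by simpa using t1))
    by_contra ne
    refine hK ((inf_eq_left.2 fun k hk => mem_cent1.2 ?_).symm.trans
      (hfpf (t⁻¹ * (a * t * a⁻¹)) (mul_mem (inv_mem ht) hs) fun e => ne ?_))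
    · have := (i2 k hk).trans (i1 k hk).symm
      calc _ = t⁻¹ * (a * t * a⁻¹ * k * (a * t * a⁻¹)⁻¹) * (a * t * a⁻¹) := by group
        _ = _ := by rw [this]; group
    · rw [inv_mul_eq_one, eq_mul_inv_iff_mul_eq] at e; exact e.symm
  have ho : Odd (Nat.card H) := Nat.odd_iff.2 (by omega)
  have cop := ((Nat.coprime_self_sub_left (Nat.card_pos (α := K))).2
    (Nat.coprime_one_left _)).coprime_dvd_left (card_dvd_card_sub_one (nK H) hfpf)
  have hr : rank H ≤ 1 := rank_le_iff'.2 fun p hp => by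
    haveI := Fact.mk hp
    by_contra h
    obtain ⟨A, hA⟩ := le_rk_iff.1 (not_le.1 h)
    haveI := hA.ea.1
    exact not_isCyclic_of_elem hA le_rfl (isCyclic_of_fpf (nK A) (coprime_mono cop hA.le le_rfl) hK
      fun a ha => hfpf a (hA.le ha))
  haveI hZ := isZGroup_of_rank ho hr
  have hs : Group.IsSolvable H := inferInstance
  have hp := Nat.minFac_prime (n := Nat.card H) (by rwa [Ne, card_eq_one])
  set p := (Nat.card H).minFac with hpd
  haveI := Fact.mk hp
  obtain ⟨R, hR⟩ := exists_elem_one (X := H) (Nat.minFac_dvd _)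
  rw [elem_one_iff] at hR
  have hRp : IsPGroup p R := IsPGroup.of_card (n := 1) (by rw [hR.2, pow_one])
  have hF := cyclic_of_nil_of_rank (fit_nilpotent H) (ho.of_dvd_nat (card_dvd_of_le (fit_le H)))
    ((rank_mono (fit_le H)).trans hr)
  have h3 : R ≤ C(fittingOf H) := cent_symm (le_of_nilpotent_of_forall_Opi (fit_nilpotent H)
    fun q hq _ => by
    have n : ∀ X ≤ fittingOf H, R ≤ N(X) := fun X hX =>
      le_norm_of_cyclic hF hX (hR.1.trans (le_normalizer_fit H))
    have hl := (Opi_le {q} (fittingOf H))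
    by_cases e : q = p
    · subst e
      exact cent_mono (comm_of_cyclic (CfsgFT.cyclic_of_zgroup hZ (pgroup_sup (isPGroup_Opi _) hRp (n _ hl))
        (sup_le (hl.trans (fit_le H)) hR.1))) le_sup_left le_sup_right
    haveI := comm_iff.2 (comm_of_cyclic (isCyclic_of_le' hF hl))
    refine le_centralizer_of_omega (n _ hl) (coprime_pgroup_p' hRp
      (isPi_compl_of_isPGroup (isPGroup_Opi _) e)) fun v hv hvo a ha => ?_
    have h4 : orderOf v = q := (isPi_Opi {q} _).orderOf hv _ hvo dvd_rfl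
    have h5 : zpowers v ≤ fittingOf H := zpowers_le.2 (hl hv)
    have h6 : Nat.card (zpowers v ⊔ R : Subgroup G) = q * p := by
      rw [card_sup_of_disjoint (n _ h5) (disjoint_iff.2 (inf_eq_bot_of_coprime' (by
        rw [Nat.card_zpowers, h4, hR.2]; exact (Nat.coprime_primes hq.out hp).2 e))),
        Nat.card_zpowers, h4, hR.2]
    have h7 := cyclic_of_fpf_of_card hK (nK _) (fun x hx =>
      hfpf x (sup_le (h5.trans (fit_le H)) hR.1 hx)) hq.out hp h6
    exact mem_cent.1 (comm_of_cyclic h7 (mem_sup_left (mem_zpowers v))) a (mem_sup_right ha))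
  have h4 : H ≤ N(R) := le_norm_of_cyclic hF ((le_inf hR.1 h3).trans (inf_centralizer_fit_le hs))
    (le_normalizer_fit H)
  refine ne_bot_of_le (ne_bot_of_dvd_card hp hR.2.symm.dvd) (le_inf hR.1 (cent_symm fun a ha => ?_))
  have h5 := pow_mem_cent_of_card_prime hp hR.2 (h4 ha)
  have h6 : (p - 1).Coprime (orderOf a) := by
    refine Nat.coprime_of_dvd fun r hr h1 h2 => ?_
    have := Nat.minFac_le_of_dvd hr.two_le (h2.trans (orderOf_dvd_natCard H ha))
    have := Nat.le_of_dvd (by have := hp.two_le; omega) h1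
    have := hp.two_le
    omega
  obtain ⟨m, hm⟩ := exists_pow_eq_self_of_coprime h6
  rw [← hm]; exact pow_mem h5 m

end Cfsg.Agent.S0069
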