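import Cfsg.Statements.S0073
import Cfsg.Agent.H2.Transfer2

set_option autoImplicit false
open Cfsg

namespace Cfsg.Agent.S0073
open Subgroup CfsgH2
open scoped commutatorElement

/-- For a finite non-abelian simple group, either the cube of the least prime divisor of the order divides the order, or 12 does. -/
theorem result {G : Type*} [Group G] [Finite G] [IsSimpleGroup G] (hG : ∃ x y : G, x * y ≠ y * x) : (Nat.card G).minFac ^ 3 ∣ Nat.card G ∨ 12 ∣ Nat.card G := by
  haveI : Nontrivial G := IsSimpleGroup.toNontrivial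
  have hp : (Nat.card G).minFac.Prime := Nat.minFac_prime Finite.one_lt_card.ne'
  have hd := (Nat.card G).minFac_dvd
  have hmin : ∀ q, q.Prime → q ∣ Nat.card G → (Nat.card G).minFac ≤ q := fun q hq h =>
    Nat.minFac_le_of_dvd hq.two_le h
  generalize (Nat.card G).minFac = p at hp hd hmin
  haveI := Fact.mk hp
  by_contra h
  push Not at h
  obtain ⟨P⟩ : Nonempty (Sylow p G) := inferInstance
  obtain ⟨n, hn⟩ := P.isPGroup'.exists_card_eq
  have hn2 : n ≤ 2 := by
    by_contra h1
    exact h.1 ((pow_dvd_pow p (by omega)).trans (hn ▸ card_subgroup_dvd_card (P : Subgroup G)))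
  have h1 := hasNPC_iff.1 (hasNPC_of_arith P hn fun q hq h1 h2 c h3 h4 h5 => ?_)
  · rcases (pResidual_normal p G).eq_bot_or_eq_top with e | e
    · obtain ⟨x, y, hxy⟩ := hG
      rw [← resIn_top, resIn_eq_bot_iff] at e
      obtain ⟨k, hk⟩ := e.exists_card_eq
      refine hxy (mul_comm_of_isMulCommutative (isMulCommutative_of_card_le_sq e ?_) (mem_top x) (mem_top y))
      rw [hk]
      refine Nat.pow_le_pow_right hp.pos (not_lt.1 fun h3 => h.1 ?_)
      rw [← Subgroup.card_top, hk]; exact pow_dvd_pow p h3
    · rw [e, Subgroup.card_top] at h1; exact h1 hd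
  · have h6 := hmin q hq h2
    have h7 := hp.two_le
    have h8 : ¬ q ∣ p - 1 := fun h => by have := Nat.le_of_dvd (by omega) h; omega
    obtain rfl | rfl : c = 1 ∨ c = 2 := by omega
    · exact h8 (by simpa using h5)
    · rw [show p ^ 2 - 1 = (p + 1) * (p - 1) by simpa using Nat.sq_sub_sq p 1] at h5
      have h9 := Nat.le_of_dvd (by omega) ((hq.dvd_mul.1 h5).resolve_right h8)
      obtain rfl : q = p + 1 := by omega
      obtain rfl : p = 2 := by
        by_contra h10
        exact (hq.odd_of_ne_two (by omega)).not_two_dvd_nat (hp.odd_of_ne_two h10).add_one.two_dvd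
      obtain rfl : n = 2 := by omega
      exact h.2 (Nat.Coprime.mul_dvd_of_dvd_of_dvd (by norm_num : Nat.Coprime 3 4) h2
        (by simpa [hn] using card_subgroup_dvd_card (P : Subgroup G)))


end Cfsg.Agent.S0073
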