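import Cfsg.Statements.S0076
import Cfsg.Agent.H2.Focal

set_option autoImplicit false
open Cfsg

namespace Cfsg.Agent.S0076
open Subgroup CfsgH2

/-- Two P-invariant subsets of a Sylow p-subgroup P that are conjugate in G are conjugate under the normalizer of P. -/
theorem result {G : Type*} [Group G] [Finite G] {p : ℕ} [Fact p.Prime] (P : Sylow p G) (X Y : Set G) (hXP : X ⊆ P) (hYP : Y ⊆ P) (hX : ∀ x ∈ P, (fun y => x * y * x⁻¹) '' X = X) (hY : ∀ x ∈ P, (fun y => x * y * x⁻¹) '' Y = Y) (g : G) (hg : (fun y => g * y * g⁻¹) '' X = Y) : ∃ n ∈ Subgroup.normalizer (P : Set G), (fun y => n * y * n⁻¹) '' X = Y := by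
  have key : ∀ Z : Set G, (∀ x ∈ P, (fun y => x * y * x⁻¹) '' Z = Z) →
      (P : Subgroup G) ≤ normalizer Z := fun Z hZ x hx =>
    mem_normalizer_iff_conj_image_eq.2 (hZ x hx)
  have h2 : cj g (P : Subgroup G) ≤ normalizer Y := by
    rw [cj_le_iff]
    intro x hx
    rw [mem_normalizer_iff_conj_image_eq, ← hg, Set.image_image]
    conv_rhs => rw [← hX x hx, Set.image_image]
    congr 1; ext y; simp [mul_assoc]
  obtain ⟨l, hl, h⟩ := burnside_fusion (IsSylowIn.of_sylow_top P) (mem_top g) (key Y hY) h2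
  refine ⟨l * g, h, ?_⟩
  have h3 := mem_normalizer_iff_conj_image_eq.1 hl.2
  rw [← h3, ← hg, Set.image_image]
  congr 1; ext y; simp [mul_assoc]


end Cfsg.Agent.S0076
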