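import Cfsg.Statements.S0077
import Cfsg.Agent.H2.Focal

set_option autoImplicit false
open Cfsg

namespace Cfsg.Agent.S0077
open Subgroup CfsgH2

/-- If a subgroup Z of the centre of a Sylow p-subgroup P is weakly closed in P, then P meets the derived subgroup of G exactly where it meets the derived subgroup of the normalizer of Z. -/
theorem result {G : Type*} [Group G] [Finite G] {p : ℕ} [Fact p.Prime] (P : Sylow p G) (Z : Subgroup G) (hZ : Z ≤ Subgroup.centralizer (P : Set G)) (hW : Cfsg.IsWeaklyClosed Z P) : commutator G ⊓ (P : Subgroup G) = ⁅Subgroup.normalizer (Z : Set G), Subgroup.normalizer (Z : Set G)⁆ ⊓ (P : Subgroup G) := by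
  rw [commutator_def]
  have hP : (P : Subgroup G) ≤ centralizer (Z : Set G) := le_centralizer_iff.1 hZ
  refine commutator_inf_eq_of_controls (IsSylowIn.of_sylow_top P)
    (hP.trans (centralizer_le_normalizer _)) le_top fun x hx g _ hgx => ?_
  have h1 : Z ≤ centralizer ({g * x * g⁻¹} : Set G) :=
    (le_centralizer_iff.1 hP).trans (centralizer_le (Set.singleton_subset_iff.2 hgx))
  have h2 : cj g Z ≤ centralizer ({g * x * g⁻¹} : Set G) := by
    rw [← cj_centralizer_singleton]
    exact cj_mono g ((le_centralizer_iff.1 hP).trans (centralizer_le (Set.singleton_subset_iff.2 hx)))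
  obtain ⟨l, hl, h⟩ := weaklyClosed_conj_in hW h1 h2
  refine ⟨_, h, ?_⟩
  rw [mem_centralizer_singleton_iff] at hl
  calc l * g * x * (l * g)⁻¹ = l * (g * x * g⁻¹) * l⁻¹ := by group
    _ = _ := by rw [hl]; group


end Cfsg.Agent.S0077
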