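import Cfsg.Statements.S0078
import Cfsg.Agent.H2.Focal

set_option autoImplicit false
open Cfsg

namespace Cfsg.Agent.S0078
open Subgroup CfsgH2

/-- In a p-normal group, a Sylow p-subgroup P meets O^p(G) exactly where it meets O^p(V), for any subgroup V containing the normalizer of the centre of P. -/
theorem result {G : Type*} [Group G] [Finite G] {p : ℕ} [Fact p.Prime] (P : Sylow p G) (hn : ∀ Q : Sylow p G, (P : Subgroup G) ⊓ Subgroup.centralizer (P : Set G) ≤ (Q : Subgroup G) → (Q : Subgroup G) ⊓ Subgroup.centralizer (Q : Set G) = (P : Subgroup G) ⊓ Subgroup.centralizer (P : Set G)) (V : Subgroup G) (hV : Subgroup.normalizer (((P : Subgroup G) ⊓ Subgroup.centralizer (P : Set G) : Subgroup G) : Set G) ≤ V) : (P : Subgroup G) ⊓ Cfsg.pResidual p G = (P : Subgroup G) ⊓ (Cfsg.pResidual p V).map V.subtype := by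
  set Z := (P : Subgroup G) ⊓ centralizer (P : Set G) with hZdef
  have hW : IsWeaklyClosed Z P := by
    refine ⟨inf_le_left, fun g hg => ?_⟩
    rw [cj_def] at hg ⊢
    have h1 := hn (g⁻¹ • P) (cj_le_iff_le_cj_inv.1 hg)
    rw [cj_eq_iff_eq_cj_inv]
    conv_rhs => rw [hZdef, cj_inf]
    rw [← h1]
    congr 1
    exact (cj_centralizer g⁻¹ (P : Subgroup G)).symm
  have hP : (P : Subgroup G) ≤ centralizer (Z : Set G) := le_centralizer_iff.1 inf_le_right
  rw [map_pResidual, ← resIn_top]
  refine inf_resIn_eq_of_controls (IsSylowIn.of_sylow_top P)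
    (hP.trans ((centralizer_le_normalizer _).trans hV)) le_top fun x hx g _ hgx => ?_
  have h1 : Z ≤ centralizer ({g * x * g⁻¹} : Set G) :=
    (le_centralizer_iff.1 hP).trans (centralizer_le (Set.singleton_subset_iff.2 hgx))
  have h2 : cj g Z ≤ centralizer ({g * x * g⁻¹} : Set G) := by
    rw [← cj_centralizer_singleton]
    exact cj_mono g ((le_centralizer_iff.1 hP).trans (centralizer_le (Set.singleton_subset_iff.2 hx)))
  obtain ⟨l, hl, h⟩ := weaklyClosed_conj_in hW h1 h2
  refine ⟨_, hV h, ?_⟩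
  rw [mem_centralizer_singleton_iff] at hl
  calc l * g * x * (l * g)⁻¹ = l * (g * x * g⁻¹) * l⁻¹ := by group
    _ = _ := by rw [hl]; group


end Cfsg.Agent.S0078
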