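import Cfsg.Statements.S0079
import Cfsg.Agent.H2.Transfer2

set_option autoImplicit false
open Cfsg

namespace Cfsg.Agent.S0079
open Subgroup CfsgH2
open scoped commutatorElement

/-- A nilpotent Hall subgroup has a normal complement exactly when elements of it that are conjugate in the whole group are already conjugate inside it. -/
theorem result {G : Type*} [Group G] [Finite G] (H : Subgroup G) (hH : Group.IsNilpotent H) (hHall : Nat.Coprime (Nat.card H) H.index) : (∃ N : Subgroup G, N.Normal ∧ N.IsComplement' H) ↔ ∀ x ∈ H, ∀ y ∈ H, (∃ g : G, g * x * g⁻¹ = y) → ∃ h ∈ H, h * x * h⁻¹ = y := by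
  refine ⟨fun ⟨N, hN, h⟩ x hx y hy ⟨g, hg⟩ => ?_, normal_complement_of_controls hH hHall⟩
  obtain ⟨⟨n, k⟩, rfl⟩ := h.2 g
  refine ⟨k, k.2, ?_⟩
  have h1 : y * ((k : G) * x * (k : G)⁻¹)⁻¹ ∈ N ⊓ H := by
    refine mem_inf.2 ⟨?_, mul_mem hy (inv_mem (mul_mem (mul_mem k.2 hx) (inv_mem k.2)))⟩
    have := mul_mem n.2 (hN.conj_mem _ (inv_mem n.2) ((k : G) * x * (k : G)⁻¹))
    rw [← hg]
    convert this using 1
    group
  rw [h.disjoint.eq_bot, mem_bot, mul_inv_eq_one] at h1
  exact h1.symm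


end Cfsg.Agent.S0079
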