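import Cfsg.Statements.S0082
import Cfsg.Agent.H2.Transfer

set_option autoImplicit false
open Cfsg

namespace Cfsg.Agent.S0082
open Subgroup CfsgH2
open scoped commutatorElement

/-- With a cyclic Sylow p-subgroup, either there is a normal p-complement or the elements of order prime to p generate the whole group. -/
theorem result {G : Type*} [Group G] [Finite G] {p : ℕ} [Fact p.Prime] (P : Sylow p G) (hP : IsCyclic P) : Cfsg.HasNormalPComplement p G ∨ Cfsg.pResidual p G = ⊤ := by
  have hs := IsSylowIn.of_sylow_top P
  have h1 := inf_pResidual_of_comm hs hP.isMulCommutative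
  obtain ⟨h2, h3, -⟩ := split_abelian hP.isMulCommutative le_normalizer le_rfl
    (hs.mono le_normalizer le_top).coprime_relIndex
  by_cases h4 : ⁅(P : Subgroup G), normalizer ((P : Subgroup G) : Set G)⁆ = ⊥
  · exact Or.inl ((hasNPC_iff_inf_eq_bot P).2 (h1.trans h4))
  · right
    have h5 : (P : Subgroup G) ⊓ centralizer (normalizer ((P : Subgroup G) : Set G) : Set G) = ⊥ := by
      by_contra h5
      exact inf_ne_bot_of_cyclic P.isPGroup' hP inf_le_left (commutator_le_left_of_normalizer le_rfl) h5 h4 h2
    rw [h5, sup_bot_eq, ← h1, inf_eq_left] at h3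
    have := hs.sup_resIn
    rwa [resIn_top, sup_eq_right.2 h3] at this


end Cfsg.Agent.S0082
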