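import Cfsg.Statements.S0083
import Cfsg.Agent.H2.Focal

set_option autoImplicit false
open Cfsg

namespace Cfsg.Agent.S0083
open Subgroup CfsgH2

/-- For an abelian Sylow p-subgroup P, a normal p-complement exists exactly when the normalizer of P is an internal direct product of P with some subgroup. -/
theorem result {G : Type*} [Group G] [Finite G] {p : ℕ} [Fact p.Prime] (P : Sylow p G) (hP : IsMulCommutative P) : Cfsg.HasNormalPComplement p G ↔ ∃ Q : Subgroup G, Q ≤ Subgroup.centralizer (P : Set G) ∧ Q ⊓ (P : Subgroup G) = ⊥ ∧ Q ⊔ (P : Subgroup G) = Subgroup.normalizer (P : Set G) := by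
  constructor
  · intro h
    have hN := (IsSylowIn.of_sylow P (H := normalizer (P : Set G)) le_normalizer)
    refine ⟨resIn p (normalizer (P : Set G)), fun g hg => ?_, ?_, ?_⟩
    · exact mem_centralizer_of_hasNPC (hasNPC_subgroup h _) P.2 le_normalizer hg (resIn_le _ hg)
    · rw [inf_comm]; exact hN.hasNPC_iff.1 (hasNPC_subgroup h _)
    · rw [sup_comm]; exact hN.sup_resIn
  · rintro ⟨Q, h1, -, h3⟩
    rw [← hasNPC_top_iff]
    refine burnside_hasNPC (IsSylowIn.of_sylow_top P) ?_
    rw [top_inf_eq]
    change normalizer (P : Set G) ≤ _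
    rw [← h3]
    exact sup_le h1 (le_centralizer _)


end Cfsg.Agent.S0083
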