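import Cfsg.Statements.S0087
import Cfsg.Agent.H2.Transfer2
import Cfsg.Agent.S0581

set_option autoImplicit false
open Cfsg

namespace Cfsg.Agent.S0087
open Subgroup CfsgH2
open scoped commutatorElement

/-- A Hall subgroup that is central in its normalizer has a normal complement. -/
theorem result {G : Type*} [Group G] [Finite G] (H : Subgroup G) (hHall : Nat.Coprime (Nat.card H) H.index) (h : Subgroup.normalizer (H : Set G) ≤ Subgroup.centralizer (H : Set G)) : ∃ N : Subgroup G, N.Normal ∧ N.IsComplement' H := by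
  have hc : H ≤ centralizer (H : Set G) := le_normalizer.trans h
  haveI := isMulCommutative_iff_le_centralizer.2 hc
  refine normal_complement_of_controls CfsgH1.isNilpotent_of_isMulCommutative hHall ?_
  rintro x hx _ hy ⟨g, rfl⟩
  refine ⟨1, one_mem _, ?_⟩
  obtain ⟨L, hL⟩ : ∃ L, L = centralizer ({g * x * g⁻¹} : Set G) := ⟨_, rfl⟩
  have h1 : H ≤ L := fun y hy' => hL ▸ mem_centralizer_singleton_iff.2 (hc hy y hy')
  have h2 : cj g H ≤ L := by
    rw [hL, ← cj_centralizer_singleton]
    exact cj_mono g fun y hy' => mem_centralizer_singleton_iff.2 (hc hx y hy')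
  obtain ⟨l, hl⟩ := Cfsg.Agent.S0581.result (H.subgroupOf L) ((cj g H).subgroupOf L)
    (CfsgH1.isNilpotent_subgroupOf CfsgH1.isNilpotent_of_isMulCommutative L) (by
      rw [CfsgH1.card_subgroupOf_of_le h1]
      exact hHall.coprime_dvd_right (relIndex_dvd_index_of_le h1)) (by
      rw [CfsgH1.card_subgroupOf_of_le h1, CfsgH1.card_subgroupOf_of_le h2, card_cj]
      exact fun _ _ h => h)
  have h3 : (l : G)⁻¹ * g ∈ normalizer (H : Set G) := mem_normalizer_of_conj_mem fun y hy => by
    have h4 := hl (show (⟨g * y * g⁻¹, h2 (conj_mem_cj g hy)⟩ : L) ∈ (cj g H).subgroupOf L from conj_mem_cj g hy)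
    rw [← cj_eq_smul, mem_cj, mem_subgroupOf] at h4
    simpa [mul_assoc] using h4
  have h4 := h h3 x hx
  have h5 := mem_centralizer_singleton_iff.1 (hL.le l.2)
  calc 1 * x * 1⁻¹ = x * ((l : G)⁻¹ * g) * g⁻¹ * l := by group
    _ = (l : G)⁻¹ * (g * x * g⁻¹ * l) := by rw [h4]; group
    _ = _ := by rw [← h5]; group


end Cfsg.Agent.S0087
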