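import Cfsg.Statements.S0089
import Cfsg.Agent.H2.Transfer

set_option autoImplicit false
open Cfsg

namespace Cfsg.Agent.S0089
open Subgroup CfsgH2
open scoped commutatorElement

/-- When all Sylow subgroups are abelian, the derived subgroup meets the centre trivially. -/
theorem result {G : Type*} [Group G] [Finite G] (h : ∀ p : ℕ, p.Prime → ∀ P : Sylow p G, IsMulCommutative P) : commutator G ⊓ Subgroup.center G = ⊥ := by
  by_contra h0
  obtain ⟨p, hp, h1⟩ := Nat.exists_prime_and_dvd (card_eq_one.not.2 h0)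
  haveI := Fact.mk hp
  obtain ⟨⟨x, hx⟩, h2⟩ := exists_prime_orderOf_dvd_card' p h1
  rw [← Subgroup.orderOf_coe] at h2
  obtain ⟨P, hP⟩ := (isPGroup_zpowers_of_orderOf (k := 1) (h2.trans (pow_one p).symm)).exists_le_sylow
  have h3 := inf_commutator_inf_center (h p hp P) P.card_coprime_index
  have h4 : x = 1 := mem_bot.1 (h3 ▸ mem_inf.2 ⟨mem_inf.2 ⟨hP (mem_zpowers x), hx.1⟩, hx.2⟩)
  simp only [h4, orderOf_one] at h2
  exact hp.one_lt.ne h2


end Cfsg.Agent.S0089
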