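import Cfsg.Statements.S0090
import Cfsg.Agent.H2.Transfer

set_option autoImplicit false
open Cfsg

namespace Cfsg.Agent.S0090
open Subgroup CfsgH2
open scoped commutatorElement

/-- An abelian normal Hall subgroup A splits as the internal direct product of G' ∩ A and Z(G) ∩ A, and [A, G] = G' ∩ A. -/
theorem result {G : Type*} [Group G] [Finite G] (A : Subgroup G) [A.Normal] (hc : IsMulCommutative A) (hHall : Nat.Coprime (Nat.card A) A.index) : ⁅A, (⊤ : Subgroup G)⁆ = commutator G ⊓ A ∧ (commutator G ⊓ A) ⊓ (Subgroup.center G ⊓ A) = ⊥ ∧ (commutator G ⊓ A) ⊔ (Subgroup.center G ⊓ A) = A := by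
  have h1 : ⁅A, (⊤ : Subgroup G)⁆ = _root_.commutator G ⊓ A := by
    refine le_antisymm (le_inf (commutator_mono le_top le_rfl) (commutator_le_left _ _)) fun g hg => ?_
    obtain ⟨N, -, h1, -, h2⟩ := exists_transfer (commutator_le_left A ⊤) (commutator_mono le_rfl le_top)
    exact mem_of_pow_mem_of_coprime (coprime_orderOf_of_mem hHall hg.2) ((h2 g hg.2 fun m a _ =>
      commutator_comm A ⊤ ▸ mul_mul_inv_mul_inv_mem_commutator (mem_top a) (pow_mem hg.2 m)).1 (h1 hg.1))
  obtain ⟨h2, h3, -⟩ := split_abelian hc (L := ⊤) le_top (by rw [normalizer_eq_top])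
    (by rwa [relIndex_top_right])
  rw [coe_top, centralizer_univ, inf_comm A, h1] at h2 h3
  exact ⟨h1, by rwa [inf_comm], h3⟩


end Cfsg.Agent.S0090
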