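import Cfsg.Statements.S0092
import Cfsg.Agent.H2.Transfer2

set_option autoImplicit false
open Cfsg

namespace Cfsg.Agent.S0092
open Subgroup CfsgH2
open scoped commutatorElement

/-- If the Sylow p-subgroups of O^p(G) are abelian then G splits over O^p(G). -/
theorem result {G : Type*} [Group G] [Finite G] {p : ℕ} [Fact p.Prime] (h : ∀ Q : Sylow p (Cfsg.pResidual p G), IsMulCommutative Q) : ∃ K : Subgroup G, K.IsComplement' (Cfsg.pResidual p G) := by
  obtain ⟨K, hK⟩ : ∃ K, K = pResidual p G := ⟨_, rfl⟩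
  have hKn : K.Normal := hK ▸ inferInstance
  have hKK : resIn p K = K := by rw [hK, ← resIn_top, resIn_resIn]
  rw [← hK] at h ⊢
  obtain ⟨Q₀⟩ : Nonempty (Sylow p K) := inferInstance
  have hQ := IsSylowIn.of_sylow_map Q₀
  have hc : IsMulCommutative ((Q₀ : Subgroup K).map K.subtype) := by have := h Q₀; infer_instance
  generalize (Q₀ : Subgroup K).map K.subtype = Q at hQ hc
  obtain ⟨L, hL⟩ : ∃ L, L = K ⊓ normalizer (Q : Set G) := ⟨_, rfl⟩
  have hQL : Q ≤ L := hL ▸ le_inf hQ.le le_normalizer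
  have hLn : L ≤ normalizer (Q : Set G) := hL ▸ inf_le_right
  have h1 : Q ≤ ⁅Q, L⁆ := by
    have := inf_resIn_le_of_fusion (L := ⁅Q, L⁆) hQ fun x hx g hg hgx => by
      obtain ⟨n, hn, e⟩ := conj_in_normalizer_of_comm hQ hc hx.1 (resIn_le K hg) hgx
      rw [← e]; exact inv_mul_conj_mem_commutator hx.1 (hL ▸ hn)
    rwa [hKK, inf_eq_left.2 hQ.le] at this
  have hcop := (hQ.mono hQL (hL ▸ inf_le_left)).coprime_relIndex
  obtain ⟨h2, -, -⟩ := split_abelian hc hQL hLn hcop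
  rw [inf_eq_left.2 (inf_le_left.trans h1)] at h2
  obtain ⟨B, hBL, hB1, hB2, hB3⟩ := CfsgH1.sz_exists hQL hLn hcop
  have h3 : ∀ g ∈ normalizer (Q : Set G), ∃ q ∈ Q, q * g ∈ normalizer (B : Set G) := fun g hg => by
    have h4 : cj g L = L := by rw [hL, cj_inf, cj_eq_of_normal, cj_normalizer, cj_eq_iff_mem_normalizer.2 hg]
    obtain ⟨q, hq, h5⟩ := CfsgH1.sz_le (hBL.trans hLn) hB2 (B := cj g B) (by rw [hB3, ← h4]; exact cj_mono g hBL)
      (by rw [card_cj, hB1]; exact hcop.symm) (Or.inr CfsgH1.isSolvable_of_isMulCommutative)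
    rw [← cj_eq_smul, cj_cj] at h5
    exact ⟨q, hq, mem_normalizer_of_cj_le h5⟩
  obtain ⟨T, hT⟩ := IsSylowIn.exists_sylowIn p (normalizer (Q : Set G) ⊓ normalizer (B : Set G))
  refine ⟨T, (CfsgH1.isComplement'_of_inf_of_sup ?_ ?_).symm⟩
  · rw [eq_bot_iff, ← h2]
    have h4 : K ⊓ T ≤ Q := hQ.le_of_le_normalizer (hT.pgroup.to_le inf_le_right) inf_le_left
      (inf_le_right.trans (hT.le.trans inf_le_left))
    refine le_inf h4 fun x hx => ?_
    rw [← hB3, centralizer_sup']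
    exact ⟨isMulCommutative_iff_le_centralizer.1 hc (h4 hx), CfsgH1.mem_centralizer_of_mem_normalizer
      (hBL.trans hLn) hB2 (h4 hx) fun a ha => conj_mem_of_mem_normalizer (hT.le hx.2).2 ha⟩
  · rw [eq_top_iff]
    intro g _
    obtain ⟨k, hk, h4⟩ := hQ.frattini (g := g) (by rw [normalizer_eq_top]; trivial)
    obtain ⟨q, hq, h5⟩ := h3 _ h4
    have h6 : q * (k * g) ∈ T ⊔ resIn p (normalizer (Q : Set G) ⊓ normalizer (B : Set G)) := by
      rw [hT.sup_resIn]; exact mem_inf.2 ⟨mul_mem (le_normalizer hq) h4, h5⟩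
    have h7 : q * (k * g) ∈ K ⊔ T := by
      rw [sup_comm]
      exact sup_le_sup_left ((resIn_mono le_top).trans (resIn_top.trans hK.symm).le) T h6
    simpa using mul_mem (inv_mem (mem_sup_left (T := T) hk)) (mul_mem (inv_mem (mem_sup_left (hQ.le hq))) h7)


end Cfsg.Agent.S0092
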