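import Cfsg.Statements.S0094
import Cfsg.Agent.H2.PGroup2

set_option autoImplicit false
open Cfsg

namespace Cfsg.Agent.S0094
open Subgroup CfsgH2
open scoped commutatorElement

/-- In a special p-group every central element has order dividing p. -/
theorem result {P : Type*} [Group P] [Finite P] {p : ℕ} [Fact p.Prime] (h : Cfsg.IsSpecial p P) (z : P) (hz : z ∈ Subgroup.center P) : z ^ p = 1 := by
  obtain ⟨hP, h1, h2⟩ := h
  rw [← h2] at hz
  have hc : ∀ a b : P, ⁅a, b⁆ ∈ center P := fun a b => h2 ▸ commutator_mem_commutator (mem_top a) (mem_top b)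
  have key : ∀ a b : P, ⁅a, b⁆ ^ p = 1 := by
    intro a b
    rw [← commutatorElement_pow_left' (show Commute ⁅a, b⁆ a from (mem_center_iff.1 (hc a b) a).symm),
      commutatorElement_eq_one_iff_mul_comm]
    exact (mem_center_iff.1 (h1 ▸ pow_mem_frattini hP a) b).symm
  rw [_root_.commutator_def, Subgroup.commutator_def] at hz
  induction hz using closure_induction with
  | mem x hx => obtain ⟨a, -, b, -, rfl⟩ := hx; exact key a b
  | one => simp
  | mul x y hx hy ihx ihy =>
    have : x ∈ center P := h2 ▸ hx
    rw [Commute.mul_pow (show Commute x y from (mem_center_iff.1 this y).symm), ihx, ihy, one_mul]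
  | inv x hx ih => rw [inv_pow, ih, inv_one]


end Cfsg.Agent.S0094
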