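import Cfsg.Statements.S0097
import Cfsg.Agent.H2.PGroup2

set_option autoImplicit false
open Cfsg

namespace Cfsg.Agent.S0097
open Subgroup CfsgH2
open scoped commutatorElement

/-- For odd p and E extraspecial, the subgroup generated by the elements of order dividing p has exponent dividing p and index at most p. -/
theorem result {E : Type*} [Group E] [Finite E] {p : ℕ} [Fact p.Prime] (hp : p ≠ 2) (h : Cfsg.IsExtraspecial p E) : (Subgroup.closure {x : E | x ^ p = 1}).index ≤ p ∧ ∀ g ∈ Subgroup.closure {x : E | x ^ p = 1}, g ^ p = 1 := by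
  obtain ⟨⟨hP, h1, h2⟩, h3⟩ := h
  have hT : IsPGroup p (⊤ : Subgroup E) := hP.to_subgroup _
  have hcl : ⁅⁅(⊤ : Subgroup E), (⊤ : Subgroup E)⁆, (⊤ : Subgroup E)⁆ = ⊥ := by
    rw [commutator_eq_bot_iff_le_centralizer, ← _root_.commutator_def, h2, coe_top,
      centralizer_univ]
  rw [← omegaOne_top]
  have he := omegaOne_exponent_of_class ⊤ hT (Or.inl ⟨hp, hcl⟩)
  refine ⟨?_, he⟩
  have hder : _root_.commutator E ≤ Cfsg.omegaOne p ⊤ := by
    rw [h2]
    intro z hz
    refine mem_omegaOne (mem_top z) ?_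
    have := pow_card_eq_one' (x := (⟨z, hz⟩ : center E))
    rw [h3] at this
    exact congrArg Subtype.val this
  let f : E →* E := MonoidHom.mk' (fun x => x ^ p) fun x y =>
    mul_pow_prime_of_class (R := ⊤) Fact.out (Or.inl ⟨hp, hcl⟩) (Ω := Cfsg.omegaOne p ⊤) he
      (le_normalizer.trans (normalizer_le_normalizer_omegaOne _)) (mem_top x) (mem_top y)
      (hder (inv_mul_inv_mul_mem_commutator (mem_top y) (mem_top x)))
  have hk : f.ker ≤ Cfsg.omegaOne p ⊤ := fun x hx => mem_omegaOne (mem_top x) hx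
  have hr : f.range ≤ center E := by
    rintro _ ⟨x, rfl⟩
    exact h1 ▸ pow_mem_frattini hP x
  calc _ ≤ f.ker.index := Nat.le_of_dvd (Nat.pos_of_ne_zero FiniteIndex.index_ne_zero)
        (index_dvd_of_le hk)
    _ = Nat.card f.range := index_ker f
    _ ≤ Nat.card (center E) := card_le_of_le hr
    _ = p := h3


end Cfsg.Agent.S0097
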