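import Cfsg.Statements.S0098
import Cfsg.Agent.H2.Extra2

set_option autoImplicit false
open Cfsg

namespace Cfsg.Agent.S0098
open Subgroup CfsgH2
open scoped commutatorElement

/-- For odd p, extraspecial p-groups of exponent p are determined up to isomorphism by their order. -/
theorem result {E₁ : Type*} {E₂ : Type*} [Group E₁] [Group E₂] [Finite E₁] [Finite E₂] {p : ℕ} [Fact p.Prime] (hp : p ≠ 2) (h₁ : Cfsg.IsExtraspecial p E₁) (h₂ : Cfsg.IsExtraspecial p E₂) (he₁ : Monoid.exponent E₁ = p) (he₂ : Monoid.exponent E₂ = p) (hc : Nat.card E₁ = Nat.card E₂) : Nonempty (E₁ ≃* E₂) := by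
  obtain ⟨z₁, e₁, -⟩ := ES.of_top h₁
  obtain ⟨z₂, e₂, -⟩ := ES.of_top h₂
  obtain ⟨n, c⟩ := ES.exists_card _ e₁
  exact (ES.diso_of_exponent n _ _ e₁ e₂ c (by rw [← c, Subgroup.card_top, Subgroup.card_top, hc])
    (fun x _ => he₁ ▸ Monoid.pow_exponent_eq_one x)
    (fun x _ => he₂ ▸ Monoid.pow_exponent_eq_one x)).equiv_top


end Cfsg.Agent.S0098
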