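import Cfsg.Statements.S0099
import Cfsg.Agent.H2.Extra2

set_option autoImplicit false
open Cfsg

namespace Cfsg.Agent.S0099
open Subgroup CfsgH2
open scoped commutatorElement

/-- Among three extraspecial 2-groups of equal order, some two are isomorphic. -/
theorem result {E₁ : Type*} {E₂ : Type*} {E₃ : Type*} [Group E₁] [Group E₂] [Group E₃] [Finite E₁] [Finite E₂] [Finite E₃] (h₁ : Cfsg.IsExtraspecial 2 E₁) (h₂ : Cfsg.IsExtraspecial 2 E₂) (h₃ : Cfsg.IsExtraspecial 2 E₃) (h12 : Nat.card E₁ = Nat.card E₂) (h23 : Nat.card E₂ = Nat.card E₃) : Nonempty (E₁ ≃* E₂) ∨ Nonempty (E₂ ≃* E₃) ∨ Nonempty (E₁ ≃* E₃) := by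
  obtain ⟨z₁, e₁, -⟩ := ES.of_top h₁
  obtain ⟨z₂, e₂, -⟩ := ES.of_top h₂
  obtain ⟨z₃, e₃, -⟩ := ES.of_top h₃
  obtain ⟨n, c⟩ := ES.exists_card _ e₁
  have c2 : Nat.card (⊤ : Subgroup E₂) = 2 ^ (2 * n + 1) := by
    rw [← c, Subgroup.card_top, Subgroup.card_top, h12]
  have c3 : Nat.card (⊤ : Subgroup E₃) = 2 ^ (2 * n + 1) := by
    rw [← c2, Subgroup.card_top, Subgroup.card_top, h23]
  have a1 := e₁.nsq_cases c
  have a2 := e₂.nsq_cases c2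
  have a3 := e₃.nsq_cases c3
  have : nsq (⊤ : Subgroup E₁) = nsq (⊤ : Subgroup E₂) ∨ nsq (⊤ : Subgroup E₂) = nsq (⊤ : Subgroup E₃) ∨
      nsq (⊤ : Subgroup E₁) = nsq (⊤ : Subgroup E₃) := by omega
  rcases this with h | h | h
  · exact Or.inl (equiv_of_extraspecial_nsq h₁ h₂ h12 h)
  · exact Or.inr (Or.inl (equiv_of_extraspecial_nsq h₂ h₃ h23 h))
  · exact Or.inr (Or.inr (equiv_of_extraspecial_nsq h₁ h₃ (h12.trans h23) h))


end Cfsg.Agent.S0099
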