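import Cfsg.Statements.S0100
import Cfsg.Agent.H2.PGroup3

set_option autoImplicit false
open Cfsg

namespace Cfsg.Agent.S0100
open Subgroup CfsgH2
open scoped commutatorElement

/-- For odd p, a p-group without normal elementary abelian subgroups of order p^3 has p-rank at most 2. -/
theorem result {P : Type*} [Group P] [Finite P] {p : ℕ} [Fact p.Prime] (hp : p ≠ 2) (hP : IsPGroup p P) (h : ∀ A : Subgroup P, A.Normal → IsMulCommutative A → (∀ a ∈ A, a ^ p = 1) → Nat.card A ≠ p ^ 3) (E : Subgroup P) (hE : IsMulCommutative E) (hEe : ∀ e ∈ E, e ^ p = 1) : Nat.card E ≤ p ^ 2 := by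
  by_contra hlt
  have hr : 3 ≤ CfsgFT.rk p (⊤ : Subgroup P) := by
    by_contra h3
    exact hlt ((CfsgFT.card_le_pow_rk ⟨hE, hEe⟩ le_top).trans
      (Nat.pow_le_pow_right (Fact.out : p.Prime).pos (by omega)))
  obtain ⟨A, -, h2, h3, h4, h5⟩ := exists_normal_ea_three hp (hP.to_subgroup ⊤) hr bot_le
    (by rw [normalizer_eq_top]) CfsgFT.ea_bot
  obtain ⟨K, k1, k2, k3⟩ := exists_normal_card' (hP.to_subgroup ⊤) h2 h3 h5
  have := CfsgFT.ea_mono h4 k1
  exact h K (normalizer_eq_top_iff.1 (top_le_iff.1 k2)) this.1 this.2 k3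


end Cfsg.Agent.S0100
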