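import Cfsg.Statements.S0102
import Cfsg.Agent.H2.Transfer

set_option autoImplicit false
open Cfsg

namespace Cfsg.Agent.S0102
open Subgroup CfsgH2
open scoped commutatorElement

/-- A finite perfect group with cyclic Sylow p-subgroups has no perfect central extension whose kernel has order divisible by p. -/
theorem result {G : Type*} {H : Type*} [Group G] [Group H] [Finite G] [Finite H] (hG : commutator G = ⊤) {p : ℕ} [Fact p.Prime] (hcyc : ∀ P : Sylow p G, IsCyclic P) (σ : H →* G) (hσ : Function.Surjective σ) (hz : σ.ker ≤ Subgroup.center H) (hH : commutator H = ⊤) : ¬ p ∣ Nat.card σ.ker := by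
  intro h
  obtain ⟨P⟩ : Nonempty (Sylow p H) := inferInstance
  have h1 := (IsSylowIn.of_sylow_top P).map σ
  rw [map_top_of_surjective _ hσ] at h1
  obtain ⟨Q, hQ⟩ := h1.of_top
  obtain ⟨y, hy⟩ := isCyclic_iff_zpowers.1 (hcyc Q)
  obtain ⟨x, hx, rfl⟩ : y ∈ (P : Subgroup H).map σ := by rw [← hQ, ← hy]; exact mem_zpowers y
  have h2 : IsMulCommutative (P : Subgroup H) := by
    refine isMulCommutative_of_sup_zpowers (K := σ.ker ⊓ P) (y := x)
      (le_antisymm (sup_le inf_le_right (zpowers_le.2 hx)) fun g hg => ?_)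
      fun g hg z _ => mem_center_iff.1 (hz hg.1) z
    obtain ⟨i, hi⟩ : σ g ∈ zpowers (σ x) := by rw [hy, hQ]; exact mem_map_of_mem σ hg
    have h3 : g * (x ^ i)⁻¹ ∈ σ.ker ⊓ P := mem_inf.2 ⟨by
      rw [MonoidHom.mem_ker, map_mul, map_inv, map_zpow, ← hi, mul_inv_cancel], mul_mem hg (inv_mem (zpow_mem hx i))⟩
    simpa using mul_mem (mem_sup_left (T := zpowers x) h3) (mem_sup_right (zpow_mem (mem_zpowers x) i))
  have h3 := inf_commutator_inf_center h2 P.card_coprime_index
  refine ((IsSylowIn.sylow_inf_normal P σ.ker).eq_bot_iff.1 ?_) h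
  rw [eq_bot_iff, ← h3, hH, inf_top_eq]
  exact inf_le_inf_left _ hz


end Cfsg.Agent.S0102
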