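import Cfsg.Statements.S0104
import Cfsg.Agent.H2.Focal

set_option autoImplicit false
open Cfsg

namespace Cfsg.Agent.S0104
open Subgroup CfsgH2

/-- A subgroup Z of a Sylow p-subgroup P that is normalized by N_G(P) is weakly closed in P exactly when it is normal in every Sylow p-subgroup containing it. -/
theorem result {G : Type*} [Group G] [Finite G] {p : ℕ} [Fact p.Prime] (P : Sylow p G) (Z : Subgroup G) (hZP : Z ≤ (P : Subgroup G)) (hZN : Subgroup.normalizer (P : Set G) ≤ Subgroup.normalizer (Z : Set G)) : Cfsg.IsWeaklyClosed Z P ↔ ∀ R : Sylow p G, Z ≤ (R : Subgroup G) → (R : Subgroup G) ≤ Subgroup.normalizer (Z : Set G) := by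
  constructor
  · intro hW R hR r hr
    obtain ⟨g, hg⟩ := exists_cj_sylow_eq R P
    have e1 : cj g Z = Z := hW.2 g ((cj_mono g hR).trans hg.le)
    have e2 : cj (g * r) Z = Z := hW.2 _ (by
      rw [cj_def, ← cj_cj]
      exact (cj_mono g ((cj_mono r hR).trans (cj_eq_of_mem hr).le)).trans hg.le)
    rw [← cj_eq_iff_mem_normalizer, ← cj_inj g, cj_cj, e1, e2]
  · intro h
    refine ⟨hZP, fun g hg => ?_⟩
    rw [cj_def] at hg ⊢
    have h1 : cj g⁻¹ (P : Subgroup G) ≤ normalizer (Z : Set G) :=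
      h (g⁻¹ • P) (cj_le_iff_le_cj_inv.1 hg)
    obtain ⟨l, hl, hn⟩ := burnside_fusion (IsSylowIn.of_sylow_top P) (mem_top g⁻¹) (h P hZP) h1
    have h2 : g⁻¹ ∈ normalizer (Z : Set G) := by
      simpa using mul_mem (inv_mem (mem_inf.1 hl).2) (hZN hn)
    exact cj_eq_iff_mem_normalizer.2 (by simpa using inv_mem h2)


end Cfsg.Agent.S0104
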