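import Cfsg.Statements.S0105
import Cfsg.Agent.H2.Transfer

set_option autoImplicit false
open Cfsg

namespace Cfsg.Agent.S0105
open Subgroup CfsgH2
open scoped commutatorElement

/-- With an abelian Sylow p-subgroup P, some quotient of G is isomorphic to the part of P central in N_G(P). -/
theorem result {G : Type*} [Group G] [Finite G] {p : ℕ} [Fact p.Prime] (P : Sylow p G) (hP : IsMulCommutative P) : ∃ (N : Subgroup G) (hN : N.Normal), Nonempty (G ⧸ N ≃* ((P : Subgroup G) ⊓ Subgroup.centralizer (Subgroup.normalizer (P : Set G) : Set G) : Subgroup G)) := by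
  have hs := IsSylowIn.of_sylow_top P
  obtain ⟨-, N, hN, h1, h2, -⟩ := focal_of_coprime (coprime_index_sylow hs (commutator_le_of_le le_rfl le_rfl))
  rw [commutator_inf_of_comm hs hP] at h1
  obtain ⟨h3, h4, -⟩ := split_abelian hP le_normalizer le_rfl (hs.mono le_normalizer le_top).coprime_relIndex
  refine ⟨N, hN, ⟨(MulEquiv.ofBijective ((QuotientGroup.mk' N).comp (Subgroup.subtype _)) ⟨?_, ?_⟩).symm⟩⟩
  · rw [injective_iff_map_eq_one]
    intro x hx
    refine Subtype.ext (mem_bot.1 (h3 ▸ mem_inf.2 ⟨x.2, ?_⟩))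
    rw [← h1]
    exact mem_inf.2 ⟨(QuotientGroup.eq_one_iff _).1 hx, x.2.1⟩
  · rw [← MonoidHom.range_eq_top, MonoidHom.range_comp, range_subtype]
    apply comap_injective (QuotientGroup.mk'_surjective N)
    rw [CfsgH1.comap_map_mk', comap_top, eq_top_iff, ← h2]
    refine sup_le le_sup_right (h4.ge.trans (sup_le (h1.ge.trans (inf_le_left.trans le_sup_right)) le_sup_left))


end Cfsg.Agent.S0105
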