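import Cfsg.Statements.S0106
import Cfsg.Agent.H2.Diag

set_option autoImplicit false
open Cfsg

namespace Cfsg.Agent.S0106
open Subgroup CfsgH2
open scoped commutatorElement

/-- A finite group with generalized quaternion Sylow 2-subgroups either has a normal 2-complement or has a section isomorphic to SL(2,3). -/
theorem result {G : Type*} [Group G] [Finite G] (T : Sylow 2 G) (n : ℕ) (hn : 1 ≤ n) (hT : Nonempty ((T : Subgroup G) ≃* QuaternionGroup (2 ^ n))) : Cfsg.HasNormalPComplement 2 G ∨ ∃ (H K : Subgroup G) (hK : (K.subgroupOf H).Normal), Nonempty ((H ⧸ K.subgroupOf H) ≃* Matrix.SpecialLinearGroup (Fin 2) (ZMod 3)) := by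
  obtain ⟨e⟩ := hT
  obtain ⟨r, rfl⟩ : ∃ r, n = r + 1 := ⟨n - 1, by omega⟩
  obtain ⟨a, b, h⟩ := mc_of_quaternion e
  have hs := IsSylowIn.of_sylow_top T
  refine or_iff_not_imp_left.2 fun hc => ?_
  obtain ⟨X, hX, g, h1, h2, h3⟩ : ∃ X ≤ (T : Subgroup G), OddAct X := by
    by_contra h1
    exact hc (h.res_none hs (fun ⟨X, h2, _, h3⟩ => h1 ⟨X, h2, h3⟩) fun ⟨X, h2, _, h3⟩ => h1 ⟨X, h2, h3⟩)
  obtain ⟨j, ⟨e0, -, -⟩ | ⟨e0, e1, e2⟩⟩ := h.odd_act hX h1 h2 h3
  · exact absurd ((h.quat_sq j).symm.trans e0) (ne_one_of_orderOf_two h.orderOf_z)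
  have h4 := h.q8_of e0
  rw [← e1] at h4
  have ho := h.orderOf_c
  generalize a ^ (2 : ℤ) ^ r = c at h4 ho e2
  generalize a ^ j * b = y at h4 e2
  have hp := T.isPGroup'.to_le hX
  have h5 : g ^ 3 ∈ centralizer (X : Set G) := by
    obtain ⟨d, hd⟩ := q8_index_dvd h4 ho (N := normalizer (X : Set G)) le_rfl
    have h6 : (g ^ 3) ^ 2 ∈ X ⊔ centralizer (X : Set G) := by
      rw [← pow_mul, show 3 * 2 = 6 from rfl, hd, pow_mul]
      exact pow_mem (pow_relIndex_mem' (normalizer_le_normalizer_sup_cent X) h1) d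
    have h7 : Odd (orderOf (g ^ 3)) := Odd.of_dvd_nat h2 (orderOf_pow_dvd 3)
    have h8 := mem_resIn_of_odd (mem_of_pow_mem_of_coprime (coprime_two_iff_odd.2 h7) h6) h7
    rw [resIn_sup_of_isPGroup hp (le_normalizer.trans (normalizer_le_normalizer_centralizer X))] at h8
    exact resIn_le _ h8
  obtain ⟨H, hH⟩ : ∃ H, H = X ⊔ zpowers g := ⟨_, rfl⟩
  have hXH : X ≤ H := hH ▸ le_sup_left
  have hgH : g ∈ H := hH ▸ mem_sup_right (mem_zpowers g)
  have h6 : H ≤ centralizer (zpowers (g ^ 3) : Set G) := by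
    rw [hH, centralizer_zpowers']
    exact sup_le (fun x hx => mem_centralizer_singleton_iff.2 (h5 x hx))
      (zpowers_le.2 (mem_centralizer_singleton_iff.2 ((Commute.refl g).pow_right 3)))
  haveI hK : ((zpowers (g ^ 3)).subgroupOf H).Normal := (normal_subgroupOf_iff_le_normalizer
    (zpowers_le.2 (pow_mem hgH 3))).2 (h6.trans (Subgroup.centralizer_le_normalizer _))
  refine ⟨H, zpowers (g ^ 3), hK, ?_⟩
  obtain ⟨f, hf⟩ : ∃ f, f = QuotientGroup.mk' ((zpowers (g ^ 3)).subgroupOf H) := ⟨_, rfl⟩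
  have h7 : ∀ x : H, (x : G) ∈ X → f x = 1 → x = 1 := fun x hx h8 => by
    rw [hf, QuotientGroup.mk'_apply, QuotientGroup.eq_one_iff] at h8
    exact Subtype.ext (eq_one_of_odd_of_mem hp hx (odd_orderOf_of_mem_zpowers h2
      (zpowers_le.2 (pow_mem (mem_zpowers g) 3) h8)))
  have h8 := (h4.subgroupOf hXH).map f (by
    rintro ⟨i, hi⟩
    have h9 := h7 ((⟨c, hXH h4.a_mem⟩ : H) ^ i * (⟨y, hXH h4.b_mem⟩ : H)⁻¹)
      (mul_mem (h4.pow_mem i) (inv_mem h4.b_mem)) (by rw [map_mul, map_inv, map_zpow, ← hi, mul_inv_cancel])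
    exact h4.notMem ⟨i, congrArg Subtype.val (mul_inv_eq_one.1 h9)⟩)
  have h9 : orderOf (f ⟨c, hXH h4.a_mem⟩) = 4 := by
    refine orderOf_eq_prime_pow (p := 2) (n := 1) (fun h10 => ?_) ?_
    · have := congrArg Subtype.val (h7 _ (pow_mem h4.a_mem _) ((map_pow f _ _).trans h10))
      have := Nat.le_of_dvd (by norm_num) (ho ▸ orderOf_dvd_of_pow_eq_one this)
      omega
    · rw [← map_pow, show (⟨c, hXH h4.a_mem⟩ : H) ^ 2 ^ (1 + 1) = 1 from
        Subtype.ext (orderOf_dvd_iff_pow_eq_one.1 (by rw [ho]; rfl)), map_one]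
  have h10 : (X.subgroupOf H).map f ⊔ zpowers (f ⟨g, hgH⟩) = ⊤ := by
    rw [← MonoidHom.map_zpowers, ← Subgroup.map_sup, ← map_top_of_surjective f
      (hf ▸ QuotientGroup.mk'_surjective _)]
    congr 1
    rw [← map_subtype_inj, Subgroup.map_sup, subgroupOf_map_subtype, MonoidHom.map_zpowers,
      inf_eq_left.2 hXH, ← MonoidHom.range_eq_map, range_subtype]
    exact hH.symm
  obtain ⟨e3⟩ := sl23_of_act h8 h9 (g := f ⟨g, hgH⟩) (mem_normalizer_of_conj_mem (by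
    rintro _ ⟨x, hx, rfl⟩
    rw [← map_inv, ← map_mul, ← map_mul]
    exact mem_map_of_mem f (mem_subgroupOf.2 (conj_mem_of_mem_normalizer h1 hx)))) (by
      rw [← map_pow, hf, QuotientGroup.mk'_apply, QuotientGroup.eq_one_iff]; exact mem_zpowers _) (by
      rw [← map_inv, ← map_mul, ← map_mul]; congr 1; exact Subtype.ext e2)
  rw [h10] at e3
  exact ⟨topEquiv.symm.trans e3⟩


end Cfsg.Agent.S0106
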