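import Cfsg.Statements.S0114
import Cfsg.Agent.H2.MaxClass

set_option autoImplicit false
open Cfsg

namespace Cfsg.Agent.S0114
open Subgroup CfsgH2
open scoped commutatorElement

/-- The central quotient of a 2-group of maximal class is dihedral. -/
theorem result {X : Type*} [Group X] [Finite X] (n : ℕ) (hn : 3 ≤ n) (hX : Nat.card X = 2 ^ n) (hc : Group.nilpotencyClass X = n - 1) : Nonempty (X ⧸ Subgroup.center X ≃* DihedralGroup (2 ^ (n - 2))) := by
  obtain ⟨a, b, k, m, r, h⟩ := (isMC_of_class hX hn hc).exists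
  have h1 := h.card_eq
  rw [Subgroup.card_top, hX] at h1
  obtain rfl : n = r + 3 := Nat.pow_right_injective le_rfl h1
  have hZ := h.inf_centralizer_eq
  rw [top_inf_eq, coe_top, centralizer_univ] at hZ
  have h2 : ∀ i : ℤ, (QuotientGroup.mk' (center X) a) ^ i = 1 ↔ (2 : ℤ) ^ (r + 1) ∣ i := fun i => by
    rw [← map_zpow, QuotientGroup.mk'_apply, QuotientGroup.eq_one_iff, hZ, h.mem_iff (by omega)]
  have h3 : orderOf (QuotientGroup.mk' (center X) a) = 2 ^ (r + 1) := by
    apply Nat.dvd_antisymm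
    · apply orderOf_dvd_of_pow_eq_one
      rw [← zpow_natCast, h2]; simp
    · have := (h2 (orderOf (QuotientGroup.mk' (center X) a))).1 (by simp)
      exact_mod_cast this
  have h4 := h.toIdx2.map (QuotientGroup.mk' (center X)) (by
    rintro ⟨i, hi⟩
    have hi' : ((a ^ i : X) : X ⧸ center X) = b := hi
    rw [QuotientGroup.eq, hZ] at hi'
    exact h.toIdx2.pow_mul_notMem (-i) (zpowers_le.2 (zpow_mem (mem_zpowers a) _) (by simpa using hi')))
  rw [map_top_of_surjective _ (QuotientGroup.mk'_surjective _)] at h4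
  have h5 := h4.congr (k' := -1) (m' := 0) (by
    rw [zpow_eq_zpow_iff_dvd, h3]
    rcases h.hk with e | ⟨-, e⟩ <;> simp [e]) (by
    rw [zpow_zero, ← h4.sq, ← map_mul, QuotientGroup.mk'_apply, QuotientGroup.eq_one_iff, hZ]
    simpa using h.sq_out 0)
  exact (h5.dihedral h3).map topEquiv.symm.trans


end Cfsg.Agent.S0114
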