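import Cfsg.Statements.S0115
import Cfsg.Agent.H2.MaxClass

set_option autoImplicit false
open Cfsg

namespace Cfsg.Agent.S0115
open Subgroup CfsgH2
open scoped commutatorElement

/-- A 2-group of order 2^n, n ≥ 3, is of maximal class exactly when its commutator quotient is a Klein four-group. -/
theorem result {X : Type*} [Group X] [Finite X] (n : ℕ) (hn : 3 ≤ n) (hX : Nat.card X = 2 ^ n) : Group.nilpotencyClass X = n - 1 ↔ IsKleinFour (X ⧸ commutator X) := by
  constructor
  · intro hc
    obtain ⟨a, b, k, m, r, h⟩ := (isMC_of_class hX hn hc).exists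
    have h1 : _root_.commutator X = zpowers (a ^ (2 : ℤ)) := h.commutator_eq'
    refine isKleinFour_iff'.2 ⟨index_commutator_of_class hX (by omega) hc, fun x => ?_⟩
    obtain ⟨x, rfl⟩ := QuotientGroup.mk_surjective x
    rw [← QuotientGroup.mk_mul, QuotientGroup.eq_one_iff, h1]
    obtain ⟨i, rfl | rfl⟩ := (h.mem x).1 (mem_top x)
    · rw [← zpow_add, h.mem_sq_iff]; omega
    · exact zpowers_le.2 ((h.mem_sq_iff _).2 (dvd_pow_self _ (by omega))) (h.sq_out i)
  · intro hK
    have h4 : (_root_.commutator X).index = 4 := hK.card_four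
    obtain ⟨a, b, k, m, r, h⟩ := (isMC_of_index (IsPGroup.of_card hX) (fun h => by
      rw [commutator_eq_bot_iff'.2 h, index_bot, hX] at h4
      have := Nat.pow_right_injective le_rfl (h4.trans (by norm_num : 4 = 2 ^ 2))
      omega) h4.le).exists
    have h1 := h.card_eq
    rw [Subgroup.card_top, hX] at h1
    obtain rfl : n = r + 3 := Nat.pow_right_injective le_rfl h1
    exact h.class_eq


end Cfsg.Agent.S0115
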