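import Cfsg.Statements.S0116
import Cfsg.Agent.H2.Alperin

set_option autoImplicit false
open Cfsg

namespace Cfsg.Agent.S0116
open Subgroup CfsgH2
open scoped commutatorElement

/-- The Alperin fusion Theorem states that conjugation between subsets of a Sylow p-subgroup P factors through normalizers of tame intersections P ∩ Q_i with other Sylow p-subgroups, carrying the subset along step by step. -/
theorem result {G : Type*} [Group G] [Finite G] {p : ℕ} [Fact p.Prime] (P : Sylow p G) (A : Set G) (g : G) (hA : A ⊆ (P : Set G)) (hAg : (fun a => g⁻¹ * a * g) '' A ⊆ (P : Set G)) : ∃ (n : ℕ) (Q : Fin n → Sylow p G) (x : Fin n → G), (List.ofFn x).prod = g ∧ (∀ i : Fin n, x i ∈ Subgroup.normalizer ((((P : Subgroup G) ⊓ (Q i : Subgroup G)) : Subgroup G) : Set G) ∧ ¬ p ∣ ((P : Subgroup G) ⊓ Subgroup.normalizer ((((P : Subgroup G) ⊓ (Q i : Subgroup G)) : Subgroup G) : Set G)).relIndex (Subgroup.normalizer ((((P : Subgroup G) ⊓ (Q i : Subgroup G)) : Subgroup G) : Set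 G)) ∧ ¬ p ∣ ((Q i : Subgroup G) ⊓ Subgroup.normalizer ((((P : Subgroup G) ⊓ (Q i : Subgroup G)) : Subgroup G) : Set G)).relIndex (Subgroup.normalizer ((((P : Subgroup G) ⊓ (Q i : Subgroup G)) : Subgroup G) : Set G))) ∧ (∀ h : 0 < n, A ⊆ (((P : Subgroup G) ⊓ (Q ⟨0, h⟩ : Subgroup G) : Subgroup G) : Set G)) ∧ ∀ i : Fin n, ∀ h : i.val + 1 < n, (fun a => (((List.ofFn x).take (i.val + 1)).prod)⁻¹ * a * ((List.ofFn x).take (i.val + 1)).prod) '' A ⊆ (((P : Subgroup G) ⊓ (Q ⟨i.val + 1, h⟩ : Subgroup G) : Subgroup G) : Set G) := by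
  have hs := IsSylowIn.of_sylow_top P
  obtain ⟨Good, hGood⟩ : ∃ Good : Sylow p G × G → Prop, ∀ e, Good e ↔ (e.2 ∈ Subgroup.normalizer ((((P : Subgroup G) ⊓ (e.1 : Subgroup G)) : Subgroup G) : Set G) ∧ ¬ p ∣ ((P : Subgroup G) ⊓ Subgroup.normalizer ((((P : Subgroup G) ⊓ (e.1 : Subgroup G)) : Subgroup G) : Set G)).relIndex (Subgroup.normalizer ((((P : Subgroup G) ⊓ (e.1 : Subgroup G)) : Subgroup G) : Set G)) ∧ ¬ p ∣ ((e.1 : Subgroup G) ⊓ Subgroup.normalizer ((((P : Subgroup G) ⊓ (e.1 : Subgroup G)) : Subgroup G) : Set G)).relIndex (Subgroup.normalizer ((((P : Subgroup G) ⊓ (e.1 : Subgroup G)) : Subgroup G) : Set G))) :=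
    ⟨_, fun _ => Iff.rfl⟩
  obtain ⟨l, h1, h2, h3⟩ := alperin hs (fun B g => ∃ l : List (Sylow p G × G), (l.map Prod.snd).prod = g⁻¹ ∧
      (∀ e ∈ l, Good e) ∧ ∀ i (h : i < l.length),
        cj ((l.map Prod.snd).take i).prod⁻¹ B ≤ (P : Subgroup G) ⊓ (l[i]).1)
    (fun B C g ⟨l, h1, h2, h3⟩ h => ⟨l, h1, h2, fun i hi => (cj_mono _ h).trans (h3 i hi)⟩)
    (fun B g k ⟨l, h1, h2, h3⟩ ⟨l', h1', h2', h3'⟩ => ⟨l ++ l', by simp [h1, h1'],
      fun e he => (List.mem_append.1 he).elim (h2 e) (h2' e), fun i hi => by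
        by_cases h : i < l.length
        · rw [List.getElem_append_left h, List.map_append, List.take_append_of_le_length (by simpa using h.le)]
          exact h3 i h
        · rw [List.getElem_append_right (not_lt.1 h), List.map_append, List.take_append,
            List.take_of_length_le (by simpa using h), List.prod_append, h1, mul_inv_rev, inv_inv, ← cj_cj,
            List.length_map]
          exact h3' _ _⟩)
    (fun Q g hQ _ hg h1 h2 => ⟨[(g⁻¹ • P, g⁻¹)], by simp, fun e he => by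
      rw [List.mem_singleton.1 he, hGood, sylow_smul_coe, h2]
      rw [top_inf_eq] at h1
      have h3 := h1.cj_of_mem_normalizer (g := g⁻¹) (inv_mem (le_normalizer hg))
      rw [cj_inf, cj_eq_of_mem (inv_mem hg)] at h3
      exact ⟨inv_mem hg, h1.not_dvd, h3.not_dvd⟩, fun i hi => by
      obtain rfl : i = 0 := by simpa using hi
      simp [sylow_smul_coe, h2, cj_one]⟩)
    (closure A) ((closure_le _).2 hA) g⁻¹ (mem_top _) (by
      rw [cj, MonoidHom.map_closure, closure_le]
      rintro _ ⟨a, ha, rfl⟩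
      exact hAg ⟨a, ha, by simp⟩)
  have h4 : (List.ofFn fun i : Fin l.length => (l[i.val]).2) = l.map Prod.snd := by
    apply List.ext_getElem <;> simp
  refine ⟨l.length, fun i => (l[i.val]).1, fun i => (l[i.val]).2, by rw [h4, h1, inv_inv],
    fun i => (hGood _).1 (h2 _ (List.getElem_mem _)), fun h a ha => ?_, fun i h => ?_⟩
  · have := h3 0 h
    simp only [List.take_zero, List.prod_nil, inv_one, cj_one] at this
    exact this (subset_closure ha)
  · rintro _ ⟨a, ha, rfl⟩
    rw [h4]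
    have := h3 _ h (conj_mem_cj _ (subset_closure ha))
    rw [inv_inv] at this
    exact this


end Cfsg.Agent.S0116
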