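import Cfsg.Statements.S0119
import Cfsg.Agent.H2.Meta

set_option autoImplicit false
open Cfsg

namespace Cfsg.Agent.S0119
open Subgroup CfsgH2
open scoped commutatorElement

/-- If a p'-group A of automorphisms of a p-group G satisfies G = [G, A] and acts trivially on every characteristic abelian subgroup, then G is special with centre equal to the fixed points of A. -/
theorem result {G : Type*} [Group G] [Finite G] {p : ℕ} [Fact p.Prime] (hG : IsPGroup p G) (A : Subgroup (MulAut G)) (hA : Nat.Coprime (Nat.card A) p) (hGA : Subgroup.closure {x : G | ∃ g : G, ∃ a ∈ A, x = g⁻¹ * a g} = ⊤) (hchar : ∀ H : Subgroup G, H.Characteristic → IsMulCommutative H → ∀ a ∈ A, ∀ h ∈ H, a h = h) : Cfsg.IsSpecial p G ∧ (∀ g : G, (g ∈ Subgroup.center G ↔ ∀ a ∈ A, a g = g)) := by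
  let φ := MonoidHom.id (MulAut G)
  have hVA : ⁅sdL φ ⊤, sdR φ A⁆ = sdL φ ⊤ := by
    rw [commutator_sdL_sdR]; congr 1
    refine eq_top_iff.2 (hGA.ge.trans (Subgroup.closure_mono ?_))
    rintro x ⟨g, a, ha, e⟩
    exact ⟨g, mem_top g, a, ha, e⟩
  have hc : ∀ H : Subgroup G, H.Characteristic → IsMulCommutative H → H ≤ center G := by
    intro H h1 h2
    have := commutator_le_centralizer_of_centralizes (V := sdL φ ⊤) (A := sdR φ A) (H := sdL φ H)
      (CfsgH1.map_le_normalizer _ (by rw [normalizer_eq_top]))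
      (sdR_le_centralizer_iff.2 (hchar H h1 h2))
    rw [hVA] at this
    have h3 : sdL φ ⊤ ≤ sdL φ (centralizer (H : Set G)) := by
      rw [sdL_centralizer]; exact le_inf le_rfl this
    rw [← centralizer_univ, ← coe_top, ← le_centralizer_iff]
    exact sdL_le_iff.1 h3
  have hT := hG.to_subgroup ⊤
  have hder : _root_.commutator G ≤ center G := by
    by_contra hn
    obtain ⟨x, hx, hxZ, hxp, hxc⟩ := exists_central_mod hT (le_top (a := _root_.commutator G))
      (by rw [normalizer_eq_top]) hn
    haveI := critOf_characteristic (p := p) (center G)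
    refine hxZ (hc (_root_.commutator G ⊓ critOf p (center G))
      (characteristic_inf inferInstance inferInstance) ?_ ⟨hx, fun z hz => (mem_center_iff.1 hz x).symm,
        fun g => hxc g (mem_top g), hxp⟩)
    have h1 : ⁅⁅(⊤ : Subgroup G), critOf p (center G)⁆, (⊤ : Subgroup G)⁆ = ⊥ := by
      apply CfsgFT.comm_eq_bot
      rw [coe_top, centralizer_univ, commutator_le]
      exact fun g _ y hy => hy.2.1 g
    have h2 := CfsgFT.cent_of_comm_eq_bot
      (three_subgroups_bot h1 (by rwa [Subgroup.commutator_comm (critOf p (center G))]))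
    exact CfsgFT.comm_iff.2 (inf_le_left.trans (h2.trans (CfsgFT.cent_anti inf_le_right)))
  have hfix : ∀ g : G, (∀ a ∈ A, a g = g) → g ∈ _root_.commutator G := by
    intro g hg
    have := comm_inf_cent_le_der (A := sdR φ A) (V := sdL φ ⊤) (le_normalizer_sdL_top _)
      (coprime_card_of_pgroup (isPGroup_sdL_top hG) (by rwa [card_sdR]))
    rw [hVA, ← sdL_commutator] at this
    exact inl_mem_sdL.1 (this ⟨inl_mem_sdL.2 (mem_top g), inl_mem_centralizer_sdR.2 hg⟩)
  have hZ : ∀ g ∈ center G, ∀ a ∈ A, a g = g := fun g hg a ha =>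
    hchar _ inferInstance inferInstance a ha g hg
  have heq : _root_.commutator G = center G := le_antisymm hder fun g hg => hfix g (hZ g hg)
  have cc : ∀ x y z : G, Commute ⁅x, y⁆ z := fun x y z =>
    (mem_center_iff.1 (hder (commutator_mem_commutator (mem_top x) (mem_top y))) z).symm
  have step : ∀ k : ℕ, (∀ x : G, x ^ p ^ (k + 2) ∈ center G) → ∀ x : G, x ^ p ^ (k + 1) ∈ center G := by
    intro k hk x
    refine hc (closure (Set.range fun y : G => y ^ p ^ (k + 1))) ?_ ?_ (subset_closure ⟨x, rfl⟩)
    · rw [characteristic_iff_map_le]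
      intro ψ
      rw [MonoidHom.map_closure]
      refine closure_mono ?_
      rintro _ ⟨_, ⟨y, rfl⟩, rfl⟩
      exact ⟨ψ y, by simp⟩
    · refine isMulCommutative_closure ?_
      rintro _ ⟨y, rfl⟩ _ ⟨z, rfl⟩
      rw [← commutatorElement_eq_one_iff_mul_comm, commutatorElement_pow_right' (cc _ _ _),
        ← commutatorElement_pow_left' (cc _ _ _), commutatorElement_eq_one_iff_mul_comm, ← pow_mul,
        ← pow_add, show k + 1 + (k + 1) = k + 2 + k by ring, pow_add, pow_mul]
      exact (mem_center_iff.1 (pow_mem (hk y) _) z).symm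
  have down : ∀ k : ℕ, (∀ x : G, x ^ p ^ (k + 1) ∈ center G) → ∀ x : G, x ^ p ∈ center G := by
    intro k
    induction k with
    | zero => intro h; simpa using h
    | succ k ih => exact fun h => ih (step k h)
  obtain ⟨n, hn⟩ := IsPGroup.iff_card.1 hG
  have hpow := down n fun x => by
    rw [pow_succ, pow_mul, ← hn, pow_card_eq_one', one_pow]; exact one_mem _
  exact ⟨⟨hG, le_antisymm (frattini_le_of hder hpow) (heq ▸ commutator_le_frattini hG), heq⟩,
    fun g => ⟨hZ g, fun h => hder (hfix g h)⟩⟩


end Cfsg.Agent.S0119
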