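import Cfsg.Statements.S0120
import Cfsg.Agent.H2.Critical

set_option autoImplicit false
open Cfsg

namespace Cfsg.Agent.S0120
open Subgroup CfsgH2
open scoped commutatorElement

/-- For odd p, a p'-automorphism of a p-group acting trivially on the elements of order dividing p is trivial. -/
theorem result {G : Type*} [Group G] [Finite G] {p : ℕ} [Fact p.Prime] (hp : p ≠ 2) (hG : IsPGroup p G) (a : MulAut G) (ha : Nat.Coprime (orderOf a) p) (h : ∀ x : G, x ^ p = 1 → a x = x) : a = 1 := by
  have key := le_centralizer_of_omegaOne (G := G ⋊[MonoidHom.id (MulAut G)] MulAut G) hp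
    (A := sdR _ (zpowers a)) (by rwa [card_sdR, Nat.card_zpowers]) (sdL _ ⊤) (isPGroup_sdL_top hG)
    (le_normalizer_sdL_top _) (by
      rintro _ ⟨x, -, rfl⟩ hx
      rw [← map_pow, map_eq_one_iff _ SemidirectProduct.inl_injective] at hx
      refine inl_mem_centralizer_sdR.2 fun b hb => ?_
      exact (MulAction.mem_stabilizer_iff (a := x)).1
        (zpowers_le.2 (show a ∈ MulAction.stabilizer (MulAut G) x from h x hx) hb))
  ext x
  exact sdR_le_centralizer_iff.1 key a (mem_zpowers a) x (mem_top x)


end Cfsg.Agent.S0120
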