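import Cfsg.Statements.S0121
import Cfsg.Agent.H2.Critical

set_option autoImplicit false
open Cfsg

namespace Cfsg.Agent.S0121
open Subgroup CfsgH2
open scoped commutatorElement

/-- A p'-automorphism of a p-group acting trivially on a critical subgroup is trivial. -/
theorem result {G : Type*} [Group G] [Finite G] {p : ℕ} [Fact p.Prime] (hG : IsPGroup p G) (H : Subgroup G) (hH : H.Characteristic) (h1 : (frattini H).map H.subtype ≤ Subgroup.centralizer (H : Set G)) (h2 : ⁅H, (⊤ : Subgroup G)⁆ ≤ H ⊓ Subgroup.centralizer (H : Set G)) (h3 : Subgroup.centralizer (H : Set G) ≤ H) (a : MulAut G) (ha : Nat.Coprime (orderOf a) p) (h : ∀ x ∈ H, a x = x) : a = 1 := by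
  have key := le_centralizer_of_selfCentralizing (G := G ⋊[MonoidHom.id (MulAut G)] MulAut G)
    (A := sdR _ (zpowers a)) (V := sdL _ ⊤) (H := sdL _ H) (le_normalizer_sdL_top _)
    (coprime_card_of_pgroup (isPGroup_sdL_top hG) (by rwa [card_sdR, Nat.card_zpowers]))
    (CfsgH1.map_le_normalizer _ (by rw [normalizer_eq_top]))
    (by rw [← sdL_centralizer, sdL_le_iff]; exact h3)
    (sdR_le_centralizer_iff.2 fun b hb x hx => (MulAction.mem_stabilizer_iff (a := x)).1
        (zpowers_le.2 (show a ∈ MulAction.stabilizer (MulAut G) x from h x hx) hb))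
  ext x
  exact sdR_le_centralizer_iff.1 key a (mem_zpowers a) x (mem_top x)


end Cfsg.Agent.S0121
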