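import Cfsg.Statements.S0122
import Cfsg.Agent.H2.Transfer

set_option autoImplicit false
open Cfsg

namespace Cfsg.Agent.S0122
open Subgroup CfsgH2
open scoped commutatorElement

/-- For odd p, a p-group containing an elementary abelian subgroup of order p^4 has a normal elementary abelian subgroup of order p^4. -/
theorem result {G : Type*} [Group G] [Finite G] {p : ℕ} [Fact p.Prime] (hp : p ≠ 2) (hG : IsPGroup p G) (E : Subgroup G) (hE : Cfsg.IsElementaryAbelian p E) (hE4 : Nat.card E = p ^ 4) : ∃ A : Subgroup G, A.Normal ∧ Cfsg.IsElementaryAbelian p A ∧ Nat.card A = p ^ 4 := by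
  have hp' : p.Prime := Fact.out
  have key : ∀ V : Subgroup G, E ≤ V → ∃ A, A ≤ V ∧ V ≤ normalizer (A : Set G) ∧
      IsElementaryAbelian p A ∧ Nat.card A = p ^ 4 := by
    intro V
    induction V using subgroup_induction_up with
    | _ V ih =>
    intro hEV
    have hV := hG.to_subgroup V
    rcases hEV.eq_or_lt with rfl | hlt
    · exact ⟨E, le_rfl, le_normalizer, hE, hE4⟩
    obtain ⟨M, hEM, hMV, hMi, hMn⟩ := exists_relIndex_prime hV hlt
    obtain ⟨F, hFM, hFn, hF, hF4⟩ := ih M (card_lt_of_lt (lt_of_relIndex_prime hMi hMV)) hEM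
    obtain ⟨A₀, -, h1, h2, h3, h4⟩ := exists_normal_ea_three hp hV (E := ⊥)
      (le_trans (by omega) (CfsgFT.Elem.le_rk (k := 4) ⟨hEV, hE, hE4⟩)) bot_le
      (by rw [normalizer_eq_top]; exact le_top) CfsgFT.ea_bot
    obtain ⟨A, h5, hAV, hAn, hA, hmax⟩ := exists_max_normal_ea h1 h2 h3
    have hM := maxElem_of_max_normal hp hV hAV hAn hA hmax
    by_cases h6 : p ^ 4 ≤ Nat.card A
    · obtain ⟨K, h7, h8, h9⟩ := exists_normal_card' hV hAV hAn h6
      exact ⟨K, h7.trans hAV, h8, CfsgFT.ea_mono hA h7, h9⟩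
    have hA3 : Nat.card A = p ^ 3 := le_antisymm (not_lt.1 fun h => h6
      (le_card_of_lt (CfsgFT.ea_isPGroup hA) h)) (h4.trans (card_le_of_le h5))
    have hAc := CfsgFT.ea_le_centralizer hA
    -- properties of an elementary abelian subgroup of order `p ^ 4` normal in `M`
    have hcent : ∀ F ≤ V, IsElementaryAbelian p F → F ⊓ centralizer (A : Set G) ≤ A :=
      fun F hFV hF x hx => hM.mem (hFV hx.1) hx.2 (hF.2 x hx.1)
    have hgen : ∀ B ≤ A, Nat.card B = p ^ 2 → ∀ a ∈ A, a ∉ B → B ⊔ zpowers a = A := fun B hB h1 a ha h2 =>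
      sup_zpowers_eq_of_relIndex_prime (relIndex_eq_of_card hB (by rw [hA3, h1, pow_succ])) hB ha h2
    have hAp := CfsgFT.ea_isPGroup hA
    have hex : ∀ B ≤ A, Nat.card B = p ^ 2 → ∃ a ∈ A, a ∉ B := fun B hB h1 =>
      SetLike.exists_of_lt (lt_of_le_of_ne hB fun e => by
        rw [e, hA3] at h1; have := Nat.pow_right_injective hp'.two_le h1; omega)
    have hidx : ∀ F ≤ V, IsElementaryAbelian p F → (centralizer (A : Set G)).relIndex F ≤ p ^ 2 := by
      intro F hFV hF
      obtain ⟨B, hBA, hBn, hB⟩ := exists_normal_card' hV hAV hAn (k := 2)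
        (by rw [hA3]; exact Nat.pow_le_pow_right hp'.pos (by omega))
      obtain ⟨a, ha, haB⟩ := hex B hBA hB
      have h1 := commutator_le_of_card_succ hV hAV hAn hBn hBA (by rw [hA3, hB, pow_succ])
      have h2 : ∀ g ∈ V, g * a * g⁻¹ * a⁻¹ ∈ B := fun g hg =>
        comm_mem_symm (h1 (mul_mul_inv_mul_inv_mem_commutator ha hg))
      have h3 := relIndex_centralizer_le (V := centralizer (B : Set G) ⊓ F) (x := a)
        (B := B ⊓ centralizer (F : Set G)) fun t ht => mem_inf.2 ⟨h2 t (hFV ht.2), fun f hf => by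
          have e1 := (CfsgFT.ea_iff.1 hF).1 f hf t ht.2
          have e2 := ht.1 _ (h2 f (hFV hf))
          have e3 := (CfsgFT.ea_iff.1 hA).1 _ (hBA (h2 f (hFV hf))) _ (hBA (h2 t (hFV ht.2)))
          calc f * (t * a * t⁻¹ * a⁻¹)
              = f * t * f⁻¹ * (f * a * f⁻¹ * a⁻¹) * a * (f * t * f⁻¹)⁻¹ * a⁻¹ *
                (f * a * f⁻¹ * a⁻¹)⁻¹ * f := by group
            _ = (t * (f * a * f⁻¹ * a⁻¹) * t⁻¹) * (t * a * t⁻¹ * a⁻¹) * (f * a * f⁻¹ * a⁻¹)⁻¹ * f := by
                rw [e1]; group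
            _ = _ := by rw [← e2, mul_inv_cancel_right, e3]; group⟩
      have h4 : centralizer (A : Set G) = centralizer ({a} : Set G) ⊓ centralizer (B : Set G) := by
        rw [← hgen B hBA hB a ha haB, centralizer_sup', centralizer_zpowers', inf_comm]
      rw [h4, ← relIndex_inf_mul_relIndex]
      by_cases h5 : F ≤ centralizer (B : Set G)
      · rw [relIndex_eq_one.2 h5, mul_one]
        exact h3.trans (hB ▸ card_le_of_le inf_le_left)
      · have h7 := mul_card_le_of_lt (hAp.to_le hBA) (lt_of_le_of_ne (inf_le_left (b := centralizer (F : Set G)))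
          fun e => h5 (le_centralizer_iff.1 (e.ge.trans inf_le_right)))
        rw [hB, sq] at h7
        have h8 := (relIndex_le_of_le_right hFV (relIndex_ne_zero _ _)).trans
          (relIndex_centralizer_le_pow hV 2 B (hBA.trans hAV) hBn hB)
        rw [sq]
        exact Nat.mul_le_mul (h3.trans (Nat.le_of_mul_le_mul_right h7 hp'.pos)) (by simpa using h8)
    have hinf : ∀ F ≤ V, IsElementaryAbelian p F → centralizer (A : Set G) ⊓ F = F ⊓ A := fun F hFV hF =>
      le_antisymm (le_inf inf_le_right (inf_comm F _ ▸ hcent F hFV hF)) (le_inf (inf_le_right.trans hAc) inf_le_left)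
    have hcard : ∀ F ≤ V, IsElementaryAbelian p F → Nat.card F = p ^ 4 → Nat.card ↥(F ⊓ A) = p ^ 2 ∧
        (centralizer (A : Set G)).relIndex F = p ^ 2 := by
      intro F hFV hF hF4
      have h2 : ¬ p ^ 2 < Nat.card ↥(F ⊓ A) := fun h => by
        have h3 := eq_of_le_of_card_le (inf_le_right : F ⊓ A ≤ A)
          (hA3 ▸ le_card_of_lt (hAp.to_le inf_le_right) h)
        have h4 : F ≤ A := fun x hx => hcent F hFV hF ⟨hx, fun a ha =>
          (CfsgFT.ea_iff.1 hF).1 a (h3.ge ha).1 x hx⟩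
        exact h6 (hF4 ▸ card_le_of_le h4)
      have h5 := card_mul_relIndex (inf_le_right : centralizer (A : Set G) ⊓ F ≤ F)
      rw [inf_relIndex_right, hF4, hinf F hFV hF, show 4 = 2 + 2 from rfl, pow_add] at h5
      have h7 := hidx F hFV hF
      have h8 : Nat.card ↥(F ⊓ A) = p ^ 2 := le_antisymm (not_lt.1 h2) (Nat.le_of_mul_le_mul_right
        (h5.ge.trans (Nat.mul_le_mul_left _ h7)) (pow_pos hp'.pos 2))
      rw [h8] at h5
      exact ⟨h8, Nat.eq_of_mul_eq_mul_left (pow_pos hp'.pos 2) h5⟩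
    refine ⟨F, hFM.trans hMV, fun g hg => cj_eq_iff_mem_normalizer.1 ?_, hF, hF4⟩
    have hMg : cj g M = M := cj_eq_iff_mem_normalizer.2 (hMn hg)
    have hF'M : cj g F ≤ M := hMg ▸ cj_mono g hFM
    have hF'n : M ≤ normalizer (cj g F : Set G) := by
      rw [← cj_normalizer]; exact hMg.ge.trans (cj_mono g hFn)
    have hF' := CfsgFT.ea_cj hF g
    have hF'4 := (card_cj g F).trans hF4
    generalize cj g F = F' at hF'M hF'n hF' hF'4
    obtain ⟨c1, c2⟩ := hcard F (hFM.trans hMV) hF hF4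
    obtain ⟨c1', c2'⟩ := hcard F' (hF'M.trans hMV) hF' hF'4
    have hB : F ⊓ A = F' ⊓ A := by
      by_contra hne
      obtain ⟨a, ha, ha'⟩ : ∃ a ∈ F ⊓ A, a ∉ F' ⊓ A := by
        by_contra h; push Not at h
        exact hne (eq_of_le_of_card_le h (by rw [c1, c1']))
      have h1 := relIndex_centralizer_le (V := F') (x := a) (B := (F ⊓ A) ⊓ (F' ⊓ A)) fun t ht => by
        have h2 : t * a * t⁻¹ * a⁻¹ ∈ A := mul_mem (conj_mem_of_mem_normalizer (hAn (hMV (hF'M ht))) ha.2)
          (inv_mem ha.2)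
        refine mem_inf.2 ⟨mem_inf.2 ⟨mul_mem (conj_mem_of_mem_normalizer (hFn (hF'M ht)) ha.1)
          (inv_mem ha.1), h2⟩, mem_inf.2 ⟨?_, h2⟩⟩
        simpa [mul_assoc] using mul_mem ht (conj_mem_of_mem_normalizer (hF'n (hFM ha.1)) (inv_mem ht))
      have h3 := mul_card_le_of_lt (hAp.to_le inf_le_right) (lt_of_le_of_ne
        (inf_le_left : (F ⊓ A) ⊓ (F' ⊓ A) ≤ F ⊓ A) fun e => ha' (e.ge ha).2)
      rw [c1, sq] at h3
      have h4 : (centralizer (A : Set G)).relIndex F' = (centralizer ({a} : Set G)).relIndex F' := by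
        rw [← hgen _ inf_le_right c1' a ha.2 ha', centralizer_sup', centralizer_zpowers',
          ← inf_relIndex_right, inf_right_comm, inf_eq_right.2 (show F' ≤ centralizer ((F' ⊓ A : Subgroup G) : Set G) from fun x hx y hy =>
            (CfsgFT.ea_iff.1 hF').1 y hy.1 x hx), inf_relIndex_left]
      have h5 := (h1.trans (Nat.le_of_mul_le_mul_right h3 hp'.pos))
      rw [← h4, c2'] at h5
      have := hp'.two_le
      nlinarith
    obtain ⟨a, ha, haB⟩ := hex _ inf_le_right c1
    have hCA : centralizer (A : Set G) = centralizer ({a} : Set G) ⊓ centralizer ((F ⊓ A : Subgroup G) : Set G) := by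
      nth_rewrite 1 [← hgen _ inf_le_right c1 a ha haB]
      rw [centralizer_sup', centralizer_zpowers', inf_comm]
    obtain ⟨T, hT⟩ : ∃ T, T = V ⊓ centralizer ((F ⊓ A : Subgroup G) : Set G) := ⟨_, rfl⟩
    have hFT : F ≤ T := hT ▸ le_inf (hFM.trans hMV) fun x hx y hy => (CfsgFT.ea_iff.1 hF).1 y hy.1 x hx
    have hF'T : F' ≤ T := hT ▸ le_inf (hF'M.trans hMV) fun x hx y hy =>
      (CfsgFT.ea_iff.1 hF').1 y (hB.le hy).1 x hx
    have hTV : T ≤ V := hT ▸ inf_le_left
    have h1 : (centralizer (A : Set G)).relIndex T ≤ p ^ 2 := by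
      have h2 := commutator_le_of_card_succ (hG.to_subgroup (T ⊔ A)) le_sup_right
        (sup_le (hTV.trans hAn) le_normalizer) (M := F ⊓ A) (le_trans (sup_le (hT ▸ inf_le_right)
          (hAc.trans (centralizer_le inf_le_right))) (Subgroup.centralizer_le_normalizer _)) inf_le_right
        (by rw [hA3, c1, pow_succ])
      have h3 := relIndex_centralizer_le (V := T) (x := a) (B := F ⊓ A) fun t ht =>
        comm_mem_symm (h2 (mul_mul_inv_mul_inv_mem_commutator ha (mem_sup_left ht)))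
      rwa [hCA, ← inf_relIndex_right, inf_assoc, inf_eq_right.2 (hT.le.trans inf_le_right), inf_relIndex_right, ← c1]
    have h2 : F ⊔ (centralizer (A : Set G) ⊓ T) = T := by
      have h3 : F ≤ normalizer ((centralizer (A : Set G) ⊓ T : Subgroup G) : Set G) :=
        le_normalizer_inf' (le_normalizer_centralizer' (hFM.trans (hMV.trans hAn))) (hFT.trans le_normalizer)
      refine eq_of_le_of_card_le (sup_le hFT inf_le_right) ?_
      rw [← card_mul_relIndex (inf_le_right : centralizer (A : Set G) ⊓ T ≤ T),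
        ← card_mul_relIndex (le_sup_right : centralizer (A : Set G) ⊓ T ≤ F ⊔ _), sup_comm,
        relIndex_sup_of_normalizer h3, inf_relIndex_right, ← inf_relIndex_right _ F, inf_assoc,
        inf_eq_right.2 hFT, inf_relIndex_right, c2]
      exact Nat.mul_le_mul_left _ h1
    have hcl : ⁅⁅F ⊔ F', F ⊔ F'⁆, F ⊔ F'⁆ = ⊥ := by
      have hn : F ⊔ F' ≤ normalizer ((F ⊓ F' : Subgroup G) : Set G) :=
        le_normalizer_inf' ((sup_le hFM hF'M).trans hFn) ((sup_le hFM hF'M).trans hF'n)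
      have h3 : ⁅F, F'⁆ ≤ F ⊓ F' := le_inf (commutator_le_left_of_normalizer (hF'M.trans hFn))
        (commutator_comm F F' ▸ commutator_le_left_of_normalizer (hFM.trans hF'n))
      refine commutator_eq_bot_of_le_centralizer (le_trans (?_ : _ ≤ F ⊓ F') ?_)
      · refine commutator_sup_le (le_sup_left.trans hn) (le_sup_right.trans hn) ?_ ?_ <;>
          rw [commutator_comm] <;>
          refine commutator_sup_le (le_sup_left.trans hn) (le_sup_right.trans hn) ?_ ?_
        · rw [commutator_eq_bot_of_le_centralizer (CfsgFT.ea_le_centralizer hF)]; exact bot_le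
        · rwa [commutator_comm]
        · exact h3
        · rw [commutator_eq_bot_of_le_centralizer (CfsgFT.ea_le_centralizer hF')]; exact bot_le
      · rw [centralizer_sup']
        exact inf_le_inf (CfsgFT.ea_le_centralizer hF) (CfsgFT.ea_le_centralizer hF')
    have hexp : ∀ x ∈ F ⊔ F', x ^ p = 1 := fun x hx => omegaOne_exponent_of_class _ (hG.to_subgroup _)
      (Or.inl ⟨hp, hcl⟩) x ((sup_le (fun y hy => mem_omegaOne (mem_sup_left hy) (hF.2 y hy))
        (fun y hy => mem_omegaOne (mem_sup_right hy) (hF'.2 y hy)) : F ⊔ F' ≤ omegaOne p (F ⊔ F')) hx)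
    have h3 : ∀ y ∈ F', ∃ x ∈ F, ∃ a ∈ A, x * a = y := fun y hy => by
      obtain ⟨x, hx, c, hc, e⟩ := (mem_sup_of_normalizer' (le_normalizer_inf' (le_normalizer_centralizer'
        (hFM.trans (hMV.trans hAn))) (hFT.trans le_normalizer))).1 (h2.ge (hF'T hy))
      refine ⟨x, hx, c, hM.mem (hTV hc.2) hc.1 (hexp c ?_), e⟩
      rw [eq_inv_mul_of_mul_eq e]
      exact mul_mem (inv_mem (mem_sup_left hx)) (mem_sup_right hy)
    by_contra hne
    obtain ⟨y, hy, hyF⟩ : ∃ y ∈ F', y ∉ F := by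
      by_contra h; push Not at h
      exact hne (eq_of_le_of_card_le h (by rw [hF4, hF'4]))
    obtain ⟨x, hx, c, hc, rfl⟩ := h3 y hy
    have hcB : c ∉ F ⊓ A := fun h => hyF (mul_mem hx h.1)
    have h4 : F ⊓ F' ≤ F ⊓ A := fun f hf => by
      rw [← hinf F (hFM.trans hMV) hF, ← hgen _ inf_le_right c1 c hc hcB, centralizer_sup',
        centralizer_zpowers']
      refine ⟨⟨fun z hz => (CfsgFT.ea_iff.1 hF).1 z hz.1 f hf.1, mem_centralizer_singleton_iff.2 ?_⟩, hf.1⟩
      have e1 := (CfsgFT.ea_iff.1 hF').1 f hf.2 _ hy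
      rw [← mul_assoc, (CfsgFT.ea_iff.1 hF).1 f hf.1 x hx, mul_assoc, mul_assoc] at e1
      exact mul_left_cancel e1
    have h5 : F' ≤ A ⊔ F := fun y hy => by
      obtain ⟨x, hx, a, ha, rfl⟩ := h3 y hy
      exact mul_mem (mem_sup_right hx) (mem_sup_left ha)
    have h7 : F.relIndex (A ⊔ F) = p := by
      refine relIndex_eq_of_card le_sup_right ?_
      rw [← card_mul_relIndex (le_sup_left : A ≤ A ⊔ F), relIndex_sup_of_normalizer (hFM.trans (hMV.trans hAn)),
        ← inf_relIndex_left, relIndex_eq_of_card (inf_le_left : F ⊓ A ≤ F) (n := p ^ 2) (by rw [hF4, c1]; ring),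
        hA3, hF4]
      ring
    have h8 := (relIndex_le_of_le_right h5 (relIndex_ne_zero F _)).trans h7.le
    have h9 := card_mul_relIndex (inf_le_right : F ⊓ F' ≤ F')
    rw [inf_relIndex_right, hF'4] at h9
    have h10 := h9.ge.trans (Nat.mul_le_mul (c1 ▸ card_le_of_le h4) h8)
    rw [← pow_succ, Nat.pow_le_pow_iff_right hp'.one_lt] at h10
    omega
  obtain ⟨A, -, h1, h2, h3⟩ := key ⊤ le_top
  exact ⟨A, normalizer_eq_top_iff.1 (top_le_iff.1 h1), h2, h3⟩


end Cfsg.Agent.S0122
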