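import Cfsg.Statements.S0125
import Cfsg.Agent.H2.Focal

set_option autoImplicit false
open Cfsg

namespace Cfsg.Agent.S0125
open Subgroup CfsgH2

/-- The centralizer of a self-centralizing normal subgroup A of a Sylow p-subgroup is the direct product of A with a normal p'-subgroup. -/
theorem result {G : Type*} [Group G] [Finite G] {p : ℕ} [Fact p.Prime] (R : Sylow p G) (A : Subgroup G) (hAR : A ≤ (R : Subgroup G)) (hAn : (R : Subgroup G) ≤ Subgroup.normalizer (A : Set G)) (hC : (R : Subgroup G) ⊓ Subgroup.centralizer (A : Set G) = A) : ∃ H : Subgroup G, H ≤ Subgroup.centralizer (A : Set G) ∧ Nat.Coprime (Nat.card H) p ∧ Subgroup.centralizer (A : Set G) ≤ Subgroup.normalizer (H : Set G) ∧ H ⊓ A = ⊥ ∧ H ⊔ A = Subgroup.centralizer (A : Set G) := by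
  have hRN := IsSylowIn.of_sylow R hAn
  have hAC : IsSylowIn p A (centralizer (A : Set G)) := by
    have := hRN.inf_of_normalizer' (centralizer_le_normalizer _)
      (normalizer_le_normalizer_centralizer A)
    have h2 : (R : Subgroup G) ⊓ centralizer (A : Set G) = A := hC
    rwa [h2] at this
  have hN : HasNormalPComplement p (centralizer (A : Set G)) := burnside_hasNPC hAC inf_le_left
  refine ⟨resIn p (centralizer (A : Set G)), resIn_le _, ?_, le_normalizer_resIn _, ?_, ?_⟩
  · exact ((Nat.Prime.coprime_iff_not_dvd Fact.out).2 (hasNPC_subgroup_iff.1 hN)).symm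
  · rw [inf_comm]; exact hAC.hasNPC_iff.1 hN
  · rw [sup_comm]; exact hAC.sup_resIn


end Cfsg.Agent.S0125
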