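import Cfsg.Statements.S0126
import Cfsg.Agent.H2.PGroup2

set_option autoImplicit false
open Cfsg

namespace Cfsg.Agent.S0126
open Subgroup CfsgH2

/-- For odd p, every non-cyclic p-group contains a normal elementary abelian subgroup of order p^2. -/
theorem result {R : Type*} [Group R] [Finite R] {p : ℕ} [Fact p.Prime] (hp : p ≠ 2) (hR : IsPGroup p R) (hnc : ¬ IsCyclic R) : ∃ A : Subgroup R, A.Normal ∧ Cfsg.IsElementaryAbelian p A ∧ Nat.card A = p ^ 2 := by
  have hT : IsPGroup p (⊤ : Subgroup R) := hR.to_subgroup _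
  have hnc' : ¬ IsCyclic (⊤ : Subgroup R) := fun h => hnc (isCyclic_of_surjective topEquiv topEquiv.surjective)
  obtain ⟨A, h1, h2, h3, h4⟩ := exists_normal_elem_two hp hT (le_refl ⊤)
    le_normalizer hnc'
  exact ⟨A, normalizer_eq_top_iff.1 (top_le_iff.1 h2), h3, h4⟩


end Cfsg.Agent.S0126
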