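import Cfsg.Statements.S0129
import Cfsg.Agent.H2.PGroup2

set_option autoImplicit false
open Cfsg

namespace Cfsg.Agent.S0129
open Subgroup CfsgH2

/-- The order of a p-group is bounded by p^(a(a+1)/2) when it has a maximal normal abelian subgroup of order p^a. -/
theorem result {G : Type*} [Group G] [Finite G] {p : ℕ} [Fact p.Prime] (hG : IsPGroup p G) (A : Subgroup G) [A.Normal] (hA : IsMulCommutative A) (hmax : ∀ B : Subgroup G, B.Normal → IsMulCommutative B → A ≤ B → B = A) (a : ℕ) (ha : Nat.card A = p ^ a) : Nat.card G ≤ p ^ (a * (a + 1) / 2) := by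
  have hT : IsPGroup p (⊤ : Subgroup G) := hG.to_subgroup _
  have hn : (⊤ : Subgroup G) ≤ normalizer (A : Set G) := by rw [normalizer_eq_top]
  have h1 := inf_centralizer_le_of_maximal hT le_rfl le_normalizer le_top hn hA
    (fun B _ hB hc hAB => hmax B (normalizer_eq_top_iff.1 (top_le_iff.1 hB)) hc hAB)
  have h2 := relIndex_centralizer_le_pow hT a A le_top hn ha
  have h3 : centralizer (A : Set G) = A :=
    le_antisymm (by simpa using h1) (isMulCommutative_iff_le_centralizer.1 hA)
  rw [h3, relIndex_top_right] at h2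
  rw [← A.card_mul_index, ha]
  calc p ^ a * A.index ≤ p ^ a * p ^ a.choose 2 := Nat.mul_le_mul_left _ h2
    _ = p ^ (a * (a + 1) / 2) := by
      rw [← pow_add, add_comm, ← choose_two_succ, Nat.choose_two_right]; simp [mul_comm]


end Cfsg.Agent.S0129
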