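import Cfsg.Statements.S0131
import Cfsg.Agent.H2.Transfer

set_option autoImplicit false
open Cfsg

namespace Cfsg.Agent.S0131
open Subgroup CfsgH2
open scoped commutatorElement

/-- P/P' has a normal complement in G exactly when the focal subgroup G' ∩ P is as small as possible, namely P'. -/
theorem result {G : Type*} [Group G] [Finite G] {p : ℕ} [Fact p.Prime] (P : Sylow p G) : (∃ N : Subgroup G, N.Normal ∧ N ⊓ (P : Subgroup G) = ⁅(P : Subgroup G), (P : Subgroup G)⁆ ∧ N ⊔ (P : Subgroup G) = ⊤) ↔ commutator G ⊓ (P : Subgroup G) = ⁅(P : Subgroup G), (P : Subgroup G)⁆ := by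
  constructor
  · rintro ⟨N, hN, h1, h2⟩
    refine le_antisymm (h1 ▸ inf_le_inf_right _ ?_) (le_inf (commutator_mono le_top le_top)
      (commutator_le_of_le le_rfl le_rfl))
    have hn : ∀ X : Subgroup G, X ≤ normalizer (N : Set G) := fun X => by rw [normalizer_eq_top]; exact le_top
    rw [_root_.commutator, ← h2]
    refine commutator_sup_le (hn _) (hn _) (commutator_le_left _ _) ?_
    rw [commutator_comm]
    exact commutator_sup_le (hn _) (hn _) (commutator_le_left _ _) (h1 ▸ inf_le_left)
  · intro h
    obtain ⟨-, N, h2, h3, h4, -⟩ := focal_of_coprime (coprime_index_sylow (IsSylowIn.of_sylow_top P)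
      (commutator_le_of_le le_rfl le_rfl))
    exact ⟨N, h2, h3.trans h, h4⟩


end Cfsg.Agent.S0131
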