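import Cfsg.Statements.S0132
import Cfsg.Agent.H2.Transfer2

set_option autoImplicit false
open Cfsg

namespace Cfsg.Agent.S0132
open Subgroup CfsgH2
open scoped commutatorElement

/-- A minimal non-p-nilpotent finite group is a minimal non-nilpotent group with a normal Sylow p-subgroup. -/
theorem result {G : Type*} [Group G] [Finite G] {p : ℕ} [Fact p.Prime] (h1 : ¬ Cfsg.HasNormalPComplement p G) (h2 : ∀ H : Subgroup G, H ≠ ⊤ → Cfsg.HasNormalPComplement p H) : (∀ H : Subgroup G, H ≠ ⊤ → Group.IsNilpotent H) ∧ ¬ Group.IsNilpotent G ∧ ∀ P : Sylow p G, (P : Subgroup G).Normal := by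
  obtain ⟨P⟩ : Nonempty (Sylow p G) := inferInstance
  obtain ⟨Q, hQ, q, hq, hqp, -, g, hg, h3, h4⟩ := exists_act_of_not_hasNPC P h1
  haveI := Fact.mk hq
  have hQp := P.isPGroup'.to_le hQ
  obtain ⟨k, hk⟩ := exists_orderOf_eq_pow h3 (mem_zpowers g)
  have hcop : (orderOf g).Coprime p := hk ▸ ((Nat.coprime_primes hq Fact.out).2 hqp).pow_left k
  have h5 : Q ⊔ zpowers g = ⊤ := by
    by_contra h
    exact h4 (mem_centralizer_of_hasNPC (h2 _ h) hQp le_sup_left
      (mem_resIn_of_coprime (mem_sup_right (mem_zpowers g)) hcop) hg)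
  haveI : Q.Normal := normalizer_eq_top_iff.1 (top_le_iff.1 (h5 ▸ sup_le le_normalizer (zpowers_le.2 hg)))
  have h6 : Q.index ∣ q ^ k := by
    rw [← relIndex_top_right, ← h5, relIndex_sup_left, ← hk, ← Nat.card_zpowers]
    exact relIndex_dvd_card _ _
  have h7 : IsSylowIn p Q ⊤ := ⟨le_top, hQp, fun h => by
    rw [relIndex_top_right] at h
    exact hqp ((Nat.prime_dvd_prime_iff_eq Fact.out hq).1 ((Fact.out : p.Prime).dvd_of_dvd_pow (h.trans h6))).symm⟩
  refine ⟨fun H hH => ?_, fun h => h1 (hasNPC_of_isNilpotent h), fun R => ?_⟩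
  · have h8 := hasNPC_iff.1 (h2 H hH)
    have h9 : IsPGroup q (pResidual p H) := by
      obtain ⟨a, ha⟩ := hQp.exists_card_eq
      have h10 : Nat.card (pResidual p H) ∣ q ^ k * p ^ a := by
        refine ((card_subgroup_dvd_card _).trans (card_subgroup_dvd_card H)).trans ?_
        rw [← Q.index_mul_card, ha]; exact Nat.mul_dvd_mul_right h6 _
      obtain ⟨j, -, hj⟩ := (Nat.dvd_prime_pow hq).1
        ((((Fact.out : p.Prime).coprime_iff_not_dvd.2 h8).symm.pow_right a).dvd_of_dvd_mul_right h10)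
      exact IsPGroup.of_card hj
    have h11 := ((h7.inf_of_normalizer (N := ⊤) (by rw [normalizer_eq_top])))
    obtain ⟨S, hS⟩ := IsSylowIn.exists_sylowIn p (⊤ : Subgroup H)
    have h12 : S ≤ Q.subgroupOf H := fun x hx => h7.le_of_le_normalizer (hS.pgroup.map H.subtype) le_top
      (by rw [normalizer_eq_top]; exact le_top) (mem_map_of_mem _ hx)
    have h13 := hS.sup_resIn
    rw [resIn_top] at h13
    have h14 := CfsgH1.isNilpotent_sup_of_normal (N := Q.subgroupOf H) (M := pResidual p H)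
      (hQp.comap_subtype.isNilpotent) h9.isNilpotent
    rw [eq_top_iff.2 (h13.ge.trans (sup_le_sup_right h12 _))] at h14
    exact Group.nilpotent_of_mulEquiv topEquiv
  · obtain ⟨x, -, e⟩ := h7.exists_cj_eq (IsSylowIn.of_sylow_top R)
    rw [← e, cj_eq_of_normal]; infer_instance


end Cfsg.Agent.S0132
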