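import Cfsg.Statements.S0138
import Cfsg.Agent.H3.Kernel

set_option autoImplicit false
open Cfsg

namespace Cfsg.Agent.S0138
open CfsgH3

/-- A character value has absolute value equal to the degree exactly when the group element acts by a scalar. -/
theorem result {G : Type*} [Group G] [Finite G] {V : Type*} [AddCommGroup V] [Module ℂ V] [FiniteDimensional ℂ V] (ρ : Representation ℂ G V) (g : G) : ‖ρ.character g‖ = (Module.finrank ℂ V : ℝ) ↔ ∃ ω : ℂ, ρ g = ω • (LinearMap.id : V →ₗ[ℂ] V) := by
  constructor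
  · intro h
    obtain ⟨ω, -, hω⟩ := rep_scalar_of_norm_eq ρ h
    exact ⟨ω, hω⟩
  · rintro ⟨ω, hω⟩
    have h1 := character_of_scalar ρ hω 1
    rw [mul_one, ρ.char_one] at h1
    by_cases hV : Module.finrank ℂ V = 0
    · rw [h1, hV]; simp
    have hV' : (Module.finrank ℂ V : ℂ) ≠ 0 := by exact_mod_cast hV
    have h2 : ρ (g ^ orderOf g) = (ω ^ orderOf g) • LinearMap.id := by
      rw [map_pow, hω, ← Module.End.one_eq_id, smul_pow, one_pow]
    have h3 := character_of_scalar ρ h2 1
    rw [pow_orderOf_eq_one, mul_one, ρ.char_one] at h3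
    have h4 : ω ^ orderOf g = 1 := by
      field_simp at h3
      exact h3.symm
    rw [h1, norm_mul, norm_eq_one_of_pow_eq_one' (orderOf_pos g).ne' h4, one_mul,
      Complex.norm_natCast]

end Cfsg.Agent.S0138
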