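import Cfsg.Statements.S0156
import Cfsg.Agent.H3.Induce

set_option autoImplicit false
open Cfsg

namespace Cfsg.Agent.S0156
open CfsgH3

/-- The character of the left regular representation is the sum over the irreducible characters χ of χ 1 • χ. -/
theorem result {G : Type*} [Group G] [Fintype G] : (Representation.leftRegular ℂ G).character = ∑ᶠ χ : Cfsg.IrrCharacter G, (χ : G → ℂ) 1 • (χ : G → ℂ) := by
  classical
  rw [finsum_irr]
  have h := (isCharacter_rep (Representation.leftRegular ℂ G)).classFun.eq_sum
  rw [h]
  refine Finset.sum_congr rfl (fun χ _ => ?_)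
  congr 1
  obtain ⟨n, -, hn⟩ := χ.2.exists_deg
  simp only [classInner, leftRegular_character, ite_mul, zero_mul, Finset.sum_ite_eq',
    Finset.mem_univ, if_true, hn]
  rw [← mul_assoc, inv_mul_cancel₀ (card_ne_zero_complex G)]
  simp

end Cfsg.Agent.S0156
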