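import Cfsg.Statements.S0160
import Cfsg.Agent.H3.Kernel

set_option autoImplicit false
open Cfsg

namespace Cfsg.Agent.S0160
open CfsgH3

/-- A finite group has as many real-valued irreducible complex characters as conjugacy classes closed under taking inverses. -/
theorem result {G : Type*} [Group G] [Finite G] : Nat.card {χ : Cfsg.IrrCharacter G // ∀ g : G, ((χ : G → ℂ) g).im = 0} = Nat.card {C : ConjClasses G // ∀ g : G, ConjClasses.mk g = C → IsConj g g⁻¹} := by
  let f : ConjClasses G → ConjClasses G := Quotient.map (fun g => g⁻¹) (fun a b h => by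
    obtain ⟨c, rfl⟩ := isConj_iff.mp h
    exact isConj_iff.mpr ⟨c, by group⟩)
  have hf : ∀ g : G, f (ConjClasses.mk g) = ConjClasses.mk g⁻¹ := fun g => rfl
  have hff : Function.Involutive f := fun C => by
    obtain ⟨g, rfl⟩ := ConjClasses.mk_surjective C
    rw [hf, hf, inv_inv]
  have h := card_fixed_irr_eq (fun χ => ⟨_, χ.2.conj_char⟩) hff.toPerm
    (fun χ g g' hg => by
      have h1 : IsConj g' g⁻¹ := ConjClasses.mk_eq_mk_iff_isConj.mp hg
      change (starRingEnd ℂ) ((χ : G → ℂ) g') = _
      rw [χ.2.classFun.of_isConj h1, χ.2.isChar.apply_inv]; simp)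
  refine (Nat.card_congr (Equiv.subtypeEquivRight (fun χ => ?_))).trans
    (h.trans (Nat.card_congr (Equiv.subtypeEquivRight (fun C => ?_))))
  · rw [Subtype.ext_iff, funext_iff]
    exact forall_congr' (fun g => Complex.conj_eq_iff_im.symm)
  · obtain ⟨g, rfl⟩ := ConjClasses.mk_surjective C
    change ConjClasses.mk g⁻¹ = _ ↔ _
    constructor
    · intro h1 x hx
      have h2 := hf x
      rw [hx, hf, h1, ← hx] at h2
      exact ConjClasses.mk_eq_mk_iff_isConj.mp h2
    · intro h1
      exact (ConjClasses.mk_eq_mk_iff_isConj.mpr (h1 g rfl)).symm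

end Cfsg.Agent.S0160
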