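import Cfsg.Statements.S0162
import Cfsg.Agent.H4.Ord2

set_option autoImplicit false
open Cfsg

namespace Cfsg.Agent.S0162

open CfsgH4 CfsgH3 CfsgH2 MonoidAlgebra

/-- If a finite group has odd order, its order is congruent to its number of conjugacy classes modulo 16. -/
theorem result {G : Type*} [Group G] [Finite G] (hodd : Odd (Nat.card G)) : Nat.card G ≡ Nat.card (ConjClasses G) [MOD 16] := by
  have := Fintype.ofFinite G
  rw [← card_irr_eq_card_conjClasses, ← ZMod.natCast_eq_natCast_iff, ← sum_deg_sq,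
    Nat.card_eq_fintype_card, ← sub_eq_zero, Fintype.card_eq_sum_ones]
  push_cast
  rw [← Finset.sum_sub_distrib]
  have hd : ∀ χ : IrrCharacter G, deg ⟨fun g => starRingEnd ℂ (χ.1 g), χ.2.conj_char⟩ = deg χ := fun χ => by
    have : starRingEnd ℂ (χ.1 1) = _ := deg_spec ⟨fun g => starRingEnd ℂ (χ.1 g), χ.2.conj_char⟩
    rw [χ.2.isChar.conj_one, deg_spec] at this
    exact_mod_cast this.symm
  refine Finset.sum_involution (fun χ _ => ⟨fun g => starRingEnd ℂ (χ.1 g), χ.2.conj_char⟩)
    (fun χ _ => ?_) (fun χ _ h e => h ?_) (fun _ _ => Finset.mem_univ _) (fun χ _ => Subtype.ext (by simp))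
  · rw [hd]
    obtain ⟨k, hk⟩ := hodd.of_dvd_nat (deg_dvd_card χ)
    rw [hk]; push_cast
    generalize (k : ZMod 16) = x
    revert x; decide
  · have : χ.1 = fun _ => 1 := by
      by_contra h1
      exact χ.2.conj_ne hodd h1 (congrArg Subtype.val e)
    have h2 := deg_spec χ
    rw [this] at h2
    rw [Nat.cast_eq_one.mp h2.symm]; simp

end Cfsg.Agent.S0162
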