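import Cfsg.Statements.S0166
import Cfsg.Agent.H4.Misc2

set_option autoImplicit false
open Cfsg

namespace Cfsg.Agent.S0166

open CfsgH4 CfsgH3 CfsgH2 MonoidAlgebra

/-- Brauer's splitting field Theorem: a complex representation of a finite group of exponent m is equivalent to a representation by matrices with entries in ℚ adjoined exp(2πi/m). -/
theorem result {G : Type*} [Group G] [Finite G] (n : ℕ) (ρ : Representation ℂ G (Fin n → ℂ)) : ∃ σ : Representation ℂ G (Fin n → ℂ), Nonempty (ρ.Equiv σ) ∧ ∀ g : G, ∀ i j : Fin n, LinearMap.toMatrix' (σ g) i j ∈ Algebra.adjoin ℚ ({Complex.exp (2 * Real.pi * Complex.I / (Monoid.exponent G : ℂ))} : Set ℂ) := by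
  have h0 : Monoid.exponent G ≠ 0 := Monoid.exponent_ne_zero_of_finite
  have : NeZero (Monoid.exponent G) := ⟨h0⟩
  have hζ := Complex.isPrimitiveRoot_exp _ h0
  set ζ := Complex.exp (2 * Real.pi * Complex.I / (Monoid.exponent G : ℂ)) with hζ'
  let K := IntermediateField.adjoin ℚ {ζ}
  have hK := IntermediateField.adjoin_simple_toSubalgebra_of_isAlgebraic (F := ℚ)
    (hζ.isIntegral (Nat.pos_of_ne_zero h0)).tower_top.isAlgebraic
  obtain ⟨m, X, h1, h2⟩ := (rz_of_roots (ι := algebraMap K ℂ) (fun z hz => by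
    obtain ⟨i, -, rfl⟩ := hζ.eq_pow_of_pow_eq_one hz
    exact ⟨⟨ζ, IntermediateField.mem_adjoin_simple_self ℚ ζ⟩ ^ i, by simp⟩)
    (isCharacter_rep ρ)).exists_mat
  have e : m = n := by
    have := h1 1
    rw [map_one, Matrix.trace_one, Representation.char_one] at this
    simpa using this
  subst e
  obtain ⟨φ, hφ⟩ := exists_equiv_of_char_eq ρ (matRep X)
    (funext fun g => by rw [matRep_char, h1])
  refine ⟨matRep X, ⟨Representation.Equiv.mk φ fun g => LinearMap.ext (hφ g)⟩, fun g i j => ?_⟩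
  rw [matRep_apply, LinearMap.toMatrix'_toLin', ← hK]
  obtain ⟨x, hx⟩ := h2 g i j
  rw [← hx]
  exact x.2

end Cfsg.Agent.S0166
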