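import Cfsg.Statements.S0167
import Cfsg.Agent.H4.Ord2

set_option autoImplicit false
open Cfsg

namespace Cfsg.Agent.S0167

open CfsgH4 CfsgH3 CfsgH2 MonoidAlgebra

/-- An element g of a finite group is a commutator if and only if the sum over the irreducible characters χ of χ g / χ 1 is nonzero. -/
theorem result {G : Type*} [Group G] [Finite G] (g : G) : (∃ a b : G, g = a * b * a⁻¹ * b⁻¹) ↔ ∑ᶠ χ : Cfsg.IrrCharacter G, (χ : G → ℂ) g / (χ : G → ℂ) 1 ≠ 0 := by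
  have := Fintype.ofFinite G
  have h := card_fiber_eq_sum (fun x : G × G => x.1 * x.2 * x.1⁻¹ * x.2⁻¹) (fun g h => Nat.card_congr
    (((MulAut.conj h).toEquiv.prodCongr (MulAut.conj h).toEquiv).subtypeEquiv fun s => by
      rw [← (MulAut.conj h).injective.eq_iff]
      simp [mul_assoc]).symm) g⁻¹
  have e : ∀ χ : IrrCharacter G, (Nat.card G : ℂ)⁻¹ * ∑ x : G × G, χ.1 (x.1 * x.2 * x.1⁻¹ * x.2⁻¹) =
      Nat.card G / χ.1 1 := fun χ => by
    rw [Fintype.sum_prod_type_right, eq_div_iff χ.2.one_ne_zero, mul_assoc, mul_comm _ (χ.1 1),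
      Finset.mul_sum, Finset.sum_congr rfl fun b _ => sum_conj_mul χ.2 b⁻¹ b, ← Finset.mul_sum,
      ← mul_assoc, inv_mul_cancel₀ (card_ne_zero_complex G), one_mul, ← χ.2.sum_conj_mul]
    exact Finset.sum_congr rfl fun b _ => by rw [χ.2.isChar.apply_inv]
  have e2 : (Nat.card G : ℂ) * ∑ χ : IrrCharacter G, χ.1 g / χ.1 1 =
      Nat.card {x : G × G // x.1 * x.2 * x.1⁻¹ * x.2⁻¹ = g⁻¹} := by
    rw [h, Finset.mul_sum]
    refine Finset.sum_congr rfl fun χ _ => ?_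
    rw [e, χ.2.isChar.apply_inv, Complex.conj_conj]; ring
  rw [finsum_irr, ← mul_ne_zero_iff_left (card_ne_zero_complex G), e2, Nat.cast_ne_zero,
    Nat.card_ne_zero]
  constructor
  · rintro ⟨a, b, rfl⟩
    exact ⟨⟨⟨(b, a), by group⟩⟩, inferInstance⟩
  · rintro ⟨⟨⟨a, b⟩, h⟩, -⟩
    exact ⟨b, a, by rw [← inv_inj, ← h]; group⟩

end Cfsg.Agent.S0167
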