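import Cfsg.Statements.S0168
import Cfsg.Agent.H4.Ord2

set_option autoImplicit false
open Cfsg

namespace Cfsg.Agent.S0168

open CfsgH4 CfsgH3 CfsgH2 MonoidAlgebra

/-- The Burnside–Brauer Theorem. Let χ be the character of a faithful complex representation of a finite group, taking m distinct values. Then every irreducible character has nonzero inner product with χ ^ i for some i < m. -/
theorem result {G : Type*} [Group G] [Fintype G] {V : Type*} [AddCommGroup V] [Module ℂ V] [FiniteDimensional ℂ V] (ρ : Representation ℂ G V) (hfaithful : Function.Injective ρ) (ψ : G → ℂ) (hψ : Cfsg.IsIrrCharacter G ψ) : ∃ i : ℕ, i < Nat.card (Set.range ρ.character) ∧ Cfsg.classInner (fun g => ρ.character g ^ i) ψ ≠ 0 := by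
  classical
  by_contra hc
  push Not at hc
  let S := (Finset.univ.image ρ.character).erase (ρ.character 1)
  let P : Polynomial ℂ := ∏ a ∈ S, (Polynomial.X - Polynomial.C a)
  have hm : ρ.character 1 ∈ Finset.univ.image ρ.character := Finset.mem_image_of_mem _ (Finset.mem_univ _)
  have hd : P.natDegree + 1 = Nat.card (Set.range ρ.character) := by
    rw [Polynomial.natDegree_finsetProd_X_sub_C_eq_card, Finset.card_erase_add_one hm,
      ← Nat.card_eq_finsetCard]
    exact Nat.card_congr (Equiv.subtypeEquivRight fun x => by simp)
  have e : (fun g => P.eval (ρ.character g)) =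
      ∑ i ∈ Finset.range (P.natDegree + 1), P.coeff i • fun g => ρ.character g ^ i := by
    ext g; rw [Polynomial.eval_eq_sum_range]; simp [Finset.sum_apply]
  have h0 : classInner (fun g => P.eval (ρ.character g)) ψ = 0 := by
    rw [e, inner_sum_left]
    refine Finset.sum_eq_zero fun i hi => ?_
    rw [CfsgH3.inner_smul_left, hc i (hd ▸ Finset.mem_range.mp hi), mul_zero]
  unfold classInner at h0
  rw [Finset.sum_eq_single 1 (fun g _ hg => by
    beta_reduce
    rw [Polynomial.eval_prod, Finset.prod_eq_zero (i := ρ.character g)
      (Finset.mem_erase.mpr ⟨fun h => hg (hfaithful (by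
        rw [map_one]; exact (character_eq_one_iff_mem_ker ρ g).mp h)),
        Finset.mem_image_of_mem _ (Finset.mem_univ _)⟩) (by simp), zero_mul]) (by simp),
    hψ.isChar.conj_one] at h0
  refine mul_ne_zero (inv_ne_zero (card_ne_zero_complex G)) (mul_ne_zero ?_ hψ.one_ne_zero) h0
  beta_reduce
  rw [Polynomial.eval_prod]
  exact Finset.prod_ne_zero_iff.mpr fun a ha => by
    simpa [sub_eq_zero] using (Finset.ne_of_mem_erase ha).symm

end Cfsg.Agent.S0168
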