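import Cfsg.Statements.S0170
import Cfsg.Agent.H3.PF1

set_option autoImplicit false
open Cfsg

namespace Cfsg.Agent.S0170
open CfsgH3

/-- Exceptional characters. Let S be a subset of a finite group contained in its normalizer N and meeting its conjugates by elements outside N only in the identity. Given n ≥ 2 distinct irreducible characters of N of equal degree that vanish on N away from S, there exist a sign ε and n distinct irreducible characters θ_i of G such that inducing χ_i − χ_j to G gives ε (θ_i − θ_j) for all i, j. -/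
theorem result {G : Type*} [Group G] [Fintype G] (S : Set G) (hSN : S ⊆ Subgroup.normalizer S) (hTI : ∀ g : G, g ∉ Subgroup.normalizer S → ∀ s ∈ S, g * s * g⁻¹ ∈ S → s = 1) (n : ℕ) (hn : 2 ≤ n) (χ : Fin n → (Subgroup.normalizer S → ℂ)) (hirr : ∀ i, Cfsg.IsIrrCharacter (Subgroup.normalizer S) (χ i)) (hinj : Function.Injective χ) (hvan : ∀ i, ∀ x : Subgroup.normalizer S, (x : G) ∉ S → χ i x = 0) (hdeg : ∀ i j, χ i 1 = χ j 1) : ∃ ε : ℂ, (ε = 1 ∨ ε = -1) ∧ ∃ θ : Fin n → (G → ℂ), (∀ i, Cfsg.IsIrrCharacter G (θ i)) ∧ Function.Injective θ ∧ ∀ i j, Cfsg.indFun (Subgroup.normalizer S) (χ i) - Cfsg.indFun (Subgroup.normalizer S) (χ j) = ε • (θ i - θ j) := by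
  have := Fintype.ofFinite (Subgroup.normalizer S)
  have hT : TIOn (Subgroup.normalizer S).subtype {x | (x : G) ∈ S ∧ x ≠ 1} := by
    intro a ha b hb g e
    rw [Subgroup.range_subtype]
    by_contra hg
    exact ha.2 (Subtype.ext (hTI g hg a ha.1 (by erw [e]; exact hb.1)))
  let i₀ : Fin n := ⟨0, by omega⟩
  have hs : ∀ i x, x ∉ {x : Subgroup.normalizer S | (x : G) ∈ S ∧ x ≠ 1} → (χ i - χ i₀) x = 0 := by
    intro i x hx
    by_cases h : (x : G) ∈ S
    · rw [show x = 1 from by_contra fun h' => hx ⟨h, h'⟩, Pi.sub_apply, hdeg i i₀, sub_self]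
    · simp [hvan _ x h]
  have hip : ∀ i j, classInner (indFun _ (χ i - χ i₀)) (indFun _ (χ j - χ i₀)) =
      classInner (χ i - χ i₀) (χ j - χ i₀) := fun i j =>
    hT.ip_ind (Subgroup.subtype_injective _) (hs i) ((hirr j).isGen.sub (hirr i₀).isGen).classFun (hs j)
  have h0 : ∀ i j, i ≠ j → classInner (χ i) (χ j) = 0 := fun i j h =>
    (hirr i).inner_of_ne (hirr j) (hinj.ne h)
  obtain ⟨ε, hε, θ, h1, h2, h3⟩ := exists_irr_family i₀ (fun i => indFun _ (χ i - χ i₀))
    (by simp [indFun_zero]) (fun i => ((hirr i).isGen.sub (hirr i₀).isGen).ind)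
    (fun i => by simp [indFun_one, hdeg i i₀])
    (fun i hi => by rw [hip]; simp [ip_sub_left, ip_sub_right, (hirr _).inner_self, h0 _ _ hi, h0 _ _ hi.symm]; norm_num)
    (fun i j hi hj hij => by rw [hip]; simp [ip_sub_left, ip_sub_right, (hirr _).inner_self, h0 _ _ hi, h0 _ _ hj.symm, h0 _ _ hij])
  refine ⟨ε, hε, θ, h1, h2, fun i j => ?_⟩
  have := h3 i
  have := h3 j
  simp only [indFun_sub] at *
  linear_combination (norm := module) h3 i - h3 j

end Cfsg.Agent.S0170
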