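import Cfsg.Statements.S0172
import Cfsg.Agent.H4.Ord4

set_option autoImplicit false
open Cfsg

namespace Cfsg.Agent.S0172

open CfsgH4 CfsgH3

/-- Class number of a Frobenius group: if G = K H with K normal, K ⊓ H trivial and no non-identity element of H commuting with a non-identity element of K, then |H| * k(G) + 1 = |H| * k(H) + k(K), where k denotes the number of conjugacy classes. -/
theorem result {G : Type*} [Group G] [Finite G] (K H : Subgroup G) [K.Normal] (hKH : K ⊓ H = ⊥) (hKH' : K ⊔ H = ⊤) (hfpf : ∀ h ∈ H, h ≠ 1 → ∀ k ∈ K, h * k = k * h → k = 1) : Nat.card H * Nat.card (ConjClasses G) + 1 = Nat.card H * Nat.card (ConjClasses H) + Nat.card (ConjClasses K) := by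
  classical
  have := Fintype.ofFinite G
  have := Fintype.ofFinite K
  have := Fintype.ofFinite (G ⧸ K)
  obtain ⟨e, -⟩ := exists_quotEquiv hKH' (disjoint_iff.2 hKH)
  have hC : ∀ k ∈ K, k ≠ 1 → Subgroup.centralizer {k} ≤ K := fun k => cent_le_of_fpf hKH' hfpf
  have top : ∀ (X : Type _) [Group X], Nat.card (Subgroup.centralizer ({1} : Set X)) = Nat.card X :=
    fun X _ => by rw [Subgroup.centralizer_eq_top_iff_subset.2 (by simp), Subgroup.card_top]
  have h1 := sum_card_centralizer (G := G)
  have h2 := sum_card_centralizer (G := K)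
  have h3 := sum_comp_mk K fun q => Nat.card (Subgroup.centralizer ({q} : Set (G ⧸ K)))
  rw [sum_card_centralizer, ← card_classes_congr e, ← Nat.card_congr e.toEquiv] at h3
  rw [← Finset.sum_filter_add_sum_filter_not _ (· ∈ K)] at h1 h3
  rw [Finset.sum_congr rfl (s₁ := Finset.univ.filter fun g => ¬ g ∈ K) fun g hg => card_cent_eq_quot K
    fun χ a b => a.eq_zero_of_free K b fun h c d => by_contra fun f => (Finset.mem_filter.1 hg).2
      (hC h c f (Subgroup.mem_centralizer_singleton_iff.2 d.symm)),
    Finset.sum_subtype (p := (· ∈ K)) _ (by simp), ← Finset.add_sum_erase _ _ (Finset.mem_univ 1),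
    Finset.sum_congr rfl (s₁ := Finset.univ.erase (1 : K))
      (g := fun k => Nat.card (Subgroup.centralizer ({k} : Set K))) fun k hk => by
      rw [← Nat.card_congr (Subgroup.subgroupOfEquivOfLe (hC k k.2 fun f =>
        (Finset.mem_erase.1 hk).1 (Subtype.ext f))).toEquiv]
      congr 2
      ext y
      simp only [Subgroup.mem_subgroupOf, Subgroup.mem_centralizer_singleton_iff, Subtype.ext_iff,
        Subgroup.coe_mul], OneMemClass.coe_one, top] at h1
  rw [← Finset.add_sum_erase _ _ (Finset.mem_univ 1), top] at h2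
  rw [Finset.sum_congr rfl (s₁ := Finset.univ.filter (· ∈ K)) (g := fun _ => Nat.card H) (fun g hg => by
      rw [(QuotientGroup.eq_one_iff g).2 (Finset.mem_filter.1 hg).2, top, Nat.card_congr e.toEquiv]),
    Finset.sum_const, ← Fintype.card_subtype, ← Nat.card_eq_fintype_card, smul_eq_mul, smul_eq_mul] at h3
  have h4 := Subgroup.card_eq_card_quotient_mul_card_subgroup K
  rw [← Nat.card_congr e.toEquiv] at h4
  apply Nat.eq_of_mul_eq_mul_left (Nat.card_pos (α := K))
  rw [h4] at h1
  nlinarith

end Cfsg.Agent.S0172
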