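import Cfsg.Statements.S0175
import Cfsg.Agent.H4.Ord2

set_option autoImplicit false
open Cfsg

namespace Cfsg.Agent.S0175

open CfsgH4 CfsgH3 CfsgH2 MonoidAlgebra

/-- Taketa's Theorem on M-groups: if every irreducible complex character of a finite group is induced from a linear character (a homomorphism to ℂˣ) of some subgroup, the group is solvable. -/
theorem result {G : Type*} [Group G] [Fintype G] (hM : ∀ χ : G → ℂ, Cfsg.IsIrrCharacter G χ → ∃ (H : Subgroup G) (lam : H →* ℂˣ), χ = Cfsg.indFun H (fun h => (lam h : ℂ))) : Group.IsSolvable G := by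
  rw [Group.isSolvable_iff_commutator_lt]
  by_contra hc
  push Not at hc
  obtain ⟨D₀, h1, h2⟩ := hc
  have h3 : D₀ ≤ ⁅D₀, D₀⁆ := by
    by_contra h
    exact h2 (lt_of_le_of_ne (Subgroup.commutator_le_self _) fun e => h e.ge)
  let D := Subgroup.normalClosure (D₀ : Set G)
  have hD : D ≤ ⁅D, D⁆ := Subgroup.normalClosure_le_normal
    (h3.trans (Subgroup.commutator_mono Subgroup.le_normalClosure Subgroup.le_normalClosure))
  have key : ∀ n : ℕ, ∀ χ, IsIrrCharacter G χ → χ 1 = n → ∀ x ∈ D, χ x = χ 1 := by
    intro n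
    induction n using Nat.strong_induction_on with
    | _ n ih =>
    intro χ hχ hn
    obtain ⟨H, lam, rfl⟩ := hM χ hχ
    have hi : H.index = n := by
      rw [indFun_one] at hn; simpa using hn
    have hp : IsCharacter G (indFun H fun _ => 1) := isChar_one.ind
    have h4 := hp.sub_constituent isIrr_one (by rw [ip_indFun_one_one]; exact one_ne_zero)
    have hn0 : 0 < n := hi ▸ Nat.pos_of_ne_zero Subgroup.index_ne_zero_of_finite
    have hDH : D ≤ H := fun x hx => by
      have h5 := apply_eq_of_constituents h4 (c := x) fun ψ hψ hc => by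
        obtain ⟨m, -, hm⟩ := hψ.exists_deg
        have := h4.deg_le_of_constituent hψ hc (a := n - 1) (by
          rw [Pi.sub_apply, indFun_one, hi, Nat.cast_pred hn0, mul_one]) hm
        exact ih m (by omega) ψ hψ hm x hx
      rw [Pi.sub_apply, Pi.sub_apply, sub_left_inj, indFun_one_apply, indFun_one_apply] at h5
      have h6 : Nat.card {y : G // y⁻¹ * x * y ∈ H} = Nat.card {y : G // y⁻¹ * 1 * y ∈ H} := by
        exact_mod_cast mul_left_cancel₀ (inv_ne_zero (card_ne_zero_complex H)) h5
      by_contra hxH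
      have h7 : Nat.card {y : G // y⁻¹ * 1 * y ∈ H} = Nat.card G :=
        Nat.card_congr (Equiv.subtypeUnivEquiv fun y => by simp)
      have h8 := Finite.card_subtype_lt (p := fun y : G => y⁻¹ * x * y ∈ H) (x := 1) (by simpa using hxH)
      omega
    have hl : ∀ x (hx : x ∈ D), lam ⟨x, hDH hx⟩ = 1 := fun x hx => by
      have : ⁅D, D⁆ ≤ lam.ker.map H.subtype := by
        rw [Subgroup.commutator_le]
        intro a ha b hb
        exact ⟨_, lin_commutator lam (Subgroup.commutator_mem_commutator (Subgroup.mem_top ⟨a, hDH ha⟩)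
          (Subgroup.mem_top ⟨b, hDH hb⟩)), rfl⟩
      obtain ⟨y, hy, rfl⟩ := this (hD hx)
      exact hy
    intro x hx
    rw [indFun_apply', indFun_apply']
    congr 1
    refine Finset.sum_congr rfl fun y _ => ?_
    have a := (inferInstance : D.Normal).conj_mem x hx y
    have b := (inferInstance : D.Normal).conj_mem 1 D.one_mem y
    rw [ext0_of_mem _ _ (hDH a), ext0_of_mem _ _ (hDH b), hl _ a, hl _ b]
  refine h1 (eq_bot_iff.mpr fun x hx => eq_one_of_forall_irr fun χ hχ => ?_)
  obtain ⟨n, -, hn⟩ := hχ.exists_deg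
  exact key n χ hχ hn x (Subgroup.le_normalClosure hx)

end Cfsg.Agent.S0175
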