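import Cfsg.Statements.S0177
import Cfsg.Agent.H4.Ord4

set_option autoImplicit false
open Cfsg

namespace Cfsg.Agent.S0177

open CfsgH4 CfsgH3

/-- The Artin induction Theorem: for a character χ of a finite group, |G| • χ is a ℤ-linear combination of functions induced from homomorphisms of cyclic subgroups into ℂˣ. -/
theorem result {G : Type*} [Group G] [Fintype G] (χ : G → ℂ) (hχ : Cfsg.IsCharacter G χ) : ∃ l : List ((A : Subgroup G) × ((A →* ℂˣ) × ℤ)), (∀ t ∈ l, IsCyclic t.1) ∧ (Nat.card G : ℂ) • χ = (l.map fun t => (t.2.2 : ℂ) • Cfsg.indFun t.1 (fun a => (t.2.1 a : ℂ))).sum := by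
  classical
  have := Fintype.ofFinite (Subgroup G)
  let θ : (A : Subgroup G) → A → ℂ := fun A a => if Subgroup.zpowers (a : G) = A then Nat.card A * χ a else 0
  have h1 : (Nat.card G : ℂ) • χ = ∑ A, indFun A (θ A) := by
    funext g
    simp only [Finset.sum_apply, indFun_apply', Finset.mul_sum]
    rw [Finset.sum_comm, Finset.sum_congr rfl (g := fun _ => χ g) fun x _ => ?_]
    · simp
    rw [Finset.sum_eq_single (Subgroup.zpowers (x * g * x⁻¹)) (fun A _ h => ?_) (by simp),
      ext0_of_mem _ _ (Subgroup.mem_zpowers _)]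
    · simp only [θ, if_true]
      rw [inv_mul_cancel_left₀ (card_ne_zero_complex _), hχ.classFun]
    · rw [ext0_eq]
      split_ifs
      · simp [θ, h.symm]
      · simp
  refine exists_list_of_mem_closure (β := fun A : Subgroup G => A →* ℂˣ)
    (fun A lam => indFun A fun a => (lam a : ℂ)) (fun A _ => IsCyclic A) ?_
  rw [h1]
  refine sum_mem fun A _ => ?_
  by_cases hA : IsCyclic A
  swap
  · rw [show θ A = 0 from funext fun a => if_neg fun e : Subgroup.zpowers (a : G) = A =>
      hA (by rw [← e]; infer_instance), indFun_zero]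
    exact zero_mem _
  have := Fintype.ofFinite A
  have hc : ∀ a b : A, a * b = b * a := mul_comm'
  have h2 : IsGeneralizedCharacter A (θ A) := isGen_of_inner_int (fun a b => by
      rw [hc b, mul_inv_cancel_right]) fun ψ hψ => by
    obtain ⟨n, hn⟩ := exists_int_sum_closed ((hχ.restrict A).mul hψ.isChar.conj_char).isGen
      (Finset.univ.filter fun a : A => Subgroup.zpowers (a : G) = A) (fun a ha k hk => by
        simp only [Finset.mem_filter, Finset.mem_univ, true_and] at ha ⊢
        refine le_antisymm (Subgroup.zpowers_le.2 (a ^ k).2) (ha.ge.trans (Subgroup.zpowers_le.2 ?_))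
        exact mem_zpowers_pow_iff.2 (hk.coprime_dvd_right (A.orderOf_dvd_natCard a.2)))
    refine ⟨n, ?_⟩
    rw [← hn, classInner, Finset.sum_filter, Finset.mul_sum]
    refine Finset.sum_congr rfl fun a _ => ?_
    simp only [θ]
    split_ifs
    · rw [mul_assoc, inv_mul_cancel_left₀ (card_ne_zero_complex _)]; rfl
    · simp
  obtain ⟨m, -, hm⟩ := h2.exists_coeff
  rw [hm, indFun_sum]
  refine sum_mem fun ψ _ => ?_
  obtain ⟨lam, hl⟩ := ψ.2.isChar.exists_hom_of_deg_one (ψ.2.deg_one_of_comm hc)
  rw [Int.cast_smul_eq_zsmul, indFun_zsmul]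
  refine zsmul_mem (AddSubgroup.subset_closure ?_) _
  exact ⟨A, lam, hA, by rw [hl]⟩

end Cfsg.Agent.S0177
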