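import Cfsg.Statements.S0178
import Cfsg.Agent.H3.Ip

set_option autoImplicit false
open Cfsg

namespace Cfsg.Agent.S0178
open CfsgH3

/-- The degree of an irreducible complex representation of a finite group is at most the index of any abelian subgroup. -/
theorem result {G : Type*} [Group G] [Finite G] {V : Type*} [AddCommGroup V] [Module ℂ V] [FiniteDimensional ℂ V] (ρ : Representation ℂ G V) [ρ.IsIrreducible] (A : Subgroup G) (hA : ∀ a ∈ A, ∀ b ∈ A, a * b = b * a) : Module.finrank ℂ V ≤ A.index := by
  have := Fintype.ofFinite G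
  have := Fintype.ofFinite A
  have hχ := isIrr_rep ρ
  obtain ⟨θ, hθ, hne⟩ := (hχ.isChar.restrict A).classFun.exists_constituent (fun h0 =>
    hχ.one_ne_zero (congrFun h0 1))
  have h1 := hθ.deg_one_of_comm (fun a b => Subtype.ext (hA a a.2 b b.2))
  rw [← inner_indFun_right A θ hχ.classFun, Ne, ip_eq_zero_symm] at hne
  refine hθ.isChar.ind.deg_le_of_constituent hχ hne ?_ ρ.char_one
  rw [indFun_one, h1, mul_one]

end Cfsg.Agent.S0178
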