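import Cfsg.Statements.S0180
import Cfsg.Agent.H4.Ord2

set_option autoImplicit false
open Cfsg

namespace Cfsg.Agent.S0180

open CfsgH4 CfsgH3 CfsgH2 MonoidAlgebra

/-- Every irreducible complex character of a finite group takes only rational values if and only if g is conjugate to g ^ m for every element g and every m coprime to the group order. -/
theorem result {G : Type*} [Group G] [Finite G] : (∀ χ : Cfsg.IrrCharacter G, ∀ g : G, ∃ q : ℚ, (χ : G → ℂ) g = (q : ℂ)) ↔ ∀ m : ℕ, m.Coprime (Nat.card G) → ∀ g : G, IsConj g (g ^ m) := by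
  constructor
  · intro h m hm g
    refine isConj_of_forall_irr fun χ hχ => ?_
    obtain ⟨q, hq⟩ := h ⟨χ, hχ⟩ g
    exact (hχ.isGen.apply_pow_of_rat hq (hm.coprime_dvd_right (orderOf_dvd_natCard g))).symm
  · intro h χ g
    obtain ⟨n, hn⟩ := exists_int_of_fixed (χ.2.isChar.isIntegral g) fun σ => by
      obtain ⟨k, hk, hσ⟩ := exists_pow_of_ringHom σ.toRingHom (Nat.card_pos (α := G)).ne'
      exact (χ.2.isGen.map_eq_apply_pow fun z hz =>
        hσ z (pow_eq_one_of_dvd hz (orderOf_dvd_natCard g))).trans (χ.2.classFun.of_isConj (h k hk g)).symm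
    exact ⟨n, by rw [hn]; simp⟩

end Cfsg.Agent.S0180
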