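import Cfsg.Statements.S0184
import Cfsg.Agent.H4.Ord2

set_option autoImplicit false
open Cfsg

namespace Cfsg.Agent.S0184

open CfsgH4 CfsgH3 CfsgH2 MonoidAlgebra

theorem aux {Z : Type*} [Group Z] [Finite Z] [h : IsCyclic Z] {p : ℕ} (hp : 0 < p) {y z : Z}
    (hy : orderOf y = p) (hz : z ^ p = 1) : z ∈ Subgroup.zpowers y := by
  let := h.commGroup
  have : Subgroup.zpowers y = (powMonoidHom p : Z →* Z).ker :=
    Subgroup.eq_of_le_of_card_ge (Subgroup.zpowers_le.mpr (by
      rw [MonoidHom.mem_ker, powMonoidHom_apply, ← hy]; exact pow_orderOf_eq_one y)) (by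
      rw [IsCyclic.card_powMonoidHom_ker, Nat.card_zpowers]
      exact (Nat.gcd_le_right _ hp).trans hy.ge)
  rw [this]; exact hz

/-- A finite p-group admits a faithful irreducible complex representation if and only if its centre is cyclic. -/
theorem result {G : Type*} [Group G] [Finite G] (p : ℕ) [Fact p.Prime] (hG : IsPGroup p G) : (∃ (n : ℕ) (ρ : Representation ℂ G (Fin n → ℂ)), ρ.IsIrreducible ∧ Function.Injective ρ) ↔ IsCyclic (Subgroup.center G) := by
  constructor
  · rintro ⟨n, ρ, h1, h2⟩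
    have hχ := isIrr_rep ρ
    obtain ⟨lam, h⟩ := hχ.isChar.exists_hom_of_le_cent hχ.one_ne_zero _ hχ.center_le_cent
    refine isCyclic_of_injective_ringHom ((Units.coeHom ℂ).comp lam) ?_
    rw [injective_iff_map_eq_one]
    intro z hz
    have := h z 1
    rw [mul_one, show (lam z : ℂ) = 1 from hz, one_mul] at this
    refine Subtype.ext (h2 ?_)
    rw [Subgroup.coe_one, map_one]
    exact (character_eq_one_iff_mem_ker ρ _).mp this
  · intro hc
    suffices h : ∃ χ, ∃ h : IsIrrCharacter G χ, h.isChar.ker = ⊥ by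
      obtain ⟨χ, ⟨n, ρ, h1, rfl⟩, h2⟩ := h
      refine ⟨n, ρ, h1, (MonoidHom.ker_eq_bot_iff ρ).mp (eq_bot_iff.mpr fun g hg => h2.le ?_)⟩
      exact (character_eq_one_iff_mem_ker ρ g).mpr hg
    rcases subsingleton_or_nontrivial G with h | h
    · exact ⟨_, isIrr_one, Subsingleton.elim _ _⟩
    have := hG.center_nontrivial
    obtain ⟨z, hz⟩ := exists_prime_orderOf_dvd_card' p
      (((hG.to_subgroup (Subgroup.center G)).card_eq_or_dvd).resolve_left (Finite.one_lt_card.ne'))
    have hz1 : (z : G) ≠ 1 := fun h => by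
      rw [show z = 1 from Subtype.ext h, orderOf_one] at hz
      exact (Fact.out : p.Prime).one_lt.ne hz
    obtain ⟨χ, hχ, hne⟩ : ∃ χ, IsIrrCharacter G χ ∧ χ z ≠ χ 1 := by
      by_contra hcon
      push Not at hcon
      exact hz1 (eq_one_of_forall_irr hcon)
    refine ⟨χ, hχ, ?_⟩
    by_contra hk
    obtain ⟨k, h1, h2, h3⟩ := exists_ne_one_fixed hχ.isChar.ker ⊤ (hG.to_subgroup ⊤)
      (((hG.to_subgroup _).card_eq_or_dvd).resolve_left (by rwa [Subgroup.card_eq_one]))
    have hkZ : k ∈ Subgroup.center G := Subgroup.mem_center_iff.mpr fun g =>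
      mul_inv_eq_iff_eq_mul.mp (h3 g trivial)
    let B := hχ.isChar.ker.subgroupOf (Subgroup.center G)
    have hB : p ∣ Nat.card B := (((hG.to_subgroup _).to_subgroup B).card_eq_or_dvd).resolve_left (by
      rw [Subgroup.card_eq_one]
      intro e
      have : (⟨k, hkZ⟩ : Subgroup.center G) ∈ B := h1
      rw [e] at this
      exact h2 (congrArg Subtype.val this))
    obtain ⟨y, hy⟩ := exists_prime_orderOf_dvd_card' p hB
    exact hne ((Subgroup.zpowers_le.mpr y.2) (aux (Fact.out : p.Prime).pos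
      (by rw [Subgroup.orderOf_coe, hy]) (by rw [← hz, pow_orderOf_eq_one])))

end Cfsg.Agent.S0184
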