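import Cfsg.Statements.S0186
import Cfsg.Agent.H4.Ord2

set_option autoImplicit false
open Cfsg

namespace Cfsg.Agent.S0186

open CfsgH4 CfsgH3 CfsgH2 MonoidAlgebra

/-- Let G be a finite simple group of order n and p a prime dividing n. If G has more than n / p^2 conjugacy classes, then every Sylow p-subgroup of G is abelian. -/
theorem result {G : Type*} [Group G] [Finite G] [IsSimpleGroup G] (p : ℕ) [Fact p.Prime] (hp : p ∣ Nat.card G) (hmany : Nat.card G < p ^ 2 * Nat.card (ConjClasses G)) (P : Sylow p G) (a b : G) (ha : a ∈ P) (hb : b ∈ P) : a * b = b * a := by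
  classical
  have hp' : p.Prime := Fact.out
  by_cases h2 : p ^ 2 ∣ Nat.card G
  swap
  · obtain ⟨k, hk⟩ := P.isPGroup'.exists_card_eq
    have : k ≤ 1 := by
      by_contra h
      exact h2 ((pow_dvd_pow p (by omega)).trans (hk ▸ Subgroup.card_subgroup_dvd_card _))
    have : IsCyclic P := isCyclic_of_card_dvd_prime (p := p) (by
      rw [hk]; simpa using pow_dvd_pow p this)
    exact congrArg Subtype.val (IsCyclic.commGroup.mul_comm (⟨a, ha⟩ : P) ⟨b, hb⟩)
  obtain ⟨χ, h1, h3⟩ : ∃ χ : IrrCharacter G, χ ≠ ⟨_, isIrr_one⟩ ∧ deg χ < p := by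
    by_contra hc
    push Not at hc
    obtain ⟨m, hm⟩ := h2
    have e := sum_deg_sq (G := G)
    rw [← Finset.add_sum_erase _ _ (Finset.mem_univ ⟨_, isIrr_one⟩)] at e
    have h4 := Finset.card_nsmul_le_sum (Finset.univ.erase (⟨_, isIrr_one⟩ : IrrCharacter G))
      (fun χ => deg χ ^ 2) (p ^ 2) fun χ h => Nat.pow_le_pow_left (hc χ (Finset.ne_of_mem_erase h)) 2
    rw [Finset.card_erase_of_mem (Finset.mem_univ _), Finset.card_univ, ← Nat.card_eq_fintype_card,
      card_irr_eq_card_conjClasses, smul_eq_mul] at h4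
    have h5 := pow_pos (deg_pos (⟨_, isIrr_one⟩ : IrrCharacter G)) 2
    rw [hm] at hmany e
    have h6 : m ≤ Nat.card (ConjClasses G) - 1 :=
      Nat.le_sub_one_of_lt (Nat.lt_of_mul_lt_mul_left hmany)
    nlinarith
  have hk := χ.2.ker_eq_bot_of_simple fun h => h1 (Subtype.ext h)
  have := apply_commutator_of_deg_lt (χ.2.isChar.restrict P) (deg_spec χ) (fun q hq hqP => by
    obtain ⟨k, hk⟩ := P.isPGroup'.exists_card_eq
    rw [hk] at hqP
    rwa [(Nat.prime_dvd_prime_iff_eq hq hp').mp (hq.dvd_of_dvd_pow hqP)])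
    (Subgroup.commutator_mem_commutator (Subgroup.mem_top ⟨a, ha⟩) (Subgroup.mem_top ⟨b, hb⟩))
  exact commutatorElement_eq_one_iff_mul_comm.mp (Subgroup.mem_bot.mp (hk.le this))

end Cfsg.Agent.S0186
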