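import Cfsg.Statements.S0187
import Cfsg.Agent.H3.Kernel

set_option autoImplicit false
open Cfsg

namespace Cfsg.Agent.S0187
open CfsgH3

/-- A finite group is commutative if and only if every irreducible complex character has degree 1. -/
theorem result {G : Type*} [Group G] [Finite G] : (∀ a b : G, a * b = b * a) ↔ ∀ χ : Cfsg.IrrCharacter G, (χ : G → ℂ) 1 = 1 := by
  constructor
  · intro h χ
    exact χ.2.deg_one_of_comm h
  · intro h a b
    have : a * b * a⁻¹ * b⁻¹ = 1 := eq_one_of_forall_irr (fun χ hχ => by
      obtain ⟨lam, rfl⟩ := hχ.isChar.exists_hom_of_deg_one (h ⟨χ, hχ⟩)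
      simp only [map_mul, map_inv, map_one]
      rw [mul_comm (lam a)]; simp)
    calc a * b = (a * b * a⁻¹ * b⁻¹) * (b * a) := by group
      _ = b * a := by rw [this, one_mul]

end Cfsg.Agent.S0187
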