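import Cfsg.Statements.S0191
import Cfsg.Agent.H4.Ord2

set_option autoImplicit false
open Cfsg

namespace Cfsg.Agent.S0191

open CfsgH4 CfsgH3 CfsgH2 MonoidAlgebra

/-- An irreducible complex representation of a finite group of degree greater than 1 has a character that vanishes somewhere. -/
theorem result {G : Type*} [Group G] [Finite G] {V : Type*} [AddCommGroup V] [Module ℂ V] [FiniteDimensional ℂ V] (ρ : Representation ℂ G V) [ρ.IsIrreducible] (hdeg : 1 < Module.finrank ℂ V) : ∃ g : G, ρ.character g = 0 := by
  classical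
  have := Fintype.ofFinite G
  have hχ := isIrr_rep ρ
  by_contra hc
  push Not at hc
  have h1 := one_le_prod_normSq (Finset.univ.erase 1) ρ.character (fun g _ => hχ.isChar.isIntegral g)
    (fun g _ => hc g) fun σ => by
      obtain ⟨k, hk, hσ⟩ := exists_pow_of_ringHom σ.toRingHom (Nat.card_pos (α := G)).ne'
      rw [map_prod]
      refine Finset.prod_equiv (powCoprime hk.symm) (fun g => ?_) fun g _ => ?_
      · simp only [Finset.mem_erase, Finset.mem_univ, and_true]
        rw [← (powCoprime hk.symm).injective.ne_iff, powCoprime_one]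
      · have := hχ.isGen.map_eq_apply_pow (σ := σ.toRingHom) (g := g) fun z hz =>
          hσ z (pow_eq_one_of_dvd hz (orderOf_dvd_natCard g))
        rw [map_mul]
        exact congrArg₂ (· * ·) this ((hχ.isGen.map_conj σ.toRingHom g).trans (congrArg _ this))
  have h2 := (amgm _ _ (fun g _ => sq_nonneg _) h1).1
  have h3 := hχ.inner_self
  rw [inner_self_eq] at h3
  have h4 : (Nat.card G : ℝ)⁻¹ * ∑ g, ‖ρ.character g‖ ^ 2 = 1 := by exact_mod_cast h3
  have h5 : (0 : ℝ) < Nat.card G := Nat.cast_pos.mpr Nat.card_pos
  rw [inv_mul_eq_one₀ h5.ne', ← Finset.add_sum_erase _ _ (Finset.mem_univ 1), Representation.char_one,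
    Complex.norm_natCast] at h4
  rw [Finset.card_erase_of_mem (Finset.mem_univ _), Finset.card_univ, ← Nat.card_eq_fintype_card,
    Nat.cast_pred Nat.card_pos] at h2
  have h6 : (1 : ℝ) < Module.finrank ℂ V := by exact_mod_cast hdeg
  nlinarith

end Cfsg.Agent.S0191
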