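import Cfsg.Statements.S0192
import Cfsg.Agent.H4.Ord2

set_option autoImplicit false
open Cfsg

namespace Cfsg.Agent.S0192

open CfsgH4 CfsgH3 CfsgH2 MonoidAlgebra

/-- Brauer's generation criterion. Let G be a finite simple group, H₁ and H₂ subgroups, and χ a non-principal irreducible character. If the multiplicity of the principal character in χ restricted to H₁ ⊓ H₂ is less than the sum of the corresponding multiplicities for H₁ and H₂, then H₁ and H₂ do not generate G. -/
theorem result {G : Type*} [Group G] [Fintype G] [IsSimpleGroup G] (H₁ H₂ : Subgroup G) [Fintype H₁] [Fintype H₂] [Fintype ↥(H₁ ⊓ H₂)] (χ : G → ℂ) (hχ : Cfsg.IsIrrCharacter G χ) (hχ1 : χ ≠ fun _ => 1) (hlt : (Cfsg.classInner (fun x : ↥(H₁ ⊓ H₂) => χ x) (fun _ => 1)).re < (Cfsg.classInner (fun x : H₁ => χ x) (fun _ => 1)).re + (Cfsg.classInner (fun x : H₂ => χ x) (fun _ => 1)).re) : H₁ ⊔ H₂ ≠ ⊤ := by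
  intro hT
  have hne := hχ.inner_of_ne isIrr_one hχ1
  obtain ⟨n, ρ, hρ, rfl⟩ := hχ
  have key : ∀ (H : Subgroup G) [Fintype H], classInner (fun x : H => ρ.character x) (fun _ => 1) =
      Module.finrank ℂ (Representation.invariants (ρ.comp H.subtype)) := fun H _ => by
    have : Invertible (Nat.card H : ℂ) := invertibleOfNonzero (card_ne_zero_complex H)
    rw [inner_one_right, ← Representation.card_inv_mul_sum_char_eq_finrank]; rfl
  have : Invertible (Nat.card G : ℂ) := invertibleOfNonzero (card_ne_zero_complex G)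
  rw [inner_one_right, Representation.card_inv_mul_sum_char_eq_finrank, Nat.cast_eq_zero,
    Submodule.finrank_eq_zero] at hne
  rw [key, key, key, Complex.natCast_re, Complex.natCast_re, Complex.natCast_re, ← Nat.cast_add,
    Nat.cast_lt, ← Submodule.finrank_sup_add_finrank_inf_eq] at hlt
  have h1 : Representation.invariants (ρ.comp H₁.subtype) ⊓
      Representation.invariants (ρ.comp H₂.subtype) = ⊥ := by
    rw [eq_bot_iff, ← hne]
    intro v hv g
    let S : Subgroup G :=
      { carrier := {g | ρ g v = v}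
        mul_mem' := fun {a b} ha hb => by
          change ρ (a * b) v = v
          rw [map_mul, Module.End.mul_apply, hb, ha]
        one_mem' := by simp
        inv_mem' := fun {a} ha => by
          change ρ a⁻¹ v = v
          conv_lhs => rw [← ha]
          rw [← Module.End.mul_apply, ← map_mul, inv_mul_cancel, map_one]; rfl }
    have : H₁ ⊔ H₂ ≤ S := sup_le (fun x hx => hv.1 ⟨x, hx⟩) fun x hx => hv.2 ⟨x, hx⟩
    exact this (hT ▸ Subgroup.mem_top g)
  rw [h1, finrank_bot, add_zero] at hlt
  exact hlt.not_ge (Submodule.finrank_mono (sup_le (fun v hv x => hv ⟨x, x.2.1⟩)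
    fun v hv x => hv ⟨x, x.2.2⟩))

end Cfsg.Agent.S0192
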