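import Cfsg.Statements.S0196
import Cfsg.Agent.H4.Ord2

set_option autoImplicit false
open Cfsg

namespace Cfsg.Agent.S0196

open CfsgH4 CfsgH3 CfsgH2 MonoidAlgebra

/-- Let A be a subgroup of a finite group G that equals the centralizer of each of its non-identity elements, and let N be its normalizer. Then the index of A in N divides |A| − 1 (N/A permutes the non-identity elements of A in orbits of full length). -/
theorem result {G : Type*} [Group G] [Finite G] (A : Subgroup G) (hA : ∀ x ∈ A, x ≠ 1 → Subgroup.centralizer ({x} : Set G) = A) : (A.subgroupOf (Subgroup.normalizer (A : Set G))).index ∣ Nat.card A - 1 := by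
  classical
  let N := Subgroup.normalizer (A : Set G)
  let X := {x : A // x ≠ 1}
  let : MulAction N X :=
    { smul := fun g x => ⟨⟨g * x.1 * (g : G)⁻¹, (Subgroup.mem_normalizer_iff.mp g.2 _).mp x.1.2⟩,
        fun h => x.2 (Subtype.ext (by simpa using congrArg Subtype.val h))⟩
      one_smul := fun x => Subtype.ext (Subtype.ext (by change (1 : G) * _ * (1 : G)⁻¹ = _; simp))
      mul_smul := fun a b x => Subtype.ext (Subtype.ext (by
        change (a * b : G) * _ * (a * b : G)⁻¹ = a * (b * _ * (b : G)⁻¹) * (a : G)⁻¹; group)) }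
  have hs : ∀ x : X, MulAction.stabilizer N x = A.subgroupOf N := fun x => by
    ext g
    rw [Subgroup.mem_subgroupOf, ← hA x.1 x.1.2 (fun h => x.2 (Subtype.ext h)),
      Subgroup.mem_centralizer_singleton_iff, MulAction.mem_stabilizer_iff, Subtype.ext_iff,
      Subtype.ext_iff, ← mul_inv_eq_iff_eq_mul]
    rfl
  have := Fintype.ofFinite A
  have hc : Fintype.card X = Nat.card A - 1 := by
    rw [Nat.card_eq_fintype_card, Fintype.card_subtype_compl, Fintype.card_subtype_eq]
  by_contra h
  obtain ⟨x, h1, h2⟩ := exists_fixed_of_not_dvd_sum' (E := N) (p := (A.subgroupOf N).index)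
    (fun x : X => fun _ => by rw [hs]) (fun _ => 1) (fun _ _ => rfl) (by
      rw [Finset.sum_const, Finset.card_univ, hc]; simpa [Int.natCast_dvd_natCast] using h)
  apply h2
  rw [← hs x, (Subgroup.eq_top_iff' (MulAction.stabilizer N x)).mpr h1]
  simp

end Cfsg.Agent.S0196
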