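import Cfsg.Statements.S0204
import Cfsg.Agent.FT.PF14c
import Cfsg.Agent.S0225

set_option autoImplicit false
open Cfsg

namespace Cfsg.Agent.S0204

/-- A non-cyclic finite simple group contains a subgroup which is a Klein four-group; this combines the Odd Order Theorem, Burnside's transfer argument for cyclic Sylow 2-subgroups and the Brauer–Suzuki Theorem. -/
theorem result {G : Type*} [Group G] [Finite G] [IsSimpleGroup G] (hG : ¬ IsCyclic G) : ∃ E : Subgroup G, IsKleinFour E := by
  have hs : ¬ Group.IsSolvable G := fun h => by
    have hc : ∀ a b : G, a * b = b * a := IsSimpleGroup.comm_iff_isSolvable.2 h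
    letI : CommGroup G := { ‹Group G› with mul_comm := hc }
    exact hG inferInstance
  have hodd : ¬ Odd (Nat.card G) := fun h => hs (CfsgPF.feit_thompson h)
  by_contra hne
  obtain ⟨z, hz, N, hN, ho, h⟩ := Cfsg.Agent.S0225.result (Nat.not_odd_iff_even.1 hodd) fun E hE => hne ⟨E, hE⟩
  rcases hN.eq_bot_or_eq_top with rfl | rfl
  · have hc : z ∈ Subgroup.center G := Subgroup.mem_center_iff.2 fun g => by
      have := Subgroup.mem_bot.1 (h g)
      calc g * z = z * g * z⁻¹ * g⁻¹ * g * z := by rw [this]; group
        _ = z * g := by group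
    rcases (inferInstance : (Subgroup.center G).Normal).eq_bot_or_eq_top with e | e
    · rw [e, Subgroup.mem_bot] at hc
      simp [hc] at hz
    · exact hs (IsSimpleGroup.comm_iff_isSolvable.1 fun a b =>
        (Subgroup.mem_center_iff.1 (e ▸ Subgroup.mem_top b) a))
  · exact hodd (by simpa using ho)

end Cfsg.Agent.S0204
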