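import Cfsg.Statements.S0207
import Cfsg.Agent.H2.Invol

set_option autoImplicit false
open Cfsg

namespace Cfsg.Agent.S0207
open Subgroup CfsgH2
open scoped commutatorElement

/-- If x, y are distinct involutions, every element of the subgroup they generate that lies outside the cyclic subgroup generated by xy is an involution. -/
theorem result {G : Type*} [Group G] [Finite G] (x y : G) (hx : orderOf x = 2) (hy : orderOf y = 2) (hxy : x ≠ y) (d : G) (hd : d ∈ Subgroup.closure ({x, y} : Set G)) (hd' : d ∉ Subgroup.zpowers (x * y)) : orderOf d = 2 := by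
  obtain ⟨i, rfl⟩ := (idx2_invol hx hy hxy).eq_of_notMem hd hd'
  exact orderOf_two_of (pow_mul_invol_mul_self (mul_self_of_orderOf_two hx) (mul_self_of_orderOf_two hy) i)
    ((idx2_invol hx hy hxy).pow_mul_ne_one i)


end Cfsg.Agent.S0207
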