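import Cfsg.Statements.S0210
import Cfsg.Agent.H2.Invol

set_option autoImplicit false
open Cfsg

namespace Cfsg.Agent.S0210
open Subgroup CfsgH2
open scoped commutatorElement

/-- If x, y are involutions whose product has even order, no element of the subgroup generated by x and y conjugates x to y. -/
theorem result {G : Type*} [Group G] [Finite G] (x y : G) (hx : orderOf x = 2) (hy : orderOf y = 2) (heven : Even (orderOf (x * y))) (d : G) (hd : d ∈ Subgroup.closure ({x, y} : Set G)) : d * x * d⁻¹ ≠ y := by
  have hxy : x ≠ y := by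
    rintro rfl
    rw [mul_self_of_orderOf_two hx] at heven
    simp at heven
  have h := idx2_invol hx hy hxy
  have hy' := invol_eq_pow (mul_self_of_orderOf_two hx) (mul_self_of_orderOf_two hy)
  intro e
  have h2 : (2 : ℤ) ∣ (orderOf (x * y) : ℤ) := by exact_mod_cast even_iff_two_dvd.1 heven
  obtain ⟨i, rfl | rfl⟩ := (h.mem d).1 hd
  · have h1 := h.conj_b 0 i
    rw [zpow_zero, one_mul, e] at h1
    have h3 := mul_right_cancel (hy'.symm.trans h1)
    rw [zpow_eq_zpow_iff_dvd] at h3
    have := h2.trans h3
    omega
  · have h1 := h.conj_bb 0 i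
    rw [zpow_zero, one_mul, e] at h1
    have h3 := mul_right_cancel (hy'.symm.trans h1)
    rw [zpow_eq_zpow_iff_dvd] at h3
    have := h2.trans h3
    omega


end Cfsg.Agent.S0210
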