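import Cfsg.Statements.S0211
import Cfsg.Agent.H2.Invol

set_option autoImplicit false
open Cfsg

namespace Cfsg.Agent.S0211
open Subgroup CfsgH2
open scoped commutatorElement

/-- Let x, y be involutions with xy of even order n and z = (xy)^(n/2). Then xz is conjugate to x by an element of the subgroup generated by x, y if and only if 4 divides n. -/
theorem result {G : Type*} [Group G] [Finite G] (x y : G) (hx : orderOf x = 2) (hy : orderOf y = 2) (heven : Even (orderOf (x * y))) : (∃ d ∈ Subgroup.closure ({x, y} : Set G), d * x * d⁻¹ = x * (x * y) ^ (orderOf (x * y) / 2)) ↔ 4 ∣ orderOf (x * y) := by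
  have hxy : x ≠ y := by
    rintro rfl
    rw [mul_self_of_orderOf_two hx] at heven
    simp at heven
  have h := idx2_invol hx hy hxy
  obtain ⟨-, hc, -⟩ := exists_central_invol (mul_self_of_orderOf_two hx) (mul_self_of_orderOf_two hy) heven
  rw [← hc.eq, ← zpow_natCast]
  obtain ⟨m, hm⟩ := heven
  have hm' : orderOf (x * y) / 2 = m := by omega
  rw [hm']
  constructor
  · rintro ⟨d, hd, e⟩
    have h2 : (2 : ℤ) ∣ (orderOf (x * y) : ℤ) := ⟨m, by rw [hm]; push_cast; ring⟩
    have h4 : (2 : ℤ) ∣ m := by
      obtain ⟨i, rfl | rfl⟩ := (h.mem d).1 hd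
      · have h1 := h.conj_b 0 i
        rw [zpow_zero, one_mul, e] at h1
        have h3 := mul_right_cancel h1
        rw [zpow_eq_zpow_iff_dvd] at h3
        have := h2.trans h3
        omega
      · have h1 := h.conj_bb 0 i
        rw [zpow_zero, one_mul, e] at h1
        have h3 := mul_right_cancel h1
        rw [zpow_eq_zpow_iff_dvd] at h3
        have := h2.trans h3
        omega
    omega
  · intro h4
    obtain ⟨k, hk⟩ : ∃ k : ℤ, (m : ℤ) = 2 * k := ⟨m / 2, by omega⟩
    refine ⟨_, h.pow_mem k, ?_⟩
    rw [conj_invol_pow (mul_self_of_orderOf_two hx) (mul_self_of_orderOf_two hy), hk]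


end Cfsg.Agent.S0211
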