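import Cfsg.Statements.S0233
import Cfsg.Agent.H2.StrEmb

set_option autoImplicit false
open Cfsg

namespace Cfsg.Agent.S0233
open Subgroup CfsgH2
open scoped commutatorElement

/-- Let G be a finite group of even order with exactly n involutions whose centre has odd order, and put a = |G|/n. Then G has a proper subgroup H with |G : H| = 2 or |G : H| < a(a+1)/2; over ℕ the latter reads 2·|G:H|·n² < |G|·(|G| + n). -/
theorem result {G : Type*} [Group G] [Finite G] (heven : Even (Nat.card G)) (hZ : Odd (Nat.card (Subgroup.center G))) : ∃ H : Subgroup G, H ≠ ⊤ ∧ (H.index = 2 ∨ 2 * H.index * (Nat.card {t : G // orderOf t = 2}) ^ 2 < Nat.card G * (Nat.card G + Nat.card {t : G // orderOf t = 2})) := by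
  obtain ⟨t, ht⟩ := exists_invol_of_even' heven
  have hb : (⊥ : Subgroup G) ≠ ⊤ := fun h => ne_one_of_orderOf_two ht (mem_bot.1 (h ▸ mem_top t))
  obtain ⟨H, hH, hmax⟩ : ∃ H : Subgroup G, H ≠ ⊤ ∧ ∀ K : Subgroup G, K ≠ ⊤ →
      Nat.card K ≤ Nat.card H := by
    obtain ⟨H, h1, h2⟩ := Set.exists_max_image {H : Subgroup G | H ≠ ⊤} (fun H => Nat.card H)
      (Set.toFinite _) ⟨⊥, hb⟩
    exact ⟨H, h1, h2⟩
  refine ⟨H, hH, or_iff_not_imp_left.2 fun h2 => ?_⟩
  have h3 := H.card_mul_index
  have h4 : H.index ≠ 1 := fun h => hH (index_eq_one.1 h)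
  have h5 : H.index ≠ 0 := index_ne_zero_of_finite
  have h6 : 0 < Nat.card H := Nat.card_pos
  have h7 := bf_ineq (G := G) (c := Nat.card H) (m := Nat.card H / 2) (fun t ht => hmax _ fun e =>
    odd_card_iff.1 hZ t (mem_center_iff.2 fun g => mem_centralizer_singleton_iff.1
      (e.ge (mem_top g))) ht) fun x g hx hg => by
      obtain ⟨K, h1, h8⟩ := exists_ext_centralizer hx hg
      by_cases e : K = ⊤
      · exfalso
        rw [e, Subgroup.card_top] at h8
        have := hmax (centralizer {x}) fun e => by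
          rw [e, Subgroup.card_top] at h8
          have : 0 < Nat.card G := Nat.card_pos
          omega
        have : 3 ≤ H.index := by omega
        nlinarith
      · have := hmax K e
        omega
  have h8 := card_subtype_ne (P := fun x : G => x * x = 1) (a := 1) (mul_one 1)
  rw [card_subtype_congr (Q := fun t : G => orderOf t = 2) fun t => orderOf_two_iff.symm] at h8
  have h9 : Nat.card {x : G // x * x = 1} ≤ Nat.card G := Finite.card_subtype_le _
  have h10 : 0 < Nat.card {t : G // orderOf t = 2} := Nat.card_pos_iff.2 ⟨⟨⟨t, ht⟩⟩, inferInstance⟩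
  generalize Nat.card {t : G // orderOf t = 2} = n at *
  obtain ⟨d, hd⟩ : ∃ d, Nat.card G = n + 1 + d := ⟨Nat.card G - (n + 1), by omega⟩
  have h11 : Nat.card H / 2 * 2 ≤ Nat.card H := Nat.div_mul_le_self _ _
  generalize Nat.card H / 2 = m at *
  generalize Nat.card H = h at *
  generalize H.index = j at *
  generalize Nat.card G = g at *
  have h12 : n ^ 2 + n ≤ n * h + d * m := by rw [hd] at h7; nlinarith
  have h13 : 2 * j * (n ^ 2 + n) ≤ 2 * j * (n * h + d * m) := Nat.mul_le_mul_left _ h12
  have h14 : d * (m * 2 * j) ≤ d * (h * j) := Nat.mul_le_mul_left _ (Nat.mul_le_mul_right _ h11)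
  have h15 : 0 < j * n := Nat.mul_pos (by omega) h10
  rw [h3] at h14
  have h16 : 2 * j * (n * h) = 2 * n * g := by rw [← h3]; ring
  nlinarith


end Cfsg.Agent.S0233
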