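import Cfsg.Statements.S0212
import Cfsg.Agent.H2.StrEmb
import Cfsg.Agent.S0233

set_option autoImplicit false
open Cfsg

namespace Cfsg.Agent.S0212
open Subgroup CfsgH2
open scoped commutatorElement

/-- The Brauer–Fowler bound: if G is a finite simple group and t an involution of G whose centralizer has order n, then |G| ≤ (2n^2)!. -/
theorem result {G : Type*} [Group G] [Finite G] [IsSimpleGroup G] (t : G) (ht : orderOf t = 2) : Nat.card G ≤ Nat.factorial (2 * (Nat.card (Subgroup.centralizer ({t} : Set G))) ^ 2) := by
  have h0 : 0 < Nat.card (centralizer ({t} : Set G)) := Nat.card_pos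
  by_cases hZ : Odd (Nat.card (center G))
  · obtain ⟨H, hH, h⟩ := Cfsg.Agent.S0233.result
      (even_iff_two_dvd.2 (ht ▸ _root_.orderOf_dvd_natCard t)) hZ
    have h1 : Nat.card G ≤ Nat.factorial H.index := by
      have h2 : H.normalCore = ⊥ := (normalCore_normal H).eq_bot_or_eq_top.resolve_right fun e =>
        hH (eq_top_iff.2 (e.ge.trans (normalCore_le H)))
      rw [normalCore_eq_ker, MonoidHom.ker_eq_bot_iff] at h2
      classical
      letI := Fintype.ofFinite (G ⧸ H)
      have := Nat.card_le_card_of_injective _ h2
      rwa [Nat.card_perm] at this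
    refine h1.trans (Nat.factorial_le ?_)
    rcases h with h | h
    · rw [h]; nlinarith
    have h2 := card_class_mul t
    have h3 : Nat.card {y // IsConj t y} ≤ Nat.card {t : G // orderOf t = 2} :=
      card_subtype_mono fun y hy => by
        obtain ⟨g, rfl⟩ := isConj_iff.1 hy
        exact (orderOf_conj' g t).trans ht
    have h4 : Nat.card {t : G // orderOf t = 2} ≤ Nat.card G := Finite.card_subtype_le _
    generalize Nat.card {t : G // orderOf t = 2} = n at *
    generalize Nat.card (centralizer ({t} : Set G)) = c at *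
    have h5 : Nat.card G ≤ n * c := h2 ▸ Nat.mul_le_mul_right _ h3
    generalize Nat.card G = g at *
    have h6 : g * (g + n) ≤ 2 * c ^ 2 * n ^ 2 := by nlinarith [Nat.mul_le_mul h5 h5, Nat.mul_le_mul_left g h4]
    have h7 := lt_of_mul_lt_mul_right (h.trans_le h6) (Nat.zero_le _)
    omega
  · obtain ⟨z, hz, hz2⟩ := exists_invol_of_even (Nat.not_odd_iff_even.1 hZ)
    have := (show (zpowers z).Normal from ⟨fun x hx g => by
      rw [mem_center_iff.1 (Subgroup.zpowers_le.2 hz hx) g, mul_inv_cancel_right]; exact hx⟩).eq_bot_or_eq_top.resolve_left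
      (by simpa using ne_one_of_orderOf_two hz2)
    rw [← Subgroup.card_top, ← this, Nat.card_zpowers, hz2]
    exact le_trans (by nlinarith) (Nat.self_le_factorial _)


end Cfsg.Agent.S0212
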