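import Cfsg.Statements.S0213
import Cfsg.Agent.H2.StrEmb

set_option autoImplicit false
open Cfsg

namespace Cfsg.Agent.S0213
open Subgroup CfsgH2
open scoped commutatorElement

theorem key {G : Type*} [Group G] [Finite G] (x₁ x₂ x : G) (h : orderOf x = 2) :
    Nat.card {p : G × G // IsConj x₁ p.1 ∧ IsConj x₂ p.2 ∧ ∃ z ∈ zpowers (p.1 * p.2), IsConj x z} =
    Nat.card {y // IsConj x y} *
      Nat.card {p : G × G // IsConj x₁ p.1 ∧ IsConj x₂ p.2 ∧ x ∈ zpowers (p.1 * p.2)} := by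
  have h1 : ∀ {z}, IsConj x z → orderOf z = 2 := fun hz => by
    obtain ⟨g, rfl⟩ := isConj_iff.1 hz
    exact (orderOf_conj' g x).trans h
  refine card_eq_mul_of_fiber (fun p => ⟨p.2.2.2.choose, p.2.2.2.choose_spec.2⟩) ?_
  rintro ⟨y, hy⟩
  obtain ⟨g, rfl⟩ := isConj_iff.1 hy
  have e : ∀ a b g : G, g * a * g⁻¹ * (g * b * g⁻¹) = g * (a * b) * g⁻¹ := fun a b g => by group
  refine Nat.card_congr ⟨fun p => ⟨(g⁻¹ * p.1.1.1 * g⁻¹⁻¹, g⁻¹ * p.1.1.2 * g⁻¹⁻¹),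
    p.1.2.1.trans (isConj_conj _ _), p.1.2.2.1.trans (isConj_conj _ _), ?_⟩,
    fun p => ⟨⟨(g * p.1.1 * g⁻¹, g * p.1.2 * g⁻¹), p.2.1.trans (isConj_conj _ _),
      p.2.2.1.trans (isConj_conj _ _), _, ?_, hy⟩, ?_⟩, fun p => ?_, fun p => ?_⟩
  · have h2 := p.1.2.2.2.choose_spec.1
    have h3 : p.1.2.2.2.choose = g * x * g⁻¹ := congrArg Subtype.val p.2
    rw [h3] at h2
    simp only
    rw [e, ← cj_zpowers, mem_cj]
    simpa using h2
  · simp only
    rw [e, ← cj_zpowers]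
    exact conj_mem_cj g p.2.2.2
  · refine Subtype.ext ?_
    refine invol_eq_of_mem_zpowers (Exists.choose_spec (p := fun z => z ∈ zpowers _ ∧ IsConj x z) _).1
      ?_ (h1 (Exists.choose_spec (p := fun z => z ∈ zpowers _ ∧ IsConj x z) _).2) (h1 hy)
    simp only
    rw [e, ← cj_zpowers]
    exact conj_mem_cj g p.2.2.2
  · refine Subtype.ext (Subtype.ext (Prod.ext ?_ ?_)) <;> simp [mul_assoc]
  · refine Subtype.ext (Prod.ext ?_ ?_) <;> simp [mul_assoc]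

/-- Thompson Order Formula, two-class case: if every involution of the finite group G is conjugate to exactly one of the non-conjugate involutions x₁, x₂, and nᵢ is the number of pairs (u, v) with u conjugate to x₁, v conjugate to x₂ and xᵢ in the cyclic group generated by uv, then |G| = |C(x₂)| n₁ + |C(x₁)| n₂. -/
theorem result {G : Type*} [Group G] [Finite G] (x₁ x₂ : G) (h₁ : orderOf x₁ = 2) (h₂ : orderOf x₂ = 2) (hnc : ¬ IsConj x₁ x₂) (hall : ∀ t : G, orderOf t = 2 → IsConj x₁ t ∨ IsConj x₂ t) : Nat.card G = Nat.card (Subgroup.centralizer ({x₂} : Set G)) * Nat.card {p : G × G // IsConj x₁ p.1 ∧ IsConj x₂ p.2 ∧ x₁ ∈ Subgroup.zpowers (p.1 * p.2)} + Nat.card (Subgroup.centralizer ({x₁} : Set G)) * Nat.card {p : G × G // IsConj x₁ p.1 ∧ IsConj x₂ p.2 ∧ x₂ ∈ Subgroup.zpowers (p.1 * p.2)} := by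
  have o : ∀ {x z : G}, orderOf x = 2 → IsConj x z → orderOf z = 2 := fun h hz => by
    obtain ⟨g, rfl⟩ := isConj_iff.1 hz
    exact (orderOf_conj' g _).trans h
  have h1 := card_subtype_add (fun p : G × G => IsConj x₁ p.1 ∧ IsConj x₂ p.2)
    (fun p => ∃ z ∈ zpowers (p.1 * p.2), IsConj x₁ z)
  have h5 := card_subtype_congr (P := fun p : G × G => (IsConj x₁ p.1 ∧ IsConj x₂ p.2) ∧
      ¬ ∃ z ∈ zpowers (p.1 * p.2), IsConj x₁ z) (Q := fun p : G × G => IsConj x₁ p.1 ∧ IsConj x₂ p.2 ∧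
      ∃ z ∈ zpowers (p.1 * p.2), IsConj x₂ z) fun p => ⟨fun ⟨⟨a, b⟩, c⟩ => ⟨a, b, by
        have h2 := mul_self_of_orderOf_two (o h₁ a)
        have h3 := mul_self_of_orderOf_two (o h₂ b)
        obtain ⟨t, ht, ht2⟩ := exists_invol_mem_zpowers (Nat.not_odd_iff_even.1 fun h =>
          hnc ((a.trans (isConj_of_odd h2 h3 h)).trans b.symm))
        exact ⟨t, ht, (hall t ht2).resolve_left fun h => c ⟨t, ht, h⟩⟩⟩,
      fun ⟨a, b, z, hz, c⟩ => ⟨⟨a, b⟩, fun ⟨w, hw, d⟩ => hnc (d.trans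
        (invol_eq_of_mem_zpowers hz hw (o h₂ c) (o h₁ d) ▸ c.symm))⟩⟩
  have h6 := card_subtype_congr (P := fun p : G × G => (IsConj x₁ p.1 ∧ IsConj x₂ p.2) ∧
      ∃ z ∈ zpowers (p.1 * p.2), IsConj x₁ z) fun _ => and_assoc
  rw [Nat.card_congr (Equiv.subtypeProdEquivProd (p := IsConj x₁) (q := IsConj x₂)), Nat.card_prod,
    h5, h6, key x₁ x₂ x₁ h₁, key x₁ x₂ x₂ h₂] at h1
  have h2 := card_class_mul x₁
  have h3 := card_class_mul x₂
  have h4 : 0 < Nat.card G := Nat.card_pos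
  refine Nat.eq_of_mul_eq_mul_left h4 ?_
  nth_rewrite 1 [← h2]
  nth_rewrite 1 [← h3]
  rw [mul_mul_mul_comm, h1, mul_add]
  nth_rewrite 1 [← h2]
  rw [← h3]
  ring


end Cfsg.Agent.S0213
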