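import Cfsg.Statements.S0214
import Cfsg.Agent.H2.StrEmb

set_option autoImplicit false
open Cfsg

namespace Cfsg.Agent.S0214
open Subgroup CfsgH2
open scoped commutatorElement

/-- Let H be a proper subgroup of the finite group G and P a nontrivial Sylow 2-subgroup of H. Then H is strongly embedded in G if and only if N_G(X) ≤ H for every nontrivial subgroup X of P. -/
theorem result {G : Type*} [Group G] [Finite G] (H : Subgroup G) (hH : H ≠ ⊤) (P : Sylow 2 ↥H) (hP : (P : Subgroup ↥H) ≠ ⊥) : Cfsg.IsStronglyEmbedded H ↔ (∀ X : Subgroup ↥H, X ≤ (P : Subgroup ↥H) → X ≠ ⊥ → Subgroup.normalizer ((X.map H.subtype : Subgroup G) : Set G) ≤ H) := by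
  have hS := IsSylowIn.of_sylow_map P
  have h0 : (P : Subgroup H).map H.subtype ≠ ⊥ := by
    rwa [Ne, map_eq_bot_iff_of_injective _ H.subtype_injective]
  constructor
  · intro h X hX hX0 g hg
    obtain ⟨t, ht, ht2⟩ := exists_invol_of_ne_bot (hS.pgroup.to_le (map_mono hX))
      (by rwa [Ne, map_eq_bot_iff_of_injective _ H.subtype_injective])
    exact se_mem h ht2 (map_subtype_le X ht) (map_subtype_le X (conj_mem_of_mem_normalizer hg ht))
  · intro h
    obtain ⟨t, ht, ht2⟩ := exists_invol_of_ne_bot hS.pgroup h0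
    refine se_iff.2 ⟨hH, even_card_of_invol (hS.le ht) ht2, fun t g ht htH hg => ?_⟩
    refine mem_of_normalizers hS (· ≠ ⊥) (fun X Y h1 h2 h3 => h2 (eq_bot_iff.2 (h3 ▸ h1)))
      (fun X g h1 h2 => h1 (cj_eq_bot_iff.1 h2)) (fun X h1 h2 => ?_) (zpowers t)
      (isPGroup_zpowers_of_mul_self (mul_self_of_orderOf_two ht))
      (by simpa using ne_one_of_orderOf_two ht) (Subgroup.zpowers_le.2 htH) g
      (by rw [cj_zpowers]; exact Subgroup.zpowers_le.2 hg)
    have h3 := map_subgroupOf_eq_of_le (h1.trans hS.le)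
    have := h (X.subgroupOf H) (by rw [← map_le_map_iff_of_injective H.subtype_injective, h3]; exact h1)
      (fun e => h2 (by rw [← h3, e, Subgroup.map_bot]))
    rwa [h3] at this


end Cfsg.Agent.S0214
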