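import Cfsg.Statements.S0218
import Cfsg.Agent.H2.Invol

set_option autoImplicit false
open Cfsg

namespace Cfsg.Agent.S0218
open Subgroup CfsgH2
open scoped commutatorElement

/-- The generalized quaternion group of order 2^(n+3) contains exactly one element of order 2. -/
theorem result (n : ℕ) : Nat.card {x : QuaternionGroup (2 ^ (n + 1)) // orderOf x = 2} = 1 := by
  obtain ⟨a, b, h, ho⟩ : ∃ a b : QuaternionGroup (2 ^ (n + 1)), Idx2 ⊤ a b (-1) ((2 ^ (n + 1) : ℕ) : ℤ) ∧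
      orderOf a = 2 * 2 ^ (n + 1) :=
    ⟨_, _, idx2_quaternionGroup _, QuaternionGroup.orderOf_a_one⟩
  have h1 := orderOf_half (a := a) (by rw [ho]; simp) (by rw [ho]; positivity)
  rw [ho, Nat.mul_div_cancel_left _ (by norm_num)] at h1
  rw [Nat.card_eq_one_iff_exists]
  refine ⟨⟨_, h1⟩, fun ⟨x, hx⟩ => Subtype.ext ?_⟩
  have hx2 := mul_self_of_orderOf_two hx
  obtain ⟨i, rfl | rfl⟩ := (h.mem x).1 (mem_top x)
  · rw [← zpow_add, zpow_eq_one_iff_dvd, ho] at hx2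
    have hx1 := ne_one_of_orderOf_two hx
    rw [Ne, zpow_eq_one_iff_dvd, ho] at hx1
    show a ^ i = a ^ 2 ^ (n + 1)
    rw [← zpow_natCast, zpow_eq_zpow_iff_dvd, ho]
    obtain ⟨c, hc⟩ := hx2
    generalize (2 ^ (n + 1) : ℕ) = N at *
    have hi : i = N * c := by push_cast at hc; linarith
    rcases Int.even_or_odd' c with ⟨k, rfl | rfl⟩
    · exact absurd ⟨k, by rw [hi]; push_cast; ring⟩ hx1
    · exact ⟨k, by rw [hi]; push_cast; ring⟩
  · rw [h.mul_eq, show i + -1 * i + ((2 ^ (n + 1) : ℕ) : ℤ) = ((2 ^ (n + 1) : ℕ) : ℤ) by ring,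
      zpow_natCast] at hx2
    exact absurd hx2 (ne_one_of_orderOf_two h1)


end Cfsg.Agent.S0218
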