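import Cfsg.Statements.S0220
import Cfsg.Agent.H2.StrEmb
import Cfsg.Agent.S0219

set_option autoImplicit false
open Cfsg

namespace Cfsg.Agent.S0220
open Subgroup CfsgH2
open scoped commutatorElement

/-- If x is an involution of a finite group G and a Sylow 2-subgroup of the centralizer of x is cyclic, then G has a subgroup of index 2; in particular G is not simple unless it has order 2. -/
theorem result {G : Type*} [Group G] [Finite G] (x : G) (hx : orderOf x = 2) (S : Sylow 2 ↥(Subgroup.centralizer ({x} : Set G))) (hS : IsCyclic (S : Subgroup ↥(Subgroup.centralizer ({x} : Set G)))) : ∃ H : Subgroup G, H.index = 2 := by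
  have hS' := IsSylowIn.of_sylow_map S
  obtain ⟨R, hR⟩ : ∃ R, R = (S : Subgroup (centralizer ({x} : Set G))).map
    (centralizer ({x} : Set G)).subtype := ⟨_, rfl⟩
  rw [← hR] at hS'
  have hc : IsCyclic R := hR ▸ isCyclic_of_surjective _ (equivMapOfInjective _ _
    (centralizer ({x} : Set G)).subtype_injective).surjective
  have hxR : x ∈ R := hS'.le_of_le_normalizer (isPGroup_zpowers_of_mul_self (mul_self_of_orderOf_two hx))
    (Subgroup.zpowers_le.2 (mem_centralizer_singleton_iff.2 rfl))
    (Subgroup.zpowers_le.2 (centralizer_le_normalizer _ fun r hr =>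
      mem_centralizer_singleton_iff.1 (hS'.le hr))) (mem_zpowers x)
  obtain ⟨T, hT⟩ := hS'.pgroup.exists_le_sylow
  have : R = T := by
    by_contra h
    refine (lt_inf_normalizer T.isPGroup' (lt_of_le_of_ne hT h)).ne' (hS'.eq_of_le
      (T.isPGroup'.to_le inf_le_left) (le_inf hT le_normalizer) fun g hg => ?_)
    exact mem_centralizer_singleton_iff.2 (mul_inv_eq_iff_eq_mul.1 (uniqInv_of_isCyclic hc _
      (conj_mem_of_mem_normalizer hg.2 hxR) _ hxR ((orderOf_conj' g x).trans hx) hx))
  exact Cfsg.Agent.S0219.result (even_iff_two_dvd.2 (hx ▸ _root_.orderOf_dvd_natCard x)) T (this ▸ hc)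


end Cfsg.Agent.S0220
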