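import Cfsg.Statements.S0221
import Cfsg.Agent.H8.BSW7
import Cfsg.Agent.FT.Min

set_option autoImplicit false
open Cfsg

namespace Cfsg.Agent.S0221

open Subgroup CfsgH1 CfsgFT CfsgH2 in
theorem aux {G : Type*} [Group G] [Finite G] {W : Subgroup G} (hW : IsKleinFour W) {y : G} (hy : y * y = 1) (h1 : y ∉ W)
    (h2 : y ∈ C(W)) : Nat.card (W ⊔ zpowers y : Subgroup G) = 8 ∧ (∀ e ∈ W ⊔ zpowers y, e ^ 2 = 1) ∧
      W ⊔ zpowers y ≤ C(W ⊔ zpowers y) := by
  obtain ⟨c, k⟩ := isKleinFour_iff.1 hW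
  refine ⟨by rw [card_sup_zpowers (p := 2) (cent_le_norm _ h2) h1 (by rw [sq, hy]; exact one_mem _), c], fun e he => ?_,
    comm_iff.1 (isMulCommutative_sup_zpowers (isMulCommutative_of_forall fun a ha b hb => IsKleinFour_comm hW ha hb) h2)⟩
  obtain ⟨m, hm, i, rfl⟩ := (mem_sup_zpowers (cent_le_norm _ h2)).1 he
  rw [((show Commute m y from mem_cent.1 h2 m hm).zpow_right i).mul_pow, sq, k m hm, ← zpow_natCast, ← zpow_mul, mul_comm i,
    zpow_mul, zpow_natCast, sq, hy, one_zpow, one_mul]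

/-- Let G be a finite group with no subgroup of index 2 whose 2-rank is at least 3 (it contains an elementary abelian subgroup of order 8). Then the centralizer of every involution of G also contains an elementary abelian subgroup of order 8. -/
theorem result {G : Type*} [Group G] [Finite G] (hno : ∀ H : Subgroup G, H.index ≠ 2) (hrank : ∃ E : Subgroup G, Nat.card E = 8 ∧ ∀ e ∈ E, e ^ 2 = 1) (x : G) (hx : orderOf x = 2) : ∃ E : Subgroup G, E ≤ Subgroup.centralizer ({x} : Set G) ∧ Nat.card E = 8 ∧ ∀ e ∈ E, e ^ 2 = 1 := by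
  open Subgroup CfsgH1 CfsgFT CfsgH2 in
  obtain ⟨E, e8, hE⟩ := hrank
  obtain ⟨S, hS, l⟩ := IsSylowIn.exists_le (IsPGroup.of_card (p := 2) (n := 3) e8) le_top
  suffices h : ∀ y : G, orderOf y = 2 → y ∈ S → ∃ g : G, ∃ E ≤ C1(g * y * g⁻¹), Nat.card E = 8 ∧ ∀ e ∈ E, e ^ 2 = 1 by
    obtain ⟨a, -, ha⟩ := hS.exists_cj_le (isPGroup_zpowers_of_orderOf (k := 1) hx) le_top
    obtain ⟨g, F, h1, h2, h3⟩ := h _ ((orderOf_conj' a x).trans hx) (ha (conj_mem_cj a (mem_zpowers x)))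
    refine ⟨cj (g * a)⁻¹ F, ?_, by rwa [card_cj], fun e he => ?_⟩
    · refine (cj_mono _ h1).trans (by rw [cj_centralizer_singleton]; group; rfl)
    · have := h3 _ (mem_cj.1 he)
      rwa [inv_inv, conj_pow, conj_eq_one_iff] at this
  intro y hy hyS
  have cE : E ≤ C(E) := fun a ha => mem_cent.2 fun b hb => commute_of_mul_self (sq b ▸ hE b hb) (sq a ▸ hE a ha)
    (sq (b * a) ▸ hE _ (mul_mem hb ha))
  by_cases c : IsMulCommutative S
  · exact ⟨1, E, l.trans (by simpa using le_cent1_iff.2 (comm_iff.1 c hyS)), e8, hE⟩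
  rcases CfsgH8.klein_or_mc hS.pgroup c with h | ⟨W, w1, w2, w3⟩
  · obtain ⟨a, b, k, m, r, h⟩ := h.exists
    have k1 := card_inf_mul_relIndex (zpowers a) E
    have k2 : (zpowers a).relIndex E ≤ 2 := h.relIndex ▸ relIndex_le_of_le_right l (relIndex_ne_zero _ _)
    have k3 : Nat.card (zpowers a ⊓ E : Subgroup G) ≤ Nat.card (zpowers (a ^ (2 : ℤ) ^ (r + 1))) :=
      card_le_of_le fun z hz => h.mem_z.2 (or_iff_not_imp_left.2 fun n => h.invol_eq_z hz.1 (orderOf_two_of (sq z ▸ hE z hz.2) n))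
    rw [Nat.card_zpowers, h.orderOf_z] at k3
    nlinarith
  have w4 := (isKleinFour_iff.1 w3).1
  have i2 : C(W).relIndex S ≤ 2 := relIndex_cent_le hS.pgroup w2 w4
  have A : ∀ z ∈ C(W), orderOf z = 2 → ∃ E ≤ C1(z), Nat.card E = 8 ∧ ∀ e ∈ E, e ^ 2 = 1 := fun z hz z2 => by
    by_cases zW : z ∈ W
    · by_cases k : C(W) ⊓ E ≤ W
      · have k1 := card_inf_mul_relIndex C(W) E
        have k2 : C(W).relIndex E ≤ 2 := (relIndex_le_of_le_right l (relIndex_ne_zero _ _)).trans i2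
        have := CfsgH2.eq_of_le_of_card_le k (by nlinarith)
        exact ⟨E, le_cent1_iff.2 (cE (this.ge zW).2), e8, hE⟩
      · obtain ⟨u, hu, n⟩ := SetLike.not_le_iff_exists.1 k
        obtain ⟨a, b, c⟩ := aux w3 (sq u ▸ hE u hu.2) n hu.1
        exact ⟨_, le_cent1_iff.2 (c (mem_sup_left zW)), a, b⟩
    · obtain ⟨a, b, c⟩ := aux w3 (mul_self_of_orderOf_two z2) zW hz
      exact ⟨_, le_cent1_iff.2 (c (mem_sup_right (mem_zpowers z))), a, b⟩
  by_cases k : S ≤ C(W)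
  · exact ⟨1, by simpa using A y (k hyS) hy⟩
  rcases thompson_transfer' hS (inf_le_left (b := C(W))) (by
    rw [inf_relIndex_left]; exact le_antisymm i2 (le_relIndex_of_not_le hS.pgroup k)) hy hyS with ⟨N, -, h, -⟩ | ⟨g, h⟩
  · exact (hno N h).elim
  · exact ⟨g, A _ h.2 ((orderOf_conj' g y).trans hy)⟩

end Cfsg.Agent.S0221
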