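import Cfsg.Statements.S0223
import Cfsg.Agent.H2.StrEmb

set_option autoImplicit false
open Cfsg

namespace Cfsg.Agent.S0223
open Subgroup CfsgH2
open scoped commutatorElement

/-- Let H be a proper subgroup of even order of the finite group G. Then H is strongly embedded if and only if (i) C_G(t) ≤ H for every involution t of H and (ii) H controls fusion of its involutions: involutions of H conjugate in G are conjugate in H. -/
theorem result {G : Type*} [Group G] [Finite G] (H : Subgroup G) (hH : H ≠ ⊤) (heven : Even (Nat.card H)) : Cfsg.IsStronglyEmbedded H ↔ ((∀ t ∈ H, orderOf t = 2 → Subgroup.centralizer ({t} : Set G) ≤ H) ∧ (∀ t ∈ H, ∀ s ∈ H, orderOf t = 2 → orderOf s = 2 → IsConj t s → ∃ h ∈ H, h * t * h⁻¹ = s)) := by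
  constructor
  · intro h
    refine ⟨fun t ht h2 g hg => se_mem_of_commute h h2 ht (mem_centralizer_singleton_iff.1 hg),
      fun t ht s hs h1 _ h3 => ?_⟩
    obtain ⟨g, rfl⟩ := isConj_iff.1 h3
    exact ⟨g, se_mem h h1 ht hs, rfl⟩
  · rintro ⟨h1, h2⟩
    refine se_iff.2 ⟨hH, heven, fun t g ht htH hg => ?_⟩
    obtain ⟨k, hk, e⟩ := h2 t htH _ hg ht ((orderOf_conj' g t).trans ht) (isConj_conj t g)
    have : k⁻¹ * g ∈ H := h1 t htH ht (mem_centralizer_singleton_iff.2 (by
      calc k⁻¹ * g * t = k⁻¹ * (g * t * g⁻¹) * g := by group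
        _ = _ := by rw [← e]; group))
    simpa using mul_mem hk this


end Cfsg.Agent.S0223
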