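import Cfsg.Statements.S0226
import Cfsg.Agent.H2.StrEmb

set_option autoImplicit false
open Cfsg

namespace Cfsg.Agent.S0226
open Subgroup CfsgH2
open scoped commutatorElement

/-- A finite group of even order has an odd number of involutions. -/
theorem result {G : Type*} [Group G] [Finite G] (heven : Even (Nat.card G)) : Odd (Nat.card {t : G // orderOf t = 2}) := by
  classical
  letI := Fintype.ofFinite G
  have h := Equiv.Perm.card_fixedPoints_modEq (p := 2) (n := 1) (f := (fun x => x⁻¹ : G → G)) (by
    funext x; exact inv_inv x)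
  have h1 := card_subtype_ne (P := fun x : G => x⁻¹ = x) (a := 1) inv_one
  rw [card_subtype_congr (Q := fun t : G => orderOf t = 2) fun t => ⟨fun h => orderOf_two_of
    (by nth_rewrite 1 [← h.1]; exact inv_mul_cancel t) h.2,
    fun h => ⟨inv_eq_of_orderOf_two h, ne_one_of_orderOf_two h⟩⟩] at h1
  rw [← Nat.card_eq_fintype_card, ← Nat.card_eq_fintype_card] at h
  have h2 : Nat.card (Function.fixedPoints (fun x => x⁻¹ : G → G)) = Nat.card {x : G // x⁻¹ = x} := rfl
  rw [h2, ← h1] at h
  obtain ⟨k, hk⟩ := heven
  rw [Nat.odd_iff]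
  unfold Nat.ModEq at h
  omega


end Cfsg.Agent.S0226
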