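import Cfsg.Statements.S0227
import Cfsg.Agent.H1.GAut

set_option autoImplicit false
open Cfsg

namespace Cfsg.Agent.S0227

/-- Let G be a finite group with no nontrivial normal subgroup of odd order, S a Sylow 2-subgroup, and C the group of automorphisms of G that fix every element of S. Then every Sylow 2-subgroup of C is abelian and has a normal complement in C; in particular C is solvable. -/
theorem result {G : Type*} [Group G] [Finite G] (hO : ∀ N : Subgroup G, N.Normal → Odd (Nat.card N) → N = ⊥) (S : Sylow 2 G) (C : Subgroup (MulAut G)) (hC : ∀ φ : MulAut G, φ ∈ C ↔ ∀ s : G, s ∈ S → φ s = s) : (∀ T : Sylow 2 ↥C, (∀ a b : ↥T, a * b = b * a) ∧ ∃ N : Subgroup ↥C, N.Normal ∧ Subgroup.IsComplement' N (T : Subgroup ↥C)) ∧ Group.IsSolvable ↥C := by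
  open Subgroup CfsgH1 CfsgFT CfsgH2 in
  haveI : Fact (Nat.Prime 2) := ⟨Nat.prime_two⟩
  have h0 : pPrimeCore 2 G = ⊥ := hO _ inferInstance (coprime_two_iff_odd.1 (coprime_card_pPrimeCore 2 G))
  have hS := IsSylowIn.of_sylow_top S
  have hC' : ∀ φ ∈ C, ∀ s ∈ (S : Subgroup G), φ s = s := fun φ h => (hC φ).1 h
  refine ⟨fun T => ?_, gaut_solv h0 hS C hC'⟩
  obtain ⟨h1, h2⟩ := gaut_aut h0 hS C hC' (IsSylowIn.of_sylow_map T)
  refine ⟨fun a b => ?_, (hasNPC_iff_sylow T).1 h2⟩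
  apply Subtype.ext; apply Subtype.ext
  exact mem_cent.1 (h1 ⟨_, b.2, rfl⟩) _ ⟨_, a.2, rfl⟩

end Cfsg.Agent.S0227
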