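import Cfsg.Statements.S0228
import Cfsg.Agent.H1.PG3

set_option autoImplicit false
open Cfsg

namespace Cfsg.Agent.S0228

/-- A group of order 12 in which no involution is central is isomorphic to the alternating group on four letters. -/
theorem result {G : Type*} [Group G] [Finite G] (hG : Nat.card G = 12) (hz : ∀ z : G, orderOf z = 2 → z ∉ Subgroup.center G) : Nonempty (G ≃* alternatingGroup (Fin 4)) := by
  open Subgroup CfsgH1 CfsgFT CfsgH2 in
  refine NCN.alt4 (ncn_of fun x hx hn => ?_) hG
  have hd : orderOf x ∣ 2 ^ 2 * 3 := (hG ▸ orderOf_dvd_natCard x :)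
  rcases (hx.dvd_mul).1 hd with h | h
  · have := (Nat.prime_dvd_prime_iff_eq hx Nat.prime_two).1 (hx.dvd_of_dvd_pow h)
    exact hz x this (central_of_normal_two this hn)
  · replace h := (Nat.prime_dvd_prime_iff_eq hx Nat.prime_three).1 h
    obtain ⟨P⟩ : Nonempty (Sylow 2 G) := inferInstance
    have hP : Nat.card P = 2 ^ 2 := by
      rw [P.card_eq_multiplicity, hG]; congr 1; decide +kernel
    obtain ⟨z, h1, h2, h3⟩ := exists_invol_comm h hn P.isPGroup' (by omega)
    have hc : IsMulCommutative P := IsPGroup.isMulCommutative_of_card_eq_prime_sq hP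
    refine hz z h2 (mem_center_iff.2 fun g => mem_C1.1 ((card_eq_iff_eq_top C1(z)).1 ?_ ▸ mem_top g : g ∈ C1(z)))
    have a1 : 4 ∣ Nat.card C1(z) := (show Nat.card P = 4 from hP) ▸ card_dvd_of_le fun y hy =>
      mem_C1.2 (mul_comm_of_isMulCommutative hc hy h1)
    have a2 : 3 ∣ Nat.card C1(z) := h ▸ Subgroup.orderOf_dvd_natCard _ (mem_C1.2 h3.symm)
    have a3 := Nat.le_of_dvd Nat.card_pos (card_subgroup_dvd_card C1(z))
    have := Nat.card_pos (α := C1(z))
    omega

end Cfsg.Agent.S0228
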