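import Cfsg.Statements.S0230
import Cfsg.Agent.H2.StrEmb

set_option autoImplicit false
open Cfsg

namespace Cfsg.Agent.S0230
open Subgroup CfsgH2
open scoped commutatorElement

/-- Let G be a finite group with two non-conjugate involutions, and let t be an involution whose centralizer has maximal order among centralizers of involutions. Then |G| < |C_G(t)|^3. -/
theorem result {G : Type*} [Group G] [Finite G] (s t : G) (hs : orderOf s = 2) (ht : orderOf t = 2) (hnc : ¬ IsConj s t) (hmax : ∀ u : G, orderOf u = 2 → Nat.card (Subgroup.centralizer ({u} : Set G)) ≤ Nat.card (Subgroup.centralizer ({t} : Set G))) : Nat.card G < Nat.card (Subgroup.centralizer ({t} : Set G)) ^ 3 := by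
  obtain ⟨c, hc⟩ : ∃ c, c = Nat.card (Subgroup.centralizer ({t} : Set G)) := ⟨_, rfl⟩
  rw [← hc] at hmax ⊢
  have h1 : ∀ u : {u // IsConj s u}, ∃ z : {z : G // z ∈ centralizer ({t} : Set G) ∧ z ≠ 1},
      orderOf z.1 = 2 ∧ Commute z.1 u.1 := by
    rintro ⟨u, hu⟩
    obtain ⟨g, rfl⟩ := isConj_iff.1 hu
    have h2 := conj_mul_self (mul_self_of_orderOf_two hs) g
    have h3 := mul_self_of_orderOf_two ht
    obtain ⟨h4, h5, h6⟩ := exists_central_invol h2 h3 (Nat.not_odd_iff_even.1 fun h =>
      hnc (hu.trans (isConj_of_odd h2 h3 h)))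
    exact ⟨⟨_, mem_centralizer_singleton_iff.2 h6, ne_one_of_orderOf_two h4⟩, h4, h5⟩
  choose f hf using h1
  have h2 := card_le_mul_of_fiber f (n := c) fun z => by
    rcases isEmpty_or_nonempty {a // f a = z} with h | ⟨⟨u, rfl⟩⟩
    · simp
    · refine le_trans (Nat.card_le_card_of_injective (fun a : {a // f a = f u} =>
        (⟨a.1.1, mem_centralizer_singleton_iff.2 (by
          have := (hf a.1).2.symm; rw [a.2] at this; exact this)⟩ :
          centralizer ({(f u).1} : Set G))) fun a b e => ?_) (hmax _ (hf u).1)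
      exact Subtype.ext (Subtype.ext (Subtype.mk.inj e))
  have h3 := card_subtype_ne (P := (· ∈ centralizer ({t} : Set G))) (a := 1) (one_mem _)
  have h4 : Nat.card {b // b ∈ centralizer ({t} : Set G)} = c := hc.symm
  have h5 := card_class_mul s
  have h6 := hmax s hs
  have h7 : 0 < c := hc ▸ Nat.card_pos
  rw [← h5]
  calc _ ≤ Nat.card {z : G // z ∈ centralizer ({t} : Set G) ∧ z ≠ 1} * c * c :=
        Nat.mul_le_mul h2 h6
    _ < c * c * c := Nat.mul_lt_mul_of_pos_right (Nat.mul_lt_mul_of_pos_right (by omega) h7) h7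
    _ = c ^ 3 := by ring


end Cfsg.Agent.S0230
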