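import Cfsg.Statements.S0231
import Cfsg.Agent.H2.StrEmb

set_option autoImplicit false
open scoped Pointwise
open Cfsg

namespace Cfsg.Agent.S0231
open Subgroup CfsgH2
open scoped commutatorElement

/-- Let T be a Sylow 2-subgroup of the finite group G which is not normal and which intersects every other Sylow 2-subgroup trivially. Then G has a single conjugacy class of involutions. -/
theorem result {G : Type*} [Group G] [Finite G] (T : Sylow 2 G) (hnn : ¬ (T : Subgroup G).Normal) (hTI : ∀ g : G, MulAut.conj g • (T : Subgroup G) ≠ T → MulAut.conj g • (T : Subgroup G) ⊓ T = ⊥) (s t : G) (hs : orderOf s = 2) (ht : orderOf t = 2) : IsConj s t := by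
  have hS := IsSylowIn.of_sylow T (le_normalizer (H := (T : Subgroup G)))
  obtain ⟨g, hg⟩ := exists_conj_mem_sylow T (k := 1) (by rw [hs, pow_one])
  refine se_isConj (H := normalizer ((T : Subgroup G) : Set G)) (se_iff.2
    ⟨fun h => hnn (normalizer_eq_top_iff.1 h), even_card_of_invol (le_normalizer hg)
      ((orderOf_conj' g s).trans hs), fun x g hx h1 h2 => ?_⟩) hs ht
  have key : ∀ y ∈ normalizer ((T : Subgroup G) : Set G), orderOf y = 2 → y ∈ (T : Subgroup G) :=
    fun y hy h => hS.le_of_le_normalizer (isPGroup_zpowers_of_mul_self (mul_self_of_orderOf_two h))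
      (Subgroup.zpowers_le.2 hy) (Subgroup.zpowers_le.2 hy) (mem_zpowers y)
  by_contra h3
  have h4 := hTI g fun e => h3 (cj_eq_iff_mem_normalizer.1 ((cj_eq_smul _ _).trans e))
  rw [← cj_eq_smul] at h4
  have h5 := (orderOf_conj' g x).trans hx
  exact ne_one_of_orderOf_two h5 (mem_bot.1 (h4.le (mem_inf.2
    ⟨conj_mem_cj g (key x h1 hx), key _ h2 h5⟩)))


end Cfsg.Agent.S0231
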