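import Cfsg.Statements.S0232
import Cfsg.Agent.H2.StrEmb
import Cfsg.Agent.S0230

set_option autoImplicit false
open Cfsg

namespace Cfsg.Agent.S0232
open Subgroup CfsgH2
open scoped commutatorElement

universe u
theorem aux (n : ℕ) : ∀ (G : Type u) [Group G] [Finite G], Nat.card G ≤ n → Even (Nat.card G) →
    2 < Nat.card G → ∃ H : Subgroup G, H ≠ ⊤ ∧ Nat.card G < (Nat.card H) ^ 3 := by
  induction n with
  | zero => intro G _ _ h _ h'; omega
  | succ n ih =>
  intro G _ _ hn heven hgt
  by_cases h2 : ∃ H : Subgroup G, H.index = 2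
  · obtain ⟨H, hH⟩ := h2
    refine ⟨H, fun e => by simp [e] at hH, ?_⟩
    have h3 := H.card_mul_index
    rw [hH] at h3
    have : 2 ≤ Nat.card H := by omega
    rw [← h3]
    nlinarith [Nat.mul_le_mul this this]
  by_cases hZ : ∃ z ∈ center G, orderOf z = 2
  · obtain ⟨z, hz, hz2⟩ := hZ
    haveI : (zpowers z).Normal := ⟨fun x hx g => by
      rw [mem_center_iff.1 (Subgroup.zpowers_le.2 hz hx) g, mul_inv_cancel_right]; exact hx⟩
    have h3 := card_eq_card_quotient_mul_card_subgroup (zpowers z)
    rw [Nat.card_zpowers, hz2] at h3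
    by_cases h4 : Even (Nat.card (G ⧸ zpowers z))
    · by_cases h5 : 2 < Nat.card (G ⧸ zpowers z)
      · obtain ⟨H, hH, h6⟩ := ih (G ⧸ zpowers z) (by omega) h4 h5
        refine ⟨H.comap (QuotientGroup.mk' _), fun e => hH ?_, ?_⟩
        · rw [← map_comap_eq_self_of_surjective (QuotientGroup.mk'_surjective _) H, e,
            map_top_of_surjective _ (QuotientGroup.mk'_surjective _)]
        · have h7 := (H.comap (QuotientGroup.mk' (zpowers z))).card_mul_index
          rw [index_comap_of_surjective _ (QuotientGroup.mk'_surjective _), h3,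
            ← H.card_mul_index, mul_right_comm] at h7
          rw [Nat.eq_of_mul_eq_mul_right (Nat.pos_of_ne_zero index_ne_zero_of_finite) h7, h3, mul_pow]
          omega
      · refine ⟨zpowers z, fun e => ?_, by rw [Nat.card_zpowers, hz2]; omega⟩
        rw [← Subgroup.card_top, ← e, Nat.card_zpowers, hz2] at hgt
        omega
    · refine absurd (exists_index_two_of_hasNPC (hasNPC_top_iff.1 (hasNPC_of_cyclic_two
        ⟨le_top, isPGroup_zpowers_of_mul_self (mul_self_of_orderOf_two hz2), ?_⟩
        (isCyclic_zpowers' z))) heven) h2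
      rw [relIndex_top_right]
      exact fun h => h4 (even_iff_two_dvd.2 h)
  have hc : ∀ t : G, orderOf t = 2 → centralizer ({t} : Set G) ≠ ⊤ := fun t ht e =>
    hZ ⟨t, mem_center_iff.2 fun g => mem_centralizer_singleton_iff.1 (e.ge (mem_top g)), ht⟩
  obtain ⟨t, ht, hmax⟩ := Set.exists_max_image {t : G | orderOf t = 2}
    (fun t => Nat.card (centralizer ({t} : Set G))) (Set.toFinite _) (exists_invol_of_even' heven)
  by_cases h3 : ∃ s, orderOf s = 2 ∧ ¬ IsConj s t
  · obtain ⟨s, hs, h3⟩ := h3
    exact ⟨_, hc t ht, Cfsg.Agent.S0230.result s t hs ht h3 hmax⟩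
  obtain ⟨H, hH, hmax'⟩ := Set.exists_max_image {H : Subgroup G | H ≠ ⊤} (fun H => Nat.card H)
      (Set.toFinite _) ⟨_, hc t ht⟩
  refine ⟨H, hH, ?_⟩
  have h7 := bf_ineq (G := G) (c := Nat.card (centralizer ({t} : Set G))) (m := Nat.card H / 2) hmax
    fun x g hx hg => by
      obtain ⟨K, h1, h8⟩ := exists_ext_centralizer hx hg
      have := hmax' K fun e => h2 ⟨centralizer {x}, by
        rw [e, Subgroup.card_top, ← (centralizer ({x} : Set G)).card_mul_index] at h8
        exact Nat.eq_of_mul_eq_mul_left Nat.card_pos h8⟩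
      omega
  have h4 := card_class_mul t
  rw [card_subtype_congr (Q := fun t : G => orderOf t = 2) fun y => ⟨fun hy => by
      obtain ⟨g, rfl⟩ := isConj_iff.1 hy
      exact (orderOf_conj' g t).trans ht, fun hy => by
      by_contra h; exact h3 ⟨y, hy, fun h' => h h'.symm⟩⟩] at h4
  have h5 := hmax' _ (hc t ht)
  have h6 : 2 ≤ Nat.card (centralizer ({t} : Set G)) := by
    rw [← show orderOf t = 2 from ht, ← Nat.card_zpowers]
    exact card_le_of_le (Subgroup.zpowers_le.2 (mem_centralizer_singleton_iff.2 rfl))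
  have h11 : Nat.card H / 2 * 2 ≤ Nat.card H := Nat.div_mul_le_self _ _
  have h10 : 0 < Nat.card {t : G // orderOf t = 2} := Nat.card_pos_iff.2 ⟨⟨⟨t, ht⟩⟩, inferInstance⟩
  generalize Nat.card {t : G // orderOf t = 2} = k at *
  generalize Nat.card (centralizer ({t} : Set G)) = c at *
  generalize Nat.card H / 2 = m at *
  generalize Nat.card H = h at *
  rw [← h4] at h7 ⊢
  have h8 : k * k < k * (c * (1 + m)) := by nlinarith
  have h9 : k < c * (1 + m) := lt_of_mul_lt_mul_left h8 (Nat.zero_le _)
  calc k * c < c * (1 + m) * c := Nat.mul_lt_mul_of_pos_right h9 (by omega)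
    _ ≤ h * h * h := Nat.mul_le_mul (Nat.mul_le_mul h5 (by omega)) h5
    _ = h ^ 3 := by ring

/-- A finite group G of even order greater than 2 has a proper subgroup H with |G| < |H|^3. -/
theorem result {G : Type*} [Group G] [Finite G] (heven : Even (Nat.card G)) (hgt : 2 < Nat.card G) : ∃ H : Subgroup G, H ≠ ⊤ ∧ Nat.card G < (Nat.card H) ^ 3 := by
  exact aux _ G le_rfl heven hgt


end Cfsg.Agent.S0232
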