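import Cfsg.Statements.S0234
import Cfsg.Agent.H4.Ord3
import Cfsg.Agent.H2.Dih

set_option autoImplicit false
open Cfsg

namespace Cfsg.Agent.S0234

/-- In a finite simple group G of even order greater than 2, the number n of involutions satisfies 3n < |G|. -/
theorem result {G : Type*} [Group G] [Finite G] [IsSimpleGroup G] (heven : Even (Nat.card G)) (hgt : 2 < Nat.card G) : 3 * Nat.card {t : G // orderOf t = 2} < Nat.card G := by
  open Subgroup CfsgH1 CfsgFT CfsgH2 CfsgH3 CfsgH4 in
  classical
  haveI := Fintype.ofFinite G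
  have nc : ¬ ∀ a b : G, a * b = b * a := fun h => by
    have := (card_prime_of_simple_of_comm h).even_iff.1 heven; omega
  have pf : commutator G = ⊤ := (IsSimpleGroup.eq_bot_or_eq_top_of_normal _ inferInstance).resolve_left fun h => nc fun a b =>
    commutatorElement_eq_one_iff_mul_comm.1 (h.le (commutator_mem_commutator (mem_top a) (mem_top b)))
  obtain ⟨t, ht⟩ := exists_prime_orderOf_dvd_card' 2 (G := G) heven.two_dvd
  let o : IrrCharacter G := ⟨fun _ => 1, isIrr_one⟩
  have h3 : ∀ χ : IrrCharacter G, χ ≠ o → 3 ≤ deg χ := fun χ n => by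
    have k := χ.2.ker_eq_bot_of_simple fun e => n (Subtype.ext e)
    by_contra! l
    have := deg_pos χ
    have d := deg_spec χ
    obtain e | e : deg χ = 1 ∨ deg χ = 2 := by omega
    · exact ne_one_of_orderOf_two ht (k.le (apply_commutator_of_deg_one χ.2.isChar (by simp [d, e]) (pf.ge trivial)))
    · have a := apply_commutator_of_deg_one (CfsgH4.isChar_alt2 χ.2.isChar) (by simp [d, e]; norm_num) (pf.ge (mem_top t))
      rw [one_pow, ← ht, pow_orderOf_eq_one, ht, div_left_inj' two_ne_zero, sub_left_inj] at a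
      have b : t ∈ χ.2.isChar.cent := (sq_eq_sq₀ (norm_nonneg _) (norm_nonneg _)).1 (by rw [← norm_pow, a, norm_pow])
      have c := (IsSimpleGroup.eq_bot_or_eq_top_of_normal χ.2.isChar.cent inferInstance).resolve_left fun h =>
        ne_one_of_orderOf_two ht (h.le b)
      exact nc fun x y => by simpa [mul_inv_eq_iff_eq_mul] using k.le (χ.2.isChar.commutator_mem_ker (c.ge trivial) y)
  have e1 := congrArg norm (card_sqrt_eq (1 : G))
  have e2 := sum_deg_sq (G := G)
  have e3 : Nat.card {s : G // s * s = 1} ≤ ∑ χ : IrrCharacter G, deg χ := by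
    rw [Complex.norm_natCast] at e1
    have := e1.le.trans ((norm_sum_le _ _).trans (Finset.sum_le_sum (g := fun χ => (deg χ : ℝ)) fun χ _ => by
      rw [norm_mul, deg_spec, Complex.norm_conj, Complex.norm_natCast]
      refine mul_le_of_le_one_left (Nat.cast_nonneg _) ?_
      rcases fs_cases_irr χ.2 with ⟨-, h⟩ | ⟨-, h | h⟩ <;> rw [h] <;> simp))
    exact_mod_cast this
  have e4 : Nat.card {s : G // s * s = 1} = Nat.card {t : G // orderOf t = 2} + 1 := by
    simp only [Nat.card_eq_fintype_card, Fintype.card_subtype]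
    rw [← Finset.card_insert_of_notMem (a := (1 : G)) (by simp)]
    congr 1; ext x
    by_cases h : x = 1 <;> simp [h, orderOf_two_iff]
  have o1 : deg o = 1 := Nat.cast_eq_one.1 (deg_spec o).symm
  rw [← Finset.add_sum_erase _ _ (Finset.mem_univ o), o1] at e2 e3
  have : 3 * ∑ χ ∈ Finset.univ.erase o, deg χ ≤ ∑ χ ∈ Finset.univ.erase o, deg χ ^ 2 := by
    rw [Finset.mul_sum]
    exact Finset.sum_le_sum fun χ h => by have := h3 χ (Finset.mem_erase.1 h).1; nlinarith
  omega

end Cfsg.Agent.S0234
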