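import Cfsg.Statements.S0239
import Cfsg.Agent.H2.Invol

set_option autoImplicit false
open Cfsg

namespace Cfsg.Agent.S0239
open Subgroup CfsgH2
open scoped commutatorElement

/-- If some nontrivial element x of a finite group G is conjugate to x⁻¹, then |G| is even. -/
theorem result {G : Type*} [Group G] [Finite G] (x : G) (hx : x ≠ 1) (hreal : IsConj x x⁻¹) : Even (Nat.card G) := by
  by_contra h
  rw [Nat.not_even_iff_odd] at h
  obtain ⟨g, hg⟩ := isConj_iff.1 hreal
  have ho : ∀ y : G, Odd (orderOf y) := fun y => Odd.of_dvd_nat h (orderOf_dvd_natCard y)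
  obtain ⟨m, hm⟩ := ho g
  have h2 : Commute (g ^ 2) x := by
    have := conj_zpow_of_inv hg (-1)
    rw [neg_neg, zpow_one, zpow_neg_one, ← hg] at this
    show _ * _ = _ * _
    rw [← mul_inv_eq_iff_eq_mul]
    refine Eq.trans ?_ this
    rw [pow_two]; group
  have h3 : Commute g x := by
    have h4 := h2.pow_left (m + 1)
    rwa [← pow_mul, show 2 * (m + 1) = orderOf g + 1 by omega, pow_succ, pow_orderOf_eq_one,
      one_mul] at h4
  rw [h3.eq, mul_inv_cancel_right] at hg
  exact hx (eq_one_of_inv_of_odd (ho x) hg.symm)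


end Cfsg.Agent.S0239
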