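import Cfsg.Statements.S0240
import Cfsg.Agent.H2.StrEmb

set_option autoImplicit false
open Cfsg

namespace Cfsg.Agent.S0240
open Subgroup CfsgH2
open scoped commutatorElement

/-- Let G be a finite group with n involutions and H a subgroup with |H|·(n+1) > |G|. Then some nontrivial h ∈ H is strongly real in G: an involution t of G satisfies t h t⁻¹ = h⁻¹. -/
theorem result {G : Type*} [Group G] [Finite G] (H : Subgroup G) (hH : Nat.card G < Nat.card H * (Nat.card {t : G // orderOf t = 2} + 1)) : ∃ h : G, h ∈ H ∧ h ≠ 1 ∧ ∃ t : G, orderOf t = 2 ∧ t * h * t⁻¹ = h⁻¹ := by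
  have h1 := card_subtype_ne (P := fun x : G => x * x = 1) (a := 1) (mul_one 1)
  rw [card_subtype_congr (Q := fun t : G => orderOf t = 2) fun t => orderOf_two_iff.symm] at h1
  rw [h1, card_eq_card_quotient_mul_card_subgroup H, mul_comm] at hH
  have h2 := lt_of_mul_lt_mul_left hH (Nat.zero_le _)
  by_contra hc
  refine h2.not_ge (Nat.card_le_card_of_injective
    (fun x : {x : G // x * x = 1} => (QuotientGroup.mk x.1 : G ⧸ H)) ?_)
  rintro ⟨x, hx⟩ ⟨y, hy⟩ e
  have e1 := QuotientGroup.eq.1 e
  simp only [inv_eq_of_mul_self hx] at e1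
  by_contra hne
  have h3 : x * y ≠ 1 := fun h => hne (Subtype.ext (by
    rw [mul_eq_one_iff_eq_inv, inv_eq_of_mul_self hy] at h; exact h))
  by_cases h4 : x = 1
  · subst h4
    exact hc ⟨_, e1, h3, y, orderOf_two_of hy (by simpa using h3), invol_inverts' hx hy⟩
  · exact hc ⟨_, e1, h3, x, orderOf_two_of hx h4, invol_inverts hx hy⟩


end Cfsg.Agent.S0240
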