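import Cfsg.Statements.S0241
import Cfsg.Agent.H2.Invol

set_option autoImplicit false
open Cfsg

namespace Cfsg.Agent.S0241
open Subgroup CfsgH2
open scoped commutatorElement

/-- If x ≠ 1 is conjugate to x⁻¹ in a finite group G and |C_G(x)| is odd, then some involution t satisfies t x t⁻¹ = x⁻¹. -/
theorem result {G : Type*} [Group G] [Finite G] (x : G) (hx : x ≠ 1) (hreal : IsConj x x⁻¹) (hodd : Odd (Nat.card (Subgroup.centralizer ({x} : Set G)))) : ∃ t : G, orderOf t = 2 ∧ t * x * t⁻¹ = x⁻¹ := by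
  obtain ⟨g, hg⟩ := isConj_iff.1 hreal
  have h2 : Commute (g ^ 2) x := by
    have := conj_zpow_of_inv hg (-1)
    rw [neg_neg, zpow_one, zpow_neg_one, ← hg] at this
    show _ * _ = _ * _
    rw [← mul_inv_eq_iff_eq_mul]
    refine Eq.trans ?_ this
    rw [pow_two]; group
  have h3 : Odd (orderOf (g ^ 2)) :=
    odd_orderOf_of_mem hodd (mem_centralizer_singleton_iff.2 h2)
  have hxo : Odd (orderOf x) :=
    odd_orderOf_of_mem hodd (mem_centralizer_singleton_iff.2 rfl)
  obtain ⟨m, hm⟩ := h3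
  have h4 : g ^ (2 * m + 1) * x * (g ^ (2 * m + 1))⁻¹ = x⁻¹ := by
    have h5 := ((h2.pow_left m).inv_right).eq
    rw [pow_succ, pow_mul]
    calc _ = (g ^ 2) ^ m * (g * x * g⁻¹) * ((g ^ 2) ^ m)⁻¹ := by group
      _ = _ := by rw [hg, h5]; group
  refine ⟨_, orderOf_two_of ?_ ?_, h4⟩
  · rw [← pow_add, ← two_mul, pow_mul, ← hm, pow_orderOf_eq_one]
  · intro e
    rw [e] at h4
    exact hx (eq_one_of_inv_of_odd hxo (by simpa using h4.symm))


end Cfsg.Agent.S0241
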