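import Cfsg.Statements.S0247
import Cfsg.Agent.H5.Iso3

set_option autoImplicit false
open Cfsg

namespace Cfsg.Agent.S0247

open CfsgH5

/-- Sp_4(2) is isomorphic to the symmetric group S_6. -/
theorem result {F : Type*} [Field F] [Fintype F] (hF : Fintype.card F = 2) : Nonempty (Matrix.symplecticGroup (Fin 2) F ≃* Equiv.Perm (Fin 6)) := by
  obtain ⟨f, hf⟩ := exists_perm_sp (two_eq_zero_of_not_odd (F := F) (by rw [hF]; decide)) (le_refl 3)
  exact (equiv_of_inj f hf (by
    rw [card_sp, Nat.card_eq_fintype_card, hF, Nat.card_perm, Nat.card_fin]; decide)).map .symm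

end Cfsg.Agent.S0247
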