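import Cfsg.Statements.S0250
import Cfsg.Agent.H5.Iso2

set_option autoImplicit false
open Cfsg

namespace Cfsg.Agent.S0250

open CfsgH5 Matrix

/-- SL_2(2) is isomorphic to S_3. -/
theorem result {F : Type*} [Field F] [Fintype F] (hF : Fintype.card F = 2) : Nonempty (Matrix.SpecialLinearGroup (Fin 2) F ≃* Equiv.Perm (Fin 3)) := by
  have hc : Subgroup.center (SpecialLinearGroup (Fin 2) F) = ⊥ := by
    rw [← Subgroup.card_eq_one, card_center_SL, hF]; rfl
  obtain ⟨e⟩ := equiv_perm_of_inj _
    (ProjectiveSpecialLinearGroup.toPermHom_injective (ι := Fin 2) (K := F)) (n := 3)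
    (by rw [Projectivization.card_of_finrank_two _ _ (by simp), Nat.card_eq_fintype_card, hF])
    (by have := card_PSL_mul (ι := Fin 2) (F := F)
        rw [card_SL_two, hF] at this; simpa [Nat.factorial] using this)
  exact ⟨(qcBot hc).symm.trans e⟩

end Cfsg.Agent.S0250
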