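import Cfsg.Statements.S0252
import Cfsg.Agent.H5.Iso2

set_option autoImplicit false
open Cfsg

namespace Cfsg.Agent.S0252

open CfsgH5 Matrix

/-- PSL_2(4) is isomorphic to A_5. -/
theorem result {F : Type*} [Field F] [Fintype F] (hF : Fintype.card F = 4) : Nonempty (Matrix.ProjectiveSpecialLinearGroup (Fin 2) F ≃* alternatingGroup (Fin 5)) := by
  refine equiv_alt_of_inj _
    (ProjectiveSpecialLinearGroup.toPermHom_injective (ι := Fin 2) (K := F)) (n := 5)
    (by rw [Projectivization.card_of_finrank_two _ _ (by simp), Nat.card_eq_fintype_card, hF]) ?_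
  have := card_PSL_mul (ι := Fin 2) (F := F)
  rw [card_SL_two, hF] at this
  simp at this
  rw [this]; rfl

end Cfsg.Agent.S0252
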