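import Cfsg.Statements.S0253
import Cfsg.Agent.H1.PSL2c
import Cfsg.Agent.H5.LinMat
import Cfsg.Agent.S0494

set_option autoImplicit false
open Cfsg

namespace Cfsg.Agent.S0253

/-- PSL_2(5) is isomorphic to A_5. -/
theorem result {F : Type*} [Field F] [Fintype F] (hF : Fintype.card F = 5) : Nonempty (Matrix.ProjectiveSpecialLinearGroup (Fin 2) F ≃* alternatingGroup (Fin 5)) := by
  open Subgroup CfsgH1 CfsgH3 CfsgH1.L2 in
  classical
  obtain ⟨w, hw, e⟩ := exists_splS (F := F) (by omega)
  haveI := CfsgH5.isSimple_PSL (ι := Fin 2) (F := F) (.inr ⟨2, two_ne (by rw [hF]; decide), fun k => by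
    have h3 : ((3 : ℕ) : F) = 0 := by push_cast; linear_combination k
    have h5 := FiniteField.cast_card_eq_zero F
    rw [hF] at h5
    exact one_ne_zero (α := F) (by push_cast at h3 h5; linear_combination 2 * h3 - h5)⟩)
  have := card_P2 (F := F)
  rw [hF] at this
  exact Cfsg.Agent.S0494.result (Nat.eq_of_mul_eq_mul_right two_pos this)

end Cfsg.Agent.S0253
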