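import Cfsg.Statements.S0255
import Cfsg.Agent.H5.Iso2
import Cfsg.Agent.S0495

set_option autoImplicit false
open Cfsg

namespace Cfsg.Agent.S0255

open CfsgH5

/-- PSL_2(7) is isomorphic to PSL_3(2). -/
theorem result {F K : Type*} [Field F] [Fintype F] [Field K] [Fintype K] (hF : Fintype.card F = 7) (hK : Fintype.card K = 2) : Nonempty (Matrix.ProjectiveSpecialLinearGroup (Fin 2) F ≃* Matrix.ProjectiveSpecialLinearGroup (Fin 3) K) := by
  haveI := isSimple_PSL (ι := Fin 3) (F := K) (.inl (by simp))
  have := card_PSL_mul (ι := Fin 3) (F := K)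
  rw [card_SL_three, hK] at this
  exact (S0495.result (by simpa using this) hF).map .symm

end Cfsg.Agent.S0255
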