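import Cfsg.Statements.S0258
import Cfsg.Agent.H1.PSL2c

set_option autoImplicit false
open Cfsg

namespace Cfsg.Agent.S0258

/-- GL_2(q), q a power of the prime p, has exactly q + 1 Sylow p-subgroups. -/
theorem result {F : Type*} [Field F] [Fintype F] {q : ℕ} (hF : Fintype.card F = q) (p : ℕ) [Fact p.Prime] [CharP F p] : Nat.card (Sylow p (Matrix.GeneralLinearGroup (Fin 2) F)) = q + 1 := by
  open Subgroup CfsgH1 CfsgH3 CfsgH1.L2 CfsgH2 in
  classical
  subst hF
  obtain ⟨P, hP⟩ := (sylow_USG (F := F) p).of_top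
  rw [P.card_eq_index_normalizer]
  have := (B2 F).card_mul_index
  rw [card_B, card_G2, ← norm_USG, ← hP] at this
  exact Nat.eq_of_mul_eq_mul_left (Nat.mul_pos Fintype.card_pos (pow_pos q_sub_pos 2)) this

end Cfsg.Agent.S0258
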