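import Cfsg.Statements.S0259
import Cfsg.Agent.H1.PSL2c

set_option autoImplicit false
open Cfsg

namespace Cfsg.Agent.S0259

/-- Distinct Sylow p-subgroups of GL_2(q), p the characteristic, intersect trivially. -/
theorem result {F : Type*} [Field F] [Fintype F] (p : ℕ) [Fact p.Prime] [CharP F p] (P Q : Sylow p (Matrix.GeneralLinearGroup (Fin 2) F)) (h : P ≠ Q) : (P : Subgroup (Matrix.GeneralLinearGroup (Fin 2) F)) ⊓ (Q : Subgroup (Matrix.GeneralLinearGroup (Fin 2) F)) = ⊥ := by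
  open Subgroup CfsgH1 CfsgH3 CfsgH1.L2 CfsgH2 in
  classical
  obtain ⟨a, ha⟩ := sylow_eq_USG p P
  obtain ⟨b, hb⟩ := sylow_eq_USG p Q
  rw [← ha, ← hb, ← cj_eq_bot_iff (g := b⁻¹), cj_inf, CfsgH2.cj_inv_cj, CfsgH2.cj_cj]
  refine ti_USG fun k => h (Sylow.ext ?_)
  rw [← norm_USG, ← cj_eq_iff_mem_normalizer, ← CfsgH2.cj_cj, cj_eq_iff_eq_cj_inv, inv_inv] at k
  rw [← ha, ← hb, k]

end Cfsg.Agent.S0259
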