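import Cfsg.Statements.S0260
import Cfsg.Agent.H1.PSL2c

set_option autoImplicit false
open Cfsg

namespace Cfsg.Agent.S0260

/-- Any two distinct Sylow p-subgroups of SL_2(q), p the characteristic, generate SL_2(q). -/
theorem result {F : Type*} [Field F] [Fintype F] (p : ℕ) [Fact p.Prime] [CharP F p] (P Q : Sylow p (Matrix.SpecialLinearGroup (Fin 2) F)) (h : P ≠ Q) : (P : Subgroup (Matrix.SpecialLinearGroup (Fin 2) F)) ⊔ (Q : Subgroup (Matrix.SpecialLinearGroup (Fin 2) F)) = ⊤ := by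
  open Subgroup CfsgH1 CfsgH3 CfsgH1.L2 CfsgH2 in
  classical
  obtain ⟨a, ha⟩ := sylow_eq_US p P
  have n : ¬ cj a⁻¹ Q.1 ≤ BS F := fun k => h (Sylow.ext (by
    have := (sylow_US p).le_of_le_normalizer (IsPGroup_cj Q.2 a⁻¹) le_top (k.trans norm_US.ge)
    rw [cj_le_iff_le_cj_inv, inv_inv, ha] at this
    exact (IsSylowIn.of_sylow_top Q).eq_of_le P.2 this le_top))
  obtain ⟨g, h1, h2⟩ := SetLike.not_le_iff_exists.1 n
  rw [← cj_inj a⁻¹, cj_top, cj_sup, ← ha, CfsgH2.cj_inv_cj]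
  exact eq_top_of_unip (fun y => mem_sup_left ⟨_, rfl⟩) (mem_sup_right h1) (mt mem_BS.2 h2)

end Cfsg.Agent.S0260
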