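import Cfsg.Statements.S0263
import Cfsg.Agent.H1.PG3
import Cfsg.Agent.H8.Small2

set_option autoImplicit false
open Cfsg

namespace Cfsg.Agent.S0263

/-- A Sylow p-subgroup of GL_n(q), p the characteristic, has order q^(n(n-1)/2). -/
theorem result {F : Type*} [Field F] [Fintype F] {q : ℕ} (hF : Fintype.card F = q) (p : ℕ) [Fact p.Prime] [CharP F p] (n : ℕ) (P : Sylow p (Matrix.GeneralLinearGroup (Fin n) F)) : Nat.card P = q ^ (n * (n - 1) / 2) := by
  open CfsgH8 in
  subst hF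
  have pp : p.Prime := Fact.out
  obtain ⟨f, -, hf⟩ := FiniteField.card F p
  have h1 : Nat.card (Matrix.GeneralLinearGroup (Fin n) F) = p ^ (f * (n * (n - 1) / 2)) *
      ∏ i : Fin n, (Fintype.card F ^ (n - i) - 1) := by
    rw [Matrix.card_GL_field, pow_mul, ← hf, ← Finset.sum_range_id, ← Fin.sum_univ_eq_sum_range (fun i => i),
      ← Finset.prod_pow_eq_pow_sum, ← Finset.prod_mul_distrib]
    refine Finset.prod_congr rfl fun i _ => ?_
    rw [Nat.mul_sub, ← pow_add, Nat.add_sub_cancel' i.2.le, mul_one]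
  rw [(card_sylow_eq h1 (fun h => ?_) P).1, pow_mul, ← hf]
  obtain ⟨i, -, hi⟩ := (Prime.dvd_finset_prod_iff pp.prime _).1 h
  have : p ∣ Fintype.card F ^ (n - i) := (hf ▸ dvd_pow_self p f.ne_zero).trans (dvd_pow_self _ (by omega))
  exact pp.one_lt.ne' (Nat.dvd_one.1 ((Nat.dvd_sub_iff_right (Nat.one_le_pow _ _ Fintype.card_pos) this).1 hi))

end Cfsg.Agent.S0263
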