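import Cfsg.Statements.S0264
import Cfsg.Agent.H5.LinMat

set_option autoImplicit false
open Cfsg

namespace Cfsg.Agent.S0264

open CfsgH5 in
theorem aux {F V : Type*} [Field F] [AddCommGroup V] [Module F V] [FiniteDimensional F V]
    (h : Module.finrank F V = 2 → ∃ a : F, a ≠ 0 ∧ a ≠ 1) :
    slSub F V ≤ commutator (V ≃ₗ[F] V) := by
  refine sl_le fun φ v hv => ?_
  by_cases hφ : φ = 0
  · simp [hφ]
  by_cases hv0 : v = 0
  · simp [hv0]
  by_cases h3 : 3 ≤ Module.finrank F V
  · obtain ⟨ψ, w, e⟩ := exists_tr_commutator h3 hv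
    exact e ▸ Subgroup.commutator_mem_commutator trivial trivial
  obtain ⟨x, hx⟩ := exists_apply_one hφ
  have hxv : v ∉ Submodule.span F {x} := fun hh => by
    obtain ⟨c, rfl⟩ := Submodule.mem_span_singleton.1 hh
    simp [hx] at hv; simp [hv] at hv0
  have h1 := finrank_ker_dual hφ
  have h2 : Module.finrank F (LinearMap.ker φ) ≠ 0 := by
    rw [Ne, Submodule.finrank_eq_zero, Submodule.eq_bot_iff]
    exact fun hh => hv0 (hh v hv)
  obtain ⟨a, ha0, ha1⟩ := h (by omega)
  obtain ⟨ψ, h4, h5⟩ := exists_dual_pair hxv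
  have e1 : 1 + ψ ((a - 1) • v) ≠ 0 := by simp [h4, ha0]
  have := Subgroup.commutator_mem_commutator (H₁ := ⊤) (H₂ := ⊤) (Subgroup.mem_top (dl ψ _ e1))
    (Subgroup.mem_top (tr φ ((a - 1)⁻¹ • v)))
  rw [commutatorElement_def, conj_tr, dact_eq_self (by simp [dl_apply, hv]), tr_inv (by simp [hv]),
    tr_mul_right (by simp [dl_apply, hv]) (by simp [hv])] at this
  rw [show tr φ v = tr φ (dl ψ _ e1 ((a - 1)⁻¹ • v) + -((a - 1)⁻¹ • v)) from congr_arg _ ?_]
  · exact this
  have := sub_ne_zero.2 ha1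
  simp only [dl_apply, map_smul, h4]
  match_scalars
  field_simp
  ring


/-- GL_n(F)' = SL_n(F) (as the kernel of det), for every field F and every n, except n = 2 over the field of two elements. -/
theorem result {F : Type*} [Field F] (n : ℕ) (h : n = 2 → ∃ a : F, a ≠ 0 ∧ a ≠ 1) : commutator (Matrix.GeneralLinearGroup (Fin n) F) = (Matrix.GeneralLinearGroup.det : Matrix.GeneralLinearGroup (Fin n) F →* Fˣ).ker := by
  apply le_antisymm
  · rw [commutator_def, Subgroup.commutator_le]
    intro a _ b _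
    rw [MonoidHom.mem_ker, map_commutatorElement, commutatorElement_eq_one_iff_mul_comm, mul_comm]
  · intro g hg
    have h1 : CfsgH5.glEquiv _ F g ∈ CfsgH5.slSub F _ := by
      rw [CfsgH5.mem_slSub, CfsgH5.det_glEquiv]; exact Units.ext_iff.1 hg
    have h2 := Subgroup.mem_map_of_mem (CfsgH5.glEquiv (Fin n) F).symm.toMonoidHom
      (aux (by simpa using h) h1)
    rw [commutator_def, Subgroup.map_commutator] at h2
    simpa [commutator_def] using Subgroup.commutator_mono le_top le_top h2

end Cfsg.Agent.S0264
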