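import Cfsg.Statements.S0266
import Cfsg.Agent.H1.PL1

set_option autoImplicit false
open scoped MatrixGroups
open Cfsg

namespace Cfsg.Agent.S0266

/-- PGL_2(F) is sharply 3-transitive on the projective line: it is 3-transitive and the stabiliser of three distinct points is trivial. -/
theorem result {F : Type*} [Field F] : MulAction.IsMultiplyPretransitive (Matrix.ProjGenLinGroup (Fin 2) F) (Projectivization F (Fin 2 → F)) 3 ∧ ∀ (g : Matrix.ProjGenLinGroup (Fin 2) F) (a b c : Projectivization F (Fin 2 → F)), a ≠ b → a ≠ c → b ≠ c → g • a = a → g • b = b → g • c = c → g = 1 := by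
  open CfsgH1.L2 CfsgH8 in
  have sm : ∀ (g : G2 F) (a : Projectivization F (Fin 2 → F)), Matrix.ProjGenLinGroup.mk g • a = g • a := fun g a => by
    induction a using Projectivization.ind with | _ v hv => rfl
  refine ⟨mt_iff.2 fun x y => ?_, fun g a b c h1 h2 h3 ha hb hc => ?_⟩
  · obtain ⟨g, g0, g1, g2⟩ := frame (x.injective.ne (show (0 : Fin 3) ≠ 1 by decide))
      (x.injective.ne (show (0 : Fin 3) ≠ 2 by decide)) (x.injective.ne (by decide))
    obtain ⟨k, k0, k1, k2⟩ := frame (y.injective.ne (show (0 : Fin 3) ≠ 1 by decide))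
      (y.injective.ne (show (0 : Fin 3) ≠ 2 by decide)) (y.injective.ne (by decide))
    refine ⟨.mk (k * g⁻¹), fun i => ?_⟩
    rw [sm, mul_smul]
    fin_cases i
    · exact (congrArg _ (inv_smul_eq_iff.2 g0.symm)).trans k0
    · exact (congrArg _ (inv_smul_eq_iff.2 g1.symm)).trans k1
    · exact (congrArg _ (inv_smul_eq_iff.2 g2.symm)).trans k2
  · obtain ⟨g, rfl⟩ := Matrix.ProjGenLinGroup.mk_surjective g
    obtain ⟨k, rfl, rfl, rfl⟩ := frame h1 h2 h3
    rw [sm] at ha hb hc
    have := Matrix.ProjGenLinGroup.mk_eq_one.2 (mem_centerG.2 (fix3 (g := k⁻¹ * g * k)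
      (by rw [mul_smul, mul_smul, ha, inv_smul_smul]) (by rw [mul_smul, mul_smul, hb, inv_smul_smul])
      (by rw [mul_smul, mul_smul, hc, inv_smul_smul])))
    rw [map_mul, map_mul, map_inv, mul_assoc, inv_mul_eq_one] at this
    exact mul_eq_right.1 this.symm

end Cfsg.Agent.S0266
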