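import Cfsg.Statements.S0267
import Cfsg.Agent.H1.PL1

set_option autoImplicit false
open Cfsg

namespace Cfsg.Agent.S0267

/-- SL_2(q) is 3-transitive on the q+1 points of the projective line if and only if q is even. -/
theorem result {F : Type*} [Field F] [Fintype F] : MulAction.IsMultiplyPretransitive (Matrix.SpecialLinearGroup (Fin 2) F) (Projectivization F (Fin 2 → F)) 3 ↔ ringChar F = 2 := by
  open CfsgH1.L2 CfsgH8 Projectivization in
  have sm : ∀ (g : S2 F) (v : Fin 2 → F) (i : Fin 2), (g • v) i = g.val i 0 * v 0 + g.val i 1 * v 1 :=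
    fun g => gsmul (Matrix.SpecialLinearGroup.toGL g)
  refine ⟨fun h => ?_, fun h => mt_iff.2 fun x y => ?_⟩
  · by_contra h2
    obtain ⟨d, hd⟩ := FiniteField.exists_nonsquare h2
    have d0 : d ≠ 0 := by rintro rfl; exact hd IsSquare.zero
    obtain ⟨s, s0, s1, s2⟩ := mt_three h (a := p0 F) (b := p1 F) (c := p2 F) (a' := p0 F) (b' := p1 F)
      (c' := mk F ![d, 1] (by simp)) (by simp [p0, p1, pmk_eq]) (by simp [p0, p2, pmk_eq]) (by simp [p1, p2, pmk_eq])
      (by simp [p0, p1, pmk_eq]) (by simp [p0, pmk_eq]) (by simp [p1, pmk_eq, d0])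
    simp only [p0, p1, p2, smul_mk, pmk_eq, sm] at s0 s1 s2
    simp at s0 s1 s2
    have := s.2
    rw [Matrix.det_fin_two, s0, s1] at this
    rw [s0, s1] at s2
    exact hd ⟨s.val 0 0, by linear_combination (-d) * this - s.val 0 0 * s2⟩
  · obtain ⟨g, g0, g1, g2⟩ := frame (x.injective.ne (show (0 : Fin 3) ≠ 1 by decide))
      (x.injective.ne (show (0 : Fin 3) ≠ 2 by decide)) (x.injective.ne (by decide))
    obtain ⟨k, k0, k1, k2⟩ := frame (y.injective.ne (show (0 : Fin 3) ≠ 1 by decide))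
      (y.injective.ne (show (0 : Fin 3) ≠ 2 by decide)) (y.injective.ne (by decide))
    obtain ⟨c, hc⟩ := FiniteField.isSquare_of_char_two h ((k * g⁻¹).val.det)⁻¹
    have d0 := (k * g⁻¹).det_ne_zero
    have c0 : c ≠ 0 := by rintro rfl; exact d0 (inv_eq_zero.1 (hc.trans (mul_zero _)))
    let s : S2 F := ⟨c • (k * g⁻¹).val, by
        rw [Matrix.det_smul, Fintype.card_fin, pow_two, ← hc, inv_mul_cancel₀ d0]⟩
    have key : ∀ a : Projectivization F (Fin 2 → F), s • a = k • g⁻¹ • a := fun a => by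
      rw [← mul_smul]
      induction a using Projectivization.ind with | _ v hv =>
      rw [smul_mk, smul_mk, pmk_eq, sm, sm, gsmul, gsmul]
      simp only [s, Matrix.smul_apply, smul_eq_mul]; ring
    refine ⟨s, fun i => (key _).trans ?_⟩
    fin_cases i
    · exact (congrArg _ (inv_smul_eq_iff.2 g0.symm)).trans k0
    · exact (congrArg _ (inv_smul_eq_iff.2 g1.symm)).trans k1
    · exact (congrArg _ (inv_smul_eq_iff.2 g2.symm)).trans k2

end Cfsg.Agent.S0267
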