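import Cfsg.Statements.S0268
import Cfsg.Agent.H5.LinMat

set_option autoImplicit false
open Cfsg

namespace Cfsg.Agent.S0268

/-- For q odd, -1 is the unique involution of SL_2(q). -/
theorem result {F : Type*} [Field F] [Fintype F] (hF : Odd (Fintype.card F)) (g : Matrix.SpecialLinearGroup (Fin 2) F) (h1 : g ≠ 1) (h2 : g * g = 1) : (g : Matrix (Fin 2) (Fin 2) F) = -1 := by
  have h3 : g.1 * g.1 = 1 := congr_arg Subtype.val h2
  have h4 := g.2
  have h0 := CfsgH5.two_ne_zero_of_odd hF
  obtain ⟨g, hg⟩ := g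
  dsimp only at h3 h4 ⊢
  rw [Matrix.det_fin_two] at h4
  have e := fun i j => congr_fun (congr_fun h3 i) j
  have e00 := e 0 0
  have e01 := e 0 1
  have e10 := e 1 0
  have e11 := e 1 1
  simp [Matrix.mul_apply, Fin.sum_univ_two] at e00 e01 e10 e11 h4
  have ht : g 0 0 + g 1 1 ≠ 0 := fun h => h0 (by linear_combination g 0 0 * h - e00 - h4)
  have hb : g 0 1 = 0 := by
    apply mul_left_cancel₀ ht; linear_combination e01
  have hc : g 1 0 = 0 := by
    apply mul_left_cancel₀ ht; linear_combination e10
  have ha : (g 0 0 - 1) * (g 0 0 + 1) = 0 := by rw [hb] at e00; linear_combination e00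
  rw [hb] at h4
  rcases mul_eq_zero.1 ha with h | h
  · refine absurd (Subtype.ext ?_) h1
    have h5 : g 0 0 = 1 := by linear_combination h
    have h6 : g 1 1 = 1 := by rw [h5] at h4; linear_combination h4
    ext i j; fin_cases i <;> fin_cases j <;> simp [hb, hc, h5, h6]
  · have h5 : g 0 0 = -1 := by linear_combination h
    have h6 : g 1 1 = -1 := by rw [h5] at h4; linear_combination -h4
    ext i j; fin_cases i <;> fin_cases j <;> simp [hb, hc, h5, h6]

end Cfsg.Agent.S0268
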