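import Cfsg.Statements.S0274
import Cfsg.Agent.H9.Dickson2

set_option autoImplicit false
open Cfsg

namespace Cfsg.Agent.S0274

/-- Dickson's Theorem for SL_2: if p is odd and H is a subgroup of SL_2(q), q a power of p, with more than one Sylow p-subgroup, then H contains a copy of SL_2(p). -/
theorem result {F : Type*} [Field F] [Fintype F] (p : ℕ) [Fact p.Prime] [CharP F p] (hp : p ≠ 2) (H : Subgroup (Matrix.SpecialLinearGroup (Fin 2) F)) (hH : 1 < Nat.card (Sylow p H)) : ∃ K : Subgroup (Matrix.SpecialLinearGroup (Fin 2) F), K ≤ H ∧ Nonempty (K ≃* Matrix.SpecialLinearGroup (Fin 2) (ZMod p)) := by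
  open CfsgH9 Matrix in
  by_cases hc : ∀ u ∈ H, ∀ w ∈ H, tr u = 2 → tr w = 2 → u * w = w * u
  · exfalso
    have key : ∀ P Q : Sylow p H, (P : Subgroup H) ≤ Q := by
      intro P Q
      have ht : ∀ R : Sylow p H, ∀ x ∈ (R : Subgroup H), tr x.1 = 2 := fun R x hx => by
        obtain ⟨k, hk⟩ := R.isPGroup' ⟨x, hx⟩
        exact tr_of_pow p (k := k) (congrArg (fun a => a.1.1) hk)
      have h1 : IsPGroup p ↥((Q : Subgroup H) ⊔ P) := by
        refine IsPGroup.to_sup_of_normal_left' Q.isPGroup' P.isPGroup' fun x hx => ?_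
        refine Subgroup.centralizer_le_normalizer _ fun y hy => ?_
        exact Subtype.ext (hc _ y.2 _ x.2 (ht Q y hy) (ht P x hx))
      have := Q.is_maximal' h1 le_sup_left
      exact le_sup_right.trans this.le
    have : Subsingleton (Sylow p H) := ⟨fun P Q => Sylow.ext (le_antisymm (key P Q) (key Q P))⟩
    have := Finite.card_le_one_iff_subsingleton.2 this
    omega
  · push_neg at hc
    obtain ⟨u, hu, w, hw, tu, tw, hc⟩ := hc
    obtain ⟨c, h⟩ := dickson_pair p hp H hu hw tu tw hc
    refine ⟨((conjSL c).comp (slp p F)).range, ?_, ⟨(MonoidHom.ofInjective ?_).symm⟩⟩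
    · rintro _ ⟨M, rfl⟩; exact h M
    · exact (conjSL_injective c).comp (slp_injective p)

end Cfsg.Agent.S0274
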