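import Cfsg.Statements.S0275
import Cfsg.Agent.H1.PSL2e
import Cfsg.Agent.H1.GAut
import Cfsg.Agent.H1.Basic

set_option autoImplicit false
open Cfsg

namespace Cfsg.Agent.S0275

/-- If p is odd and H is a subgroup of SL_2(q), q a power of p, with more than one Sylow p-subgroup, then the Sylow 2-subgroups of H are generalised quaternion. -/
theorem result {F : Type*} [Field F] [Fintype F] (p : ℕ) [Fact p.Prime] [CharP F p] (hp : p ≠ 2) (H : Subgroup (Matrix.SpecialLinearGroup (Fin 2) F)) (hH : 1 < Nat.card (Sylow p H)) (S : Sylow 2 H) : ∃ k : ℕ, 1 ≤ k ∧ Nonempty ((S : Subgroup H) ≃* QuaternionGroup (2 ^ k)) := by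
  open Subgroup CfsgH1 CfsgH1.L2 CfsgH2 in
  classical
  have h2 := two_ne (Nat.odd_iff.2 (Nat.two_dvd_ne_zero.1 (not_dvd_q (F := F) hp.symm)))
  have hS := IsSylowIn.of_sylow_map S
  rcases cyclic_or_quat' hS.pgroup (uniqInv_S h2 _) with k | ⟨r, ⟨e⟩⟩
  swap; · exact ⟨r + 1, by omega, ⟨(S.1.equivMapOfInjective _ H.subtype_injective).trans e⟩⟩
  exfalso
  obtain ⟨T, N, hN, c⟩ := hasNPC_of_cyclic_two hS k
  have o : ¬ 2 ∣ Nat.card N := c.index_eq_card ▸ T.not_dvd_index
  obtain ⟨P, Q, n⟩ := (Finite.one_lt_card_iff_nontrivial.1 hH).exists_pair_ne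
  have d : p ∣ Nat.card H := by_contra fun k => n (Sylow.ext (by
    rw [(IsSylowIn.of_sylow_top P).eq_bot_iff.2 (by rwa [card_top]), (IsSylowIn.of_sylow_top Q).eq_bot_iff.2 (by rwa [card_top])]))
  have nb : N ≠ ⊥ := by
    rintro rfl
    obtain ⟨l, e⟩ := T.2.exists_card_eq
    rw [← c.card_mul_card, card_bot, one_mul, e] at d
    exact hp ((Nat.prime_dvd_prime_iff_eq Fact.out Nat.prime_two).1 ((Fact.out : p.Prime).dvd_of_dvd_pow d))
  obtain ⟨M, r, hr, hM, h1, h3, -, h4, -⟩ := exists_minNormal_elementary N (CfsgPF.feit_thompson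
    (Nat.odd_iff.2 (Nat.two_dvd_ne_zero.1 o))) nb
  haveI := Fact.mk hr
  have nb' : M.map H.subtype ≠ ⊥ := by rwa [Ne, map_eq_bot_iff_of_injective _ H.subtype_injective]
  by_cases e : r = p
  · subst e
    obtain ⟨⟨x, hx⟩, h5⟩ := ne_bot_iff_exists_ne_one.1 h1
    obtain ⟨P', h6⟩ := (P.2.map H.subtype).exists_le_sylow
    obtain ⟨Q', h7⟩ := (Q.2.map H.subtype).exists_le_sylow
    obtain rfl := sylow_ti r (h6 ⟨x, h4.le_sylow_of_normal P hx, rfl⟩) (h7 ⟨x, h4.le_sylow_of_normal Q hx, rfl⟩)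
      fun k => h5 (Subtype.ext (Subtype.ext k))
    exact n (Sylow.ext ((P.is_maximal' (P'.2.comap_subtype) (map_le_iff_le_comap.1 h6)).symm.trans
      (Q.is_maximal' (P'.2.comap_subtype) (map_le_iff_le_comap.1 h7))))
  · obtain ⟨w, h5, h6, h7⟩ := exists_ss_le (fun k => o ((dvd_of_eq k.symm).trans ((h4.card_eq_or_dvd.resolve_left
      (mt card_eq_one.1 h1)).trans (card_dvd_of_le h3)))) (not_dvd_q e) (h4.map H.subtype) nb'
    have := d.trans (card_dvd_of_le (h6.norm_eq h5 h7 ▸ (H.range_subtype ▸ (normalizer_eq_top M ▸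
      MonoidHom.range_eq_map H.subtype).le.trans (le_normalizer_map _) : H ≤ _)))
    rw [h6.card_norm, (Fact.out : p.Prime).dvd_mul] at this
    rcases this with k | k
    · exact hp ((Nat.prime_dvd_prime_iff_eq Fact.out Nat.prime_two).1 k)
    · rcases h6.card_cases with e | e <;> rw [e] at k
      exacts [not_dvd_q_sub p k, not_dvd_q_add p k]

end Cfsg.Agent.S0275
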