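import Cfsg.Statements.S0301
import Cfsg.Agent.H5.Iso2

set_option autoImplicit false
open Cfsg

namespace Cfsg.Agent.S0301

open CfsgH5

/-- PΩ_5(q) is isomorphic to PSp_4(q) for q odd. -/
theorem result {F : Type*} [Field F] [Fintype F] (hodd : Odd (Fintype.card F)) : Nonempty (Cfsg.POmega F (Cfsg.quadFormOdd 2 F) ≃* Cfsg.PSp 2 F) := by
  obtain ⟨e⟩ := exists_omega_five (F := F) (two_ne_zero_of_odd hodd)
  exact ⟨(pomEquiv (oddForm_Q 2)).trans e⟩

end Cfsg.Agent.S0301
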