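import Cfsg.Statements.S0304
import Cfsg.Agent.H5.Iso1

set_option autoImplicit false
open Cfsg

namespace Cfsg.Agent.S0304

open CfsgH5

/-- In characteristic 2, O_{2m+1}(q) is isomorphic to Sp_{2m}(q). -/
theorem result {F : Type*} [Field F] [Fintype F] [CharP F 2] (m : ℕ) : Nonempty (Cfsg.isometryGroup F (Cfsg.quadFormOdd m F) ≃* Matrix.symplecticGroup (Fin m) F) := by
  have h2 : (2 : F) = 0 := CharP.cast_eq_zero F 2
  let S := oddForm m F
  let j := inrMap F Unit (Fin m ⊕ Fin m)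
  let π : (Unit ⊕ (Fin m ⊕ Fin m) → F) →ₗ[F] (Fin m ⊕ Fin m → F) := LinearMap.funLeft F F .inr
  let z : Unit ⊕ (Fin m ⊕ Fin m) → F := Pi.single (.inl ()) 1
  have hB : ∀ x y, S.B x y = (spForm m F).B (π x) (π y) := fun x y => by
    simp [S, π, oddForm_B, spForm_B, sympForm_eq, h2, CharTwo.sub_eq_add, add_comm]
  have hπ : ∀ v, π (j v) = v := fun _ => rfl
  have hx : ∀ x, x = j (π x) + x (.inl ()) • z := fun x => by ext (_ | i) <;> simp [j, π, z, inrMap_apply]
  have hz : π z = 0 := by ext; simp [π, z]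
  have hQ : ∀ x (c : F), S.Q (x + c • z) = S.Q x + c ^ 2 := fun x c => by
    rw [Form.Q_add_smul, hB, hz]; simp [S, z, oddForm_Q, quadFormOdd]
  have hg : ∀ g ∈ S.isom, π (g z) = 0 := fun g hg => spForm_nondeg m _ fun y => by
    rw [← hπ y, ← hB, ← g.apply_symm_apply (j y), Form.isom_B hg, hB, hz, Form.zero_right]
  have hg' : ∀ g ∈ S.isom, ∀ x, π (g (j (π x))) = π (g x) := fun g h x => by
    conv_rhs => rw [hx x, map_add, map_smul, map_add, map_smul, hg g h, smul_zero, add_zero]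
  obtain ⟨φ, hφ⟩ := exists_hom_of (G := S.isom) (fun g => π ∘ₗ g.1.toLinearMap ∘ₗ j) hπ
    fun g h v => (hg' g g.2 _).symm
  have h3 : φ.range = (spForm m F).isom := le_antisymm (by
    rintro _ ⟨g, rfl⟩
    refine (spParam_isMax.mem_isom _).2 fun x y => ?_
    rw [hφ, hφ]
    exact (hB _ _).symm.trans ((Form.isom_B g.2 _ _).trans (hB _ _))) ((spForm_nondeg m).sp_isom_le fun v c => by
      obtain ⟨a, ha⟩ := exists_sq_of_two_eq_zero h2 (-c⁻¹ - S.Q (j v))
      exact ⟨⟨_, S.rf_mem (j v + a • z)⟩, LinearEquiv.ext fun x => by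
        simp [hφ, Form.rf_apply, Form.tv_apply, hQ, ha, hB, hπ, hz]⟩)
  have h4 : Function.Injective φ := (injective_iff_map_eq_one φ).2 fun g h => Subtype.ext (LinearEquiv.ext fun x => by
    have h5 : π (g.1 x) = π x := by rw [← hg' g g.2]; exact (hφ g _).symm.trans (by rw [h]; rfl)
    have h6 : g.1 x = x + (g.1 x (.inl ()) - x (.inl ())) • z := by
      conv_lhs => rw [hx (g.1 x), h5]
      conv_rhs => enter [1]; rw [hx x]
      module
    have h7 := Form.isom_Q g.2 x
    rw [h6, hQ, add_eq_left, sq_eq_zero_iff] at h7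
    rw [h6, h7, zero_smul, add_zero]; rfl)
  exact ⟨(oEquiv (oddForm_Q m)).trans ((φ.ofInjective h4).trans
    ((MulEquiv.subgroupCongr h3).trans (spEquiv m F).symm))⟩

end Cfsg.Agent.S0304
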