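import Cfsg.Statements.S0307
import Cfsg.Agent.H5.UnitMat

set_option autoImplicit false
open Cfsg

namespace Cfsg.Agent.S0307

/-- PSL_n(q) is normal in PGL_n(q) with cyclic quotient of order gcd(n, q-1): the image of the natural map PSL_n → PGL_n is the kernel of a surjective homomorphism onto the cyclic group of that order. -/
theorem result {F : Type*} [Field F] [Fintype F] {q : ℕ} (hF : Fintype.card F = q) (n : ℕ) (hn : 1 ≤ n) : ∃ g : Matrix.ProjGenLinGroup (Fin n) F →* Multiplicative (ZMod (Nat.gcd n (q - 1))), Function.Surjective g ∧ g.ker = (Matrix.ProjectiveSpecialLinearGroup.toPGL : Matrix.ProjectiveSpecialLinearGroup (Fin n) F →* Matrix.ProjGenLinGroup (Fin n) F).range := by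
  have : Nonempty (Fin n) := ⟨⟨0, hn⟩⟩
  obtain ⟨ψ, h1, h2⟩ := CfsgH5.cyc_exists_hom_zmod (C := Fˣ) n
  rw [← hF, ← CfsgH5.card_units_field]
  refine ⟨Matrix.ProjGenLinGroup.lift (ψ.comp Matrix.GeneralLinearGroup.det) (by
    ext u : 1
    simpa using (h2 _).2 ⟨u, rfl⟩), fun x => ?_, ?_⟩
  · obtain ⟨g, rfl⟩ := (h1.comp (Matrix.GeneralLinearGroup.det_surjective (n := Fin n))) x
    exact ⟨Matrix.ProjGenLinGroup.mk g, rfl⟩
  · ext g
    obtain ⟨g, rfl⟩ := Matrix.ProjGenLinGroup.mk_surjective g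
    rw [MonoidHom.mem_ker, Matrix.ProjGenLinGroup.lift_mk, MonoidHom.comp_apply, h2]
    constructor
    · rintro ⟨y, hy⟩
      obtain ⟨s, hs⟩ : g * (Matrix.GeneralLinearGroup.scalar (Fin n) y)⁻¹ ∈
          (Matrix.SpecialLinearGroup.toGL : Matrix.SpecialLinearGroup (Fin n) F →* _).range := by
        rw [CfsgH5.range_toGL]; simp [← hy]
      exact ⟨s, by simp [hs]⟩
    · rintro ⟨s, hs⟩
      obtain ⟨s, rfl⟩ := QuotientGroup.mk_surjective s
      rw [Matrix.ProjectiveSpecialLinearGroup.toPGL_mk, Matrix.ProjGenLinGroup.mk_eq_mk_iff] at hs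
      obtain ⟨u, rfl⟩ := hs
      exact ⟨u, by simp⟩

end Cfsg.Agent.S0307
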