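import Cfsg.Statements.S0321
import Cfsg.Agent.H6.BN2

set_option autoImplicit false
open Cfsg

namespace Cfsg.Agent.S0321

/-- For `n ∈ N` not in `B`, the union `B ∪ B n B` is (the underlying set of) a subgroup exactly when `n` agrees
modulo `B ⊓ N` with one of the distinguished representatives; thus the distinguished involutions are
determined by `B` and `N`. -/
theorem result {G : Type*} [Group G] (P : Cfsg.BNPair G) {n : G}
    (hn : n ∈ P.N) (hnB : n ∉ P.B) :
    (∃ H : Subgroup G, (H : Set G) = (P.B : Set G) ∪ DoubleCoset.doubleCoset n (P.B : Set G) P.B) ↔ ∃ s ∈ P.S, s⁻¹ * n ∈ P.B := by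
  constructor
  · rintro ⟨H, hH⟩
    have hB : P.B ≤ H := fun x hx => by
      rw [← SetLike.mem_coe, hH]; exact Or.inl hx
    have hnH : n ∈ H := by
      rw [← SetLike.mem_coe, hH]; exact Or.inr (DoubleCoset.mem_doubleCoset_self _ _ _)
    have hpar := CfsgH6.BN.eq_parabolic P hB
    by_cases h0 : (P.S ∩ (H : Set G)).Nonempty
    · obtain ⟨s, hs, hsH⟩ := h0
      refine ⟨s, hs, ?_⟩
      rw [hH] at hsH
      rcases hsH with h | h
      · exact absurd h (CfsgH6.BN.not_mem_B P hs)
      · rw [CfsgH6.BN.mem_dc_iff] at h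
        exact (CfsgH6.BN.dc_iff P (P.subset hs) hn).1 h.symm
    · rw [Set.not_nonempty_iff_eq_empty] at h0
      rw [h0] at hpar
      rw [hpar] at hnH
      simp [BNPair.parabolic, hnB] at hnH
  · rintro ⟨s, hs, h⟩
    refine ⟨P.parabolic {s}, ?_⟩
    ext g
    rw [SetLike.mem_coe, CfsgH6.BN.parabolic_singleton_iff P hs, Set.mem_union, CfsgH6.BN.mem_dc_iff]
    have := CfsgH6.BN.DC.of_inv_mul h
    exact or_congr Iff.rfl ⟨fun h => this.symm.trans h, fun h => this.trans h⟩

end Cfsg.Agent.S0321
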