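import Cfsg.Statements.S0322
import Cfsg.Agent.H6.BN2

set_option autoImplicit false
open Cfsg

namespace Cfsg.Agent.S0322

/-- A group with a (B,N)-pair of rank one acts doubly transitively on the left cosets of `B`. -/
theorem result {G : Type*} [Group G] (P : Cfsg.BNPair G) (h : P.rank = 1) : MulAction.IsMultiplyPretransitive G (G ⧸ P.B) 2 := by
  obtain ⟨s, hs⟩ : ∃ s, P.S = {s} := by
    have := Nat.card_eq_one_iff_exists.1 h
    obtain ⟨⟨s, hs⟩, hu⟩ := this
    exact ⟨s, Set.eq_singleton_iff_unique_mem.2 ⟨hs, fun x hx => congrArg Subtype.val (hu ⟨x, hx⟩)⟩⟩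
  have hsS : s ∈ P.S := by rw [hs]; rfl
  have key : ∀ g : G, g ∈ P.B ∨ CfsgH6.BN.DC P s g := fun g => by
    rw [← CfsgH6.BN.parabolic_singleton_iff P hsS, ← hs, CfsgH6.BN.parabolic_S]; trivial
  have base : ∀ a b : G, ((a : G ⧸ P.B) ≠ b) → ∃ g : G, g • ((1 : G) : G ⧸ P.B) = a ∧ g • (s : G ⧸ P.B) = b := by
    intro a b hab
    rcases key (a⁻¹ * b) with h1 | ⟨x, hx, y, hy, he⟩
    · exact absurd (QuotientGroup.eq.2 h1) hab
    · refine ⟨a * x, ?_, ?_⟩
      · rw [MulAction.Quotient.smul_mk, QuotientGroup.eq]; simpa using hx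
      · rw [MulAction.Quotient.smul_mk, QuotientGroup.eq]
        have : (a * x * s)⁻¹ * b = y := by
          rw [show b = a * (x * s * y) by rw [← he]; group]; group
        rw [smul_eq_mul, this]; exact hy
  rw [MulAction.is_two_pretransitive_iff]
  intro a b c d hab hcd
  obtain ⟨a, rfl⟩ := QuotientGroup.mk_surjective a
  obtain ⟨b, rfl⟩ := QuotientGroup.mk_surjective b
  obtain ⟨c, rfl⟩ := QuotientGroup.mk_surjective c
  obtain ⟨d, rfl⟩ := QuotientGroup.mk_surjective d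
  obtain ⟨g, h1, h2⟩ := base a b hab
  obtain ⟨g', h1', h2'⟩ := base c d hcd
  exact ⟨g' * g⁻¹, by rw [← h1, ← h1', smul_smul]; simp, by rw [← h2, ← h2', smul_smul]; simp⟩

end Cfsg.Agent.S0322
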