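import Cfsg.Statements.S0323
import Cfsg.Agent.H6.BN2

set_option autoImplicit false
open scoped Pointwise
open Cfsg

namespace Cfsg.Agent.S0323

/-- A doubly transitive action on a set with at least three points yields a (B,N)-pair of rank one:
`B` is the stabiliser of a point `x`, `N` the setwise stabiliser of a pair `{x, y}`. -/
theorem result {G Ω : Type*} [Group G] [MulAction G Ω]
    (h2 : MulAction.IsMultiplyPretransitive G Ω 2) {x y z : Ω} (hxy : x ≠ y) (hyz : y ≠ z) (hxz : x ≠ z) :
    ∃ P : Cfsg.BNPair G, P.B = MulAction.stabilizer G x ∧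
      P.N = MulAction.stabilizer G ({x, y} : Set Ω) ∧ P.rank = 1 := by
  rw [MulAction.is_two_pretransitive_iff] at h2
  obtain ⟨s, hsx, hsy⟩ := h2 hxy hxy.symm
  have hN : ∀ n : G, n ∈ MulAction.stabilizer G ({x, y} : Set Ω) ↔
      (n • x = x ∧ n • y = y) ∨ (n • x = y ∧ n • y = x) := by
    intro n
    rw [MulAction.mem_stabilizer_iff, Set.smul_set_insert, Set.smul_set_singleton,
      Set.pair_eq_pair_iff]
  have hB : ∀ b : G, b ∈ MulAction.stabilizer G x ↔ b • x = x := fun b => MulAction.mem_stabilizer_iff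
  have hsN : s ∈ MulAction.stabilizer G ({x, y} : Set Ω) := (hN s).2 (Or.inr ⟨hsx, hsy⟩)
  have dc : ∀ g n : G, g • x ≠ x → n • x ≠ x → g ∈ DoubleCoset.doubleCoset n
      (MulAction.stabilizer G x : Set G) (MulAction.stabilizer G x) := by
    intro g n hg hn
    obtain ⟨b, hb1, hb2⟩ := h2 hn.symm hg.symm
    refine DoubleCoset.mem_doubleCoset.2 ⟨b, (hB b).2 hb1, (b * n)⁻¹ * g, (hB _).2 ?_, by group⟩
    rw [mul_smul, ← hb2, ← mul_smul b, inv_smul_smul]
  have dc1 : ∀ g n : G, g • x = x → n • x = x → g ∈ DoubleCoset.doubleCoset n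
      (MulAction.stabilizer G x : Set G) (MulAction.stabilizer G x) := by
    intro g n hg hn
    refine DoubleCoset.mem_doubleCoset.2 ⟨1, one_mem _, n⁻¹ * g, (hB _).2 ?_, by group⟩
    rw [mul_smul, hg, inv_smul_eq_iff, hn]
  refine ⟨{ B := MulAction.stabilizer G x
            N := MulAction.stabilizer G ({x, y} : Set Ω)
            S := {s}
            sup_eq_top := ?_
            conj_mem := ?_
            subset := Set.singleton_subset_iff.2 hsN
            sq_mem := ?_
            inj := ?_
            closure_sup := ?_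
            mul_mem_union := ?_
            conj_ne := ?_ }, rfl, rfl, by simp [BNPair.rank]⟩
  · rw [eq_top_iff]
    intro g _
    by_cases hg : g • x = x
    · exact Subgroup.mem_sup_left ((hB g).2 hg)
    · obtain ⟨a, ha, b, hb, rfl⟩ := DoubleCoset.mem_doubleCoset.1 (dc g s hg (by rw [hsx]; exact hxy.symm))
      exact mul_mem (mul_mem (Subgroup.mem_sup_left ha) (Subgroup.mem_sup_right hsN)) (Subgroup.mem_sup_left hb)
  · rintro n hn t ⟨ht1, ht2⟩
    have ht1' := (hB t).1 ht1
    have hty : t • y = y := by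
      rcases (hN t).1 ht2 with h | h
      · exact h.2
      · exact absurd (ht1'.symm.trans h.1) hxy
    rw [hB, mul_smul, mul_smul]
    rcases (hN _).1 (inv_mem hn) with h | h
    · rw [h.1, ht1', ← h.1, smul_inv_smul, h.1]
    · rw [h.1, hty, ← h.1, smul_inv_smul]
  · rintro _ rfl
    rw [hB, mul_smul, hsx, hsy]
  · rintro _ rfl _ rfl _; rfl
  · apply le_antisymm
    · exact sup_le ((Subgroup.closure_le _).2 (Set.singleton_subset_iff.2 hsN)) inf_le_right
    · intro n hn
      rcases (hN n).1 hn with h | h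
      · exact Subgroup.mem_sup_right ⟨(hB n).2 h.1, hn⟩
      · have : n = s * (s⁻¹ * n) := by group
        rw [this]
        refine mul_mem (Subgroup.mem_sup_left (Subgroup.subset_closure rfl))
          (Subgroup.mem_sup_right ⟨(hB _).2 ?_, Subgroup.mul_mem _ (Subgroup.inv_mem _ hsN) hn⟩)
        rw [mul_smul, h.1, inv_smul_eq_iff, hsx]
  · intro s' hs' n hn b hb
    obtain rfl : s = s' := hs'.symm
    have hb' := (hB b).1 hb
    rcases (hN n).1 hn with h | h
    · left
      apply dc
      · rw [mul_smul, mul_smul, h.1, hb', hsx]; exact hxy.symm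
      · rw [mul_smul, h.1, hsx]; exact hxy.symm
    · by_cases h3 : (s * b * n) • x = x
      · left
        apply dc1 _ _ h3
        rw [mul_smul, h.1, hsy]
      · right
        apply dc _ _ h3
        rw [h.1]; exact hxy.symm
  · intro s' hs' h
    obtain rfl : s = s' := hs'.symm
    obtain ⟨b, hb1, hb2⟩ := h2 hxy hxz
    have : s * b * s ∈ (MulAction.stabilizer G x : Set G) := by
      rw [← h]; exact ⟨b, (hB b).2 hb1, rfl⟩
    have h3 := (hB _).1 this
    rw [mul_smul, mul_smul, hsx, hb2, ← hsy, smul_left_cancel_iff] at h3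
    exact hyz h3.symm

end Cfsg.Agent.S0323
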