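import Cfsg.Statements.S0326
import Cfsg.Agent.H7.Sz4

set_option autoImplicit false
open Cfsg

namespace Cfsg.Agent.S0326

open CfsgH7 MulAction
open scoped Pointwise symmDiff
set_option maxRecDepth 100000


/-- The Suzuki–Tits ovoid over a finite field with `q` elements has `q² + 1` points. -/
theorem result {F : Type*} [Field F] [Fintype F] (m : ℕ) :
    Nat.card (Cfsg.suzukiOvoid F m) = Fintype.card F ^ 2 + 1 := by
  classical
  have n0 : (![1, 0, 0, 0] : Fin 4 → F) ≠ 0 := by simp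
  have n1 : ∀ x y : F, (![x * y + x ^ (2 ^ (m + 1) + 2) + y ^ (2 ^ (m + 1)), y, x, 1] : Fin 4 → F) ≠ 0 :=
    fun x y h => by simpa using congrFun h 3
  rw [sq, ← Fintype.card_prod, ← Fintype.card_option, ← Nat.card_eq_fintype_card]
  refine (Nat.card_congr (Equiv.ofBijective (fun o : Option (F × F) =>
    (o.elim ⟨_, _, n0, rfl, Or.inl rfl⟩ (fun p => ⟨_, _, n1 p.1 p.2, rfl, Or.inr ⟨_, _, rfl⟩⟩) :
      Cfsg.suzukiOvoid F m)) ⟨?_, ?_⟩)).symm
  · rintro (_ | p) (_ | p') h
    · rfl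
    · obtain ⟨c, hc⟩ := (Projectivization.mk_eq_mk_iff' _ _ _ _ _).1 (congrArg Subtype.val h).symm
      simpa using congrFun hc 3
    · obtain ⟨c, hc⟩ := (Projectivization.mk_eq_mk_iff' _ _ _ _ _).1 (congrArg Subtype.val h)
      simpa using congrFun hc 3
    · obtain ⟨c, hc⟩ := (Projectivization.mk_eq_mk_iff' _ _ _ _ _).1 (congrArg Subtype.val h)
      have h3 := congrFun hc 3
      have h2 := congrFun hc 2
      have h1 := congrFun hc 1
      simp at h1 h2 h3
      subst h3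
      rw [Prod.ext (show p.1 = p'.1 by simpa using h2.symm) (show p.2 = p'.2 by simpa using h1.symm)]
  · rintro ⟨_, v, hv, rfl, rfl | ⟨x, y, rfl⟩⟩
    · exact ⟨none, rfl⟩
    · exact ⟨some (x, y), rfl⟩

end Cfsg.Agent.S0326
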