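import Cfsg.Statements.S0327
import Cfsg.Agent.H7.Sz4

set_option autoImplicit false
open Cfsg

namespace Cfsg.Agent.S0327

open CfsgH7 MulAction
open scoped Pointwise symmDiff
set_option maxRecDepth 100000


/-- The Suzuki group (`m ≥ 1`) is a Zassenhaus group on the `q² + 1` points of the Suzuki–Tits ovoid. -/
theorem result {F : Type*} [Field F] [Fintype F] {m : ℕ} (hm : 1 ≤ m)
    (hF : Fintype.card F = 2 ^ (2 * m + 1)) :
    Cfsg.IsZassenhausGroup (Cfsg.Sz F m) (Cfsg.suzukiOvoid F m) := by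
  haveI := SzM.charP hF
  obtain ⟨S, -⟩ := SzM.sz_model hm hF
  haveI := S.simple
  refine ⟨⟨fun {a b} h => ?_⟩, S.two_trans, fun g a b c => S.fix3, ?_, fun N hN _ => ⟨S.inf, ?_⟩⟩
  · rw [← inv_mul_eq_one]
    exact S.faith _ fun p => by rw [mul_smul, ← h, inv_smul_smul]
  · obtain ⟨c, c0, c1⟩ := S.T.big
    exact ⟨S.h (Units.mk0 c c0), fun h => c1 (congrArg Units.val (S.h_eq_one.1 h)), S.inf, S.pt 0 0,
      (S.pt_ne 0 0).symm, S.h_inf _, S.h_zero _⟩
  · rcases hN.eq_bot_or_eq_top with rfl | rfl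
    · obtain ⟨⟨g, hg⟩, e⟩ := exists_smul_eq (⊥ : Subgroup (Cfsg.Sz F m)) S.inf (S.pt 0 0)
      obtain rfl := Subgroup.mem_bot.1 hg
      exact absurd ((one_smul _ _).symm.trans e).symm (S.pt_ne 0 0)
    · intro h
      have : (⟨S.u 0 1, Subgroup.mem_top _⟩ : (⊤ : Subgroup (Cfsg.Sz F m))) ∈
          stabilizer (⊤ : Subgroup (Cfsg.Sz F m)) S.inf := S.u_inf 0 1
      rw [h, Subgroup.mem_bot] at this
      exact S.z_ne one_ne_zero (congrArg Subtype.val this)

end Cfsg.Agent.S0327
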