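import Cfsg.Statements.S0328
import Cfsg.Agent.H7.Sz4

set_option autoImplicit false
open Cfsg

namespace Cfsg.Agent.S0328

open CfsgH7 MulAction
open scoped Pointwise symmDiff
set_option maxRecDepth 100000


/-- The stabiliser in the Suzuki group of the two ovoid points spanned by `(1,0,0,0)` and `(0,0,0,1)` is
isomorphic to the multiplicative group of the field (cyclic of order `q - 1`). -/
theorem result {F : Type*} [Field F] [Fintype F] {m : ℕ} (hm : 1 ≤ m)
    (hF : Fintype.card F = 2 ^ (2 * m + 1)) :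
    Nonempty (↥(MulAction.stabilizer (Cfsg.Sz F m) (Cfsg.suzukiPointInfinity F) ⊓
        MulAction.stabilizer (Cfsg.Sz F m) (Cfsg.suzukiPointZero F)) ≃* Fˣ) := by
  haveI := SzM.charP hF
  obtain ⟨S, h1, h2, -⟩ := SzM.sz_model hm hF
  have e2 : Cfsg.suzukiPointZero F = SzM.pP (SzM.th F m) 0 0 := by
    simp [Cfsg.suzukiPointZero, SzM.pP, SzM.pv, szf]
  have : MulAction.stabilizer (Cfsg.Sz F m) (Cfsg.suzukiPointInfinity F) ⊓
      MulAction.stabilizer (Cfsg.Sz F m) (Cfsg.suzukiPointZero F) = S.H := by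
    rw [S.H_eq, e2, ← h2, show Cfsg.suzukiPointInfinity F = SzM.pI F from rfl, ← h1]
    ext g
    simp only [Subgroup.mem_inf, mem_stabilizer_iff, Subtype.ext_iff]
    rfl
  rw [this]
  exact ⟨S.hE.symm⟩

end Cfsg.Agent.S0328
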