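import Cfsg.Statements.S0329
import Cfsg.Agent.H7.Sz4

set_option autoImplicit false
open Cfsg

namespace Cfsg.Agent.S0329

open CfsgH7 MulAction
open scoped Pointwise symmDiff
set_option maxRecDepth 100000


/-- The stabiliser in the Suzuki group of the ovoid point spanned by `(1,0,0,0)` has order `q² (q - 1)`. -/
theorem result {F : Type*} [Field F] [Fintype F] {m : ℕ} (hm : 1 ≤ m)
    (hF : Fintype.card F = 2 ^ (2 * m + 1)) :
    Nat.card (MulAction.stabilizer (Cfsg.Sz F m) (Cfsg.suzukiPointInfinity F)) =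
      (2 ^ (2 * m + 1)) ^ 2 * (2 ^ (2 * m + 1) - 1) := by
  haveI := SzM.charP hF
  obtain ⟨S, h1, -⟩ := SzM.sz_model hm hF
  have : MulAction.stabilizer (Cfsg.Sz F m) (Cfsg.suzukiPointInfinity F) =
      MulAction.stabilizer (Cfsg.Sz F m) S.inf := by
    rw [show Cfsg.suzukiPointInfinity F = SzM.pI F from rfl, ← h1]
    ext g
    simp only [mem_stabilizer_iff, Subtype.ext_iff]
    rfl
  rw [this, S.card_B, Nat.card_eq_fintype_card, hF]

end Cfsg.Agent.S0329
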