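import Cfsg.Statements.S0331
import Cfsg.Agent.H7.Sz9

set_option autoImplicit false
open Cfsg

namespace Cfsg.Agent.S0331

open CfsgH7 MulAction
open scoped Pointwise symmDiff
set_option maxRecDepth 100000


/-- For every odd prime `p` the Sylow `p`-subgroups of the Suzuki group are cyclic. -/
theorem result {F : Type*} [Field F] [Fintype F] {m : ℕ} (hm : 1 ≤ m)
    (hF : Fintype.card F = 2 ^ (2 * m + 1)) {p : ℕ} [Fact p.Prime] (hp : p ≠ 2)
    (P : Sylow p (Cfsg.Sz F m)) : IsCyclic P := by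
  haveI := SzM.charP hF
  obtain ⟨S, -⟩ := SzM.sz_model hm hF
  change IsCyclic (P : Subgroup (Cfsg.Sz F m))
  by_cases h : (P : Subgroup (Cfsg.Sz F m)) = ⊥
  · rw [h]; infer_instance
  · obtain ⟨⟨x, hx⟩, h1⟩ := Subgroup.ne_bot_iff_exists_ne_one.1 h
    have x1 : x ≠ 1 := fun e => h1 (Subtype.ext e)
    obtain ⟨n, hn⟩ := IsPGroup.iff_orderOf.1 P.isPGroup' ⟨x, hx⟩
    have o : Odd (orderOf x) := by
      rw [← Subgroup.orderOf_mk x hx, hn]; exact ((Fact.out : p.Prime).odd_of_ne_two hp).pow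
    have od := S.od_cent x1 o
    haveI := od.cyc
    haveI := P.isPGroup'.isNilpotent
    exact Subgroup.isCyclic_of_le (od.nilp_le (self_cent x) hx x1)

end Cfsg.Agent.S0331
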