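import Cfsg.Statements.S0332
import Cfsg.Agent.H7.Sz9

set_option autoImplicit false
open Cfsg

namespace Cfsg.Agent.S0332

open CfsgH7 MulAction
open scoped Pointwise symmDiff
set_option maxRecDepth 100000


/-- The Suzuki group is a CN-group: every non-identity element has nilpotent centraliser. -/
theorem result {F : Type*} [Field F] [Fintype F] {m : ℕ} (hm : 1 ≤ m)
    (hF : Fintype.card F = 2 ^ (2 * m + 1)) : Cfsg.IsCNGroup (Cfsg.Sz F m) := by
  haveI := SzM.charP hF
  obtain ⟨S, -⟩ := SzM.sz_model hm hF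
  intro g h1
  rcases Nat.even_or_odd (orderOf g) with h | h
  · obtain ⟨S', hQ⟩ := S.even_elt h
    exact (S'.Q_pgroup.to_le fun y hy =>
      S'.cent_le_Q hQ h1 (Subgroup.mem_centralizer_singleton_iff.1 hy)).isNilpotent
  · haveI := (S.od_cent h1 h).cyc
    letI := IsCyclic.commGroup (α := Subgroup.centralizer ({g} : Set (Cfsg.Sz F m)))
    infer_instance

end Cfsg.Agent.S0332
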