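import Cfsg.Statements.S0335
import Cfsg.Agent.H7.Sz4

set_option autoImplicit false
open Cfsg

namespace Cfsg.Agent.S0335

open CfsgH7 MulAction
open scoped Pointwise symmDiff
set_option maxRecDepth 100000


/-- The Suzuki–Tits point set is an ovoid: any three distinct points of it are projectively independent
(no line of projective 3-space meets it in more than two points). -/
theorem result {F : Type*} [Field F] [Fintype F] {m : ℕ} (hm : 1 ≤ m)
    (hF : Fintype.card F = 2 ^ (2 * m + 1)) (p : Fin 3 ↪ Cfsg.suzukiOvoid F m) :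
    Projectivization.Independent (fun i => (p i : Projectivization F (Fin 4 → F))) := by
  haveI := SzM.charP hF
  obtain ⟨S, h1, h2, -⟩ := SzM.sz_model hm hF
  obtain ⟨g, g0, g1⟩ := S.to_pair (p.injective.ne (show (0 : Fin 3) ≠ 1 by decide))
  obtain ⟨x, y, e⟩ := (S.cover (g⁻¹ • p 2)).resolve_left (fun h => by
    rw [inv_smul_eq_iff, g0] at h; exact absurd (p.injective h) (by decide))
  have hf : szf (SzM.th F m) x y ≠ 0 := fun h => by
    obtain ⟨rfl, rfl⟩ := S.T.f_eq_zero h
    rw [inv_smul_eq_iff, g1] at e; exact absurd (p.injective e) (by decide)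
  rw [inv_smul_eq_iff] at e
  let v : Fin 3 → Fin 4 → F := ![SzM.e0, SzM.pv (SzM.th F m) 0 0, SzM.pv (SzM.th F m) x y]
  have hv : LinearIndependent F v := by
    rw [Fintype.linearIndependent_iff]
    intro c hc
    have c0 := congrFun hc 0
    have c1 := congrFun hc 1
    have c2 := congrFun hc 2
    have c3 := congrFun hc 3
    simp [v, Fin.sum_univ_three, SzM.e0, SzM.pv] at c0 c1 c2 c3
    have : c 2 = 0 := by
      by_contra h
      simp [h] at c1 c2
      simp [c1, c2, szf] at hf
    intro i
    fin_cases i
    · simpa [this, szf] using c0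
    · simpa [this] using c3
    · exact this
  have hv' : LinearIndependent F fun i => (g : SzM.SL4 F) • v i :=
    hv.map' (Matrix.SpecialLinearGroup.toLin' (g : SzM.SL4 F)).toLinearMap (LinearEquiv.ker _)
  have := Projectivization.Independent.mk _ hv'.ne_zero hv'
  convert this using 2 with i
  fin_cases i
  · change ((p 0 : Cfsg.suzukiOvoid F m) : Projectivization F (Fin 4 → F)) = _
    rw [← g0]; change (g : SzM.SL4 F) • (S.inf : Projectivization F (Fin 4 → F)) = _
    rw [h1]; rfl
  · change ((p 1 : Cfsg.suzukiOvoid F m) : Projectivization F (Fin 4 → F)) = _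
    rw [← g1]; change (g : SzM.SL4 F) • (S.pt 0 0 : Projectivization F (Fin 4 → F)) = _
    rw [h2]; rfl
  · change ((p 2 : Cfsg.suzukiOvoid F m) : Projectivization F (Fin 4 → F)) = _
    rw [e]; change (g : SzM.SL4 F) • (S.pt x y : Projectivization F (Fin 4 → F)) = _
    rw [h2]; rfl

end Cfsg.Agent.S0335
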