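import Cfsg.Statements.S0740
import Mathlib
import Cfsg.Agent.H8.Perm2

set_option autoImplicit false
open Cfsg

namespace Cfsg.Agent.S0740

/-- In a finite Zassenhaus group any two points `a ≠ b` are swapped by an involution; every such involution has exactly one fixed point when the degree is odd and 0 or 2 fixed points when the degree is even; and if the two-point stabiliser has even order, some such involution has exactly 2 fixed points. -/
theorem result {G Ω : Type*} [Group G] [Finite G] [MulAction G Ω] [Fintype Ω] (hZ : Cfsg.IsZassenhausGroup G Ω) {a b : Ω} (hab : a ≠ b) : (∃ s : G, orderOf s = 2 ∧ s • a = b ∧ s • b = a) ∧ (∀ s : G, orderOf s = 2 → s • a = b → s • b = a → (Odd (Fintype.card Ω) → Nat.card (MulAction.fixedBy Ω s) = 1) ∧ (Even (Fintype.card Ω) → Nat.card (MulAction.fixedBy Ω s) = 0 ∨ Nat.card (MulAction.fixedBy Ω s) = 2)) ∧ (Even (Fintype.card Ω) → Even (Nat.card ↥(MulAction.stabilizer G a ⊓ MulAction.stabilizer G b)) → ∃ s : G, orderOf s = 2 ∧ s •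 a = b ∧ s • b = a ∧ Nat.card (MulAction.fixedBy Ω s) = 2) := by
  classical
  obtain ⟨hf, h2, h3, -, -⟩ := hZ
  haveI := Fact.mk Nat.prime_two
  have hconj : ∀ t : G, orderOf t = 2 → ∃ s : G, orderOf s = 2 ∧ s • a = b ∧ s • b = a ∧
      Nat.card (MulAction.fixedBy Ω s) = Nat.card (MulAction.fixedBy Ω t) := fun t ht => by
    obtain ⟨x, hx⟩ := CfsgH8.exists_moved (α := Ω) (g := t) (by rintro rfl; simp at ht)
    have htt : t • t • x = x := by rw [← mul_smul, ← sq, ← ht, pow_orderOf_eq_one, one_smul]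
    obtain ⟨g, rfl, rfl⟩ := CfsgH8.mt_two h2 hx.symm hab
    refine ⟨g * t * g⁻¹, by rw [← ht]; exact (MulAut.conj g).orderOf_eq t, by simp [mul_smul],
      by simp [mul_smul, htt], ?_⟩
    rw [← MulAction.smul_fixedBy, Nat.card_coe_set_eq, Nat.card_coe_set_eq, Set.ncard_smul_set]
  have hle : ∀ s : G, s ≠ 1 → Nat.card (MulAction.fixedBy Ω s) ≤ 2 := fun s hs => by
    by_contra h
    rw [not_le, Nat.card_coe_set_eq, Set.two_lt_ncard_iff] at h
    obtain ⟨x, y, z, hx, hy, hz, h4, h5, h6⟩ := h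
    exact hs (h3 s x y z h4 h6 h5 hx hy hz)
  have hpar : ∀ s : G, orderOf s = 2 → Fintype.card Ω ≡ Nat.card (MulAction.fixedBy Ω s) [MOD 2] :=
    fun s hs => by
    have := CfsgH8.card_modEq_fixed Nat.prime_two (P := Subgroup.zpowers s)
      (IsPGroup.of_card (n := 1) (by rw [Nat.card_zpowers, hs]; rfl)) (Set.univ : Set Ω) (by simp)
    rw [Nat.card_univ, Nat.card_eq_fintype_card] at this
    convert this using 3
    ext x
    simp only [MulAction.mem_fixedBy, Set.mem_univ, true_and]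
    exact ⟨fun h g hg => Subgroup.zpowers_le.2 (show s ∈ MulAction.stabilizer G x from h) hg,
      fun h => h s (Subgroup.mem_zpowers s)⟩
  refine ⟨?_, fun s hs _ _ => ?_, fun _ he => ?_⟩
  · obtain ⟨t, h1, h4⟩ := CfsgH8.mt_two h2 hab hab.symm
    have : 2 ∣ Nat.card G := by
      refine dvd_trans ?_ (orderOf_dvd_natCard t)
      by_contra h
      obtain ⟨m, hm⟩ := Nat.not_even_iff_odd.1 fun h' => h (even_iff_two_dvd.1 h')
      have h5 : (t ^ 2) ^ m • a = a := pow_mem (show t ^ 2 ∈ MulAction.stabilizer G a by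
        rw [MulAction.mem_stabilizer_iff, sq, mul_smul, h1, h4]) m
      have := congrArg (· • a) (pow_orderOf_eq_one t)
      simp only [hm, pow_succ', pow_mul, mul_smul, h5, h1, one_smul] at this
      exact hab this.symm
    obtain ⟨u, hu⟩ := exists_prime_orderOf_dvd_card' 2 this
    obtain ⟨s, h1, h2, h3, -⟩ := hconj u hu
    exact ⟨s, h1, h2, h3⟩
  · have h1 := hle s (by rintro rfl; simp at hs)
    have h4 := hpar s hs
    unfold Nat.ModEq at h4
    exact ⟨fun ⟨m, hm⟩ => by omega, fun ⟨m, hm⟩ => by omega⟩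
  · obtain ⟨u, hu⟩ := exists_prime_orderOf_dvd_card' 2 (even_iff_two_dvd.1 he)
    rw [← Subgroup.orderOf_coe] at hu
    obtain ⟨s, h1, h4, h5, h6⟩ := hconj u hu
    refine ⟨s, h1, h4, h5, h6.trans (le_antisymm (hle _ (by intro h; simp [h] at hu)) ?_)⟩
    rw [Nat.card_coe_set_eq, ← Set.ncard_pair hab]
    exact Set.ncard_le_ncard (Set.pair_subset u.2.1 u.2.2)

end Cfsg.Agent.S0740
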