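import Cfsg.Statements.S0338
import Mathlib
import Cfsg.Agent.H8.Zass2
import Cfsg.Agent.S0740

set_option autoImplicit false
open Cfsg

namespace Cfsg.Agent.S0338

/-- A Zassenhaus group of odd degree is a simple group. -/
theorem result {G Ω : Type*} [Group G] [MulAction G Ω] [Fintype Ω]
    (hZ : Cfsg.IsZassenhausGroup G Ω) (hodd : Odd (Fintype.card Ω)) : IsSimpleGroup G := by
  have Z := CfsgH8.Z3.of_zass hZ
  obtain ⟨g, hg, a, b, hab, -⟩ := hZ.2.2.2.1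
  haveI := hZ.1
  haveI : Finite G := Finite.of_injective _ (MulAction.toPerm_injective (α := G) (β := Ω))
  haveI : Nontrivial G := ⟨⟨g, 1, hg⟩⟩
  refine ⟨fun N hN => or_iff_not_imp_left.2 fun h0 => ?_⟩
  obtain ⟨hZ', hF⟩ := CfsgH8.zass_normal hZ N h0
  obtain ⟨⟨s, hs, h1, h2⟩, h3, -⟩ := Cfsg.Agent.S0740.result hZ' hab
  obtain ⟨x, hx⟩ := Set.ncard_eq_one.1 ((h3 s hs h1 h2).1 hodd)
  have hinv := Z.inverts_of_unique hab (s := s) ⟨h1, h2⟩ (x := x) (hx.ge rfl) fun y hy => hx.le hy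
  obtain ⟨F, K, -⟩ := Z.exists_KD a
  have ho : Odd (Nat.card (CfsgH8.St2 G a b)) := by
    refine Odd.of_dvd_nat ?_ (K.dvd Z hab.symm)
    have := K.card hab.symm
    have := K.two_le Z
    rw [← Nat.card_eq_fintype_card] at hodd
    obtain ⟨m, hm⟩ := hodd
    exact ⟨m - 1, by omega⟩
  have hH : CfsgH8.St2 G a b ≤ N := fun h hh => by
    have h4 : h ^ 2 ∈ N := by
      have := N.mul_mem (hN.conj_mem _ s.2 h) (N.inv_mem s.2)
      rwa [show h * s * h⁻¹ * (s : G)⁻¹ = h * (s * h⁻¹ * (s : G)⁻¹) by group, hinv _ (inv_mem hh), inv_inv,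
        ← sq] at this
    obtain ⟨m, hm⟩ := ho
    have := pow_card_eq_one' (x := (⟨h, hh⟩ : CfsgH8.St2 G a b))
    rw [hm, pow_succ, pow_mul, mul_eq_one_iff_eq_inv] at this
    have h5 := N.pow_mem h4 m
    rw [show (h ^ 2) ^ m = h⁻¹ from congrArg Subtype.val this] at h5
    exact N.inv_mem_iff.1 h5
  refine eq_top_iff.2 fun u _ => ?_
  obtain ⟨n, hn⟩ := (CfsgH8.Z3.of_zass hZ').trans1 a (u • a)
  obtain ⟨v, hv, h, hh, e⟩ := K.decomp hab.symm (g := (n : G)⁻¹ * u) (by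
    rw [mul_smul, inv_smul_eq_iff]; exact hn.symm)
  rw [inv_mul_eq_iff_eq_mul] at e
  exact e ▸ N.mul_mem n.2 (N.mul_mem (hF a F K hv) (hH hh))

end Cfsg.Agent.S0338
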