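import Cfsg.Statements.S0340
import Cfsg.Agent.H3.Suz7

set_option autoImplicit false
open Cfsg

namespace Cfsg.Agent.S0340

open Subgroup CfsgSuz CfsgH8

/-- Classification of Zassenhaus groups, simple case, order-level form: a finite simple Zassenhaus group is
isomorphic to `PSL₂(F)` for some finite field `F` or is simple of Suzuki order. -/
theorem result {G Ω : Type*} [Group G] [Finite G] [MulAction G Ω]
    [Finite Ω] (hZ : Cfsg.IsZassenhausGroup G Ω) [IsSimpleGroup G] :
    (∃ (F : Type) (_ : Field F) (_ : Fintype F), Nonempty (G ≃* Matrix.ProjectiveSpecialLinearGroup (Fin 2) F)) ∨ Cfsg.IsSuzuki G := by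
  have Z := Z3.of_zass hZ
  obtain ⟨-, -, -, ⟨g, -, a, b, hab, -⟩, -⟩ := id hZ
  obtain ⟨F, K, -⟩ := Z.exists_KD a
  rcases zass_le_or hZ hab.symm K with h | h
  swap
  · exact Or.inr (zass_two_suzuki hZ K h.2.1 h.2.2.1)
  left
  have hc := (K.ea Z hab.symm h).1
  have h1 := K.card hab.symm
  obtain ⟨p, f, k, _, _, hp, -, hr, hk, hk'⟩ := Z.exists_field hab (by omega)
  refine ⟨k, inferInstance, inferInstance, ?_⟩
  rcases zass_ab_card hZ hab.symm K hc with h2 | h2
  swap
  · exact zass_ab_psl hZ hab.symm K hc h2 k hk'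
  rcases Nat.even_or_odd (Nat.card Ω) with he | ho
  · obtain ⟨N, hN⟩ := Z.exists_index_two hab ((Z.three_iff hab).2 h2.le) he
    rcases IsSimpleGroup.eq_bot_or_eq_top_of_normal N (normal_of_index_eq_two hN) with e | e
    · rw [e, index_bot, K.card_G Z hab.symm] at hN
      have := K.two_le Z
      have : 0 < Nat.card (St2 G a b) := Nat.card_pos
      nlinarith [Nat.mul_pos (show 0 < Nat.card F by omega) this]
    · simp [e] at hN
  · obtain ⟨s, hs⟩ := Z.exists_swp hab
    have ho' : Odd (Nat.card (St2 G a b)) := by rw [h2] at ho; exact (Nat.odd_add.1 ho).2 even_two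
    refine Z.psl_of_two hab hs ((Z.inverts_of_noNPC hab ho' (Z.noNPC_of_simple hab)).2 s hs) h2.le k hk' ?_
    have : Even (p ^ f) := by
      rw [← hk, ← Nat.card_eq_fintype_card]
      rw [← hk'] at ho
      exact (Nat.odd_add_one.1 ho |> Nat.not_odd_iff_even.1)
    rw [hr]
    exact (hp.even_iff.1 (Nat.even_pow.1 this).1)

end Cfsg.Agent.S0340
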