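import Cfsg.Statements.S0341
import Cfsg.Agent.H3.Pm4
import Cfsg.Agent.H1.Wielandt
import Cfsg.Agent.H1.Frob
import Cfsg.Agent.H2.Dih

set_option autoImplicit false
open Cfsg

namespace Cfsg.Agent.S0341

open CfsgPm MulAction Subgroup CfsgH8 CfsgH1 SubMulAction

/-- If a finite group acts faithfully and doubly transitively, no non-identity element fixes three points, some
non-identity element fixes two points, and some normal subgroup acts regularly, then the number of points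
is `2^p` with `p` prime. -/
theorem result {G Ω : Type*} [Group G]
    [MulAction G Ω] [Fintype Ω] [FaithfulSMul G Ω] (h2 : MulAction.IsMultiplyPretransitive G Ω 2)
    (h3 : ∀ g : G, ∀ a b c : Ω, a ≠ b → b ≠ c → a ≠ c → g • a = a → g • b = b → g • c = c → g = 1)
    (hfix : ∃ g : G, g ≠ 1 ∧ ∃ a b : Ω, a ≠ b ∧ g • a = a ∧ g • b = b)
    (N : Subgroup G) [N.Normal] (hNt : MulAction.IsPretransitive N Ω)
    (hNr : ∀ a : Ω, MulAction.stabilizer N a = ⊥) :
    ∃ p : ℕ, p.Prime ∧ Fintype.card Ω = 2 ^ p := by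
  obtain ⟨g, hg, a, b, hab, ha, hb⟩ := hfix
  have : Finite G := Finite.of_injective _ (toPerm_injective (α := G) (β := Ω))
  have : Nontrivial Ω := ⟨a, b, hab⟩
  have hN : N.Normal := inferInstance
  obtain ⟨p, j, hp, -, hc, hcom, hexp⟩ := ea_of_regular_normal h2 N hNr
  have cN : Nat.card N = Nat.card Ω := card_eq_of_regular (hNr a)
  obtain ⟨r, hr, hd⟩ := Nat.exists_prime_and_dvd (mt orderOf_eq_one_iff.1 hg)
  have ho := orderOf_pow_orderOf_div (orderOf_pos g).ne' hd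
  have hta : g ^ (orderOf g / r) ∈ stabilizer G a ⊓ stabilizer G b := pow_mem (mem_inf.2 ⟨ha, hb⟩) _
  generalize g ^ (orderOf g / r) = t at ho hta
  have t1 : t ≠ 1 := fun e => hr.ne_one (by rw [← ho, e, orderOf_one])
  have two : ∀ x : G, x ≠ 1 → ∀ a b c : Ω, a ≠ b → x • a = a → x • b = b → x • c = c → c = a ∨ c = b := fun x hx a b c h ha hb hc =>
    by_contra fun e => hx (h3 x a b c h (fun e' => e (Or.inr e'.symm)) (fun e' => e (Or.inl e'.symm)) ha hb hc)
  obtain ⟨⟨n, hn⟩, rfl⟩ := hNt.1 a b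
  have cen : ∀ y ∈ N, t * y = y * t ↔ y = 1 ∨ y = n := fun y hy => ⟨fun h => (two t t1 _ _ _ hab hta.1 hta.2
    ((fix_regular (hNr a) hy hta.1).2 h)).imp (fun e => eq_of_regular (hNr a) hy N.one_mem (e.trans (one_smul _ _).symm))
      (eq_of_regular (hNr a) hy hn), by
    rintro (rfl | rfl)
    exacts [by simp, (fix_regular (hNr a) hy hta.1).1 hta.2]⟩
  have n1 : n ≠ 1 := by rintro rfl; exact hab (one_smul G a).symm
  have n2 : n * n = 1 := ((cen _ (mul_mem hn hn)).1 (by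
    rw [← mul_assoc, (cen n hn).2 (Or.inr rfl), mul_assoc, (cen n hn).2 (Or.inr rfl), mul_assoc])).resolve_right (by simpa using n1)
  obtain rfl : 2 = p := (Nat.prime_dvd_prime_iff_eq Nat.prime_two hp).1
    (CfsgH2.orderOf_two_of n2 n1 ▸ orderOf_dvd_of_pow_eq_one (hexp n hn))
  have hC : Nat.card (N ⊓ centralizer (zpowers t : Set G) : Subgroup G) = 2 := by
    rw [← CfsgH2.orderOf_two_of n2 n1, ← Nat.card_zpowers]
    congr 3
    refine le_antisymm (fun y hy => (CfsgH2.mem_zpowers_of_mul_self n2).2 ((cen y hy.1).1 (hy.2 t (mem_zpowers t))))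
      (zpowers_le.2 ⟨hn, ?_⟩)
    rintro _ ⟨k, rfl⟩
    exact Commute.zpow_left ((cen n hn).2 (Or.inr rfl)) k
  obtain ⟨c, hc'⟩ := exists_moved (α := Ω) t1
  have hca : c ≠ a := by rintro rfl; exact hc' hta.1
  have hcb : c ≠ (⟨n, hn⟩ : N) • a := by rintro rfl; exact hc' hta.2
  rw [← Nat.card_eq_fintype_card]
  rcases eq_or_ne r 2 with rfl | hr2
  · refine ⟨2, hr, ?_⟩
    have t2 := CfsgH2.mul_self_of_orderOf_two ho
    have ti := CfsgH2.inv_eq_of_mul_self t2
    let f : N →* G := MonoidHom.mk' (fun x => x * (t * x * t⁻¹)) fun x y => by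
      have := hcom _ y.2 _ (hN.conj_mem _ x.2 t)
      calc (x * y : G) * (t * (x * y) * t⁻¹) = x * (y * (t * x * t⁻¹)) * (t * y * t⁻¹) := by group
        _ = _ := by rw [this]; group
    have e := f.ker.card_mul_index
    rw [index_ker, cN, hc] at e
    have e1 : Nat.card f.ker ≤ 2 := by
      rw [← hC, ← card_map_of_injective N.subtype_injective]
      refine card_le_of_le ?_
      rintro _ ⟨x, hx, rfl⟩
      refine ⟨x.2, ?_⟩
      rintro _ ⟨k, rfl⟩
      refine Commute.zpow_left (mul_inv_eq_iff_eq_mul.1 ?_) k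
      exact (eq_inv_of_mul_eq_one_right hx).trans (CfsgH2.inv_eq_of_mul_self (by rw [← sq]; exact hexp _ x.2))
    have e2 : Nat.card f.range ≤ 2 := by
      rw [← hC]
      refine card_le_of_le ?_
      rintro _ ⟨x, rfl⟩
      refine ⟨mul_mem x.2 (hN.conj_mem _ x.2 t), ?_⟩
      rintro _ ⟨k, rfl⟩
      refine Commute.zpow_left ?_ k
      change t * (x * (t * x * t⁻¹)) = x * (t * x * t⁻¹) * t
      conv_rhs => rw [hcom _ x.2 _ (hN.conj_mem _ x.2 t)]
      simp [ti, mul_assoc]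
    have e3 : 2 < Nat.card Ω := by
      rw [Nat.card_eq_fintype_card]; exact Fintype.two_lt_card_iff.2 ⟨_, _, _, hab, hca.symm, hcb.symm⟩
    have e4 := Nat.mul_le_mul e1 e2
    rw [e] at e4
    rw [hc] at e3 ⊢
    have := (Nat.pow_lt_pow_iff_right (n := 1) one_lt_two).1 e3
    have := (Nat.pow_le_pow_iff_right (m := 2) one_lt_two).1 e4
    congr 1; omega
  have : Nontrivial (ofStabilizer G a) := ⟨⟨c, hca⟩, ⟨_, hab.symm⟩, fun e => hcb (congrArg Subtype.val e)⟩
  have : IsPretransitive (stabilizer G a) (ofStabilizer G a) := ⟨fun x y => by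
    obtain ⟨k, h1, h2⟩ := mt_two h2 (Ne.symm x.2) (Ne.symm y.2)
    exact ⟨⟨k, h1⟩, Subtype.ext h2⟩⟩
  obtain ⟨K, hK, hKt⟩ := exists_frob_kernel (G := stabilizer G a) (X := ofStabilizer G a) fun k x y h hx hy =>
    Subtype.ext (h3 k a x y (Ne.symm x.2) (fun e => h (Subtype.ext e)) (Ne.symm y.2) k.2 (congrArg Subtype.val hx) (congrArg Subtype.val hy))
  have mK : ∀ k, k ∈ K.map (stabilizer G a).subtype ↔ k • a = a ∧ (k = 1 ∨ ∀ x, x ≠ a → k • x ≠ x) := fun k => ⟨by
    rintro ⟨k, hk, rfl⟩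
    exact ⟨k.2, ((hK k).1 hk).imp (congrArg Subtype.val) fun h x hx e => h ⟨x, hx⟩ (Subtype.ext e)⟩, fun h =>
      ⟨⟨k, h.1⟩, (hK _).2 (h.2.imp Subtype.ext fun h x e => h x x.2 (congrArg Subtype.val e)), rfl⟩⟩
  have K0 : ∃ k ∈ K.map (stabilizer G a).subtype, k ≠ 1 := by
    obtain ⟨k, e⟩ := hKt.1 ⟨c, hca⟩ ⟨_, hab.symm⟩
    refine ⟨k.1, ⟨_, k.2, rfl⟩, fun h => hcb ((one_smul G c).symm.trans (h ▸ congrArg Subtype.val e))⟩
  generalize K.map (stabilizer G a).subtype = L at mK K0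
  have fp : ∀ k ∈ L, k ≠ 1 → N ⊓ centralizer {k} = ⊥ := fun k hk h => eq_bot_iff.2 fun y hy => by
    obtain ⟨h1, h2⟩ := (mK k).1 hk
    exact eq_of_regular (hNr a) hy.1 N.one_mem ((by_contra fun e => h2.resolve_left h _ e
      ((fix_regular (hNr a) hy.1 h1).2 (hy.2 k rfl))).trans (one_smul _ _).symm)
  have hRL : zpowers t ≤ normalizer (L : Set G) := zpowers_le.2 (mem_normalizer_of_conj_mem fun k hk => by
    obtain ⟨h1, h2⟩ := (mK k).1 hk
    refine (mK _).2 ⟨mul_mem (mul_mem hta.1 h1) (Subgroup.inv_mem _ hta.1), h2.imp (fun e => by simp [e]) fun h x hx e => ?_⟩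
    exact h (t⁻¹ • x) (fun e => hx (by rw [inv_smul_eq_iff.1 e]; exact hta.1)) (by simpa [mul_smul, eq_inv_smul_iff] using e))
  have fp' : ∀ x ∈ zpowers t, x ≠ 1 → L ⊓ centralizer {x} = ⊥ := fun x hx h => eq_bot_iff.2 fun k hk => by
    obtain ⟨h1, h2⟩ := (mK k).1 hk.1
    have hx := zpowers_le.2 hta hx
    refine h2.resolve_right fun h2 => ?_
    rcases two x h _ _ (k • (⟨n, hn⟩ : N) • a) hab hx.1 hx.2 (by rw [← mul_smul, hk.2 x rfl, mul_smul, hx.2]) with e | e
    exacts [hab (smul_left_cancel k (h1.trans e.symm)), h2 _ hab.symm e]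
  have := nilpotent_of_fpf' hRL (by simpa using t1) fp'
  have : IsMulCommutative N := ⟨⟨fun x y => Subtype.ext (hcom _ x.2 _ y.2)⟩⟩
  refine ⟨r, hr, ?_⟩
  rw [← cN, wielandt_of_cent_eq_bot isSolvable_of_isMulCommutative le_normalizer_of_normal le_normalizer_of_normal hRL inferInstance
    (Nat.Coprime.coprime_dvd_left (card_dvd_card_sub_one le_normalizer_of_normal fp) (by
      rw [Nat.coprime_self_sub_left Nat.card_pos]; simp)) (by
      rw [Nat.card_zpowers, ho, cN, hc]; exact ((Nat.coprime_primes hr hp).2 hr2).pow_right _) fp' (by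
      obtain ⟨k, hk, h⟩ := K0
      exact eq_bot_iff.2 ((inf_le_inf_left N (centralizer_le (Set.singleton_subset_iff.2 hk))).trans (fp k hk h).le)),
    hC, Nat.card_zpowers, ho]

end Cfsg.Agent.S0341
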