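import Cfsg.Statements.S0344
import Mathlib
import Cfsg.Agent.H8.Zass4

set_option autoImplicit false
open Cfsg

namespace Cfsg.Agent.S0344

/-- A finite simple Zassenhaus group with a two-point stabiliser of even order is isomorphic to `PSL₂(F)` for a finite
field `F` with more than three elements. -/
theorem result {G Ω : Type*} [Group G] [Finite G] [MulAction G Ω] [Finite Ω]
    (hZ : Cfsg.IsZassenhausGroup G Ω) [IsSimpleGroup G]
    {a b : Ω} (hab : a ≠ b) (heven : Even (Nat.card ↥(MulAction.stabilizer G a ⊓ MulAction.stabilizer G b))) :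
    ∃ (F : Type) (_ : Field F) (_ : Fintype F), 3 < Fintype.card F ∧ Nonempty (G ≃* Matrix.ProjectiveSpecialLinearGroup (Fin 2) F) := by
  have Z := CfsgH8.Z3.of_zass hZ
  have h1 := Z.card_le_of_even hab heven
  have h2 := Z.card_St2_le hab
  obtain ⟨m, hm⟩ := Z.card_St2_dvd hab
  have h0 : 0 < Nat.card (CfsgH8.St2 G a b) := Nat.card_pos
  obtain ⟨p, f, K, _, _, -, -, -, -, h3⟩ := Z.exists_field hab (by omega)
  obtain ⟨k, hk⟩ := id heven
  have h4 : 2 * Nat.card (CfsgH8.St2 G a b) ≤ Nat.card Ω - 2 := by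
    rcases m with _ | _ | m
    · omega
    · obtain ⟨N, hN⟩ := Z.exists_index_two hab ((Z.three_iff hab).2 (by omega)) ⟨k + 1, by
        unfold CfsgH8.St2 at hm h2; omega⟩
      rcases (Subgroup.normal_of_index_eq_two hN).eq_bot_or_eq_top with rfl | rfl
      · have := Z.index_St2 hab
        have h5 := Nat.le_of_dvd Nat.card_pos (CfsgH8.St2 G a b).index_dvd_card
        rw [Subgroup.index_bot] at hN
        have : 3 * 2 ≤ Nat.card Ω * (Nat.card Ω - 1) := Nat.mul_le_mul (by omega) (by omega)
        omega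
      · simp at hN
    · nlinarith
  refine ⟨K, inferInstance, inferInstance, ?_, Z.psl_of_even hab heven h4 K h3⟩
  rw [← Nat.card_eq_fintype_card]
  unfold CfsgH8.St2 at h4 h0
  omega

end Cfsg.Agent.S0344
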