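import Cfsg.Statements.S0345
import Mathlib
import Cfsg.Agent.H8.Zass4
import Cfsg.Agent.S0740

set_option autoImplicit false
open Cfsg

namespace Cfsg.Agent.S0345

/-- In a finite simple Zassenhaus group the stabiliser `H` of two points `a ≠ b` is cyclic, and some involution
interchanging `a` and `b` inverts every element of `H`. -/
theorem result {G Ω : Type*} [Group G] [Finite G] [MulAction G Ω] [Finite Ω]
    (hZ : Cfsg.IsZassenhausGroup G Ω) [IsSimpleGroup G]
    {a b : Ω} (hab : a ≠ b) :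
    IsCyclic ↥(MulAction.stabilizer G a ⊓ MulAction.stabilizer G b) ∧
      ∃ v : G, orderOf v = 2 ∧ v • a = b ∧ v • b = a ∧ ∀ h ∈ MulAction.stabilizer G a ⊓ MulAction.stabilizer G b, v * h * v⁻¹ = h⁻¹ := by
  have Z := CfsgH8.Z3.of_zass hZ
  haveI := Fintype.ofFinite Ω
  obtain ⟨⟨v, v2, h1, h2⟩, -⟩ := Cfsg.Agent.S0740.result hZ hab
  rcases Nat.even_or_odd (Nat.card (CfsgH8.St2 G a b)) with he | ho
  · have h0 : 0 < Nat.card (CfsgH8.St2 G a b) := Nat.card_pos
    have h3 := Z.card_St2_le hab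
    obtain ⟨m, hm⟩ := Z.card_St2_dvd hab
    obtain ⟨k, hk⟩ := id he
    have h4 : 2 * Nat.card (CfsgH8.St2 G a b) ≤ Nat.card Ω - 2 := by
      rcases m with _ | _ | m
      · omega
      · obtain ⟨N, hN⟩ := Z.exists_index_two hab ((Z.three_iff hab).2 (by omega)) ⟨k + 1, by omega⟩
        rcases (Subgroup.normal_of_index_eq_two hN).eq_bot_or_eq_top with rfl | rfl
        · have := Z.index_St2 hab
          have h5 := Nat.le_of_dvd Nat.card_pos (CfsgH8.St2 G a b).index_dvd_card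
          rw [Subgroup.index_bot] at hN
          have : 3 * 2 ≤ Nat.card Ω * (Nat.card Ω - 1) := Nat.mul_le_mul (by omega) (by omega)
          omega
        · simp at hN
      · nlinarith
    have h5 : ∀ h ∈ CfsgH8.St2 G a b, v * h * v⁻¹ = h⁻¹ := fun h => CfsgH8.Swp.inv_of_sq ⟨h1, h2⟩ fun t ht =>
      let ⟨_, hx⟩ := Z.swp_fix_of_even hab he h4 ht
      Z.sq_of_fix hab ht hx
    refine ⟨?_, v, v2, h1, h2, h5⟩
    obtain ⟨F, K, -⟩ := Z.exists_KD a
    haveI : IsMulCommutative (CfsgH8.St2 G a b) := ⟨⟨fun x y => Subtype.ext (CfsgH1.comm_of_inverts h5 y.2 x x.2)⟩⟩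
    have := K.two_le Z
    exact CfsgH1.isCyclic_of_fpf (K.le_norm b) (Nat.Coprime.coprime_dvd_left (K.dvd Z hab.symm)
      ((Nat.coprime_self_sub_left (by omega)).2 (by simp))) (K.ne_bot Z) (K.fpf' Z hab.symm)
  · obtain ⟨h3, h4⟩ := Z.inverts_of_noNPC hab ho (Z.noNPC_of_simple hab)
    exact ⟨h3, v, v2, h1, h2, h4 v ⟨h1, h2⟩⟩

end Cfsg.Agent.S0345
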