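import Cfsg.Statements.S0346
import Mathlib
import Cfsg.Agent.H8.Zass7

set_option autoImplicit false
open Cfsg

namespace Cfsg.Agent.S0346

/-- The number of points of a finite simple Zassenhaus group is `p^k + 1` for some prime power `p^k` (the regular normal
subgroup of a point stabiliser is a `p`-group). -/
theorem result {G Ω : Type*} [Group G] [Finite G] [MulAction G Ω] [Fintype Ω]
    (hZ : Cfsg.IsZassenhausGroup G Ω) [IsSimpleGroup G] :
    IsPrimePow (Fintype.card Ω - 1) := by
  have Z := CfsgH8.Z3.of_zass hZ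
  obtain ⟨g, -, a, b, hab, -⟩ := hZ.2.2.2.1
  obtain ⟨F, K, -⟩ := Z.exists_KD a
  have := K.card hab.symm
  rw [← Nat.card_eq_fintype_card, ← this]
  exact CfsgH8.zass_pp hZ hab.symm K

end Cfsg.Agent.S0346
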