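import Cfsg.Statements.S0350
import Cfsg.Agent.H7.St1

set_option autoImplicit false
open Cfsg

namespace Cfsg.Agent.S0350

open CfsgH7 MulAction
open scoped Pointwise symmDiff
set_option maxRecDepth 100000


/-- Counting pairs (t-subset, block containing it) in two ways: the number of blocks of a Steiner system with parameters (t, k, v), multiplied by C(k, t), equals C(v, t). -/
theorem result {α : Type*} [Fintype α] [DecidableEq α] {t k : ℕ} {B : Set (Finset α)} (hB : Cfsg.IsSteinerSystem t k B) : B.ncard * Nat.choose k t = Nat.choose (Fintype.card α) t := by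
  have h := nb_lam hB t ∅ (by simp)
  rw [nb_empty, Finset.card_empty, Nat.sub_zero, Nat.sub_zero, Nat.descFactorial_eq_factorial_mul_choose,
    Nat.descFactorial_eq_factorial_mul_choose, mul_left_comm] at h
  exact Nat.eq_of_mul_eq_mul_left (Nat.factorial_pos t) h

end Cfsg.Agent.S0350
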