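import Cfsg.Statements.S0351
import Cfsg.Agent.H7.St1

set_option autoImplicit false
open Cfsg

namespace Cfsg.Agent.S0351

open CfsgH7 MulAction
open scoped Pointwise symmDiff
set_option maxRecDepth 100000


/-- Derived design: removing a point p from the blocks through p of an S(t+1, k+1, v) yields an S(t, k, v-1) on the points other than p. -/
theorem result {α : Type*} [Fintype α] [DecidableEq α] {t k : ℕ} {B : Set (Finset α)} (hB : Cfsg.IsSteinerSystem (t + 1) (k + 1) B) (p : α) : Cfsg.IsSteinerSystem t k {b' : Finset {a : α // a ≠ p} | ∃ b ∈ B, p ∈ b ∧ b' = Finset.subtype (fun a => a ≠ p) b} := by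
  have hc : ∀ b : Finset α, p ∈ b → (Finset.subtype (fun a => a ≠ p) b).card + 1 = b.card := by
    intro b hb
    rw [Finset.card_subtype, Finset.filter_ne', Finset.card_erase_add_one hb]
  refine ⟨?_, fun s hs => ?_⟩
  · rintro _ ⟨b, hb, hp, rfl⟩
    have := hc b hp
    rw [hB.1 b hb] at this
    omega
  · have hps : p ∉ s.map (Function.Embedding.subtype _) := by
      simp only [Finset.mem_map, not_exists, not_and]
      intro x _ h
      exact x.2 h
    have key : ∀ b : Finset α, insert p (s.map (Function.Embedding.subtype _)) ⊆ b ↔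
        p ∈ b ∧ s ⊆ Finset.subtype (fun a => a ≠ p) b := by
      intro b
      rw [Finset.insert_subset_iff, Finset.map_subset_iff_subset_preimage]
      refine and_congr_right fun _ => ?_
      simp [Finset.subset_iff]
    obtain ⟨b, hb, hu⟩ := hB.2 (insert p (s.map (Function.Embedding.subtype _)))
      (by rw [Finset.card_insert_of_notMem hps, Finset.card_map, hs])
    refine ⟨_, ⟨⟨b, hb.1, ((key b).mp hb.2).1, rfl⟩, ((key b).mp hb.2).2⟩, ?_⟩
    rintro _ ⟨⟨c, hc, hp, rfl⟩, h⟩
    rw [hu c ⟨hc, (key c).mpr ⟨hp, h⟩⟩]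

end Cfsg.Agent.S0351
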