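import Cfsg.Statements.S0353
import Cfsg.Agent.H7.St3

set_option autoImplicit false
open Cfsg

namespace Cfsg.Agent.S0353

open CfsgH7 MulAction
open scoped Pointwise symmDiff
set_option maxRecDepth 100000


/-- In an S(5, 8, 24), the symmetric difference of two blocks meeting in four points is a block. -/
theorem result {α : Type*} [Fintype α] [DecidableEq α] (hα : Fintype.card α = 24) {B : Set (Finset α)} (hB : Cfsg.IsSteinerSystem 5 8 B) {b c : Finset α} (hb : b ∈ B) (hc : c ∈ B) (h4 : (b ∩ c).card = 4) : symmDiff b c ∈ B := by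
  obtain ⟨e, h⟩ := model24 hα hB
  have h1 := (h.mem b).mp hb
  have h2 := (h.mem c).mp hc
  rw [h.mem]
  rw [Finset.union_empty] at *
  have e1 : (b ∆ c).map e = b.map e ∆ c.map e := by
    simp only [Finset.map_eq_image]; exact Finset.image_symmDiff _ _ e.injective
  have := card_symmDiff' (b.map e) (c.map e)
  rw [← Finset.map_inter, Finset.card_map (s := b ∩ c), h4, h1.2, h2.2] at this
  rw [e1]
  exact ⟨Cw_symmDiff h1.1 h2.1, by omega⟩

end Cfsg.Agent.S0353
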