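import Cfsg.Statements.S0357
import Cfsg.Agent.H7.St1

set_option autoImplicit false
open Cfsg

namespace Cfsg.Agent.S0357

open CfsgH7 MulAction
open scoped Pointwise symmDiff
set_option maxRecDepth 100000


/-- In a Steiner system S(5, 6, 12), the complement of every block is again a block. -/
theorem result {α : Type*} [Fintype α] [DecidableEq α] (hα : Fintype.card α = 12) {B : Set (Finset α)} (hB : Cfsg.IsSteinerSystem 5 6 B) {b : Finset α} (hb : b ∈ B) : bᶜ ∈ B := by
  have h := blk_card hB (by norm_num) hα hb 0 (n := 1) (by decide +kernel)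
  obtain ⟨c, hc⟩ := Set.ncard_eq_one.mp h
  have h1 : c ∈ {c | c ∈ B ∧ (b ∩ c).card = 0} := hc ▸ rfl
  have h2 : c = bᶜ := by
    refine Finset.eq_of_subset_of_card_le (fun x hx => Finset.mem_compl.mpr fun hx' => ?_) ?_
    · have := Finset.card_pos.mpr ⟨x, Finset.mem_inter.mpr ⟨hx', hx⟩⟩
      have := h1.2
      omega
    · rw [Finset.card_compl, hα, hB.1 b hb, hB.1 c h1.1]
  exact h2 ▸ h1.1

end Cfsg.Agent.S0357
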