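import Cfsg.Statements.S0362
import Cfsg.Agent.H7.M24

set_option autoImplicit false
open Cfsg

namespace Cfsg.Agent.S0362

open CfsgH7 MulAction
set_option maxRecDepth 100000


/-- The length-24 code is self-orthogonal: the dot product over ZMod 2 of any two of its words vanishes (with dimension 12 this makes it self-dual). -/
theorem result (v w : Cfsg.GolayPt → ZMod 2) (hv : v ∈ Cfsg.golayCode) (hw : w ∈ Cfsg.golayCode) : ∑ i, v i * w i = 0 := by
  have h1 := Cw_card (support_mem_Cw.mpr hv)
  have h2 := Cw_card (support_mem_Cw.mpr hw)
  have h3 := Cw_card (Cw_symmDiff (support_mem_Cw.mpr hv) (support_mem_Cw.mpr hw))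
  have h4 := card_symmDiff' (support₂ v) (support₂ w)
  have h5 : ∑ i, v i * w i = ((support₂ v ∩ support₂ w).card : ZMod 2) := by
    rw [Finset.card_eq_sum_ones, Nat.cast_sum, ← Finset.sum_subset (Finset.subset_univ
      (support₂ v ∩ support₂ w))]
    · refine Finset.sum_congr rfl fun i hi => ?_
      simp only [support₂, Finset.mem_inter, Finset.mem_filter, Finset.mem_univ, true_and] at hi
      revert hi
      generalize v i = a
      generalize w i = b
      revert a b
      decide
    · intro i _ hi
      simp only [support₂, Finset.mem_inter, Finset.mem_filter, Finset.mem_univ, true_and] at hi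
      revert hi
      generalize v i = a
      generalize w i = b
      revert a b
      decide
  rw [h5, ZMod.natCast_eq_zero_iff]
  omega

end Cfsg.Agent.S0362
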