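import Cfsg.Statements.S0366
import Cfsg.Agent.H7.M24d

set_option autoImplicit false
open Cfsg

namespace Cfsg.Agent.S0366

open CfsgH7 MulAction
set_option maxRecDepth 100000


/-- The permutation group preserving the length-24 code is 5-transitive on the 24 points. -/
theorem result : MulAction.IsMultiplyPretransitive Cfsg.M24 Cfsg.GolayPt 5 := by
  have key : ∀ x : Fin 5 ↪ GolayPt, ∃ g : M24, ∀ i : Fin 5,
      g • (![dec 23, dec 0, dec 1, dec 2, dec 3] : Fin 5 → GolayPt) i = x i := by
    intro x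
    have hne : ∀ i j : Fin 5, i ≠ j → x i ≠ x j := fun i j h e => h (x.injective e)
    obtain ⟨g, e0, e1, e2, e3, e4⟩ := tr5 (hne 0 1 (by decide)) (hne 0 2 (by decide))
      (hne 1 2 (by decide)) (hne 0 3 (by decide)) (hne 1 3 (by decide)) (hne 2 3 (by decide))
      (hne 0 4 (by decide)) (hne 1 4 (by decide)) (hne 2 4 (by decide)) (hne 3 4 (by decide))
    refine ⟨g, fun i => ?_⟩
    fin_cases i <;> assumption
  refine ⟨fun x y => ?_⟩
  obtain ⟨g, hg⟩ := key x
  obtain ⟨h, hh⟩ := key y
  refine ⟨h * g⁻¹, Function.Embedding.ext fun i => ?_⟩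
  rw [Function.Embedding.smul_apply, mul_smul, ← hg, inv_smul_smul, hh]

end Cfsg.Agent.S0366
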