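import Cfsg.Statements.S0369
import Cfsg.Agent.H7.M24d

set_option autoImplicit false
open Cfsg

namespace Cfsg.Agent.S0369

open CfsgH7 MulAction
open scoped Pointwise symmDiff
set_option maxRecDepth 100000


/-- The group of the length-24 code coincides with the automorphism group of its octad system. -/
theorem result : Cfsg.M24 = Cfsg.setSystemAut Cfsg.octads := by
  ext σ
  rw [mem_stabilizer_iff (G := P24) (a := octads)]
  refine ⟨fun h => smul_octads ⟨σ, h⟩, fun h => ?_⟩
  obtain ⟨t, ht⟩ := exists_rep24 σ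
  refine rep_inM24 ht ((all_iff _ _).mpr fun j hj => ?_)
  have h1 : all (fun j => isOct (row j) ||ₙ (isOct (0xc75001 ^ₙ row j) ||ₙ
    isOct (0x49f002 ^ₙ row j))) 12 = true := by decide +kernel
  have h2 : ∀ m, isOct m = true → σ • toFs m ∈ Cw := fun m hm => by
    have : σ • toFs m ∈ σ • octads := Set.smul_mem_smul_set (oct_of hm)
    rw [h] at this
    exact this.1
  rw [force_eq, ← toFs_mem_Cw (actm_lt ht _), ← smul_toFs ht]
  have h3 := (all_iff _ _).mp h1 j hj
  simp only [bor_eq, Bool.or_eq_true, n_xor] at h3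
  rcases h3 with h3 | h3 | h3
  · exact h2 _ h3
  · have := Cw_symmDiff (h2 0xc75001 (by decide +kernel)) (h2 _ h3)
    rwa [← smul_symmDiff', toFs_xor, symmDiff_symmDiff_cancel_left] at this
  · have := Cw_symmDiff (h2 0x49f002 (by decide +kernel)) (h2 _ h3)
    rwa [← smul_symmDiff', toFs_xor, symmDiff_symmDiff_cancel_left] at this

end Cfsg.Agent.S0369
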