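import Cfsg.Statements.S0370
import Cfsg.Agent.H7.M24

set_option autoImplicit false
open Cfsg

namespace Cfsg.Agent.S0370

open CfsgH7 MulAction
set_option maxRecDepth 100000


/-- The permutation x ↦ x + 1 of the residues modulo 23, fixing the extra point, lies in the group of the length-24 code. -/
theorem result : Equiv.optionCongr (Equiv.addRight (1 : ZMod 23)) ∈ Cfsg.M24 := by
  refine mem_of_inM24 (t := 0xb82d5a4e5183dcd62d4941cc520c41) ?_ (by decide +kernel)
  have : ∀ i : Fin 24, F24.g 0xb82d5a4e5183dcd62d4941cc520c41 i < 24 ∧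
    (Equiv.optionCongr (Equiv.addRight (1 : ZMod 23))) (dec i) =
      dec (F24.g 0xb82d5a4e5183dcd62d4941cc520c41 i) := by decide +kernel
  exact fun i hi => this ⟨i, hi⟩

end Cfsg.Agent.S0370
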