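import Cfsg.Statements.S0371
import Cfsg.Agent.H7.M24d

set_option autoImplicit false
open Cfsg

namespace Cfsg.Agent.S0371

open CfsgH7 MulAction
open scoped Pointwise symmDiff
set_option maxRecDepth 100000


/-- Multiplication by a nonzero square residue modulo 23, fixing the extra point, lies in the group of the length-24 code. -/
theorem result (u : (ZMod 23)ˣ) (hu : IsSquare u) : Equiv.optionCongr (Units.mulLeft u) ∈ Cfsg.M24 := by
  obtain ⟨r, rfl⟩ := hu
  have key : ∀ r : ZMod 23, r ≠ 0 → (inM24 (pack 5 (fun i => ite' (i =ₙ 23) 23 (i * r.val * r.val % 23)) 24) = true ∧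
      ∀ i < 24, dec (F24.g (pack 5 (fun i => ite' (i =ₙ 23) 23 (i * r.val * r.val % 23)) 24) i) =
        (dec i).map (fun x => r * r * x)) := by decide +kernel
  haveI : Fact (Nat.Prime 23) := ⟨by norm_num⟩
  obtain ⟨h1, h2⟩ := key r r.ne_zero
  obtain ⟨σ, hσ, h3⟩ := exists_of_inM24 h1
  convert hσ
  ext1 x
  obtain ⟨i, hi, rfl⟩ := exists_dec x
  rw [rep24_apply h3 hi, h2 i hi]
  cases dec i <;> simp

end Cfsg.Agent.S0371
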