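import Cfsg.Statements.S0372
import Cfsg.Agent.H7.M24

set_option autoImplicit false
open Cfsg

namespace Cfsg.Agent.S0372

open CfsgH7 MulAction
set_option maxRecDepth 100000


/-- The involution x ↦ -1/x of the projective line over ZMod 23 lies in the group of the length-24 code. -/
theorem result : Cfsg.projInv ∈ Cfsg.M24 := by
  refine mem_of_inM24 (t := 0x5883388a1c8f5140b46cd317aed7) ?_ (by decide +kernel)
  have : ∀ i : Fin 24, F24.g 0x5883388a1c8f5140b46cd317aed7 i < 24 ∧
    projInvFun (dec i) = dec (F24.g 0x5883388a1c8f5140b46cd317aed7 i) := by decide +kernel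
  exact fun i hi => this ⟨i, hi⟩

end Cfsg.Agent.S0372
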