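import Cfsg.Statements.S0373
import Cfsg.Agent.H7.M24

set_option autoImplicit false
open Cfsg

namespace Cfsg.Agent.S0373

open CfsgH7 MulAction
set_option maxRecDepth 100000


/-- The cube-twist permutation (squares t ↦ t^3/9, non-squares t ↦ 9t^3, extra point fixed) lies in the group of the length-24 code. -/
theorem result : Cfsg.cubeTwist ∈ Cfsg.M24 := by
  refine mem_of_inM24 (t := 0xbba8ab116d7c52899d90286a219a40) ?_ (by decide +kernel)
  have : ∀ i : Fin 24, F24.g 0xbba8ab116d7c52899d90286a219a40 i < 24 ∧
    cubeTwistFun (dec i) = dec (F24.g 0xbba8ab116d7c52899d90286a219a40 i) := by decide +kernel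
  exact fun i hi => this ⟨i, hi⟩

end Cfsg.Agent.S0373
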