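import Cfsg.Statements.S0374
import Cfsg.Agent.H7.M24

set_option autoImplicit false
open Cfsg

namespace Cfsg.Agent.S0374

open CfsgH7 MulAction
set_option maxRecDepth 100000


/-- The group of the length-24 code is generated by x ↦ x+1, x ↦ -1/x and the cube-twist permutation. -/
theorem result : Subgroup.closure {Equiv.optionCongr (Equiv.addRight (1 : ZMod 23)), Cfsg.projInv, Cfsg.cubeTwist} = Cfsg.M24 := by
  have h1 : A24.Rep (Equiv.optionCongr (Equiv.addRight (1 : ZMod 23)))
      0xb82d5a4e5183dcd62d4941cc520c41 := by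
    have : ∀ i : Fin 24, F24.g 0xb82d5a4e5183dcd62d4941cc520c41 i < 24 ∧
      (Equiv.optionCongr (Equiv.addRight (1 : ZMod 23))) (dec i) =
        dec (F24.g 0xb82d5a4e5183dcd62d4941cc520c41 i) := by decide +kernel
    exact fun i hi => this ⟨i, hi⟩
  have h2 : A24.Rep projInv 0x5883388a1c8f5140b46cd317aed7 := by
    have : ∀ i : Fin 24, F24.g 0x5883388a1c8f5140b46cd317aed7 i < 24 ∧
      projInvFun (dec i) = dec (F24.g 0x5883388a1c8f5140b46cd317aed7 i) := by decide +kernel
    exact fun i hi => this ⟨i, hi⟩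
  have h3 : A24.Rep cubeTwist 0xbba8ab116d7c52899d90286a219a40 := by
    have : ∀ i : Fin 24, F24.g 0xbba8ab116d7c52899d90286a219a40 i < 24 ∧
      cubeTwistFun (dec i) = dec (F24.g 0xbba8ab116d7c52899d90286a219a40 i) := by decide +kernel
    exact fun i hi => this ⟨i, hi⟩
  rw [← clo24_T, Act.clo]
  congr 1
  ext g
  simp only [T24, List.mem_cons, List.not_mem_nil, or_false, exists_eq_or_imp, exists_eq_left,
    Set.mem_insert_iff, Set.mem_singleton_iff, Set.mem_ofPred]
  exact or_congr ⟨fun h => h ▸ h1, fun h => h.unique h1⟩ (or_congr ⟨fun h => h ▸ h2,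
    fun h => h.unique h2⟩ ⟨fun h => h ▸ h3, fun h => h.unique h3⟩)

end Cfsg.Agent.S0374
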