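import Cfsg.Statements.S0381
import Cfsg.Agent.H7.Mg

set_option autoImplicit false
open Cfsg

namespace Cfsg.Agent.S0381

open CfsgH7 MulAction
open scoped Pointwise symmDiff
set_option maxRecDepth 100000
set_option Elab.async false


/-- The pointwise stabiliser of an octad in the group of the length-24 code has order 16 and every element of it squares to the identity. -/
theorem result (o : Finset Cfsg.GolayPt) (ho : o ∈ Cfsg.octads) : Nat.card ↥(Cfsg.M24 ⊓ fixingSubgroup (Equiv.Perm Cfsg.GolayPt) (o : Set Cfsg.GolayPt)) = 16 ∧ ∀ g ∈ Cfsg.M24 ⊓ fixingSubgroup (Equiv.Perm Cfsg.GolayPt) (o : Set Cfsg.GolayPt), g * g = 1 := by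
  obtain ⟨g, rfl⟩ := trO ho
  have h := ((packOct.refull [(0, [(0x7224451c2ca9693b40cd5bc6905e22, 0x12ded6542a35d103cc96925d428223)]),(1, [(0x90cc4584dadd504c8ef9add41c4a0, 0x749e43a84c41614335734d4361c6e0)]),(2, [(0x8cd884adcfa0e563c2aa218ad15c20, 0x1312fb36ea8449592274598a770c20)]),(3, [(0x19d6d4ce2cadd487d250358a470820, 0x719ea9262858e90ab66cb1ca4b8820)]),(5, [(0x8b57621ae76153094e8a7d5c818820, 0x8d0c952eec396cfaa1a4849d318820)]),(14, [(0x8cd2b699d4adeca811f23a0ac18820, 0x735f0b22eb4c664a32a63c8aa18820)]),(17, []),(23, []),(4, [(0xba64d4562f83a87312d362caa18820, 0xba64d4562f83a87312d362caa18820), (0xbc92655a2c3b9706cea47d0a818820, 0xbc92655a2c3b9706cea47d0a818820), (0xbbd8459e29b39559b606920b418820, 0xbbd8459e29b39559b606920b418820), (0xb99b28523343aaa4b16f258a718820, 0xb99b28523343aaa4b16f258a718820)])] (by decide +kernel)).fixM 8 0x82402f 16 (by decide +kernel))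
  rw [inf_of_le_right (fixM_le _)] at h
  rw [fixing_eq, fixM_smul, card_mapM, card_cj, h.card]
  refine ⟨rfl, ?_⟩
  rintro _ ⟨u, hu, rfl⟩
  have := pow_cj g (h.sq 2 (by decide +kernel)) u hu
  rw [pow_two] at this
  exact congrArg Subtype.val this

end Cfsg.Agent.S0381
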