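import Cfsg.Statements.S0384
import Cfsg.Agent.H7.M24f

set_option autoImplicit false
open scoped Pointwise
open Cfsg

namespace Cfsg.Agent.S0384

open CfsgH7 MulAction
open scoped Pointwise symmDiff
set_option maxRecDepth 100000


/-- A dodecad stabiliser is sharply 5-transitive on the dodecad. -/
theorem result (d : Finset Cfsg.GolayPt) (hd : d ∈ Cfsg.dodecads) (x y : Fin 5 ↪ Cfsg.GolayPt) (hx : ∀ i, x i ∈ d) (hy : ∀ i, y i ∈ d) : ∃! g : MulAction.stabilizer Cfsg.M24 d, ∀ i, ((g : Cfsg.M24) : Equiv.Perm Cfsg.GolayPt) (x i) = y i := by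
  obtain ⟨g, rfl⟩ := trD hd
  obtain ⟨x, rfl⟩ := exM g x
  obtain ⟨y, rfl⟩ := exM g y
  have hx' : ∀ i, x i ∈ toFs 0x5335f := fun i => (memM _ _ _).mp (hx i)
  have hy' : ∀ i, y i ∈ toFs 0x5335f := fun i => (memM _ _ _).mp (hy i)
  obtain ⟨u, hu, h⟩ := m12_trans.1 x y hx' hy'
  refine ⟨⟨g * u * g⁻¹, conj_fix hu⟩, fun i => conj_fix (h i), fun v hv => Subtype.ext ?_⟩
  have h1 : u⁻¹ * (g⁻¹ * v * g) = 1 := by
    refine eq_one_of_card_stab (m12_trans.2 x hx') (Subgroup.mul_mem _ (Subgroup.inv_mem _ hu) ?_) ?_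
    · rw [← mem_cj, ← stabM_smul]; exact v.2
    · ext1 i
      show (u : P24)⁻¹ • (g : P24)⁻¹ • ((v : M24) : P24) • (g : P24) • x i = x i
      rw [inv_smul_eq_iff, inv_smul_eq_iff]
      exact (hv i).trans (congrArg _ (h i).symm)
  show (v : M24) = g * u * g⁻¹
  rw [inv_mul_eq_one] at h1
  rw [h1]; group

end Cfsg.Agent.S0384
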