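import Cfsg.Statements.S0385
import Cfsg.Agent.H7.M24f

set_option autoImplicit false
open Cfsg

namespace Cfsg.Agent.S0385

open CfsgH7 MulAction
open scoped Pointwise symmDiff
set_option maxRecDepth 100000


/-- The 6-point intersections of octads with a fixed dodecad form a Steiner system S(5, 6, 12) on the dodecad. -/
theorem result (d : Finset Cfsg.GolayPt) (hd : d ∈ Cfsg.dodecads) : Cfsg.IsSteinerSystem 5 6 {h : Finset {p : Cfsg.GolayPt // p ∈ d} | ∃ o ∈ Cfsg.octads, (o ∩ d).card = 6 ∧ h = Finset.subtype (fun p => p ∈ d) o} := by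
  have hc : ∀ o : Finset GolayPt, (Finset.subtype (fun p => p ∈ d) o).card = (o ∩ d).card := by
    intro o; rw [Finset.card_subtype, Finset.filter_mem_eq_inter]
  refine ⟨?_, fun s hs => ?_⟩
  · rintro _ ⟨o, -, h, rfl⟩
    rw [hc, h]
  · have key : ∀ o : Finset GolayPt, s ⊆ Finset.subtype (fun p => p ∈ d) o ↔
        s.map (Function.Embedding.subtype _) ⊆ o := by
      intro o
      rw [Finset.map_subset_iff_subset_preimage]
      simp [Finset.subset_iff]
    have h5 : (s.map (Function.Embedding.subtype _)).card = 5 := by rw [Finset.card_map, hs]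
    obtain ⟨_, ⟨h6, o, ho, rfl⟩, h⟩ := exists_hexad hd (P := s.map (Function.Embedding.subtype _))
      (fun x hx => by obtain ⟨y, -, rfl⟩ := Finset.mem_map.mp hx; exact y.2) h5
    have h' := h.trans Finset.inter_subset_left
    refine ⟨_, ⟨⟨o, ho, h6, rfl⟩, (key o).mpr h'⟩, ?_⟩
    rintro _ ⟨⟨o', ho', -, rfl⟩, h2⟩
    rw [octad_eq_of_inter ho' ho (h5 ▸ Finset.card_le_card (Finset.subset_inter ((key o').mp h2) h'))]

end Cfsg.Agent.S0385
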