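import Cfsg.Statements.S0386
import Cfsg.Agent.H7.M24e

set_option autoImplicit false
open Cfsg

namespace Cfsg.Agent.S0386

open CfsgH7 MulAction
open scoped Pointwise symmDiff
set_option maxRecDepth 100000


/-- For a fixed dodecad, 132 octads meet it in 6 points, 132 in 2 points and 495 in 4 points. -/
theorem result (d : Finset Cfsg.GolayPt) (hd : d ∈ Cfsg.dodecads) : {o : Finset Cfsg.GolayPt | o ∈ Cfsg.octads ∧ (o ∩ d).card = 6}.ncard = 132 ∧ {o : Finset Cfsg.GolayPt | o ∈ Cfsg.octads ∧ (o ∩ d).card = 2}.ncard = 132 ∧ {o : Finset Cfsg.GolayPt | o ∈ Cfsg.octads ∧ (o ∩ d).card = 4}.ncard = 495 := by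
  obtain ⟨g, rfl⟩ := trD hd
  have key : ∀ n, {o : Finset GolayPt | o ∈ octads ∧ (o ∩ (g : P24) • toFs 0x5335f).card = n}.ncard =
      cnt (fun k => force (cw k) fun m => (pc24 m =ₙ 8) &&ₙ (pc24 (m &ₙ 0x5335f) =ₙ n)) 4096 := by
    intro n
    rw [← ncard_oct (fun o => (o ∩ toFs 0x5335f).card = n) _ fun m hm => by
      rw [card_inter_toFs hm, n_beq, n_and]]
    exact ncard_transport (g : P24) fun x => by simp only [octM, interM, cardM]
  simp only [key]
  decide +kernel

end Cfsg.Agent.S0386
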