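import Cfsg.Statements.S0389
import Cfsg.Agent.H7.Mg

set_option autoImplicit false
open scoped Pointwise
open Cfsg

namespace Cfsg.Agent.S0389

open CfsgH7 MulAction
open scoped Pointwise symmDiff
set_option maxRecDepth 100000
set_option Elab.async false


/-- The stabiliser of a dodecad and a point on it is 3-transitive on the complementary dodecad. -/
theorem result (d : Finset Cfsg.GolayPt) (hd : d ∈ Cfsg.dodecads) (p : Cfsg.GolayPt) (hp : p ∈ d) (x y : Fin 3 ↪ Cfsg.GolayPt) (hx : ∀ i, x i ∉ d) (hy : ∀ i, y i ∉ d) : ∃ g ∈ MulAction.stabilizer Cfsg.M24 d ⊓ MulAction.stabilizer Cfsg.M24 p, ∀ i, (g : Equiv.Perm Cfsg.GolayPt) (x i) = y i := by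
  obtain ⟨g, rfl, rfl⟩ := trDp hd hp
  have h := (trans_emb (pack11.refull [(5, [(0xaaece28df08d1a9bce44504e660900, 0x5d6ee525f08d1a3b1d8129268908c0)]),(7, [(0x74573536a6a590179c44bb0b090d20, 0x3ba2fa0ec45de46acc2d540a812580)]),(10, [(0xa3eaa722645c589b5da2398a11ca00, 0x52eb7889c1b4d2d7d192398b01a080)]),(2, [(0x9da2fbcab0a2d21729a63a0a410d80, 0x9da2fbcab0a2d21729a63a0a410d80)]),(1, [(0xa2ef58a1ed9d92172a063c8ac18880, 0xaba9779a698ae04b29b23a0a118980)])] (by decide +kernel)) 0xfacca0 (by norm_num) [5, 7, 10] 3 6 rfl (by decide) (by decide +kernel)).1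
  have c : ∀ z : Fin 3 ↪ GolayPt, (∀ i, z i ∉ (g : P24) • toFs 0x5335f) →
      ∀ i, (z.trans (g : P24)⁻¹.toEmbedding) i ∈ toFs 0xfacca0 := fun z hz i => by
    rw [show 0xfacca0 = 0x5335f ^^^ 16777215 from by decide, toFs_compl, Finset.mem_compl, ← memM (g : P24)]
    simpa using hz i
  obtain ⟨u, hu, e⟩ := h _ _ (c x hx) (c y hy)
  rw [stabM_smul, stabM_smul, ← cj_inf]
  refine ⟨g * u * g⁻¹, conj_mem_cj.mpr hu, fun i => ?_⟩
  have := e i
  simp only [Function.Embedding.trans_apply, Equiv.coe_toEmbedding] at this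
  show (g : P24) ((u : P24) ((g : P24)⁻¹ (x i))) = y i
  rw [this]; simp

end Cfsg.Agent.S0389
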