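import Cfsg.Statements.S0412
import Cfsg.Agent.H7.St3

set_option autoImplicit false
open Cfsg

namespace Cfsg.Agent.S0412

open CfsgH7 MulAction
open scoped Pointwise symmDiff
set_option maxRecDepth 100000


/-- Aut of an S(5, 8, 24) is simple of order 244823040 and 5-transitive on points. -/
theorem result {α : Type*} [Fintype α] [DecidableEq α] (hα : Fintype.card α = 24) {B : Set (Finset α)} (hB : Cfsg.IsSteinerSystem 5 8 B) : Cfsg.IsM24 (Cfsg.setSystemAut B) ∧ MulAction.IsMultiplyPretransitive (Cfsg.setSystemAut B) α 5 := by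
  obtain ⟨e, h⟩ := model24 hα hB
  obtain ⟨φ, hφ⟩ := aut_24 h
  haveI := simple_M24
  refine ⟨⟨(φ.symm.trans Subgroup.topEquiv).isSimpleGroup, by rw [← Nat.card_congr φ.toEquiv, card_topM]⟩,
    h.mtrans hφ ?_⟩
  rw [← toFs_full]
  exact (trans_emb packM _ (by norm_num) [23, 0, 1, 2, 3] 5 48 rfl (by decide +kernel) (by decide +kernel)).1

end Cfsg.Agent.S0412
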