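import Cfsg.Statements.S0413
import Cfsg.Agent.H7.St3

set_option autoImplicit false
open Cfsg

namespace Cfsg.Agent.S0413

open CfsgH7 MulAction
open scoped Pointwise symmDiff
set_option maxRecDepth 100000


/-- Aut of an S(4, 7, 23) is simple of order 10200960 and 4-transitive. -/
theorem result {α : Type*} [Fintype α] [DecidableEq α] (hα : Fintype.card α = 23) {B : Set (Finset α)} (hB : Cfsg.IsSteinerSystem 4 7 B) : Cfsg.IsM23 (Cfsg.setSystemAut B) ∧ MulAction.IsMultiplyPretransitive (Cfsg.setSystemAut B) α 4 := by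
  obtain ⟨e, h⟩ := model23 hα hB
  obtain ⟨φ, hφ⟩ := aut_23 h
  haveI := simple_23
  refine ⟨⟨φ.symm.isSimpleGroup, by rw [← Nat.card_congr φ.toEquiv, pack23.card]⟩, h.mtrans hφ ?_⟩
  rw [← toFs_compl]
  exact (trans_emb pack23 _ (by decide) [0, 1, 2, 3] 4 48 rfl (by decide +kernel) (by decide +kernel)).1

end Cfsg.Agent.S0413
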