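import Cfsg.Statements.S0414
import Cfsg.Agent.H7.St3

set_option autoImplicit false
open Cfsg

namespace Cfsg.Agent.S0414

open CfsgH7 MulAction
open scoped Pointwise symmDiff
set_option maxRecDepth 100000


/-- Aut of an S(3, 6, 22) has order 887040, is 3-transitive, and contains a simple subgroup of index 2. -/
theorem result {α : Type*} [Fintype α] [DecidableEq α] (hα : Fintype.card α = 22) {B : Set (Finset α)} (hB : Cfsg.IsSteinerSystem 3 6 B) : Nat.card (Cfsg.setSystemAut B) = 887040 ∧ MulAction.IsMultiplyPretransitive (Cfsg.setSystemAut B) α 3 ∧ ∃ H : Subgroup (Cfsg.setSystemAut B), H.index = 2 ∧ Cfsg.IsM22 H := by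
  obtain ⟨e, h⟩ := model22 hα hB
  obtain ⟨φ, hφ⟩ := aut_22 h
  haveI := simple_22
  have hle : stabilizer M24 (dec 23) ⊓ stabilizer M24 (dec 0) ≤ stabilizer M24 (toFs 0x800001) :=
    pack22.le_stab Dset (c := 0x800001) (show _ < 2 ^ 24 by norm_num) (by decide +kernel)
  have hc : Nat.card (setSystemAut B) = 887040 := by rw [← Nat.card_congr φ.toEquiv, packPair.card]
  have e1 := (Subgroup.subgroupOfEquivOfLe hle).symm.trans (φ.subgroupMap _)
  have hc2 := (Nat.card_congr e1.toEquiv).symm.trans pack22.card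
  refine ⟨hc, h.mtrans hφ fun x y hx hy => ?_, _, ?_, e1.symm.isSimpleGroup, hc2⟩
  · rw [← toFs_compl] at hx hy
    obtain ⟨g, hg, h1⟩ := (trans_emb pack22 _ (by decide) [1, 2, 3] 3 48 rfl (by decide +kernel)
      (by decide +kernel)).1 x y hx hy
    exact ⟨g, hle hg, h1⟩
  · have := Subgroup.card_mul_index (((stabilizer M24 (dec 23) ⊓ stabilizer M24 (dec 0)).subgroupOf
      (stabilizer M24 (toFs 0x800001))).map (φ : stabilizer M24 (toFs 0x800001) →* setSystemAut B))
    rw [hc2, hc] at this
    omega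

end Cfsg.Agent.S0414
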