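import Cfsg.Statements.S0417
import Cfsg.Agent.S0416
import Cfsg.Agent.S0710

set_option autoImplicit false
open Cfsg

namespace Cfsg.Agent.S0417

open CfsgPm MulAction
universe u v
theorem aux (k : ℕ) : ∀ {G : Type u} {Ω : Type v} [Group G] [MulAction G Ω] [Finite Ω], k + 6 ≤ Nat.card Ω → IsMultiplyPretransitive G Ω (k + 6) →
    (∀ x : Fin (k + 6) ↪ Ω, stabilizer G x = ⊥) → Nat.card Ω = k + 6 ∨ Nat.card Ω = k + 7 ∨ Nat.card Ω = k + 8 := by
  induction k with
  | zero =>
    intro G Ω _ _ _ h5 h hs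
    obtain ⟨a⟩ : Nonempty Ω := (Nat.card_pos_iff.1 (by omega)).1
    have t : IsPretransitive G Ω := is_one_pretransitive_iff.1 (isMultiplyPretransitive_of_le (n := 0 + 6) (by omega) h5)
    have c := SubMulAction.nat_card_ofStabilizer_add_one_eq G a
    have := S0416.aux (by omega) (SubMulAction.ofStabilizer.isMultiplyPretransitive.1 h) (sharp_stab hs a)
    have : Nat.card Ω ≠ 13 := fun e => by
      classical
      have := Fintype.ofFinite Ω
      obtain ⟨x⟩ : Nonempty (Fin (0 + 6) ↪ Ω) := Function.Embedding.nonempty_of_card_le (by simpa using h5)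
      have : IsPretransitive (toPermHom G Ω).range Ω := ⟨fun x y => (t.1 x y).elim fun g hg => ⟨⟨_, g, rfl⟩, hg⟩⟩
      refine S0710.result (by simpa using e) (toPermHom G Ω).range ?_
      rw [← Nat.card_congr (MonoidHom.ofInjective ((injective_iff_map_eq_one _).2 fun g hg => (hs x).le
        (DFunLike.ext _ _ fun i => Equiv.congr_fun hg _))).toEquiv, card_sharp h hs h5, e]
      rfl
    omega
  | succ k ih =>
    intro G Ω _ _ _ h5 h hs
    obtain ⟨a⟩ : Nonempty Ω := (Nat.card_pos_iff.1 (by omega)).1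
    have t : IsPretransitive G Ω := is_one_pretransitive_iff.1 (isMultiplyPretransitive_of_le (n := k + 1 + 6) (by omega) h5)
    have c := SubMulAction.nat_card_ofStabilizer_add_one_eq G a
    have := ih (by omega) (SubMulAction.ofStabilizer.isMultiplyPretransitive.1 h) (sharp_stab hs a)
    omega

/-- For k ≥ 6, sharply k-transitive groups have degree k, k+1 or k+2. -/
theorem result {α : Type*} [Fintype α] [DecidableEq α] (G : Subgroup (Equiv.Perm α)) (k : ℕ) (hk : 6 ≤ k) (hn : k ≤ Fintype.card α) [MulAction.IsMultiplyPretransitive G α k] (hsharp : ∀ x : Fin k ↪ α, MulAction.stabilizer G x = ⊥) : Fintype.card α = k ∨ Fintype.card α = k + 1 ∨ Fintype.card α = k + 2 := by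
  obtain ⟨k, rfl⟩ := Nat.exists_eq_add_of_le' hk
  simpa using aux k (by simpa) ‹_› hsharp

end Cfsg.Agent.S0417
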