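import Cfsg.Statements.S0698
import Mathlib
import Cfsg.Agent.H8.Perm2

set_option autoImplicit false
open Cfsg

namespace Cfsg.Agent.S0698

/-- Jordan's Theorem on normal subgroups of multiply transitive groups: if `G` is `k`-transitive (`k > 1`) of degree greater than `k`, a non-trivial normal subgroup is `(k-1)`-transitive, except possibly for `k = 3` when it may be an elementary abelian 2-group. -/
theorem result {α : Type*} [Fintype α] [DecidableEq α] (G : Subgroup (Equiv.Perm α)) {k : ℕ} (hk : 1 < k) (hdeg : k < Fintype.card α) (hG : MulAction.IsMultiplyPretransitive G α k) (N : Subgroup G) [N.Normal] (hN : N ≠ ⊥) : MulAction.IsMultiplyPretransitive N α (k - 1) ∨ (k = 3 ∧ IsMulCommutative N ∧ ∀ n ∈ N, n ^ 2 = 1) := by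
  obtain ⟨k, rfl⟩ : ∃ j, k = j + 1 := ⟨k - 1, by omega⟩
  have hp : MulAction.IsMultiplyPreprimitive G α k :=
    MulAction.isMultiplyPreprimitive_of_isMultiplyPretransitive_succ G α
      (by rw [ENat.card_eq_coe_fintype_card]; exact_mod_cast hdeg.le)
  have hle : ∀ m ≤ k, MulAction.IsMultiplyPreprimitive G α m := fun m hm =>
    MulAction.isMultiplyPreprimitive_of_le G α hp hm
      (by rw [ENat.card_eq_coe_fintype_card]; exact_mod_cast (by omega))
  by_cases h : ∃ a : α, MulAction.stabilizer N a ≠ ⊥
  · obtain ⟨a, ha⟩ := h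
    exact Or.inl (CfsgH8.normal_mt hp hdeg N ha)
  push Not at h
  haveI := CfsgH8.trans_of_normal' ((MulAction.is_one_preprimitive_iff G α).1 (hle 1 (by omega))) N hN
  by_cases h1 : k = 1
  · subst h1
    exact Or.inl (MulAction.is_one_pretransitive_iff.2 this)
  by_cases h2 : k = 2
  · subst h2
    rcases CfsgH8.two_prim_regular (by omega) hp N h with h3 | h3
    · omega
    · exact Or.inr ⟨rfl, ⟨⟨fun a b => Subtype.ext (h3.1 a a.2 b b.2)⟩⟩, h3.2.1⟩
  have := CfsgH8.three_prim_regular (by omega) (hle 3 (by omega)) N h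
  omega

end Cfsg.Agent.S0698
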