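import Cfsg.Statements.S0418
import Cfsg.Agent.H3.Sh2
import Cfsg.Agent.S0698

set_option autoImplicit false
open Cfsg

namespace Cfsg.Agent.S0418

open CfsgPm MulAction Subgroup

/-- A sharply 4-transitive group of degree 11 is simple of order 7920. -/
theorem result {α : Type*} [Fintype α] [DecidableEq α] (hα : Fintype.card α = 11) (G : Subgroup (Equiv.Perm α)) [MulAction.IsMultiplyPretransitive G α 4] (hsharp : ∀ x : Fin 4 ↪ α, MulAction.stabilizer G x = ⊥) : Cfsg.IsM11 G := by
  have c : Nat.card α = 11 := by rw [Nat.card_eq_fintype_card, hα]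
  have h : Nat.card G = 7920 := by rw [card_sharp ‹_› hsharp (by omega), c]; rfl
  have : IsPretransitive G α := is_one_pretransitive_iff.1 (isMultiplyPretransitive_of_le (n := 4) (by omega) (by omega))
  have : Fact (Nat.Prime 11) := ⟨by norm_num⟩
  refine ⟨@IsSimpleGroup.mk _ _ (Finite.one_lt_card_iff_nontrivial.1 (by omega)) fun N hN => or_iff_not_imp_left.2 fun e => ?_, h⟩
  have h0 := desc_dvd ((S0698.result G (k := 4) (by omega) (by omega) ‹_› N e).resolve_right (by omega)) (by omega)
  obtain ⟨P⟩ : Nonempty (Sylow 11 G) := inferInstance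
  obtain ⟨d, h1, h2⟩ := card_norm_of_prime (c ▸ Fact.out) ((card_sylow_of_prime c P).trans c.symm)
  have h3 := card_sylow_modEq_one 11 G
  have h4 := (normalizer (P.1 : Set G)).card_mul_index
  rw [P.card_eq_index_normalizer] at h3
  have h5 := N.card_mul_index
  rw [c] at h0 h1
  obtain ⟨m, hm⟩ := h0
  have h6 : N.index ∣ 8 := ⟨m, by rw [hm, h] at h5; norm_num at h5; linarith⟩
  have h7 := index_dvd_norm P N fun k => by have := k.trans h6; omega
  rw [h2, c] at h4 h7
  have := Nat.le_of_dvd (by norm_num) h1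
  unfold Nat.ModEq at h3
  change (normalizer (P.1 : Set G)).index % 11 = _ at h3
  obtain rfl : d = 5 := by interval_cases d <;> omega
  exact index_eq_one.1 (Nat.eq_one_of_dvd_coprimes (by norm_num) h6 h7)

end Cfsg.Agent.S0418
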