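import Cfsg.Statements.S0419
import Cfsg.Agent.S0418

set_option autoImplicit false
open Cfsg

namespace Cfsg.Agent.S0419

open CfsgPm MulAction Subgroup

/-- A sharply 5-transitive group of degree 12 is simple of order 95040. -/
theorem result {α : Type*} [Fintype α] [DecidableEq α] (hα : Fintype.card α = 12) (G : Subgroup (Equiv.Perm α)) [MulAction.IsMultiplyPretransitive G α 5] (hsharp : ∀ x : Fin 5 ↪ α, MulAction.stabilizer G x = ⊥) : Cfsg.IsM12 G := by
  have c : Nat.card α = 12 := by rw [Nat.card_eq_fintype_card, hα]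
  have h : Nat.card G = 95040 := by rw [card_sharp ‹_› hsharp (by omega), c]; rfl
  have : IsPretransitive G α := is_one_pretransitive_iff.1 (isMultiplyPretransitive_of_le (n := 5) (by omega) (by omega))
  refine ⟨@IsSimpleGroup.mk _ _ (Finite.one_lt_card_iff_nontrivial.1 (by omega)) fun N hN => or_iff_not_imp_left.2 fun e => ?_, h⟩
  have h4 := (S0698.result G (k := 5) (by omega) (by omega) ‹_› N e).resolve_right (by omega)
  have h0 := Nat.le_of_dvd Nat.card_pos (desc_dvd h4 (by omega))
  have t : IsPretransitive N α := is_one_pretransitive_iff.1 (isMultiplyPretransitive_of_le (n := 5 - 1) (by omega) (by omega))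
  obtain ⟨a⟩ : Nonempty α := (Nat.card_pos_iff.1 (by omega)).1
  have c' := SubMulAction.nat_card_ofStabilizer_add_one_eq G a
  have := Fintype.ofFinite (SubMulAction.ofStabilizer G a)
  rw [Nat.card_eq_fintype_card] at c'
  have := range_mult ((SubMulAction.ofStabilizer.isMultiplyPretransitive (a := a)).1 ‹IsMultiplyPretransitive G α (4 + 1)›)
  have := (S0418.result (by omega) _ (range_sharp (sharp_stab hsharp a))).1
  obtain ⟨x⟩ : Nonempty (Fin 4 ↪ SubMulAction.ofStabilizer G a) := Function.Embedding.nonempty_of_card_le (by rw [Fintype.card_fin]; omega)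
  have := (MonoidHom.ofInjective (inj_sharp (sharp_stab hsharp a) x)).isSimpleGroup
  rcases (hN.subgroupOf (stabilizer G a)).eq_bot_or_eq_top with k | k
  · have := relIndex_le_of_le_right (H := stabilizer G a) (le_top (a := N)) index_ne_zero_of_finite
    rw [relIndex_top_right, index_stabilizer_of_transitive, relIndex, subgroupOf_eq_bot.2 (subgroupOf_eq_bot.1 k).symm, index_bot, c] at this
    rw [c] at h0
    norm_num at h0
    omega
  · refine eq_top_iff.2 fun g _ => ?_
    obtain ⟨n, hn⟩ := t.1 a (g • a)
    simpa using N.mul_mem n.2 (subgroupOf_eq_top.1 k (show n.1⁻¹ * g ∈ stabilizer G a by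
      rw [mem_stabilizer_iff, mul_smul, ← hn]; exact inv_smul_smul _ _))

end Cfsg.Agent.S0419
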