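import Cfsg.Statements.S0439
import Cfsg.Agent.TT.T1

set_option autoImplicit false
open Cfsg

namespace Cfsg.Agent.S0439

open CfsgTT Equiv

/-- In the symmetric group of degree n ≥ 2, the set of transpositions is a conjugacy class of 3-transpositions which generates the group. -/
theorem result (n : ℕ) (hn : 2 ≤ n) : Cfsg.IsThreeTranspositionClass {σ : Equiv.Perm (Fin n) | σ.IsSwap} := by
  obtain ⟨m, rfl⟩ : ∃ m, n = m + 2 := ⟨n - 2, by omega⟩
  have ne : (0 : Fin (m + 2)) ≠ 1 := by simp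
  refine ⟨ts_iff.2 ts_swap, ⟨swap 0 1, ⟨_, _, ne, rfl⟩, Set.ext fun σ => ⟨?_, fun k => ?_⟩⟩, Perm.closure_isSwap⟩
  · rintro ⟨a, b, ab, rfl⟩; exact Perm.isConj_swap ne ab
  · obtain ⟨g, rfl⟩ := isConj_iff.1 k
    exact cl_swap g _ ⟨_, _, ne, rfl⟩

end Cfsg.Agent.S0439
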