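import Cfsg.Statements.S0440
import Cfsg.Agent.H5.W2

set_option autoImplicit false
open Cfsg

namespace Cfsg.Agent.S0440

open CfsgH5

/-- In the symplectic group in dimension 2n ≥ 2 over the field with two elements, the elements g for which g - 1 has rank one (the symplectic transvections) form a conjugacy class of 3-transpositions generating the group. -/
theorem result (n : ℕ) (hn : 1 ≤ n) : Cfsg.IsThreeTranspositionClass {g : Matrix.symplecticGroup (Fin n) (ZMod 2) | ((g : Matrix (Fin n ⊕ Fin n) (Fin n ⊕ Fin n) (ZMod 2)) - 1).rank = 1} := by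
  have hS := spForm_nondeg (F := ZMod 2) n
  have h1 : ∀ c : ZMod 2, c ≠ 0 → c = 1 := by decide
  have key : ∀ d ∈ (spForm n (ZMod 2)).isom, Module.finrank (ZMod 2) (mov d) = 1 →
      ∃ v ≠ 0, d = (spForm n (ZMod 2)).tv v 1 := fun d hd h => by
    obtain ⟨v, c, h2, h3, h4⟩ := hS.exists_of_mov_one hd h
    exact ⟨v, h2, LinearEquiv.ext fun x => by rw [h4, Form.tv_apply, h1 c h3]⟩
  have hu : ∀ v ≠ 0, Module.finrank (ZMod 2) (mov ((spForm n (ZMod 2)).tv v 1)) = 1 :=
    fun v h0 => hS.finrank_mov_one h0 one_ne_zero (Form.tv_apply _ v 1)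
  refine isThreeTransp_of (spHom_inj n) (range_spHom n)
    (fun g => by rw [← rank_sub_one (spHom_apply _ g)]; rfl) (fun d hd h => ?_)
    (fun d hd e he h h' => ?_) ⟨_, Form.tv_mem _ _ _, hu _ ((spForm_hypFam n).isHyp ⟨0, hn⟩).ne_left⟩
    (fun d hd e he h h' => ?_) fun L hL => hS.sp_isom_le fun v c => ?_
  · obtain ⟨v, -, rfl⟩ := key d hd h
    rw [Form.tv_mul]; exact Form.tv_zero _ _
  · obtain ⟨v, -, rfl⟩ := key d hd h
    obtain ⟨w, -, rfl⟩ := key e he h'
    rw [← mul_inv_eq_iff_eq_mul, Form.conj_tv _ hd, Form.conj_tv _ he, Form.tv_apply, Form.tv_apply]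
    by_cases h0 : (spForm n (ZMod 2)).B v w = 0
    · simp [Form.perp_symm h0]
    · simp [h1 _ h0, h1 _ (Form.ne_symm h0), add_comm]
  · obtain ⟨v, hv, rfl⟩ := key d hd h
    obtain ⟨w, hw, rfl⟩ := key e he h'
    obtain ⟨g, h2, rfl⟩ := hS.witt_vec hv hw (spParam_eq _ _)
    exact ⟨g, h2, Form.conj_tv _ h2 _ _⟩
  · by_cases h0 : v = 0 ∨ c = 0
    · rcases h0 with rfl | rfl <;> simp [Form.tv_zero, Form.tv_zero_left]
    · push Not at h0
      exact h1 c h0.2 ▸ hL _ (Form.tv_mem _ _ _) (hu v h0.1)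

end Cfsg.Agent.S0440
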