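import Cfsg.Statements.S0442
import Cfsg.Agent.H1.PG3

set_option autoImplicit false
open Cfsg

namespace Cfsg.Agent.S0442

/-- A standard trick for producing elements of an involution centraliser: for an involution a and an element g, let b be the conjugate g⁻¹ * a * g. If a * b has odd order 2m + 1 then g * (a * b) ^ m commutes with a; if a * b has even order 2m then (a * b) ^ m and (a * (g * a * g⁻¹)) ^ m commute with a. -/
theorem result {G : Type*} [Group G] (a g : G) (ha : orderOf a = 2) : (∀ m : ℕ, orderOf (a * (g⁻¹ * a * g)) = 2 * m + 1 → Commute (g * (a * (g⁻¹ * a * g)) ^ m) a) ∧ (∀ m : ℕ, orderOf (a * (g⁻¹ * a * g)) = 2 * m → Commute ((a * (g⁻¹ * a * g)) ^ m) a ∧ Commute ((a * (g * a * g⁻¹)) ^ m) a) := by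
  open Subgroup CfsgH1 CfsgFT CfsgH2 in
  have h2 : a * a = 1 := by rw [← pow_two, ← ha, pow_orderOf_eq_one]
  have ai : a⁻¹ = a := inv_eq_of_mul_eq_one_right h2
  have key : ∀ g : G, a * (a * (g⁻¹ * a * g)) * a⁻¹ = (a * (g⁻¹ * a * g))⁻¹ := fun g => by
    rw [← mul_assoc a a, h2]; simp [mul_assoc, ai]
  refine ⟨fun m hm => ?_, fun m hm => ⟨commute_of_inv_of_mul_self (key g) ?_, ?_⟩⟩
  · set c := a * (g⁻¹ * a * g) with hc
    have h1 : c ^ m * c ^ (m + 1) = 1 := by rw [← pow_add, show m + (m + 1) = 2 * m + 1 by ring, ← hm, pow_orderOf_eq_one]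
    have h3 : a * c ^ (m + 1) * a⁻¹ = c ^ m := by
      rw [← conj_pow, key g, inv_pow, inv_eq_of_mul_eq_one_left h1]
    have h4 : a * g = g * a * c := by rw [hc, mul_assoc g, ← mul_assoc a a, h2]; simp [mul_assoc]
    have h5 : c ^ m * a = a * c * c ^ m := by
      rw [mul_assoc, ← pow_succ', ← mul_inv_eq_iff_eq_mul.1 h3]
    change g * c ^ m * a = a * (g * c ^ m)
    rw [← mul_assoc a, h4, mul_assoc g, h5, mul_assoc g, mul_assoc g]
  · rw [← pow_add, ← two_mul, ← hm, pow_orderOf_eq_one]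
  · refine commute_of_inv_of_mul_self (by simpa using key g⁻¹) ?_
    have : a * (g * a * g⁻¹) = (g * (a * (g⁻¹ * a * g)) * g⁻¹)⁻¹ := by simp [mul_assoc, ai]
    rw [← pow_add, ← two_mul, ← hm, this, inv_pow, conj_pow, pow_orderOf_eq_one]; simp

end Cfsg.Agent.S0442
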