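import Cfsg.Statements.S0443
import Cfsg.Agent.H1.PG3

set_option autoImplicit false
open Cfsg

namespace Cfsg.Agent.S0443

/-- Two definitions of a 2-central involution agree: an element t of order 2 of a finite group lies in the centre of some Sylow 2-subgroup if and only if its centraliser contains some Sylow 2-subgroup. -/
theorem result {G : Type*} [Group G] [Finite G] (t : G) (ht : orderOf t = 2) : Cfsg.IsTwoCentralInvolution t ↔ ∃ P : Sylow 2 G, (P : Subgroup G) ≤ Subgroup.centralizer ({t} : Set G) := by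
  open Subgroup CfsgH1 CfsgFT CfsgH2 in
  refine ⟨fun ⟨_, P, _, h⟩ => ⟨P, fun x hx => mem_C1.2 (h x hx)⟩, fun ⟨P, h⟩ => ⟨ht, P, ?_, fun x hx => mem_C1.1 (h hx)⟩⟩
  refine (IsSylowIn.of_sylow_top P).le_of_le_normalizer (isPGroup_zpowers_of_orderOf (k := 1) ht) le_top
    (zpowers_le.2 (centralizer_le_normalizer _ fun x hx => mem_C1.1 (h hx))) (mem_zpowers t)

end Cfsg.Agent.S0443
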