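import Cfsg.Statements.S0445
import Cfsg.Agent.H5.W2

set_option autoImplicit false
open Cfsg

namespace Cfsg.Agent.S0445

open CfsgH5 Matrix

/-- In the special linear group of dimension 5 over the field with two elements, the centraliser of a transvection has order 21504 = 2 ^ 7 · 168 (it is an extension of an extraspecial group of order 2 ^ 7 by the simple group of order 168). -/
theorem result (s : Matrix.SpecialLinearGroup (Fin 5) (ZMod 2)) (hs : (s : Matrix (Fin 5) (Fin 5) (ZMod 2)) = Matrix.transvection 0 1 1) : Nat.card (Subgroup.centralizer ({s} : Set (Matrix.SpecialLinearGroup (Fin 5) (ZMod 2)))) = 21504 := by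
  have h1 : (s : Matrix (Fin 5) (Fin 5) (ZMod 2)) - 1 = single 0 1 1 := by
    rw [hs, transvection, add_sub_cancel_left]
  have h2 : slSub (ZMod 2) (Fin 5 → ZMod 2) = ⊤ := eq_top_iff.2 fun g _ => mem_slSub.2 (by
    have := det_ne_zero' g
    generalize LinearMap.det (g : (Fin 5 → ZMod 2) →ₗ[ZMod 2] (Fin 5 → ZMod 2)) = a at this
    revert a; decide)
  rw [card_centralizer_of_inj slHom_inj range_slHom, h2, inf_top_eq,
    card_centralizer_tr (mov_le_fix_of_mat (slHom_apply s) (by rw [h1]; simp)) ?_ (n := 3) (by simp)]
  · simp [Fin.prod_univ_three]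
  · rw [← rank_sub_one (slHom_apply s), h1, rank_eq_of_factor (κ := Unit) (single 0 () 1) (single () 1 1)
      (by simp) (fun _ => 1) (fun _ => 0) (by simp)]
    rfl

end Cfsg.Agent.S0445
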