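import Cfsg.Statements.S0447
import Cfsg.Agent.H2.Carm3

set_option autoImplicit false
open Cfsg

namespace Cfsg.Agent.S0447
open Subgroup CfsgH2
open scoped commutatorElement

open Equiv Equiv.Perm in
theorem ct {n : ℕ} (hn : n ≤ 7) {σ : Perm (Fin n)} (h1 : σ ≠ 1) (h2 : σ ^ 2 = 1) (h3 : sign σ = 1) :
    σ.cycleType = Multiset.replicate 2 2 := by
  haveI : Fact (Nat.Prime 2) := ⟨Nat.prime_two⟩
  have e := cycleType_of_pow_prime_eq_one h2
  have e1 := sum_cycleType_le σ
  have e2 := sign_of_cycleType σ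
  have e3 : σ.cycleType.card ≠ 0 := fun h => h1 (card_cycleType_eq_zero.1 h)
  generalize σ.cycleType.card = k at e e2 e3
  rw [e, Multiset.sum_replicate, Fintype.card_fin, smul_eq_mul] at e1
  rw [e, Multiset.sum_replicate, smul_eq_mul, h3] at e2
  have : k = 1 ∨ k = 2 ∨ k = 3 := by omega
  rcases this with rfl | rfl | rfl
  · exact absurd e2 (by decide)
  · exact e
  · exact absurd e2 (by decide)

/-- Involutions in double covers of alternating groups: for n ≤ 7, a finite non-split double cover of the alternating group of degree n has exactly one element of order 2 (the central one); for degree 8 there is a non-split double cover with two distinct involutions. -/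
theorem result : (∀ (n : ℕ) (H : Type) (_ : Group H) (_ : Finite H), n ≤ 7 → Cfsg.IsNonsplitDoubleCover H (alternatingGroup (Fin n)) → ∀ x y : H, orderOf x = 2 → orderOf y = 2 → x = y) ∧ ∃ (H : Type) (_ : Group H) (_ : Finite H), Cfsg.IsNonsplitDoubleCover H (alternatingGroup (Fin 8)) ∧ ∃ x y : H, x ≠ y ∧ orderOf x = 2 ∧ orderOf y = 2 := by
  constructor
  · intro n H _ _ hn ⟨hc, ⟨e⟩, hns⟩
    by_cases h1 : n ≤ 1
    · exfalso
      haveI : Subsingleton (Fin n) := Fin.subsingleton_iff_le_one.2 h1
      haveI : Subsingleton (H ⧸ center H) := e.toEquiv.subsingleton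
      have : center H = ⊤ := QuotientGroup.subgroup_eq_top_of_subsingleton _ inferInstance
      exact hns ⊥ (this ▸ isComplement'_top_bot)
    obtain ⟨m, rfl⟩ : ∃ m, n = m + 2 := ⟨n - 2, by omega⟩
    obtain ⟨f, h, hk⟩ := CE.of_quot (center H) le_rfl e
    have h3 : Nat.Coprime 3 (Nat.card f.ker) := by rw [hk, hc]; norm_num
    obtain ⟨X, hX, hX3⟩ := h.lift3 h3
    obtain ⟨i, j, hij, hne⟩ : ∃ i j, i ≠ j ∧ (X i * X j) ^ 2 ≠ 1 := by
      by_contra hn'
      push Not at hn'
      have e1 := (carm m X hX3 hn').2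
      have e2 := h.two_mul_index
      have e3 := f.ker.card_mul_index
      have e4 := h.sup_ker hX
      have e5 : 0 < Nat.card H := Nat.card_pos
      rw [hk] at e2 e3 e4
      refine hns (Subgroup.closure (Set.range X)) (isComplement'_of_disjoint_and_mul_eq_univ ?_ ?_)
      · rw [disjoint_iff]
        by_contra h0
        haveI : Fact (Nat.card (center H)).Prime := ⟨by rw [hc]; norm_num⟩
        have h4 := (eq_bot_or_eq_top_of_prime_card
          ((Subgroup.closure (Set.range X)).subgroupOf (center H))).resolve_left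
          (fun e => h0 (by rw [inf_comm]; exact disjoint_iff.1 (subgroupOf_eq_bot.1 e)))
        rw [sup_eq_left.2 (subgroupOf_eq_top.1 h4)] at e4
        rw [e4, card_top] at e1
        rw [hc] at e3
        omega
      · rw [← normal_mul, sup_comm, e4, coe_top]
    have key : ∀ x : H, orderOf x = 2 → x ∈ center H := by
      intro x hx
      rw [← hk]
      by_contra hfx
      have x2 : x ^ 2 = 1 := hx ▸ pow_orderOf_eq_one x
      have c1 := ct hn hfx (by rw [← map_pow, x2, map_one]) (h.sign_eq x)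
      have c2 := ct hn (σ := tc i * tc j) (by
        intro e
        have := DFunLike.congr_fun e (pa m)
        rw [tc_mul, Equiv.Perm.mul_apply, Equiv.swap_apply_of_ne_of_ne (pi_ne_pa j).symm (pa_ne_pb m),
          Equiv.swap_apply_right] at this
        exact pi_ne_pa i this) (tc_rel hij) (by rw [map_mul, sign_tc, sign_tc, one_mul])
      obtain ⟨σ, hσ⟩ := isConj_iff.1 (Equiv.Perm.isConj_iff_cycleType_eq.2 (c2.trans c1.symm))
      obtain ⟨τ, hτ, hτ'⟩ : ∃ τ, Equiv.Perm.sign τ = 1 ∧ τ * (tc i * tc j) * τ⁻¹ = f x := by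
        rcases Int.units_eq_one_or (Equiv.Perm.sign σ) with e | e
        · exact ⟨σ, e, hσ⟩
        · refine ⟨σ * Equiv.swap (pi' i) (pa m), by
            rw [map_mul, e, Equiv.Perm.sign_swap (pi_ne_pa i)]; simp, ?_⟩
          have : Commute (Equiv.swap (pi' i) (pa m)) (tc i * tc j) := by
            rw [tc_mul]
            exact (Commute.refl _).mul_right
              (swap_commute (pi_ne hij) (pi_ne_pb i) (pi_ne_pa j).symm (pa_ne_pb m))
          rw [← hσ, mul_assoc σ, this.eq]; group
      obtain ⟨g, rfl⟩ := h.lift hτ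
      obtain ⟨w, hw, e1⟩ := h.eq_mul (u := x) (v := g * (X i * X j) * g⁻¹) (by
        rw [← hτ', map_mul, map_mul, map_mul, map_inv, hX, hX])
      have w2 : w ^ 2 = 1 := by
        have := CE.pow_card hw
        rwa [hk, hc] at this
      rw [e1, (h.cen w hw _).symm.mul_pow, w2, mul_one, conj_pow] at x2
      exact hne (by simpa using x2)
    intro x y hx hy
    obtain ⟨w, -, hw⟩ := (Nat.card_eq_two_iff' (1 : center H)).1 hc
    have e1 := hw ⟨x, key x hx⟩ (fun e => by
      rw [show x = 1 from congrArg Subtype.val e, orderOf_one] at hx; omega)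
    have e2 := hw ⟨y, key y hy⟩ (fun e => by
      rw [show y = 1 from congrArg Subtype.val e, orderOf_one] at hy; omega)
    exact congrArg Subtype.val (e1.trans e2.symm)
  · obtain ⟨Γ, i1, i2, f, z, h, h1, h2, h3⟩ := exists_cover 6 (by norm_num)
    have hzc : center Γ = zpowers z := by
      rw [← h2]
      refine le_antisymm (fun g hg => ?_) fun g hg => mem_center_iff.2 fun x => (h.cen g hg x).symm
      have : (⟨f g, h.rng.le ⟨g, rfl⟩⟩ : alternatingGroup (Fin 8)) ∈ center _ := by
        rw [mem_center_iff]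
        rintro ⟨σ, hσ⟩
        obtain ⟨x, rfl⟩ := h.rng.ge hσ
        exact Subtype.ext (by simp only [coe_mul, ← map_mul, mem_center_iff.1 hg x])
      rw [alternatingGroup.center_eq_bot (by simp), mem_bot] at this
      exact congrArg Subtype.val this
    have z1 : z ≠ 1 := fun e => by rw [e, orderOf_one] at h1; omega
    refine ⟨Γ, i1, i2, ⟨by rw [hzc, Nat.card_zpowers, h1], h.quot_equiv _ (h2.trans hzc.symm),
      fun L hL => ?_⟩, ?_⟩
    · have := commutator_le_of_sup_central (K := L) (Z := center Γ)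
        (fun w hw x => (mem_center_iff.1 hw x).symm) (by rw [sup_comm]; exact hL.sup_eq_top)
      exact z1 (disjoint_def.1 hL.disjoint (hzc.ge (mem_zpowers z)) (this h3))
    have h3' : Nat.Coprime 3 (Nat.card f.ker) := by rw [h2, Nat.card_zpowers, h1]; norm_num
    obtain ⟨X, hX, hX3⟩ := h.lift3 h3'
    obtain ⟨c, c1, c2, c3⟩ := h.exists_c h3' hX hX3
    obtain ⟨g, hg⟩ := h.lift (σ := Equiv.swap 0 2 * Equiv.swap 6 3 * Equiv.swap 1 4 * Equiv.swap 7 5)
      (by decide)
    have cm : ∀ i : Fin 6, (i = 0 ∨ i = 1) → Commute (g * (X 0 * X 1) * g⁻¹) (X i) := by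
      intro i hi
      have : (g * (X 0 * X 1) * g⁻¹) * X i * (g * (X 0 * X 1) * g⁻¹)⁻¹ = X i :=
        h.uniq3 h3' (by
          simp only [map_mul, map_inv, hX, hg]
          rcases hi with rfl | rfl <;> decide +kernel) (by rw [conj_pow, hX3]; group) (hX3 i)
      exact mul_inv_eq_iff_eq_mul.1 this
    have cu : Commute (g * (X 0 * X 1) * g⁻¹) (X 0 * X 1) :=
      (cm 0 (Or.inl rfl)).mul_right (cm 1 (Or.inr rfl))
    have hf : f (g * (X 0 * X 1) * g⁻¹ * (X 0 * X 1)) ≠ 1 := by
      simp only [map_mul, map_inv, hX, hg]; decide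
    haveI : Fact (Nat.Prime 2) := ⟨Nat.prime_two⟩
    refine ⟨z, g * (X 0 * X 1) * g⁻¹ * (X 0 * X 1), fun e => hf (e ▸ h2.ge (mem_zpowers z)), h1,
      orderOf_eq_prime ?_ fun e => hf (by rw [e, map_one])⟩
    rw [cu.mul_pow, conj_pow, c3 0 1 (by decide), ← (h.cen c c1 g).eq, mul_inv_cancel_right, ← sq, c2]


end Cfsg.Agent.S0447
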