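import Cfsg.Statements.S0458
import Cfsg.Agent.H7.J3.G

set_option autoImplicit false
open Cfsg

namespace Cfsg.Agent.S0458

open CfsgH7 MulAction
open scoped Pointwise symmDiff
set_option maxRecDepth 100000
set_option Elab.async false


/-- Janko's third group exists as a transitive permutation group of degree 6156 with point stabiliser of order 8160: a simple group of order 50232960. -/
theorem result : ∃ H : Subgroup (Equiv.Perm (Fin 6156)), Cfsg.IsJ3 H ∧ MulAction.IsPretransitive H (Fin 6156) ∧ Nat.card (MulAction.stabilizer H (0 : Fin 6156)) = 8160 := by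
  obtain ⟨F, _, _, hF⟩ := gf4
  obtain ⟨ω, hω⟩ := Mx.exists_omega hF
  obtain ⟨_, -, -, b, _, W, t, -⟩ := J3.full hF hω
  have := J3.simple W t b
  have c := J3.hc W
  have d := (cl (W.gs J3.tsH) 6).index_mul_card
  rw [c, b] at d
  obtain ⟨K, e, f, g⟩ := perm_real (n := 6156) (cl (W.gs J3.tsH) 6) (by norm_num) (by omega)
  exact ⟨K, ⟨e.symm.isSimpleGroup, (Nat.card_congr e.toEquiv).symm.trans b⟩, f, g ▸ (Nat.card_congr (e.subgroupMap _).toEquiv).symm.trans c⟩

end Cfsg.Agent.S0458
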