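import Cfsg.Statements.S0460
import Cfsg.Agent.H7.ON.W
import Cfsg.Agent.H7.Iso2
import Cfsg.Agent.H7.Pr.J1
import Cfsg.Agent.H7.Pr.HS
import Cfsg.Agent.H7.J2.F
import Cfsg.Agent.H7.Fus2
import Cfsg.Agent.H3.J1b

set_option autoImplicit false
open Cfsg

namespace Cfsg.Agent.S0460

open CfsgH7 MulAction
open scoped Pointwise symmDiff
set_option maxRecDepth 100000
set_option Elab.async false

open CfsgPm.J1
variable {G Ω : Type*} [Group G] [MulAction G Ω]
def tsJ : List ℕ := [0x34105104710564314105101453050105130023, 0x315010503541015014134750164015014300023, 0x5417574010575101450101453014102015020025, 0x20510201410354101054101565010465614500025, 0x15641016463410141050101425315010500023, 0x50105135241010501410143747101475100023]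
theorem okJ : lall (okW ON.W.tb.n) tsJ = true := by decide +kernel
theorem qJ0 : lall (fun r => (ON.W.tb.rw tsJ).oneL [r]) PrJ1.R0 = true := by decide +kernel
theorem qJ1 : lall (fun r => (ON.W.tb.rw tsJ).oneL [r]) PrJ1.K1.T.rels = true := by decide +kernel
theorem qJ2 : lall (fun r => (ON.W.tb.rw tsJ).oneL [r]) PrJ1.K2.T.rels = true := by decide +kernel
theorem relJ (W : WT ON.W.tb G Ω) : ∀ r ∈ PrJ1.R2, ev8 (W.gs tsJ) r = 1 := rels_append (rels_append (((W.rw tsJ okJ).orc rfl).rels qJ0) (((W.rw tsJ okJ).orc rfl).rels qJ1)) (((W.rw tsJ okJ).orc rfl).rels qJ2)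
def tsM : List ℕ := [0x645601460105650101450143014520510140231501050002d, 0x5071056410146102510141025101410501014505213002c, 0x3501654701057541014102510140510142521305010513002e, 0x605101654610254101405010145301425205010513002a, 0x5010641654601430147750140510140105231501050002c, 0x5010513250104101504105664103410745714701050002c]
theorem okM : lall (okW ON.W.tb.n) tsM = true := by decide +kernel
theorem qM0 : lall (fun r => (ON.W.tb.rw tsM).oneL [r]) PrHS.R0 = true := by decide +kernel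
theorem qM1 : lall (fun r => (ON.W.tb.rw tsM).oneL [r]) PrHS.K1.T.rels = true := by decide +kernel
theorem qM2 : lall (fun r => (ON.W.tb.rw tsM).oneL [r]) PrHS.K2.T.rels = true := by decide +kernel
theorem relM (W : WT ON.W.tb G Ω) : ∀ r ∈ PrHS.R2, ev8 (W.gs tsM) r = 1 := rels_append (rels_append (((W.rw tsM okM).orc rfl).rels qM0) (((W.rw tsM okM).orc rfl).rels qM1)) (((W.rw tsM okM).orc rfl).rels qM2)
def yw (i : ℕ) : ℕ := List.getD [427362, 24920, 119957, 119957, 1582689, 1582689] i 1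
noncomputable def evM (w n : ℕ) : ℕ := Nat.rec c1 (fun i r => mm (evc (yw (w >>ₙ (4 *ₙ i) &ₙ 15))) r) n
theorem evM_val (w : ℕ) : ∀ n, (evN (fun i => ev (yw i)) w n).1.1 = toM (evM w n)
  | 0 => toM_c.1.symm
  | n + 1 => by
    change (ev (yw (dig w n))).1.1 * (evN (fun i => ev (yw i)) w n).1.1 = toM (mm _ (evM w n))
    rw [toM_mm, evM_val w n, ev_val]; rfl
theorem ry : ∀ r ∈ PrJ1.R2, ev8 (fun i => ev (yw i)) r = 1 := fun r hr => eq_of (by
  have h : lall (fun r => evM (r >>ₙ 8) (r &ₙ 255) =ₙ c1) PrJ1.R2 = true := by decide +kernel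
  rw [ev8, evM_val]
  exact (congrArg toM ((n_beq _ _).mp ((lall_iff _ _).mp h r hr))).trans toM_c.1)
theorem ty : cl (fun i => ev (yw i)) 6 = ⊤ := by
  have m : ∀ w n c (g : Spor.J1), TC.ltrs 6 w n = true → evM w n = c → g.1.1 = toM c →
      g ∈ cl (fun i => ev (yw i)) 6 := fun w n c g a b d =>
    (eq_of ((evM_val w n).trans (b ▸ d.symm)) : evN _ w n = g) ▸
      evN_mem fun i hi => mem_cl _ (TC.ltrs_spec a i hi)
  rw [eq_top_iff, ← Subgroup.map_le_map_iff_of_injective (Subgroup.subtype_injective _),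
    ← MonoidHom.range_eq_map, Subgroup.range_subtype]
  refine (Subgroup.closure_le _).mpr ?_
  rintro _ (rfl | rfl)
  · exact ⟨gX, m 0x1120404024211204040242 11 cx _ (by decide +kernel) (by decide +kernel) toM_c.2.1.symm, rfl⟩
  · exact ⟨gY, m 0x40200000402000 8 cy _ (by decide +kernel) (by decide +kernel) toM_c.2.2.symm, rfl⟩
theorem rel_of {B : Act G Ω} {x : ℕ → G} {xs R : List ℕ}
    (hx : ∀ i, B.Rep (x i) (B.F.lk xs i))
    (h : lall (fun r => force (B.F.evT xs (r >>ₙ 8) (r &ₙ 255)) B.F.isOne) R = true) :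
    ∀ r ∈ R, ev8 x r = 1 := fun r hr =>
  (Act.evT_rep hx _ _).isOne_iff.mpr ((force_eq _ _).symm.trans ((lall_iff _ _).mp h r hr))
def zs : List ℕ := [0x72eb72a1529d866a3d813b63048880, 0xa3aab7c0a455cc9b44723b26168900, 0x9de25732925d509b3da33854611200, 0xb2dd1bc2a154d327958d3928240cc0, 0x55ab4989c95c4247de08298ec1c9a0, 0x55ab4989c95c4247de08298ec1c9a0]
theorem ne (W : WT ON.W.tb G Ω) (a q : ℕ) (c : (okW ON.W.tb.n a &&ₙ okW ON.W.tb.n 0 &&ₙ okW ON.W.tb.n 0 &&ₙ okW ON.W.tb.n 0 &&ₙ (Nat.succ q ≤ₙ ON.W.tb.N) &&ₙ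
    bnot (trW ON.W.tb.U a (trW ON.W.tb.U 0 q) =ₙ trW ON.W.tb.U 0 (trW ON.W.tb.U 0 q))) = true) : W.ev a ≠ 1 := fun e =>
  W.not_eq2 c (by rw [e, W.ev_zero])
theorem isoJ : Nonempty (cl (ON.W.wt.gs tsJ) 6 ≃* Spor.J1) := by
  have := ON.W.finite
  have : Finite Spor.J1 := Nat.finite_of_card_ne_zero (by rw [card]; norm_num)
  have := simple
  exact iso_simple PrJ1.p2 (relJ ON.W.wt) ry (by norm_num) (ne ON.W.wt (tsJ.getD 0 0) 0 (by decide +kernel)) ty card
theorem isoM : Nonempty (cl (ON.W.wt.gs tsM) 6 ≃* Spor.M11) := by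
  have := ON.W.finite
  obtain ⟨z, hz⟩ := (Act.valid_of (pM11.good.siftAll (S := zs) (by decide +kernel))).exists_fun
  have := pM11.finite_top
  have := sM11
  have tz : cl z 6 = ⊤ := by
    rw [cl_take hz (k := 6) le_rfl, eq_top_iff, ← pM11.clo]
    exact Act.clo_le_of_slp (P := [(0, 1), (0, 0), (0, 5), (0, 4), (4, 1), (2, 1), (0, 0), (0, 12), (5, 6), (6, 1), (7, 1), (8, 4), (17, 14), (13, 1), (3, 1), (0, 15), (0, 0), (0, 5), (7, 1), (7, 5), (0, 0), (0, 3), (27, 23), (18, 0), (0, 2), (15, 1), (4, 12), (0, 0), (0, 3), (17, 21), (30, 1), (0, 5), (10, 32), (21, 31), (5, 1), (2, 1), (0, 10)]) (k := 43)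
      (Act.valid_of (pM11.good.siftAll (S := zs) (by decide +kernel))).mem_clo (by decide +kernel)
  exact iso_simple PrHS.p2 (relM ON.W.wt) (rel_of hz (by decide +kernel)) (by norm_num)
    (ne ON.W.wt (tsM.getD 0 0) 0 (by decide +kernel)) tz pM11.card_top

/-- The O'Nan group exists as a transitive permutation group of degree 122760: simple of order 460815505920, point stabiliser of order 3753792, and containing simple subgroups of orders 175560 and 7920. -/
theorem result : ∃ H : Subgroup (Equiv.Perm (Fin 122760)), Cfsg.IsON H ∧ MulAction.IsPretransitive H (Fin 122760) ∧ Nat.card (MulAction.stabilizer H (0 : Fin 122760)) = 3753792 ∧ (∃ K : Subgroup H, Cfsg.IsJ1 K) ∧ (∃ K : Subgroup H, Cfsg.IsM11 K) := by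
  have := ON.simple
  have := ON.W.finite
  obtain ⟨K, e, a, b⟩ := perm_real (n := 122760) _ (by norm_num) ON.rk.index_stab
  obtain ⟨f⟩ := isoJ
  obtain ⟨g⟩ := isoM
  have := simple
  have := sM11
  have f' := (e.subgroupMap _).symm.trans f
  have g' := (e.subgroupMap _).symm.trans g
  refine ⟨K, ⟨e.symm.isSimpleGroup, (Nat.card_congr e.toEquiv).symm.trans ON.card⟩, a, ?_,
    ⟨_, f'.isSimpleGroup, (Nat.card_congr f'.toEquiv).trans card⟩,
    ⟨_, g'.isSimpleGroup, (Nat.card_congr g'.toEquiv).trans pM11.card_top⟩⟩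
  rw [← b, ← Nat.card_congr (e.subgroupMap _).toEquiv]
  exact ON.cb.2.1

end Cfsg.Agent.S0460
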