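import Cfsg.Statements.S0462
import Cfsg.Agent.H7.He.Is

set_option autoImplicit false
open Cfsg

namespace Cfsg.Agent.S0462

open CfsgH7 MulAction
open scoped Pointwise symmDiff
set_option maxRecDepth 100000
set_option Elab.async false


/-- The Held group exists as a transitive permutation group of degree 2058: simple of order 4030387200, with point stabiliser containing, with index 2, a copy of the 4-dimensional symplectic group over the field with four elements. -/
theorem result : ∃ H : Subgroup (Equiv.Perm (Fin 2058)), Cfsg.IsHe H ∧ MulAction.IsPretransitive H (Fin 2058) ∧ ∃ (F : Type) (_ : Field F) (_ : Fintype F), Fintype.card F = 4 ∧ ∃ N : Subgroup (MulAction.stabilizer H (0 : Fin 2058)), N.index = 2 ∧ Nonempty (N ≃* Matrix.symplecticGroup (Fin 2) F) := by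
  obtain ⟨F, i1, i2, hF⟩ := gf4
  have := He.simple
  obtain ⟨K, e, a, b⟩ := perm_real (n := 2058) _ (by norm_num) He.rk.index_stab
  obtain ⟨N, -, c⟩ := He.iso hF
  exact ⟨K, ⟨e.symm.isSimpleGroup, (Nat.card_congr e.toEquiv).symm.trans He.card⟩, a, F, i1, i2, hF, sub_map e b ⟨N, c⟩⟩

end Cfsg.Agent.S0462
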