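import Cfsg.Statements.S0478
import Cfsg.Agent.H7.J3.G

set_option autoImplicit false
open Cfsg

namespace Cfsg.Agent.S0478

open CfsgH7 MulAction
open scoped Pointwise symmDiff
set_option maxRecDepth 100000
set_option Elab.async false


/-- A triple cover of Janko's third group inside a unitary group: for a field F with four elements, the special unitary group of dimension 9 (with respect to the form with q = 2) has a subgroup whose centre has order 3 and whose quotient by its centre is simple of order 50232960. -/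
theorem result : ∃ (F : Type) (_ : Field F) (_ : Fintype F), Fintype.card F = 4 ∧ ∃ H : Subgroup (Cfsg.SU 9 F 2), Nat.card (Subgroup.center H) = 3 ∧ Cfsg.IsJ3 (H ⧸ Subgroup.center H) := by
  obtain ⟨F, i1, i2, hF⟩ := gf4
  obtain ⟨ω, hω⟩ := Mx.exists_omega hF
  obtain ⟨E, -, he⟩ := Mx.enc4' hF hω
  obtain ⟨x0, a0⟩ := Mx.in_su E (n := 9) (by decide) (Equiv.refl _) hF (q := 2) hF (k := 8) (L := J3.L0) (by decide +kernel)
  obtain ⟨x1, a1⟩ := Mx.in_su E (n := 9) (by decide) (Equiv.refl _) hF (q := 2) hF (k := 8) (L := J3.L1) (by decide +kernel)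
  obtain ⟨x2, a2⟩ := Mx.in_su E (n := 9) (by decide) (Equiv.refl _) hF (q := 2) hF (k := 4) (L := J3.L2) (by decide +kernel)
  let x : ℕ → SU 9 F 2 := fun i => [x0, x1, x2].getD i 1
  obtain ⟨a, -, b, _, W, t, -⟩ := J3.gen E (Equiv.refl _) hF (by rw [he]; simpa using hω)
    (((Cfsg.slToMat 9 F).comp (SU 9 F 2).subtype).comp (cl x 3).subtype)
    (Subtype.val_injective.comp (Subtype.val_injective.comp Subtype.val_injective)) (x := sg x 3) (fun i hi => by
      show ((Cfsg.slToMat 9 F).comp (SU 9 F 2).subtype) (sg x 3 i) = _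
      rw [sg_coe x hi]
      interval_cases i
      exacts [a0, a1, a2]) (sg_top x 3)
  exact ⟨F, i1, i2, hF, cl x 3, a, J3.simple W t b, b⟩

end Cfsg.Agent.S0478
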