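import Cfsg.Statements.S0481
import Cfsg.Agent.H2.Large

set_option autoImplicit false
open Cfsg

namespace Cfsg.Agent.S0481
open Subgroup CfsgH2
open scoped commutatorElement

/-- Large extraspecial subgroups: let z be an involution of a finite group G whose centraliser C contains a normal 2-subgroup Q with centre of order 2 and all squares central, such that every element of G centralising Q lies in Q. Then C contains a Sylow 2-subgroup of G, and any involution of G whose centraliser contains a Sylow 2-subgroup of G is conjugate to z. -/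
theorem result {G : Type*} [Group G] [Finite G] (z : G) (hz : orderOf z = 2) (Q : Subgroup G) (hQC : Q ≤ Subgroup.centralizer ({z} : Set G)) (hQn : ∀ g ∈ Subgroup.centralizer ({z} : Set G), ∀ q ∈ Q, g * q * g⁻¹ ∈ Q) (hQ2 : IsPGroup 2 Q) (hZ : Nat.card (Subgroup.center Q) = 2) (hsq : ∀ x : Q, x ^ 2 ∈ Subgroup.center Q) (hlarge : Subgroup.centralizer (Q : Set G) ≤ Q) : (∃ P : Sylow 2 G, (P : Subgroup G) ≤ Subgroup.centralizer ({z} : Set G)) ∧ ∀ u : G, orderOf u = 2 → (∃ P : Sylow 2 G, (P : Subgroup G) ≤ Subgroup.centralizer ({u} : Set G)) → IsConj z u := by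
  have hzc : ∀ x ∈ Q, Commute z x := fun x hx => (mem_centralizer_singleton_iff'.1 (hQC hx)).symm
  have hzQ : z ∈ Q := hlarge (mem_centralizer_iff'.2 hzc)
  have h1 : centralizer (Q : Set G) = zpowers z := by
    symm
    refine eq_of_le_of_card_le (zpowers_le_of_mem (mem_centralizer_iff'.2 hzc)) ?_
    rw [← inf_eq_right.2 hlarge, ← map_center_eq_inf, card_map_of_injective Q.subtype_injective, hZ,
      Nat.card_zpowers, hz]
  obtain ⟨T, h2, h3⟩ := IsSylowIn.exists_le hQ2 (le_inf le_top hQC)
  have h4 : T ≤ centralizer {z} := h2.le.trans inf_le_right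
  have h5 : T ⊓ centralizer (T : Set G) = zpowers z :=
    le_antisymm (inf_le_right.trans (h1 ▸ centralizer_le h3)) (zpowers_le_of_mem
      ⟨h3 hzQ, mem_centralizer_iff'.2 fun x hx => (mem_centralizer_singleton_iff'.1 (h4 hx)).symm⟩)
  have h6 := sylow_of_cent hz h2 h5
  obtain ⟨P, hP⟩ := h6.of_top
  refine ⟨⟨P, hP ▸ h4⟩, fun u hu ⟨S, hS⟩ => ?_⟩
  obtain ⟨g, hg⟩ := exists_cj_sylow_eq S P
  have h7 : g * u * g⁻¹ ∈ centralizer (T : Set G) := by
    rw [← hP, ← hg, ← cj_centralizer]
    exact conj_mem_cj g (mem_centralizer_iff'.2 fun x hx => (mem_centralizer_singleton_iff'.1 (hS hx)).symm)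
  rcases (mem_zpowers_two hz).1 (h1 ▸ centralizer_le h3 h7) with e | e
  · exact absurd (by simpa using e) (ne_one_of_orderOf_two hu)
  · exact e ▸ (isConj_conj u g).symm


end Cfsg.Agent.S0481
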