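import Cfsg.Statements.S0499
import Mathlib
import Cfsg.Agent.H8.Small3

set_option autoImplicit false
open Cfsg

namespace Cfsg.Agent.S0499

/-- A non-abelian finite simple group of even order has order divisible by 12, 16 or 56. -/
theorem result {G : Type*} [Group G] [Finite G] [IsSimpleGroup G]
    (hG : ¬ IsMulCommutative G) (h2 : Even (Nat.card G)) :
    12 ∣ Nat.card G ∨ 16 ∣ Nat.card G ∨ 56 ∣ Nat.card G := by
  have S := CfsgH8.NAS.of_comm hG
  by_contra hn
  push Not at hn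
  obtain ⟨h12, h16, h56⟩ := hn
  obtain ⟨P⟩ : Nonempty (Sylow 2 G) := inferInstance
  obtain ⟨n, hn⟩ := P.isPGroup'.exists_card_eq
  have h1 : 2 ^ n ∣ Nat.card G := hn ▸ Subgroup.card_subgroup_dvd_card _
  have h3 : n < 4 := by
    by_contra h
    exact h16 ((pow_dvd_pow 2 (not_lt.mp h)).trans h1)
  refine S.not_npc Nat.prime_two h2.two_dvd (CfsgH2.hasNPC_of_arith P hn fun q hq q2 hd c c1 c2 h => ?_)
  have : c = 1 ∨ c = 2 ∨ c = 3 := by omega
  rcases this with rfl | rfl | rfl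
  · exact hq.one_lt.ne' (Nat.dvd_one.mp h)
  · obtain rfl := (Nat.prime_dvd_prime_iff_eq hq Nat.prime_three).mp h
    exact h12 ((by norm_num : Nat.Coprime 4 3).mul_dvd_of_dvd_of_dvd ((pow_dvd_pow 2 c2).trans h1) hd)
  · obtain rfl := (Nat.prime_dvd_prime_iff_eq hq (by norm_num : Nat.Prime 7)).mp h
    exact h56 ((by norm_num : Nat.Coprime 8 7).mul_dvd_of_dvd_of_dvd ((pow_dvd_pow 2 c2).trans h1) hd)

end Cfsg.Agent.S0499
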