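import Cfsg.Statements.S0493
import Cfsg.Agent.S0499
import Cfsg.Agent.H8.Small2
import Cfsg.Agent.H1.GAut

set_option autoImplicit false
open Cfsg

namespace Cfsg.Agent.S0493

/-- A finite simple group of order at most 100 that is not cyclic has order 60. -/
theorem result {G : Type*} [Group G] [Finite G] [IsSimpleGroup G]
    (hG : ¬ IsCyclic G) (h : Nat.card G ≤ 100) : Nat.card G = 60 := by
  open Subgroup CfsgH1 CfsgFT CfsgH2 CfsgH8 in
  have S := NAS.of_cyclic hG
  have he : Even (Nat.card G) := by
    by_contra h0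
    haveI := solv_of_odd (H := (⊤ : Subgroup G)) (by rw [card_top]; exact Nat.not_even_iff_odd.1 h0)
    exact S.not_solv (CfsgH1.isSolvable_of_equiv topEquiv)
  have h1 := Cfsg.Agent.S0499.result (G := G) (fun h => by
    obtain ⟨a, b, hab⟩ := S.na; exact hab (h.is_comm.comm a b)) he
  have h2 := S.not_pq (a := 6) (b := 2) Nat.prime_two Nat.prime_three
  have h3 := S.not_pq (a := 6) (b := 1) Nat.prime_two Nat.prime_five
  have h4 := S.not_pq (a := 6) (b := 1) Nat.prime_two (by norm_num : Nat.Prime 7)
  have h5 : Nat.card G ≠ 84 := fun e => by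
    haveI : Fact (Nat.Prime 7) := ⟨by norm_num⟩
    obtain ⟨a, b, c, -⟩ := S.sylow (p := 7) (a := 1) (k := 12) e (by norm_num) one_ne_zero
    have := Nat.le_of_dvd (by norm_num) a
    generalize Nat.card (Sylow 7 G) = n at *
    interval_cases n <;> omega
  have := Nat.card_pos (α := G)
  generalize Nat.card G = n at *
  interval_cases n <;> omega

end Cfsg.Agent.S0493
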