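import Cfsg.Statements.S0496
import Cfsg.Agent.H1.BlkJ
import Cfsg.Agent.H1.Big

set_option autoImplicit false
open Cfsg

namespace Cfsg.Agent.S0496

open CfsgH8 CfsgH1 Subgroup

/-- A non-abelian finite simple group of order at most 1092 has order 60, 168, 360, 504, 660 or 1092. -/
theorem result {G : Type*} [Group G] [Finite G] [IsSimpleGroup G]
    (hG : ¬ IsMulCommutative G) (h : Nat.card G ≤ 1092) :
    Nat.card G = 60 ∨ Nat.card G = 168 ∨ Nat.card G = 360 ∨ Nat.card G = 504 ∨ Nat.card G = 660 ∨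
      Nat.card G = 1092 := by
  have := Fintype.ofFinite G
  have S : NAS G := .of_comm hG
  have nc : ¬ IsCyclic G := fun _ => hG inferInstance
  have two : Fact (Nat.Prime 2) := ⟨Nat.prime_two⟩
  have ev : Even (Nat.card G) := Nat.not_odd_iff_even.1 fun o => S.not_solv (CfsgPF.feit_thompson o)
  obtain ⟨T⟩ : Nonempty (Sylow 2 G) := inferInstance
  have m3 : Nat.card G % 4 = 0 ∧ (Nat.card G % 8 = 0 ∨ Nat.card G % 3 = 0) := by
    by_cases h8 : 8 ∣ Nat.card G
    · omega
    · have a := card_subgroup_dvd_card T.1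
      have b : 3 ∣ Nat.card G := (S0992.result hG ev h8 T).2 ▸ (relIndex_dvd_card _ _).trans (card_subgroup_dvd_card _)
      rw [(S0992.result hG ev h8 T).1.card_four] at a
      omega
  by_cases hb : ∃ p, p.Prime ∧ p ∣ Nat.card G ∧ Nat.card G < p ^ 3
  · obtain ⟨p, hp, hd, hb⟩ := hb
    have p2 : ¬ p ≤ 3 := fun k => by
      have := hp.two_le
      refine S.not_pq (a := 4) (b := 2) Nat.prime_two Nat.prime_three ?_
      have a := S.not_pq (a := 3) (b := 1) Nat.prime_two (by norm_num : Nat.Prime 5)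
      have : Nat.card G < 27 := hb.trans_le (Nat.pow_le_pow_left k 3)
      have := Nat.card_pos (α := G)
      generalize Nat.card G = n at *
      interval_cases n <;> omega
    have o := hp.eq_two_or_odd.resolve_left (by omega)
    have p14 : p < 18 := by_contra fun k => by
      have a := Nat.gcd_le_left (m := 2) (p - 1) (by norm_num)
      have b := Nat.gcd_le_left (m := 2) (p - 1 - 1) (by norm_num)
      have c : 18 * 17 * 19 ≤ p * (p - 1) * (p + 1) := by gcongr <;> omega
      have d : 17 * 16 * 18 ≤ (p - 1) * (p - 1 - 1) * (p - 1 + 1) := by gcongr <;> omega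
      rcases Big.big nc hp hd hb with e | ⟨-, e⟩ <;> nlinarith
    rcases Big.big nc hp hd hb with e | ⟨⟨m, k⟩, e⟩
    · generalize Nat.card G = n at *
      interval_cases p <;> first | (norm_num at hp; done) | (norm_num at e; omega)
    · have : m < 5 := by_contra fun l => by have := Nat.pow_le_pow_right (n := 2) (by norm_num) (by omega : 5 ≤ m); omega
      generalize Nat.card G = n at *
      interval_cases m <;> subst k <;> first | (norm_num at hp; done) | (norm_num at e; omega) | omega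
  push Not at hb
  obtain ⟨a, b, c, d, e⟩ : ∃ a b c d, Nat.card G = 2 ^ a * 3 ^ b * 5 ^ c * 7 ^ d := by
    refine ⟨(Nat.card G).factorization 2, (Nat.card G).factorization 3, (Nat.card G).factorization 5, (Nat.card G).factorization 7, (Nat.prod_factorization_pow_eq_self Nat.card_pos.ne').symm.trans
      ((Finsupp.prod_of_support_subset _ (s := {2, 3, 5, 7}) (fun p k => ?_) _ (by simp)).trans (by simp [-Nat.card_eq_fintype_card, mul_assoc]))⟩
    obtain ⟨h1, h2, -⟩ := Nat.mem_primeFactors.1 k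
    have := hb p h1 h2
    have : p < 11 := by_contra fun l => by have := Nat.pow_le_pow_left (by omega : 11 ≤ p) 3; omega
    interval_cases p <;> first | decide | norm_num at h1
  have h7 := hb 7 (by norm_num)
  have h5 := hb 5 (by norm_num)
  have key : ∀ n ∈ List.range 1093, n % 4 = 0 → n % 8 = 0 ∨ n % 3 = 0 → n ∣ 2 ^ 10 * 3 ^ 6 * 5 ^ 4 * 7 ^ 3 →
      ¬ n ∣ 2 ^ 10 * 3 ^ 6 → ¬ n ∣ 2 ^ 10 * 5 ^ 4 → ¬ n ∣ 2 ^ 10 * 7 ^ 3 → (7 ∣ n → 7 ^ 3 ≤ n) → (5 ∣ n → 5 ^ 3 ≤ n) →
      n ∈ [360, 504, 180, 240, 300, 420, 480, 540, 560, 588, 600, 672, 720, 756, 840, 900, 960, 1008, 1080] := by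
    decide +kernel
  have bd : ∀ {p k m : ℕ}, 1 < p → p ^ k ∣ Nat.card G → 1092 < p ^ (m + 1) → p ^ k ∣ p ^ m := fun l k j =>
    pow_dvd_pow _ (Nat.le_of_lt_succ ((Nat.pow_lt_pow_iff_right l).1 (((Nat.le_of_dvd Nat.card_pos k).trans h).trans_lt j)))
  have := key _ (List.mem_range.2 (by omega)) m3.1 m3.2 (e ▸ mul_dvd_mul (mul_dvd_mul (mul_dvd_mul
    (bd (by norm_num) ⟨3 ^ b * 5 ^ c * 7 ^ d, by rw [e]; ring⟩ (by norm_num))
    (bd (by norm_num) ⟨2 ^ a * 5 ^ c * 7 ^ d, by rw [e]; ring⟩ (by norm_num)))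
    (bd (by norm_num) ⟨2 ^ a * 3 ^ b * 7 ^ d, by rw [e]; ring⟩ (by norm_num)))
    (bd (by norm_num) ⟨2 ^ a * 3 ^ b * 5 ^ c, by rw [e]; ring⟩ (by norm_num)))
    (S.not_pq Nat.prime_two Nat.prime_three) (S.not_pq Nat.prime_two (by norm_num)) (S.not_pq Nat.prime_two (by norm_num))
    h7 h5
  have s3 := fun (p q r a b k : ℕ) hp hq hr h1 h2 h3 => S.sc3 (p := p) (q := q) (r := r) (a := a) (b := b) (k := k)
    hp hq hr h1 h2 h3
  have n5 : Nat.Prime 5 := by norm_num
  have n7 : Nat.Prime 7 := by norm_num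
  have n2 := Nat.prime_two
  have n3 := Nat.prime_three
  simp only [List.mem_cons, List.not_mem_nil, or_false] at this
  rcases this with e | e | e | e | e | e | e | e | e | e | e | e | e | e | e | e | e | e | e
  · omega
  · omega
  all_goals exfalso
  · exact absurd (s3 2 3 5 2 2 36 n2 n3 n5 (by omega) (by omega) (by omega) e rfl) (by decide +kernel)
  · exact absurd (s3 2 3 5 4 1 48 n2 n3 n5 (by omega) (by omega) (by omega) e rfl) (by decide +kernel)
  · exact absurd (s3 2 5 3 2 2 100 n2 n5 n3 (by omega) (by omega) (by omega) e rfl) (by decide +kernel)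
  · exact BlkJ.not420 S (.inl e)
  · exact absurd (s3 2 3 5 5 1 96 n2 n3 n5 (by omega) (by omega) (by omega) e rfl) (by decide +kernel)
  · exact absurd (s3 2 3 5 2 3 108 n2 n3 n5 (by omega) (by omega) (by omega) e rfl) (by decide +kernel)
  · exact absurd (s3 2 5 7 4 1 80 n2 n5 n7 (by omega) (by omega) (by omega) e rfl) (by decide +kernel)
  · exact absurd (s3 2 7 3 2 2 196 n2 n7 n3 (by omega) (by omega) (by omega) e rfl) (by decide +kernel)
  · exact absurd (s3 2 5 3 3 2 200 n2 n5 n3 (by omega) (by omega) (by omega) e rfl) (by decide +kernel)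
  · exact absurd (s3 2 3 7 5 1 96 n2 n3 n7 (by omega) (by omega) (by omega) e rfl) (by decide +kernel)
  · exact BlkJ.not4 S (a := 4) (b := 2) e (by simp [-Nat.card_eq_fintype_card, e])
  · exact BlkJ.not756 S e
  · exact BlkJ.not420 S (.inr e)
  · have : Fact (Nat.Prime 5) := ⟨n5⟩
    obtain ⟨h1, h2, h3, h4, h5⟩ := S.sylow (p := 5) (a := 2) (k := 36) e (by norm_num) (by norm_num)
    have h6 := h5 le_rfl
    have := Nat.le_of_dvd (by norm_num) h1
    rw [e] at h4
    generalize Nat.card (Sylow 5 G) = n at *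
    clear * - h1 h2 h3 h4 h6 this
    interval_cases n <;> first | omega | (revert h4; decide +kernel) | (revert h2; decide) | skip
  · exact absurd (s3 2 3 5 6 1 192 n2 n3 n5 (by omega) (by omega) (by omega) e rfl) (by decide +kernel)
  · exact absurd (s3 2 3 7 4 2 144 n2 n3 n7 (by omega) (by omega) (by omega) e rfl) (by decide +kernel)
  · exact absurd (s3 2 3 5 3 3 216 n2 n3 n5 (by omega) (by omega) (by omega) e rfl) (by decide +kernel)

end Cfsg.Agent.S0496
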