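import Cfsg.Statements.S3035
import Mathlib
import Cfsg.Agent.H8.BSW6
import Cfsg.Agent.H5.LinMat

set_option autoImplicit false
open Cfsg

namespace Cfsg.Agent.S3035

open CfsgH8 CfsgH2 Subgroup

theorem half {G : Type*} [Group G] [Finite G] {a b : G} (h : MC (centralizer {a ^ (2 : ℤ) ^ (0 + 1)}) a b (-1) 0 0)
    (hS : IsSylowIn 2 (centralizer ({a ^ (2 : ℤ) ^ (0 + 1)} : Set G)) ⊤) {j : ℤ}
    (h0 : Act (centralizer {a ^ (2 : ℤ) ^ (0 + 1)}) a b j) (h1 : ¬ Act (centralizer {a ^ (2 : ℤ) ^ (0 + 1)}) a b (j + 1)) :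
    Nonempty (G ≃* Equiv.Perm (Fin 4)) ∨ Nonempty (G ≃* Equiv.Perm (Fin 5)) := by
  classical
  have := Fintype.ofFinite G
  have := Fintype.ofFinite (pResidual 2 G)
  have h8 := Or.inr (a := 1 ≤ 0) h.dih_sq
  have a1 := h.res_half hS h8 h0 h1
  have a2 := h.res_index hS h8 h0 h1
  have a3 := h.act_conj_z h8 h0 (h.dih_sq j)
  have hz := h.orderOf_z
  have kl := h.klein_of (h.dih_sq j)
  have k4 := (isKleinFour_iff.1 kl).1
  have zH : a ^ (2 : ℤ) ^ (0 + 1) ∈ pResidual 2 G := (a1.ge (h.z_mem_half j)).2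
  have a4 : centralizer ({⟨_, zH⟩} : Set (pResidual 2 G)) = (closure {a ^ (2 : ℤ), a ^ j * b}).subgroupOf _ := by
    ext x; rw [← a1]; simp [mem_centralizer_singleton_iff, mem_subgroupOf, Subtype.ext_iff]
  obtain ⟨e⟩ := h.half_dihedral (h.dih_sq j)
  have a5 := subgroupOfEquivOfLe (a1.ge.trans inf_le_right)
  obtain ⟨s, K, B⟩ := bw_of_dih (z := (⟨_, zH⟩ : pResidual 2 G)) (by rwa [← Subgroup.orderOf_coe])
    ⟨le_top, a4 ▸ (isPGroup_of_kleinFour kl).of_equiv a5.symm, by
      rw [a4, relIndex_top_right, ← a1]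
      exact (hS.inf_of_normalizer' le_top (normalizer_eq_top_iff.2 inferInstance).ge).not_dvd⟩ le_rfl
    ((MulEquiv.subgroupCongr a4).trans (a5.trans e)) no_index_two_pResidual
  obtain ⟨q, b1, b2, -⟩ := B.psl'.{0}
  have b3 := B.card_H
  rw [a4, Nat.card_congr a5.toEquiv, show Nat.card (closure {a ^ (2 : ℤ), a ^ j * b}) = 4 from k4] at b3
  have b4 := card_mul_index (pResidual 2 G)
  rw [a2] at b4
  have nm : ∀ N : Subgroup G, N.Normal → N ≠ ⊥ → ∀ v, IsConj (a ^ (2 : ℤ) ^ (0 + 1)) v → v ∈ N := fun N hN N0 v hv => by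
    refine mem_of_isConj hv ?_
    by_cases c : 2 ∣ Nat.card N
    · obtain ⟨t, ht⟩ := exists_prime_orderOf_dvd_card' (G := N) 2 c
      rcases h.conj_invol hS (t := t) (by rwa [Subgroup.orderOf_coe]) with c | ⟨i, -, c⟩
      · exact mem_of_isConj c.symm t.2
      · have := mem_of_isConj c.symm t.2
        have := N.mul_mem (mem_of_isConj (h.isConj_out (j := i + 2) (by simp)) this) this
        rw [h.mul_eq] at this
        convert this using 2; ring
    have od : ∀ v, IsConj (a ^ (2 : ℤ) ^ (0 + 1)) v → N ⊓ centralizer {v} = ⊥ := fun v hv => by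
      obtain ⟨g, rfl⟩ := isConj_iff.1 hv
      rw [← cj_centralizer_singleton]
      exact eq_bot_iff.2 fun x hx => eq_one_of_mem_pgroup_of_coprime (IsPGroup_cj hS.pgroup g) hx.2
        (coprime_orderOf_of_not_dvd_card c hx.1)
    have iv := fun i hi => CfsgH1.inverts_of_fpf (K := N) (normalizer_eq_top_iff.2 hN ▸ mem_top _) (h.dih_sq i) (od _ hi)
    refine absurd (eq_bot_iff.2 fun x hx => od _ (IsConj.refl _) ▸ mem_inf.2 ⟨hx, mem_centralizer_singleton_iff.2 ?_⟩) N0
    have e1 : a ^ (2 : ℤ) ^ (0 + 1) = a ^ (j + 2) * b * (a ^ j * b) := by rw [h.mul_eq]; congr 1; ring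
    rw [e1, eq_comm, ← mul_inv_eq_iff_eq_mul, show ∀ u v : G, u * v * x * (u * v)⁻¹ = u * (v * x * v⁻¹) * u⁻¹ by
      intros; group, iv j a3 x hx, iv _ (a3.trans (h.isConj_out (by simp))) _ (inv_mem hx), inv_inv]
  obtain rfl | rfl : q = 3 ∨ q = 5 := by omega
  · have hG : Nat.card G = 3 ^ 1 * 8 := by omega
    have := Fact.mk Nat.prime_three
    obtain ⟨P⟩ : Nonempty (Sylow 3 G) := inferInstance
    obtain ⟨c1, c2⟩ := card_sylow_eq hG (by norm_num) P
    have c3 := P.card_dvd_index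
    have c4 : Nat.card (Sylow 3 G) % 3 = 1 := card_sylow_modEq_one 3 G
    rw [sylow_idx P, c2] at *
    have c5 : (normalizer (P.1 : Set G)).index ≠ 1 := fun c => by
      have := P.1.orderOf_dvd_natCard (nm _ (normalizer_eq_top_iff.1 (index_eq_one.1 c))
        (fun e => by simp [e] at c1) _ (IsConj.refl _))
      rw [hz, c1] at this; omega
    have c6 : (normalizer (P.1 : Set G)).index = 4 := by
      have := Nat.le_of_dvd (by norm_num) c3
      interval_cases (normalizer (P.1 : Set G)).index <;> omega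
    refine Or.inl (perm_of_index c6 (by_contra fun c => ?_) hG)
    have := card_dvd_of_le (((closure_le _).2 (Set.pair_subset (nm _ inferInstance c _ (IsConj.refl _))
      (nm _ inferInstance c _ a3))).trans (normalCore_le _))
    have c7 := card_mul_index (normalizer (P.1 : Set G))
    rw [c6] at c7
    rw [k4] at this
    omega
  · have c1 := (h.klein_index (h.half_le j) kl).resolve_left fun c => not_oddAct_of_two c ((h.dih_act_iff j).1 h0)
    have c2 : centralizer (closure {a ^ (2 : ℤ) ^ (0 + 1), a ^ j * b} : Set G) = closure {a ^ (2 : ℤ) ^ (0 + 1), a ^ j * b} :=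
      le_antisymm (fun x hx => h.inf_centralizer_sub le_rfl j ⟨centralizer_le (Set.singleton_subset_iff.2
        (h.z_mem_half j)) hx, hx⟩) fun x hx => mem_centralizer_iff.2 fun y hy => IsKleinFour_comm kl hy hx
    have c3 := card_mul_relIndex (centralizer_le_normalizer (closure {a ^ (2 : ℤ) ^ (0 + 1), a ^ j * b} : Set G))
    erw [c1, c2, k4] at c3
    have c4 := card_mul_index (normalizer (closure {a ^ (2 : ℤ) ^ (0 + 1), a ^ j * b} : Set G))
    rw [← c3] at c4
    refine Or.inr (perm_of_index (H := normalizer (closure {a ^ (2 : ℤ) ^ (0 + 1), a ^ j * b} : Set G)) (by omega)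
      (by_contra fun c => ?_) (show _ = 120 by omega))
    have c5 := index_le_card (x := a ^ (2 : ℤ) ^ (0 + 1)) (s := Finset.univ.filter (· ∈ normalizer
      (closure {a ^ (2 : ℤ) ^ (0 + 1), a ^ j * b} : Set G) ⊓ pResidual 2 G)) fun g => Finset.mem_filter.2
      ⟨Finset.mem_univ _, normalCore_le _ (nm _ inferInstance c _ (isConj_iff.2 ⟨g, rfl⟩)),
        (pResidual_normal 2 G).conj_mem _ zH g⟩
    rw [← Fintype.card_subtype, ← Nat.card_eq_fintype_card] at c5
    have c6 := card_mul_index (centralizer ({a ^ (2 : ℤ) ^ (0 + 1)} : Set G))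
    rw [h.card_eq] at c6
    have := c5.trans (Nat.le_of_dvd (by norm_num) (Nat.dvd_gcd (c3 ▸ card_dvd_of_le inf_le_left)
      ((show Nat.card (pResidual 2 G) = 60 by omega) ▸ card_dvd_of_le inf_le_right)))
    rw [show Nat.gcd (4 * 6) 60 = 12 from rfl] at this
    omega

theorem sl32 : Nonempty (Matrix.ProjectiveSpecialLinearGroup (Fin 2) (ZMod 7) ≃*
    Matrix.SpecialLinearGroup (Fin 3) (ZMod 2)) := by
  have := Fact.mk (show Nat.Prime 7 by norm_num)
  have h1 : center (Matrix.SpecialLinearGroup (Fin 3) (ZMod 2)) = ⊥ :=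
    card_eq_one.1 (by rw [CfsgH5.card_center_SL]; simp)
  have := CfsgH5.isSimple_PSL (ι := Fin 3) (F := ZMod 2) (Or.inl (by simp))
  have : IsSimpleGroup (Matrix.SpecialLinearGroup (Fin 3) (ZMod 2)) :=
    ((QuotientGroup.quotientMulEquivOfEq h1).trans QuotientGroup.quotientBot).symm.isSimpleGroup
  have h2 : Nat.card (Matrix.SpecialLinearGroup (Fin 3) (ZMod 2)) = 168 := by
    have := CfsgH5.card_SL_mul (ι := Fin 3) (F := ZMod 2)
    rw [Matrix.card_GL_field] at this
    simpa [Fin.prod_univ_three] using this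
  obtain ⟨e⟩ := ((NAS.of_card (by rw [h2]; norm_num)).psl_of_card (p := 7) (d := 3) (by norm_num) h2
    (by norm_num)).2 (ZMod 7) (Nat.card_zmod 7)
  exact ⟨e.symm⟩

/-- Let G be a finite group with an involution z whose centralizer is dihedral of order 8. Then G = C_G(z) O(G) with O(G) the largest normal subgroup of odd order, or G is isomorphic to the symmetric group of degree 4, the symmetric group of degree 5, the group SL₃(2), or the alternating group of degree 6. -/
theorem result {G : Type*} [Group G] [Finite G] (z : G) (hz : orderOf z = 2)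
    (hC : Nonempty (↥(Subgroup.centralizer ({z} : Set G)) ≃* DihedralGroup 4)) :
    Subgroup.centralizer ({z} : Set G) ⊔ Cfsg.oddCore G = ⊤ ∨ Nonempty (G ≃* Equiv.Perm (Fin 4)) ∨ Nonempty (G ≃* Equiv.Perm (Fin 5)) ∨
      Nonempty (G ≃* Matrix.SpecialLinearGroup (Fin 3) (ZMod 2)) ∨ Nonempty (G ≃* ↥(alternatingGroup (Fin 6))) := by
  have := Fintype.ofFinite G
  obtain ⟨e⟩ := hC
  have c : Nat.card (centralizer ({z} : Set G)) = 2 ^ 3 := by rw [Nat.card_congr e.toEquiv, DihedralGroup.nat_card]; rfl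
  obtain ⟨a, b, r, h, h1, hS, rfl⟩ := mc_of_cent hz (IsPGroup.of_card c) (by norm_num) e
  obtain rfl : r = 0 := by have := Nat.pow_right_injective le_rfl (show 2 ^ 2 = _ from h1); omega
  by_cases h0 : Act (centralizer {a ^ (2 : ℤ) ^ (0 + 1)}) a b 0 <;>
    by_cases h1 : Act (centralizer {a ^ (2 : ℤ) ^ (0 + 1)}) a b 1
  · rcases d8_cases hz e (pResidual_two_eq_top_iff.1 (h.res_top hS (Or.inr h.dih_sq) h0 h1)) with c | ⟨⟨e1⟩⟩
    · simp [c]
    · obtain ⟨e2⟩ := sl32
      exact Or.inr (Or.inr (Or.inr (Or.inl ⟨e1.trans e2⟩)))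
  · rcases half h hS h0 h1 with c | c <;> simp [c]
  · rcases half h hS h1 fun c => h0 (h.act_shift (by norm_num) c) with c | c <;> simp [c]
  · left
    rw [eq_top_iff, ← hS.sup_resIn, resIn_top]
    exact sup_le_sup_left (CfsgH1.le_pPrimeCore ((Nat.Prime.coprime_iff_not_dvd Nat.prime_two).2
      (hasNPC_iff.1 (h.res_none hS h0 h1))).symm) _

end Cfsg.Agent.S3035
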