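import Cfsg.Statements.S3224
import Cfsg.Agent.H2.MaxClass

set_option autoImplicit false
open Cfsg

namespace Cfsg.Agent.S3224
open Subgroup CfsgH2
open scoped commutatorElement

/-- A finite 2-group containing an involution whose centralizer has order 4 is dihedral, quasi-dihedral (semidihedral), or of order 4. -/
theorem result {S : Type*} [Group S] [Finite S] (hS : IsPGroup 2 S)
    (x : S) (hx : orderOf x = 2) (hC : Nat.card ↥(Subgroup.centralizer ({x} : Set S)) = 4) :
    (∃ n : ℕ, Nonempty (S ≃* DihedralGroup n)) ∨ Cfsg.IsQuasiDihedral S ∨ Nat.card S = 4 := by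
  obtain ⟨n, hn⟩ := hS.exists_card_eq
  by_cases h4 : Nat.card S = 4
  · exact Or.inr (Or.inr h4)
  have h1 : 3 ≤ n := by
    have := card_le_card_group (centralizer ({x} : Set S))
    rw [hC, hn] at this
    rw [hn] at h4
    rcases n with _ | _ | _ | n <;> simp_all
  obtain ⟨a, b, r, h | h | ⟨hr, h⟩⟩ := isMC_of_class hn h1 (class_of_centralizer' hn (by omega) hC.le)
  · exact Or.inl ⟨_, h.dihedral.map topEquiv.symm.trans⟩
  · exfalso
    obtain ⟨i, e | e⟩ := (h.mem x).1 (mem_top x)
    · rw [h.invol_eq_z (t := x) (e ▸ zpow_mem (mem_zpowers a) i) hx, centralizer_eq_top_iff_subset.2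
        (by simpa [← centralizer_univ] using h.z_central), Subgroup.card_top] at hC
      exact h4 hC
    · have := h.orderOf_out_four (h.quat_sq i)
      rw [← e, hx] at this; omega
  · exact Or.inr (Or.inl (qd_of_idx2_top (r := r + 1) (by omega) h.ord h.toIdx2))


end Cfsg.Agent.S3224
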