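import Cfsg.Statements.S0497
import Cfsg.Agent.S3035
import Cfsg.Agent.S3224
import Cfsg.Agent.S0215
import Cfsg.Agent.H8.Small3
import Cfsg.Agent.H1.Cores

set_option autoImplicit false
open Cfsg

namespace Cfsg.Agent.S0497

open CfsgH8 Subgroup

/-- A simple group of order 360 is isomorphic to the alternating group of degree 6. -/
theorem result {G : Type*} [Group G] [Finite G] [IsSimpleGroup G]
    (h : Nat.card G = 360) : Nonempty (G ≃* alternatingGroup (Fin 6)) := by
  classical
  have S := NAS.of_card (G := G) (by rw [h]; norm_num)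
  haveI : Fact (Nat.Prime 5) := ⟨by norm_num⟩
  haveI := Fact.mk Nat.prime_two
  have c6 : Nat.card (alternatingGroup (Fin 6)) = 360 := by rw [nat_card_alternatingGroup]; simp; decide
  obtain ⟨x, e, c, hx, h1, h2, h3, h4, -, h6⟩ := S.sylow1 (p := 5) (k := 72) h (by norm_num)
  obtain ⟨d5, m5, g1, -⟩ := S.sylow (p := 5) (a := 1) (k := 72) h (by norm_num) one_ne_zero
  by_cases n6 : Nat.card (Sylow 5 G) = 6
  · haveI := S.faithful_quot (H := normalizer (zpowers x : Set G)) fun k => by rw [k, index_top] at h1; omega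
    obtain ⟨f, hf⟩ := S.embed_alt (Finite.equivFinOfCardEq (h1.symm.trans n6))
    exact ⟨MulEquiv.ofBijective f ((Nat.bijective_iff_injective_and_card f).2 ⟨hf, h.trans c6.symm⟩)⟩
  obtain ⟨rfl, rfl⟩ : e = 2 ∧ c = 1 := by
    have := Nat.le_of_dvd (by norm_num) d5
    generalize Nat.card (Sylow 5 G) = n at *
    obtain rfl : n = 36 := by interval_cases n <;> omega
    have k : e * c = 2 := by nlinarith
    have := Nat.le_of_dvd two_pos ⟨c, k.symm⟩
    obtain rfl : e = 2 := by omega
    omega
  have hC : centralizer {x} = zpowers x :=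
    (eq_of_le_of_card_ge (zpowers_le.2 (mem_centralizer_singleton_iff.2 rfl)) (by rw [h3, Nat.card_zpowers, hx])).symm
  obtain ⟨m, m2, -, hm⟩ := S.dihedral (by norm_num) (by norm_num) hx hC (hC ▸ h2)
  obtain ⟨P⟩ : Nonempty (Sylow 2 G) := inferInstance
  have cP : Nat.card P = 8 := (card_sylow_eq (a := 3) (k := 45) h (by norm_num) P).1
  have cen : ∀ u : P, orderOf u = 2 → u ∈ center P → centralizer {(u : G)} = P := fun u hu k => by
    have le : P.1 ≤ centralizer {(u : G)} := fun s hs => mem_centralizer_singleton_iff.2 (congrArg Subtype.val (mem_center_iff.1 k ⟨s, hs⟩))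
    obtain ⟨k, -, k1, k2⟩ := hm u ((orderOf_coe u).trans hu)
    have a := cP ▸ card_dvd_of_le le
    have b := h ▸ card_subgroup_dvd_card (centralizer {(u : G)})
    refine (eq_of_le_of_card_ge le ?_).symm
    rw [h] at k2
    generalize Nat.card (centralizer {(u : G)}) = c at *
    have : c ≤ 16 := by
      by_contra! l
      have := Nat.pow_le_pow_left l 2
      have := Nat.pow_le_pow_left k1.le 2
      nlinarith [Nat.mul_le_mul_left (m * (m + 1)) (Nat.pow_le_pow_left l 2)]
    rw [cP]
    interval_cases c <;> omega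
  haveI : Nontrivial P := Finite.one_lt_card_iff_nontrivial.1 (by omega)
  haveI := P.2.center_nontrivial
  obtain ⟨⟨t, tc⟩, ht⟩ := exists_prime_orderOf_dvd_card' 2 ((P.2.to_subgroup (center P)).card_eq_or_dvd.resolve_left Finite.one_lt_card.ne')
  rw [← orderOf_coe] at ht
  have ht' : orderOf (t : G) = 2 := (orderOf_coe t).trans ht
  by_cases A : ∀ u : P, orderOf u = 2 → u ∈ center P
  · have N : normalizer (P.1 : Set G) ≤ P := by
      by_contra k
      obtain ⟨r, hr, r3, rd⟩ : ∃ r : ℕ, r.Prime ∧ (r = 3 ∨ r = 5) ∧ r ∣ Nat.card (normalizer (P.1 : Set G)) := by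
        have a := cP ▸ card_dvd_of_le (le_normalizer (H := P.1))
        have b := h ▸ card_subgroup_dvd_card (normalizer (P.1 : Set G))
        have c : ¬ Nat.card (normalizer (P.1 : Set G)) ≤ 8 := fun l => k (eq_of_le_of_card_ge le_normalizer (cP ▸ l)).ge
        obtain ⟨j, hj⟩ := a
        rw [hj] at b c ⊢
        have b' : j ∣ 45 := Nat.dvd_of_mul_dvd_mul_left (by norm_num : 0 < 8) b
        have := Nat.le_of_dvd (by norm_num) b'
        by_cases l : 3 ∣ j
        · exact ⟨3, by norm_num, .inl rfl, l.mul_left _⟩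
        · exact ⟨5, by norm_num, .inr rfl, Dvd.dvd.mul_left (by interval_cases j <;> omega) _⟩
      haveI := Fact.mk hr
      obtain ⟨y, hy⟩ := exists_prime_orderOf_dvd_card' r rd
      haveI := Fintype.ofFinite P
      have := Equiv.Perm.card_fixedPoints_modEq (f := MulAction.toEndHom (α := P) (P.1.normalizerMonoidHom y)) (p := r) (n := 1)
        (by rw [← map_pow, ← map_pow, pow_one, ← hy, pow_orderOf_eq_one, map_one, map_one])
      simp only [← Nat.card_eq_fintype_card] at this
      suffices z : ∀ u : P, P.1.normalizerMonoidHom y u = u → u = 1 by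
        rw [cP, Nat.card_eq_one_iff_exists.2 ⟨⟨1, map_one (P.1.normalizerMonoidHom y)⟩, fun ⟨u, hu⟩ => Subtype.ext (z u hu)⟩] at this
        rcases r3 with rfl | rfl <;> exact absurd this (by decide)
      intro u hu
      by_contra u1
      have o := orderOf_pow_orderOf_div (orderOf_pos u).ne' (P.2.dvd_orderOf u1)
      have f : P.1.normalizerMonoidHom y (u ^ (orderOf u / 2)) = u ^ (orderOf u / 2) := by rw [map_pow]; exact congrArg (· ^ _) hu
      have y1 : y.1 ∈ P.1 := (cen _ o (A _ o)).le (mem_centralizer_singleton_iff.2 (eq_mul_of_mul_inv_eq (congrArg Subtype.val f)))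
      have := Subgroup.orderOf_dvd_natCard _ y1
      rw [cP, orderOf_coe, hy] at this
      rcases r3 with rfl | rfl <;> omega
    obtain ⟨K, hK, o, k⟩ := S0215.result P t ht' t.2 fun g hg => by
      have o : orderOf (⟨_, hg⟩ : P) = 2 := (orderOf_coe _).symm.trans (((MulAut.conj g).orderOf_eq _).trans ht')
      have a := cen _ o (A _ o)
      have gn : g ∈ normalizer (P.1 : Set G) := mem_normalizer_iff.2 fun s => by
        refine ((SetLike.ext_iff.1 (cen t ht tc) s).symm.trans ?_).trans (SetLike.ext_iff.1 a _)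
        simp [mem_centralizer_singleton_iff, mul_assoc]
        simp [← mul_assoc]
      have : g ∈ centralizer {(t : G)} := (cen t ht tc).ge (N gn)
      exact mul_inv_eq_of_eq_mul (mem_centralizer_singleton_iff.1 this)
    rcases hK.eq_bot_or_eq_top with rfl | rfl
    · simp [S.eq_one_of_central (z := t) fun g => by simpa [mul_inv_eq_iff_eq_mul] using k g] at ht'
    · rw [card_top, h] at o; exact absurd o (by decide)
  push Not at A
  obtain ⟨u, hu, uc⟩ := A
  have c4 : Nat.card (centralizer {u}) = 4 := by
    have a := cP ▸ card_subgroup_dvd_card (centralizer {u})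
    have b : Nat.card (centralizer {u}) ≠ 8 := fun k => uc (mem_center_iff.2 fun s =>
      mem_centralizer_singleton_iff.1 ((eq_top_of_card_eq _ (k.trans cP.symm)).ge trivial))
    haveI := Fintype.ofFinite (centralizer {u})
    have c : 2 < Nat.card (centralizer {u}) := Nat.card_eq_fintype_card (α := centralizer {u}) ▸ Fintype.two_lt_card_iff.2
      ⟨1, ⟨u, mem_centralizer_singleton_iff.2 rfl⟩, ⟨t, mem_centralizer_singleton_iff.2 (mem_center_iff.1 tc u).symm⟩,
        fun k => by simp [show u = 1 from (congrArg Subtype.val k).symm] at hu, fun k => by simp [show t = 1 from (congrArg Subtype.val k).symm] at ht,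
        fun k => uc (by rwa [show u = t from congrArg Subtype.val k])⟩
    have := Nat.le_of_dvd (by norm_num) a
    generalize Nat.card (centralizer {u}) = d at *
    interval_cases d <;> omega
  rcases S3224.result P.2 u hu c4 with ⟨n, ⟨f⟩⟩ | ⟨n, a, b, -⟩ | k
  · obtain rfl : n = 4 := by have := Nat.card_congr f.toEquiv; rw [cP, DihedralGroup.nat_card] at this; omega
    rcases S3035.result (t : G) ht' ⟨(MulEquiv.subgroupCongr (cen t ht tc)).trans f⟩ with k | ⟨⟨k⟩⟩ | ⟨⟨k⟩⟩ | ⟨⟨k⟩⟩ | k
    · rw [S.eq_bot (N := oddCore G) fun l => CfsgH1.not_dvd_card_pPrimeCore 2 G (by rw [show pPrimeCore 2 G = ⊤ from l, card_top, h]; norm_num), sup_bot_eq, cen t ht tc] at k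
      exact absurd k (S.sylow_ne_top P)
    · have := Nat.card_congr k.toEquiv; rw [h, Nat.card_perm] at this; exact absurd this (by simp [Nat.factorial])
    · have := Nat.card_congr k.toEquiv; rw [h, Nat.card_perm] at this; exact absurd this (by simp [Nat.factorial])
    · have := card_dvd_of_injective (Matrix.SpecialLinearGroup.toGL.comp k.toMonoidHom) (Matrix.SpecialLinearGroup.toGL_injective.comp k.injective)
      rw [h, Matrix.card_GL_field] at this; exact absurd this (by decide)
    · exact k
  · have := Nat.pow_le_pow_right two_pos (show 4 ≤ n + 1 by omega); omega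
  · omega

end Cfsg.Agent.S0497
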