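import Cfsg.Statements.S0502
import Cfsg.Agent.H9.Conn

set_option autoImplicit false
open Cfsg

namespace Cfsg.Agent.S0502

/-- If a finite 2-group has a normal elementary abelian subgroup of order at least 8, then any two of its Klein
four-subgroups are joined by a chain of Klein four-subgroups with consecutive members commuting elementwise. -/
theorem result {P : Type*} [Group P] [Finite P] (hP : IsPGroup 2 P)
    (E : Subgroup P) [E.Normal] (hE : IsMulCommutative E) (hE2 : ∀ e ∈ E, e ^ 2 = 1) (hE8 : 8 ≤ Nat.card E) :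
    Cfsg.IsFourConnected P := by
  open Subgroup CfsgH1 CfsgH2 CfsgH9 CfsgFT in
    have h := kconn_iff.1 (kconn_of_big hP (A := E) ⟨hE, hE2⟩ (by omega))
    intro U V hU hV
    have k : ∀ X Y : Subgroup P, VCn (EV 2 2) X Y → EV 2 2 X → ∀ U ≤ X, IsKleinFour U → ∀ V ≤ Y, IsKleinFour V →
        VCn (fun A => IsKleinFour A) U V := fun X Y h hX U l u => by
      induction h with
      | refl => exact fun V l' v => .single ⟨u, v, fun a ha b hb => (ea_iff.1 hX.1).1 a (l ha) b (l' hb)⟩
      | @tail Y Z _ h ih =>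
        intro V l' v
        obtain ⟨W, w⟩ := le_rk_iff.1 (h.1.le_rk le_rfl)
        have kw := klein_iff.2 ⟨w.ea, w.card⟩
        exact (ih W w.le kw).tail ⟨kw, v, fun a ha b hb => h.2.2 a (w.le ha) b (l' hb)⟩
    have e : ∀ U : Subgroup P, IsKleinFour U → EV 2 2 U := fun U h => ⟨(klein_iff.1 h).1, (klein_iff.1 h).2.ge⟩
    exact k U V (h U V (e U hU) (e V hV)) (e U hU) U le_rfl hU V le_rfl hV

end Cfsg.Agent.S0502
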