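import Cfsg.Statements.S0508
import Mathlib
import Cfsg.Agent.H8.BSW5

set_option autoImplicit false
open Cfsg

namespace Cfsg.Agent.S0508

open Subgroup CfsgH8 CfsgH2

/-- Let G be a finite simple group with a dihedral Sylow 2-subgroup S (of order at least 4), t an involution in the
centre of S, C the centralizer of t and O the core of C (its largest normal subgroup of odd order). Suppose that: if O
is nontrivial then the centralizer of O in S is cyclic of index 2 in S; every element of S not centralizing O inverts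
every element of O; and the normalizer of every nontrivial subgroup of O lies in C. Then G is isomorphic to a projective
special linear group of dimension 2 over a field of odd order. -/
theorem result {G : Type*} [Group G] [Finite G] [IsSimpleGroup G] (S : Sylow 2 G) (n : ℕ)
    (hn : 2 ≤ n) (hS : Nonempty ((S : Subgroup G) ≃* DihedralGroup n)) (t : G) (ht : orderOf t = 2)
    (htS : t ∈ (S : Subgroup G))
    (htZ : ∀ s ∈ (S : Subgroup G), s * t = t * s) (O : Subgroup G)
    (hO : O = (Cfsg.oddCore (Subgroup.centralizer ({t} : Set G))).map (Subgroup.centralizer ({t} : Set G)).subtype)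
    (ha : O ≠ ⊥ → IsCyclic ((S : Subgroup G) ⊓ Subgroup.centralizer (O : Set G) : Subgroup G) ∧
      ((S : Subgroup G) ⊓ Subgroup.centralizer (O : Set G)).relIndex (S : Subgroup G) = 2)
    (hb : ∀ s ∈ (S : Subgroup G), s ∉ Subgroup.centralizer (O : Set G) → ∀ y ∈ O, s * y * s⁻¹ = y⁻¹)
    (hc : ∀ Y : Subgroup G, Y ≤ O → Y ≠ ⊥ → Subgroup.normalizer (Y : Set G) ≤ Subgroup.centralizer ({t} : Set G)) :
    ∃ (F : Type) (_ : Field F) (_ : Fintype F), Odd (Fintype.card F) ∧ Nonempty (G ≃* Matrix.ProjectiveSpecialLinearGroup (Fin 2) F) := by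
  have := Fintype.ofFinite G
  obtain ⟨e⟩ := hS
  have hS := IsSylowIn.of_sylow_top S
  obtain ⟨σ, τ, m, h, rfl⟩ := ds_of_central hS hn e ht htS (mem_centralizer_iff.2 htZ)
  have hO' : O = resIn 2 (centralizer ({σ ^ m} : Set G)) := by
    refine le_antisymm (fun x hx => mem_resIn_of_coprime ?_ ?_) (hO ▸ CfsgH1.le_map_pPrimeCore (resIn_le _)
      (le_normalizer_resIn _) (odd_card_resIn (h.npc ht)).coprime_two_right)
    · rw [hO] at hx; exact map_subtype_le _ hx
    · exact (CfsgH1.coprime_card_map_pPrimeCore _).coprime_dvd_left (Subgroup.orderOf_dvd_natCard _ (hO ▸ hx))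
  have k : σ ∈ centralizer (O : Set G) ∧ ∀ y ∈ O, τ * y * τ⁻¹ = y⁻¹ := by
    by_cases c : O = ⊥
    · simp [c, mem_centralizer_iff]
    obtain ⟨a1, a2⟩ := ha c
    obtain ⟨a, a3⟩ := (isCyclic_iff_exists_zpowers_eq_top.1 a1)
    have a4 : zpowers (a : G) = S.1 ⊓ centralizer (O : Set G) := by
      rw [← Subgroup.coe_subtype, ← MonoidHom.map_zpowers, a3, ← MonoidHom.range_eq_map, range_subtype]
    have a5 := card_mul_relIndex (inf_le_left (a := S.1) (b := centralizer (O : Set G)))
    rw [a2, h.idx.card, ← a4, Nat.card_zpowers] at a5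
    have a6 : S.1 ⊓ centralizer (O : Set G) = zpowers σ := by
      obtain ⟨i, c | c⟩ := (h.idx.mem a).1 a.2.1
      · exact a4 ▸ eq_of_le_of_card_le (zpowers_le.2 ⟨i, c.symm⟩) (by rw [Nat.card_zpowers, Nat.card_zpowers]; omega)
      · have : σ ^ m ∈ zpowers (a : G) := a4.ge ⟨htS, mem_centralizer_iff.2 fun y hy =>
          mem_centralizer_singleton_iff.1 (resIn_le _ (hO'.le hy))⟩
        have := invol_uniq this (mem_zpowers _) ht (c ▸ h.ord_refl i)
        exact absurd (this.trans c) (by simpa using h.idx.pow_ne m i)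
    exact ⟨(a6 ▸ mem_zpowers σ : σ ∈ S.1 ⊓ _).2, hb τ h.idx.b_mem fun c => h.idx.notMem (a6 ▸ ⟨h.idx.b_mem, c⟩)⟩
  obtain ⟨F, _, _, h1, h2⟩ := (h.bw (fun x hx => conj_of_no_index_two hS hn e (index_ne_two_of_simple fun c => by
    have := Nat.le_of_dvd Nat.card_pos (card_subgroup_dvd_card S.1)
    have := h.pos
    rw [h.idx.card, h.ord] at *
    omega) ht hx) hO' (mem_centralizer_iff.1 k.1) k.2 fun y hy y1 => le_trans (fun g hg => mem_normalizer_of_cj_le (by
      rw [cj_zpowers, mem_centralizer_singleton_iff.1 hg, mul_inv_cancel_right])) (hc _ (zpowers_le.2 hy) (by simpa))).psl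
  exact ⟨F, _, _, Nat.odd_iff.2 (by omega), h2⟩

end Cfsg.Agent.S0508
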