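import Cfsg.Statements.S0516
import Cfsg.Agent.H4.Hat2
import Cfsg.Agent.H2.ZStar
import Cfsg.Agent.FT.PF14c
import Cfsg.Agent.Lead.Sm11

set_option autoImplicit false
open Cfsg

namespace Cfsg.Agent.S0516
open Subgroup CfsgH2 CfsgH4

/-- In a non-abelian finite simple group of 2-rank at most 2, a Sylow 2-subgroup is dihedral (of order at least 4),
quasi-dihedral, wreathed, or isomorphic to a Sylow 2-subgroup of the projective special unitary group of dimension 3
over the field with 16 elements. -/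
theorem result {G : Type*} [Group G] [Finite G] [IsSimpleGroup G]
    (hG : ¬ IsMulCommutative G) (h2 : Cfsg.PRankLE 2 2 G) (S : Sylow 2 G) {F : Type*} [Field F] [Fintype F]
    (hF : Fintype.card F = 16) (P : Sylow 2 (Cfsg.PSU 3 F 4)) :
    (∃ n : ℕ, 2 ≤ n ∧ Nonempty ((S : Subgroup G) ≃* DihedralGroup n)) ∨ Cfsg.IsQuasiDihedral (S : Subgroup G) ∨
      Cfsg.IsWreathed (S : Subgroup G) ∨ Nonempty ((S : Subgroup G) ≃* (P : Subgroup (Cfsg.PSU 3 F 4))) := by
  have hev : 2 ∣ Nat.card G := by
    by_contra h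
    have := CfsgPF.feit_thompson (G := G) (not_two_dvd_iff_odd.1 h)
    exact hG ⟨⟨IsSimpleGroup.comm_iff_isSolvable.2 this⟩⟩
  have hiso : ∀ z : G, ¬ IsIsolatedInvolution z := fun z hz => by
    have hO : pPrimeCore 2 G = ⊥ := by
      refine (inferInstance : (pPrimeCore 2 G).Normal).eq_bot_or_eq_top.resolve_right fun e => ?_
      have := CfsgH1.not_dvd_card_pPrimeCore 2 G
      rw [e, card_top] at this
      exact this hev
    have h1 := zstar_center hz hO
    rcases (inferInstance : (center G).Normal).eq_bot_or_eq_top with e | e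
    · rw [e, mem_bot] at h1
      exact ne_one_of_orderOf_two hz.1 h1
    · exact hG ⟨⟨fun a b => mem_center_iff.1 (e ▸ mem_top b) a⟩⟩
  have h1 : ¬ PRankLE 2 1 G := fun h => by
    obtain ⟨z, hz⟩ := exists_prime_orderOf_dvd_card' 2 hev
    refine hiso z ⟨hz, fun g hg => ?_⟩
    by_contra hne
    have hk := isKleinFour_closure hz ((orderOf_conj' g z).trans hz) (Ne.symm hne) hg
    have := h _ ⟨⟨fun a b => Subtype.ext (IsKleinFour_comm hk a.2 b.2)⟩⟩ fun a ha => by
      rw [pow_two]; exact (isKleinFour_iff.1 hk).2 a ha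
    rw [(isKleinFour_iff.1 hk).1] at this
    omega
  rcases CfsgFS.s1238 h2 h1 hiso S hF P with h | h | h | ⟨n, hn, ⟨e⟩⟩ | h
  · exact Or.inl h
  · exact Or.inr (Or.inl h)
  · exact Or.inr (Or.inr (Or.inl h))
  · obtain ⟨V, hV⟩ := ak_of_equiv (by omega) e
    refine absurd (not_simple_homocyclic hV (IsSylowIn.of_sylow_top S) ?_) hG
    rw [Nat.card_congr e.toEquiv]
    obtain ⟨k, rfl⟩ := Nat.exists_eq_add_of_le' hn
    simp only [Nat.card_eq_fintype_card, Fintype.card_multiplicative, Fintype.card_prod, ZMod.card,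
      pow_succ]
    have := Nat.one_le_two_pow (n := k)
    nlinarith
  · exact Or.inr (Or.inr (Or.inr h))

end Cfsg.Agent.S0516
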