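import Cfsg.Statements.S0519
import Cfsg.Agent.H2.CycSCN

set_option autoImplicit false
open Cfsg

namespace Cfsg.Agent.S0519
open Subgroup CfsgH2
open scoped commutatorElement

/-- Let P be a finite p-group in which every abelian normal subgroup is cyclic, but which has a non-cyclic abelian
subgroup. Then p = 2 and P is generalized quaternion, dihedral of order at least 16, or quasi-dihedral. -/
theorem result {P : Type*} [Group P] [Finite P] (p : ℕ) [Fact p.Prime]
    (hP : IsPGroup p P) (hn : ∀ A : Subgroup P, A.Normal → IsMulCommutative A → IsCyclic A)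
    (hm : ∃ B : Subgroup P, IsMulCommutative B ∧ ¬ IsCyclic B) :
    p = 2 ∧ ((∃ n : ℕ, Nonempty (P ≃* QuaternionGroup n)) ∨ (∃ n : ℕ, 8 ≤ n ∧ Nonempty (P ≃* DihedralGroup n)) ∨
      Cfsg.IsQuasiDihedral P) := by
  obtain ⟨B, hB, hB'⟩ := hm
  have hna : ¬ IsMulCommutative P := fun h =>
    hB' (isCyclic_of_le' (hn ⊤ inferInstance (isMulCommutative_top_iff.2 h)) le_top)
  obtain ⟨A, -, -, h1, h2, h3⟩ := exists_scn (hP.to_subgroup ⊤) le_rfl le_normalizer (A₀ := ⊥) bot_le
    (by rw [normalizer_eq_top]) inferInstance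
  haveI : A.Normal := normalizer_eq_top_iff.1 (top_le_iff.1 h1)
  obtain ⟨u, rfl⟩ := isCyclic_iff_zpowers.1 (hn A inferInstance h2)
  rw [top_inf_eq, centralizer_zpowers'] at h3
  rcases cyc_scn hP hna u (le_antisymm h3 (zpowers_le.2 (mem_centralizer_singleton_iff.2 rfl))) with
    ⟨h4, -, a, b, r, h | h | ⟨hr, h⟩⟩ | ⟨-, h4, h5, h6⟩
  · refine ⟨h4, Or.inr (Or.inl ⟨_, ?_, h.dihedral.map topEquiv.symm.trans⟩)⟩
    rcases r with _ | r
    · exfalso
      have h5 := h.inf_normalizer (s := 0) le_rfl 0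
      rw [top_inf_eq, pow_zero, zpow_one, ← (h.toIdx2.shift 0).eq_closure] at h5
      have h6 := h.klein_of (h.dih_sq 0)
      exact h6.not_isCyclic (hn _ (normalizer_eq_top_iff.1 h5)
        (isMulCommutative_of_forall fun x hx y hy => IsKleinFour_comm h6 hx hy))
    · have : 0 < 2 ^ r := by positivity
      rw [pow_add, pow_add]; omega
  · exact ⟨h4, Or.inl ⟨_, h.quaternion.map topEquiv.symm.trans⟩⟩
  · exact ⟨h4, Or.inr (Or.inr (qd_of_idx2_top (r := r + 1) (by omega) h.ord h.toIdx2))⟩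
  · exact absurd (hn _ inferInstance h4.1) (CfsgFT.not_isCyclic_of_elem (p := p) (k := 2) (H := ⊤)
      ⟨le_top, h4, h5⟩ le_rfl)


end Cfsg.Agent.S0519
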