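import Cfsg.Statements.S0520
import Cfsg.Agent.H9.Conn

set_option autoImplicit false
open Cfsg

namespace Cfsg.Agent.S0520

/-- Let G be a finite group of 2-rank at least 2 and S a Sylow 2-subgroup whose commuting graph of Klein four-subgroups is
connected. Then the commuting graph of Klein four-subgroups of G is disconnected if and only if the 2-generated core — the
subgroup generated by the normalizers N_G(Q) of the subgroups Q of S that contain a Klein four-group — is a proper
subgroup of G. -/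
theorem result {G : Type*} [Group G] [Finite G] (h2 : ¬ Cfsg.PRankLE 2 1 G)
    (S : Sylow 2 G) (hS : Cfsg.IsFourConnected (S : Subgroup G)) :
    ¬ Cfsg.IsFourConnected G ↔
      (⨆ Q : {Q : Subgroup G // Q ≤ (S : Subgroup G) ∧ ¬ Cfsg.PRankLE 2 1 Q},
          Subgroup.normalizer ((Q : Subgroup G) : Set G)) ≠ ⊤ := by
  open Subgroup CfsgH1 CfsgH2 CfsgH9 CfsgFT in
    have s := IsSylowIn.of_sylow_top S
    have km : ∀ {H K : Type _} [Group H] [Finite H] [Group K] [Finite K] (f : H →* K), Function.Injective f → ∀ A : Subgroup H,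
        IsKleinFour A → IsKleinFour (A.map f) := fun f hf A a =>
      klein_iff.2 ⟨ea_map (klein_iff.1 a).1 f, by rw [card_map_of_injective hf, (klein_iff.1 a).2]⟩
    have ex : ∀ Q : Subgroup G, ¬ PRankLE 2 1 Q ↔ ∃ A ≤ Q, IsKleinFour A := fun Q => by
      rw [not_pRankLE_iff, le_rk_iff]
      exact ⟨fun ⟨A, a⟩ => ⟨A, a.le, klein_iff.2 ⟨a.ea, a.card⟩⟩, fun ⟨A, l, a⟩ => ⟨A, l, (klein_iff.1 a).1, (klein_iff.1 a).2⟩⟩
    obtain ⟨U, l, u⟩ := (ex S).1 (by rwa [← rk_le_iff, rk_sylow s, rk_top_le_iff])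
    have ks : ∀ A ≤ (S : Subgroup G), IsKleinFour A → IsKleinFour (A.subgroupOf S) := fun A l a =>
      klein_iff.2 ⟨ea_subgroupOf (klein_iff.1 a).1, by rw [card_subgroupOf_of_le l, (klein_iff.1 a).2]⟩
    refine not_congr (vcn_iff (V := fun A => IsKleinFour A) (fun A g a => km _ (MulAut.conj g).injective A a)
      (fun A a => ea_isPGroup (klein_iff.1 a).1) s u l (fun A l' a => ?_)
      (fun Q l a => le_iSup (fun Q : {Q : Subgroup G // Q ≤ (S : Subgroup G) ∧ ¬ PRankLE 2 1 Q} => N((Q : Subgroup G)))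
        ⟨Q, l, (ex Q).2 a⟩) fun H hH => iSup_le fun Q => hH _ Q.2.1 ((ex _).1 Q.2.2))
    have := VCn.map' (V := fun A => IsKleinFour A) (W := fun A => IsKleinFour A) (S : Subgroup G).subtype
      (km _ (subtype_injective _)) (hS _ _ (ks A l' a) (ks U l u))
    rwa [map_subgroupOf_eq_of_le l', map_subgroupOf_eq_of_le l] at this

end Cfsg.Agent.S0520
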