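import Cfsg.Statements.S0530
import Cfsg.Agent.H1.Super

set_option autoImplicit false
open Cfsg

namespace Cfsg.Agent.S0530

/-- A finite group whose order is twice a prime power is supersolvable. -/
theorem result {G : Type*} [Group G] [Finite G] (p n : ℕ) (hp : p.Prime) (hG : Nat.card G = 2 * p ^ n) : Cfsg.IsSupersolvable G := by
  refine CfsgH1.ss_iff.2 ?_
  have := Fact.mk hp
  by_cases h2 : p = 2
  · subst h2
    have := (IsPGroup.of_card (p := 2) (G := G) (n := n + 1) (by rw [hG, pow_succ'])).isNilpotent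
    exact CfsgH1.ss_of_nilpotent
  obtain ⟨P, hP⟩ := Sylow.exists_subgroup_card_pow_prime (G := G) p (n := n) (hG ▸ Dvd.intro_left _ rfl)
  have hi : P.index = 2 := by
    have := P.index_mul_card
    rw [hP, hG] at this
    exact Nat.eq_of_mul_eq_mul_right (pow_pos hp.pos n) this
  have := Subgroup.normal_of_index_eq_two hi
  obtain ⟨K, hK⟩ := Subgroup.exists_right_complement'_of_coprime (N := P) (by
    rw [hP, hi]; exact ((Nat.coprime_primes hp Nat.prime_two).2 h2).pow_left n)
  have hc : Nat.card K = 2 := hK.symm.index_eq_card.symm.trans hi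
  have := (IsPGroup.of_card (p := 2) (G := G ⧸ P) (n := 1) (by rw [pow_one]; exact hi)).isNilpotent
  refine CfsgH1.ss_of_abelian_action (IsPGroup.of_card hP) hK.sup_eq_top CfsgH1.ss_of_nilpotent ?_
    fun a ha => ?_
  · rw [CfsgFT.comm_eq_bot (CfsgFT.comm_of_cyclic (CfsgFT.cyclic_of_card_prime (hc ▸ Nat.prime_two)))]
    exact bot_le
  · obtain ⟨k, hk⟩ := (hp.even_sub_one h2).two_dvd
    have : a ^ 2 = 1 := hc ▸ congrArg Subtype.val (pow_card_eq_one' (x := (⟨a, ha⟩ : K)))
    rw [hk, pow_mul, this, one_pow]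
    exact one_mem _

end Cfsg.Agent.S0530
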