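import Cfsg.Statements.S0534
import Cfsg.Agent.H1.Fact

set_option autoImplicit false
open Cfsg

namespace Cfsg.Agent.S0534

/-- Let G be a finite solvable group and A a finite abelian group such that every prime dividing the order of A divides the order of G and, for each prime p dividing the order of G, the exponent of p in the order of A is one less than its exponent in the order of G. Then G × A has a subgroup of every order dividing its order. -/
theorem result {G A : Type*} [Group G] [CommGroup A] [Finite G] [Finite A] [Group.IsSolvable G] (hA : ∀ p : ℕ, p.Prime → p ∣ Nat.card A → p ∣ Nat.card G) (hexp : ∀ p : ℕ, p.Prime → p ∣ Nat.card G → (Nat.card A).factorization p + 1 = (Nat.card G).factorization p) : Cfsg.HasSubgroupOfEveryOrder (G × A) := by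
  intro d hd
  have hd0 : d ≠ 0 := fun e => by
    rw [e, zero_dvd_iff] at hd; exact Nat.card_pos.ne' hd
  obtain ⟨H, hH⟩ := CfsgFT.exists_hall (CfsgH1.isSolvable_top (⊤ : Subgroup G))
    {p | (Nat.card G).factorization p ≤ d.factorization p}
  have e := H.index_mul_card
  have hi : H.index ≠ 0 := Subgroup.index_ne_zero_of_finite
  have hf : ∀ p, (Nat.card G).factorization p = H.index.factorization p + (Nat.card H).factorization p :=
    fun p => by rw [← e, Nat.factorization_mul hi Nat.card_pos.ne', Finsupp.add_apply]
  have h1 : Nat.card H ∣ d := by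
    rw [← Nat.factorization_le_iff_dvd Nat.card_pos.ne' hd0]
    intro p
    by_cases hp : p.Prime ∧ p ∣ Nat.card H
    · have := hH.isPi p hp.1 hp.2
      have h2 := hf p
      simp only [Set.mem_setOf_eq] at this
      omega
    · rw [Nat.factorization_eq_zero_iff _ _ |>.2 (by tauto)]; exact Nat.zero_le _
  obtain ⟨c, rfl⟩ := h1
  have hc0 : c ≠ 0 := fun e => hd0 (by rw [e, mul_zero])
  have h2 : c ∣ Nat.card A := by
    rw [← Nat.factorization_le_iff_dvd hc0 Nat.card_pos.ne']
    intro p
    by_cases hp : p.Prime
    swap
    · rw [Nat.factorization_eq_zero_of_not_prime _ hp]; exact Nat.zero_le _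
    have h3 := (Nat.factorization_le_iff_dvd hd0 Nat.card_pos.ne').2 hd p
    rw [Nat.card_prod, Nat.factorization_mul Nat.card_pos.ne' Nat.card_pos.ne', Finsupp.add_apply] at h3
    have h4 : (Nat.card H * c).factorization p = (Nat.card H).factorization p + c.factorization p := by
      rw [Nat.factorization_mul Nat.card_pos.ne' hc0, Finsupp.add_apply]
    have h5 := hf p
    by_cases h6 : (Nat.card G).factorization p ≤ (Nat.card H * c).factorization p
    · have := Nat.factorization_eq_zero_of_not_dvd (hH.not_dvd hp h6)
      rw [Subgroup.relIndex_top_right] at this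
      omega
    · have := hexp p hp (Nat.dvd_of_factorization_pos (by omega))
      omega
  obtain ⟨B, hB⟩ := (CfsgH1.ss_of_nilpotent (G := A)).clt c h2
  exact ⟨H.prod B, by rw [Nat.card_congr (Subgroup.prodEquiv H B).toEquiv, Nat.card_prod, hB]⟩

end Cfsg.Agent.S0534
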