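import Cfsg.Statements.S0535
import Cfsg.Agent.H1.Fact

set_option autoImplicit false
open Cfsg

namespace Cfsg.Agent.S0535

/-- Suppose that for every nontrivial subgroup H of a finite group and every prime p dividing the order of H there is a proper subgroup of H whose index in H is a power of p. Then the group is solvable. -/
theorem result {G : Type*} [Group G] [Finite G] (h : ∀ H : Subgroup G, H ≠ ⊥ → ∀ p : ℕ, p.Prime → p ∣ Nat.card H → ∃ K : Subgroup H, K ≠ ⊤ ∧ ∃ k : ℕ, K.index = p ^ k) : Group.IsSolvable G := by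
  refine CfsgH1.isSolvable_of_top (CfsgH1.solvable_of_compl fun p hp => ?_)
  obtain ⟨K, hK⟩ := exists_minimal_of_wellFoundedLT (fun K : Subgroup G => ∃ k, K.index = p ^ k)
    ⟨⊤, 0, by simp⟩
  obtain ⟨k, hk⟩ := hK.prop
  refine ⟨K, le_top, fun q hq hd e => ?_, ?_⟩
  · obtain rfl : q = p := e
    obtain ⟨L, hL, j, hj⟩ := h K (CfsgFT.ne_bot_of_dvd_card hq hd) q hq hd
    have h1 := hK.le_of_le (y := L.map K.subtype) ⟨j + k, by
      rw [Subgroup.index_map_subtype, hj, hk, pow_add]⟩ (Subgroup.map_subtype_le _)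
    refine hL (top_unique fun x _ => ?_)
    obtain ⟨y, hy, e⟩ := h1 x.2
    rwa [← Subtype.ext e]
  · rw [Subgroup.relIndex_top_right, hk]
    exact CfsgH1.IsPiNum.prime_pow hp (by simp) k

end Cfsg.Agent.S0535
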