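import Cfsg.Statements.S0537
import Cfsg.Agent.H1.Prim

set_option autoImplicit false
open Cfsg

namespace Cfsg.Agent.S0537

/-- A finite non-abelian group in which every proper subgroup is abelian is either of prime-power order, or is generated by a cyclic Sylow p-subgroup and a normal Sylow q-subgroup that is elementary abelian, for distinct primes p and q. -/
theorem result {G : Type*} [Group G] [Finite G] (hna : ¬ IsMulCommutative G) (h : ∀ H : Subgroup G, H ≠ ⊤ → IsMulCommutative H) : (∃ p : ℕ, p.Prime ∧ IsPGroup p G) ∨ ∃ p q : ℕ, p.Prime ∧ q.Prime ∧ p ≠ q ∧ ∃ (P : Sylow p G) (Q : Sylow q G), IsCyclic P ∧ (Q : Subgroup G).Normal ∧ Cfsg.IsElementaryAbelian q (Q : Subgroup G) ∧ (P : Subgroup G) ⊔ Q = ⊤ := by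
  open Subgroup CfsgH1 CfsgFT in
  by_cases hn : Group.IsNilpotent G
  · left
    by_contra hp
    push Not at hp
    refine hna (top_comm_iff.1 ?_)
    have hK : Group.IsNilpotent (⊤ : Subgroup G) := inferInstance
    refine le_of_nilpotent_of_forall_Opi hK fun q hq _ => cent_symm ?_
    conv_lhs => rw [← Opi_sup_Opi_compl hK {q}]
    refine sup_le (comm_iff.1 (h _ fun e => hp q hq.out ?_))
      (Opi_commute _ fun r _ h1 h2 => h1 h2)
    have := isPGroup_Opi (p := q) (⊤ : Subgroup G)
    rw [e] at this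
    exact this.of_equiv topEquiv
  right
  obtain ⟨p, q, hp, hq, ne, Q, x, nQ, hQ, hP, hs, hx⟩ := schmidt (G := G) ⟨hn, fun H hH =>
    nilpotent_of_comm (comm_iff.1 (h H hH))⟩
  have hi : Q ⊓ zpowers x = ⊥ := (isPi_singleton_iff.2 hQ.pgroup).inf_eq_bot
    (isPi_compl_of_isPGroup hP.pgroup ne)
  have hQt : Q ≠ ⊤ := fun e => hx (by
    rw [e, top_inf_eq, zpowers_eq_bot] at hi; rw [hi]; exact one_mem _)
  have hc := h Q hQt
  have hΩ : omegaOne q Q = Q := by
    by_contra e
    have n : zpowers x ≤ N(omegaOne q Q) := le_norm_om le_normalizer_of_normal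
    have h1 : omegaOne q Q ⊔ zpowers x ≠ ⊤ := fun e' => e (by
      have := CfsgFT.inf_sup_left (om_le q Q) n
      rw [e', inf_top_eq, hi, sup_bot_eq] at this
      exact this.symm)
    have h2 := comm_iff.1 (h _ h1)
    refine hx (cent_symm (le_centralizer_of_omega (A := zpowers x) le_normalizer_of_normal
      (coprime_pgroup_p' hP.pgroup (isPi_compl_of_isPGroup hQ.pgroup ne.symm)) fun v hv ho a ha => ?_)
      (mem_zpowers x))
    have h3 : orderOf v = q := (isPi_singleton_iff.2 hQ.pgroup).orderOf hv _ ho dvd_rfl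
    exact mem_cent.1 (h2 (mem_sup_left (mem_om hv (h3 ▸ pow_orderOf_eq_one v)))) a (mem_sup_right ha)
  have hE := hΩ ▸ ea_om_of_comm (p := q) (comm_iff.1 hc)
  obtain ⟨Q, rfl⟩ := hQ.of_top
  obtain ⟨P, e⟩ := hP.of_top
  exact ⟨p, q, hp.out, hq.out, ne, P, Q, by
    change IsCyclic (P : Subgroup G); rw [e]; infer_instance, nQ, hE, by rw [e, sup_comm, hs]⟩

end Cfsg.Agent.S0537
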