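import Cfsg.Statements.S0541
import Cfsg.Agent.H1.Subn

set_option autoImplicit false
open Pointwise
open Cfsg

namespace Cfsg.Agent.S0541

/-- Let Z and Y be subgroups of a finite group G and p a prime. Suppose that for every g in G the subgroup generated by the conjugates of g Z g⁻¹ under Y is a p-group. Then there is a Sylow p-subgroup P of G such that Y normalizes the subgroup generated by all conjugates of Z contained in P. -/
theorem result {G : Type*} [Group G] [Finite G] (p : ℕ) [Fact p.Prime] (Z Y : Subgroup G) (h : ∀ g : G, IsPGroup p ↥(⨆ y ∈ Y, MulAut.conj (y * g) • Z)) : ∃ P : Sylow p G, Y ≤ Subgroup.normalizer ((⨆ g ∈ {g : G | MulAut.conj g • Z ≤ (P : Subgroup G)}, MulAut.conj g • Z : Subgroup G) : Set G) := by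
  obtain ⟨P, hP⟩ := CfsgH1.matsuyama (p := p) (Z := Z) (Y := Y) fun g => by
    suffices e : sSup {B | ∃ y ∈ Y, B = CfsgH2.cj (y * g) Z} = ⨆ y ∈ Y, MulAut.conj (y * g) • Z from
      e ▸ h g
    refine le_antisymm (sSup_le ?_) (iSup₂_le fun y hy => le_sSup ⟨y, hy, rfl⟩)
    rintro _ ⟨y, hy, rfl⟩
    exact le_iSup₂_of_le (f := fun y (_ : y ∈ Y) => MulAut.conj (y * g) • Z) y hy le_rfl
  refine ⟨P, le_of_le_of_eq hP ?_⟩
  congr 2
  refine le_antisymm (sSup_le ?_) (iSup₂_le fun y hy => le_sSup ⟨⟨y, rfl⟩, hy⟩)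
  rintro _ ⟨⟨y, rfl⟩, hy⟩
  exact le_iSup₂_of_le (f := fun g (_ : g ∈ {g : G | MulAut.conj g • Z ≤ (P : Subgroup G)}) =>
    MulAut.conj g • Z) y hy le_rfl

end Cfsg.Agent.S0541
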