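import Cfsg.Statements.S0547
import Cfsg.Agent.H1.Prim

set_option autoImplicit false
open Cfsg

namespace Cfsg.Agent.S0547

/-- Let a finite solvable group G act faithfully and primitively on a set, and let M be a minimal normal subgroup of G. Then M is transitive with trivial point stabilizers, and the number of points equals the order of M, which is a prime power p ^ d with d ≥ 1. -/
theorem result {G : Type*} [Group G] [Finite G] [Group.IsSolvable G] {Ω : Type*} [Nonempty Ω] [MulAction G Ω] [FaithfulSMul G Ω] (hprim : MulAction.IsPreprimitive G Ω) (M : Subgroup G) [M.Normal] (hM : M ≠ ⊥) (hmin : ∀ K : Subgroup G, K.Normal → K ≤ M → K = ⊥ ∨ K = M) : MulAction.IsPretransitive M Ω ∧ (∀ ω : Ω, MulAction.stabilizer M ω = ⊥) ∧ ∃ p d : ℕ, p.Prime ∧ 0 < d ∧ Nat.card Ω = p ^ d ∧ Nat.card M = p ^ d := by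
  open Subgroup CfsgH1 CfsgFT in
  haveI : Nontrivial G := by
    obtain ⟨x, -, hx⟩ := exists_mem_ne_one hM
    exact ⟨x, 1, hx⟩
  obtain ⟨hc, p, hp, he⟩ := minNormal_elementary (M := M) inferInstance hM hmin
  have hc := comm_iff.1 hc
  haveI := Fact.mk hp
  obtain ⟨d, hd⟩ := (isPGroup_of_forall_pow_eq_one he).exists_card_eq
  refine ⟨⟨fun x y => ?_⟩, fun ω => eq_bot_iff.2 fun m hm => Subtype.ext ?_, p, d, hp,
    Nat.pos_of_ne_zero ?_, ?_, hd⟩
  · obtain ⟨g, rfl⟩ := MulAction.exists_smul_eq G x y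
    obtain ⟨m, hm, u, hu, rfl⟩ := (mem_sup_of_le_normalizer le_normalizer_of_normal).1
      (((prim_stabilizer hprim x).sup hM).ge (mem_top g))
    exact ⟨⟨m, hm⟩, by rw [mul_smul, show u • x = x from hu]; rfl⟩
  · exact ((prim_stabilizer hprim ω).inf_eq_bot hM hc).le (mem_inf.2 ⟨m.2, hm⟩)
  · rintro rfl
    exact hM (card_eq_one.1 hd)
  · obtain ⟨ω⟩ := ‹Nonempty Ω›
    have h := prim_stabilizer hprim ω
    rw [← MulAction.index_stabilizer_of_transitive G ω,
      index_eq_card_of_compl (h.inf_eq_bot hM hc) (h.sup hM), hd]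

end Cfsg.Agent.S0547
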