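import Cfsg.Statements.S0548
import Cfsg.Agent.H1.Prim

set_option autoImplicit false
open Cfsg

namespace Cfsg.Agent.S0548

/-- Let a finite solvable group G act faithfully and primitively on a set, let M be a minimal normal subgroup and H the stabilizer of a point. Then H is a complement to M, no non-identity element of H centralizes M, and the only subgroups of M normalized by H are the trivial subgroup and M. -/
theorem result {G : Type*} [Group G] [Finite G] [Group.IsSolvable G] {Ω : Type*} [MulAction G Ω] [FaithfulSMul G Ω] (hprim : MulAction.IsPreprimitive G Ω) (M : Subgroup G) [M.Normal] (hM : M ≠ ⊥) (hmin : ∀ K : Subgroup G, K.Normal → K ≤ M → K = ⊥ ∨ K = M) (ω : Ω) : Subgroup.IsComplement' M (MulAction.stabilizer G ω) ∧ MulAction.stabilizer G ω ⊓ Subgroup.centralizer (M : Set G) = ⊥ ∧ ∀ K : Subgroup G, K ≤ M → MulAction.stabilizer G ω ≤ Subgroup.normalizer (K : Set G) → K = ⊥ ∨ K = M := by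
  open Subgroup CfsgH1 CfsgFT in
  haveI : Nontrivial G := by
    obtain ⟨x, -, hx⟩ := exists_mem_ne_one hM
    exact ⟨x, 1, hx⟩
  have hc := comm_iff.1 (minNormal_elementary (M := M) inferInstance hM hmin).1
  have h := prim_stabilizer hprim ω
  exact ⟨isComplement'_of_inf_of_sup (h.inf_eq_bot hM hc) (h.sup hM), by rw [inf_comm]; exact h.cent_inf hM,
    fun K h1 h2 => h.min hM hc h1 h2⟩

end Cfsg.Agent.S0548
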