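import Cfsg.Statements.S0550
import Cfsg.Agent.H1.Prim

set_option autoImplicit false
open Cfsg

namespace Cfsg.Agent.S0550

/-- Let U be a maximal subgroup with trivial normal core in a finite group G, and A ≠ B two minimal normal subgroups. Then A is the centralizer of B and B that of A, U complements each of them, A and B are non-abelian, and A, B and (A ⊔ B) ∩ U are pairwise isomorphic. -/
theorem result {G : Type*} [Group G] [Finite G] (U : Subgroup G) (hU : IsCoatom U) (hcore : U.normalCore = ⊥) (A B : Subgroup G) [A.Normal] [B.Normal] (hA : A ≠ ⊥) (hB : B ≠ ⊥) (hAmin : ∀ K : Subgroup G, K.Normal → K ≤ A → K = ⊥ ∨ K = A) (hBmin : ∀ K : Subgroup G, K.Normal → K ≤ B → K = ⊥ ∨ K = B) (hAB : A ≠ B) : Subgroup.centralizer (B : Set G) = A ∧ Subgroup.centralizer (A : Set G) = B ∧ Subgroup.IsComplement' A U ∧ Subgroup.IsComplement' B U ∧ ¬ IsMulCommutative A ∧ Nonempty (A ≃* B) ∧ Nonempty (A ≃* ↥((A ⊔ B) ⊓ U)) := by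
  open Subgroup CfsgH1 CfsgFT in
  have h : Prim U := ⟨hU, hcore⟩
  have hi : A ⊓ B = ⊥ := (hAmin _ inferInstance inf_le_left).resolve_right fun e =>
    ((hBmin A inferInstance (inf_eq_left.1 e)).elim hA hAB)
  have c1 : A ≤ C(B) := le_centralizer_of_normalize le_normalizer_of_normal le_normalizer_of_normal hi
  have e1 := h.eq_cent hB hA c1
  have e2 := h.eq_cent hA hB (cent_symm c1)
  have i1 : A ⊓ U = ⊥ := by rw [e1]; exact h.cent_inf hB
  have i2 : B ⊓ U = ⊥ := by rw [e2]; exact h.cent_inf hA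
  have key : ∀ (A B : Subgroup G) [A.Normal] [B.Normal], B ≠ ⊥ → A ⊓ B = ⊥ → B ⊓ U = ⊥ →
      Nonempty (A ≃* ↥((A ⊔ B) ⊓ U)) := fun A B _ _ hB hi i2 => by
    have h1 : B ⊔ (A ⊔ B) ⊓ U = B ⊔ A := by
      rw [← CfsgFT.inf_sup_left le_sup_right le_normalizer_of_normal, h.sup hB, inf_top_eq, sup_comm]
    have h2 : quo B A = quo B ((A ⊔ B) ⊓ U) := by
      rw [← quo_sup_self le_normalizer_of_normal, ← h1, quo_sup_self le_normalizer_of_normal]
    exact ⟨(quoEquiv le_normalizer_of_normal hi).trans ((MulEquiv.subgroupCongr h2).trans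
      (quoEquiv le_normalizer_of_normal (eq_bot_iff.2 ((le_inf inf_le_right
        (inf_le_left.trans inf_le_right)).trans i2.le))).symm)⟩
  obtain ⟨f1⟩ := key A B hB hi i2
  obtain ⟨f2⟩ := key B A hA (inf_comm A B ▸ hi) i1
  refine ⟨e1.symm, e2.symm, isComplement'_of_inf_of_sup i1 (h.sup hA),
    isComplement'_of_inf_of_sup i2 (h.sup hB), fun hc => hA ?_,
    ⟨f1.trans ((MulEquiv.subgroupCongr (by rw [sup_comm])).trans f2.symm)⟩, ⟨f1⟩⟩
  rw [← hi, inf_eq_left.2 ((comm_iff.1 hc).trans e2.ge)]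

end Cfsg.Agent.S0550
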