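import Cfsg.Statements.S0553
import Cfsg.Agent.H1.Prim

set_option autoImplicit false
open Cfsg

namespace Cfsg.Agent.S0553

/-- Let G be a nontrivial finite solvable group in which every maximal subgroup has order coprime to its index. Then for some prime p dividing the order of G the Sylow p-subgroups of G are normal. -/
theorem result {G : Type*} [Group G] [Finite G] [Group.IsSolvable G] [Nontrivial G] (h : ∀ M : Subgroup G, IsCoatom M → (Nat.card M).Coprime M.index) : ∃ p : ℕ, p.Prime ∧ p ∣ Nat.card G ∧ ∀ P : Sylow p G, (P : Subgroup G).Normal := by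
  open Subgroup CfsgH1 CfsgFT in
  haveI : Nontrivial (G ⧸ frattini G) := QuotientGroup.nontrivial_iff.2 frattini_ne_top
  obtain ⟨V, p, hp, nV, bV, -, pV, -⟩ := exists_minNormal_of_isSolvable (G := G ⧸ frattini G)
  haveI := Fact.mk hp
  have hs := QuotientGroup.mk'_surjective (frattini G)
  set L := V.comap (QuotientGroup.mk' (frattini G))
  have h1 : IsPiNum {p} ((frattini G).relIndex L) := by
    rw [relIndex_comap_mk']; exact isPi_singleton_iff.2 pV
  have hL : Group.IsNilpotent L := isNilpotent_of_map_frattini le_rfl (by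
    rw [map_comap_eq_self_of_surjective hs]; exact pV.isNilpotent)
  obtain ⟨M, hM, h2⟩ := exists_coatom_sup_eq_top (N := L) fun e => bV (by
    rw [← card_eq_one, ← relIndex_comap_mk', relIndex_eq_one]; exact e)
  have h3 : Opi {p}ᶜ L ≤ M := (le_of_isPi_of_idx (isPi_Opi _ _) (Opi_le _ _) le_normalizer_of_normal
    (IsPiNum.compl_compl.2 h1)).trans (frattini_le_coatom hM)
  have n : ∀ X : Subgroup G, X ≤ N(Opi {p} L) := fun _ => le_normalizer_Opi_of _ le_normalizer_of_normal
  have h4 : Opi {p} L ⊔ M = ⊤ := by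
    rw [← h2, ← Opi_sup_Opi_compl hL {p}, sup_comm M, sup_assoc, sup_eq_right.2 h3,
      Opi_sup_Opi_compl hL]
  have h5 : IsPiNum {p} M.index := by
    rw [← relIndex_top_right, ← h4]; exact idx_sup' (n _) (isPi_Opi _ _)
  obtain ⟨r, hr, hd⟩ := Nat.exists_prime_and_dvd (n := M.index) (by rw [Ne, index_eq_one]; exact hM.1)
  obtain rfl : r = p := h5 r hr hd
  have h6 : IsPi {r}ᶜ M := isPi_compl_singleton_iff_coprime.2 ((h M hM).coprime_dvd_right hd)
  have h7 := Hall.of_sup (n M) (isPi_Opi _ _) h6
  rw [h4] at h7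
  refine ⟨r, hr, hd.trans (index_dvd_card M), fun P => ?_⟩
  rw [h7.eq_of_le (isPi_singleton_iff.2 P.2) ((CfsgH2.IsSylowIn.of_sylow_top P).le_of_normalizer
    (isPGroup_Opi L) le_top (n _)) le_top]
  exact normal_of_top_le (n _)

end Cfsg.Agent.S0553
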