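import Cfsg.Statements.S0555
import Cfsg.Agent.H1.Prim

set_option autoImplicit false
open Cfsg

namespace Cfsg.Agent.S0555

theorem aux {G : Type*} [Group G] {N K C : Subgroup G} [C.Normal] [(N.subgroupOf K).Normal]
    (h : IsCyclic (K ⧸ N.subgroupOf K)) : ∃ a ∈ K, K.map (QuotientGroup.mk' C) ≤
      N.map (QuotientGroup.mk' C) ⊔ Subgroup.zpowers (QuotientGroup.mk' C a) := by
  obtain ⟨g, hg⟩ := h.exists_generator
  obtain ⟨a, rfl⟩ := QuotientGroup.mk_surjective g
  refine ⟨a, a.2, ?_⟩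
  rintro _ ⟨y, hy, rfl⟩
  obtain ⟨k, hk⟩ := hg ((⟨y, hy⟩ : K) : K ⧸ N.subgroupOf K)
  have h1 : ((a : G) ^ k)⁻¹ * y ∈ N := 
    (QuotientGroup.eq (s := N.subgroupOf K) (a := a ^ k) (b := ⟨y, hy⟩)).1 hk
  have : y = (a : G) ^ k * (((a : G) ^ k)⁻¹ * y) := by group
  rw [this, map_mul, map_zpow]
  exact mul_mem (Subgroup.mem_sup_right (Subgroup.zpow_mem_zpowers _ k))
    (Subgroup.mem_sup_left ⟨_, h1, rfl⟩)


/-- Let i ≥ 1. If in the derived series of a group the quotient of the i-th term by the (i+1)-st and the quotient of the (i+1)-st by the (i+2)-nd are both cyclic, then the (i+1)-st and (i+2)-nd terms coincide. -/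
theorem result {G : Type*} [Group G] (i : ℕ) (hi : 1 ≤ i) (h₁ : IsCyclic (↥(derivedSeries G i) ⧸ (derivedSeries G (i + 1)).subgroupOf (derivedSeries G i))) (h₂ : IsCyclic (↥(derivedSeries G (i + 1)) ⧸ (derivedSeries G (i + 2)).subgroupOf (derivedSeries G (i + 1)))) : derivedSeries G (i + 1) = derivedSeries G (i + 2) := by
  open Subgroup CfsgH1 CfsgFT in
  obtain ⟨j, rfl⟩ := Nat.exists_eq_add_of_le' hi
  obtain ⟨a, ha, h3⟩ := aux (C := derivedSeries G (j + 1 + 2)) h₁
  obtain ⟨b, hb, h4⟩ := aux (C := derivedSeries G (j + 1 + 2)) h₂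
  rw [(map_mk'_eq_bot_iff _).2 le_rfl, bot_sup_eq] at h4
  have h5 := isCyclic_of_le' inferInstance h4
  have h6 := der_le_cent_of_cyclic (A := (derivedSeries G j).map (QuotientGroup.mk' _)) h5
    (map_le_norm _ le_normalizer_of_normal)
  rw [← Subgroup.map_commutator, ← derivedSeries_succ] at h6
  refine le_antisymm ?_ (der_le _)
  rw [← map_mk'_eq_bot_iff, derivedSeries_succ G (j + 1), Subgroup.map_commutator]
  refine comm_eq_bot (h3.trans (sup_le (cent_symm h6) (cent_symm (h3.trans (sup_le ?_ ?_)))))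
  · exact cent_symm ((zpowers_le.2 (mem_map_of_mem _ ha)).trans h6)
  · exact comm_of_cyclic inferInstance

end Cfsg.Agent.S0555
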