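import Cfsg.Statements.S0556
import Cfsg.Agent.H1.Prim

set_option autoImplicit false
open Cfsg

namespace Cfsg.Agent.S0556

/-- If a finite group has a maximal subgroup that is abelian, then the third term of its derived series is trivial (so the group is solvable of derived length at most three). -/
theorem result {G : Type*} [Group G] [Finite G] (A : Subgroup G) (hA : IsCoatom A) [IsMulCommutative A] : derivedSeries G 3 = ⊥ := by
  open Subgroup CfsgH1 CfsgFT in
  have hc : A ≤ C(A) := comm_iff.1 inferInstance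
  have d3 : derivedSeries G 3 = ⁅derivedSeries G 2, derivedSeries G 2⁆ := rfl
  have d2 : derivedSeries G 2 = ⁅derivedSeries G 1, derivedSeries G 1⁆ := rfl
  by_cases hn : A.Normal
  · obtain ⟨x, -, hx⟩ := SetLike.exists_of_lt (lt_top_iff_ne_top.2 hA.1)
    have h1 : A ⊔ zpowers x = ⊤ := hA.2 _ (left_lt_sup.2 (by simpa using hx))
    have n : ∀ X : Subgroup G, X ≤ N(A) := fun _ => le_normalizer_of_normal
    have h2 : derivedSeries G 1 ≤ A := by
      change ⁅(⊤ : Subgroup G), ⊤⁆ ≤ A
      rw [← h1]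
      refine comm_sup_left_le (comm_le_left (n _)) (comm_sup_right_le (comm_le_right (n _)) ?_ (n _)
        (n _)) (n _) (n _)
      rw [comm_eq_bot (comm_of_cyclic inferInstance)]; exact bot_le
    rw [d3, d2, comm_eq_bot (cent_mono hc h2 h2), commutator_bot_left]
  have hN : N(A) = A := max_eq hA (fun e => hn (normal_of_top_le e.ge)) le_normalizer
  set Z := center G
  have hZ : ∀ z, z ∈ Z ↔ z ∈ C((⊤ : Subgroup G)) := fun z => by
    rw [mem_center_iff, mem_cent]; simp
  have hZA : Z ≤ A := fun z hz => hN ▸ cent_le_norm A (cent_anti le_top ((hZ z).1 hz))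
  have hs := QuotientGroup.mk'_surjective Z
  have hA' := isCoatom_map_of_ker_le _ hs (by rwa [QuotientGroup.ker_mk']) hA
  have hF : IsFrobeniusComplement (A.map (QuotientGroup.mk' Z)) := by
    refine ⟨fun e => hn (normal_of_top_le (le_norm_of_cent' fun a ha =>
      (hZ a).1 ((map_mk'_eq_bot_iff Z).1 e ha))), hA'.1, fun g hg => eq_bot_iff.2 ?_⟩
    obtain ⟨g, rfl⟩ := hs g
    rw [← map_conj_smul]
    rintro _ ⟨⟨a, ha, rfl⟩, b, hb, e⟩
    have hgA : g ∉ A := fun h => hg ⟨g, h, rfl⟩
    have h1 : A ⊔ CfsgH2.cj g A = ⊤ := hA.2 _ (left_lt_sup.2 fun e =>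
      hgA (hN ▸ CfsgH2.mem_normalizer_of_cj_le e))
    have h2 : a ∈ CfsgH2.cj g A := by
      have h3 : Z ≤ CfsgH2.cj g A := le_cj_of_norm (le_normalizer_of_normal (mem_top g)) hZA
      have := mul_mem hb (h3 (QuotientGroup.eq.1 e))
      rw [CfsgH2.cj_eq_smul]; simpa using this
    rw [mem_bot, QuotientGroup.mk'_apply, QuotientGroup.eq_one_iff, hZ, ← h1, cent_sup]
    exact ⟨hc ha, cj_le_cent_cj hc g h2⟩
  obtain ⟨K, -, nK, hK, bK, hf⟩ := frob_data hF
  have hnil := nilpotent_of_fpf' le_normalizer_of_normal hF.1 hf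
  have hlt := commutator_lt_of_isSolvable (isSolvable_of_nilpotent hnil) bK
  have hi := disjoint_iff.1 hK.disjoint
  have h1 : ⁅K, K⁆ = ⊥ := by
    rw [eq_bot_iff, ← hi]
    refine le_inf hlt.le ?_
    by_contra e
    have h2 := hA'.2 _ (right_lt_sup.2 e)
    have := CfsgFT.inf_sup_left hlt.le (P := A.map (QuotientGroup.mk' Z)) le_normalizer_of_normal
    rw [h2, inf_top_eq, hi, sup_bot_eq] at this
    exact hlt.ne' this
  have h2 : (derivedSeries G 1).map (QuotientGroup.mk' Z) ≤ K := by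
    change Subgroup.map _ ⁅(⊤ : Subgroup G), (⊤ : Subgroup G)⁆ ≤ K
    rw [Subgroup.map_commutator, map_top_of_surjective _ hs, ← hK.sup_eq_top]
    refine (der_sup_le le_normalizer_of_normal).trans ?_
    rw [comm_eq_bot (map_le_cent _ hc), sup_bot_eq]
  have h3 : derivedSeries G 2 ≤ Z := by
    rw [← map_mk'_eq_bot_iff, d2, Subgroup.map_commutator, eq_bot_iff, ← h1]
    exact commutator_mono h2 h2
  rw [d3]
  exact comm_eq_bot fun z hz => cent_anti le_top ((hZ z).1 (h3 hz))

end Cfsg.Agent.S0556
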