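import Cfsg.Statements.S0557
import Cfsg.Agent.H1.Prim

set_option autoImplicit false
open Cfsg

namespace Cfsg.Agent.S0557

/-- Let H be a subgroup of a finite group G with order coprime to its index. If iterating the focal-subgroup construction starting from H reaches the trivial subgroup after finitely many steps, then H has a normal complement in G. -/
theorem result {G : Type*} [Group G] [Finite G] (H : Subgroup G) (hHall : (Nat.card H).Coprime H.index) (n : ℕ) (hfoc : (fun K : Subgroup G => Subgroup.focalSubgroup K)^[n] H = ⊥) : ∃ N : Subgroup G, N.Normal ∧ Subgroup.IsComplement' N H := by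
  open Subgroup CfsgH1 CfsgFT CfsgH2 in
  have hH := Hall.of_coprime (H := H) le_top (by simpa using hHall)
  have h1 : Hall (pr H)ᶜ (Opi (pr H)ᶜ ⊤) ⊤ := hall_Opi_of_forall_npc fun q hq hd => by
    obtain ⟨P, hP⟩ := IsSylowIn.exists_sylowIn q H
    have hP' := hH.sylow (by simpa using hd) hP
    rw [hP'.hasNPC_iff, eq_bot_iff, ← hfoc]
    have key : ∀ L : Subgroup G, P ⊓ resIn q ⊤ ≤ L → P ⊓ resIn q ⊤ ≤ L.focalSubgroup := fun L hL =>
      inf_resIn_le_of_fusion hP' fun x hx g hg h => subset_closure ⟨mul_mem (inv_mem (hL hx)) (hL ⟨h,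
        CfsgH2.conj_mem_of_mem_normalizer (le_normalizer hg) hx.2⟩), x⁻¹, inv_mem (hL hx), g, by
          simp [commutatorElement_def, mul_assoc]⟩
    clear hfoc
    induction n with
    | zero => exact inf_le_left.trans hP.le
    | succ n ih => rw [Function.iterate_succ_apply']; exact key _ ih
  haveI := normal_of_top_le (le_normalizer_Opi (pr H)ᶜ (⊤ : Subgroup G))
  exact ⟨_, this, isComplement'_of_inf_of_sup (by rw [inf_comm]; exact hH.inf_eq h1)
    (by rw [sup_comm]; exact hH.sup_eq h1)⟩

end Cfsg.Agent.S0557
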