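import Cfsg.Statements.S0558
import Cfsg.Agent.H1.Prim

set_option autoImplicit false
open Cfsg

namespace Cfsg.Agent.S0558

/-- Let H be a subgroup of a finite group G that is not a Sylow subgroup of G for any prime, and suppose that for every prime p dividing the order of H and every Sylow p-subgroup P of H the normalizer of P in G is exactly H. Then some normal subgroup of G is a complement to H. -/
theorem result {G : Type*} [Group G] [Finite G] (H : Subgroup G) (hnot : ∀ p : ℕ, p.Prime → ∀ P : Sylow p G, (P : Subgroup G) ≠ H) (hnorm : ∀ p : ℕ, p.Prime → p ∣ Nat.card H → ∀ P : Sylow p H, Subgroup.normalizer (((P : Subgroup H).map H.subtype : Subgroup G) : Set G) = H) : ∃ N : Subgroup G, N.Normal ∧ Subgroup.IsComplement' N H := by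
  open Subgroup CfsgH1 CfsgFT CfsgH2 in
  have h0 : ∀ (p : ℕ) [Fact p.Prime], p ∣ Nat.card H → ∀ P, IsSylowIn p P H → N(P) = H :=
    fun p hp hd P hP => by have := hnorm p hp.out hd hP.toSylow; rwa [hP.toSylow_map] at this
  have h1 : ∀ (p : ℕ) [Fact p.Prime], p ∣ Nat.card H → ∀ P, IsSylowIn p P H → IsSylowIn p P ⊤ :=
    fun p _ hd P hP => sylow_top_of_norm_le hP (h0 p hd P hP).le
  have hn : Group.IsNilpotent H := nilpotent_of_forall_sylow fun q _ hd =>
    (IsSylowIn.exists_sylowIn q H).imp fun P hP => ⟨hP, (h0 q hd P hP).ge⟩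
  have hH : Hall (pr H) H ⊤ := ⟨le_top, isPi_pr H, fun q hq hd h => by
    haveI := Fact.mk hq
    obtain ⟨P, hP⟩ := IsSylowIn.exists_sylowIn q H
    exact (h1 q h P hP).not_dvd_of_le hP.le le_top hd⟩
  have h2 : Hall (pr H)ᶜ (Opi (pr H)ᶜ ⊤) ⊤ := hall_Opi_of_forall_npc fun p hp hd => by
    have hd : p ∣ Nat.card H := not_not.1 hd
    have hP := sylow_Opi_of_nilpotent (p := p) hn
    have hP' := h1 p hd _ hP
    have hb : Opi {p}ᶜ H ≠ ⊥ := fun e => by
      have := Opi_sup_Opi_compl hn {p}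
      rw [e, sup_bot_eq] at this
      obtain ⟨P, hP⟩ := hP'.of_top
      exact hnot p hp.out P (hP.trans this)
    obtain ⟨q, hq, hqd⟩ := exists_prime_dvd_card hb
    haveI := Fact.mk hq
    have hqH := hqd.trans (card_dvd_of_le (Opi_le _ _))
    have hQ := sylow_Opi_of_nilpotent (p := q) hn
    have hc : Opi {p}ᶜ H ≤ C(Opi {p} H) := Opi_commute H fun r _ h1 h2 => h1 h2
    refine frobenius_hasNPC hP' fun X hX _ _ g _ hg ho => ?_
    have hne : q ≠ p := isPi_Opi {p}ᶜ H q hq hqd
    have h3 : Opi {q} H ≤ C(X) := (Opi_sub (σ := {p}ᶜ) H fun r _ e e' =>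
      hne (e.symm.trans e')).trans (hc.trans (cent_anti hX))
    have h4 := sylow_frattini_sup ((h1 q hqH _ hQ).mono h3 le_top) (cent_le_norm X)
      (CfsgH2.normalizer_le_normalizer_centralizer X)
    rw [h0 q hqH _ hQ] at h4
    have h5 : N(X) ⊓ H ≤ C(X) ⊔ N(X) ⊓ Opi {p} H := by
      conv_lhs => rw [← Opi_sup_Opi_compl hn {p}, sup_comm, CfsgFT.inf_sup_left
        ((hc.trans (cent_anti hX)).trans (cent_le_norm X)) (le_norm_of_cent' hc)]
      exact sup_le_sup_right (hc.trans (cent_anti hX)) _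
    have h6 : C(X) ⊔ N(X) ⊓ Opi {p} H = N(X) := le_antisymm (sup_le (cent_le_norm X) inf_le_left)
      (h4.ge.trans (sup_le le_sup_left h5))
    refine le_of_isPi_of_idx (π := {p}ᶜ) (K := zpowers g) (M := N(X))
      (isPi_compl_singleton_iff_coprime.2 (by rwa [Nat.card_zpowers])) (zpowers_le.2 hg)
      (CfsgH2.normalizer_le_normalizer_centralizer X) ?_ (mem_zpowers g)
    have h7 := idx_sup (K := C(X)) (A := N(X) ⊓ Opi {p} H) (inf_le_left.trans
      (CfsgH2.normalizer_le_normalizer_centralizer X)) ((isPi_Opi {p} H).mono inf_le_right)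
    rw [h6] at h7
    exact IsPiNum.compl_compl.2 h7
  haveI := normal_of_top_le (le_normalizer_Opi (pr H)ᶜ (⊤ : Subgroup G))
  exact ⟨_, this, isComplement'_of_inf_of_sup (by rw [inf_comm]; exact hH.inf_eq h2)
    (by rw [sup_comm]; exact hH.sup_eq h2)⟩

end Cfsg.Agent.S0558
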