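import Cfsg.Statements.S0561
import Cfsg.Agent.H1.Fact

set_option autoImplicit false
open Pointwise
open Cfsg

namespace Cfsg.Agent.S0561

/-- Let the finite solvable group G be the product HK of subgroups, and let A be normal in H and B normal in K, where A and B are Hall subgroups of G (order coprime to index). Then for all x, y the product set of xAx⁻¹ and yBy⁻¹ is a subgroup of G. -/
theorem result {G : Type*} [Group G] [Finite G] [Group.IsSolvable G] (H K A B : Subgroup G) (hHK : ∀ g : G, ∃ h ∈ H, ∃ k ∈ K, g = h * k) (hA : A ≤ H) (hAn : (A.subgroupOf H).Normal) (hB : B ≤ K) (hBn : (B.subgroupOf K).Normal) (hAh : (Nat.card A).Coprime A.index) (hBh : (Nat.card B).Coprime B.index) (x y : G) : ∃ S : Subgroup G, (S : Set G) = ((MulAut.conj x • A : Subgroup G) : Set G) * ((MulAut.conj y • B : Subgroup G) : Set G) := by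
  have f := CfsgH1.fac_top.2 hHK
  have n1 := CfsgFT.le_norm_of_normal_subgroupOf hA hAn
  have n2 := CfsgFT.le_norm_of_normal_subgroupOf hB hBn
  have h := f.prm_hall le_top le_top inferInstance
    (CfsgFT.Hall.of_coprime le_top (by simpa using hAh))
    (CfsgFT.Hall.of_coprime le_top (by simpa using hBh)) hA hB n1 n2
  obtain ⟨a, ha, b, hb, e⟩ := f.exists_cj (x := x) (y := y) trivial trivial
  have h2 := h.cj (x * a)
  rw [← CfsgH2.cj_cj x a A, CfsgFT.cj_eq_of_norm (n1 ha), e, ← CfsgH2.cj_cj,
    CfsgFT.cj_eq_of_norm (n2 hb)] at h2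
  exact ⟨_, CfsgH1.Fac.set_eq h2 le_sup_left le_sup_right⟩

end Cfsg.Agent.S0561
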