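import Cfsg.Statements.S0563
import Cfsg.Agent.Lead.KW2

set_option autoImplicit false
open Pointwise
open Cfsg

namespace Cfsg.Agent.S0563

open Subgroup CfsgFT CfsgH1 CfsgKW

/-- If a finite group G is the product AB of two nilpotent subgroups of coprime orders, then G is solvable, and for every Sylow p-subgroup P of A and Sylow q-subgroup Q of B the product set PQ is a subgroup. -/
theorem result {G : Type*} [Group G] [Finite G] (A B : Subgroup G) (hA : Group.IsNilpotent A) (hB : Group.IsNilpotent B) (hcop : (Nat.card A).Coprime (Nat.card B)) (hAB : ∀ g : G, ∃ a ∈ A, ∃ b ∈ B, g = a * b) : Group.IsSolvable G ∧ ∀ (p q : ℕ) [Fact p.Prime] [Fact q.Prime] (P : Sylow p A) (Q : Sylow q B), ∃ S : Subgroup G, (S : Set G) = (((P : Subgroup A).map A.subtype : Subgroup G) : Set G) * (((Q : Subgroup B).map B.subtype : Subgroup G) : Set G) := by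
  have f := fac_top.2 hAB
  have hs := kw f hA hB
  refine ⟨hs, fun p q _ _ P Q => ?_⟩
  have k : ∀ {A B : Subgroup G} (f : Fac A B ⊤) (hcop : (Nat.card A).Coprime (Nat.card B)) (p : ℕ) [Fact p.Prime]
      (P : Sylow p A), ∃ π, Hall π ((P : Subgroup A).map A.subtype) ⊤ := fun {A B} f hcop p _ P => by
    have i1 : A.relIndex ⊤ ∣ Nat.card B := by rw [← f.symm.relIndex le_top le_top]; exact relIndex_dvd_card _ _
    have h1 := CfsgH2.IsSylowIn.of_sylow_map P
    by_cases e : p ∣ Nat.card A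
    · exact ⟨_, ((Hall.of_coprime le_top (hcop.coprime_dvd_right i1)).sylow e h1).hall⟩
    · rw [h1.eq_bot_iff.2 e]
      exact ⟨∅, Hall.bot fun _ _ _ => by simp⟩
  obtain ⟨π, h1⟩ := k f hcop p P
  obtain ⟨σ, h2⟩ := k f.symm hcop.symm q Q
  have := f.prm_hall le_top le_top (isSolvable_top ⊤) h1 h2 (map_subtype_le _) (map_subtype_le _)
    (sylow_normal_of_nilpotent (CfsgH2.IsSylowIn.of_sylow_map P) hA ▸ le_normalizer_Opi _ _)
    (sylow_normal_of_nilpotent (CfsgH2.IsSylowIn.of_sylow_map Q) hB ▸ le_normalizer_Opi _ _)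
  exact ⟨_, Fac.set_eq this le_sup_left le_sup_right⟩

end Cfsg.Agent.S0563
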