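import Cfsg.Statements.S0568
import Cfsg.Agent.H1.Carter

set_option autoImplicit false
open Cfsg

namespace Cfsg.Agent.S0568

/-- Let D be the system normalizer of a Hall complement system of a finite solvable group G, and let A < B be normal subgroups with no normal subgroup of G strictly between them (a chief factor). If G centralizes B modulo A then B ≤ A ⊔ D (D covers the factor); otherwise B ∩ D ≤ A (D avoids it). -/
theorem result {G : Type*} [Group G] [Finite G] [Group.IsSolvable G] (K : Nat.Primes → Subgroup G) (hK : Cfsg.IsComplementSystem K) (A B : Subgroup G) [A.Normal] [B.Normal] (hAB : A < B) (hchief : ∀ N : Subgroup G, N.Normal → A ≤ N → N ≤ B → N = A ∨ N = B) : (⁅B, (⊤ : Subgroup G)⁆ ≤ A → B ≤ A ⊔ Cfsg.systemNormalizer K) ∧ (¬ ⁅B, (⊤ : Subgroup G)⁆ ≤ A → B ⊓ Cfsg.systemNormalizer K ≤ A) := by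
  open Subgroup CfsgH1 CfsgFT in
  refine ⟨sysNorm_cover hK, fun h => ?_⟩
  have hs := QuotientGroup.mk'_surjective A
  haveI : (B.map (QuotientGroup.mk' A)).Normal := Normal.map inferInstance _ hs
  have := sysNorm_avoid (complSys_map hK _ hs) (V := B.map (QuotientGroup.mk' A)) (fun N _ hN => by
    have h1 : N.comap (QuotientGroup.mk' A) ≤ B := by
      have := comap_mono (f := QuotientGroup.mk' A) hN
      rwa [comap_map_mk', sup_eq_left.2 hAB.le] at this
    rw [← map_comap_eq_self_of_surjective hs N]
    rcases hchief _ inferInstance (le_comap_mk' A N) h1 with e | e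
    · exact Or.inl ((map_mk'_eq_bot_iff A).2 e.le)
    · exact Or.inr (by rw [e])) (fun e => h (by
      rw [← map_mk'_eq_bot_iff, Subgroup.map_commutator]
      exact comm_eq_bot (cent_symm (le_top.trans e))))
  rw [sysNorm_map hK] at this
  rw [← map_mk'_eq_bot_iff, eq_bot_iff, ← this]
  exact map_inf_le _ _ _

end Cfsg.Agent.S0568
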