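import Cfsg.Statements.S0576
import Cfsg.Agent.H1.Gasch

set_option autoImplicit false
open Cfsg

namespace Cfsg.Agent.S0576

/-- Let H be a normal subgroup of a finite group G with H contained in the Frattini subgroup of G. Then the group of inner automorphisms of H is contained in the Frattini subgroup of the automorphism group of H. -/
theorem result {G : Type*} [Group G] [Finite G] (H : Subgroup G) [H.Normal] (hH : H ≤ frattini G) : (MulAut.conj : ↥H →* MulAut ↥H).range ≤ frattini (MulAut ↥H) := by
  have : ((MulAut.conj : ↥H →* MulAut ↥H).range).Normal := ⟨by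
    rintro _ ⟨h, rfl⟩ g
    exact ⟨g h, by ext; simp⟩⟩
  let φ : G →* MulAut H := MulAut.conjNormal
  refine CfsgH1.le_frattini_of_le_map_frattini (H := φ.range) ?_
  rintro _ ⟨h, rfl⟩
  exact ⟨φ.rangeRestrict h, CfsgH1.map_frattini_le _ φ.rangeRestrict_surjective ⟨h, hH h.2, rfl⟩,
    MulAut.conjNormal_val⟩

end Cfsg.Agent.S0576
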