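import Cfsg.Statements.S0577
import Cfsg.Agent.H1.Prim

set_option autoImplicit false
open Cfsg

namespace Cfsg.Agent.S0577

/-- Let G be a finite minimal non-nilpotent group and Q a normal Sylow q-subgroup of G, and let D be the commutator subgroup of Q regarded in G (a normal subgroup). Then G modulo D is non-abelian and all its proper subgroups are abelian. -/
theorem result {G : Type*} [Group G] [Finite G] (hG : Cfsg.IsMinimalNonNilpotent G) (q : ℕ) [Fact q.Prime] (hq : q ∣ Nat.card G) (Q : Sylow q G) (hQ : (Q : Subgroup G).Normal) (D : Subgroup G) [D.Normal] (hD : D = (commutator ↥(Q : Subgroup G)).map (Q : Subgroup G).subtype) : ¬ IsMulCommutative (G ⧸ D) ∧ ∀ K : Subgroup (G ⧸ D), K ≠ ⊤ → IsMulCommutative K := by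
  open Subgroup CfsgH1 CfsgFT in
  rw [map_commutator_top] at hD
  obtain ⟨p, r, hp, hr, ne, R, x, nR, hR, hP, hs, hx⟩ := schmidt hG
  have hQ' := CfsgH2.IsSylowIn.of_sylow_top Q
  have hcop := coprime_pgroup_p' hP.pgroup (isPi_compl_of_isPGroup hR.pgroup ne.symm)
  have hpi : IsPi {r, p} (⊤ : Subgroup G) := hs ▸ IsPi.sup (isPi_of_isPGroup hR.pgroup (by simp))
    (isPi_of_isPGroup hP.pgroup (by simp)) le_normalizer_of_normal
  obtain rfl : q = r := by
    rcases hpi q Fact.out (by rwa [card_top]) with e | e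
    · exact e
    obtain rfl : q = p := e
    have h1 := hP.eq_of_le hQ'.pgroup (hQ'.le_of_le_normalizer hP.pgroup le_top
      le_normalizer_of_normal) le_top
    refine absurd (le_centralizer_of_normalize le_normalizer_of_normal (h1 ▸ le_normalizer_of_normal)
      (inf_eq_bot_of_coprime' hcop) (mem_zpowers x)) hx
  obtain rfl : R = Q := hQ'.eq_of_le hR.pgroup (hR.le_of_le_normalizer hQ'.pgroup le_top
      le_normalizer_of_normal) le_top
  refine ⟨fun hc => hx ?_, fun K hK => ?_⟩
  · refine cent_symm (le_centralizer_of_commutator_le_frattini (A := zpowers x) le_normalizer_of_normal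
      (hcop.coprime_dvd_right (card_subgroup_dvd_card _)) ?_) (mem_zpowers x)
    have h1 : ⁅(Q : Subgroup G), zpowers x⁆ ≤ D := commutator_le.2 fun a _ b _ => by
      rw [← QuotientGroup.eq_one_iff, ← QuotientGroup.mk'_apply, map_commutatorElement,
        commutatorElement_eq_one_iff_mul_comm]
      exact mul_comm' _ _
    rw [hD, ← map_commutator_top] at h1
    haveI := hQ'.pgroup.isNilpotent
    exact h1.trans (map_mono commutator_le_frattini_of_nilpotent)
  · have hH := hG.2 (K.comap (QuotientGroup.mk' D)) fun e => hK (by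
      rw [← map_comap_eq_self_of_surjective (QuotientGroup.mk'_surjective D) K, e,
        map_top_of_surjective _ (QuotientGroup.mk'_surjective D)])
    rw [← map_comap_eq_self_of_surjective (QuotientGroup.mk'_surjective D) K, comm_iff]
    generalize K.comap (QuotientGroup.mk' D) = H at hH
    refine cent_of_comm_eq_bot ?_
    rw [← Subgroup.map_commutator, map_mk'_eq_bot_iff, ← Opi_sup_Opi_compl hH {q}]
    have n : ∀ X : Subgroup G, X ≤ N(D) := fun _ => le_normalizer_of_normal
    have h1 : Opi {q} H ≤ Q := hQ'.le_of_le_normalizer (isPGroup_Opi H) le_top le_normalizer_of_normal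
    have h2 : Opi {q} H ≤ C(Opi {q}ᶜ H) := Opi_commute _ fun r _ h1 h2 => h2 h1
    have h3 : IsPGroup p (Opi {q}ᶜ H) := isPi_singleton_iff.1 fun s hs hd =>
      (hpi s hs (hd.trans (card_dvd_of_le le_top))).resolve_left (isPi_Opi _ _ s hs hd)
    obtain ⟨g, -, hg⟩ := hP.exists_cj_le h3 le_top
    have h4 : IsCyclic (Opi {q}ᶜ H) := isCyclic_of_le' (isCyclic_cj inferInstance g⁻¹)
      (CfsgH2.cj_le_iff_le_cj_inv.1 hg)
    refine comm_sup_left_le (comm_sup_right_le ?_ ?_ (n _) (n _)) (comm_sup_right_le ?_ ?_ (n _) (n _))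
      (n _) (n _)
    · rw [hD]; exact commutator_mono h1 h1
    · rw [comm_eq_bot h2]; exact bot_le
    · rw [comm_eq_bot (cent_symm h2)]; exact bot_le
    · rw [comm_eq_bot (comm_of_cyclic h4)]; exact bot_le

end Cfsg.Agent.S0577
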