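import Cfsg.Statements.S0578
import Cfsg.Agent.H1.Prim

set_option autoImplicit false
open Cfsg

namespace Cfsg.Agent.S0578

/-- If in a finite group the normalizer of each abelian subgroup coincides with its centralizer, then the group is abelian. -/
theorem result {G : Type*} [Group G] [Finite G] (h : ∀ A : Subgroup G, IsMulCommutative A → Subgroup.normalizer (A : Set G) = Subgroup.centralizer (A : Set G)) : IsMulCommutative G := by
  open Subgroup CfsgH1 CfsgFT in
  have key : ∀ L : Subgroup G, L ≤ C(L) := fun L => by
    induction L using WellFoundedLT.induction with | ind L ih => ?_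
    have hp : ∀ H : Subgroup L, H ≠ ⊤ → H.map L.subtype ≤ C(H.map L.subtype) := fun H hH =>
      ih _ (lt_of_le_of_ne (map_subtype_le H) fun e => hH (by
        rw [← subgroupOf_map_subtype_self H, e, subgroupOf_self]))
    haveI : Group.IsSolvable L := solvable_of_max_nilpotent fun M hM => by
      rw [← subgroupOf_map_subtype_self M]
      exact isNilpotent_subgroupOf (nilpotent_of_comm (hp M hM.1)) L
    rcases subsingleton_or_nontrivial L with _ | _
    · rw [eq_bot_of_subsingleton L]; exact bot_le
    obtain ⟨N, _, hN, -⟩ := exists_normal_index_prime (G := L)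
    have hNt : N ≠ ⊤ := fun e => hN.one_lt.ne' (by rw [e, index_top])
    obtain ⟨x, -, hx⟩ := SetLike.exists_of_lt (lt_top_iff_ne_top.2 hNt)
    have h1 := congrArg (map L.subtype) (sup_zpowers_eq_top_of_index_prime hN hx)
    rw [Subgroup.map_sup, MonoidHom.map_zpowers, ← MonoidHom.range_eq_map, range_subtype] at h1
    have h2 := le_norm_map_subtype N
    rw [h _ (comm_iff.2 (hp N hNt))] at h2
    conv_lhs => rw [← h1]
    refine sup_le (cent_symm h2) ?_
    have h3 : zpowers (L.subtype x) ≤ L := zpowers_le.2 x.2
    conv_rhs => rw [← h1]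
    exact le_cent_sup (h3.trans h2) (comm_of_cyclic inferInstance)
  exact top_comm_iff.1 (key ⊤)

end Cfsg.Agent.S0578
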