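import Cfsg.Statements.S0582
import Cfsg.Agent.H1.Prim
import Cfsg.Agent.FT.W4

set_option autoImplicit false
open Pointwise
open Cfsg

namespace Cfsg.Agent.S0582

universe u
open Subgroup CfsgH1 CfsgFT CfsgH2 in
theorem aux {G : Type u} [Group G] [Finite G] {π : Set ℕ} {H K L : Subgroup G}
    (hH : Hall π H L) (hK : Hall π K L) (h1 : SS H) (h2 : SS K) : ∃ x ∈ L, cj x H = K := by
  induction hn : Nat.card H using Nat.strong_induction_on generalizing G with | _ n ih => ?_
  subst hn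
  have hc := hH.card_eq hK
  by_cases hb : H = ⊥
  · refine ⟨1, one_mem _, ?_⟩
    rw [hb, card_bot, eq_comm, card_eq_one] at hc
    rw [cj_one, hb, hc]
  obtain ⟨p, hp, hd, hm⟩ := exists_max_prime hb
  haveI := Fact.mk hp
  have key : ∀ H : Subgroup G, SS H → (∀ r, r.Prime → r ∣ Nat.card H → r ≤ p) →
      ∃ P, IsSylowIn p P H ∧ H ≤ N(P) := fun H h hm => by
    obtain ⟨P⟩ : Nonempty (Sylow p H) := inferInstance
    haveI := sylow_normal_of_index_prime h.index_prime hm P
    exact ⟨_, IsSylowIn.of_sylow_map P, le_norm_map_subtype _⟩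
  obtain ⟨P, hP, nP⟩ := key H h1 hm
  obtain ⟨Q, hQ, nQ⟩ := key K h2 (hc ▸ hm)
  have hπ := hH.isPi p hp hd
  obtain ⟨y, hy, rfl⟩ := (hK.sylow hπ hQ).exists_cj_eq (hH.sylow hπ hP)
  have hK' := hK.cj_mem hy
  have nK := cj_le_norm_cj nQ y
  have h3 : SS (cj y K) := h2.of_surjective _ (MonoidHom.subgroupMap_surjective (MulAut.conj y).toMonoidHom K)
  obtain ⟨x, hx, e⟩ := ih _ (card_quo_lt' hP.le nP fun e => hP.eq_bot_iff.1 e hd)
    ((hH.mono (le_inf hH.le nP) inf_le_left).quo inf_le_right)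
    ((hK'.mono (le_inf hK'.le nK) inf_le_left).quo inf_le_right)
    (h1.of_surjective _ (quoHom_surj nP)) (h3.of_surjective _ (quoHom_surj nK)) rfl
  obtain ⟨x, hx', rfl⟩ := mem_quo.1 hx
  rw [← quo_cj] at e
  have h4 := congrArg (unq _) e
  rw [unq_quo_of_le nK (cj_mono y hQ.le), unq_quo_of_le (cj_le_of_mem x.2 nP)
    (le_cj_of_norm x.2 hP.le)] at h4
  exact ⟨y⁻¹ * x, mul_mem (inv_mem hy) (mem_inf.1 hx').1, by rw [← cj_cj, h4, cj_inv_cj]⟩


/-- Let H and K be supersolvable subgroups of a finite group G of the same order, that order being coprime to their index. Then H and K are conjugate in G. -/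
theorem result {G : Type*} [Group G] [Finite G] (H K : Subgroup G) (hH : Cfsg.IsSupersolvable H) (hK : Cfsg.IsSupersolvable K) (hcard : Nat.card H = Nat.card K) (hHall : (Nat.card H).Coprime H.index) : ∃ x : G, MulAut.conj x • H = K := by
  have h := CfsgFT.Hall.of_coprime (H := H) le_top (by simpa using hHall)
  obtain ⟨x, -, h⟩ := aux h (h.of_card_eq le_top hcard) (CfsgH1.ss_iff.1 hH) (CfsgH1.ss_iff.1 hK)
  exact ⟨x, h⟩

end Cfsg.Agent.S0582
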