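import Cfsg.Statements.S0583
import Cfsg.Agent.FT.Hall

set_option autoImplicit false
open Cfsg

namespace Cfsg.Agent.S0583

/-- In a finite group the Fitting subgroup is contained in the centralizer of each minimal normal subgroup. -/
theorem result {G : Type*} [Group G] [Finite G] (M : Subgroup G) [M.Normal] (hM : M ≠ ⊥) (hmin : ∀ K : Subgroup G, K.Normal → K ≤ M → K = ⊥ ∨ K = M) : Cfsg.fittingSubgroup G ≤ Subgroup.centralizer (M : Set G) := by
  rcases hmin (M ⊓ Cfsg.fittingSubgroup G) inferInstance inf_le_left with h | h
  · exact CfsgFT.le_centralizer_of_normalize Subgroup.le_normalizer_of_normal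
      Subgroup.le_normalizer_of_normal (by rw [inf_comm, h])
  · have hle : M ≤ Cfsg.fittingSubgroup G := h ▸ inf_le_right
    have := CfsgFT.inf_centralizer_ne_bot_of_nilpotent (CfsgH1.isNilpotent_fitting G) hle
      Subgroup.le_normalizer_of_normal hM
    rcases hmin (M ⊓ Subgroup.centralizer (Cfsg.fittingSubgroup G : Set G)) inferInstance inf_le_left
      with h | h
    · exact absurd h this
    · exact CfsgFT.cent_symm (h ▸ inf_le_right)

end Cfsg.Agent.S0583
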