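import Cfsg.Statements.S0584
import Cfsg.Agent.H1.Solv

set_option autoImplicit false
open Cfsg

namespace Cfsg.Agent.S0584

/-- Let B ≤ A be normal subgroups of a finite group G with B contained in the Frattini subgroup of G. If A modulo B is nilpotent then A is nilpotent. -/
theorem result {G : Type*} [Group G] [Finite G] (A B : Subgroup G) [A.Normal] [B.Normal] (hBA : B ≤ A) (hB : B ≤ frattini G) (h : Group.IsNilpotent (↥A ⧸ B.subgroupOf A)) : Group.IsNilpotent A := by
  refine CfsgH1.isNilpotent_of_map_frattini hB ?_
  let f : A →* A.map (QuotientGroup.mk' B) := (QuotientGroup.mk' B).subgroupMap A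
  have hf : Function.Surjective f := MonoidHom.subgroupMap_surjective _ _
  refine Group.nilpotent_of_surjective (QuotientGroup.lift (B.subgroupOf A) f fun x hx => ?_)
    (QuotientGroup.lift_surjective_of_surjective _ _ hf _)
  exact Subtype.ext ((QuotientGroup.eq_one_iff _).2 hx)

end Cfsg.Agent.S0584
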