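import Cfsg.Statements.S0586
import Cfsg.Agent.H1.Gasch

set_option autoImplicit false
open Cfsg

namespace Cfsg.Agent.S0586

/-- If the Frattini subgroup of a finite group G is trivial, then the Fitting subgroup of G equals the join of all abelian minimal normal subgroups of G. -/
theorem result {G : Type*} [Group G] [Finite G] (hΦ : frattini G = ⊥) : Cfsg.fittingSubgroup G = sSup {N : Subgroup G | N.Normal ∧ N ≠ ⊥ ∧ IsMulCommutative N ∧ ∀ K : Subgroup G, K.Normal → K ≤ N → K = ⊥ ∨ K = N} := by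
  set S := sSup {N : Subgroup G | N.Normal ∧ N ≠ ⊥ ∧ IsMulCommutative N ∧
    ∀ K : Subgroup G, K.Normal → K ≤ N → K = ⊥ ∨ K = N} with hS
  have h1 : S ≤ Cfsg.fittingSubgroup G := sSup_le fun N hN => by
    have := hN.1
    have := hN.2.2.1
    exact CfsgH1.le_fitting_of_isMulCommutative
  have : S.Normal := Subgroup.sSup_normal _ fun N hN => hN.1
  have h2 := CfsgFT.cent_of_comm_eq_bot (le_bot_iff.1
    (hΦ ▸ CfsgH1.der_le_frattini_of_nilpotent (CfsgH1.isNilpotent_fitting G)))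
  obtain ⟨H, hH⟩ := CfsgH1.exists_compl_of_inf_frattini (CfsgFT.cent_mono h2 h1 h1)
    (by rw [hΦ, inf_bot_eq])
  have := CfsgH1.normal_inf_of_comm (H := H) h2 (top_le_iff.1 (hH.sup_eq_top ▸ sup_le_sup_right h1 _))
  refine le_antisymm ?_ h1
  have e : Cfsg.fittingSubgroup G = S ⊔ (Cfsg.fittingSubgroup G ⊓ H) := by
    rw [← CfsgFT.inf_sup_left h1 Subgroup.le_normalizer_of_normal, hH.sup_eq_top, inf_top_eq]
  rw [e]
  refine sup_le le_rfl ?_
  by_cases h0 : Cfsg.fittingSubgroup G ⊓ H = ⊥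
  · exact h0 ▸ bot_le
  obtain ⟨M, k1, k2, k3, k4⟩ := CfsgH1.exists_minNormal_le _ h0
  have : M ≤ S := le_sSup ⟨k1, k2, CfsgFT.comm_iff.2 (CfsgFT.cent_mono h2 (k3.trans inf_le_left)
    (k3.trans inf_le_left)), k4⟩
  exact absurd (le_bot_iff.1 (hH.disjoint this (k3.trans inf_le_right))) k2

end Cfsg.Agent.S0586
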