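import Cfsg.Statements.S0587
import Cfsg.Agent.H1.Prim
import Cfsg.Agent.H2.BG4

set_option autoImplicit false
open Cfsg

namespace Cfsg.Agent.S0587

/-- Let G be a finite group whose largest normal p-subgroup L is nontrivial, and M a maximal subgroup of G with trivial normal core. Then L is elementary abelian, M is a complement to L, L is a minimal normal subgroup of G, the centralizer of L is L, and for every prime q such that the largest normal q-subgroup of M is nontrivial, the order of L is congruent to 1 modulo q and q ≠ p. -/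
theorem result {G : Type*} [Group G] [Finite G] (p : ℕ) [Fact p.Prime] (hL : Cfsg.pCore p G ≠ ⊥) (M : Subgroup G) (hM : IsCoatom M) (hcore : M.normalCore = ⊥) : Cfsg.IsElementaryAbelian p (Cfsg.pCore p G) ∧ Subgroup.IsComplement' (Cfsg.pCore p G) M ∧ (∀ K : Subgroup G, K.Normal → K ≤ Cfsg.pCore p G → K = ⊥ ∨ K = Cfsg.pCore p G) ∧ Subgroup.centralizer ((Cfsg.pCore p G : Subgroup G) : Set G) = Cfsg.pCore p G ∧ ∀ (q : ℕ) [Fact q.Prime], Cfsg.pCore q ↥M ≠ ⊥ → Nat.card (Cfsg.pCore p G) % q = 1 % q ∧ q ≠ p := by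
  open Subgroup CfsgH1 CfsgFT in
  have h : Prim M := ⟨hM, hcore⟩
  have hp := isPGroup_pCore p G
  set L := Cfsg.pCore p G
  have hZ : L ⊓ C(L) ≠ ⊥ := center_ne_bot hp.isNilpotent hL
  have e1 := h.eq_cent hZ hL (cent_symm inf_le_right)
  have e2 := h.eq_cent hZ hZ (center_comm L)
  have hc : L ≤ C(L) := (e1.trans e2.symm).le.trans inf_le_right
  have hmin : ∀ K : Subgroup G, K.Normal → K ≤ L → K = ⊥ ∨ K = L := fun K _ hK =>
    h.min hL hc hK le_normalizer_of_normal
  refine ⟨?_, isComplement'_of_inf_of_sup (h.inf_eq_bot hL hc) (h.sup hL), hmin,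
    (h.eq_cent hL hL hc).symm, fun q _ hq => ?_⟩
  · have h1 : omegaOne p L = L := (hmin _ (normal_of_top_le (le_norm_om le_normalizer_of_normal))
      (om_le p L)).resolve_left (om_ne_bot (dvd_card_of_isPGroup hp hL))
    rw [← h1]; exact ea_om_of_comm hc
  · have hb : (Cfsg.pCore q M).map M.subtype ≠ ⊥ := fun e =>
      hq ((map_eq_bot_iff_of_injective _ M.subtype_injective).1 e)
    have hq' := (isPGroup_pCore q M).map M.subtype
    have h1 := h.inf_cent hL hc (map_subtype_le _) hb (le_norm_map_subtype _)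
    refine ⟨?_, ?_⟩
    · have := CfsgH2.card_modEq_card_inf_cent hq' (V := L) le_normalizer_of_normal
      rwa [h1, card_bot] at this
    · rintro rfl
      exact inf_cent_ne_bot_of_pgroup hq' hp le_normalizer_of_normal hL h1

end Cfsg.Agent.S0587
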