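import Cfsg.Statements.S0588
import Cfsg.Agent.H1.Prim

set_option autoImplicit false
open Cfsg

namespace Cfsg.Agent.S0588

/-- If a subgroup H of a finite group G contains the centralizer of every non-identity element of H, then the order of H is coprime to its index. -/
theorem result {G : Type*} [Group G] [Finite G] (H : Subgroup G) (h : ∀ x ∈ H, x ≠ 1 → Subgroup.centralizer ({x} : Set G) ≤ H) : (Nat.card H).Coprime H.index := by
  open Subgroup CfsgH1 CfsgFT CfsgH2 in
  refine Nat.coprime_of_dvd fun p hp hd hd' => ?_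
  haveI := Fact.mk hp
  obtain ⟨x, hx, ho⟩ := exists_orderOf_eq_prime hp hd
  have x1 : x ≠ 1 := by rintro rfl; simp at ho; exact hp.one_lt.ne ho
  obtain ⟨S, hS, h1⟩ := IsSylowIn.exists_le (Q := zpowers x) (IsPGroup.of_card (n := 1)
    (by rw [Nat.card_zpowers, ho, pow_one])) le_top
  have h2 := h1 (mem_zpowers x)
  obtain ⟨z, hz, z1⟩ := exists_mem_ne_one (center_ne_bot hS.pgroup.isNilpotent (ne_bot_of_mem h2 x1))
  exact hS.not_dvd_of_le ((le_cent1_iff.2 hz.2).trans (h z (h x hx x1 (cent_le_cent1 h2 hz.2)) z1))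
    le_top (by simpa using hd')

end Cfsg.Agent.S0588
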