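import Cfsg.Statements.S0589
import Cfsg.Agent.H1.Prim

set_option autoImplicit false
open Pointwise
open Cfsg

namespace Cfsg.Agent.S0589

/-- Let H be a Frobenius complement in a finite group G and L a subgroup of G whose order divides the order of H. Then L is contained in some conjugate of H. -/
theorem result {G : Type*} [Group G] [Finite G] (H : Subgroup G) (hH : Cfsg.IsFrobeniusComplement H) (L : Subgroup G) (hL : Nat.card L ∣ Nat.card H) : ∃ x : G, L ≤ MulAut.conj x • H := by
  open Subgroup CfsgH1 CfsgFT CfsgH2 in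
  obtain ⟨K, -, nK, hc, bK, hf⟩ := frob_data hH
  have cop := ((Nat.coprime_self_sub_left (Nat.card_pos (α := K))).2
    (Nat.coprime_one_left _)).coprime_dvd_left (card_dvd_card_sub_one le_normalizer_of_normal hf)
  obtain ⟨n, -, h⟩ := sz_le (B := L) le_normalizer_of_normal hc.disjoint (hc.sup_eq_top ▸ le_top)
    (cop.coprime_dvd_left hL) (Or.inr (isSolvable_of_nilpotent
      (nilpotent_of_fpf' le_normalizer_of_normal hH.1 hf)))
  exact ⟨n⁻¹, cj_le_iff_le_cj_inv.1 h⟩

end Cfsg.Agent.S0589
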