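import Cfsg.Statements.S0594
import Cfsg.Agent.H9.PStab2

set_option autoImplicit false
open Cfsg

namespace Cfsg.Agent.S0594

/-- For odd p, two quadratic generators of a faithful group that is not a p-group, one of which acts nontrivially on a normal subgroup of order prime to p, force p = 3 and a section isomorphic to SL(2,3). -/
theorem result {G : Type*} [Group G] [Finite G] {p : ℕ} [Fact p.Prime] (hp : p ≠ 2) (V H : Subgroup G) (hV : Cfsg.IsElementaryAbelian p V) (hHV : H ≤ Subgroup.normalizer (V : Set G)) (hf : H ⊓ Subgroup.centralizer (V : Set G) = ⊥) (a b : G) (hab : H = Subgroup.closure {a, b}) (ha : ⁅⁅V, Subgroup.zpowers a⁆, Subgroup.zpowers a⁆ = ⊥) (hb : ⁅⁅V, Subgroup.zpowers b⁆, Subgroup.zpowers b⁆ = ⊥) (hnp : ¬ IsPGroup p H) (Q : Subgroup G) (hQH : Q ≤ H) (hQn : H ≤ Subgroup.normalizer (Q : Set G)) (hQ : (Nat.card Q).Coprime p) (hQa : ⁅Q, Subgroup.zpowers a⁆ ≠ ⊥) : p = 3 ∧ ∃ (K L : Subgroup G) (hL : (L.subgroupOf K).Normal),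 K ≤ H ∧ Nonempty ((K ⧸ L.subgroupOf K) ≃* Matrix.SpecialLinearGroup (Fin 2) (ZMod 3)) := by
  open CfsgH9 Subgroup in
  have haH : a ∈ H := hab ▸ subset_closure (by simp)
  have hle : Q ⊔ zpowers a ≤ H := sup_le hQH (zpowers_le.2 haH)
  have hn : (Q.subgroupOf (Q ⊔ zpowers a)).Normal :=
    (normal_subgroupOf_iff_le_normalizer le_sup_left).2 (hle.trans hQn)
  have ha' : a ∈ Q ⊔ zpowers a := mem_sup_right (mem_zpowers a)
  have h := sec_of_faithful hp (isPGroup_of_ea hV) (hle.trans hHV) (eq_bot_iff.2 (hf ▸ inf_le_inf_right _ hle)) ha'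
    (quad_of_commutator ha (mem_zpowers a)) (fun k => hQa (by
      have h1 : ⁅Q, zpowers a⁆ ≤ Q := CfsgH1.commutator_le_left_of_le_normalizer ((zpowers_le.2 haH).trans hQn)
      have h2 : ⁅Q, zpowers a⁆ ≤ (pCore p ↥(Q ⊔ zpowers a)).map (Q ⊔ zpowers a).subtype :=
        (commutator_mono le_sup_left (zpowers_le.2 k)).trans (CfsgH1.commutator_le_right_of_le_normalizer
          (le_normalizer.trans (CfsgH1.normalizer_le_normalizer_pCore _)))
      exact eq_bot_iff.2 ((le_inf h2 h1).trans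
        (CfsgH1.disjoint_of_isPGroup_of_coprime (CfsgH1.isPGroup_map_pCore _) hQ).le_bot)))
  have hap : a ^ p = 1 := by
    refine hf.le ⟨pow_mem haH _, fun v hv => ?_⟩
    have q := quad_of_commutator ha (mem_zpowers a) v hv
    have key : ∀ n : ℕ, a ^ n * v * (a ^ n)⁻¹ = (a * v * a⁻¹ * v⁻¹) ^ n * v := by
      intro n
      induction n with
      | zero => simp
      | succ n ih =>
        calc a ^ (n + 1) * v * (a ^ (n + 1))⁻¹ = a * (a ^ n * v * (a ^ n)⁻¹) * a⁻¹ := by group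
          _ = _ := by rw [ih, ← mul_assoc, ← (q.pow_left n).eq, pow_succ]; group
    have := key p
    rw [hV.2 _ (mul_mem (conj_mem_of_mem_normalizer (hHV haH) hv) (inv_mem hv)), one_mul] at this
    exact (mul_inv_eq_iff_eq_mul.1 this).symm
  have hs : IsPSolvable p ↥(Q ⊔ zpowers a) := by
    refine CfsgH1.IsPSolvable.of_normal_of_quotient (Q.subgroupOf _) (CfsgH1.isPSolvable_of_coprime ?_)
      (CfsgH1.isPSolvable_of_isPGroup (CfsgH2.isPGroup_quotient_of_pow_mem fun x hx => ⟨1, ?_⟩))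
    · rwa [CfsgH1.card_subgroupOf_of_le le_sup_left]
    · obtain ⟨m, hm, k, rfl⟩ := (CfsgH2.mem_sup_zpowers (hQn haH)).1 hx
      have : ((⟨m, mem_sup_left hm⟩ * ⟨a, ha'⟩ ^ k : ↥(Q ⊔ zpowers a))) ^ p ∈ Q.subgroupOf (Q ⊔ zpowers a) := by
        rw [← QuotientGroup.eq_one_iff]
        change QuotientGroup.mk' _ _ = 1
        have e1 : QuotientGroup.mk' (Q.subgroupOf (Q ⊔ zpowers a)) ⟨m, mem_sup_left hm⟩ = 1 :=
          (QuotientGroup.eq_one_iff _).2 hm
        have e2 : (⟨a, ha'⟩ : ↥(Q ⊔ zpowers a)) ^ p = 1 := Subtype.ext hap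
        rw [map_pow, map_mul, e1, one_mul, ← map_pow, ← zpow_natCast, ← zpow_mul, mul_comm, zpow_mul, zpow_natCast,
          e2, one_zpow, map_one]
      rw [pow_one]
      exact this
  obtain rfl := eq_three_of_isPSolvable_sl2 hp (h.isPSolvable hs)
  exact ⟨rfl, sec_iff.1 (h.mono hle)⟩

end Cfsg.Agent.S0594
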