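import Cfsg.Statements.S0597
import Cfsg.Agent.H9.KS1

set_option autoImplicit false
open Cfsg

namespace Cfsg.Agent.S0597

/-- If two subnormal subgroups of a faithful group on an elementary abelian p-group satisfy [V, E₁, E₂] = 1, then their commutator lies in the largest normal p-subgroup. -/
theorem result {G : Type*} [Group G] [Finite G] {p : ℕ} [Fact p.Prime] (V H : Subgroup G) (hV : Cfsg.IsElementaryAbelian p V) (hHV : H ≤ Subgroup.normalizer (V : Set G)) (hf : H ⊓ Subgroup.centralizer (V : Set G) = ⊥) (E₁ E₂ : Subgroup G) (h₁ : E₁ ≤ H) (h₂ : E₂ ≤ H) (hs₁ : (E₁.subgroupOf H).IsSubnormal) (hs₂ : (E₂.subgroupOf H).IsSubnormal) (hc : ⁅⁅V, E₁⁆, E₂⁆ = ⊥) : ⁅E₁, E₂⁆ ≤ (Cfsg.pCore p H).map H.subtype := by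
  have n1 : E₁ ⊔ E₂ ≤ Subgroup.normalizer ((⁅E₁, E₂⁆ : Subgroup G) : Set G) :=
    sup_le (Subgroup.normalizer_commutator_ge_left _ _) (Subgroup.normalizer_commutator_ge_right _ _)
  have hc' := CfsgH9.le_centralizer_iff_bot.2 hc
  have n2 : E₂ ≤ Subgroup.normalizer ((⁅V, E₁⁆ : Subgroup G) : Set G) :=
    (Subgroup.le_centralizer_iff.1 hc').trans (Subgroup.centralizer_le_normalizer _)
  have n3 := Subgroup.normalizer_commutator_ge_right V E₁
  have k1 : ⁅V, ⁅E₁, E₂⁆⁆ ≤ ⁅V, E₁⁆ := by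
    rw [Subgroup.commutator_comm]
    refine CfsgH9.three_subgroups_mod n3 n2 (Subgroup.normalizer_commutator_ge_left _ _) ?_ (hc.le.trans bot_le)
    exact Subgroup.commutator_mono ((Subgroup.commutator_comm _ _).le.trans
      (CfsgH9.commutator_le_of_normalizer (h₂.trans hHV))) le_rfl
  have k2 : ⁅E₁, E₂⁆ ≤ Subgroup.centralizer ((⁅V, E₁⁆ : Subgroup G) : Set G) :=
    (Subgroup.commutator_mono le_rfl (Subgroup.le_centralizer_iff.1 hc')).trans
      (CfsgLead.commutator_le_of_le_normalizer_right (CfsgLead.le_normalizer_centralizer n3))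
  have k3 : ⁅⁅V, ⁅E₁, E₂⁆⁆, ⁅E₁, E₂⁆⁆ = ⊥ :=
    CfsgH9.le_centralizer_iff_bot.1 (k1.trans (Subgroup.le_centralizer_iff.1 k2))
  have l : ⁅E₁, E₂⁆ ≤ E₁ ⊔ E₂ := Subgroup.commutator_le.2 fun a ha b hb => mul_mem (mul_mem (mul_mem
    (Subgroup.mem_sup_left ha) (Subgroup.mem_sup_right hb)) (inv_mem (Subgroup.mem_sup_left ha)))
    (inv_mem (Subgroup.mem_sup_right hb))
  have l' := l.trans (sup_le h₁ h₂)
  refine CfsgH2.le_Op_of_sn ((CfsgLead.SN.of_normal l n1).trans (CfsgH1.sn_sup ⟨h₁, hs₁⟩ ⟨h₂, hs₂⟩))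
    (CfsgH1.isPGroup_of_forall_pow_eq_one fun x hx => Subgroup.mem_bot.1 (hf.le ⟨pow_mem (l' hx) p, ?_⟩))
  exact CfsgH9.quad_pow hV (l'.trans hHV) k3 hx

end Cfsg.Agent.S0597
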