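import Cfsg.Statements.S0602
import Cfsg.Agent.H9.Thompson

set_option autoImplicit false
open Cfsg

namespace Cfsg.Agent.S0602

/-- The Thompson subgroup is characteristic, and nontrivial as soon as p divides the group order. -/
theorem result {G : Type*} [Group G] [Finite G] {p : ℕ} [Fact p.Prime] : (Cfsg.thompsonSubgroup p G).Characteristic ∧ (p ∣ Nat.card G → Cfsg.thompsonSubgroup p G ≠ ⊥) := by
  open CfsgH9 Subgroup in
  rw [← J_top]
  refine ⟨characteristic_iff_map_eq.2 fun φ => by rw [map_J φ.injective, map_top_of_surjective _ φ.surjective],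
    fun h e => ?_⟩
  obtain ⟨x, hx⟩ := exists_prime_orderOf_dvd_card' p h
  obtain ⟨A, hA⟩ := exists_maxA (U := (⊤ : Subgroup G)) p
  have := hA.max _ le_top (CfsgFT.ea_zpowers (hx ▸ pow_orderOf_eq_one x))
  rw [eq_bot_iff.2 (hA.le_J.trans e.le), card_bot, Nat.card_zpowers, hx] at this
  exact (Fact.out : p.Prime).one_lt.not_ge this

end Cfsg.Agent.S0602
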