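import Cfsg.Statements.S0604
import Cfsg.Agent.H9.Thompson

set_option autoImplicit false
open Cfsg

namespace Cfsg.Agent.S0604

/-- The Thompson subgroup of G is the join of the Thompson subgroups of its Sylow p-subgroups. -/
theorem result {G : Type*} [Group G] [Finite G] {p : ℕ} [Fact p.Prime] : Cfsg.thompsonSubgroup p G = ⨆ S : Sylow p G, Cfsg.thompsonSubgroupOf p (S : Subgroup G) := by
  open CfsgH9 Subgroup in
  rw [← J_top]
  refine le_antisymm (J_le_iff.2 fun A hA => ?_) (iSup_le fun S => ?_)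
  · obtain ⟨S, hS⟩ := (CfsgFT.ea_isPGroup hA.ea).exists_le_sylow
    exact le_iSup_of_le S (hA.mono hS le_top).le_J
  · obtain ⟨A, hA⟩ := exists_maxA (U := (⊤ : Subgroup G)) p
    obtain ⟨g, hg⟩ := CfsgH2.exists_cj_le_sylow S (CfsgFT.ea_isPGroup hA.ea)
    have := hA.cj g
    rw [CfsgH2.cj_top] at this
    exact this.J_le_J hg le_top

end Cfsg.Agent.S0604
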