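import Cfsg.Statements.S0607
import Cfsg.Agent.H9.KS1

set_option autoImplicit false
open Cfsg

namespace Cfsg.Agent.S0607

/-- The replacement Theorem for the Thompson subgroup: from A of maximal order among elementary abelian p-subgroups one obtains A₀ = [V, A] C_A([V, A]) of the same kind, quadratic on V and nontrivial on V when A is. -/
theorem result {G : Type*} [Group G] [Finite G] {p : ℕ} [Fact p.Prime] (V : Subgroup G) [V.Normal] (hV : Cfsg.IsElementaryAbelian p V) (A : Subgroup G) (hA : A ∈ Cfsg.maxElementaryAbelianSubgroups p G) : (⁅V, A⁆ ⊔ (A ⊓ Subgroup.centralizer ((⁅V, A⁆ : Subgroup G) : Set G))) ∈ Cfsg.maxElementaryAbelianSubgroups p G ∧ ⁅⁅V, ⁅V, A⁆ ⊔ (A ⊓ Subgroup.centralizer ((⁅V, A⁆ : Subgroup G) : Set G))⁆, ⁅V, A⁆ ⊔ (A ⊓ Subgroup.centralizer ((⁅V, A⁆ : Subgroup G) : Set G))⁆ = ⊥ ∧ (⁅V, A⁆ ≠ ⊥ → ⁅V, ⁅V, A⁆ ⊔ (A ⊓ Subgroup.centralizer ((⁅V, A⁆ : Subgroup G) : Set G))⁆ ≠ ⊥) := by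
  have hm := CfsgH9.maxA_top.2 hA
  have h1 := hm.bo hV le_top
  have hc := CfsgFT.ea_le_centralizer hV
  have hX : ⁅V, A⁆ ≤ V := Subgroup.commutator_le_left _ _
  obtain ⟨e1, e2⟩ := h1.replace hc Subgroup.le_normalizer_of_normal le_rfl
  set B := A ⊓ Subgroup.centralizer ((⁅V, A⁆ : Subgroup G) : Set G)
  have hB := CfsgFT.ea_sup (CfsgFT.ea_mono hV hX) (CfsgFT.ea_mono hA.1 inf_le_left : IsElementaryAbelian p B) inf_le_right
  have k1 : V ⊓ Subgroup.centralizer (A : Set G) ≤ B := le_inf (fun x hx => hm.mem_of_comm (Subgroup.mem_top x) hx.2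
    (hV.2 x hx.1)) (inf_le_left.trans (hc.trans (Subgroup.centralizer_le hX)))
  have k2 : ⁅V, ⁅V, A⁆ ⊔ B⁆ ≤ ⁅V, A⁆ := by
    rw [Subgroup.commutator_comm]
    exact CfsgH2.commutator_sup_le Subgroup.le_normalizer (inf_le_left.trans (Subgroup.normalizer_commutator_ge_right _ _))
      ((CfsgH9.le_centralizer_iff_bot.1 (hX.trans hc)).le.trans bot_le)
      ((Subgroup.commutator_comm _ _).le.trans (Subgroup.commutator_mono le_rfl inf_le_left))
  refine ⟨CfsgH9.maxA_top.1 (hm.of_card le_top hB (Nat.le_of_mul_le_mul_left (c := Nat.card ↥(V ⊓ Subgroup.centralizer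
    (A : Set G))) ?_ Nat.card_pos)), CfsgH9.le_centralizer_iff_bot.1 (k2.trans (le_sup_left.trans
      (CfsgFT.ea_le_centralizer hB))), fun h k => h (h1.replace_ne hc (CfsgFT.ea_isPGroup hV)
      Subgroup.le_normalizer_of_normal (fun a ha => ⟨1, by rw [pow_one, hA.1.2 a ha]; exact one_mem _⟩) le_rfl
      (eq_bot_iff.2 ((Subgroup.commutator_mono le_rfl le_sup_right).trans k.le)))⟩
  refine ((mul_comm _ _).trans e2).le.trans ((CfsgH9.card_mul_card_le _ _).trans (Nat.mul_le_mul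
    (Subgroup.card_le_of_le ?_) (Subgroup.card_le_of_le ?_)))
  · exact le_inf (inf_le_right.trans inf_le_left) (inf_le_left.trans (inf_le_left.trans (CfsgFT.ea_le_centralizer hA.1)))
  · exact sup_le le_sup_right (e1.le.trans (sup_le_sup_left k1 _))

end Cfsg.Agent.S0607
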