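import Cfsg.Statements.S0612
import Cfsg.Agent.H9.KS3

set_option autoImplicit false
open Cfsg

namespace Cfsg.Agent.S0612

/-- In such a faithful group every nontrivial best offender decomposes as a direct product of minimal nontrivially-acting best offenders. -/
theorem result {G : Type*} [Group G] [Finite G] {p : ℕ} [Fact p.Prime] (V H : Subgroup G) (hV : Cfsg.IsElementaryAbelian p V) (hHV : H ≤ Subgroup.normalizer (V : Set G)) (hf : H ⊓ Subgroup.centralizer (V : Set G) = ⊥) (hS1 : Subgroup.centralizer (Cfsg.pPrimeCore p ↥H : Set ↥H) ≤ Cfsg.pPrimeCore p ↥H) (hS3 : H = ⨆ A : {A : Subgroup G // A ≤ H ∧ Cfsg.IsBestOffenderOn p V A}, (A : Subgroup G)) (hH1 : H ≠ ⊥) (A : Subgroup G) (hAH : A ≤ H) (hA : Cfsg.IsBestOffenderOn p V A) (hA1 : A ≠ ⊥) : ∃ (k : ℕ) (B : Fin k → Subgroup G), (∀ i, B i ≤ A ∧ Cfsg.IsBestOffenderOn p V (B i) ∧ ⁅V, B i⁆ ≠ ⊥ ∧ ∀ C : Subgroup G, C ≤ B i → Cfsg.IsBestOffenderOn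 p V C → ⁅V, C⁆ ≠ ⊥ → C = B i) ∧ iSupIndep B ∧ ⨆ i, B i = A := by
  classical
  have h := CfsgH9.s3_of hV hHV hf hS1
  have g := (h.gen A hAH (CfsgH9.bo_iff.1 hA).1 (h.ea_of hAH hA)).2
  have ex : ∃ k, ∃ B : Fin k → Subgroup G, (∀ i, B i ≤ A ∧ CfsgH9.Tv p V (B i)) ∧ ⨆ i, B i = A := by
    obtain ⟨k, ⟨e⟩⟩ := Finite.exists_equiv_fin {B : Subgroup G // B ≤ A ∧ CfsgH9.Tv p V B}
    exact ⟨k, fun i => e.symm i, fun i => (e.symm i).2, le_antisymm (iSup_le fun i => (e.symm i).2.1)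
      (g.trans (sSup_le fun B b => le_iSup_of_le (e ⟨B, b⟩) (by simp)))⟩
  obtain ⟨B, b1, b2⟩ := Nat.find_spec ex
  refine ⟨_, B, fun i => ⟨(b1 i).1, (h.tv_iff ((b1 i).1.trans hAH)).1 (b1 i).2⟩, fun i => disjoint_iff.2
    ((CfsgH9.eq_bot_or_eq_of_card (b1 i).2.card inf_le_left).resolve_right fun e => ?_), b2⟩
  have m := fun k => Nat.find_min ex (m := k)
  generalize Nat.find ex = n at *
  obtain _ | n := n
  · exact i.elim0
  refine m n n.lt_succ_self ⟨fun j => B (i.succAbove j), fun j => b1 _, le_antisymm (iSup_le fun j => (b1 _).1) ?_⟩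
  have k : ⨆ j, ⨆ (_ : j ≠ i), B j ≤ ⨆ j, B (i.succAbove j) := iSup₂_le fun j hj => by
    obtain ⟨j, rfl⟩ := Fin.exists_succAbove_eq hj
    exact le_iSup (fun j => B (i.succAbove j)) j
  refine b2.ge.trans (iSup_le fun j => ?_)
  rcases eq_or_ne j i with rfl | hj
  exacts [(e.ge.trans inf_le_right).trans k, (le_iSup₂_of_le (f := fun j (_ : j ≠ i) => B j) j hj le_rfl).trans k]

end Cfsg.Agent.S0612
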