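import Cfsg.Statements.S0617
import Cfsg.Agent.H9.KS3

set_option autoImplicit false
open Cfsg

namespace Cfsg.Agent.S0617

/-- Structure Theorem for failure of factorization: a faithful group generated by best offenders, with self-centralizing p'-core, is a direct product of copies of SL(2, p) (p = 2 or 3), each acting on its own plane in V, which is the direct product of these planes and C_V(H). -/
theorem result {G : Type*} [Group G] [Finite G] {p : ℕ} [Fact p.Prime] (V H : Subgroup G) (hV : Cfsg.IsElementaryAbelian p V) (hHV : H ≤ Subgroup.normalizer (V : Set G)) (hf : H ⊓ Subgroup.centralizer (V : Set G) = ⊥) (hS1 : Subgroup.centralizer (Cfsg.pPrimeCore p ↥H : Set ↥H) ≤ Cfsg.pPrimeCore p ↥H) (hS3 : H = ⨆ A : {A : Subgroup G // A ≤ H ∧ Cfsg.IsBestOffenderOn p V A}, (A : Subgroup G)) (hH1 : H ≠ ⊥) : (p = 2 ∨ p = 3) ∧ (∀ E : {E : Subgroup G //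 ∃ A : Subgroup G, A ≤ H ∧ Cfsg.IsBestOffenderOn p V A ∧ ⁅V, A⁆ ≠ ⊥ ∧ (∀ B : Subgroup G, B ≤ A → Cfsg.IsBestOffenderOn p V B → ⁅V, B⁆ ≠ ⊥ → B = A) ∧ E = ⁅((Cfsg.pPrimeCore p ↥H).map H.subtype), A⁆ ⊔ A}, H ≤ Subgroup.normalizer ((E : Subgroup G) : Set G) ∧ Nonempty (↥(E : Subgroup G) ≃* Matrix.SpecialLinearGroup (Fin 2) (ZMod p)) ∧ Nat.card ↥(⁅V, (E : Subgroup G)⁆) = p ^ 2) ∧ iSupIndep (fun E : {E : Subgroup G // ∃ A : Subgroup G, A ≤ H ∧ Cfsg.IsBestOffenderOn p V A ∧ ⁅V, A⁆ ≠ ⊥ ∧ (∀ B : Subgroup G, B ≤ A → Cfsg.IsBestOffenderOn p V B → ⁅V, B⁆ ≠ ⊥ → B = A) ∧ E = ⁅((Cfsg.pPrimeCore p ↥H).map H.subtype), A⁆ ⊔ A} => (E : Subgroup G)) ∧ (⨆ E : {E : Subgroup G // ∃ A : Subgroup G, A ≤ H ∧ Cfsg.IsBestOffenderOn p V A ∧ ⁅V, A⁆ ≠ ⊥ ∧ (∀ B : Subgroup G, B ≤ A → Cfsg.IsBestOffenderOn p V B → ⁅V, B⁆ ≠ ⊥ → B = A) ∧ E = ⁅((Cfsg.pPrimeCore p ↥H).map H.subtype),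 A⁆ ⊔ A}, (E : Subgroup G)) = H ∧ iSupIndep (fun o : Option {E : Subgroup G // ∃ A : Subgroup G, A ≤ H ∧ Cfsg.IsBestOffenderOn p V A ∧ ⁅V, A⁆ ≠ ⊥ ∧ (∀ B : Subgroup G, B ≤ A → Cfsg.IsBestOffenderOn p V B → ⁅V, B⁆ ≠ ⊥ → B = A) ∧ E = ⁅((Cfsg.pPrimeCore p ↥H).map H.subtype), A⁆ ⊔ A} => o.elim (V ⊓ Subgroup.centralizer (H : Set G)) (fun E => ⁅V, (E : Subgroup G)⁆)) ∧ (V ⊓ Subgroup.centralizer (H : Set G)) ⊔ (⨆ E : {E : Subgroup G // ∃ A : Subgroup G, A ≤ H ∧ Cfsg.IsBestOffenderOn p V A ∧ ⁅V, A⁆ ≠ ⊥ ∧ (∀ B : Subgroup G, B ≤ A → Cfsg.IsBestOffenderOn p V B → ⁅V, B⁆ ≠ ⊥ → B = A) ∧ E = ⁅((Cfsg.pPrimeCore p ↥H).map H.subtype), A⁆ ⊔ A}, ⁅V, (E : Subgroup G)⁆) = V := by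
  have h := CfsgH9.s3_of hV hHV hf hS1
  have g := h.gen' hS3
  generalize (pPrimeCore p H).map H.subtype = K at *
  set I := {E : Subgroup G // ∃ A : Subgroup G, A ≤ H ∧ IsBestOffenderOn p V A ∧ ⁅V, A⁆ ≠ ⊥ ∧ (∀ B : Subgroup G, B ≤ A →
    IsBestOffenderOn p V B → ⁅V, B⁆ ≠ ⊥ → B = A) ∧ E = ⁅K, A⁆ ⊔ A}
  have k1 : ∀ E : I, ∃ A ≤ H, CfsgH9.Tv p V A ∧ E.1 = ⁅K, A⁆ ⊔ A := fun ⟨E, A, a1, a2, a3, a4, a5⟩ =>
    ⟨A, a1, (h.tv_iff a1).2 ⟨a2, a3, a4⟩, a5⟩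
  have k2 : ∀ E : I, ∃ A, CfsgH9.Blk p V H K A E := fun E => let ⟨A, a1, a2, a3⟩ := k1 E; ⟨A, a3 ▸ h.blk' a1 a2⟩
  have k3 : ∀ E F : I, F ≠ E → ⁅V, F.1⁆ ≤ Subgroup.centralizer (E.1 : Set G) := fun E F ne => by
    obtain ⟨A, a1, a2, a3⟩ := k1 E
    obtain ⟨B, b1, b2, b3⟩ := k1 F
    exact b3 ▸ h.le_C g a1 a2 a3 b1 b2 fun e => ne (Subtype.ext (b3.trans e))
  have k4 : ⨆ E : I, E.1 = H := le_antisymm (iSup_le fun E => (k2 E).elim fun _ b => b.lH') (g.trans (sSup_le fun B b =>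
    let ⟨r1, r2, r3⟩ := (h.tv_iff b.1).1 b.2
    le_iSup_of_le (⟨_, B, b.1, r1, r2, r3, rfl⟩ : I) le_sup_right))
  have k5 : V ⊓ Subgroup.centralizer (K : Set G) ≤ V ⊓ Subgroup.centralizer (H : Set G) :=
    le_inf inf_le_left (Subgroup.le_centralizer_iff.1 (k4.ge.trans (iSup_le fun E => (k2 E).elim fun _ b =>
      Subgroup.le_centralizer_iff.1 ((inf_le_inf_left _ (Subgroup.centralizer_le (inf_le_right : E.1 ⊓ K ≤ K))).trans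
      (b.cent_D.le.trans inf_le_right)))))
  have l : ⨆ E : I, ⁅V, E.1⁆ ≤ V := iSup_le fun E => (k2 E).elim fun _ b => b.lW
  obtain ⟨B, b1, b2⟩ : ∃ B ≤ H, CfsgH9.Tv p V B := by
    by_contra! k
    exact hH1 (eq_bot_iff.2 (g.trans (sSup_le fun B b => (k B b.1 b.2).elim)))
  refine ⟨(h.blk' b1 b2).prime, fun E => ?_, fun E => ?_, k4, fun o => ?_, le_antisymm (sup_le inf_le_left l)
    ((h.split le_rfl).2.ge.trans (sup_le (le_sup_of_le_right ?_) (le_sup_of_le_left k5)))⟩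
  · obtain ⟨A, a1, a2, a3⟩ := k1 E
    obtain ⟨_, b⟩ := k2 E
    exact ⟨h.nE g a1 a2 a3, b.equiv, b.card_W⟩
  · exact (k2 E).elim fun _ b => (disjoint_iff.2 b.faithful).mono_right (iSup₂_le fun F ne =>
      Subgroup.le_centralizer_iff.1 (k3 F E (Ne.symm ne)))
  · rcases o with _ | E
    · refine (disjoint_iff.2 (h.split le_rfl).1).symm.mono (inf_le_inf_left _ (Subgroup.centralizer_le h.le))
        (iSup₂_le fun o ne => ?_)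
      obtain ⟨F, rfl⟩ := Option.ne_none_iff_exists'.1 ne
      exact (k2 F).elim fun _ b => b.comm_D.ge.trans (Subgroup.commutator_mono le_rfl inf_le_right)
    · obtain ⟨_, b⟩ := k2 E
      refine (disjoint_iff.2 b.split.1).mono_right (iSup₂_le fun o ne => ?_)
      rcases o with _ | F
      · exact inf_le_inf_left _ (Subgroup.centralizer_le b.lH')
      · exact le_inf ((k2 F).elim fun _ b => b.lW) (k3 E F fun e => ne (congrArg _ e))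
  · rw [Subgroup.commutator_comm]
    refine CfsgH1.commutator_le_of_le_iSup (h.le.trans k4.ge) (fun E => Subgroup.le_normalizer_iff_commutator_le_left.2
      ((Subgroup.commutator_mono l le_rfl).trans (le_iSup (fun E : I => ⁅V, E.1⁆) E))) fun E =>
      (Subgroup.commutator_comm _ _).le.trans (le_iSup (fun E : I => ⁅V, E.1⁆) E)

end Cfsg.Agent.S0617
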