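import Cfsg.Statements.S0619
import Cfsg.Agent.H9.KS5

set_option autoImplicit false
open Cfsg

namespace Cfsg.Agent.S0619

/-- For a p-separable group and a normal elementary abelian p-subgroup V with no nontrivial normal p-subgroup modulo its centralizer C, the Thompson subgroup J(G) moves Ω₁(Z(J(C))) only inside V. -/
theorem result {G : Type*} [Group G] [Finite G] {p : ℕ} [Fact p.Prime] (hsep : Cfsg.IsPSolvable p G) (V : Subgroup G) [V.Normal] (hV : Cfsg.IsElementaryAbelian p V) (hO : Cfsg.pCore p (G ⧸ Subgroup.centralizer (V : Set G)) = ⊥) : ⁅Cfsg.omegaOne p (Cfsg.centerThompsonOf p (Subgroup.centralizer (V : Set G))), Cfsg.thompsonSubgroup p G⁆ ≤ V := by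
  have hV' := CfsgH2.pred_top_iff.1 ⟨inferInstance, hV, inferInstance, hO⟩
  have hL : IsPSolvable p (⊤ : Subgroup G) := CfsgH1.IsPSolvable.of_surjective hsep (Subgroup.topEquiv (G := G)).symm.toMonoidHom
    (Subgroup.topEquiv (G := G)).symm.surjective
  have h := CfsgH9.s3_ps hV' hL (.refl ⊤)
  rw [← CfsgH9.le_centMod_iff', ← CfsgH9.J_top]
  refine CfsgH9.J_le_iff.2 fun A a => CfsgH9.le_centMod_iff'.2 ?_
  have t := a.le.trans hV'.norm
  have k := CfsgH9.mm_ps t
  rw [(h.gen _ (CfsgH9.ps_mono le_top) ((a.bo hV le_top).ps t) (CfsgFT.ea_map (CfsgFT.ea_subgroupOf a.ea) _)).1,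
    CfsgH9.card_io le_rfl] at k
  have c := CfsgFT.ea_le_centralizer hV
  have e0 := CfsgFT.ea_sup (CfsgFT.ea_mono a.ea (inf_le_left : A ⊓ Subgroup.centralizer (V : Set G) ≤ A)) hV
    (Subgroup.le_centralizer_iff.1 inf_le_right)
  have m : CfsgH9.MaxA p ⊤ (A ⊓ Subgroup.centralizer (V : Set G) ⊔ V) := a.of_card le_top e0 (by
    have l := CfsgH9.card_mul_card_le (A ⊓ Subgroup.centralizer (V : Set G)) V
    rw [k, CfsgH9.mm, mul_comm] at l
    refine Nat.le_of_mul_le_mul_left (l.trans (Nat.mul_le_mul_right _ (Subgroup.card_le_of_le ?_))) Nat.card_pos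
    exact le_inf inf_le_right (inf_le_left.trans (inf_le_left.trans (CfsgFT.ea_le_centralizer a.ea))))
  have m' := m.mono (sup_le inf_le_right c) le_top
  have y : omegaOne p (centerThompsonOf p (Subgroup.centralizer (V : Set G))) ≤ A ⊓ Subgroup.centralizer (V : Set G) ⊔ V :=
    (Subgroup.closure_le _).2 fun x hx => m.mem_of_comm trivial (Subgroup.centralizer_le m'.le_J hx.1.2) hx.2
  exact (Subgroup.commutator_mono y le_rfl).trans (CfsgH2.commutator_sup_le (inf_le_left.trans t) Subgroup.le_normalizer ((CfsgH9.le_centralizer_iff_bot.1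
    (inf_le_left.trans (CfsgFT.ea_le_centralizer a.ea))).le.trans bot_le) (CfsgH9.commutator_le_of_normalizer t))

end Cfsg.Agent.S0619
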