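import Cfsg.Statements.S0620
import Cfsg.Agent.H9.KS5

set_option autoImplicit false
open Cfsg

namespace Cfsg.Agent.S0620

/-- Under coprime action of an elementary abelian q-group X on a p-separable group K with trivial p'-core, K is generated by the normalizer of J(S), the centralizer of Ω₁(Z(S)) and the fixed points of X. -/
theorem result {G : Type*} [Group G] [Finite G] {p : ℕ} [Fact p.Prime] {q : ℕ} [Fact q.Prime] (K X : Subgroup G) (hXK : X ≤ Subgroup.normalizer (K : Set G)) (hX : Cfsg.IsElementaryAbelian q X) (hq : ¬ q ∣ Nat.card K) (hsep : Cfsg.IsPSolvable p ↥K) (hO : Cfsg.pPrimeCore p ↥K = ⊥) (S : Sylow p ↥K) : (Subgroup.normalizer (Cfsg.thompsonSubgroupOf p (S : Subgroup ↥K) : Set ↥K) ⊔ Subgroup.centralizer (Cfsg.omegaOne p ((S : Subgroup ↥K) ⊓ Subgroup.centralizer ((S : Subgroup ↥K) : Set ↥K)) : Set ↥K) ⊔ (Subgroup.centralizer (X : Set G)).subgroupOf K) = ⊤ := by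
  have hc := CfsgH1.IsPSolvable.centralizer_pCore_le hsep hO
  have hV := CfsgH2.pred_map_iff.1 (CfsgH9.pred_VS hc)
  rw [CfsgH9.map_VS] at hV
  have hT := CfsgH2.IsSylowIn.of_sylow_map S
  have nJ := CfsgH9.normalizer_le_normalizer_J (n := p) K
  have t := (CfsgH9.J_le (n := p)).trans hV.norm
  have xV : X ≤ Subgroup.normalizer (sylowCenterClosure p K : Set G) := fun x hx =>
    CfsgH2.cj_eq_iff_mem_normalizer.1 (by rw [CfsgH2.cj_ZL, CfsgFT.cj_eq_of_norm (hXK hx)])
  have hq' : ¬ q ∣ Nat.card (thompsonSubgroupOf p K) := fun d => hq (d.trans (Subgroup.card_dvd_of_le CfsgH9.J_le))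
  have hT' := hT.inf_of_normalizer' CfsgH9.J_le (Subgroup.le_normalizer.trans nJ)
  have k := (CfsgH9.s3_ps hV hsep (.of_normal CfsgH9.J_le (Subgroup.le_normalizer.trans nJ))).le_of_X
    (CfsgH9.gen_ps hV hsep) (CfsgH9.xo_ps t xV (CfsgFT.ea_isPGroup hX) (hXK.trans nJ) hq')
    (CfsgH2.IsSylowIn.map (S := Subgroup.subgroupOf _ _) ⟨Subgroup.comap_mono hT'.le, hT'.pgroup.comap_subtype, 
      (Subgroup.relIndex_subgroupOf t).symm ▸ hT'.not_dvd⟩ (CfsgH9.hψ _))
  rw [← CfsgH9.ps_inf_cent t xV (CfsgFT.ea_isPGroup hX) (hXK.trans nJ) hq'] at k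
  have k' := (CfsgH9.ps_le_iff t).1 (k.trans (CfsgH9.ps_sup (inf_le_left.trans (hT.le.trans hV.norm)) (inf_le_left.trans t)).ge)
  rw [CfsgH9.pb_ps (sup_le (inf_le_left.trans (hT.le.trans hV.norm)) (inf_le_left.trans t))] at k'
  have jT : thompsonSubgroupOf p ((S : Subgroup K).map K.subtype) ≤ thompsonSubgroupOf p K := by
    rw [← CfsgH9.map_J K.subtype_injective]
    exact Subgroup.map_mono (CfsgH9.J_sylow_le S)
  have fr := CfsgFT.sylow_frattini_sup hT' CfsgH9.J_le (Subgroup.le_normalizer.trans nJ)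
  have nT : ∀ g : K, (g : G) ∈ Subgroup.normalizer (thompsonSubgroupOf p ((S : Subgroup K).map K.subtype) : Set G) →
      g ∈ Subgroup.normalizer (thompsonSubgroupOf p (S : Subgroup K) : Set K) := fun g hg => by
    rw [← CfsgH9.map_J K.subtype_injective] at hg
    have := Subgroup.le_normalizer_comap K.subtype hg
    rwa [Subgroup.comap_map_eq_self_of_injective K.subtype_injective] at this
  rw [eq_top_iff, ← Subgroup.map_le_map_iff_of_injective K.subtype_injective, ← MonoidHom.range_eq_map, Subgroup.range_subtype]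
  refine fr.ge.trans (sup_le (fun j hj => ?_) fun g hg => ⟨⟨g, hg.1⟩, Subgroup.mem_sup_left (Subgroup.mem_sup_left (nT _ ?_)), rfl⟩)
  · have l : (S : Subgroup K).map K.subtype ⊓ thompsonSubgroupOf p K ⊔ thompsonSubgroupOf p K ⊓ Subgroup.centralizer (X : Set G) ≤ K :=
      sup_le (inf_le_left.trans hT.le) (inf_le_left.trans CfsgH9.J_le)
    obtain ⟨a, a1, c, c1, rfl⟩ := (CfsgH2.mem_sup_of_normalizer' (l.trans hV.normC)).1 (k' hj)
    have c2 : c ∈ K := by simpa using mul_mem (inv_mem (l a1)) (CfsgH9.J_le hj)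
    refine mul_mem ((sup_le (a := (S : Subgroup K).map K.subtype ⊓ thompsonSubgroupOf p K) (b := thompsonSubgroupOf p K ⊓ Subgroup.centralizer (X : Set G))
      (c := Subgroup.map K.subtype _) (fun g hg => ⟨⟨g, hT.le hg.1⟩,
      Subgroup.mem_sup_left (Subgroup.mem_sup_left (nT _ (CfsgH9.normalizer_le_normalizer_J _ (Subgroup.le_normalizer hg.1)))),
      rfl⟩) (fun g hg => ⟨⟨g, CfsgH9.J_le hg.1⟩, Subgroup.mem_sup_right (Subgroup.mem_subgroupOf.2 hg.2), rfl⟩)) a1)
      ⟨⟨c, c2⟩, Subgroup.mem_sup_left (Subgroup.mem_sup_right fun y hy => Subtype.ext (c1 _ ?_)), rfl⟩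
    exact CfsgH9.map_VS.le (Subgroup.mem_map_of_mem _ (CfsgH9.oz_le_VS S hy))
  · rw [← CfsgH9.J_eq_of_le (le_inf CfsgH9.J_le jT) inf_le_left]
    exact CfsgH9.normalizer_le_normalizer_J _ hg.2

end Cfsg.Agent.S0620
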