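import Cfsg.Statements.S0621
import Cfsg.Agent.H9.KS5

set_option autoImplicit false
open Cfsg

namespace Cfsg.Agent.S0621

/-- Let K be p-separable with O_p'(K) = 1, normalized by an elementary abelian q-group X for a prime q not dividing the order of K. If the Thompson factorization fails in K, then p is 2 or 3 and the fixed points of X contain a plane W of order p² and a subgroup inducing SL(2, p) on it. -/
theorem result {G : Type*} [Group G] [Finite G] {p : ℕ} [Fact p.Prime] {q : ℕ} [Fact q.Prime] (K X : Subgroup G) (hXK : X ≤ Subgroup.normalizer (K : Set G)) (hX : Cfsg.IsElementaryAbelian q X) (hq : ¬ q ∣ Nat.card K) (hsep : Cfsg.IsPSolvable p ↥K) (hO : Cfsg.pPrimeCore p ↥K = ⊥) (hnf : ¬ Cfsg.IsThompsonFactorizable p ↥K) : (p = 2 ∨ p = 3) ∧ ∃ W D : Subgroup G, W ≤ K ⊓ Subgroup.centralizer (X : Set G) ∧ D ≤ K ⊓ Subgroup.centralizer (X : Set G) ∧ Cfsg.IsElementaryAbelian p W ∧ Nat.card W = p ^ 2 ∧ D ≤ Subgroup.normalizer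 (W : Set G) ∧ ∃ hn : ((Subgroup.centralizer (W : Set G)).subgroupOf D).Normal, Nonempty ((↥D ⧸ (Subgroup.centralizer (W : Set G)).subgroupOf D) ≃* Matrix.SpecialLinearGroup (Fin 2) (ZMod p)) := by
  have hc := CfsgH1.IsPSolvable.centralizer_pCore_le hsep hO
  have hV := CfsgH2.pred_map_iff.1 (CfsgH9.pred_VS hc)
  rw [CfsgH9.fact_iff hO] at hnf
  have hnf' : ¬ thompsonSubgroupOf p K ≤ Subgroup.centralizer ((CfsgH9.VS p K).map K.subtype : Set G) := fun k => hnf
    fun x hx y hy => Subtype.ext (k (Subgroup.mem_map_of_mem _ hx) _ (Subgroup.mem_map_of_mem _ hy))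
  rw [CfsgH9.map_VS] at hV hnf'
  have nJ := CfsgH9.normalizer_le_normalizer_J (n := p) K
  have t := (CfsgH9.J_le (n := p)).trans hV.norm
  have xV : X ≤ Subgroup.normalizer (sylowCenterClosure p K : Set G) := fun x hx =>
    CfsgH2.cj_eq_iff_mem_normalizer.1 (by rw [CfsgH2.cj_ZL, CfsgFT.cj_eq_of_norm (hXK hx)])
  have hq' : ¬ q ∣ Nat.card (thompsonSubgroupOf p K) := fun d => hq (d.trans (Subgroup.card_dvd_of_le CfsgH9.J_le))
  obtain ⟨B, b1, b2⟩ := CfsgH9.exists_tv hV hsep hnf'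
  have h := CfsgH9.s3_ps hV hsep (.of_normal CfsgH9.J_le (Subgroup.le_normalizer.trans nJ))
  have g := CfsgH9.gen_ps hV hsep
  have x := CfsgH9.xo_ps (p := p) t xV (CfsgFT.ea_isPGroup hX) (hXK.trans nJ) hq'
  obtain ⟨W, w1, w2, w3, w4⟩ := h.exists_W g b1 b2 rfl x
  obtain ⟨ρ, r1, r2⟩ := h.exists_hom g b1 b2 rfl x
  obtain ⟨W, l, rfl⟩ := CfsgH9.exists_io (w1.trans inf_le_left)
  have k := CfsgH9.ps_inf_cent t xV (CfsgFT.ea_isPGroup hX) (hXK.trans nJ) hq'
  have t' : thompsonSubgroupOf p K ⊓ Subgroup.centralizer (X : Set G) ≤ _ := inf_le_left.trans t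
  refine ⟨(h.blk' b1 b2).prime, W, thompsonSubgroupOf p K ⊓ Subgroup.centralizer (X : Set G), le_inf (l.trans hV.le)
    (Subgroup.le_centralizer_iff.1 ((CfsgH9.ps_le_cent xV l).1 (Subgroup.le_centralizer_iff.1 (w1.trans inf_le_right)))),
    inf_le_inf_right _ CfsgH9.J_le, CfsgFT.ea_mono hV.ea l, (CfsgH9.card_io l).symm.trans w2,
    (CfsgH9.ps_norm_io t' l).1 (k.le.trans w3), ?_⟩
  obtain ⟨f, f1, f2⟩ := CfsgH9.exists_psHom t'
  refine CfsgH9.quot_equiv_of (ρ.comp ((MulEquiv.subgroupCongr k).toMonoidHom.comp f)) (r1.comp ((MulEquiv.subgroupCongr k).surjective.comp f1))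
    fun d => ?_
  rw [MonoidHom.comp_apply, r2, ← w4 _ (Subtype.property _), ← CfsgH9.hψ_mem_cent l (g := ⟨d, t' d.2⟩), ← f2]
  rfl

end Cfsg.Agent.S0621
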