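import Cfsg.Statements.S0627
import Cfsg.Agent.H9.WS

set_option autoImplicit false
open Cfsg

namespace Cfsg.Agent.S0627

/-- In a p-separable group with p at least 5, the normalizer of W(S) supplements the largest normal subgroup of order prime to p. -/
theorem result {G : Type*} [Group G] [Finite G] {p : ℕ} [Fact p.Prime] (hp : 5 ≤ p) (hsep : Cfsg.IsPSolvable p G) (S : Sylow p G) : Cfsg.pPrimeCore p G ⊔ Subgroup.normalizer (((Cfsg.stableNormalClosure p ↥(S : Subgroup G)).map (S : Subgroup G).subtype) : Set G) = ⊤ := by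
  refine CfsgH9.sup_normalizer_eq_top_of_map_normal (S.isPGroup'.to_le (Subgroup.map_subtype_le _)) ?_
  have := CfsgH9.W_normal_of_stable (CfsgH9.actionPStable_of_not_sec (by omega) fun h => ?_)
    (CfsgH9.centralizer_pCore_quotient_le hsep) (S.mapSurjective (QuotientGroup.mk'_surjective _))
  · exact (CfsgH9.sfun_W.map _ S.isPGroup' (CfsgH9.injective_mk_comp_of_isPGroup S.isPGroup')).symm ▸ this
  have := CfsgH9.eq_three_of_isPSolvable_sl2 (by omega) (h.sl2_of_qd.isPSolvable
    (CfsgH1.IsPSolvable.subgroup (CfsgH1.IsPSolvable.quotient hsep _) ⊤))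
  omega

end Cfsg.Agent.S0627
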