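import Cfsg.Statements.S0629
import Cfsg.Agent.H9.KS1

set_option autoImplicit false
open Cfsg

namespace Cfsg.Agent.S0629

/-- A group in which the centralizer of a Sylow p-subgroup of O_{p',p}(G) is p-solvable is p-constrained. -/
theorem result {G : Type*} [Group G] [Finite G] {p : ℕ} [Fact p.Prime] (P : Sylow p ↥(Cfsg.pPrimePCore p G)) (hsol : Cfsg.IsPSolvable p ↥(Subgroup.centralizer (((P : Subgroup ↥(Cfsg.pPrimePCore p G)).map (Cfsg.pPrimePCore p G).subtype : Subgroup G) : Set G))) : Cfsg.IsPConstrained p G := by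
  have hs := QuotientGroup.mk'_surjective (pPrimeCore p G)
  have hP := CfsgH2.IsSylowIn.of_sylow_map P
  rw [CfsgH9.constrained_iff]
  have e := CfsgH1.centralizer_map_of_coprime _ hs (CfsgH1.IsPGroup.coprime_card_of_coprime hP.pgroup (by
    rw [QuotientGroup.ker_mk']; exact CfsgH1.coprime_card_pPrimeCore p G)) (Or.inl (CfsgH1.isSolvable_of_isPGroup hP.pgroup))
  rw [CfsgH9.map_sylowIn_pPrimePCore hP] at e
  have h1 : IsPSolvable p (Subgroup.centralizer (pCore p (G ⧸ pPrimeCore p G) : Set (G ⧸ pPrimeCore p G))) :=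
    e ▸ CfsgH1.IsPSolvable.of_surjective hsol _ (MonoidHom.subgroupMap_surjective _ _)
  have h2 := CfsgH2.chP_iff.1 (CfsgH1.IsPSolvable.centralizer_pCore_le h1 (by
    have := CfsgH1.map_pPrimeCore_le_of_normal (p := p) (Subgroup.centralizer (pCore p (G ⧸ pPrimeCore p G) : Set (G ⧸ pPrimeCore p G)))
    rwa [CfsgH1.pPrimeCore_quotient_pPrimeCore, le_bot_iff, Subgroup.map_eq_bot_iff_of_injective _
      (Subgroup.subtype_injective _)] at this))
  exact CfsgH2.chP_top.1 (h2.of_normal_sub le_top Subgroup.le_normalizer_of_normal (by rw [CfsgH2.Op_top]; exact inf_le_right))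

end Cfsg.Agent.S0629
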