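import Cfsg.Statements.S0630
import Cfsg.Agent.H9.KS1

set_option autoImplicit false
open Cfsg

namespace Cfsg.Agent.S0630

/-- p-constraint passes to and from the quotient by the largest normal subgroup of order prime to p. -/
theorem result {G : Type*} [Group G] [Finite G] {p : ℕ} [Fact p.Prime] : Cfsg.IsPConstrained p G ↔ Cfsg.IsPConstrained p (G ⧸ Cfsg.pPrimeCore p G) := by
  refine ⟨fun h => CfsgH9.constrained_of_surjective (f := MonoidHom.id _) Function.surjective_id (by simp)
    (CfsgH9.constrained_iff.1 h), fun h => CfsgH9.constrained_iff.2 ((CfsgH9.constrained_iff.1 h).equiv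
      ((QuotientGroup.quotientMulEquivOfEq (CfsgH1.pPrimeCore_quotient_pPrimeCore p G)).trans QuotientGroup.quotientBot))⟩

end Cfsg.Agent.S0630
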