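import Cfsg.Statements.S0631
import Cfsg.Agent.H9.KS1

set_option autoImplicit false
open Cfsg

namespace Cfsg.Agent.S0631

/-- In a p-constrained group the normalizer and the centralizer of any p-subgroup are again p-constrained. -/
theorem result {G : Type*} [Group G] [Finite G] {p : ℕ} [Fact p.Prime] (hG : Cfsg.IsPConstrained p G) (P : Subgroup G) (hP : IsPGroup p P) : Cfsg.IsPConstrained p ↥(Subgroup.normalizer (P : Set G)) ∧ Cfsg.IsPConstrained p ↥(Subgroup.centralizer (P : Set G)) := by
  have hs := QuotientGroup.mk'_surjective (pPrimeCore p G)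
  have h := CfsgH2.chP_top.2 (CfsgH9.constrained_iff.1 hG)
  have c := CfsgH1.IsPGroup.coprime_card_of_coprime hP (n := Nat.card (QuotientGroup.mk' (pPrimeCore p G)).ker) (by
    rw [QuotientGroup.ker_mk']; exact CfsgH1.coprime_card_pPrimeCore p G)
  have s := Or.inl (b := Group.IsSolvable (QuotientGroup.mk' (pPrimeCore p G)).ker) (CfsgH1.isSolvable_of_isPGroup hP)
  refine ⟨CfsgH9.constrained_of_map ?_, CfsgH9.constrained_of_map ?_⟩
  · simpa only [top_inf_eq, ← CfsgH1.normalizer_map_of_coprime _ hs c s] using h.inf_norm (hP.map _) le_top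
  · simpa only [top_inf_eq, ← CfsgH1.centralizer_map_of_coprime _ hs c s] using h.inf_cent (hP.map _) le_top

end Cfsg.Agent.S0631
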