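import Cfsg.Statements.S0632
import Cfsg.Agent.H9.KS1

set_option autoImplicit false
open Cfsg

namespace Cfsg.Agent.S0632

theorem aux {G G' : Type*} [Group G] [Group G'] [Finite G] [Finite G'] {p : ℕ} [Fact p.Prime] {f : G →* G'}
    (hf : Function.Surjective f) (hk : f.ker = pPrimeCore p G) (h : CfsgH9.PSt p G') (h1 : Odd p) (h2 : pCore p G ≠ ⊥) :
    IsPStable p G := by
  refine ⟨h1, h2, fun A P a1 p1 a2 _ p2 hq => ?_⟩
  have hA : A ≤ Subgroup.normalizer (P : Set G) := fun a ha => CfsgH2.mem_normalizer_of_conj_mem (a2 a ha)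
  have : (P.map f).Normal := by
    have := p2.map f hf
    rwa [Subgroup.map_sup, ← hk, (Subgroup.map_eq_bot_iff _).2 le_rfl, bot_sup_eq] at this
  obtain ⟨K, k1, -, k3, k4⟩ := (CfsgH9.inOp_top.2 (Subgroup.map_le_iff_le_comap.1 (CfsgH9.IsPStableOn.le (h _ (p1.map f))
    (A := A.map f) (by rw [← Subgroup.map_commutator, ← Subgroup.map_commutator, hq, Subgroup.map_bot])))).comap f
  refine Subgroup.map_le_iff_le_comap.2 ((CfsgH9.inOp_iff hA).1 ⟨K ⊓ Subgroup.normalizer P, le_inf
    ((Subgroup.le_comap_map _ _).trans k1) hA, inf_le_right, CfsgH2.le_normalizer_inf' (le_top.trans k3)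
    Subgroup.le_normalizer, fun x hx => (k4 x hx.1).imp fun k e v hv => ?_⟩)
  rw [eq_comm, ← mul_inv_eq_iff_eq_mul]
  refine CfsgH9.eq_of_map_eq_of_coprime (f := f) (hk ▸ CfsgH1.coprime_card_pPrimeCore p G) p1
    (CfsgH2.conj_mem_of_mem_normalizer (pow_mem hx.2 _) hv) hv ?_
  rw [map_mul, map_mul, ← e _ (Subgroup.mem_map_of_mem f hv), map_inv, mul_inv_cancel_right]

/-- For a group with a nontrivial normal p-subgroup, p-stability passes to and from the quotient by the largest normal subgroup of order prime to p. -/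
theorem result {G : Type*} [Group G] [Finite G] {p : ℕ} [Fact p.Prime] (hO : Cfsg.pCore p G ≠ ⊥) : Cfsg.IsPStable p G ↔ Cfsg.IsPStable p (G ⧸ Cfsg.pPrimeCore p G) := by
  have e := CfsgH1.pPrimeCore_quotient_pPrimeCore p G
  refine ⟨fun h => aux (f := MonoidHom.id _) Function.surjective_id (by simp [e]) (CfsgH9.pst_quotient_of_isPStable h) h.1
    fun k => hO (eq_bot_iff.2 ((le_inf le_rfl ((CfsgH1.map_mk'_eq_bot_iff _).1 (eq_bot_iff.2 (k ▸ CfsgH1.map_pCore_le _
      (QuotientGroup.mk'_surjective _))))).trans CfsgH1.disjoint_pCore_pPrimeCore.le_bot)), fun h =>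
    aux (f := (QuotientGroup.mk' _).comp (QuotientGroup.mk' _)) ((QuotientGroup.mk'_surjective _).comp
      (QuotientGroup.mk'_surjective _)) ?_ (CfsgH9.pst_quotient_of_isPStable h) h.1 hO⟩
  rw [← MonoidHom.comap_ker, QuotientGroup.ker_mk', e, MonoidHom.comap_bot, QuotientGroup.ker_mk']

end Cfsg.Agent.S0632
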