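import Cfsg.Statements.S0633
import Cfsg.Agent.H9.HH4

set_option autoImplicit false
open Cfsg

namespace Cfsg.Agent.S0633

/-- Theorem B of Hall and Higman on the minimal polynomial of a p-element of order p^n in a p-solvable linear group on a nonzero vector space in characteristic p with no nontrivial normal p-subgroup: its degree is p^n, except when some p^n₀ - 1 (n₀ ≤ n) is a power of a prime q for which the Sylow q-subgroups are non-abelian, in which case the degree is at least p^(n-n₀)(p^n₀ - 1). -/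
theorem result {F : Type*} [Field F] {p : ℕ} [Fact p.Prime] [CharP F p] {V : Type*} [AddCommGroup V] [Module F V] [FiniteDimensional F V] [Nontrivial V] (H : Subgroup (V ≃ₗ[F] V)) [Finite H] (hsol : Cfsg.IsPSolvable p H) (hOp : Cfsg.pCore p H = ⊥) (x : V ≃ₗ[F] V) (hx : x ∈ H) (n : ℕ) (hn : orderOf x = p ^ n) (r : ℕ) (hr : minpoly F (x : Module.End F V) = (Polynomial.X - 1) ^ r) : r = p ^ n ∨ ∃ n₀ q m : ℕ, 1 ≤ n₀ ∧ n₀ ≤ n ∧ q.Prime ∧ 1 ≤ m ∧ p ^ n₀ - 1 = q ^ m ∧ (∀ Q : Sylow q H, ¬ IsMulCommutative Q) ∧ p ^ (n - n₀) * (p ^ n₀ - 1) ≤ r := by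
  open Subgroup CfsgH2 CfsgH9 Polynomial in
  let ρ : Representation F H V := LinearEquiv.automorphismGroup.toLinearMapMonoidHom.comp H.subtype
  have i : Function.Injective ρ := fun a b e => Subtype.ext (LinearEquiv.toLinearMap_injective e)
  have m := minpoly.aeval F (x : Module.End F V)
  have o : orderOf (⟨x, hx⟩ : H) = p ^ n := (orderOf_mk ..).trans hn
  have l : r ≤ p ^ n := by
    have := minpoly.dvd F (x : Module.End F V) (p := (X - 1) ^ p ^ n) (by
      rw [sub_pow_char_pow, one_pow, map_sub, map_pow, aeval_X, map_one, sub_eq_zero]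
      exact (map_pow ρ ⟨x, hx⟩ (p ^ n)).symm.trans (by rw [← o, pow_orderOf_eq_one, map_one]))
    have := natDegree_le_of_dvd this (pow_ne_zero _ (X_sub_C_ne_zero 1))
    rwa [hr, natDegree_pow, natDegree_pow, ← C_1, natDegree_X_sub_C, mul_one, mul_one] at this
  rcases thmB i hsol hOp o (r := r) (dg_pow (t := (x : Module.End F V)) (by simpa [hr] using m)) with k | ⟨a, q, m, h1, h2, h3, -, h4, h5, h6, h7⟩
  · exact .inl (le_antisymm l k)
  · have := Fact.mk h3
    exact .inr ⟨a, q, m, h1, h2, h3, h4, h5, fun Q c => h6 Q (IsSylowIn.of_sylow_top Q) (isMulCommutative_iff_le_centralizer.1 c), h7⟩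

end Cfsg.Agent.S0633
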