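import Cfsg.Statements.S0634
import Cfsg.Agent.H2.Mix
import Cfsg.Agent.H1.PLength

set_option autoImplicit false
open Cfsg

namespace Cfsg.Agent.S0634
open Subgroup CfsgH2
open scoped commutatorElement

open CfsgFT CfsgH1
theorem aux {G : Type*} [Group G] [Finite G] {p : ℕ} (U V : Subgroup G) [U.Normal] [V.Normal]
    (e : V = (pPrimeCore p (G ⧸ U)).comap (QuotientGroup.mk' U)) : pPrimeCore p (G ⧸ V) = ⊥ := by
  have hf := (QuotientGroup.mk'_surjective (pPrimeCore p (G ⧸ U))).comp (QuotientGroup.mk'_surjective U)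
  rw [← MonoidHom.coe_comp] at hf
  have k : V = ((QuotientGroup.mk' (pPrimeCore p (G ⧸ U))).comp (QuotientGroup.mk' U)).ker := by
    rw [e, ← MonoidHom.comap_ker, QuotientGroup.ker_mk']
  have := map_pPrimeCore_equiv (p := p)
    ((QuotientGroup.quotientMulEquivOfEq k).trans (QuotientGroup.quotientKerEquivOfSurjective _ hf))
  rwa [pPrimeCore_quotient_pPrimeCore, Subgroup.map_eq_bot_iff_of_injective _ (MulEquiv.injective _)] at this

/-- In a p-soluble group each p-factor of the upper p-series contains its own centralizer in the corresponding quotient. -/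
theorem result {G : Type*} [Group G] [Finite G] {p : ℕ} [Fact p.Prime] (hsol : Cfsg.IsPSolvable p G) (k : ℕ) : Subgroup.centralizer ((((Cfsg.upperPSeries p G (2 * k + 2)).1.map (QuotientGroup.mk' (Cfsg.upperPSeries p G (2 * k + 1)).1)) : Subgroup (G ⧸ (Cfsg.upperPSeries p G (2 * k + 1)).1)) : Set (G ⧸ (Cfsg.upperPSeries p G (2 * k + 1)).1)) ≤ (Cfsg.upperPSeries p G (2 * k + 2)).1.map (QuotientGroup.mk' (Cfsg.upperPSeries p G (2 * k + 1)).1) := by
  have e : (upperPSeries p G (2 * k + 2)).1 = (pCore p _).comap (QuotientGroup.mk' (upperPSeries p G (2 * k + 1)).1) := by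
    rw [upperPSeries, if_neg (by simp)]
  rw [e, map_comap_eq_self_of_surjective (QuotientGroup.mk'_surjective _)]
  refine IsPSolvable.centralizer_pCore_le (IsPSolvable.quotient hsol _) (aux (upperPSeries p G (2 * k)).1 _ ?_)
  rw [upperPSeries, if_pos (by simp)]


end Cfsg.Agent.S0634
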