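import Cfsg.Statements.S0635
import Cfsg.Agent.H2.Mix
import Cfsg.Agent.H1.PLength

set_option autoImplicit false
open Cfsg

namespace Cfsg.Agent.S0635
open Subgroup CfsgH2
open scoped commutatorElement

open CfsgFT CfsgH1
theorem aux {p : ℕ} [hp : Fact p.Prime] (n : ℕ) : ∀ (G : Type*) [Group G] [Finite G] (S : Subgroup G),
    IsPSolvable p G → IsSylowIn p S ⊤ → S.lowerCentralSeries n = ⊥ → PLengthLE p n G := by
  induction n with
  | zero =>
    intro G _ _ S _ a b
    have := a.eq_bot_iff.1 b
    rw [Subgroup.card_top] at this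
    exact pLengthLE_zero_iff.2 (hp.out.coprime_iff_not_dvd.2 this).symm
  | succ n ih =>
    intro G _ _ S h a b
    refine PLengthLE.of_ker_le_pPrimePCore (QuotientGroup.mk' (pPrimePCore p G)) (QuotientGroup.ker_mk' _).le
      (ih _ (S.map (QuotientGroup.mk' _)) (IsPSolvable.quotient h _) ?_ ?_)
    · have := a.map (QuotientGroup.mk' (pPrimePCore p G))
      rwa [map_top_of_surjective _ (QuotientGroup.mk'_surjective _)] at this
    · obtain ⟨P, rfl⟩ := a.of_top
      rw [← Subgroup.map_lowerCentralSeries, map_mk'_eq_bot_iff]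
      exact (cent_of_comm_eq_bot b).trans (IsPSolvable.centralizer_le_pPrimePCore h (pPrimePCore_le_sylow_sup P))

/-- The p-length of a p-soluble group is at most the nilpotency class of its Sylow p-subgroups. -/
theorem result {G : Type*} [Group G] [Finite G] {p : ℕ} [Fact p.Prime] (hsol : Cfsg.IsPSolvable p G) (S : Sylow p G) : Cfsg.PLengthLE p (Group.nilpotencyClass ↥(S : Subgroup G)) G := by
  haveI := S.isPGroup'.isNilpotent
  exact aux _ G S hsol (IsSylowIn.of_sylow_top S) (Subgroup.lowerCentralSeries_eq_bot_of_nilpotencyClass_le le_rfl)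


end Cfsg.Agent.S0635
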