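import Cfsg.Statements.S0640
import Cfsg.Agent.H2.BG4

set_option autoImplicit false
open Cfsg

namespace Cfsg.Agent.S0640
open Subgroup CfsgH2
open scoped commutatorElement

/-- For odd p, a prime q ≠ p dividing the order of the automorphism group of a p-group of rank at most 2 divides p² - 1 and is less than p. -/
theorem result {R : Type*} [Group R] [Finite R] {p : ℕ} [Fact p.Prime] (hp : p ≠ 2) (hR : IsPGroup p R) (hrk : Cfsg.PRankLE p 2 R) (q : ℕ) (hq : q.Prime) (hqp : q ≠ p) (hdvd : q ∣ Nat.card (MulAut R)) : q ∣ p ^ 2 - 1 ∧ q < p := by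
  haveI := Fact.mk hq
  obtain ⟨a, ha⟩ := exists_prime_orderOf_dvd_card' q hdvd
  refine bg4_13 (G := R ⋊[MonoidHom.id (MulAut R)] MulAut R) hp (R := sdL _ ⊤)
    (A := sdR _ (zpowers a)) (isPGroup_sdL_top hR) ?_ (le_normalizer_sdL_top _)
    (IsPGroup.of_card (n := 1) (by rw [card_sdR, Nat.card_zpowers, ha, pow_one])) hqp fun h => ?_
  · rw [sdL, CfsgFT.rk_map_of_injective SemidirectProduct.inl_injective]
    exact CfsgFT.rk_top_le_iff.2 hrk
  · have : a = 1 := by
      ext x
      exact sdR_le_centralizer_iff.1 h a (mem_zpowers a) x (mem_top x)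
    rw [this, orderOf_one] at ha
    exact hq.one_lt.ne ha


end Cfsg.Agent.S0640
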