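import Cfsg.Statements.S0642
import Cfsg.Agent.H2.Regular

set_option autoImplicit false
open Cfsg

namespace Cfsg.Agent.S0642
open Subgroup CfsgH2
open scoped commutatorElement

open CfsgFT

/-- Among finite 2-groups the regular ones are exactly the abelian ones. -/
theorem result {G : Type*} [Group G] [Finite G] (hG : IsPGroup 2 G) : Cfsg.IsRegularPGroup 2 G ↔ ∀ a b : G, a * b = b * a := by
  refine ⟨fun h a b => ?_, fun h => ⟨hG, fun a b n => ⟨1, one_mem _, by rw [mul_one]; exact Commute.mul_pow (h a b) _⟩⟩⟩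
  obtain ⟨c, d, e⟩ := (reg_of h).2 a b
  set L := closure ({a, b} : Set G)
  have b1 : b ∈ L := subset_closure (by simp)
  have n : L ≤ N(powerClosure 2 1 ⁅L, L⁆) := fun g hg => cj_eq_iff_mem_normalizer.1 ((map_powerClosure _ _).trans
    (congrArg _ (by rw [cj_def, cj_commutator, cj_eq_of_mem hg])))
  have k : ⁅L, L⁆ ≤ powerClosure 2 1 ⁅L, L⁆ := by
    have a1 : a ∈ L := subset_closure (by simp)
    refine commutator_le_of_sup_zpowers (K := zpowers a) (y := b) (by
      rw [zpowers_eq_closure, zpowers_eq_closure, ← Subgroup.closure_union, Set.singleton_union]) n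
      (commutator_zpowers_le (n a1) fun g hg => comm_mem_symm
        ((mem_centMod.1 ((closure_le (centMod _ {a})).2 (Set.pair_subset ?_ ?_) hg)).2 a rfl))
    · exact ⟨n a1, fun s hs => by simp [Set.mem_singleton_iff.1 hs]⟩
    · refine ⟨n b1, fun s hs => ?_⟩
      rw [show c = (a ^ 2 * b ^ 2)⁻¹ * (a * b) ^ 2 by rw [e]; group] at d
      simpa [sq, mul_assoc, Set.mem_singleton_iff.1 hs] using
        conj_mem_of_mem_normalizer (n (mul_mem (mul_mem a1 b1) b1)) d
  have := eq_of_sup_map_frattini (H := ⁅L, L⁆) bot_le (le_antisymm (by simpa using map_subtype_le _)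
    (k.trans (powerClosure_le_iff.2 fun x a => mem_sup_right (by simpa using pow_mem_map_frattini (hG.to_subgroup _) a))))
  exact commutatorElement_eq_one_iff_mul_comm.1 (mem_bot.1 (this ▸ commutator_mem_commutator (subset_closure (by simp)) b1))


end Cfsg.Agent.S0642
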