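import Cfsg.Statements.S0645
import Cfsg.Agent.H2.CycSCN

set_option autoImplicit false
open Cfsg

namespace Cfsg.Agent.S0645
open Subgroup CfsgH2
open scoped commutatorElement

/-- Classification of p-groups with a cyclic maximal subgroup, odd p: a non-abelian one of order p^n has generators a of order p^(n-1) and b of order p, b outside the cyclic subgroup generated by a, with b a b⁻¹ = a^(1 + p^(n-2)). -/
theorem result {G : Type*} [Group G] [Finite G] {p : ℕ} [Fact p.Prime] (hp : p ≠ 2) (n : ℕ) (hn : 3 ≤ n) (hG : Nat.card G = p ^ n) (C : Subgroup G) (hC : IsCyclic C) (hCi : C.index = p) (hna : ∃ x y : G, x * y ≠ y * x) : ∃ a b : G, orderOf a = p ^ (n - 1) ∧ orderOf b = p ∧ b ∉ Subgroup.zpowers a ∧ b * a * b⁻¹ = a ^ (1 + p ^ (n - 2)) := by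
  have hP := IsPGroup.of_card hG
  have hp' : p.Prime := Fact.out
  obtain ⟨a, rfl⟩ := isCyclic_iff_zpowers.1 hC
  obtain ⟨r, rfl⟩ : ∃ r, n = r + 3 := ⟨n - 3, by omega⟩
  have ho : orderOf a = p ^ (r + 2) := by
    have := (zpowers a).index_mul_card
    rw [hCi, hG, Nat.card_zpowers, pow_succ'] at this
    exact Nat.eq_of_mul_eq_mul_left hp'.pos this
  have hna' : ¬ IsMulCommutative (⊤ : Subgroup G) := fun h => by
    obtain ⟨x, y, hxy⟩ := hna
    exact hxy (mul_comm_of_isMulCommutative h (mem_top x) (mem_top y))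
  have hi : (zpowers a).relIndex ⊤ = p := by rwa [relIndex_top_right]
  obtain ⟨h1, h2⟩ := omegaOne_of_cyclic_index hp (hP.to_subgroup ⊤) (fun h => hna' h.isMulCommutative)
    hC le_top hi
  obtain ⟨b, hb, hba⟩ : ∃ b ∈ omegaOne p (⊤ : Subgroup G), b ∉ zpowers a := by
    by_contra h; push Not at h
    exact CfsgFT.not_isCyclic_of_elem (p := p) (k := 2) (H := ⊤) ⟨le_top, h1, h2⟩ le_rfl
      (isCyclic_of_le' hC h)
  have hbp := h1.2 b hb
  have hn := le_normalizer_of_relIndex_prime (hP.to_subgroup ⊤) le_top hi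
  obtain ⟨k, hk⟩ := exists_conj_eq_zpow (hn (mem_top b))
  have h3 := comm_pow_eq_one_of_cyclic hp ho (hn (mem_top b)) (by rw [hbp]; exact Commute.one_left a)
  rw [hk, ← zpow_sub_one, ← zpow_natCast, ← zpow_mul, zpow_eq_one_iff_dvd, ho] at h3
  push_cast at h3
  rw [pow_succ, mul_dvd_mul_iff_right (by exact_mod_cast hp'.ne_zero)] at h3
  obtain ⟨j, hj⟩ := h3
  have h4 : ¬ (p : ℤ) ∣ j := by
    rintro ⟨c, rfl⟩
    have h5 : b * a * b⁻¹ = a := by
      rw [hk]; nth_rewrite 2 [← zpow_one a]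
      rw [zpow_eq_zpow_iff_dvd, ho, hj]; exact ⟨c, by push_cast; ring⟩
    rw [← sup_zpowers_eq_of_relIndex_prime hi le_top (mem_top b) hba] at hna'
    refine hna' (isMulCommutative_sup_zpowers inferInstance ?_)
    rw [centralizer_zpowers', mem_centralizer_singleton_iff]
    exact mul_inv_eq_iff_eq_mul.1 h5
  have h5 : ∀ i : ℕ, b ^ i * a * (b ^ i)⁻¹ = a ^ (1 + (p : ℤ) ^ (r + 1) * (i * j)) := by
    intro i
    induction i with
    | zero => simp
    | succ i ih =>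
      have : b ^ (i + 1) * a * (b ^ (i + 1))⁻¹ = b * (b ^ i * a * (b ^ i)⁻¹) * b⁻¹ := by
        rw [pow_succ']; group
      rw [this, ih, conj_zpow_of_eq hk, zpow_eq_zpow_iff_dvd, ho, show k = 1 + p ^ (r + 1) * j by omega]
      exact ⟨p ^ r * i * j * j, by push_cast; ring⟩
  obtain ⟨i, hi1⟩ : ∃ i : ℕ, (p : ℤ) ∣ i * j - 1 := by
    have h6 : (j : ZMod p) ≠ 0 := by rwa [Ne, ZMod.intCast_zmod_eq_zero_iff_dvd]
    refine ⟨((j : ZMod p)⁻¹).val, ?_⟩
    rw [← ZMod.intCast_zmod_eq_zero_iff_dvd]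
    push_cast
    rw [ZMod.natCast_zmod_val, inv_mul_cancel₀ h6, sub_self]
  have h7 : b ^ i * a * (b ^ i)⁻¹ = a ^ (1 + p ^ (r + 1)) := by
    obtain ⟨c, hc⟩ := hi1
    rw [h5, ← zpow_natCast, zpow_eq_zpow_iff_dvd, ho]
    exact ⟨c, by push_cast; linear_combination (p : ℤ) ^ (r + 1) * hc⟩
  have h8 : b ^ i ∉ zpowers a := by
    rintro ⟨l, hl⟩
    simp only at hl
    rw [← hl, ((Commute.refl a).zpow_left l).eq, mul_inv_cancel_right, pow_add, pow_one, left_eq_mul] at h7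
    have := Nat.le_of_dvd (pow_pos hp'.pos _) (ho ▸ orderOf_dvd_of_pow_eq_one h7)
    rw [Nat.pow_le_pow_iff_right hp'.one_lt] at this
    omega
  refine ⟨a, b ^ i, ho, orderOf_eq_prime ?_ (fun e => h8 (e ▸ one_mem _)), h8, h7⟩
  rw [← pow_mul, mul_comm, pow_mul, hbp, one_pow]


end Cfsg.Agent.S0645
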