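import Cfsg.Statements.S0646
import Cfsg.Agent.H2.TwoGroup

set_option autoImplicit false
open Cfsg

namespace Cfsg.Agent.S0646
open Subgroup CfsgH2
open scoped commutatorElement

/-- Classification of non-abelian 2-groups with a cyclic maximal subgroup: dihedral, generalized quaternion, and for order at least 16 the modular group and the semidihedral group, each given by generators a (of index 2) and b with the stated relations. -/
theorem result {G : Type*} [Group G] [Finite G] (n : ℕ) (hn : 3 ≤ n) (hG : Nat.card G = 2 ^ n) (C : Subgroup G) (hC : IsCyclic C) (hCi : C.index = 2) (hna : ∃ x y : G, x * y ≠ y * x) : ∃ a b : G, orderOf a = 2 ^ (n - 1) ∧ b ∉ Subgroup.zpowers a ∧ ((b ^ 2 = 1 ∧ b * a * b⁻¹ = a⁻¹) ∨ (b ^ 2 = a ^ (2 ^ (n - 2)) ∧ b * a * b⁻¹ = a⁻¹) ∨ (4 ≤ n ∧ b ^ 2 = 1 ∧ b * a * b⁻¹ = a ^ (1 + 2 ^ (n - 2))) ∨ (4 ≤ n ∧ b ^ 2 = 1 ∧ b * a * b⁻¹ = a ^ (2 ^ (n - 2) - 1))) := by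
  obtain ⟨a, rfl⟩ := isCyclic_iff_zpowers.1 hC
  obtain ⟨b, k, m, h⟩ := exists_idx2 (S := ⊤) (mem_top a) (by rw [relIndex_top_right, hCi])
  obtain ⟨r, rfl⟩ : ∃ r, n = r + 2 := ⟨n - 2, by omega⟩
  have ho : orderOf a = 2 ^ (r + 1) := by
    have := h.card
    rw [Subgroup.card_top, hG, pow_succ'] at this
    omega
  simp only [show r + 2 - 1 = r + 1 by omega, show r + 2 - 2 = r by omega]
  rcases h.classify (by omega) ho with h1 | h1 | h1 | ⟨hr, j, h1⟩ | ⟨hr, j, h1⟩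
  · obtain ⟨x, y, hxy⟩ := hna
    exact absurd (mul_comm_of_isMulCommutative (h.comm_of h1) (mem_top x) (mem_top y)) hxy
  · exact ⟨a, b, ho, h.notMem, Or.inl ⟨by simpa [pow_two] using h1.sq, by simpa using h1.conj⟩⟩
  · exact ⟨a, b, ho, h.notMem, Or.inr (Or.inl ⟨by rw [pow_two, h1.sq, zpow_natCast], by simpa using h1.conj⟩)⟩
  · refine ⟨a, _, ho, h1.notMem, Or.inr (Or.inr (Or.inl ⟨by omega, by simpa [pow_two] using h1.sq, ?_⟩))⟩
    rw [h1.conj, ← zpow_natCast]; push_cast; rfl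
  · refine ⟨a, _, ho, h1.notMem, Or.inr (Or.inr (Or.inr ⟨by omega, by simpa [pow_two] using h1.sq, ?_⟩))⟩
    rw [h1.conj, ← zpow_natCast, Nat.cast_sub Nat.one_le_two_pow]; push_cast; rfl


end Cfsg.Agent.S0646
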