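import Cfsg.Statements.S0647
import Cfsg.Agent.H9.Thompson

set_option autoImplicit false
open Cfsg

namespace Cfsg.Agent.S0647

/-- For a nonempty family of maximal abelian subgroups of a finite group, the intersection of the family is the centre of the subgroup it generates, which is also the full centralizer of that subgroup. -/
theorem result {S : Type*} [Group S] [Finite S] (𝒜 : Set (Subgroup S)) (hne : 𝒜.Nonempty) (hab : ∀ A ∈ 𝒜, IsMulCommutative A) (hmax : ∀ A ∈ 𝒜, ∀ B : Subgroup S, IsMulCommutative B → A ≤ B → B = A) : sInf 𝒜 = sSup 𝒜 ⊓ Subgroup.centralizer ((sSup 𝒜 : Subgroup S) : Set S) ∧ sInf 𝒜 = Subgroup.centralizer ((sSup 𝒜 : Subgroup S) : Set S) := by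
  open CfsgH9 Subgroup in
  have h1 : centralizer ((sSup 𝒜 : Subgroup S) : Set S) ≤ sInf 𝒜 := le_sInf fun A hA x hx => by
    rw [← hmax A hA _ (CfsgH2.isMulCommutative_sup_zpowers (hab A hA) (centralizer_le (le_sSup hA : A ≤ _) hx)) le_sup_left]
    exact mem_sup_right (mem_zpowers x)
  have h2 : sInf 𝒜 ≤ centralizer ((sSup 𝒜 : Subgroup S) : Set S) := le_centralizer_iff.1 (sSup_le fun A hA =>
    le_centralizer_iff.1 ((sInf_le hA).trans (CfsgH2.isMulCommutative_iff_le_centralizer.1 (hab A hA))))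
  obtain ⟨A, hA⟩ := hne
  exact ⟨le_antisymm (le_inf ((sInf_le hA).trans (le_sSup hA)) h2) (inf_le_right.trans h1), le_antisymm h2 h1⟩

end Cfsg.Agent.S0647
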