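import Cfsg.Statements.S0648
import Cfsg.Agent.H9.Uni

set_option autoImplicit false
open Cfsg

namespace Cfsg.Agent.S0648

/-- If A acts on B centralizing [B, B], then [B, A] has derived subgroup central in B, and for abelian A and b ∈ B with [[b, A], A, A] = 1 the derived subgroup of the subgroup [b, A] generated by the commutators of b with A has exponent dividing 2. -/
theorem result {G : Type*} [Group G] [Finite G] (A B : Subgroup G) (hAB : A ≤ Subgroup.normalizer (B : Set G)) (hc : ⁅⁅B, B⁆, A⁆ = ⊥) : ⁅⁅B, A⁆, ⁅B, A⁆⁆ ≤ B ⊓ Subgroup.centralizer (B : Set G) ∧ (IsMulCommutative A → ∀ b ∈ B, ⁅⁅(Subgroup.closure {g : G | ∃ a ∈ A, g = b⁻¹ * a * b * a⁻¹}), A⁆, A⁆ = ⊥ → ∀ w ∈ ⁅(Subgroup.closure {g : G | ∃ a ∈ A, g = b⁻¹ * a * b * a⁻¹}), (Subgroup.closure {g : G | ∃ a ∈ A, g = b⁻¹ * a * b * a⁻¹})⁆, w ^ 2 = 1) := by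
  open Subgroup CfsgH9 CfsgH2 in
  have n : B ≤ normalizer ((⁅B, B⁆ : Subgroup G) : Set G) := normalizer_commutator_ge_left _ _
  have l := commutator_le_of_normalizer hAB
  have k1 : ⁅⁅B, A⁆, ⁅B, B⁆⁆ = ⊥ := three_subgroups_bot (by rw [commutator_comm A, hc, commutator_bot_left])
    (eq_bot_iff.2 ((commutator_mono (commutator_le_of_normalizer n) le_rfl).trans hc.le))
  have k2 : ⁅⁅B, ⁅B, A⁆⁆, ⁅B, A⁆⁆ = ⊥ := eq_bot_iff.2 ((commutator_mono (commutator_mono le_rfl l) le_rfl).trans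
    ((commutator_comm _ _).trans k1).le)
  have k3 : ⁅⁅B, A⁆, ⁅B, A⁆⁆ ≤ centralizer (B : Set G) := le_centralizer_iff_bot.2 (three_subgroups_bot
    (by rw [commutator_comm ⁅B, A⁆ B, k2]) k2)
  refine ⟨le_inf (commutator_le_of_le l l) k3, fun hA b hb hq => ?_⟩
  have hm : ∀ a ∈ A, b⁻¹ * a * b * a⁻¹ ∈ ⁅B, A⁆ := fun a ha => by
    simpa [commutatorElement_def] using commutator_mem_commutator (inv_mem hb) ha
  have lM : closure {g : G | ∃ a ∈ A, g = b⁻¹ * a * b * a⁻¹} ≤ ⁅B, A⁆ := (closure_le _).2 (by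
    rintro _ ⟨a, ha, rfl⟩; exact hm a ha)
  have F1 : ∀ x ∈ B, ∀ y ∈ B, ∀ a ∈ A, a * (x * y * x⁻¹ * y⁻¹) * a⁻¹ = x * y * x⁻¹ * y⁻¹ := fun x hx y hy a ha => by
    rw [le_centralizer_iff_bot.2 hc (mul_mul_inv_mul_inv_mem_commutator hx hy) a ha, mul_inv_cancel_right]
  have F2 : ∀ m ∈ ⁅B, A⁆, ∀ x ∈ B, ∀ y ∈ B, x * y * x⁻¹ * y⁻¹ * m = m * (x * y * x⁻¹ * y⁻¹) := fun m hm x hx y hy =>
    le_centralizer_iff_bot.2 k1 hm _ (mul_mul_inv_mul_inv_mem_commutator hx hy)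
  have F3 : ∀ m ∈ ⁅B, A⁆, ∀ n ∈ ⁅B, A⁆, ∀ x ∈ B, x * (m * n * m⁻¹ * n⁻¹) = m * n * m⁻¹ * n⁻¹ * x := fun m hm n hn x hx =>
    k3 (mul_mul_inv_mul_inv_mem_commutator hm hn) x hx
  have S : ∀ u ∈ A, ∀ a ∈ A, ∀ m n z : G, m = b⁻¹ * u * b * u⁻¹ → n = b⁻¹ * a * b * a⁻¹ → z = m * a * m⁻¹ * a⁻¹ →
      z ∈ ⁅B, A⁆ ∧ (∀ c ∈ A, z * (b⁻¹ * c * b * c⁻¹)⁻¹ = (b⁻¹ * c * b * c⁻¹)⁻¹ * z) ∧
      m * n * m⁻¹ * n⁻¹ = z⁻¹ * b⁻¹ * z * b := fun u hu a ha m n z em en ez => by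
    have m1 : m ∈ ⁅B, A⁆ := em ▸ hm u hu
    have n1 : n ∈ ⁅B, A⁆ := en ▸ hm a ha
    have z1 : z ∈ ⁅B, A⁆ := ez ▸ mul_mul_inv_mul_inv_mem_commutator (l m1) ha
    have z2 : ∀ c ∈ A, c * z = z * c := le_centralizer_iff_bot.2 hq
      (ez ▸ mul_mul_inv_mul_inv_mem_commutator (em ▸ subset_closure ⟨u, hu, rfl⟩) ha)
    have cj' : ∀ c x y x' y' : G, c * x * c⁻¹ = x' → c * y * c⁻¹ = y' →
        c * (x * y * x⁻¹ * y⁻¹) * c⁻¹ = x' * y' * x'⁻¹ * y'⁻¹ := fun c x y x' y' e1 e2 => by rw [← e1, ← e2]; group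
    have z3 : ∀ c ∈ A, z * (b⁻¹ * c * b * c⁻¹)⁻¹ = (b⁻¹ * c * b * c⁻¹)⁻¹ * z := fun c hc => by
      have e1 := (F1 z (l z1) _ (inv_mem hb) c hc).symm.trans (cj' c z b⁻¹ z ((b⁻¹ * c * b * c⁻¹)⁻¹ * b⁻¹)
        (by rw [z2 c hc, mul_inv_cancel_right]) (by group))
      have e2 := F2 _ (hm c hc) z (l z1) _ (inv_mem hb)
      generalize b⁻¹ * c * b * c⁻¹ = w at e1 e2
      rw [show z * (w⁻¹ * b⁻¹) * z⁻¹ * (w⁻¹ * b⁻¹)⁻¹ = z * w⁻¹ * z⁻¹ * (z * b⁻¹ * z⁻¹ * b⁻¹⁻¹ * w) by group, e2, ← mul_assoc,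
        right_eq_mul, ← inv_inv w, mul_inv_eq_one, mul_inv_eq_iff_eq_mul, inv_inv] at e1
      exact e1
    refine ⟨z1, z3, ?_⟩
    have e1 := (F1 m (l m1) _ (inv_mem hb) a ha).symm.trans (cj' a m b⁻¹ (z⁻¹ * m) (n⁻¹ * b⁻¹) (by rw [ez]; group)
      (by rw [en]; group))
    have e2 := F2 _ n1 m (l m1) _ (inv_mem hb)
    have e3 := F2 _ z1 m (l m1) _ (inv_mem hb)
    have e4 := F3 _ m1 _ n1
    have e5 := en ▸ z3 a ha
    generalize hk : m * n * m⁻¹ * n⁻¹ = k at e4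
    generalize ht : m * b⁻¹ * m⁻¹ * b⁻¹⁻¹ = t at e1 e2 e3
    have s1 : z⁻¹ * b⁻¹ * z * b ∈ ⁅B, B⁆ := by
      simpa using mul_mul_inv_mul_inv_mem_commutator (inv_mem (l z1)) (inv_mem hb)
    have c1 : Commute k n := (e4 n (l n1)).symm
    have c2 : Commute k z := (e4 z (l z1)).symm
    have c3 : Commute (z⁻¹ * b⁻¹ * z * b) n := le_centralizer_iff_bot.2 k1 n1 _ s1
    have c4 : Commute z n := (Commute.inv_right_iff.1 e5 :)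
    have c5 : Commute k t := (e4 t (ht ▸ commutator_le_of_le le_rfl le_rfl (mul_mul_inv_mul_inv_mem_commutator (l m1)
      (inv_mem hb)))).symm
    have e6 : t = t * (k⁻¹ * (z⁻¹ * b⁻¹ * z * b)) := by
      calc t = z⁻¹ * (m * n⁻¹ * m⁻¹) * t * (b⁻¹ * z * b) * n := e1.trans (by rw [← ht]; group)
        _ = z⁻¹ * n⁻¹ * (k⁻¹ * t * z * (z⁻¹ * b⁻¹ * z * b) * n) := by rw [← hk]; group
        _ = z⁻¹ * (k⁻¹ * t * z) * (z⁻¹ * b⁻¹ * z * b) := by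
          rw [(((c1.inv_left.mul_left e2).mul_left c4).mul_left c3).eq]; group
        _ = _ := by rw [(c2.inv_left.mul_left e3).eq, inv_mul_cancel_left, c5.inv_left.eq, mul_assoc]
    rwa [left_eq_mul, inv_mul_eq_one] at e6
  let T : Subgroup G :=
    { carrier := {w | w ∈ B ⊓ centralizer (B : Set G) ∧ w ^ 2 = 1}
      one_mem' := ⟨one_mem _, one_pow _⟩
      mul_mem' := fun {x y} hx hy => ⟨mul_mem hx.1 hy.1, by rw [Commute.mul_pow (hy.1.2 x hx.1.1), hx.2, hy.2, one_mul]⟩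
      inv_mem' := fun {x} hx => ⟨inv_mem hx.1, by rw [inv_pow, hx.2, inv_one]⟩ }
  have nT : closure {g : G | ∃ a ∈ A, g = b⁻¹ * a * b * a⁻¹} ≤ normalizer (T : Set G) :=
    (lM.trans l).trans ((le_centralizer_iff.1 (show T ≤ centralizer (B : Set G) from fun w hw => hw.1.2)).trans (centralizer_le_normalizer _))
  refine fun w hw => (comm_closure_le nT nT ?_ hw).2
  rintro m ⟨u, hu, em⟩ n ⟨a, ha, en⟩
  have m1 : m ∈ ⁅B, A⁆ := em ▸ hm u hu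
  have n1 : n ∈ ⁅B, A⁆ := en ▸ hm a ha
  refine ⟨⟨commutator_le_of_le l l (commutator_mem_commutator m1 n1), k3 (commutator_mem_commutator m1 n1)⟩, ?_⟩
  obtain ⟨z1, z2, z3⟩ := S u hu a ha m n _ em en rfl
  obtain ⟨y1, y2, y3⟩ := S a ha u hu n m _ en em rfl
  have z4 : Commute (m * a * m⁻¹ * a⁻¹) n := Commute.inv_right_iff.1 (en ▸ z2 a ha)
  have y4 : Commute (n * u * n⁻¹ * u⁻¹) m := Commute.inv_right_iff.1 (em ▸ y2 u hu)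
  have e : m * (n * u * n⁻¹ * u⁻¹)⁻¹ * n = n * (m * a * m⁻¹ * a⁻¹)⁻¹ * m := by
    calc _ = b⁻¹ * (u * a) * b * (u * a)⁻¹ := by rw [em, en]; group
      _ = _ := by rw [mul_comm_of_isMulCommutative hA hu ha, em, en]; group
  generalize m * a * m⁻¹ * a⁻¹ = z at *
  generalize n * u * n⁻¹ * u⁻¹ = y at *
  rw [← y4.inv_left.eq, ← z4.inv_left.eq] at e
  have e' : y = m * n * m⁻¹ * n⁻¹ * z := by
    calc y = m * n * (y⁻¹ * m * n)⁻¹ := by group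
      _ = _ := by rw [e]; group
  rw [e', show (m * n * m⁻¹ * n⁻¹ * z)⁻¹ * b⁻¹ * (m * n * m⁻¹ * n⁻¹ * z) * b = z⁻¹ * (m * n * m⁻¹ * n⁻¹)⁻¹ *
    (b⁻¹ * (m * n * m⁻¹ * n⁻¹)) * z * b by group, F3 _ m1 _ n1 _ (inv_mem hb), mul_assoc z⁻¹, inv_mul_cancel_left, ← z3] at y3
  rw [commutatorElement_def, sq]
  nth_rewrite 2 [← y3]
  group

end Cfsg.Agent.S0648
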