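import Cfsg.Statements.S0650
import Cfsg.Agent.H9.Thompson

set_option autoImplicit false
open Cfsg

namespace Cfsg.Agent.S0650

/-- The Glauberman replacement Theorem: from an abelian A ⊇ [B, B] not normalized by the normal subgroup B and a suitable b ∈ B one gets the abelian subgroup A* = (A ∩ b⁻¹Ab)[A, b] of the same order, containing [B, B], meeting B strictly more than A does but not containing B, mutually normalizing with A, with strictly larger normalizer containing b, and (p odd) of no larger exponent. -/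
theorem result {S : Type*} [Group S] [Finite S] {p : ℕ} [Fact p.Prime] (hS : IsPGroup p S) (B : Subgroup S) [B.Normal] (hB2 : p = 2 → IsMulCommutative B) (A : Subgroup S) (hA : IsMulCommutative A) (hBA : ⁅B, B⁆ ≤ A) (hnot : ¬ B ≤ Subgroup.normalizer (A : Set S)) (b : S) (hb : b ∈ B) (hbN : b ∈ Subgroup.normalizer ((Subgroup.normalizer (A : Set S)) : Set S)) (hbA : b ∉ Subgroup.normalizer (A : Set S)) : Nat.card ↥((A ⊓ A.map (MulAut.conj (b⁻¹)).toMonoidHom) ⊔ Subgroup.closure {g : S | ∃ a ∈ A, g = a * b⁻¹ * a⁻¹ * b}) = Nat.card A ∧ IsMulCommutative ↥((A ⊓ A.map (MulAut.conj (b⁻¹)).toMonoidHom) ⊔ Subgroup.closure {g : S | ∃ a ∈ A, g = a * b⁻¹ * a⁻¹ * b}) ∧ ⁅B, B⁆ ≤ ((A ⊓ A.map (MulAut.conj (b⁻¹)).toMonoidHom) ⊔ Subgroup.closure {g : S | ∃ a ∈ A, g = a * b⁻¹ * a⁻¹ * b}) ∧ A ⊓ B < ((A ⊓ A.map (MulAut.conj (b⁻¹)).toMonoidHom) ⊔ Subgroup.closure {g : S | ∃ a ∈ A, g = a * b⁻¹ * a⁻¹ * b}) ⊓ B ∧ ((A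 ⊓ A.map (MulAut.conj (b⁻¹)).toMonoidHom) ⊔ Subgroup.closure {g : S | ∃ a ∈ A, g = a * b⁻¹ * a⁻¹ * b}) ⊓ B < B ∧ A ≤ Subgroup.normalizer (((A ⊓ A.map (MulAut.conj (b⁻¹)).toMonoidHom) ⊔ Subgroup.closure {g : S | ∃ a ∈ A, g = a * b⁻¹ * a⁻¹ * b} : Subgroup S) : Set S) ∧ ((A ⊓ A.map (MulAut.conj (b⁻¹)).toMonoidHom) ⊔ Subgroup.closure {g : S | ∃ a ∈ A, g = a * b⁻¹ * a⁻¹ * b}) ≤ Subgroup.normalizer (A : Set S) ∧ b ∈ Subgroup.normalizer (((A ⊓ A.map (MulAut.conj (b⁻¹)).toMonoidHom) ⊔ Subgroup.closure {g : S | ∃ a ∈ A, g = a * b⁻¹ * a⁻¹ * b} : Subgroup S) : Set S) ∧ Subgroup.normalizer (A : Set S) < Subgroup.normalizer (((A ⊓ A.map (MulAut.conj (b⁻¹)).toMonoidHom) ⊔ Subgroup.closure {g : S | ∃ a ∈ A, g = a * b⁻¹ * a⁻¹ * b} : Subgroup S) : Set S) ∧ (p ≠ 2 → Monoid.exponent ↥((A ⊓ A.map (MulAut.conj (b⁻¹)).toMonoidHom) ⊔ Subgroup.closure {g : S | ∃ a ∈ A, g = a * b⁻¹ * a⁻¹ * b}) ∣ Monoid.exponent A)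 := by
  open Subgroup CfsgH9 CfsgH2 in
  have h := rep_of_mem hA le_normalizer le_rfl hbN
  have cB : ∀ x ∈ B, ∀ y ∈ B, x * y * x⁻¹ * y⁻¹ ∈ A ⊓ cb A b := fun x hx y hy =>
    ⟨hBA (mul_mul_inv_mul_inv_mem_commutator hx hy), mem_cb.2 (hBA (Normal.conj_mem inferInstance _
      (mul_mul_inv_mul_inv_mem_commutator hx hy) b))⟩
  have nB : A ≤ normalizer (B : Set S) := le_normalizer_of_normal
  have k1 : ∀ a ∈ A ⊓ cb A b, b⁻¹ * a * b ∈ A := fun a ha => by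
    have c1 : b * a * b⁻¹ * a⁻¹ ∈ B := by
      simpa [mul_assoc] using mul_mem hb (Normal.conj_mem inferInstance _ (inv_mem hb) a)
    have := A.mul_mem (A.inv_mem (A.mul_mem (cB _ (inv_mem hb) _ c1).1 (A.mul_mem (mem_cb.1 ha.2) (A.inv_mem ha.1)))) ha.1
    simpa [mul_assoc] using this
  have lt := h.inf_lt nB hb hbA fun x m => by simpa using mul_mem (cB _ hb _ m.2).1 m.1
  have nb : b ∈ normalizer (star A b : Set S) := inv_mem_iff.1 (mem_normalizer_of_conj_mem fun x hx => by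
    obtain ⟨y, hy, a, ha, rfl⟩ := h.mem_star.1 hx
    have := mul_mem (mem_sup_left (⟨k1 y hy, conj_mem_cb hy.1⟩ : b⁻¹ * y * b ∈ A ⊓ cb A b) : _ ∈ star A b)
      (mul_mem (mem_sup_left (cB _ (inv_mem hb) _ (Rep.c_mem nB hb ha))) (mem_sup_right (subset_closure ⟨a, ha, rfl⟩)))
    convert this using 1
    group)
  refine ⟨h.card_eq k1, ?_, (commutator_le.2 fun x hx y hy => cB x hx y hy).trans le_sup_left, lt,
    lt_of_le_of_ne inf_le_right fun e => hnot (e.ge.trans (inf_le_left.trans h.star_le_normalizer)),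
    le_sup_left.trans h.le_normalizer_star, h.star_le_normalizer, nb,
    lt_of_le_of_ne (fun n hn => mem_normalizer_of_conj_mem fun x hx => ?_) fun e => hbA (e.ge nb), fun hp => ?_⟩
  · by_cases hp : p = 2
    · exact h.comm_star_of fun a ha c hc => mul_comm_of_isMulCommutative (hB2 hp) (Rep.c_mem nB hb ha) (Rep.c_mem nB hb hc)
    · exact h.comm_star nB hb (hBA.trans (isMulCommutative_iff_le_centralizer.1 hA)) (isMulCommutative_of_forall fun x hx y hy =>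
        h.cm (hBA hx) (hBA hy)) fun x hx => odd_orderOf_of_isPGroup hp (hS.to_subgroup B) hx
  · obtain ⟨y, hy, a, ha, rfl⟩ := h.mem_star.1 hx
    have a1 := CfsgH2.conj_mem_of_mem_normalizer hn ha
    have d1 : b⁻¹ * n * b * n⁻¹ ∈ normalizer (A : Set S) := mul_mem (conj_mem_of_mem_normalizer' hbN hn) (inv_mem hn)
    have d2 : b⁻¹ * n * b * n⁻¹ ∈ B := by
      simpa [mul_assoc] using mul_mem (inv_mem hb) (Normal.conj_mem inferInstance _ hb n)
    have y1 : n * y * n⁻¹ ∈ A ⊓ cb A b := ⟨CfsgH2.conj_mem_of_mem_normalizer hn hy.1, mem_cb.2 (by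
      simpa [mul_assoc] using CfsgH2.conj_mem_of_mem_normalizer (CfsgH2.conj_mem_of_mem_normalizer hbN hn) (mem_cb.1 hy.2))⟩
    have y2 : n * a * n⁻¹ * (b⁻¹ * n * b * n⁻¹)⁻¹ * (n * a * n⁻¹)⁻¹ * (b⁻¹ * n * b * n⁻¹) ∈ star A b := (lt.le ⟨by
      rw [mul_assoc, mul_assoc, ← mul_assoc _ _ (b⁻¹ * n * b * n⁻¹)]
      exact mul_mem a1 (conj_mem_of_mem_normalizer' d1 (inv_mem a1)), Rep.c_mem nB d2 a1⟩).1
    have := mul_mem (mem_sup_left y1 : _ ∈ star A b) (mul_mem y2 (mul_mem (mem_sup_left (cB _ (inv_mem d2) _ (Rep.c_mem nB hb a1)))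
      (mem_sup_right (subset_closure ⟨_, a1, rfl⟩))))
    convert this using 1
    group
  · obtain ⟨k, hk⟩ := (hS.to_subgroup A).exists_card_eq
    refine Monoid.exponent_dvd_of_forall_pow_eq_one fun x => Subtype.ext (h.pow_star ?_
      (fun a ha => congrArg Subtype.val (Monoid.pow_exponent_eq_one (⟨a, ha⟩ : A))) x.2)
    exact (((Fact.out : p.Prime).odd_of_ne_two hp).pow (n := k)).of_dvd_nat (hk ▸ Group.exponent_dvd_nat_card)

end Cfsg.Agent.S0650
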