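import Cfsg.Statements.S0651
import Cfsg.Agent.H9.Thompson

set_option autoImplicit false
open Cfsg

namespace Cfsg.Agent.S0651

/-- For odd p and D normal in the p-group S, the abelian subgroups of D of largest order satisfy the replacement property: a class-2 normal subgroup B of S with a member containing [B, B] but not B normalizes some such member. -/
theorem result {S : Type*} [Group S] [Finite S] {p : ℕ} [Fact p.Prime] (hS : IsPGroup p S) (hp : p ≠ 2) (D : Subgroup S) [D.Normal] : ∀ (B : Subgroup S) [B.Normal], ⁅⁅B, B⁆, B⁆ = ⊥ → (∃ U ∈ (Set.image (fun A : Subgroup ↥D => A.map D.subtype) (Cfsg.maxAbelianSubgroups ↥D)), ⁅B, B⁆ ≤ U ∧ ¬ B ≤ U) → ∃ A ∈ (Set.image (fun A : Subgroup ↥D => A.map D.subtype) (Cfsg.maxAbelianSubgroups ↥D)), ⁅B, B⁆ ≤ A ∧ ¬ B ≤ A ∧ B ≤ Subgroup.normalizer (A : Set S) := by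
  open Subgroup CfsgH9 CfsgH2 in
  intro B _ h ⟨U, u1, u2⟩
  rw [maxAbelian_eq] at u1 ⊢
  obtain ⟨A, ⟨a1, a2, a3⟩, a4⟩ := Set.exists_max_image {A : Subgroup S | MaxA 0 D A ∧ ⁅B, B⁆ ≤ A ∧ ¬ B ≤ A}
    (fun A => Nat.card (A ⊓ B : Subgroup S)) (Set.toFinite _) ⟨U, mem_image_maxEA.1 u1, u2⟩
  refine ⟨A, mem_image_maxEA.2 a1, a2, a3, by_contra fun k => ?_⟩
  obtain ⟨A', b1, b2, b3, -⟩ := a1.replace (hS.to_subgroup ⊤) (.inl rfl) le_top le_normalizer_of_normal le_top
    le_normalizer_of_normal (a2.trans (isMulCommutative_iff_le_centralizer.1 a1.ea.1)) (isMulCommutative_iff_le_centralizer.2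
    (a2.trans ((isMulCommutative_iff_le_centralizer.1 a1.ea.1).trans (centralizer_le a2)))) (.inl hp)
    (fun x m b hb => by simpa using mul_mem (a2 (mul_mul_inv_mul_inv_mem_commutator hb m.2)) m.1) k
  exact (a4 A' ⟨b1, (le_inf a2 (commutator_le_of_le le_rfl le_rfl)).trans (b2.le.trans inf_le_left),
    fun l => k (l.trans b3)⟩).not_gt (card_lt_of_lt b2)

end Cfsg.Agent.S0651
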