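import Cfsg.Statements.S0655
import Cfsg.Agent.H9.Thompson

set_option autoImplicit false
open Cfsg

namespace Cfsg.Agent.S0655

/-- In a p-group the intersection of all elementary abelian subgroups of largest order is the subgroup generated by the elements of order dividing p in the centre (equivalently the centralizer) of the elementary-version Thompson subgroup. -/
theorem result {S : Type*} [Group S] [Finite S] {p : ℕ} [Fact p.Prime] (hS : IsPGroup p S) : sInf (Cfsg.maxElementaryAbelianSubgroups p S) = Cfsg.omegaCenterThompson p S ∧ Cfsg.omegaCenterThompson p S = Cfsg.omegaOne p (Subgroup.centralizer (Cfsg.thompsonSubgroup p S : Set S)) := by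
  open CfsgH9 Subgroup CfsgH2 in
  have h1 : omegaOne p (centralizer (thompsonSubgroup p S : Set S)) ≤ sInf (maxElementaryAbelianSubgroups p S) :=
    le_sInf fun A hA => omegaOne_le_iff.2 fun x hx e =>
      (maxA_top.2 hA).mem_of_comm (mem_top x) (centralizer_le (le_sSup hA : A ≤ _) hx) e
  have h2 : sInf (maxElementaryAbelianSubgroups p S) ≤ omegaCenterThompson p S := fun x hx => by
    obtain ⟨A, hA⟩ := exists_maxA (U := (⊤ : Subgroup S)) p
    have hA' := maxA_top.1 hA
    refine mem_omegaOne ⟨le_sSup hA' (sInf_le hA' hx), ?_⟩ (hA.ea.2 x (sInf_le hA' hx))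
    exact le_centralizer_iff.1 (sSup_le fun A hA =>
      le_centralizer_iff.1 ((sInf_le hA).trans (CfsgFT.ea_le_centralizer hA.1))) hx
  have h3 : omegaCenterThompson p S ≤ omegaOne p (centralizer (thompsonSubgroup p S : Set S)) :=
    omegaOne_mono inf_le_right
  exact ⟨le_antisymm h2 (h3.trans h1), le_antisymm h3 (h1.trans h2)⟩

end Cfsg.Agent.S0655
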