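import Cfsg.Statements.S0658
import Cfsg.Agent.H9.Control3

set_option autoImplicit false
open Cfsg

namespace Cfsg.Agent.S0658

/-- In a group of characteristic p type all of whose p-locals are p-stable (p odd), the normalizer of Z(J(P)) contains the normalizer of every nontrivial subgroup of the Sylow p-subgroup P. -/
theorem result {G : Type*} [Group G] [Finite G] {p : ℕ} [Fact p.Prime] (hp : p ≠ 2) (hloc : ∀ Q : Subgroup G, IsPGroup p Q → Q ≠ ⊥ → Cfsg.pPrimeCore p ↥(Subgroup.normalizer (Q : Set G)) = ⊥ ∧ Cfsg.IsPConstrained p ↥(Subgroup.normalizer (Q : Set G)) ∧ Cfsg.IsPStable p ↥(Subgroup.normalizer (Q : Set G))) (P : Sylow p G) (Q : Subgroup G) (hQP : Q ≤ (P : Subgroup G)) (hQ1 : Q ≠ ⊥) : Subgroup.normalizer (Q : Set G) ≤ Subgroup.normalizer (Cfsg.centerThompsonAOf ((P : Subgroup G)) : Set G) := by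
  open CfsgH9 Subgroup CfsgH2 in
  rw [centerThompsonAOf_eq]
  have hP := IsSylowIn.of_sylow_top P
  have hPM := le_normalizer.trans (normalizer_le_normalizer_ZJ (n := 0) (P : Subgroup G))
  have key : ∀ T Q : Subgroup G, Q ≤ P → Q ≠ ⊥ → T = (P : Subgroup G) ⊓ normalizer (Q : Set G) →
      normalizer (Q : Set G) ≤ normalizer (centerThompsonOf 0 (P : Subgroup G) : Set G) := by
    intro T
    induction T using subgroup_induction_down with
    | h T ih =>
    intro Q h1 h2 h3
    have hTP : T ≤ P := h3 ▸ inf_le_left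
    have hT := P.isPGroup'.to_le hTP
    have hQT : Q ≤ T := h3 ▸ le_inf h1 le_normalizer
    have hT1 : T ≠ ⊥ := fun e => h2 (eq_bot_iff.2 (e ▸ hQT))
    obtain ⟨R, hR, hTR⟩ := IsSylowIn.exists_le hT (h3 ▸ inf_le_right : T ≤ normalizer (Q : Set G))
    rcases hTR.eq_or_lt with e | lt
    · subst e
      obtain ⟨k1, k2, k3⟩ := hloc Q (P.isPGroup'.to_le h1) h2
      have h := sup_normalizer_eq_top_of_map_normal (hR.toSylow.isPGroup'.to_le ZJ_le) (sup_normalizer_ZJ hp
        (pst_quotient_of_isPStable k3) (centralizer_pCore_quotient_le_of_constrained k2) hR.toSylow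
        (isStronglyClosed_self _) (Or.inl rfl))
      rw [k1, bot_sup_eq] at h
      have h' := congrArg (Subgroup.map (normalizer (Q : Set G)).subtype) h
      rw [map_normalizer_subtype, top_map_subtype, map_ZJ (Subgroup.subtype_injective _), hR.toSylow_map,
        inf_eq_left] at h'
      rcases hTP.eq_or_lt with e | lt
      · rwa [e] at h'
      exact h'.trans (ih _ (card_lt_of_lt ((lt_inf_normalizer P.isPGroup' lt).trans_le
        (inf_le_inf_left _ (normalizer_le_normalizer_ZJ T)))) _ (ZJ_le.trans hTP) (ZJ_ne_bot (dvd_zero p) hT hT1) rfl)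
    have lt' : T < P := lt_of_le_of_ne hTP fun e => lt.ne' (hP.eq_of_le hR.pgroup (e ▸ hTR) le_top |>.trans e.symm)
    have k := ih _ (card_lt_of_lt (lt_inf_normalizer P.isPGroup' lt')) T hTP hT1 rfl
    have lt2 := lt_inf_normalizer hR.pgroup lt
    obtain ⟨m, hm, e⟩ := (IsSylowIn.of_sylow P hPM).exists_cj_le hR.pgroup.to_inf_left (inf_le_right.trans k)
    have := ih _ ((card_lt_of_lt lt2).trans_le (card_cj m _ ▸ card_le_of_le (le_inf e (by
      rw [← cj_normalizer]; exact cj_mono m (inf_le_left.trans hR.le))))) (cj m Q)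
      ((cj_mono m (hQT.trans lt2.le)).trans e) (fun e => h2 (cj_eq_bot_iff.1 e)) rfl
    rwa [← cj_normalizer, ← cj_eq_of_mem hm, cj_le_cj_iff] at this
  exact key _ Q hQP hQ1 rfl

end Cfsg.Agent.S0658
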