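import Cfsg.Statements.S0660
import Cfsg.Agent.H9.Uni
import Cfsg.Agent.H1.Gasch

set_option autoImplicit false
open Cfsg

namespace Cfsg.Agent.S0660

/-- Under a coprime action on an abelian group, an invariant subgroup that is complemented admits an invariant complement. -/
theorem result {G : Type*} [Group G] [Finite G] (V A U : Subgroup G) (hVab : IsMulCommutative V) (hAV : A ≤ Subgroup.normalizer (V : Set G)) (hcop : (Nat.card A).Coprime (Nat.card V)) (hUV : U ≤ V) (hAU : A ≤ Subgroup.normalizer (U : Set G)) (W : Subgroup G) (hWV : W ≤ V) (hUW : U ⊓ W = ⊥) (hUWV : U ⊔ W = V) : ∃ W' : Subgroup G, W' ≤ V ∧ A ≤ Subgroup.normalizer (W' : Set G) ∧ U ⊓ W' = ⊥ ∧ U ⊔ W' = V := by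
  open Subgroup CfsgH9 CfsgH2 in
  have c := isMulCommutative_iff_le_centralizer.1 hVab
  have nV : V ⊔ A ≤ normalizer (V : Set G) := sup_le le_normalizer hAV
  have nU : V ⊔ A ≤ normalizer (U : Set G) := sup_le (c.trans ((centralizer_le hUV).trans (centralizer_le_normalizer _))) hAU
  haveI := CfsgFT.normal_subgroupOf nU
  haveI := CfsgFT.normal_subgroupOf nV
  haveI : IsMulCommutative (U.subgroupOf (V ⊔ A)) := isMulCommutative_of_forall fun x hx y hy =>
    Subtype.ext (mul_comm_of_isMulCommutative hVab (hUV hx) (hUV hy))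
  obtain ⟨H, hH⟩ := CfsgH1.gaschutz_exists (K := U.subgroupOf (V ⊔ A)) (U := V.subgroupOf (V ⊔ A)) (A := W.subgroupOf (V ⊔ A))
    ((hcop.symm.coprime_dvd_left ((CfsgH1.card_subgroupOf_of_le (hUV.trans le_sup_left)).dvd.trans
      (card_dvd_of_le hUV))).coprime_dvd_right (by
        rw [← relIndex, relIndex_sup_of_normalizer hAV]; exact relIndex_dvd_card _ _))
    (eq_bot_iff.2 fun x hx => Subtype.ext (hUW.le ⟨hx.2, hx.1⟩))
    (by rw [← subgroupOf_sup (hUV.trans le_sup_left) (hWV.trans le_sup_left), hUWV])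
  have s : ∀ x ∈ V ⊔ A, ∃ u ∈ U, ∃ h ∈ H.map (V ⊔ A).subtype, u * h = x := fun x hx =>
    let ⟨⟨u, h⟩, e⟩ := hH.2 ⟨x, hx⟩; ⟨_, u.2, _, mem_map_of_mem _ h.2, congrArg Subtype.val e⟩
  refine ⟨V ⊓ H.map (V ⊔ A).subtype, inf_le_left, fun a ha => ?_, eq_bot_iff.2 ?_, le_antisymm (sup_le hUV inf_le_left) fun v hv => ?_⟩
  · obtain ⟨u, u1, h, h1, rfl⟩ := s a (mem_sup_right ha)
    exact mul_mem (centralizer_le_normalizer _ (centralizer_le inf_le_left (c (hUV u1))))
      (le_normalizer_inf' ((map_subtype_le _).trans nV) le_normalizer h1)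
  · rintro _ ⟨x1, -, x, x2, rfl⟩
    exact congrArg Subtype.val (mem_bot.1 (hH.disjoint.le_bot ⟨x1, x2⟩))
  · obtain ⟨u, u1, h, h1, rfl⟩ := s v (mem_sup_left hv)
    exact mul_mem (mem_sup_left u1) (mem_sup_right ⟨by simpa using mul_mem (inv_mem (hUV u1)) hv, h1⟩)

end Cfsg.Agent.S0660
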