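import Cfsg.Statements.S0661
import Cfsg.Agent.H9.KS1

set_option autoImplicit false
open Cfsg

namespace Cfsg.Agent.S0661

/-- If, modulo the largest normal subgroup of order prime to p, the largest normal p-subgroup contains its centralizer, then for every p-subgroup P the p'-core of N_G(P) is just O_p'(G) ∩ N_G(P). -/
theorem result {G : Type*} [Group G] [Finite G] {p : ℕ} [Fact p.Prime] (hc : Subgroup.centralizer (Cfsg.pCore p (G ⧸ Cfsg.pPrimeCore p G) : Set (G ⧸ Cfsg.pPrimeCore p G)) ≤ Cfsg.pCore p (G ⧸ Cfsg.pPrimeCore p G)) (P : Subgroup G) (hP : IsPGroup p P) : (Cfsg.pPrimeCore p ↥(Subgroup.normalizer (P : Set G))).map (Subgroup.normalizer (P : Set G)).subtype = Cfsg.pPrimeCore p G ⊓ Subgroup.normalizer (P : Set G) := by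
  open Subgroup CfsgH9 CfsgH2 in
  refine le_antisymm (le_inf ?_ (map_subtype_le _)) (CfsgH1.le_map_pPrimeCore inf_le_right (le_normalizer_inf'
    le_normalizer_of_normal le_normalizer) ((CfsgH1.coprime_card_pPrimeCore p G).coprime_dvd_left (card_dvd_of_le inf_le_left)))
  have k := (chP_top.2 hc).inf_norm (hP.map (QuotientGroup.mk' _)) le_top
  rw [top_inf_eq, CfsgH1.normalizer_map_of_coprime _ (QuotientGroup.mk'_surjective _) (CfsgH1.IsPGroup.coprime_card_of_coprime hP
    (by rw [QuotientGroup.ker_mk']; exact CfsgH1.coprime_card_pPrimeCore p G)) (.inl (CfsgH1.isSolvable_of_isPGroup hP))] at k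
  rw [← CfsgH1.map_mk'_eq_bot_iff, eq_bot_iff]
  refine (CfsgH1.le_map_pPrimeCore (p := p) (map_mono (map_subtype_le _)) (CfsgH1.map_le_normalizer _ (le_normalizer.trans
    (CfsgH1.normalizer_le_normalizer_pPrimeCore _))) ((CfsgH1.coprime_card_map_pPrimeCore _).coprime_dvd_left
    (card_map_dvd _ _))).trans ?_
  rw [pPrimeCore_eq_bot_of_con (chP_iff.2 k), Subgroup.map_bot]

end Cfsg.Agent.S0661
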