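import Cfsg.Statements.S0662
import Cfsg.Agent.H9.Uni
import Cfsg.Agent.H1.PG1

set_option autoImplicit false
open Cfsg

namespace Cfsg.Agent.S0662

/-- In a p-group of maximal class of order at least p³ the normal subgroups of index at least p² are exactly the terms of the lower central series, and there are exactly p + 1 normal subgroups of index p. -/
theorem result {G : Type*} [Group G] [Finite G] {p : ℕ} [Fact p.Prime] (n : ℕ) (hG : Nat.card G = p ^ n) (hcl : Group.nilpotencyClass G = n - 1) (hn : 3 ≤ n) : (∀ (N : Subgroup G) [N.Normal] (r : ℕ), 2 ≤ r → N.index = p ^ r → N = (⊤ : Subgroup G).lowerCentralSeries (r - 1)) ∧ Nat.card {N : Subgroup G // N.Normal ∧ N.index = p} = p + 1 := by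
  open Subgroup CfsgH9 CfsgH2 in
  have hp : p.Prime := Fact.out
  have pg : IsPGroup p G := .of_card hG
  have hN := pg.isNilpotent
  have i2 := index_commutator_of_class hG (by omega) hcl
  have it : ∀ i, (⊤ : Subgroup G).lowerCentralSeries (i + 1) = iterCommutator (commutator G) ⊤ i := fun i => by
    induction i with
    | zero => rfl
    | succ i ih => exact congrArg (⁅·, ⊤⁆) ih
  have c2 : Nat.card (commutator G) = p ^ (n - 2) := Nat.eq_of_mul_eq_mul_right (pow_pos hp.pos 2) (by
    rw [← i2, card_mul_index, hG, i2, ← pow_add, Nat.sub_add_cancel (by omega)])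
  obtain ⟨u, -⟩ := uniserial (pg.to_subgroup ⊤) le_rfl (n - 2) (commutator G) le_top le_normalizer_of_normal c2.le (.inl fun e => by
    have := Subgroup.lowerCentralSeries_eq_bot_iff_nilpotencyClass_le.1 ((it _).trans e)
    omega)
  refine ⟨fun N _ r r1 r2 => ?_, ?_⟩
  · have r3 : r ≤ n := (Nat.pow_dvd_pow_iff_le_right hp.one_lt).1 (r2 ▸ hG ▸ N.index_dvd_card)
    have := (pg.to_quotient N).isNilpotent
    have l : (⊤ : Subgroup G).lowerCentralSeries (r - 1) ≤ N := by
      rw [← CfsgH1.map_mk'_eq_bot_iff, Subgroup.map_lowerCentralSeries, map_top_of_surjective _ (QuotientGroup.mk'_surjective _)]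
      exact Subgroup.lowerCentralSeries_eq_bot_iff_nilpotencyClass_le.2 (class_le r2 r1)
    refine (eq_of_le_of_card_le l (Nat.le_of_mul_le_mul_right (le_of_eq ?_) (pow_pos hp.pos r))).symm
    rw [show r - 1 = r - 2 + 1 by omega, it, (u _ (by omega)).1, ← pow_add, ← r2, card_mul_index, hG]
    congr 1; omega
  · have ea : IsElementaryAbelian p (⊤ : Subgroup (G ⧸ commutator G)) := ea_of_card_sq_of_exponent (card_top.trans i2).le
      fun x _ => by_contra fun k => by
        obtain ⟨x, rfl⟩ := QuotientGroup.mk'_surjective _ x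
        obtain ⟨j, j1, j2⟩ := (Nat.dvd_prime_pow hp).1 ((orderOf_dvd_natCard (QuotientGroup.mk' (commutator G) x)).trans i2.dvd)
        have j3 : j = 2 := le_antisymm j1 (not_lt.1 fun t => k (orderOf_dvd_iff_pow_eq_one.1
          (j2 ▸ (pow_dvd_pow p (by omega : j ≤ 1)).trans (pow_one p).dvd)))
        have t : zpowers x ⊔ commutator G = ⊤ := by
          rw [← QuotientGroup.ker_mk' (commutator G), ← comap_map_eq, MonoidHom.map_zpowers, eq_top_of_card_eq (zpowers _)
            (by rw [Nat.card_zpowers, j2, j3]; exact i2.symm), comap_top]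
        have := eq_bot_of_le_commutator_top (K := commutator G) ((commutator_mono t.ge le_rfl).trans (commutator_sup_le
          le_normalizer_of_normal le_normalizer_of_normal ((commutator_comm _ _).le.trans ((commutator_mono t.ge le_rfl).trans
          (commutator_sup_le le_normalizer_of_normal le_normalizer_of_normal ((le_centralizer_iff_bot.1
          (isMulCommutative_iff_le_centralizer.1 inferInstance)).le.trans bot_le) (commutator_mono le_rfl le_top)))) le_rfl))
        rw [this, card_bot, eq_comm, Nat.pow_eq_one] at c2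
        have := hp.one_lt
        omega
    have ci : ∀ X : Subgroup (G ⧸ commutator G), X.index = p ↔ Nat.card X = p := fun X => by
      have := X.card_mul_index.trans i2
      exact ⟨fun e => Nat.eq_of_mul_eq_mul_right hp.pos (by rwa [e, sq] at this),
        fun e => Nat.eq_of_mul_eq_mul_left hp.pos (by rwa [e, sq] at this)⟩
    rw [← CfsgH1.card_lines_sq ea (card_top.trans i2)]
    refine (Nat.card_congr (Equiv.ofBijective (fun X : {X : Subgroup (G ⧸ commutator G) // X ≤ ⊤ ∧ Nat.card X = p} => (⟨X.1.comap (QuotientGroup.mk' _), Normal.of_commutator_le _ ((QuotientGroup.ker_mk' _).ge.trans (ker_le_comap _ _)), ?_⟩ :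
      {N : Subgroup G // N.Normal ∧ N.index = p}))
      ⟨fun X Y e => Subtype.ext (comap_injective (QuotientGroup.mk'_surjective _) (congrArg Subtype.val e)),
      fun ⟨N, _, n2⟩ => ?_⟩)).symm
    · rw [index_comap_of_surjective _ (QuotientGroup.mk'_surjective _), ci, X.2.2]
    · have := isCyclic_of_prime_card (α := G ⧸ N) n2
      have e : (N.map (QuotientGroup.mk' (commutator G))).comap (QuotientGroup.mk' _) = N := by
        rw [comap_map_eq, QuotientGroup.ker_mk', sup_eq_left]
        exact Normal.quotient_commutative_iff_commutator_le.1 inferInstance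
      exact ⟨⟨N.map (QuotientGroup.mk' _), le_top, by
        rw [← ci, ← index_comap_of_surjective _ (QuotientGroup.mk'_surjective _), e, n2]⟩, Subtype.ext e⟩

end Cfsg.Agent.S0662
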