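import Cfsg.Statements.S0663
import Cfsg.Agent.H9.Uni

set_option autoImplicit false
open Cfsg

namespace Cfsg.Agent.S0663

/-- A p-group acts uniserially on a p-group N of order p^n exactly when the iterated commutator chain from N has length n; in that case the chain terms are all the invariant subgroups of N and they are normal in N. -/
theorem result {L : Type*} [Group L] [Finite L] {p : ℕ} [Fact p.Prime] (N G : Subgroup L) (hN : IsPGroup p N) (hG : IsPGroup p G) (hGN : G ≤ Subgroup.normalizer (N : Set L)) (n : ℕ) (hn : Nat.card N = p ^ n) : ((∀ H : Subgroup L, H ≤ N → G ≤ Subgroup.normalizer (H : Set L) → H ≠ ⊥ → (⁅H, G⁆).relIndex H = p) ↔ Cfsg.iterCommutator N G (n - 1) ≠ ⊥ ∨ n = 0) ∧ ((∀ H : Subgroup L, H ≤ N → G ≤ Subgroup.normalizer (H : Set L) → H ≠ ⊥ → (⁅H, G⁆).relIndex H = p) → ∀ H : Subgroup L, H ≤ N → G ≤ Subgroup.normalizer (H : Set L) → (∃ i ≤ n, H = Cfsg.iterCommutator N G i) ∧ N ≤ Subgroup.normalizer (H : Set L)) := by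
  open Subgroup CfsgH9 CfsgH2 in
  have hp : p.Prime := Fact.out
  have u := uniserial (pg_sup hN hG hGN) le_sup_right n N le_sup_left (sup_le le_normalizer hGN) hn.le
  have k : (∀ H : Subgroup L, H ≤ N → G ≤ Subgroup.normalizer (H : Set L) → H ≠ ⊥ → (⁅H, G⁆).relIndex H = p) →
      iterCommutator N G (n - 1) ≠ ⊥ ∨ n = 0 := fun h => by
    have c : ∀ i ≤ n, Nat.card (iterCommutator N G i) = p ^ (n - i) := fun i => by
      induction i with
      | zero => exact fun _ => hn
      | succ i ih =>
        intro hi
        have g : G ≤ normalizer (iterCommutator N G i : Set L) := by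
          cases i with
          | zero => exact hGN
          | succ i => exact normalizer_commutator_ge_right _ _
        have := card_mul_relIndex (commutator_le_of_normalizer g)
        rw [h _ (iter_le hGN i) g fun e => (by
          have := ih (by omega)
          rw [e, card_bot, eq_comm, Nat.pow_eq_one] at this
          have := hp.one_lt
          omega), ih (by omega), show n - i = n - (i + 1) + 1 by omega, pow_succ] at this
        exact Nat.eq_of_mul_eq_mul_right hp.pos this
    refine or_iff_not_imp_right.2 fun h0 e => ?_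
    have := c (n - 1) (by omega)
    rw [e, card_bot, eq_comm, Nat.pow_eq_one] at this
    have := hp.one_lt
    omega
  refine ⟨⟨k, fun h H h1 h2 h3 => ?_⟩, fun h H h1 h2 => ?_⟩
  · obtain ⟨i, i1, rfl⟩ := (u h).2 H h1 h2
    have i2 : i ≠ n := fun e => h3 (card_eq_one.1 (by rw [((u h).1 i i1).1, e, Nat.sub_self, pow_zero]))
    have := card_mul_relIndex (commutator_le_of_normalizer h2)
    rw [← iter_succ, ((u h).1 i i1).1, ((u h).1 (i + 1) (by omega)).1, show n - i = n - (i + 1) + 1 by omega, pow_succ] at this
    exact Nat.eq_of_mul_eq_mul_left (pow_pos hp.pos _) this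
  · obtain ⟨i, i1, rfl⟩ := (u (k h)).2 H h1 h2
    exact ⟨⟨i, i1, rfl⟩, le_sup_left.trans ((u (k h)).1 i i1).2⟩

end Cfsg.Agent.S0663
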