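import Cfsg.Statements.S0666
import Cfsg.Agent.H1.Frob

set_option autoImplicit false
open Cfsg

namespace Cfsg.Agent.S0666

/-- A Frobenius group acting on a nontrivial abelian group of order prime to that of its kernel, with the kernel acting without nontrivial fixed points, has a complement with a nontrivial fixed point. -/
theorem result {G : Type*} [Group G] [Finite G] (V F : Subgroup G) (hVab : IsMulCommutative V) (hV1 : V ≠ ⊥) (hFV : F ≤ Subgroup.normalizer (V : Set G)) (H : Subgroup ↥F) (hH : Cfsg.IsFrobeniusComplement H) (hcop : (Nat.card V).Coprime (Nat.card (Cfsg.frobeniusKernel H))) (hCK : V ⊓ Subgroup.centralizer (Subtype.val '' Cfsg.frobeniusKernel H : Set G) = ⊥) : V ⊓ Subgroup.centralizer ((H.map F.subtype : Subgroup G) : Set G) ≠ ⊥ := by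
  obtain ⟨K, h1, h2, h3, h4, h5, h6, h7⟩ := CfsgH1.frob_data_in hH
  have hKF : K ≤ F := h5 ▸ le_sup_left
  refine CfsgH1.inf_cent_ne_bot_of_frob (U := K) CfsgH1.isSolvable_of_isMulCommutative hV1
    (hKF.trans hFV) ((Subgroup.map_subtype_le H).trans hFV) ((Subgroup.map_subtype_le H).trans h2)
    ?_ (h4 ▸ hcop.symm) h7 (h1 ▸ hCK)
  rw [Ne, Subgroup.map_eq_bot_iff_of_injective _ (Subgroup.subtype_injective F)]
  exact hH.1

end Cfsg.Agent.S0666
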