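import Cfsg.Statements.S0668
import Mathlib
import Cfsg.Agent.H8.Perm2

set_option autoImplicit false
open Cfsg

namespace Cfsg.Agent.S0668

/-- The equivariant linear maps between the permutation modules of two finite `G`-sets form a space whose dimension is the number of `G`-orbits on the product of the two sets. -/
theorem result {G : Type*} [Group G] {K : Type*} [Field K] {Ω₁ Ω₂ : Type*} [Fintype Ω₁] [Fintype Ω₂] [MulAction G Ω₁] [MulAction G Ω₂] : Module.finrank K ((Cfsg.permRep K G Ω₁).linHom (Cfsg.permRep K G Ω₂)).invariants = Nat.card (MulAction.orbitRel.Quotient G (Ω₁ × Ω₂)) := by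
  classical
  haveI : Fintype (MulAction.orbitRel.Quotient G (Ω₁ × Ω₂)) := Fintype.ofFinite _
  let φ : (MulAction.orbitRel.Quotient G (Ω₁ × Ω₂) → K) →ₗ[K] ((Ω₁ → K) →ₗ[K] (Ω₂ → K)) :=
    (Matrix.toLin' (R := K) (m := Ω₂) (n := Ω₁)).toLinearMap ∘ₗ
      { toFun := fun F y x => F (Quotient.mk'' (x, y))
        map_add' := fun _ _ => rfl
        map_smul' := fun _ _ => rfl }
  have hφ : ∀ F x y, φ F (Pi.single x 1) y = F (Quotient.mk'' (x, y)) := fun F x y => by
    simp [φ, Matrix.toLin'_apply, Matrix.mulVec, dotProduct, Pi.single_apply]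
    rfl
  have hsing : ∀ (g : G) (x : Ω₁), Cfsg.permRep K G Ω₁ g (Pi.single x 1) = Pi.single (g • x) 1 := by
    intro g x
    ext t
    simp [Cfsg.permRep, Pi.single_apply, inv_smul_eq_iff]
  have hi : Function.Injective φ := fun F F' h => funext fun q => by
    obtain ⟨⟨x, y⟩, rfl⟩ := Quotient.exists_rep q
    exact (hφ F x y).symm.trans (h ▸ hφ F' x y)
  have hr : LinearMap.range φ = ((Cfsg.permRep K G Ω₁).linHom (Cfsg.permRep K G Ω₂)).invariants := by
    ext T
    rw [Representation.mem_invariants]
    constructor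
    · rintro ⟨F, rfl⟩ g
      refine LinearMap.pi_ext' fun x => LinearMap.ext_ring (funext fun y => ?_)
      simp only [Representation.linHom_apply, LinearMap.comp_apply, LinearMap.single_apply, hsing]
      change φ F _ _ = _
      rw [hφ, hφ]
      exact congrArg F (Quotient.sound' ⟨g⁻¹, rfl⟩)
    · intro h
      refine ⟨Quotient.lift (fun p => T (Pi.single p.1 1) p.2) ?_, ?_⟩
      · rintro _ ⟨x, y⟩ ⟨g, rfl⟩
        have := congrFun (LinearMap.congr_fun (h g⁻¹) (Pi.single x 1)) y
        simp only [Representation.linHom_apply, LinearMap.comp_apply, hsing, inv_inv] at this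
        rw [← this]
        simp [Cfsg.permRep]
      · refine LinearMap.pi_ext' fun x => LinearMap.ext_ring (funext fun y => ?_)
        simp only [LinearMap.comp_apply, LinearMap.single_apply, hφ]
        rfl
  rw [← hr, LinearMap.finrank_range_of_inj hi, Module.finrank_fintype_fun_eq_card,
    Nat.card_eq_fintype_card]

end Cfsg.Agent.S0668
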