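import Cfsg.Statements.S0672
import Mathlib
import Cfsg.Agent.H8.PermMod

set_option autoImplicit false
open Cfsg

namespace Cfsg.Agent.S0672

/-- Let a finite group act faithfully and doubly transitively with point stabilisers of even order, and let `K` have characteristic `p` dividing the degree. If the heart of the permutation module admits no non-zero equivariant map to the permutation module on unordered pairs (phrased: every intertwining map from the sum-zero functions vanishing on the constants is zero), the action is triply transitive. -/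
theorem result {G : Type*} [Group G] [Finite G] {K : Type*} [Field K] {p : ℕ} [Fact p.Prime] [CharP K p] {Ω : Type*} [Fintype Ω] [DecidableEq Ω] [MulAction G Ω] [FaithfulSMul G Ω] (h2 : MulAction.IsMultiplyPretransitive G Ω 2) (hp : p ∣ Fintype.card Ω) (heven : ∀ a : Ω, Even (Nat.card (MulAction.stabilizer G a))) (h : ∀ f : Representation.IntertwiningMap (Cfsg.permSumZero K G Ω).toRepresentation (Cfsg.permRep K G (Set.powersetCard Ω 2)), (∀ v : (Cfsg.permSumZero K G Ω).toSubmodule, (v : Ω → K) ∈ (Cfsg.permConstants K G Ω).toSubmodule → f v = 0) → f = 0) : MulAction.IsMultiplyPretransitive G Ω 3 := by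
  refine CfsgH8.three_trans_of_hom (K := K) h2 heven fun U h1 h3 s hs x y => ?_
  let f : Representation.IntertwiningMap (Cfsg.permSumZero K G Ω).toRepresentation
      (Cfsg.permRep K G (Set.powersetCard Ω 2)) :=
    { toFun := fun v s => ∑ z, U s.1 z * v.1 z
      map_add' := fun v w => funext fun s => by simp [mul_add, Finset.sum_add_distrib]
      map_smul' := fun c w => funext fun s => by simp [Finset.mul_sum, mul_left_comm]
      isIntertwining' := fun g => LinearMap.ext fun v => funext fun s => by
        change ∑ z, U s.1 z * v.1 (g⁻¹ • z) = ∑ z, U (s.1.image (g⁻¹ • ·)) z * v.1 z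
        exact Fintype.sum_equiv (MulAction.toPerm g⁻¹) _ _ fun z => by simp [h1] }
  have := h f fun v hv => funext fun s => by
    obtain ⟨c, hc⟩ := Submodule.mem_span_singleton.1 hv
    change ∑ z, U s.1 z * v.1 z = 0
    simp [← hc, ← Finset.sum_mul, h3 s.1 s.2]
  have h4 : ∑ z, U s z * (Pi.single x 1 - Pi.single y 1 : Ω → K) z = 0 := congrFun (congrArg
    (fun f => f ⟨Pi.single x 1 - Pi.single y 1, by change ∑ z, _ = (0 : K); simp⟩) this) ⟨s, hs⟩
  simpa [mul_sub, Pi.single_apply, sub_eq_zero] using h4

end Cfsg.Agent.S0672
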