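import Cfsg.Statements.S0676
import Mathlib
import Cfsg.Agent.H8.PermMod

set_option autoImplicit false
open Cfsg

namespace Cfsg.Agent.S0676

/-- A non-solvable transitive permutation group of prime degree `p` whose Sylow `p`-normaliser has even order is triply transitive. -/
theorem result {α : Type*} [Fintype α] [DecidableEq α] {p : ℕ} [Fact p.Prime] (hα : Fintype.card α = p) (G : Subgroup (Equiv.Perm α)) [MulAction.IsPretransitive G α] (hG : ¬ Group.IsSolvable G) (P : Sylow p G) (heven : Even (Nat.card (Subgroup.normalizer ((P : Subgroup G) : Set G)))) : MulAction.IsMultiplyPretransitive G α 3 := by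
  rw [← Nat.card_eq_fintype_card] at hα
  have h5 := CfsgH8.five_le_of_not_solvable hα hG
  obtain ⟨τ, t, e, h1, h2, h3, h4, h6⟩ := CfsgH8.exists_neg hα (by omega) P heven
  refine CfsgH8.three_trans_of_hom (K := ZMod p) (CfsgH8.burnside_prime hα hG) (fun a => ?_)
    fun U hU h7 s hs x y => ?_
  · have := (MulAction.stabilizer G a).card_mul_index
    rw [MulAction.index_stabilizer_of_transitive, hα] at this
    have h8 : Even (Nat.card (MulAction.stabilizer G a) * p) := by
      rw [this, even_iff_two_dvd, ← h2]; exact orderOf_dvd_natCard t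
    exact (Nat.even_mul.1 h8).resolve_right
      (Nat.not_even_iff_odd.2 ((Fact.out : p.Prime).odd_of_ne_two (by omega)))
  let W : Submodule (ZMod p) (α → ZMod p) :=
    { carrier := {v | ∑ z, v z = 0 ∧ ∀ s : Finset α, s.card = 2 → ∑ z, U s z * v z = 0}
      zero_mem' := by simp
      add_mem' := fun {v w} hv hw => ⟨by simp [Finset.sum_add_distrib, hv.1, hw.1], fun s hs => by
        simp [mul_add, Finset.sum_add_distrib, hv.2 s hs, hw.2 s hs]⟩
      smul_mem' := fun c v hv => ⟨by simp [← Finset.mul_sum, hv.1], fun s hs => by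
        simp [mul_left_comm _ c, ← Finset.mul_sum, hv.2 s hs]⟩ }
  have hinv : ∀ (g : G) (s : Finset α) (v : α → ZMod p),
      ∑ z, U s z * v (g • z) = ∑ z, U (s.image (g • ·)) z * v z := fun g s v =>
    Fintype.sum_equiv (MulAction.toPerm g) _ _ fun z => by simp [hU]
  have h20 : (2 : ZMod p) ≠ 0 := by
    intro h
    have := (ZMod.natCast_eq_zero_iff 2 p).1 h
    exact absurd (Nat.le_of_dvd two_pos this) (by omega)
  rcases CfsgH8.heart_irr hα hG W (fun g v hv => ⟨(Fintype.sum_equiv (MulAction.toPerm g) _ _
      fun z => rfl).trans hv.1, fun s hs => (hinv g s v).trans (hv.2 _ (by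
        rwa [Finset.card_image_of_injective _ (MulAction.injective g)]))⟩)
    ⟨by simp [← Nat.card_eq_fintype_card, hα], fun s hs => by simpa using h7 s hs⟩
    (fun v hv => (CfsgH8.sumL_apply v).trans hv.1) with h | h
  · have : (fun z => e.symm z) ∈ W := by
      have hneg : ∀ z, e.symm (t • z) = -e.symm z := fun z => by
        obtain ⟨i, rfl⟩ := e.surjective z
        simp [h6]
      constructor
      · have := Fintype.sum_equiv (MulAction.toPerm t) (fun z => e.symm (t • z)) e.symm fun z => rfl
        simp only [hneg, Finset.sum_neg_distrib] at this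
        exact (mul_eq_zero.1 (by linear_combination -this)).resolve_left h20
      · intro s hs
        obtain ⟨a, b, hab, rfl⟩ := Finset.card_eq_two.1 hs
        obtain ⟨i, rfl⟩ := e.surjective a
        obtain ⟨j, rfl⟩ := e.surjective b
        obtain ⟨n, hn⟩ := ZMod.intCast_surjective (-(i + j))
        have h8 := hinv t {e i, e j} e.symm
        have h9 := hinv (τ ^ n) {e i, e j} e.symm
        have h10 : ∀ z, e.symm (τ ^ n • z) = e.symm z + n := fun z => by
          obtain ⟨i, rfl⟩ := e.surjective z
          simp [h4]
        simp only [hneg, h10, mul_add, mul_neg, Finset.sum_neg_distrib, Finset.sum_add_distrib,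
          ← Finset.sum_mul, h7 _ hs, Finset.image_insert, Finset.image_singleton, h4, h6, hn] at h8 h9
        rw [show i + -(i + j) = -j by ring, show j + -(i + j) = -i by ring, Finset.pair_comm (e (-j)), ← h8] at h9
        exact (mul_eq_zero.1 (by linear_combination h9)).resolve_left h20
    rw [h] at this
    obtain ⟨c, hc⟩ := Submodule.mem_span_singleton.1 this
    simpa using (congrFun hc (e 0)).symm.trans (congrFun hc (e 1))
  · have : (Pi.single x 1 - Pi.single y 1 : α → ZMod p) ∈ W := by
      rw [h]; simp [CfsgH8.sumL_apply]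
    simpa [mul_sub, Pi.single_apply, sub_eq_zero] using this.2 s hs

end Cfsg.Agent.S0676
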