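import Cfsg.Statements.S0677
import Mathlib
import Cfsg.Agent.H8.PermMod
import Cfsg.Agent.H1.Wielandt

set_option autoImplicit false
open Cfsg

namespace Cfsg.Agent.S0677

/-- In a transitive permutation group of prime degree `p` whose Sylow `p`-normaliser has even order, the point stabilisers are the only subgroups of index `p`. -/
theorem result {α : Type*} [Fintype α] [DecidableEq α] {p : ℕ} [Fact p.Prime] (hα : Fintype.card α = p) (G : Subgroup (Equiv.Perm α)) [MulAction.IsPretransitive G α] (P : Sylow p G) (heven : Even (Nat.card (Subgroup.normalizer ((P : Subgroup G) : Set G)))) (H : Subgroup G) (hH : H.index = p) : ∃ a : α, H = MulAction.stabilizer G a := by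
  classical
  rw [← Nat.card_eq_fintype_card] at hα
  have hp : p.Prime := Fact.out
  haveI : Nontrivial α := Finite.one_lt_card_iff_nontrivial.1 (hα ▸ hp.one_lt)
  suffices ∃ a : α, ∀ h ∈ H, h • a = a by
    obtain ⟨a, ha⟩ := this
    refine ⟨a, Subgroup.eq_of_le_of_card_ge ha (le_of_eq ?_)⟩
    have h1 := (MulAction.stabilizer G a).card_mul_index
    rw [MulAction.index_stabilizer_of_transitive, hα, ← H.card_mul_index, hH] at h1
    exact Nat.eq_of_mul_eq_mul_right hp.pos h1
  have hpH : ¬ p ∣ Nat.card H := by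
    obtain ⟨τ, h1, h2, h3, -⟩ := CfsgH8.exists_coord hα P
    have h4 : (P : Subgroup G) = Subgroup.zpowers τ := le_antisymm h2 (Subgroup.zpowers_le.2 h1)
    have h5 := (P : Subgroup G).card_mul_index
    rw [← H.card_mul_index, hH, h4, Nat.card_zpowers, h3, mul_comm, ← h4] at h5
    rw [← Nat.eq_of_mul_eq_mul_right hp.pos h5]
    exact P.not_dvd_index
  by_cases hG : Group.IsSolvable G
  · obtain ⟨a, b, hab⟩ := exists_pair_ne α
    obtain ⟨V, l, -, -, h1, h2, h3, -⟩ := CfsgH1.exists_ea_normalized (H := (⊤ : Subgroup G)) (L := ⊤)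
      inferInstance (fun h => by
        obtain ⟨g, rfl⟩ := MulAction.exists_smul_eq G a b
        rw [show g = 1 from Subgroup.mem_bot.1 (h ▸ Subgroup.mem_top g)] at hab
        exact hab (one_smul _ _).symm) le_rfl Subgroup.le_normalizer
    haveI : V.Normal := Subgroup.normalizer_eq_top_iff.1 (top_le_iff.1 h3)
    haveI := CfsgH8.trans_of_normal' (MulAction.IsPreprimitive.of_prime_card (hα ▸ hp)) V h1
    have hc := CfsgH8.card_eq_of_regular (G := V) (a := a) ((Subgroup.eq_bot_iff_forall _).2 fun g hg =>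
      Subtype.ext (CfsgH8.centralizer_semiregular V (fun m hm =>
        congrArg Subtype.val (h2.1.is_comm.comm (⟨m, hm⟩ : V) g)) hg))
    obtain ⟨k, -, hk⟩ := CfsgH1.glauberman_exists (A := H) (K := V) (le_top.trans h3)
      (by rw [hc, hα]; exact ((Nat.Prime.coprime_iff_not_dvd hp).2 hpH).symm) (Or.inl inferInstance) a
      fun h _ => by
        obtain ⟨k, hk⟩ := MulAction.exists_smul_eq V a (h • a)
        exact ⟨k, k.2, hk.symm⟩
    exact ⟨_, hk⟩
  have h5 := CfsgH8.five_le_of_not_solvable hα hG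
  have h2 := CfsgH8.burnside_prime hα hG
  obtain ⟨τ, t, e, h1, -, -, h4, h6⟩ := CfsgH8.exists_neg hα (by omega) P heven
  have hτ : ∀ n : ℤ, τ ^ n ∈ H → (n : ZMod p) = 0 := fun n hn => by
    rw [ZMod.intCast_zmod_eq_zero_iff_dvd, ← h1, orderOf_dvd_iff_zpow_eq_one, ← orderOf_eq_one_iff]
    refine (Nat.dvd_prime hp).1 (h1 ▸ orderOf_dvd_of_mem_zpowers (Subgroup.zpow_mem_zpowers _ _))
      |>.resolve_right fun h => hpH (h ▸ H.orderOf_dvd_natCard hn)
  let φ : ZMod p → G ⧸ H := fun i => (τ ^ (i.cast : ℤ) : G)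
  have hφ : Function.Bijective φ := (Nat.bijective_iff_injective_and_card _).2 ⟨fun i j h => by
    have := hτ (-i.cast + j.cast) (by rw [zpow_add, zpow_neg]; exact QuotientGroup.eq.1 h)
    simpa [neg_add_eq_zero] using this, by rw [← Subgroup.index, hH]; simp⟩
  let B : Set α := MulAction.orbit H (e 0)
  have hB : ∀ h ∈ H, ∀ x, h • x ∈ B ↔ x ∈ B := fun h hh x =>
    ⟨fun ⟨u, hu⟩ => ⟨(⟨h, hh⟩ : H)⁻¹ * u, by
      simp only [mul_smul] at hu ⊢; rw [hu]; exact inv_smul_smul h x⟩,
     fun ⟨u, hu⟩ => ⟨(⟨h, hh⟩ : H) * u, by simp only [mul_smul] at hu ⊢; rw [hu]; rfl⟩⟩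
  let I : G ⧸ H → α → Prop := fun q x => (q.out)⁻¹ • x ∈ B
  have hI : ∀ (g : G) x, I g x ↔ g⁻¹ • x ∈ B := fun g x => by
    obtain ⟨h, hh⟩ := QuotientGroup.mk_out_eq_mul H g
    simp only [I, hh, mul_inv_rev, mul_smul, hB _ (H.inv_mem h.2)]
  have hI' : ∀ (g : G) q x, I (g • q) (g • x) ↔ I q x := fun g q x => by
    obtain ⟨u, rfl⟩ := QuotientGroup.mk_surjective q
    rw [MulAction.Quotient.smul_mk, hI, hI]
    simp [mul_smul]
  have hφI : ∀ i j, I (φ i) (e j) ↔ e (j - i) ∈ B := fun i j => by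
    rw [hI, ← zpow_neg, h4]; simp [sub_eq_add_neg]
  obtain ⟨c, hc⟩ := hφ.2 (t • φ 0)
  have hc' : ∀ j, e (-j - c) ∈ B ↔ e j ∈ B := fun j => by rw [← hφI, hc, ← h6, hI', hφI, sub_zero]
  have h20 : (2 : ZMod p) ≠ 0 := by
    intro h
    have := (ZMod.natCast_eq_zero_iff 2 p).1 h
    exact absurd (Nat.le_of_dvd two_pos this) (by omega)
  let S : ZMod p → Prop := fun j => e (j - c / 2) ∈ B
  have hS : ∀ j, S (-j) ↔ S j := fun j => by
    simp only [S]
    rw [← hc']
    congr! 2
    field_simp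
    ring
  have hpar : ∀ d, d ≠ 0 → (Odd (Nat.card {q | I q (e (-d)) ∧ I q (e d)}) ↔ S d) := by
    intro d hd
    rw [← Nat.card_congr (α := {n | S (-d - n) ∧ S (d - n)}) (Equiv.subtypeEquiv
      ((Equiv.addRight (c / 2)).trans (Equiv.ofBijective φ hφ)) fun n => by
        simp [hφI, S, sub_sub])]
    have := CfsgH8.card_modEq_fixed Nat.prime_two (P := (⊤ : Subgroup ℤˣ))
      (IsPGroup.of_card (n := 1) (by simp)) {n | S (-d - n) ∧ S (d - n)} (by
        intro g _ n hn
        rcases Int.units_eq_one_or g with rfl | rfl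
        · simpa using hn
        · simp only [Units.neg_smul, one_smul, Set.mem_ofPred_eq, sub_neg_eq_add] at hn ⊢
          rw [← hS, ← hS (d + n)]
          exact ⟨by convert hn.2 using 1; ring, by convert hn.1 using 1; ring⟩)
    have h7 : {x | x ∈ {n | S (-d - n) ∧ S (d - n)} ∧ ∀ g ∈ (⊤ : Subgroup ℤˣ), g • x = x} =
        if S d then {0} else ∅ := by
      ext x
      have : (∀ g ∈ (⊤ : Subgroup ℤˣ), g • x = x) ↔ x = 0 := ⟨fun h => by
        have := h (-1) trivial
        simp only [Units.neg_smul, one_smul] at this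
        exact (mul_eq_zero.1 (by linear_combination -this)).resolve_left h20, by rintro rfl; simp⟩
      simp only [Set.mem_ofPred_eq, this]
      split_ifs with h
      · simp only [Set.mem_singleton_iff, and_iff_right_iff_imp]
        rintro rfl; simp [hS, h]
      · simp only [Set.mem_empty_iff_false, iff_false, not_and]
        rintro h8 rfl; simp [h] at h8
    rw [h7] at this
    rw [Nat.odd_iff, this]
    split_ifs with h <;> simp [h]
  have hall : ∀ d d', d ≠ 0 → d' ≠ 0 → (S d ↔ S d') := fun d d' hd hd' => by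
    have hne : ∀ d : ZMod p, d ≠ 0 → e (-d) ≠ e d := fun d hd h =>
      hd ((mul_eq_zero.1 (by linear_combination -e.injective h)).resolve_left h20)
    obtain ⟨g, h7, h8⟩ := CfsgH8.mt_two h2 (hne d hd) (hne d' hd')
    rw [← hpar d hd, ← hpar d' hd', Nat.card_congr (β := {q | I q (e (-d')) ∧ I q (e d')})
      (Equiv.subtypeEquiv (MulAction.toPerm g) fun q => by simp [← h7, ← h8, hI'])]
  refine ⟨e (0 - c / 2), fun h hh => ?_⟩
  by_contra hne
  obtain ⟨j, hj⟩ := e.surjective (h • e (0 - c / 2))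
  have h7 : S (j + c / 2) ↔ S 0 := by simp only [S, add_sub_cancel_right, hj, hB h hh]
  have h8 : j + c / 2 ≠ 0 := fun h => hne (by rw [← hj, zero_sub, eq_neg_of_add_eq_zero_left h])
  have h9 : ∀ d, S d ↔ S 0 := fun d => by
    by_cases hd : d = 0
    · rw [hd]
    · exact (hall _ _ hd h8).trans h7
  have h10 : B = Set.univ := Set.eq_univ_of_forall fun x => by
    obtain ⟨i, rfl⟩ := e.surjective x
    have := (h9 (i + c / 2)).trans (h9 (c / 2)).symm
    simp only [S, add_sub_cancel_right, sub_self] at this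
    exact this.2 (MulAction.mem_orbit_self _)
  refine hpH (dvd_trans (dvd_of_eq ?_) (MulAction.stabilizer H (e 0)).index_dvd_card)
  rw [MulAction.index_stabilizer, show MulAction.orbit H (e 0) = _ from h10, Set.ncard_univ, hα]

end Cfsg.Agent.S0677
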