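import Cfsg.Statements.S0679
import Cfsg.Agent.H3.El1
import Cfsg.Agent.S0498
import Cfsg.Agent.S0675
import Cfsg.Agent.S0676

set_option autoImplicit false
open Cfsg

namespace Cfsg.Agent.S0679

open CfsgPm MulAction Subgroup Finset Equiv Equiv.Perm
variable {α : Type*} [Fintype α] [DecidableEq α]
theorem norm11 (hα : Fintype.card α = 11) {G : Subgroup (Perm α)} [IsPretransitive G α] (hG : ¬ Group.IsSolvable G) [Fact (Nat.Prime 11)]
    (P : Sylow 11 G) : ∃ d i, d ∣ 10 ∧ d ≠ 1 ∧ Nat.card (normalizer (P.1 : Set G)) = 11 * d ∧ 11 * d * i = Nat.card G ∧ i % 11 = 1 := by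
  have c : Nat.card α = 11 := by rw [Nat.card_eq_fintype_card, hα]
  have hP := (card_sylow_of_prime c P).trans c.symm
  obtain ⟨d, h1, h2⟩ := card_norm_of_prime (c ▸ Fact.out) hP
  have h3 := card_sylow_modEq_one 11 G
  rw [P.card_eq_index_normalizer] at h3
  rw [c] at h1 h2
  refine ⟨d, _, h1, fun e => ?_, h2, h2 ▸ card_mul_index _, h3⟩
  have := isCyclic_of_prime_card (hP.trans c)
  have b : normalizer (P.1 : Set G) ≤ centralizer P.1 := (eq_of_le_of_card_ge le_normalizer (by rw [h2, e, hP, c])).ge.trans P.1.le_centralizer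
  refine MonoidHom.not_dvd_card_ker_transferSylow P b (c.symm.dvd.trans (dvd_card_of_normal (c ▸ Fact.out) _ fun e => ?_))
  have := MonoidHom.ker_transferSylow_isComplement' P b
  rw [e, isComplement'_bot_left] at this
  have : P.1.Normal := this ▸ inferInstance
  exact hG (solv_of_normal_prime (c ▸ Fact.out) hP)

theorem even11 (hα : Fintype.card α = 11) {G : Subgroup (Perm α)} [IsPretransitive G α] (hG : ¬ Group.IsSolvable G)
    (hA : ¬ alternatingGroup α ≤ G) (hE : G ≤ alternatingGroup α) : Nat.card G = 660 ∨ Nat.card G = 7920 := by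
  have : Fact (Nat.Prime 11) := ⟨by norm_num⟩
  have c : Nat.card α = 11 := by rw [Nat.card_eq_fintype_card, hα]
  obtain ⟨P⟩ : Nonempty (Sylow 11 G) := inferInstance
  obtain ⟨d, i, h1, h2, h3, h4, h5⟩ := norm11 hα hG P
  have hP := (card_sylow_of_prime c P).trans c.symm
  have : ¬ 2 ∣ d := fun e => by
    have := Fact.mk Nat.prime_two
    obtain ⟨⟨t, ht⟩, o⟩ := exists_prime_orderOf_dvd_card' 2 (h3 ▸ e.mul_left 11)
    rw [← Subgroup.orderOf_coe] at o
    obtain ⟨k, k1, k2, -, -, k5⟩ := supp11 hα hA t Nat.prime_two o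
    obtain ⟨a, ha, b, hb, hab⟩ := one_lt_card.1 (show 1 < #t.1.supportᶜ by
      have : k ≠ 5 := by rintro rfl; exact absurd (k5.symm.trans (hE t.2)) (by decide)
      rw [card_compl]; omega)
    simp only [Finset.mem_compl, mem_support, not_not] at ha hb
    have T := trans_of_prime (c ▸ Fact.out) hP
    have := isCyclic_of_prime_card (hP.trans c)
    obtain ⟨x, hx⟩ := T.1 a b
    have m : t * x * t⁻¹ ∈ P.1 := (mem_normalizer_iff.1 ht _).1 x.2
    have e : t * x * t⁻¹ = x := eq_of_smul_eq_smul (α := α) fun y => by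
      obtain ⟨z, rfl⟩ := T.1 a y
      have : (t * x * t⁻¹) • a = x.1 • a := by
        rw [mul_smul, mul_smul, inv_smul_eq_iff.2 (show a = t • a from ha.symm)]
        exact hx.symm ▸ hb
      change _ • z.1 • a = _ • z.1 • a
      rw [← mul_smul, setLike_mul_comm m z.2, mul_smul, this, ← mul_smul, ← mul_smul, setLike_mul_comm x.2 z.2]
    have x11 : orderOf x.1 = 11 := by
      rw [Subgroup.orderOf_coe]
      exact ((Nat.dvd_prime Fact.out).1 ((orderOf_dvd_natCard x).trans (hP.trans c).dvd)).resolve_left fun e => hab (by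
        rw [← hx, orderOf_eq_one_iff.1 e, one_smul])
    have := orderOf_dvd_of_mem_zpowers (cent_le_of_prime (Ω := α) (P := zpowers x.1) (c ▸ Fact.out) (by rw [Nat.card_zpowers, x11, c])
      (show t ∈ _ by rintro _ ⟨n, rfl⟩; exact (Commute.zpow_left (mul_inv_eq_iff_eq_mul.1 e).symm n).eq))
    rw [x11, o] at this
    omega
  have := Nat.le_of_dvd (by norm_num) h1
  obtain rfl : d = 5 := by interval_cases d <;> omega
  obtain ⟨a, b, hab⟩ := (Fintype.one_lt_card_iff_nontrivial.1 (by omega) : Nontrivial α)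
  have h6 := card_two11 hα ((S0675.result (hα ▸ Fact.out) G).resolve_left hG) hab
  have h7 : ∀ p, p.Prime → p = 5 ∨ p = 7 → ¬ p ∣ Nat.card (fixingSubgroup G ({a, b} : Set α)) := fun p hp h e => by
    have := Fact.mk hp
    obtain ⟨⟨t, ht⟩, o⟩ := exists_prime_orderOf_dvd_card' p e
    rw [← Subgroup.orderOf_coe] at o
    obtain ⟨k, k1, k2, -, k4, -⟩ := supp11 hα hA t hp o
    have := supp_add_le (g := t.1) {a, b} fun y hy => (mem_fixingSubgroup_iff _).1 ht y (by simpa using hy)
    rw [card_pair hab] at this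
    rcases h with rfl | rfl <;> omega
  have h8 := Nat.mul_le_mul_left (Nat.card G) (bochert G fun g hg h3 => hA (alternatingGroup_le_of_isPreprimitive_of_isThreeCycle_mem
    (IsPreprimitive.of_prime_card (c ▸ Fact.out)) h3 hg))
  have h9 := G.card_subgroup_dvd_card
  rw [G.card_mul_index] at h8
  rw [Nat.card_perm, c] at h8 h9
  rw [hα] at h8
  norm_num [Nat.factorial] at h8 h9
  have := (by decide +kernel : ∀ u : ℕ, u < 505 → u % 11 = 6 ∧ 110 * u ∣ 39916800 ∧ ¬ 5 ∣ u ∧ ¬ 7 ∣ u → u = 6 ∨ u = 72) _ (by omega) ⟨by omega,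
    h6 ▸ h9, h7 5 (by norm_num) (.inl rfl), h7 7 (by norm_num) (.inr rfl)⟩
  omega

theorem sharp11 (hα : Fintype.card α = 11) {G : Subgroup (Perm α)} [IsPretransitive G α] (hG : ¬ Group.IsSolvable G)
    (hA : ¬ alternatingGroup α ≤ G) (h9 : 9 ∣ Nat.card G) (x : Fin 4 ↪ α) {w : G} (hw : w ∈ stabilizer G x) (h : w ≠ 1) :
    ∃ t ∈ stabilizer G x, t ≠ 1 ∧ #t.1.support = 6 ∧ sign t.1 = -1 := by
  have := supp_add_le (g := w.1) (univ.map x) fun a ha => by
    obtain ⟨i, -, rfl⟩ := Finset.mem_map.1 ha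
    exact DFunLike.congr_fun hw i
  rw [card_map, card_fin] at this
  obtain ⟨n, h1, h2⟩ := small11 hα hA ((S0675.result (by rw [hα]; norm_num) G).resolve_left hG) h9 h (by omega)
  exact ⟨_, pow_mem hw n, fun e => by simp [e] at h1, h2⟩

theorem sharp11' (hα : Fintype.card α = 11) {G : Subgroup (Perm α)} [IsPretransitive G α] (hG : ¬ Group.IsSolvable G)
    (hA : ¬ alternatingGroup α ≤ G) (hE : G ≤ alternatingGroup α) (h : Nat.card G = 7920) :
    IsMultiplyPretransitive G α 4 ∧ ∀ x : Fin 4 ↪ α, stabilizer G x = ⊥ := by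
  have S : ∀ x : Fin 4 ↪ α, stabilizer G x = ⊥ := fun x => eq_bot_iff.2 fun w hw => by_contra fun n => by
    obtain ⟨t, -, -, -, e⟩ := sharp11 hα hG hA (by omega) x hw n
    exact absurd (e.symm.trans (hE t.2)) (by decide)
  obtain ⟨x⟩ : Nonempty (Fin 4 ↪ α) := Function.Embedding.nonempty_of_card_le (by simp [hα])
  refine ⟨(isPretransitive_iff_orbit_eq_univ x).2 (Set.eq_of_subset_of_ncard_le (Set.subset_univ _) ?_), S⟩
  rw [← index_stabilizer, S, index_bot, h, Set.ncard_univ]
  simp [hα]

theorem nrm (hα : Fintype.card α = 11) {G : Subgroup (Perm α)} [IsPretransitive G α] (hG : ¬ Group.IsSolvable G) (N : Subgroup G) [N.Normal]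
    (e : N ≠ ⊥) : IsPretransitive (N.map G.subtype) α ∧ ¬ Group.IsSolvable (N.map G.subtype) := by
  have hp : (Nat.card α).Prime := by rw [Nat.card_eq_fintype_card, hα]; norm_num
  have := IsPreprimitive.of_prime_card (G := G) hp
  have t : IsPretransitive N α := IsQuasiPreprimitive.isPretransitive_of_normal fun e' => e (eq_bot_iff.2 fun x hx =>
    eq_of_smul_eq_smul (α := α) fun a => (e'.ge (Set.mem_univ a) ⟨x, hx⟩).trans (one_smul _ a).symm)
  refine ⟨⟨fun x y => (t.1 x y).elim fun g hg => ⟨⟨_, g.1, g.2, rfl⟩, hg⟩⟩, fun s => ?_⟩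
  have := CfsgH1.isSolvable_of_equiv (equivMapOfInjective N _ G.subtype_injective).symm
  obtain ⟨A, _, h⟩ := normal_of_solv hp N e
  exact hG (solv_of_normal_prime hp h)

/-- A non-solvable transitive permutation group on 11 points that does not contain the alternating group is either sharply 4-transitive (of order 7920) or isomorphic to the projective special linear group of degree 2 over the field with 11 elements. -/
theorem result {α : Type*} [Fintype α] [DecidableEq α] (hα : Fintype.card α = 11) (G : Subgroup (Equiv.Perm α)) [MulAction.IsPretransitive G α] (hG : ¬ Group.IsSolvable G) (hA : ¬ alternatingGroup α ≤ G) : (MulAction.IsMultiplyPretransitive G α 4 ∧ ∀ x : Fin 4 ↪ α, MulAction.stabilizer G x = ⊥) ∨ Nonempty (G ≃* Matrix.ProjectiveSpecialLinearGroup (Fin 2) (ZMod 11)) := by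
  have : Fact (Nat.Prime 11) := ⟨by norm_num⟩
  have c : Nat.card α = 11 := by rw [Nat.card_eq_fintype_card, hα]
  by_cases hE : G ≤ alternatingGroup α
  · refine (even11 hα hG hA hE).symm.imp (sharp11' hα hG hA hE) fun h => ?_
    have : IsSimpleGroup G := @IsSimpleGroup.mk _ _ (Finite.one_lt_card_iff_nontrivial.1 (by omega)) fun N hN => or_iff_not_imp_left.2 fun e => by
      obtain ⟨_, s⟩ := nrm hα hG N e
      have := even11 hα s (fun h => hA (h.trans (map_subtype_le _))) ((map_subtype_le _).trans hE)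
      have := N.card_le_card_group
      rw [card_map_of_injective G.subtype_injective] at *
      exact eq_top_of_card_eq _ (by omega)
    exact S0498.result 11 (.inl rfl) (by omega) (ZMod.card 11)
  exfalso
  let N := (alternatingGroup α).subgroupOf G
  have : Nontrivial α := Fintype.one_lt_card_iff_nontrivial.1 (by omega)
  have i : N.index = 2 := ((Nat.dvd_prime Nat.prime_two).1 (alternatingGroup.index_eq_two (α := α) ▸ relIndex_dvd_index_of_normal _ G)).resolve_left
    fun e => hE (relIndex_eq_one.1 e)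
  have i' := N.index_mul_card
  have d := desc_dvd (G := G) (Ω := α) (is_one_pretransitive_iff.2 inferInstance) (by omega)
  obtain ⟨_, s⟩ := nrm hα hG N fun e => by rw [i, e, card_bot] at i'; rw [← i', c] at d; norm_num at d
  have hA' : ¬ alternatingGroup α ≤ N.map G.subtype := fun h => hA (h.trans (map_subtype_le _))
  have hE' : N.map G.subtype ≤ alternatingGroup α := by rintro _ ⟨x, hx, rfl⟩; exact hx
  rw [i, ← card_map_of_injective G.subtype_injective] at i'
  rcases even11 hα s hA' hE' with h | h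
  · obtain ⟨P⟩ : Nonempty (Sylow 11 G) := inferInstance
    obtain ⟨d, i, h1, h2, h3, h4, h5⟩ := norm11 hα hG P
    have := Nat.le_of_dvd (by norm_num) h1
    obtain rfl : d = 10 := by interval_cases d <;> omega
    have := desc_dvd (S0676.result hα G hG P (by rw [h3]; decide)) (by omega)
    rw [← i', h, c] at this
    norm_num at this
  have T : IsMultiplyPretransitive G α 4 := ⟨fun x y => ((sharp11' hα s hA' hE' h).1.1 x y).elim fun g hg => ⟨⟨g, map_subtype_le _ g.2⟩, hg⟩⟩
  have S : ∀ x : Fin 4 ↪ α, Nat.card (stabilizer G x) = 2 := fun x => by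
    have := (stabilizer G x).index_mul_card
    rw [@index_stabilizer_of_transitive G _ _ _ x ⟨T.1⟩, ← i', h] at this
    simp only [Nat.card_eq_fintype_card (α := Fin 4 ↪ α), Fintype.card_embedding_eq, hα, Fintype.card_fin] at this
    rw [show Nat.descFactorial 11 4 = 7920 from rfl] at this
    omega
  obtain ⟨x⟩ : Nonempty (Fin 4 ↪ α) := Function.Embedding.nonempty_of_card_le (by simp [hα])
  obtain ⟨w, hw, -⟩ := (Nat.card_eq_two_iff' 1).1 (S x)
  obtain ⟨t, -, t1, t2, -⟩ := sharp11 hα hG hA (by omega) x w.2 fun e => hw (Subtype.ext e)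
  let F : SubMulAction (centralizer {t}) α := ⟨↑(t.1.supportᶜ), fun k _ h => Finset.mem_compl.2 ((mem_support_iff_of_commute
    (congrArg Subtype.val (mem_centralizer_singleton_iff.1 k.2)) _).not.2 (Finset.mem_compl.1 h))⟩
  have cF : Nat.card F = 5 := by
    change Nat.card (t.1.supportᶜ : Finset α) = 5
    rw [Nat.card_eq_fintype_card, Fintype.card_coe, card_compl]; omega
  have m : ∀ y : Fin 4 ↪ F, t ∈ stabilizer G (y.trans (Function.Embedding.subtype _)) := fun y => DFunLike.ext _ _ fun i =>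
    notMem_support.1 (Finset.mem_compl.1 (y i).2)
  have := desc_dvd (G := centralizer {t}) (Ω := F) (k := 4) ⟨fun y z => by
    obtain ⟨g, hg⟩ := T.1 (y.trans (Function.Embedding.subtype _)) (z.trans (Function.Embedding.subtype _))
    have := ((Nat.card_eq_two_iff' 1).1 (S (z.trans (Function.Embedding.subtype _)))).unique (y₁ := ⟨g * t * g⁻¹, by
      rw [mem_stabilizer_iff, ← hg]
      exact (mul_smul _ g _).symm.trans (by rw [inv_mul_cancel_right, mul_smul, m y]; rfl)⟩) (y₂ := ⟨t, m z⟩) (by simpa) (by simpa)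
    exact ⟨⟨g, mem_centralizer_singleton_iff.2 (mul_inv_eq_iff_eq_mul.1 (congrArg Subtype.val this))⟩,
      DFunLike.ext _ _ fun i => Subtype.ext (DFunLike.congr_fun hg i)⟩⟩ (by omega)
  have := five11 hα hA t (Dvd.dvd.trans (by rw [cF]; decide) this)
  omega

end Cfsg.Agent.S0679
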