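import Cfsg.Statements.S0680
import Mathlib
import Cfsg.Agent.H8.Perm2

set_option autoImplicit false
open Cfsg

namespace Cfsg.Agent.S0680

/-- A finite sharply doubly transitive permutation group has degree a prime power `p ^ j`; a Sylow `p`-subgroup is normal, elementary abelian and regular, and consists of the identity together with the elements without fixed points. (Frobenius' Theorem is not needed.) -/
theorem result {α : Type*} [Fintype α] [DecidableEq α] (G : Subgroup (Equiv.Perm α)) [MulAction.IsMultiplyPretransitive G α 2] (hsharp : ∀ x : Fin 2 ↪ α, MulAction.stabilizer G x = ⊥) (h2 : 2 ≤ Fintype.card α) : ∃ p j : ℕ, p.Prime ∧ 1 ≤ j ∧ Fintype.card α = p ^ j ∧ ∀ (hp : Fact p.Prime) (P : Sylow p G), (P : Subgroup G).Normal ∧ IsMulCommutative (P : Subgroup G) ∧ (∀ x ∈ (P : Subgroup G), x ^ p = 1) ∧ MulAction.IsPretransitive (P : Subgroup G) α ∧ (∀ a : α, MulAction.stabilizer (P : Subgroup G) a = ⊥) ∧ ∀ g : G, g ∈ (P : Subgroup G) ↔ g = 1 ∨ ∀ a : α, g • a ≠ a := by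
  haveI : Nontrivial α := Fintype.one_lt_card_iff_nontrivial.1 h2
  have hG : MulAction.IsMultiplyPretransitive G α 2 := inferInstance
  haveI : MulAction.IsPretransitive G α := MulAction.isPretransitive_of_is_two_pretransitive
  obtain ⟨K, hK, hKt⟩ := CfsgH8.exists_frob_kernel (G := G) (X := α) fun g a b h h1 h2 =>
    CfsgH8.sharp_two hsharp h h1 h2
  haveI hn : K.Normal := ⟨fun n hn g => (hK _).2 (((hK _).1 hn).imp (fun h => by simp [h])
    fun h a ha => h (g⁻¹ • a) (by rwa [mul_smul, mul_smul, smul_eq_iff_eq_inv_smul] at ha))⟩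
  have hreg : ∀ a : α, MulAction.stabilizer K a = ⊥ := fun a =>
    (Subgroup.eq_bot_iff_forall _).2 fun g hg =>
      Subtype.ext (((hK _).1 g.2).resolve_right fun h => h a hg)
  obtain ⟨p, j, hp, hj, h1, h3, h4⟩ := CfsgH8.ea_of_regular_normal hG K hreg
  refine ⟨p, j, hp, hj, by rw [← h1, Nat.card_eq_fintype_card], fun _ P => ?_⟩
  have hP : IsPGroup p K := fun g => ⟨1, Subtype.ext (by simpa using h4 g g.2)⟩
  have : (P : Subgroup G) = K := by
    refine le_antisymm (fun g hg => (hK g).2 ?_) (IsPGroup.le_sylow_of_normal hP P)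
    by_contra hc
    push Not at hc
    obtain ⟨h5, a, ha⟩ := hc
    have hZ : IsPGroup p (Subgroup.zpowers g) := P.2.to_le (Subgroup.zpowers_le.2 hg)
    obtain ⟨b, hb, h6⟩ := CfsgH8.exists_fixed_of_not_dvd hp hZ ({a}ᶜ : Set α) (fun u hu x hx h => hx (by
      have : u • a = a := (Subgroup.zpowers_le.2 (show g ∈ MulAction.stabilizer G a from ha)) hu
      exact MulAction.injective u (h.trans this.symm))) (by
      have := Set.ncard_add_ncard_compl ({a} : Set α)
      rw [Set.ncard_singleton, h1] at this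
      intro hd
      rw [Nat.card_coe_set_eq] at hd
      have h7 : p ∣ p ^ j := dvd_pow_self p (by omega)
      rw [← this, Nat.dvd_add_left hd] at h7
      exact hp.one_lt.ne' (Nat.dvd_one.1 h7))
    exact h5 (CfsgH8.sharp_two hsharp hb (h6 g (Subgroup.mem_zpowers g)) ha)
  rw [this]
  exact ⟨hn, ⟨⟨fun a b => Subtype.ext (h3 a a.2 b b.2)⟩⟩, h4, hKt, hreg, hK⟩

end Cfsg.Agent.S0680
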