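import Cfsg.Statements.S0681
import Mathlib
import Cfsg.Agent.H8.Perm2

set_option autoImplicit false
open Cfsg

namespace Cfsg.Agent.S0681

theorem mul_ne {F : Type*} [Cfsg.NearField F] {a b : F} (ha : a ≠ 0) (hb : b ≠ 0) : a * b ≠ 0 := by
  intro h
  obtain ⟨c, hc, -⟩ := Cfsg.NearField.exists_inv b hb
  have h0 : (0 : F) * c = 0 := by
    have := Cfsg.NearField.right_distrib (0 : F) 0 c
    simpa using this
  exact ha (by rw [← mul_one a, ← hc, ← mul_assoc, h, h0])

theorem sub_mul' {F : Type*} [Cfsg.NearField F] (a b c : F) : (a - b) * c = a * c - b * c := by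
  rw [eq_sub_iff_add_eq, ← Cfsg.NearField.right_distrib, sub_add_cancel]

/-- The affine maps `x ↦ x * a + b`, `a ≠ 0`, of a near-field form a sharply doubly transitive permutation group. -/
theorem result {F : Type*} [Cfsg.NearField F] : ∃ H : Subgroup (Equiv.Perm F), (∀ σ : Equiv.Perm F, σ ∈ H ↔ ∃ a b : F, a ≠ 0 ∧ ∀ x : F, σ x = x * a + b) ∧ MulAction.IsMultiplyPretransitive H F 2 ∧ ∀ x : Fin 2 ↪ F, MulAction.stabilizer H x = ⊥ := by
  have hinv : ∀ a : F, a ≠ 0 → ∃ b : F, b ≠ 0 ∧ a * b = 1 ∧ b * a = 1 := fun a ha => by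
    obtain ⟨b, h1, h2⟩ := Cfsg.NearField.exists_inv a ha
    refine ⟨b, ?_, h1, h2⟩
    rintro rfl
    exact Cfsg.NearField.zero_ne_one ((Cfsg.NearField.mul_zero a).symm.trans h1)
  let H : Subgroup (Equiv.Perm F) :=
    { carrier := {σ | ∃ a b : F, a ≠ 0 ∧ ∀ x : F, σ x = x * a + b}
      one_mem' := ⟨1, 0, Cfsg.NearField.zero_ne_one.symm, by simp⟩
      mul_mem' := by
        rintro σ τ ⟨a, b, ha, h⟩ ⟨c, d, hc, h'⟩
        exact ⟨c * a, d * a + b, mul_ne hc ha, fun x => by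
          rw [Equiv.Perm.mul_apply, h', h, Cfsg.NearField.right_distrib, mul_assoc, add_assoc]⟩
      inv_mem' := by
        rintro σ ⟨a, b, ha, h⟩
        obtain ⟨c, hc, h1, h2⟩ := hinv a ha
        refine ⟨c, -b * c, hc, fun x => ?_⟩
        rw [Equiv.Perm.inv_eq_iff_eq, h, ← Cfsg.NearField.right_distrib, mul_assoc, h2]
        simp }
  refine ⟨H, fun σ => Iff.rfl, MulAction.is_two_pretransitive_iff.2 fun {a b c d} hab hcd => ?_,
    CfsgH8.sharp_two_of ?_⟩
  · obtain ⟨e, he, h1, h2⟩ := hinv (b - a) (sub_ne_zero.2 hab.symm)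
    have hu := mul_ne he (sub_ne_zero.2 hcd.symm)
    obtain ⟨v, -, h3, h4⟩ := hinv _ hu
    refine ⟨⟨⟨fun x => x * (e * (d - c)) + (-(a * (e * (d - c))) + c),
      fun y => (y - (-(a * (e * (d - c))) + c)) * v, fun x => ?_, fun y => ?_⟩, _, _, hu, fun x => rfl⟩,
      ?_, ?_⟩
    · simp only [add_sub_cancel_right, mul_assoc x, h3, mul_one]
    · simp only [mul_assoc _ v, h4, mul_one, sub_add_cancel]
    · change a * _ + _ = c
      simp
    · change b * _ + _ = d
      rw [← add_assoc, ← sub_eq_add_neg, ← sub_mul', ← mul_assoc, h1]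
      simp
  · rintro ⟨σ, u, v, hu, h⟩ a b hab h1 h2
    change σ a = a at h1
    change σ b = b at h2
    obtain ⟨e, he, h3, h4⟩ := hinv (b - a) (sub_ne_zero.2 hab.symm)
    rw [h] at h1 h2
    have h5 : (b - a) * u = b - a := by
      rw [sub_mul', eq_sub_of_add_eq h1, eq_sub_of_add_eq h2]; simp
    have h6 : u = 1 := by rw [← one_mul u, ← h4, mul_assoc, h5]
    subst h6
    have h7 : v = 0 := by simpa using h1
    ext x
    simp [h, h7]

end Cfsg.Agent.S0681
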