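import Cfsg.Statements.S0682
import Mathlib
import Cfsg.Agent.H8.Perm2

set_option autoImplicit false
open Cfsg

namespace Cfsg.Agent.S0682

/-- A finite near-field has prime-power order; its additive group is commutative of prime exponent. -/
theorem result {F : Type*} [Cfsg.NearField F] [Finite F] : ∃ p j : ℕ, p.Prime ∧ 1 ≤ j ∧ Nat.card F = p ^ j ∧ (∀ x y : F, x + y = y + x) ∧ ∀ x : F, p • x = 0 := by
  haveI : Nontrivial F := ⟨0, 1, Cfsg.NearField.zero_ne_one⟩
  obtain ⟨p, j, hp, hj, h1, h2, h3⟩ := CfsgH8.ea_of_aut_trans (N := Multiplicative F) fun x y hx hy => by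
    obtain ⟨a, ha, ha'⟩ := Cfsg.NearField.exists_inv x.toAdd hx
    obtain ⟨b, hb, hb'⟩ := Cfsg.NearField.exists_inv y.toAdd hy
    refine ⟨⟨⟨fun z => .ofAdd (z.toAdd * a * y.toAdd), fun z => .ofAdd (z.toAdd * b * x.toAdd),
      fun z => ?_, fun z => ?_⟩, fun u v => ?_⟩, ?_⟩
    · simp only [toAdd_ofAdd]
      rw [mul_assoc _ _ b, hb, mul_one, mul_assoc, ha', mul_one, ofAdd_toAdd]
    · simp only [toAdd_ofAdd]
      rw [mul_assoc _ _ a, ha, mul_one, mul_assoc, hb', mul_one, ofAdd_toAdd]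
    · simp only [toAdd_mul, Cfsg.NearField.right_distrib, ofAdd_add]
    · simp [ha]
  exact ⟨p, j, hp, hj, h1, h2, h3⟩

end Cfsg.Agent.S0682
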