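import Cfsg.Statements.S0683
import Mathlib
import Cfsg.Agent.H8.Perm2
import Cfsg.Agent.S0680

set_option autoImplicit false
open Cfsg

namespace Cfsg.Agent.S0683

/-- A finite sharply doubly transitive permutation group is the affine group of a near-field: the permuted set carries a near-field structure for which the group consists exactly of the maps `x ↦ x * a + b` with `a ≠ 0`. -/
theorem result {α : Type*} [Fintype α] [DecidableEq α] (H : Subgroup (Equiv.Perm α)) [MulAction.IsMultiplyPretransitive H α 2] (hsharp : ∀ x : Fin 2 ↪ α, MulAction.stabilizer H x = ⊥) (h2 : 2 ≤ Fintype.card α) : ∃ _ : Cfsg.NearField α, ∀ σ : Equiv.Perm α, σ ∈ H ↔ ∃ a b : α, a ≠ 0 ∧ ∀ x : α, σ x = x * a + b := by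
  classical
  haveI : Nontrivial α := Fintype.one_lt_card_iff_nontrivial.1 h2
  have hG : MulAction.IsMultiplyPretransitive H α 2 := inferInstance
  obtain ⟨p, j, hp, -, -, h⟩ := Cfsg.Agent.S0680.result H hsharp h2
  haveI := Fact.mk hp
  obtain ⟨P⟩ : Nonempty (Sylow p H) := inferInstance
  obtain ⟨hn, -, -, ht, hreg, -⟩ := h this P
  generalize (P : Subgroup H) = K at hn ht hreg
  obtain ⟨o, e, hoe⟩ := exists_pair_ne α
  choose t ht using fun y => ht.exists_smul_eq o y
  have htu : ∀ {k : H}, k ∈ K → (t (k • o) : H) = k := fun hk =>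
    CfsgH8.eq_of_regular (hreg o) (t _).2 hk (ht _)
  have : ∀ a : α, ∃ m : H, a ≠ o → m • o = o ∧ m • e = a := fun a => by
    by_cases ha : a = o
    · exact ⟨1, fun h => absurd ha h⟩
    · obtain ⟨m, hm⟩ := CfsgH8.mt_two hG hoe (Ne.symm ha)
      exact ⟨m, fun _ => hm⟩
  choose m hm using this
  have hne : ∀ {g : H}, g • o = o → g • e ≠ o := fun {g} h1 h2 =>
    hoe (MulAction.injective g (h1.trans h2.symm))
  have hmu : ∀ {g : H}, g • o = o → m (g • e) = g := fun {g} hg =>
    inv_mul_eq_one.1 (CfsgH8.sharp_two hsharp hoe (g := (m (g • e))⁻¹ * g)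
      (by rw [mul_smul, hg, inv_smul_eq_iff, (hm _ (hne hg)).1])
      (by rw [mul_smul, inv_smul_eq_iff, (hm _ (hne hg)).2]))
  letI : Add α := ⟨fun x y => (t y : H) • x⟩
  letI : Zero α := ⟨o⟩
  letI : Neg α := ⟨fun x => (t x : H)⁻¹ • o⟩
  letI : Mul α := ⟨fun x a => if a = o then o else m a • x⟩
  letI : One α := ⟨e⟩
  have add_def : ∀ x y : α, x + y = (t y : H) • x := fun _ _ => rfl
  have mul_def : ∀ x a : α, x * a = if a = o then o else m a • x := fun _ _ => rfl
  have ht' : ∀ y, (t y : H) • o = y := ht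
  have hadd : ∀ y z : α, (t (y + z) : H) = t z * t y := fun y z => by
    rw [← htu (K.mul_mem (t z).2 (t y).2), mul_smul, ht', add_def]
  letI : AddGroup α := AddGroup.ofLeftAxioms
    (fun x y z => by rw [add_def x (y + z), hadd, mul_smul]; rfl) (fun x => ht' x)
    (fun x => smul_inv_smul _ _)
  have h0 : ∀ a : α, o * a = o := fun a => by
    rw [mul_def]; split_ifs with h; exacts [rfl, (hm a h).1]
  have h1 : ∀ a : α, e * a = a := fun a => by
    rw [mul_def]; split_ifs with h; exacts [h.symm, (hm a h).2]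
  have h3 : ∀ {g : H}, g • o = o → ∀ x, x * (g • e) = g • x := fun hg x => by
    rw [mul_def, if_neg (hne hg), hmu hg]
  have h4 : ∀ a : α, a ≠ o → ∃ g : H, g • o = o ∧ g • e = a := fun a ha => ⟨_, hm a ha⟩
  have h5 : ∀ x : α, x * o = o := fun x => if_pos rfl
  letI : Monoid α :=
    { mul_assoc := fun x a b => by
        by_cases hb : b = o
        · rw [hb, h5, h5, h5]
        by_cases ha : a = o
        · rw [ha, h5, h0, h5]
        obtain ⟨g, hg, rfl⟩ := h4 a ha
        obtain ⟨u, hu, rfl⟩ := h4 b hb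
        rw [h3 hu, h3 hu, h3 hg, ← mul_smul u g e, h3 (by rw [mul_smul, hg, hu]), mul_smul]
      one_mul := h1
      mul_one := fun x => by
        have := h3 (one_smul H o) x
        rwa [one_smul, one_smul] at this }
  refine ⟨{ right_distrib := fun x y a => ?_
            mul_zero := h5
            zero_ne_one := hoe
            exists_inv := fun a ha => ?_ }, fun σ => ⟨fun hσ => ?_, ?_⟩⟩
  · by_cases ha : a = o
    · rw [ha, h5, h5, h5]; exact (add_zero (0 : α)).symm
    obtain ⟨g, hg, rfl⟩ := h4 a ha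
    have : (t (g • y) : H) = g * t y * g⁻¹ := by
      rw [← htu (hn.conj_mem _ (t y).2 g), mul_smul, mul_smul, inv_smul_eq_iff.2 hg.symm, ht']
    rw [h3 hg, h3 hg, h3 hg, add_def, add_def, this, mul_smul, mul_smul, inv_smul_smul]
  · obtain ⟨g, hg, rfl⟩ := h4 a ha
    exact ⟨g⁻¹ • e, (h3 (inv_smul_eq_iff.2 hg.symm) _).trans (inv_smul_smul _ _),
      (h3 hg _).trans (smul_inv_smul _ _)⟩
  · have hg : ((t (σ o) : H)⁻¹ * ⟨σ, hσ⟩) • o = o := by
      rw [mul_smul, inv_smul_eq_iff, ht']; rfl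
    refine ⟨_, σ o, hne hg, fun x => ?_⟩
    change _ = (t (σ o) : H) • (x * _)
    rw [h3 hg, mul_smul, smul_inv_smul]; rfl
  · rintro ⟨a, b, ha, h⟩
    obtain ⟨g, hg, rfl⟩ := h4 a ha
    have : σ = (t b : H) * g := Equiv.ext fun x => (h x).trans (by
      change (t b : H) • (x * _) = _
      rw [h3 hg]; rfl)
    exact this ▸ H.mul_mem (t b).1.2 g.2

end Cfsg.Agent.S0683
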