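import Cfsg.Statements.S0685
import Cfsg.Agent.H3.Nf1

set_option autoImplicit false
open Cfsg

namespace Cfsg.Agent.S0685

open CfsgPm

/-- In a linear group over the prime field that is regular on non-zero vectors and has no irreducible cyclic normal subgroup, a maximal normal abelian subgroup is properly contained in its centraliser, which is non-abelian. -/
theorem result {p : ℕ} [Fact p.Prime] {V : Type*} [AddCommGroup V] [Module (ZMod p) V] [Finite V] (H : Subgroup (V ≃ₗ[ZMod p] V)) (hreg : ∀ v w : V, v ≠ 0 → w ≠ 0 → ∃! h : H, (h : V ≃ₗ[ZMod p] V) v = w) (hI : ∀ A : Subgroup H, A.Normal → IsCyclic A → ∃ W : Submodule (ZMod p) V, W ≠ ⊥ ∧ W ≠ ⊤ ∧ ∀ a ∈ A, ∀ v ∈ W, ((a : H) : V ≃ₗ[ZMod p] V) v ∈ W) (A : Subgroup H) (hAn : A.Normal) (hAc : IsMulCommutative A) (hAmax : ∀ B : Subgroup H, B.Normal → IsMulCommutative B → A ≤ B → B = A) : A < Subgroup.centralizer (A : Set H) ∧ ¬ IsMulCommutative (Subgroup.centralizer (A : Set H)) := by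
  have le : A ≤ Subgroup.centralizer (A : Set H) := fun a ha b hb => setLike_mul_comm hb ha
  have ne : Subgroup.centralizer (A : Set H) ≠ A := fun e => by
    obtain ⟨U, h0, -⟩ := hI ⊥ inferInstance inferInstance
    obtain ⟨v, -, hv⟩ := (Submodule.ne_bot_iff _).1 h0
    have : Nontrivial V := ⟨⟨v, 0, hv⟩⟩
    have ht : ∀ v w : V, v ≠ 0 → w ≠ 0 → ∃ h : H, h.1 v = w := fun v w a b => (hreg v w a b).exists
    obtain ⟨U, h0, h1, h2⟩ := hI A hAn (cyc_of_trans ht A)
    obtain ⟨W, k0, k1, k2, k3⟩ := exists_min A h0 h2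
    have : Finite (Module.End (ZMod p) V) := Finite.of_injective _ DFunLike.coe_injective
    have c1 : Nat.card H = Nat.card {w : V // w ≠ 0} := Nat.card_eq_of_bijective (fun h => ⟨h.1 v, by simpa⟩)
      ⟨fun a b e => (hreg v (b.1 v) hv (by simpa)).unique (congrArg Subtype.val e) rfl, fun w => (ht v w hv w.2).imp fun _ => Subtype.ext⟩
    have c2 : Nat.card {w : V // w ≠ 0} = Nat.card V - 1 := by
      have := Fintype.ofFinite V
      classical
      simp [Nat.card_eq_fintype_card]
    have c3 := (Subgroup.centralizer (A : Set H)).index_mul_card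
    have c4 := index_cent_dvd ht A
    have c5 := card_dvd_envA ht A
    have c6 := card_envA_min ht A k1 k2 k3
    obtain ⟨d, c7⟩ := card_eq_envA_pow ht A
    have c8 : Nat.card (envA A) = p ^ Module.finrank (ZMod p) (envA A) := by
      rw [Module.natCard_eq_pow_finrank (K := ZMod p), Nat.card_zmod]
    have c9 : Nat.card W < Nat.card V := by
      obtain ⟨x, hx⟩ := not_forall.1 ((Submodule.eq_top_iff' (p := W)).not.1 fun e => h1 (top_le_iff.1 (e ▸ k0)))
      exact Finite.card_subtype_lt hx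
    have d1 : 1 < Nat.card W := (Finite.one_lt_card_iff_nontrivial).2 (Submodule.nontrivial_iff_ne_bot.2 k1)
    have d2 := Nat.lt_pow_self (n := Module.finrank (ZMod p) (envA A)) (Fact.out : p.Prime).one_lt
    rw [← c8, c6] at d2
    rw [c6] at c5 c7 c8
    have d3 : 0 < Module.finrank (ZMod p) (envA A) := Nat.pos_of_ne_zero fun z => by rw [z] at c8; simp [c8] at d1
    have d4 := Nat.le_of_dvd d3 c4
    have d5 := Nat.le_of_dvd (by omega) c5
    have d6 : Nat.card W ^ 2 ≤ Nat.card V := c7 ▸ Nat.pow_le_pow_right d1.le (by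
      rw [c7] at c9
      exact (Nat.pow_lt_pow_iff_right d1).1 ((pow_one _).trans_lt c9))
    rw [e] at c3 d4
    have d7 := Nat.mul_le_mul d4 d5
    rw [c3, c1, c2] at d7
    obtain ⟨q, hq⟩ : ∃ q, Nat.card W = q + 1 := ⟨_, (Nat.succ_pred_eq_of_pos d1.le).symm⟩
    rw [hq] at d2 d6 d7 d1
    have := Nat.mul_le_mul_right q (Nat.le_of_lt_succ d2)
    simp only [Nat.add_sub_cancel] at d7
    have : (q + 1) ^ 2 = q * q + 2 * q + 1 := by ring
    omega
  exact ⟨lt_of_le_of_ne le ne.symm, fun c => ne (hAmax _ inferInstance c le)⟩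

end Cfsg.Agent.S0685
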