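import Cfsg.Statements.S0686
import Cfsg.Agent.H1.FC7
import Cfsg.Agent.H1.Fact

set_option autoImplicit false
open Cfsg

namespace Cfsg.Agent.S0686

open Subgroup CfsgH1 CfsgFT CfsgH2 in
theorem aux {K : Subgroup (Equiv.Perm (Fin 5))} [Group.IsSolvable K] (hK : alternatingGroup (Fin 5) ≤ N(K)) : K = ⊥ := by
  rcases (normal_subgroupOf hK).eq_bot_or_eq_top with h | h
  · refine eq_bot_iff.2 fun x hx => ?_
    have k : ∀ x : Equiv.Perm (Fin 5), (∀ a, Equiv.Perm.sign a = 1 → a * x * a⁻¹ * x⁻¹ = 1) → x = 1 := by decide +kernel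
    refine k x fun a ha => (disjoint_def.1 (subgroupOf_eq_bot.1 h) (mul_mem
      (CfsgH1.conj_mem_of_mem_normalizer (hK ha) hx) (inv_mem hx)) ?_)
    simp [ha]
  · haveI := Group.isSolvable_of_isSolvable_injective (inclusion_injective (subgroupOf_eq_top.1 h))
    exact absurd (IsSimpleGroup.comm_iff_isSolvable.2 this) (by decide +kernel)

/-- In a linear group over the prime field that is regular on non-zero vectors and has no irreducible cyclic normal subgroup, let `A` be a maximal normal abelian subgroup and `N` a normal subgroup centralising `A` that is minimal among non-abelian normal subgroups centralising `A`. Then `N` is quaternion of order 8 or isomorphic to `SL(2,5)`. -/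
theorem result {p : ℕ} [Fact p.Prime] {V : Type*} [AddCommGroup V] [Module (ZMod p) V] [Finite V] (H : Subgroup (V ≃ₗ[ZMod p] V)) (hreg : ∀ v w : V, v ≠ 0 → w ≠ 0 → ∃! h : H, (h : V ≃ₗ[ZMod p] V) v = w) (hI : ∀ A : Subgroup H, A.Normal → IsCyclic A → ∃ W : Submodule (ZMod p) V, W ≠ ⊥ ∧ W ≠ ⊤ ∧ ∀ a ∈ A, ∀ v ∈ W, ((a : H) : V ≃ₗ[ZMod p] V) v ∈ W) (A : Subgroup H) (hAn : A.Normal) (hAc : IsMulCommutative A) (hAmax : ∀ B : Subgroup H, B.Normal → IsMulCommutative B → A ≤ B → B = A) (N : Subgroup H) (hNn : N.Normal) (hNle : N ≤ Subgroup.centralizer (A : Set H)) (hNna : ¬ IsMulCommutative N) (hNmin : ∀ M : Subgroup H, M.Normal → M ≤ N → ¬ IsMulCommutative M → M = N) : Nonempty (N ≃* QuaternionGroup 2) ∨ Nonempty (N ≃* Matrix.SpecialLinearGroup (Fin 2) (ZMod 5)) := by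
  open Subgroup CfsgH1 CfsgFT CfsgH2 in
  obtain ⟨W, w1, -⟩ := hI ⊥ inferInstance inferInstance
  haveI : Nontrivial V := (Submodule.nontrivial_iff _).1 ⟨_, _, w1⟩
  have h := (reg_basic hreg).1
  by_cases hs : Group.IsSolvable N
  swap
  · haveI : Nontrivial N := (nontrivial_iff_ne_bot N).2 (by rintro rfl; exact hNna inferInstance)
    refine .inr ((h.sub N).perfect (map_injective N.subtype_injective ?_))
    rw [map_subtype_commutator, ← MonoidHom.range_eq_map, range_subtype]
    exact hNmin _ inferInstance (commutator_le_left _ _) fun c => hs (isSolvable_of_der_comm (comm_iff.1 c))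
  by_cases hH : Group.IsSolvable H
  · rcases reg_solv hreg with ⟨D, _, _, -, -, l⟩ | ⟨-, -, f, f1, f2, m, f3, f4⟩
    · obtain ⟨W, w1, w2, w3⟩ := hI D ‹_› ‹_›
      exact (w2 (l W w1 w3)).elim
    obtain ⟨P, _, l, -, ⟨d⟩⟩ := h.q8 f1 f2 f3 f4 N fun l => hNna (comm_iff.2 (l.trans (f2.trans (center_le_centralizer _))))
    exact .inl ⟨hNmin P ‹_› l (fun c => not_comm_Q8 ⟨⟨fun a b => d.symm.injective (by simp [mul_comm'])⟩⟩) ▸ d⟩
  obtain ⟨L, φ, _, ⟨e⟩, k1, k2⟩ := h.nonsolv hH
  have l := (reg_irr hreg (reg_nonsolv hreg hH).1 (N := L) fun c => not_solv_S5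
    (Group.isSolvable_of_comm fun a b => e.symm.injective (by simp [mul_comm']))).2
  haveI := Group.isSolvable_of_surjective (φ.subgroupMap_surjective N)
  have := (Subgroup.map_eq_bot_iff _).1 (aux (K := N.map φ) (k2.ge.trans
    ((map_mono (le_top.trans (normalizer_eq_top N).ge)).trans (le_normalizer_map φ))))
  rw [k1] at this
  exact (hNna (comm_iff.2 (this.trans (l.trans (centralizer_le this))))).elim

end Cfsg.Agent.S0686
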