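import Cfsg.Statements.S0688
import Cfsg.Agent.H1.FC7

set_option autoImplicit false
open Cfsg

namespace Cfsg.Agent.S0688

/-- Degrees of the soluble exceptional sharply doubly transitive groups: if a solvable linear group over the prime field is regular on the non-zero vectors of `V` and has no irreducible cyclic normal subgroup, then `V` has 25, 49, 121 or 529 elements. -/
theorem result {p : ℕ} [Fact p.Prime] {V : Type*} [AddCommGroup V] [Module (ZMod p) V] [Finite V] (H : Subgroup (V ≃ₗ[ZMod p] V)) (hreg : ∀ v w : V, v ≠ 0 → w ≠ 0 → ∃! h : H, (h : V ≃ₗ[ZMod p] V) v = w) (hI : ∀ A : Subgroup H, A.Normal → IsCyclic A → ∃ W : Submodule (ZMod p) V, W ≠ ⊥ ∧ W ≠ ⊤ ∧ ∀ a ∈ A, ∀ v ∈ W, ((a : H) : V ≃ₗ[ZMod p] V) v ∈ W) (hsolv : Group.IsSolvable H) : Nat.card V = 25 ∨ Nat.card V = 49 ∨ Nat.card V = 121 ∨ Nat.card V = 529 := by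
  open Subgroup CfsgH1 CfsgFT CfsgH2 in
  obtain ⟨W, w1, -⟩ := hI ⊥ inferInstance inferInstance
  haveI : Nontrivial V := (Submodule.nontrivial_iff _).1 ⟨_, _, w1⟩
  rcases reg_solv hreg with ⟨D, _, _, -, -, l⟩ | ⟨e, e', -⟩
  · obtain ⟨W, w1, w2, w3⟩ := hI D ‹_› ‹_›
    exact (w2 (l W w1 w3)).elim
  · rcases e' with rfl | rfl | rfl | rfl <;> simp [e]

end Cfsg.Agent.S0688
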