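import Cfsg.Statements.S0689
import Cfsg.Agent.H1.FC7

set_option autoImplicit false
open Cfsg

namespace Cfsg.Agent.S0689

/-- The insoluble sharply doubly transitive groups: a non-solvable linear group over the prime field that is regular on the non-zero vectors of `V` occurs only for `|V| = 11², 29², 59²`, and is `SL(2,5) × C_m` with `m = 1, 7, 29` respectively. -/
theorem result {p : ℕ} [Fact p.Prime] {V : Type*} [AddCommGroup V] [Module (ZMod p) V] [Finite V] (H : Subgroup (V ≃ₗ[ZMod p] V)) (hreg : ∀ v w : V, v ≠ 0 → w ≠ 0 → ∃! h : H, (h : V ≃ₗ[ZMod p] V) v = w) (hsolv : ¬ Group.IsSolvable H) : (Nat.card V = 121 ∧ Nonempty (H ≃* Matrix.SpecialLinearGroup (Fin 2) (ZMod 5))) ∨ (Nat.card V = 841 ∧ Nonempty (H ≃* Matrix.SpecialLinearGroup (Fin 2) (ZMod 5) × Multiplicative (ZMod 7))) ∨ (Nat.card V = 3481 ∧ Nonempty (H ≃* Matrix.SpecialLinearGroup (Fin 2) (ZMod 5) × Multiplicative (ZMod 29))) := by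
  open Subgroup CfsgH1 CfsgFT CfsgH2 in
  haveI : Nontrivial V := not_subsingleton_iff_nontrivial.1 fun _ => hsolv (Group.isSolvable_of_comm fun a b =>
    Subtype.ext (LinearEquiv.ext fun _ => Subsingleton.elim _ _))
  obtain ⟨c, L, M, _, ⟨e⟩, h1, h2, h3, _, h4⟩ := reg_nonsolv hreg hsolv
  obtain ⟨t⟩ := sup_equiv_prod' (le_centralizer_iff.1 (h1.trans (center_le_centralizer _))) h2
  rw [h3] at t
  rcases h4 with ⟨h4, rfl⟩ | ⟨h4, rfl⟩ | ⟨h4, rfl⟩
  · rw [card_eq_one.1 h4, sup_bot_eq] at h3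
    exact .inl ⟨c, ⟨topEquiv.symm.trans (h3 ▸ e)⟩⟩
  · exact .inr (.inl ⟨c, ⟨(topEquiv.symm.trans t).trans (e.prodCongr (mulEquivOfCyclicCardEq (by simp [h4])))⟩⟩)
  · exact .inr (.inr ⟨c, ⟨(topEquiv.symm.trans t).trans (e.prodCongr (mulEquivOfCyclicCardEq (by simp [h4])))⟩⟩)

end Cfsg.Agent.S0689
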