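import Cfsg.Statements.S0691
import Mathlib
import Cfsg.Agent.H8.RegCert

set_option autoImplicit false
open Cfsg

namespace Cfsg.Agent.S0691

def tB : ℕ := 0x31010800000000000000000000000000000000000000000000000000000000000000000000000000000000000000000031010800000000000000000000000000000000000000000000000000000000000000000000000000000000000000000031010800000000000000000000000000000000000000000000000000000000000000000000000000000000000000000031010800000000000000000000000000000000000000000000000000000000000000000000000000000000000000000010c2100
def tD : ℕ := 0x20820840000000000000000000000000000000000000000000000000000000000000000000000000000000000000000010410420000000000000000000000000000000000000000000000000000000000000000000000000000000000000000041041030000000000000000000000000000000000000000000000000000000000000000000000000000000000000000030c30c1000000000000000000000000000000000000000000000000000000000000000000000000000000000000000000000000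
def tR : ℕ := 0x40821020000000000000000000000000000000000000000000000000000000000000000000000000000000000000000010c30c10000000000000000000000000000000000000000000000000000000000000000000000000000000000000000021040c30000000000000000000000000000000000000000000000000000000000000000000000000000000000000000030c30800000000000000000000000000000000000000000000000000000000000000000000000000000000000000000010820c0
theorem cert : CfsgH8.rcChk 5 tB tD tR [(2, 0, 0, 3), (0, 4, 1, 0), (1, 2, 1, 3)] = true := by decide +kernel
theorem cert1 : CfsgH8.rcTb tB 1 0 = 0 ∧ CfsgH8.rcTb tD 1 0 = 1 := by decide +kernel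

/-- An exceptional sharply doubly transitive group of degree 5^2: the listed matrices generate a subgroup of GL(2,5) of order 24 acting regularly on the non-zero vectors. -/
theorem result (A : Matrix.GeneralLinearGroup (Fin 2) (ZMod 5)) (B : Matrix.GeneralLinearGroup (Fin 2) (ZMod 5)) (C : Matrix.GeneralLinearGroup (Fin 2) (ZMod 5)) (hA : (A : Matrix (Fin 2) (Fin 2) (ZMod 5)) = !![2, 0; 0, -2]) (hB : (B : Matrix (Fin 2) (Fin 2) (ZMod 5)) = !![0, -1; 1, 0]) (hC : (C : Matrix (Fin 2) (Fin 2) (ZMod 5)) = !![1, 2; 1, -2]) : Nat.card (Subgroup.closure ({A, B, C} : Set (Matrix.GeneralLinearGroup (Fin 2) (ZMod 5)))) = 24 ∧ ∀ v w : Fin 2 → ZMod 5, v ≠ 0 → w ≠ 0 → ∃! h : Subgroup.closure ({A, B, C} : Set (Matrix.GeneralLinearGroup (Fin 2) (ZMod 5))), Matrix.mulVec ((h : Matrix.GeneralLinearGroup (Fin 2) (ZMod 5)) : Matrix (Fin 2) (Fin 2) (ZMod 5)) v = w := by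
  haveI : Fact (Nat.Prime 5) := ⟨by norm_num⟩
  refine CfsgH8.reg_of_chk _ tB tD tR _ ?_ ?_ cert1 cert
  · simp only [Set.mem_insert_iff, Set.mem_singleton_iff, forall_eq_or_imp, forall_eq, hA, hB, hC]
    decide +kernel
  · simp only [Set.mem_insert_iff, Set.mem_singleton_iff, List.mem_cons, List.not_mem_nil, or_false,
      forall_eq_or_imp, forall_eq, exists_eq_or_imp, exists_eq_left, hA, hB, hC]
    decide +kernel

end Cfsg.Agent.S0691
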