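import Cfsg.Statements.S0694
import Mathlib

set_option autoImplicit false
open Cfsg

namespace Cfsg.Agent.S0694

/-- The Dickson pair condition: for a prime power `q` and `n > 1`, (every prime factor of `n` divides `q - 1`, and `4 ∣ n → 4 ∣ q - 1`) holds exactly when `q ^ n ≡ 1` modulo `n * (q - 1)` but `q ^ i` is not, for `0 < i < n`. -/
theorem result (q n : ℕ) (hq : IsPrimePow q) (hn : 1 < n) : ((∀ r : ℕ, r.Prime → r ∣ n → r ∣ q - 1) ∧ (4 ∣ n → 4 ∣ q - 1)) ↔ (q ^ n ≡ 1 [MOD n * (q - 1)] ∧ ∀ i : ℕ, 0 < i → i < n → ¬ q ^ i ≡ 1 [MOD n * (q - 1)]) := by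
  have h2 : 2 ≤ q := hq.two_le
  have key : ∀ m i : ℕ, q ^ i ≡ 1 [MOD m * (q - 1)] ↔ m * (q - 1) ∣ q ^ i - 1 := fun m i =>
    ⟨fun h => (Nat.modEq_iff_dvd' (Nat.one_le_pow _ _ (by omega))).1 h.symm,
      fun h => ((Nat.modEq_iff_dvd' (Nat.one_le_pow _ _ (by omega))).2 h).symm⟩
  constructor
  · rintro ⟨h1, h3⟩
    suffices ∀ i, 0 < i → (n * (q - 1) ∣ q ^ i - 1 ↔ n ∣ i) from
      ⟨(key _ _).2 ((this n (by omega)).2 dvd_rfl), fun i h4 h5 h =>
        absurd (Nat.le_of_dvd h4 ((this i h4).1 ((key _ _).1 h))) h5.not_ge⟩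
    intro i hi
    obtain ⟨s, hs⟩ : q - 1 ∣ q ^ i - 1 := by simpa using Nat.sub_dvd_pow_sub_pow q 1 i
    have hq1 : q ^ i - 1 ≠ 0 := Nat.sub_ne_zero_of_lt (Nat.one_lt_pow hi.ne' h2)
    have hs0 : s ≠ 0 := by rintro rfl; simp [hs] at hq1
    rw [hs, mul_comm, Nat.mul_dvd_mul_iff_left (by omega), ← Nat.factorization_prime_le_iff_dvd
      (by omega) hs0, ← Nat.factorization_prime_le_iff_dvd (by omega) hi.ne']
    refine forall₂_congr fun r hr => ?_
    haveI := Fact.mk hr
    by_cases hrn : r ∣ n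
    swap
    · simp [Nat.factorization_eq_zero_of_not_dvd hrn]
    have h4 : ¬ r ∣ q := fun h => hr.one_lt.ne' (Nat.dvd_one.1 (by
      have := Nat.dvd_sub h (h1 r hr hrn)
      rwa [Nat.sub_sub_self (by omega)] at this))
    have h5 := padicValNat.mul (p := r) (show q - 1 ≠ 0 by omega) hs0
    rw [← hs] at h5
    simp only [Nat.factorization_def _ hr]
    by_cases hr2 : r = 2
    · subst hr2
      rcases Nat.even_or_odd i with he | he
      · have h6 := padicValNat.pow_two_sub_pow (x := q) (y := 1) h2 (h1 2 hr hrn) h4 hi.ne' he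
        rw [one_pow] at h6
        have h7 : 1 ≤ padicValNat 2 (q + 1) := one_le_padicValNat_of_dvd (by omega) (by omega)
        have h8 : 1 ≤ padicValNat 2 i := one_le_padicValNat_of_dvd (by omega) (even_iff_two_dvd.1 he)
        by_cases h9 : 4 ∣ n
        · have : ¬ 2 ≤ padicValNat 2 (q + 1) := fun h => by
            have := (padicValNat_dvd_iff_le (p := 2) (a := q + 1) (by omega)).2 h
            have := h3 h9
            omega
          omega
        · have : ¬ 2 ≤ padicValNat 2 n := fun h => h9 ((padicValNat_dvd_iff_le (p := 2) (by omega)).2 h)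
          omega
      · have h6 : 1 ≤ padicValNat 2 n := one_le_padicValNat_of_dvd (by omega) hrn
        have h7 : padicValNat 2 i = 0 := padicValNat.eq_zero_of_not_dvd he.not_two_dvd_nat
        have h8 : padicValNat 2 s = 0 := padicValNat.eq_zero_of_not_dvd fun h => by
          have h9 := Nat.geomSum_eq h2 i
          rw [hs, Nat.mul_div_cancel_left _ (by omega)] at h9
          have h10 : s % 2 = i % 2 := by
            rw [← h9, Finset.sum_nat_mod, Finset.sum_congr rfl fun k _ =>
              Nat.odd_iff.1 ((Nat.odd_iff.2 (by omega : q % 2 = 1)).pow (n := k))]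
            simp
          obtain ⟨k, hk⟩ := he
          omega
        omega
    · have h6 := padicValNat.pow_sub_pow (p := r) (hr.odd_of_ne_two hr2) (x := q) (y := 1) h2
        (h1 r hr hrn) h4 hi.ne'
      rw [one_pow] at h6
      omega
  · rintro ⟨h1, h3⟩
    let s : ℕ → ℕ := fun i => ∑ k ∈ Finset.range i, q ^ k
    have hs : ∀ i, s i * (q - 1) = q ^ i - 1 := fun i => by
      simp only [s]
      rw [Nat.geomSum_eq h2, Nat.div_mul_cancel (by simpa using Nat.sub_dvd_pow_sub_pow q 1 i)]
    have hd : ∀ i, q ^ i ≡ 1 [MOD n * (q - 1)] ↔ (s i : ZMod n) = 0 := fun i => by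
      rw [key, ← hs, Nat.mul_dvd_mul_iff_right (by omega), ZMod.natCast_eq_zero_iff]
    have hadd : ∀ i j, s (i + j) = s i + q ^ i * s j := fun i j => by
      simp [s, Finset.sum_range_add, Finset.mul_sum, pow_add]
    haveI : NeZero n := ⟨by omega⟩
    have hu : IsUnit (q : ZMod n) := IsUnit.of_pow_eq_one (n := n) (by
      have := (ZMod.natCast_eq_natCast_iff _ _ _).2 (h1.of_mul_right _)
      simpa using this) (by omega)
    have hinj : Function.Injective fun i : Fin n => (s i : ZMod n) := by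
      have : ∀ i j : Fin n, i < j → (s i : ZMod n) ≠ s j := fun i j hij h => by
        obtain ⟨k, hk⟩ := Nat.exists_eq_add_of_lt (show (i : ℕ) < j from hij)
        rw [hk, add_assoc, hadd] at h
        simp only [Nat.cast_add, Nat.cast_mul, Nat.cast_pow, left_eq_add, (hu.pow _).mul_right_eq_zero]
          at h
        exact h3 (k + 1) (by omega) (by omega) ((hd _).2 h)
      intro i j h
      rcases lt_trichotomy i j with h4 | h4 | h4
      exacts [absurd h (this _ _ h4), h4, absurd h.symm (this _ _ h4)]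
    have hall : ∀ m, m ∣ n → ∀ x : ZMod m, ∃ i, (s i : ZMod m) = x := fun m hm x => by
      obtain ⟨y, rfl⟩ := ZMod.castHom_surjective hm x
      obtain ⟨i, rfl⟩ := ((Nat.bijective_iff_injective_and_card _).2 ⟨hinj, by simp⟩).2 y
      exact ⟨i, by simp⟩
    have hsucc : ∀ i, s (i + 1) = q * s i + 1 := fun i => by
      rw [add_comm i, hadd]; simp [s, add_comm]
    have hA : ∀ r : ℕ, r.Prime → r ∣ n → r ∣ q - 1 := fun r hr hrn => by
      haveI := Fact.mk hr
      by_contra h
      rw [← ZMod.natCast_eq_zero_iff] at h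
      obtain ⟨i, hi⟩ := hall r hrn (-((q - 1 : ℕ) : ZMod r)⁻¹)
      have h4 := congrArg (Nat.cast : ℕ → ZMod r) (hs i)
      rw [Nat.cast_mul, hi, neg_mul, inv_mul_cancel₀ h, Nat.cast_sub (Nat.one_le_pow _ _ (by omega))] at h4
      have h5 : (q : ZMod r) ^ i = 0 := by push_cast at h4; linear_combination -h4
      exact (hu.map (ZMod.castHom hrn (ZMod r))).ne_zero (by simpa using pow_eq_zero_iff'.1 h5 |>.1)
    refine ⟨hA, fun h4 => ?_⟩
    have h5 := hA 2 Nat.prime_two (dvd_trans (by norm_num) h4)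
    by_contra h6
    obtain ⟨i, hi⟩ := hall 4 h4 2
    have h7 : (q : ZMod 4) = 3 := (ZMod.natCast_eq_natCast_iff' q 3 4).2 (by omega)
    have : ∀ i, (s i : ZMod 4) = 0 ∨ (s i : ZMod 4) = 1 := fun i => by
      induction i with
      | zero => simp [s]
      | succ i ih => rw [hsucc]; push_cast; rw [h7]; rcases ih with h | h <;> rw [h] <;> decide
    rcases this i with h | h <;> rw [hi] at h <;> exact absurd h (by decide)

end Cfsg.Agent.S0694
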