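import Cfsg.Statements.S0699
import Mathlib
import Cfsg.Agent.H8.Perm2
import Cfsg.Agent.S0698

set_option autoImplicit false
open Cfsg

namespace Cfsg.Agent.S0699
open scoped Pointwise

/-- Wagner's Theorem: a non-trivial normal subgroup of a triply transitive permutation group of odd degree at least 5 is triply transitive. -/
theorem result {α : Type*} [Fintype α] [DecidableEq α] (G : Subgroup (Equiv.Perm α)) (hodd : Odd (Fintype.card α)) (h5 : 5 ≤ Fintype.card α) (hG : MulAction.IsMultiplyPretransitive G α 3) (N : Subgroup G) [N.Normal] (hN : N ≠ ⊥) : MulAction.IsMultiplyPretransitive N α 3 := by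
  classical
  have h2 : MulAction.IsMultiplyPretransitive N α 2 := by
    refine (Cfsg.Agent.S0698.result G (by omega) (by omega) hG N hN).resolve_right ?_
    rintro ⟨-, -, h⟩
    haveI := CfsgH8.trans_of_normal' (MulAction.isPreprimitive_of_is_two_pretransitive
      (MulAction.isMultiplyPretransitive_of_le (G := G) (α := α) (n := 3) (by omega)
        (by rw [Nat.card_eq_fintype_card]; omega))) N hN
    have hP : IsPGroup 2 N := fun g => ⟨1, Subtype.ext (by simpa using h g g.2)⟩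
    obtain ⟨x, -, hx⟩ := CfsgH8.exists_fixed_of_not_dvd Nat.prime_two hP (Set.univ : Set α)
      (by simp) (by simpa [← even_iff_two_dvd] using hodd)
    haveI : Nontrivial α := Fintype.one_lt_card_iff_nontrivial.1 (by omega)
    obtain ⟨y, hy⟩ := exists_ne x
    obtain ⟨g, hg⟩ := MulAction.exists_smul_eq N x y
    exact hy (hg.symm.trans (hx g g.2))
  haveI : Nontrivial α := Fintype.one_lt_card_iff_nontrivial.1 (by omega)
  obtain ⟨a, b, hab⟩ := exists_pair_ne α
  have hs : ({a, b} : Finset α).card = 2 := Finset.card_pair hab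
  have hodd' : ¬ 2 ∣ Nat.card (SubMulAction.ofFixingSubgroup G (({a, b} : Finset α) : Set α)) := by
    have := CfsgH8.card_offFixing (G := G) ({a, b} : Finset α)
    obtain ⟨m, hm⟩ := hodd
    omega
  obtain ⟨t, c, h1, h3, hca, hcb, h4⟩ : ∃ (t : N) (c : α), t • a = b ∧ t • b = a ∧ c ≠ a ∧ c ≠ b ∧
      t • c = c := by
    obtain ⟨t, h1, h3⟩ := CfsgH8.mt_two h2 hab hab.symm
    obtain ⟨j, hP, h1, h3⟩ := CfsgH8.exists_two_swap h1 h3
    obtain ⟨c, hc, h⟩ := CfsgH8.exists_fixed_of_not_dvd Nat.prime_two hP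
      (({a, b} : Finset α) : Set α)ᶜ (by
        have : Subgroup.zpowers (t ^ j) ≤ MulAction.stabilizer N (({a, b} : Finset α) : Set α)ᶜ := by
          rw [Subgroup.zpowers_le, MulAction.mem_stabilizer_iff, Set.smul_set_compl]
          simp [Set.smul_set_insert, h1, h3, Set.pair_comm]
        intro g hg x hx
        rw [← this hg]
        exact Set.smul_mem_smul_set hx) hodd'
    simp only [Finset.coe_insert, Finset.coe_singleton, Set.mem_compl_iff, Set.mem_insert_iff,
      Set.mem_singleton_iff, not_or] at hc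
    exact ⟨t ^ j, c, h1, h3, hc.1, hc.2, h _ (Subgroup.mem_zpowers _)⟩
  have hgen : CfsgH8.Gen N α 2 := CfsgH8.gen_of_swap fun s hs x hx y hy hxy => by
    obtain ⟨z, hz⟩ : ∃ z, (s.erase x).erase y = {z} := Finset.card_eq_one.1 (by
      rw [Finset.card_erase_of_mem (by simp [hy, hxy.symm]), Finset.card_erase_of_mem hx, hs])
    have hz' : ∀ w, w ≠ y ∧ w ≠ x ∧ w ∈ s ↔ w = z := fun w => by
      simpa using Finset.ext_iff.1 hz w
    obtain ⟨h5, h6, -⟩ := (hz' z).2 rfl
    obtain ⟨g, rfl, rfl, rfl⟩ := CfsgH8.mt_three hG hab hca.symm hcb.symm hxy h6.symm h5.symm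
    refine ⟨⟨g * t * g⁻¹, Subgroup.Normal.conj_mem inferInstance _ t.2 g⟩, fun w hw => ?_⟩
    change (g * t * g⁻¹) • w = _
    rw [Equiv.swap_apply_def, mul_smul, mul_smul]
    split_ifs with h7 h8
    · rw [h7, inv_smul_smul]; exact congrArg _ h1
    · rw [h8, inv_smul_smul]; exact congrArg _ h3
    · rw [(hz' w).1 ⟨h8, h7, hw⟩, inv_smul_smul]; exact congrArg _ h4
  refine CfsgH8.mt_succ' h2 {a, b} hs fun x hx y hy => ?_
  by_contra hc
  obtain ⟨i, hi⟩ := hgen.exists_dvd (by omega) Nat.prime_two le_rfl {a, b} hs ![x, y]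
    (fun i => by fin_cases i; exacts [hx, hy]) (fun i j hij => by
      fin_cases i <;> fin_cases j
      · exact absurd rfl hij
      · rintro ⟨g, hg⟩
        exact hc ⟨g, fun z hz => g.2 ⟨z, hz⟩, hg⟩
      · rintro ⟨g, hg⟩
        exact hc ⟨(g⁻¹ : fixingSubgroup N _), fun z hz => (g⁻¹).2 ⟨z, hz⟩, inv_smul_eq_iff.2 hg.symm⟩
      · exact absurd rfl hij)
  have hz : ![x, y] i ∉ (({a, b} : Finset α) : Set α) := by fin_cases i; exacts [hx, hy]
  generalize ![x, y] i = z at hi hz
  let G' := fixingSubgroup G (({a, b} : Finset α) : Set α)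
  let X' := SubMulAction.ofFixingSubgroup G (({a, b} : Finset α) : Set α)
  haveI : MulAction.IsPretransitive G' X' := ⟨fun u v => by
    obtain ⟨g, h1, h2⟩ := CfsgH8.trOff_of_mt hG {a, b} hs u u.2 v v.2
    exact ⟨⟨g, fun w => h1 w w.2⟩, Subtype.ext h2⟩⟩
  have := (MulAction.IsBlock.orbit_of_normal (N := N.subgroupOf G') (⟨z, hz⟩ : X')).ncard_dvd_card
    ⟨_, MulAction.mem_orbit_self _⟩
  refine hodd' (hi.trans (dvd_trans (dvd_of_eq ?_) this))
  rw [← Set.ncard_image_of_injective _ Subtype.val_injective, Nat.card_coe_set_eq]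
  congr 1
  ext w
  constructor
  · rintro ⟨g, rfl⟩
    exact ⟨_, ⟨⟨⟨g.1, g.2⟩, g.1.2⟩, rfl⟩, rfl⟩
  · rintro ⟨_, ⟨g, rfl⟩, rfl⟩
    exact ⟨⟨⟨g.1, g.2⟩, g.1.2⟩, rfl⟩

end Cfsg.Agent.S0699
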