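import Cfsg.Statements.S0700
import Mathlib
import Cfsg.Agent.H8.Perm2

set_option autoImplicit false
open Cfsg

namespace Cfsg.Agent.S0700

open MulAction Subgroup in
theorem prim_of {G α : Type*} [Group G] [Finite G] [Fintype α] [MulAction G α] [FaithfulSMul G α]
    (hG : IsMultiplyPretransitive G α 2) (N : Subgroup G) [hn : N.Normal] [IsPretransitive N α]
    (hmin : ∀ M : Subgroup G, M.Normal → M ≤ N → M = ⊥ ∨ M = N) {a₀ : α} (ha : stabilizer N a₀ ≠ ⊥) :
    IsPreprimitive N α := by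
  classical
  by_contra hc
  let Blk : Finset α → Prop := fun B => ∀ n ∈ N, ∀ x ∈ B, n • x ∈ B → ∀ y ∈ B, n • y ∈ B
  have hex : ∃ B : Finset α, Blk B ∧ 2 ≤ B.card ∧ B ≠ Finset.univ := by
    by_contra h
    push Not at h
    refine hc ⟨fun {B} hB => ?_⟩
    rcases B.subsingleton_or_nontrivial with h1 | h1
    · exact Or.inl h1
    refine Or.inr (Set.toFinset_eq_univ.1 (h B.toFinset (fun n hn x hx hx' y hy => ?_) ?_))
    · rw [Set.mem_toFinset] at hx hx' hy ⊢
      rw [← isBlock_iff_smul_eq_of_mem.1 hB (g := ⟨n, hn⟩) hx hx']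
      exact Set.smul_mem_smul_set hy
    · exact Finset.one_lt_card_iff_nontrivial.2 (by simpa [Finset.Nontrivial] using h1)
  obtain ⟨B₀, hB₀⟩ := hex
  obtain ⟨B, ⟨hB, h2, hB1⟩, hm⟩ := Set.exists_min_image {B : Finset α | Blk B ∧ 2 ≤ B.card ∧
    B ≠ Finset.univ} Finset.card (Set.toFinite _) ⟨B₀, hB₀⟩
  let Ln : Finset α → Prop := fun L => Blk L ∧ L.card = B.card
  have hlt : B.card < Fintype.card α := (Finset.card_lt_iff_ne_univ B).2 hB1
  have huniq : ∀ L L', Ln L → Ln L' → ∀ x y, x ≠ y → x ∈ L → x ∈ L' → y ∈ L → y ∈ L' → L = L' := by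
    intro L L' hL hL' x y hxy h1 h2 h3 h4
    have := hm (L ∩ L') ⟨fun n hn x hx hx' y hy => by
        rw [Finset.mem_inter] at hx hx' hy ⊢
        exact ⟨hL.1 n hn x hx.1 hx'.1 y hy.1, hL'.1 n hn x hx.2 hx'.2 y hy.2⟩,
      Finset.one_lt_card.2 ⟨x, by simp [h1, h2], y, by simp [h3, h4], hxy⟩, fun h => by
        have := Finset.card_le_card (Finset.inter_subset_left (s₁ := L) (s₂ := L'))
        rw [h, Finset.card_univ, hL.2] at this
        omega⟩
    exact (Finset.eq_of_subset_of_card_le Finset.inter_subset_left (hL.2 ▸ this)).symm.trans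
      (Finset.eq_of_subset_of_card_le Finset.inter_subset_right (hL'.2 ▸ this))
  have hex : ∀ x y, x ≠ y → ∃ L, Ln L ∧ x ∈ L ∧ y ∈ L := by
    intro x y hxy
    obtain ⟨u, hu, v, hv, huv⟩ := Finset.one_lt_card.1 h2
    obtain ⟨g, rfl, rfl⟩ := CfsgH8.mt_two hG huv hxy
    refine ⟨B.image (g • ·), ⟨fun n hn' x hx hx' y hy => ?_,
      Finset.card_image_of_injective _ (MulAction.injective g)⟩, Finset.mem_image_of_mem _ hu,
      Finset.mem_image_of_mem _ hv⟩
    obtain ⟨x', hx1, rfl⟩ := Finset.mem_image.1 hx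
    obtain ⟨y', hy1, rfl⟩ := Finset.mem_image.1 hy
    obtain ⟨z, hz, h⟩ := Finset.mem_image.1 hx'
    refine Finset.mem_image.2 ⟨(g⁻¹ * n * g⁻¹⁻¹) • y', hB _ (hn.conj_mem n hn' _) x' hx1 ?_ y' hy1,
      by simp [mul_smul]⟩
    rw [inv_inv, mul_smul, mul_smul, ← h, inv_smul_smul]
    exact hz
  have hcol : ∀ n ∈ N, ∀ a b c, n • a = a → n • b = b → n • c ≠ c → ∃ L, Ln L ∧ a ∈ L ∧ b ∈ L ∧ c ∈ L := by
    intro n hn a b c ha hb hc
    obtain ⟨L, hL, h1, h2⟩ := hex a c (by rintro rfl; exact hc ha)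
    obtain ⟨L', hL', h3, h4⟩ := hex b c (by rintro rfl; exact hc hb)
    obtain rfl := huniq L L' hL hL' _ _ hc (hL.1 n hn a h1 (by rwa [ha]) c h2)
      (hL'.1 n hn b h3 (by rwa [hb]) c h4) h2 h4
    exact ⟨L, hL, h1, h3, h2⟩
  haveI : Nontrivial α := Fintype.one_lt_card_iff_nontrivial.1 (by omega)
  obtain ⟨K, hK, hKt⟩ := CfsgH8.exists_frob_kernel (G := N) (X := α) fun g a b hab h1 h2 => by
    by_contra hg
    obtain ⟨c, hc⟩ := CfsgH8.exists_moved (α := α) hg
    obtain ⟨L, hL, h3, h4, h5⟩ := hcol g g.2 a b c h1 h2 hc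
    obtain ⟨d, hd⟩ : ∃ d, d ∉ L := by
      by_contra h
      push Not at h
      have := Finset.card_le_card (show Finset.univ ⊆ L from fun x _ => h x)
      rw [Finset.card_univ, hL.2] at this
      omega
    have h6 : (g : G) • d = d := by
      by_contra h
      obtain ⟨L', hL', h7, h8, h9⟩ := hcol g g.2 a b d h1 h2 h
      exact hd (huniq L L' hL hL' a b hab h3 h7 h4 h8 ▸ h9)
    obtain ⟨L', hL', h7, h8, h9⟩ := hcol g g.2 a d c h1 h6 hc
    exact hd (huniq L L' hL hL' a c (by rintro rfl; exact hc h1) h3 h7 h5 h9 ▸ h8)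
  rcases hmin (K.map N.subtype) ⟨by
      rintro _ ⟨n, hn', rfl⟩ g
      refine ⟨⟨g * n * g⁻¹, hn.conj_mem _ n.2 g⟩, (hK _).2 ?_, rfl⟩
      refine ((hK _).1 hn').imp (fun h => Subtype.ext (by simp [h])) fun h a ha => h (g⁻¹ • a) ?_
      change (g * n * g⁻¹ : G) • a = a at ha
      rw [mul_smul, mul_smul, smul_eq_iff_eq_inv_smul] at ha
      exact ha⟩ (map_subtype_le K) with h | h
  · obtain ⟨a, b, hab⟩ := exists_pair_ne α
    obtain ⟨k, hk⟩ := hKt.exists_smul_eq a b
    have : ((k : N) : G) = 1 := (mem_bot.1 (h ▸ mem_map_of_mem N.subtype k.2))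
    exact hab (by rw [← hk]; change a = ((k : N) : G) • a; rw [this, one_smul])
  · obtain ⟨⟨g, hg⟩, h1⟩ := ne_bot_iff_exists_ne_one.1 ha
    obtain ⟨k, hk, h2⟩ : (g : G) ∈ K.map N.subtype := h.symm ▸ g.2
    obtain rfl : k = g := Subtype.ext h2
    exact ((hK _).1 hk).elim (fun h => h1 (Subtype.ext h)) fun h => h a₀ hg

/-- Burnside's Theorem on doubly transitive groups: a minimal normal subgroup of a finite doubly transitive permutation group is elementary abelian and regular, or simple and primitive. -/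
theorem result {α : Type*} [Fintype α] [DecidableEq α] (G : Subgroup (Equiv.Perm α)) (hG : MulAction.IsMultiplyPretransitive G α 2) (N : Subgroup G) [N.Normal] (hN : N ≠ ⊥) (hmin : ∀ M : Subgroup G, M.Normal → M ≤ N → M = ⊥ ∨ M = N) : (IsMulCommutative N ∧ (∃ p : ℕ, p.Prime ∧ ∀ n ∈ N, n ^ p = 1) ∧ ∀ a : α, MulAction.stabilizer N a = ⊥) ∨ (IsSimpleGroup N ∧ MulAction.IsPreprimitive N α) := by
  classical
  have hprim := MulAction.isPreprimitive_of_is_two_pretransitive hG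
  haveI := CfsgH8.trans_of_normal' hprim N hN
  obtain ⟨⟨n, hn⟩, h1⟩ := Subgroup.ne_bot_iff_exists_ne_one.1 hN
  obtain ⟨a, ha⟩ := CfsgH8.exists_moved (α := α) (g := n) fun h => h1 (Subtype.ext h)
  haveI : Nontrivial α := ⟨_, _, ha⟩
  by_cases hr : MulAction.stabilizer N a = ⊥
  · have hreg := CfsgH8.stabilizer_eq_bot_of_eq_bot hr
    obtain ⟨p, j, hp, -, -, h3, h4⟩ := CfsgH8.ea_of_regular_normal hG N hreg
    exact Or.inl ⟨⟨⟨fun a b => Subtype.ext (h3 a a.2 b b.2)⟩⟩, ⟨p, hp, h4⟩, hreg⟩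
  have hp := prim_of hG N hmin hr
  refine Or.inr ⟨?_, hp⟩
  haveI : Nontrivial N := (Subgroup.nontrivial_iff_ne_bot N).2 hN
  refine ⟨fun M₀ hM₀ => ?_⟩
  by_contra hc
  push Not at hc
  obtain ⟨M, ⟨hM, hM1⟩, hm⟩ := Set.exists_min_image {M : Subgroup N | M.Normal ∧ M ≠ ⊥}
    (fun M => Nat.card M) (Set.toFinite _) ⟨M₀, hM₀, hc.1⟩
  let c : G → Subgroup N := fun g => M.map (MulAut.conjNormal g : MulAut N)
  have hcn : ∀ g, (c g).Normal := fun g => hM.map _ (MulEquiv.surjective _)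
  have hcc : ∀ g, Nat.card (c g) = Nat.card M := fun g =>
    Subgroup.card_map_of_injective (MulEquiv.injective _)
  have hc1 : ∀ g, c g ≠ ⊥ := fun g h => hM1 (Subgroup.eq_bot_of_card_eq _ (by rw [← hcc g, h]; simp))
  have hmul : ∀ g u, (c u).map (MulAut.conjNormal g : MulAut N) = c (g * u) := fun g u => by
    simp only [c, Subgroup.map_map, map_mul]; rfl
  have hcomm : ∀ g, c g ≠ M → ∀ x ∈ M, ∀ y ∈ c g, x * y = y * x := fun g hg x hx y hy => by
    refine (Subgroup.commute_of_normal_of_disjoint M (c g) hM (hcn g) ?_ x y hx hy).eq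
    by_contra h
    have := hm (M ⊓ c g) ⟨haveI := hcn g; inferInstance, fun h' => h (disjoint_iff.2 h')⟩
    exact hg ((Subgroup.eq_of_le_of_card_ge inf_le_right (hcc g ▸ this)).symm.trans
      (Subgroup.eq_of_le_of_card_ge inf_le_left this))
  have htop : ∀ L : Subgroup N, L ≠ ⊥ → (∀ g : G, L.map (MulAut.conjNormal g : MulAut N) ≤ L) → L = ⊤ := by
    intro L hL h
    rcases hmin (L.map N.subtype) ⟨by
      rintro _ ⟨x, hx, rfl⟩ g
      exact ⟨_, h g ⟨x, hx, rfl⟩, rfl⟩⟩ (Subgroup.map_subtype_le L) with h1 | h1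
    · exact absurd ((Subgroup.map_eq_bot_iff_of_injective _ N.subtype_injective).1 h1) hL
    · exact Subgroup.map_injective N.subtype_injective (by rw [h1, ← MonoidHom.range_eq_map]; simp)
  obtain ⟨g, hg⟩ : ∃ g, c g ≠ M := by
    by_contra h
    push Not at h
    have h2 := hm M₀ ⟨hM₀, hc.1⟩
    rw [htop M hM1 fun g => (h g).le] at h2
    exact hc.2 (Subgroup.eq_of_le_of_card_ge le_top h2)
  haveI := hcn g
  haveI := CfsgH8.trans_of_normal' hp M hM1
  haveI := CfsgH8.trans_of_normal' hp (c g) (hc1 g)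
  have hle : ∀ u, c u ≤ M ⊔ c g := fun u => by
    by_cases hu : c u = M
    · exact hu ▸ le_sup_left
    refine le_trans (fun x hx => ?_) le_sup_right
    obtain ⟨y, hy⟩ := MulAction.exists_smul_eq (c g) a (x • a)
    have := CfsgH8.centralizer_semiregular M (c := (y : N)⁻¹ * x) (a := a) (fun m hm => by
      rw [← mul_assoc, hcomm g hg m hm _ (inv_mem y.2), mul_assoc, hcomm u hu m hm x hx, mul_assoc])
      (by rw [mul_smul, ← hy]; exact inv_smul_smul _ _)
    exact inv_mul_eq_one.1 this ▸ y.2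
  have hsup : M ⊔ c g = ⊤ := htop _ (fun h => hM1 (le_bot_iff.1 (h ▸ le_sup_left))) fun u => by
    rw [Subgroup.map_sup, hmul]
    exact sup_le (hle u) (hle _)
  have hcM : Nat.card M = Nat.card α := CfsgH8.card_eq_of_regular (a := a)
    ((Subgroup.eq_bot_iff_forall _).2 fun x hx => Subtype.ext
      (CfsgH8.centralizer_semiregular (c g) (fun m hm => (hcomm g hg _ x.2 m hm).symm) hx))
  have hcN : Nat.card N ∣ Nat.card α * Nat.card α := by
    rw [← (c g).card_mul_index, hcc, hcM, ← Subgroup.relIndex_top_right, ← hsup,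
      Subgroup.relIndex_sup_right]
    exact Nat.mul_dvd_mul_left _ (hcM ▸ Subgroup.relIndex_dvd_card _ _)
  let G' := fixingSubgroup G (({a} : Finset α) : Set α)
  let X' := SubMulAction.ofFixingSubgroup G (({a} : Finset α) : Set α)
  haveI : MulAction.IsPretransitive G' X' := ⟨fun u v => by
    obtain ⟨g, h1, h2⟩ := CfsgH8.trOff_of_mt hG {a} rfl u u.2 v v.2
    exact ⟨⟨g, fun w => h1 w w.2⟩, Subtype.ext h2⟩⟩
  obtain ⟨⟨h, hh⟩, h2⟩ := Subgroup.ne_bot_iff_exists_ne_one.1 hr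
  obtain ⟨b, hb⟩ := CfsgH8.exists_moved (α := α) (g := h) fun h => h2 (Subtype.ext h)
  have hba : b ∉ (({a} : Finset α) : Set α) := by
    simp only [Finset.coe_singleton, Set.mem_singleton_iff]
    rintro rfl; exact hb hh
  have h3 := (MulAction.IsBlock.orbit_of_normal (N := N.subgroupOf G') (⟨b, hba⟩ : X')).ncard_dvd_card
    ⟨_, MulAction.mem_orbit_self _⟩
  have h4 : (MulAction.orbit (N.subgroupOf G') (⟨b, hba⟩ : X')).ncard ∣ Nat.card α * Nat.card α := by
    rw [← MulAction.index_stabilizer]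
    exact (Subgroup.index_dvd_card _).trans
      ((Subgroup.card_comap_dvd_of_injective _ _ G'.subtype_injective).trans hcN)
  have h5 := CfsgH8.card_offFixing (G := G) ({a} : Finset α)
  rw [Finset.card_singleton, ← Nat.card_eq_fintype_card] at h5
  have h6 : (Nat.card X').Coprime (Nat.card α) := by
    rw [← h5]; exact Nat.coprime_self_add_right.2 (Nat.coprime_one_right _)
  have h7 := Nat.dvd_gcd h3 h4
  rw [Nat.Coprime.mul_right h6 h6, Nat.dvd_one, Set.ncard_eq_one] at h7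
  obtain ⟨z, hz⟩ := h7
  have h8 := Set.eq_singleton_iff_unique_mem.1 hz
  exact hb (congrArg Subtype.val ((h8.2 _ ⟨⟨⟨h, fun x => by
    obtain ⟨x, hx⟩ := x
    obtain rfl : x = a := by simpa using hx
    exact hh⟩, h.2⟩, rfl⟩).trans (h8.2 _ (MulAction.mem_orbit_self _)).symm))

end Cfsg.Agent.S0700
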