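import Cfsg.Statements.S0701
import Mathlib
import Cfsg.Agent.H8.Prim1

set_option autoImplicit false
open Cfsg

namespace Cfsg.Agent.S0701

/-- The centraliser in the full symmetric group of a transitive permutation group `G` is semiregular, and it is transitive if and only if `G` is regular. -/
theorem result {α : Type*} (G : Subgroup (Equiv.Perm α)) [MulAction.IsPretransitive G α] : (∀ c ∈ Subgroup.centralizer (G : Set (Equiv.Perm α)), ∀ a : α, c a = a → c = 1) ∧ (MulAction.IsPretransitive (Subgroup.centralizer (G : Set (Equiv.Perm α))) α ↔ ∀ a : α, MulAction.stabilizer G a = ⊥) := by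
  have h1 : ∀ c ∈ Subgroup.centralizer (G : Set (Equiv.Perm α)), ∀ a : α, c a = a → c = 1 := by
    intro c hc a ha
    exact CfsgH8.centralizer_semiregular (G := Equiv.Perm α) G (fun m hm => hc m hm) ha
  refine ⟨h1, ?_, ?_⟩
  · intro ht a
    rw [eq_bot_iff]
    intro g hg
    rw [Subgroup.mem_bot]
    apply Subtype.ext
    exact CfsgH8.centralizer_semiregular (G := Equiv.Perm α)
      (Subgroup.centralizer (G : Set (Equiv.Perm α))) (fun m hm => (hm g g.2).symm) hg
  · intro hreg
    constructor
    intro a b
    have huniq : ∀ (c : α) (g h : G), g • c = h • c → g = h := by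
      intro c g h hgh
      have : h⁻¹ * g ∈ MulAction.stabilizer G c := by
        rw [MulAction.mem_stabilizer_iff, mul_smul, inv_smul_eq_iff]; exact hgh
      rw [hreg, Subgroup.mem_bot, inv_mul_eq_one] at this
      exact this.symm
    let e : ∀ c : α, G ≃ α := fun c => Equiv.ofBijective (fun g => g • c)
      ⟨fun g h => huniq c g h, fun x => MulAction.exists_smul_eq G c x⟩
    refine ⟨⟨(e a).symm.trans (e b), ?_⟩, ?_⟩
    · intro g hg
      ext x
      obtain ⟨y, rfl⟩ := (e a).surjective x
      have h2 : g ((e a) y) = e a (⟨g, hg⟩ * y) := rfl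
      simp only [Equiv.Perm.mul_apply, h2, Equiv.trans_apply, Equiv.symm_apply_apply]
      rfl
    · have h2 : (e a).symm a = 1 := by
        rw [Equiv.symm_apply_eq]; exact (one_smul G a).symm
      change (e b) ((e a).symm a) = b
      rw [h2]
      exact one_smul G b

end Cfsg.Agent.S0701
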