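import Cfsg.Statements.S0702
import Mathlib
import Cfsg.Agent.H8.Perm2

set_option autoImplicit false
open Cfsg

namespace Cfsg.Agent.S0702

/-- For a transitive permutation group `G` on a finite set, the centraliser of `G` in the symmetric group is isomorphic to `N_G(G_ω)/G_ω`, and its orbit of `ω` is the set of fixed points of `G_ω`. -/
theorem result {α : Type*} [Finite α] (G : Subgroup (Equiv.Perm α)) [MulAction.IsPretransitive G α] (a : α) : Nonempty (Subgroup.centralizer (G : Set (Equiv.Perm α)) ≃* Subgroup.normalizer ((MulAction.stabilizer G a : Subgroup G) : Set G) ⧸ (MulAction.stabilizer G a).subgroupOf (Subgroup.normalizer ((MulAction.stabilizer G a : Subgroup G) : Set G))) ∧ MulAction.orbit (Subgroup.centralizer (G : Set (Equiv.Perm α))) a = MulAction.fixedPoints (MulAction.stabilizer G a) α := by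
  have key : ∀ n : Subgroup.normalizer ((MulAction.stabilizer G a : Subgroup G) : Set G), ∀ g u : G,
      g • a = u • a → g • (n : G)⁻¹ • a = u • (n : G)⁻¹ • a := fun n g u h => by
    have h1 : u⁻¹ * g ∈ MulAction.stabilizer G a := by
      rw [MulAction.mem_stabilizer_iff, mul_smul, h, inv_smul_smul]
    have h2 : ((n : G) * (u⁻¹ * g) * (n : G)⁻¹) • a = a := (Subgroup.mem_normalizer_iff.1 n.2 _).1 h1
    rw [mul_smul, mul_smul, mul_smul, smul_eq_iff_eq_inv_smul, inv_smul_eq_iff] at h2
    exact h2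
  choose t ht using fun x => MulAction.exists_smul_eq G a x
  let f : Subgroup.normalizer ((MulAction.stabilizer G a : Subgroup G) : Set G) → α → α :=
    fun n x => t x • (n : G)⁻¹ • a
  have hf : ∀ n (g : G), f n (g • a) = g • (n : G)⁻¹ • a := fun n g => key n _ _ (ht _)
  have hf1 : ∀ x, f 1 x = x := fun x => by simp [f, ht]
  have hfm : ∀ m n x, f (m * n) x = f m (f n x) := fun m n x => by
    obtain ⟨g, rfl⟩ := MulAction.exists_smul_eq G a x
    rw [hf, hf, ← mul_smul g (n : G)⁻¹ a, hf, Subgroup.coe_mul, mul_inv_rev, mul_smul, mul_smul]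
  let φ : Subgroup.normalizer ((MulAction.stabilizer G a : Subgroup G) : Set G) →*
      Subgroup.centralizer (G : Set (Equiv.Perm α)) := MonoidHom.mk'
    (fun n => ⟨⟨f n, f n⁻¹, fun x => by rw [← hfm, inv_mul_cancel, hf1],
      fun x => by rw [← hfm, mul_inv_cancel, hf1]⟩, fun g hg => Equiv.ext fun x => by
        obtain ⟨u, rfl⟩ := MulAction.exists_smul_eq G a x
        change (⟨g, hg⟩ : G) • f n (u • a) = f n ((⟨g, hg⟩ : G) • u • a)
        rw [← mul_smul _ u a, hf, hf, mul_smul]⟩) fun m n => Subtype.ext (Equiv.ext (hfm m n))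
  have hφ : ∀ n, (φ n : Equiv.Perm α) a = (n : G)⁻¹ • a := fun n => by
    have := hf n 1
    rwa [one_smul, one_smul] at this
  have hnorm : ∀ n : G, (∀ g ∈ MulAction.stabilizer G a, g • n⁻¹ • a = n⁻¹ • a) →
      n ∈ Subgroup.normalizer ((MulAction.stabilizer G a : Subgroup G) : Set G) := fun n h => by
    refine Subgroup.mem_normalizer_fintype fun g hg => ?_
    change (n * g * n⁻¹) • a = a
    rw [mul_smul, mul_smul, h g hg, smul_inv_smul]
  have hfix : ∀ c : Subgroup.centralizer (G : Set (Equiv.Perm α)), ∀ g ∈ MulAction.stabilizer G a,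
      g • (c : Equiv.Perm α) a = (c : Equiv.Perm α) a := fun c g hg => by
    have := congrArg (fun σ : Equiv.Perm α => σ a) (c.2 g g.2)
    simp only [Equiv.Perm.mul_apply] at this
    rw [show (g : Equiv.Perm α) a = a from hg] at this
    exact this
  have hs : Function.Surjective φ := fun c => by
    obtain ⟨n, hn⟩ := MulAction.exists_smul_eq G ((c : Equiv.Perm α) a) a
    rw [smul_eq_iff_eq_inv_smul] at hn
    refine ⟨⟨n, hnorm n (hn ▸ hfix c)⟩, Subtype.ext (inv_mul_eq_one.1 ?_)⟩
    refine CfsgH8.centralizer_semiregular G (a := a) (mul_mem (inv_mem (φ _).2) c.2 :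
      _ ∈ Subgroup.centralizer (G : Set (Equiv.Perm α))) ?_
    rw [mul_smul, inv_smul_eq_iff]
    exact hn.trans (hφ ⟨n, _⟩).symm
  refine ⟨⟨((QuotientGroup.quotientKerEquivOfSurjective φ hs).symm.trans
    (QuotientGroup.quotientMulEquivOfEq ?_))⟩, ?_⟩
  · ext n
    rw [MonoidHom.mem_ker, Subgroup.mem_subgroupOf, MulAction.mem_stabilizer_iff]
    constructor
    · intro h
      have := hφ n
      rw [h, eq_inv_smul_iff] at this
      exact this
    · intro h
      refine Subtype.ext (CfsgH8.centralizer_semiregular G (a := a) (φ n).2 ?_)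
      exact (hφ n).trans (inv_smul_eq_iff.2 h.symm)
  · ext x
    constructor
    · rintro ⟨c, rfl⟩ g
      exact hfix c g g.2
    · intro hx
      obtain ⟨n, rfl⟩ := MulAction.exists_smul_eq G a x
      exact ⟨φ ⟨n⁻¹, hnorm _ fun g hg => by rw [inv_inv]; exact hx ⟨g, hg⟩⟩, (hφ _).trans (by simp)⟩

end Cfsg.Agent.S0702
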