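import Cfsg.Statements.S0703
import Mathlib
import Cfsg.Agent.H8.Perm2

set_option autoImplicit false
open Cfsg

namespace Cfsg.Agent.S0703

/-- An abelian transitive minimal normal subgroup `M` of a permutation group on a finite set is self-centralising in the symmetric group, regular, elementary abelian, and is the unique minimal normal subgroup. -/
theorem result {α : Type*} [Finite α] (G : Subgroup (Equiv.Perm α)) (M : Subgroup G) [M.Normal] (hM : M ≠ ⊥) (hmin : ∀ L : Subgroup G, L.Normal → L ≤ M → L = ⊥ ∨ L = M) (hab : IsMulCommutative M) (htrans : MulAction.IsPretransitive M α) : Subgroup.centralizer ((M.map G.subtype : Subgroup (Equiv.Perm α)) : Set (Equiv.Perm α)) = M.map G.subtype ∧ (∀ a : α, MulAction.stabilizer M a = ⊥) ∧ (∃ p : ℕ, p.Prime ∧ ∀ m ∈ M, m ^ p = 1) ∧ ∀ L : Subgroup G, L.Normal → L ≠ ⊥ → (∀ L' : Subgroup G, L'.Normal → L' ≤ L → L' = ⊥ ∨ L' = L) → L = M := by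
  haveI : Finite G := inferInstance
  obtain ⟨⟨n, hn⟩, h1⟩ := Subgroup.ne_bot_iff_exists_ne_one.1 hM
  obtain ⟨a, -⟩ := CfsgH8.exists_moved (α := α) (g := n) fun h => h1 (Subtype.ext h)
  have hc : ∀ x ∈ M, ∀ y ∈ M, x * y = y * x := fun x hx y hy =>
    congrArg Subtype.val (hab.is_comm.comm (⟨x, hx⟩ : M) ⟨y, hy⟩)
  haveI := CfsgH8.trans_map G M
  have hC := CfsgH8.cent_eq_of_trans (M := M.map G.subtype) (N := M.map G.subtype) a (by
    rintro _ ⟨x, hx, rfl⟩ _ ⟨y, hy, rfl⟩
    exact congrArg Subtype.val (hc y hy x hx))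
  refine ⟨hC, fun b => (Subgroup.eq_bot_iff_forall _).2 fun g hg => Subtype.ext
    (CfsgH8.centralizer_semiregular M (fun m hm => hc m hm g g.2) hg), ?_, fun L hL hL1 hLm => ?_⟩
  · haveI : Nontrivial M := (Subgroup.nontrivial_iff_ne_bot M).2 hM
    obtain ⟨p, hp, hd⟩ := Nat.exists_prime_and_dvd (Finite.one_lt_card (α := M)).ne'
    haveI := Fact.mk hp
    obtain ⟨x, hx⟩ := exists_prime_orderOf_dvd_card' p hd
    let L : Subgroup G :=
      { carrier := {g | g ∈ M ∧ g ^ p = 1}
        one_mem' := ⟨M.one_mem, one_pow p⟩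
        mul_mem' := fun {a b} ha hb => ⟨M.mul_mem ha.1 hb.1, by
          rw [(show Commute a b from hc a ha.1 b hb.1).mul_pow, ha.2, hb.2, one_mul]⟩
        inv_mem' := fun {a} ha => ⟨M.inv_mem ha.1, by rw [inv_pow, ha.2, inv_one]⟩ }
    rcases hmin L ⟨fun a ha g => ⟨Subgroup.Normal.conj_mem inferInstance a ha.1 g, by
      rw [conj_pow, ha.2]; simp⟩⟩ (fun a ha => ha.1) with h | h
    · have : (x : G) ∈ L := ⟨x.2, by rw [← hx]; exact_mod_cast pow_orderOf_eq_one x⟩
      rw [h, Subgroup.mem_bot, OneMemClass.coe_eq_one] at this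
      rw [this, orderOf_one] at hx
      exact absurd hx hp.one_lt.ne
    · exact ⟨p, hp, fun m hm => (show m ∈ L from h ▸ hm).2⟩
  · rcases hmin (L ⊓ M) inferInstance inf_le_right with h | h
    · have : L ≤ M := fun x hx => by
        have : (x : Equiv.Perm α) ∈ M.map G.subtype := by
          rw [← hC]
          rintro _ ⟨y, hy, rfl⟩
          exact congrArg Subtype.val (Subgroup.commute_of_normal_of_disjoint L M hL inferInstance
            (disjoint_iff.2 h) x y hx hy).symm.eq
        obtain ⟨y, hy, h⟩ := this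
        exact (Subtype.ext h : y = x) ▸ hy
      exact (hmin L hL this).resolve_left hL1
    · exact ((hLm M inferInstance (inf_eq_right.1 h)).resolve_left hM).symm

end Cfsg.Agent.S0703
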