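import Cfsg.Statements.S0704
import Mathlib
import Cfsg.Agent.H8.Perm2

set_option autoImplicit false
open Cfsg

namespace Cfsg.Agent.S0704

/-- Two distinct transitive minimal normal subgroups `M`, `N` of a permutation group are regular, non-abelian, isomorphic, each other's centraliser in the symmetric group, and the only minimal normal subgroups. -/
theorem result {α : Type*} (G : Subgroup (Equiv.Perm α)) (M N : Subgroup G) [M.Normal] [N.Normal] (hM : M ≠ ⊥) (hN : N ≠ ⊥) (hMmin : ∀ L : Subgroup G, L.Normal → L ≤ M → L = ⊥ ∨ L = M) (hNmin : ∀ L : Subgroup G, L.Normal → L ≤ N → L = ⊥ ∨ L = N) (hMN : M ≠ N) (hMt : MulAction.IsPretransitive M α) (hNt : MulAction.IsPretransitive N α) : (∀ a : α, MulAction.stabilizer M a = ⊥) ∧ (∀ a : α, MulAction.stabilizer N a = ⊥) ∧ ¬ IsMulCommutative M ∧ Nonempty (M ≃* N) ∧ Subgroup.centralizer ((M.map G.subtype : Subgroup (Equiv.Perm α)) : Set (Equiv.Perm α)) = N.map G.subtype ∧ Subgroup.centralizer ((N.map G.subtype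 : Subgroup (Equiv.Perm α)) : Set (Equiv.Perm α)) = M.map G.subtype ∧ ∀ L : Subgroup G, L.Normal → L ≠ ⊥ → (∀ L' : Subgroup G, L'.Normal → L' ≤ L → L' = ⊥ ∨ L' = L) → L = M ∨ L = N := by
  obtain ⟨⟨n, hn⟩, h1⟩ := Subgroup.ne_bot_iff_exists_ne_one.1 hM
  obtain ⟨a, -⟩ := CfsgH8.exists_moved (α := α) (g := n) fun h => h1 (Subtype.ext h)
  have comm : ∀ L L' : Subgroup G, L.Normal → L'.Normal → L ⊓ L' = ⊥ → ∀ x ∈ L, ∀ y ∈ L', x * y = y * x :=
    fun L L' h1 h2 h x hx y hy => (Subgroup.commute_of_normal_of_disjoint L L' h1 h2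
      (disjoint_iff.2 h) x y hx hy).eq
  have hd : M ⊓ N = ⊥ := by
    rcases hMmin (M ⊓ N) inferInstance inf_le_left with h | h
    · exact h
    · exact absurd ((hNmin M inferInstance (inf_eq_left.1 h)).resolve_left hM) hMN
  have hc := comm M N inferInstance inferInstance hd
  haveI := CfsgH8.trans_map G M
  haveI := CfsgH8.trans_map G N
  have hC := CfsgH8.cent_eq_of_trans (M := M.map G.subtype) (N := N.map G.subtype) a (by
    rintro _ ⟨x, hx, rfl⟩ _ ⟨y, hy, rfl⟩
    exact congrArg Subtype.val (hc y hy x hx))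
  have hC' := CfsgH8.cent_eq_of_trans (M := N.map G.subtype) (N := M.map G.subtype) a (by
    rintro _ ⟨x, hx, rfl⟩ _ ⟨y, hy, rfl⟩
    exact congrArg Subtype.val (hc x hx y hy).symm)
  have hle : ∀ L : Subgroup G, (∀ x ∈ L, ∀ y ∈ M, x * y = y * x) → L ≤ N := fun L h x hx => by
    have : (x : Equiv.Perm α) ∈ N.map G.subtype := by
      rw [← hC]
      rintro _ ⟨y, hy, rfl⟩
      exact congrArg Subtype.val (h x hx y hy).symm
    obtain ⟨y, hy, h⟩ := this
    exact (Subtype.ext h : y = x) ▸ hy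
  have hrM : ∀ a : α, MulAction.stabilizer M a = ⊥ := fun b =>
    (Subgroup.eq_bot_iff_forall _).2 fun g hg => Subtype.ext
      (CfsgH8.centralizer_semiregular N (fun m hm => (hc g g.2 m hm).symm) hg)
  have hrN : ∀ a : α, MulAction.stabilizer N a = ⊥ := fun b =>
    (Subgroup.eq_bot_iff_forall _).2 fun g hg => Subtype.ext
      (CfsgH8.centralizer_semiregular M (fun m hm => hc m hm g g.2) hg)
  refine ⟨hrM, hrN, fun hab => hM ?_, ?_, hC, hC', fun L hL hL1 hLm => ?_⟩
  · rw [← hd, eq_comm, inf_eq_left]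
    exact hle M fun x hx y hy => congrArg Subtype.val (hab.is_comm.comm (⟨x, hx⟩ : M) ⟨y, hy⟩)
  · have : ∀ m : M, ∃ n : N, ((n : G)⁻¹ • a : α) = (m : G) • a := fun m => by
      obtain ⟨n, hn⟩ := hNt.exists_smul_eq ((m : G) • a) a
      exact ⟨n, inv_smul_eq_iff.2 hn.symm⟩
    choose f hf using this
    have hu : ∀ (m : M) (n : N), ((n : G)⁻¹ • a : α) = (m : G) • a → f m = n := fun m n h =>
      Subtype.ext (inv_injective (CfsgH8.eq_of_regular (hrN a) (N.inv_mem (f m).2) (N.inv_mem n.2)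
        ((hf m).trans h.symm)))
    refine ⟨MulEquiv.ofBijective (MonoidHom.mk' f fun x y => hu _ _ ?_) ⟨fun x y h => ?_, fun n => ?_⟩⟩
    · rw [Subgroup.coe_mul, Subgroup.coe_mul, mul_inv_rev, mul_smul, hf, ← mul_smul,
        ← hc _ x.2 _ (N.inv_mem (f y).2), mul_smul, hf, mul_smul]
    · exact Subtype.ext (CfsgH8.eq_of_regular (hrM a) x.2 y.2 (by
        rw [← hf, ← hf, show f x = f y from h]))
    · obtain ⟨m, hm⟩ := hMt.exists_smul_eq a ((n : G)⁻¹ • a)
      exact ⟨m, hu m n hm.symm⟩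
  · rcases hMmin (L ⊓ M) inferInstance inf_le_right with h | h
    · exact Or.inr ((hNmin L hL (hle L (comm L M hL inferInstance h))).resolve_left hL1)
    · exact Or.inl ((hLm M inferInstance (inf_eq_right.1 h)).resolve_left hM).symm

end Cfsg.Agent.S0704
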