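import Cfsg.Statements.S0705
import Mathlib
import Cfsg.Agent.H8.Perm2

set_option autoImplicit false
open scoped Pointwise
open Cfsg

namespace Cfsg.Agent.S0705

/-- A generously `k`-transitive permutation group (every `(k+1)`-subset has its full symmetric group induced by the setwise stabiliser) of degree greater than `k` is `k`-transitive, and for a `k`-subset the setwise and pointwise stabilisers have the same orbits outside it. -/
theorem result {α : Type*} [Fintype α] [DecidableEq α] (G : Subgroup (Equiv.Perm α)) {k : ℕ} (hk : k < Fintype.card α) (hgen : ∀ s : Finset α, s.card = k + 1 → ∀ σ : Equiv.Perm ↥s, ∃ g ∈ G, ∀ x : ↥s, g (x : α) = σ x) : MulAction.IsMultiplyPretransitive G α k ∧ ∀ s : Finset α, s.card = k → ∀ a b : α, a ∉ s → b ∉ s → (∃ g ∈ G, g • s = s ∧ g a = b) → ∃ g ∈ G, (∀ x ∈ s, g x = x) ∧ g a = b := by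
  have hg : CfsgH8.Gen G α k := fun s hs σ hσ => by
    obtain ⟨g, hg, h⟩ := hgen s hs (σ.subtypePerm hσ)
    exact ⟨⟨g, hg⟩, fun x hx => h ⟨x, hx⟩⟩
  refine ⟨hg.mt hk, ?_⟩
  rintro s hs a b ha hb ⟨g, hgG, h1, rfl⟩
  have h2 : ∀ x, g x ∈ s ↔ x ∈ s := fun x => by
    nth_rw 1 [← h1]
    exact Finset.smul_mem_smul_finset_iff g
  have h3 : ∀ x ∈ s, Equiv.swap a (g a) x = x := fun x hx =>
    Equiv.swap_apply_of_ne_of_ne (by rintro rfl; exact ha hx) (by rintro rfl; exact hb hx)
  obtain ⟨h, hh⟩ := hg (insert (g a) s) (by rw [Finset.card_insert_of_notMem hb, hs])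
    (Equiv.swap a (g a) * g⁻¹) (fun x => by
      obtain ⟨x, rfl⟩ := g.surjective x
      have h0 : g⁻¹ (g x) = x := by simp
      simp only [Equiv.Perm.mul_apply, h0, Finset.mem_insert, h2, g.apply_eq_iff_eq]
      by_cases hx : x ∈ s
      · simp [h3 x hx, hx]
      · rw [Equiv.swap_apply_def]
        split_ifs with h4 h5
        · simp [h4]
        · subst h5
          simp only [ha, hb, or_false]
          exact ⟨fun h => absurd h.symm h4, fun h => absurd h h4⟩
        · simp [h4, h5, hx])
  refine ⟨h * g, mul_mem h.2 hgG, fun x hx => ?_, ?_⟩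
  · have := hh (g x) (by simp [h2, hx])
    simp only [Equiv.Perm.mul_apply, show g⁻¹ (g x) = x by simp, h3 x hx] at this
    exact this
  · have := hh (g a) (by simp)
    simp only [Equiv.Perm.mul_apply, show g⁻¹ (g a) = a by simp, Equiv.swap_apply_left] at this
    exact this

end Cfsg.Agent.S0705
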