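import Cfsg.Statements.S0709

set_option autoImplicit false
open Cfsg

namespace Cfsg.Agent.S0709

open MulAction Subgroup
theorem dc {M : Type*} [Group M] {A B : Subgroup M} {s r : M} (hAB : A ≤ B) (hr : r ∈ B) (D : ∀ g ∈ B, g ∈ A ∨ ∃ a ∈ A, ∃ b ∈ A, g = a * r * b)
    (hn : ∀ a ∈ A, s * a * s⁻¹ ∈ A) (h2 : s ^ 2 ∈ A) (h3 : (r * s) ^ 3 ∈ A) (g : M) (hg : g ∈ closure (↑B ∪ {s})) :
    g ∈ B ∨ ∃ a ∈ B, ∃ b ∈ B, g = a * s * b := by
  have l : ∀ x ∈ B, ∀ g, (g ∈ B ∨ ∃ a ∈ B, ∃ b ∈ B, g = a * s * b) → (x * g ∈ B ∨ ∃ a ∈ B, ∃ b ∈ B, x * g = a * s * b) := by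
    rintro x hx g (h | ⟨a, ha, b, hb, rfl⟩)
    · exact .inl (mul_mem hx h)
    · exact .inr ⟨_, mul_mem hx ha, b, hb, by group⟩
  have m : ∀ g, (g ∈ B ∨ ∃ a ∈ B, ∃ b ∈ B, g = a * s * b) → (s * g ∈ B ∨ ∃ a ∈ B, ∃ b ∈ B, s * g = a * s * b) := by
    rintro g (h | ⟨a, ha, b, hb, rfl⟩)
    · exact .inr ⟨1, one_mem _, g, h, by group⟩
    rcases D a ha with h | ⟨c, hc, d, hd, rfl⟩
    · exact .inl (by convert mul_mem (hAB (mul_mem (hn a h) h2)) hb using 1; group)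
    · refine .inr ⟨_, mul_mem (hAB (hn c hc)) (mul_mem (inv_mem hr) (hAB (mul_mem h3 (inv_mem h2)))), _, mul_mem (mul_mem (inv_mem hr)
        (hAB (hn _ (mul_mem (mul_mem (inv_mem h2) hd) h2)))) hb, ?_⟩
      simp only [pow_succ, pow_zero]; group
  induction hg using closure_induction_left with
  | one => exact .inl (one_mem _)
  | mul_left x hx y _ h => exact hx.elim (fun hx => l x hx y h) fun hx => hx ▸ m y h
  | inv_mul_cancel x hx y _ h =>
    refine hx.elim (fun hx => l _ (inv_mem hx) y h) fun hx => ?_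
    obtain rfl : x = s := hx
    convert l _ (inv_mem (hAB h2)) _ (m y h) using 2 <;> simp [sq, mul_assoc]

/-- Witt's Lemma for constructing transitive extensions. Points `q 1, …, q t` (`t ≥ 2`) of a finite set are given; `G` fixes `q i` for `i ≥ 3` and is doubly transitive on the remaining points; `s 1 ∈ G` swaps `q 1, q 2`; for `2 ≤ i ≤ t-1`, `s i` swaps `q i, q (i+1)` and fixes the other `q j`; with `H` the stabiliser of `q 1, q 2` in `G`: `s i ^ 2 ∈ H`, `(s i * s (i+1)) ^ 3 ∈ H`, `(s i * s j) ^ 2 ∈ H` for `j ≥ i + 2`, and `s i` (`i ≥ 2`) normalises the stabiliser of `q 2` in `G`. Then `G` and the `s i` generate a `t`-transitive group whose pointwise stabiliser of the `q`'s is `H`. -/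
theorem result {α : Type*} [Fintype α] [DecidableEq α] (t : ℕ) (ht : 2 ≤ t) (q : ℕ → α) (hq : ∀ i j : ℕ, 1 ≤ i → i ≤ t → 1 ≤ j → j ≤ t → q i = q j → i = j) (G : Subgroup (Equiv.Perm α)) (hfix : ∀ g ∈ G, ∀ i : ℕ, 3 ≤ i → i ≤ t → g (q i) = q i) (h2 : ∀ a b c d : α, (∀ i, 3 ≤ i → i ≤ t → a ≠ q i ∧ b ≠ q i ∧ c ≠ q i ∧ d ≠ q i) → a ≠ b → c ≠ d → ∃ g ∈ G, g a = c ∧ g b = d) (s : ℕ → Equiv.Perm α) (hs1 : s 1 ∈ G) (hs1q : s 1 (q 1) = q 2 ∧ s 1 (q 2) = q 1) (hsq : ∀ i : ℕ, 2 ≤ i → i + 1 ≤ t → s i (q i) = q (i + 1) ∧ s i (q (i + 1)) = q i ∧ ∀ j : ℕ, 1 ≤ j → j ≤ t → j ≠ i → j ≠ i + 1 → s i (q j) = q j) (H : Subgroup (Equiv.Perm α)) (hH : H = G ⊓ MulAction.stabilizer (Equiv.Perm α) (q 1) ⊓ MulAction.stabilizer (Equiv.Perm α) (q 2)) (hsq2 : ∀ i : ℕ, 1 ≤ i → i + 1 ≤ t → s i ^ 2 ∈ H) (hbraid : ∀ i : ℕ, 1 ≤ i → i + 2 ≤ t → (s i * s (i + 1)) ^ 3 ∈ H) (hcomm : ∀ i j : ℕ, 1 ≤ i → i + 2 ≤ j → j + 1 ≤ t → (s i *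 s j) ^ 2 ∈ H ∧ (s j * s i) ^ 2 ∈ H) (hnorm : ∀ i : ℕ, 2 ≤ i → i + 1 ≤ t → ∀ g ∈ G ⊓ MulAction.stabilizer (Equiv.Perm α) (q 2), s i * g * (s i)⁻¹ ∈ G ⊓ MulAction.stabilizer (Equiv.Perm α) (q 2)) : MulAction.IsMultiplyPretransitive ↥(Subgroup.closure ((G : Set (Equiv.Perm α)) ∪ {x | ∃ i : ℕ, 2 ≤ i ∧ i + 1 ≤ t ∧ x = s i})) α t ∧ Subgroup.closure ((G : Set (Equiv.Perm α)) ∪ {x | ∃ i : ℕ, 2 ≤ i ∧ i + 1 ≤ t ∧ x = s i}) ⊓ fixingSubgroup (Equiv.Perm α) {x | ∃ i : ℕ, 1 ≤ i ∧ i ≤ t ∧ x = q i} = H := by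
  let K := fun i : ℕ => closure (↑(G ⊓ stabilizer (Equiv.Perm α) (q 2)) ∪ {x | ∃ j : ℕ, 1 ≤ j ∧ j + 1 ≤ i ∧ x = s j})
  have k0 : ∀ i, G ⊓ stabilizer (Equiv.Perm α) (q 2) ≤ K i := fun i g hg => subset_closure (.inl hg)
  have kH : ∀ i, H ≤ K i := fun i g hg => k0 i (by rw [hH] at hg; exact ⟨hg.1.1, hg.2⟩)
  have ks : ∀ i j, 1 ≤ j → j + 1 ≤ i → s j ∈ K i := fun i j h h' => subset_closure (.inr ⟨j, h, h', rfl⟩)
  have km : ∀ i j, i ≤ j → K i ≤ K j := fun i j h => closure_mono (Set.union_subset_union_right _ fun _ ⟨m, h1, h2, h3⟩ => ⟨m, h1, h2.trans h, h3⟩)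
  have k1 : K 1 ≤ G ⊓ stabilizer (Equiv.Perm α) (q 2) := (closure_le _).2 (by rintro _ (h | ⟨j, _, _, _⟩); exacts [h, by omega])
  have fx : ∀ i j, 1 ≤ i → i < j → j ≤ t → ∀ g ∈ K i, g (q j) = q j := fun i j h0 h h' => (closure_le (stabilizer _ (q j))).2 (by
    rintro g (hg | ⟨m, h1, h2, rfl⟩)
    · rcases (show j = 2 ∨ 3 ≤ j by omega) with rfl | e
      exacts [hg.2, hfix g hg.1 j e h']
    · rcases (show m = 1 ∨ 2 ≤ m by omega) with rfl | e
      exacts [hfix _ hs1 j (by omega) h', (hsq m e (by omega)).2.2 j (by omega) h' (by omega) (by omega)])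
  have sw : ∀ i, 1 ≤ i → i + 1 ≤ t → s i (q (i + 1)) = q i := fun i h h' => by
    rcases (show i = 1 ∨ 2 ≤ i by omega) with rfl | e
    exacts [hs1q.2, (hsq i e h').2.1]
  have T1 : ∀ x, (∀ m, 1 < m → m ≤ t → x ≠ q m) → ∃ a ∈ K 1, a (q 1) = x := fun x hx => by
    obtain ⟨g, h1, h2, h3⟩ := h2 (q 1) (q 2) x (q 2) (fun i h h' => ⟨fun e => by have := hq _ _ le_rfl (by omega) (by omega) h' e; omega,
      fun e => by have := hq _ _ (by omega) ht (by omega) h' e; omega, hx i (by omega) h',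
      fun e => by have := hq _ _ (by omega) ht (by omega) h' e; omega⟩) (fun e => by have := hq _ _ le_rfl (by omega) (by omega) ht e; omega)
      (hx 2 (by omega) ht)
    exact ⟨g, k0 _ ⟨h1, h3⟩, h2⟩
  have D1 : ∀ g ∈ G, g ∈ K 1 ∨ ∃ a ∈ K 1, ∃ b ∈ K 1, g = a * s 1 * b := fun g hg => by
    refine or_iff_not_imp_left.2 fun n => ?_
    obtain ⟨a, h1, h2⟩ := T1 (g (q 2)) fun m h h' e => by
      rcases (show m = 2 ∨ 3 ≤ m by omega) with rfl | e'
      · exact n (k0 _ ⟨hg, e⟩)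
      · have := hq _ _ (by omega) ht (by omega) h' (g.injective (e.trans (hfix g hg m e' h').symm)); omega
    exact ⟨a, h1, (a * s 1)⁻¹ * g, k0 _ ⟨G.mul_mem (G.inv_mem (G.mul_mem (k1 h1).1 hs1)) hg,
      (Equiv.Perm.inv_eq_iff_eq (f := a * s 1)).2 (by rw [Equiv.Perm.mul_apply, hs1q.2, h2])⟩, by group⟩
  have D : ∀ i, 1 ≤ i → i + 1 ≤ t → ∀ g ∈ K (i + 1), g ∈ K i ∨ ∃ a ∈ K i, ∃ b ∈ K i, g = a * s i * b := fun i h => by
    induction i, h using Nat.le_induction with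
    | base => exact fun _ g hg => D1 g ((closure_le G).2 (by
        rintro _ (h | ⟨j, _, _, rfl⟩)
        · exact h.1
        · obtain rfl : j = 1 := by omega
          exact hs1) hg)
    | succ i hi ih =>
      intro h g hg
      refine dc (km i _ i.le_succ) (ks _ i hi le_rfl) (ih (by omega)) (fun a ha => (closure_le ((K i).comap (MulAut.conj (s (i + 1))).toMonoidHom)).2
        ?_ ha) (kH _ (hsq2 _ (by omega) h)) (kH _ (hbraid i hi h)) g ((closure_le _).2 ?_ hg)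
      · rintro x (hx | ⟨j, h1, h2, rfl⟩)
        · exact k0 _ (hnorm _ (by omega) h x hx)
        · change _ * _ * _ ∈ K i
          convert mul_mem (mul_mem (inv_mem (ks i j h1 h2)) (kH _ (hcomm j (i + 1) h1 (by omega) h).1)) (inv_mem (kH i (hsq2 _ (by omega) h))) using 1
          simp only [pow_succ, pow_zero]; group
      · rintro x (hx | ⟨j, h1, h2, rfl⟩)
        · exact subset_closure (.inl (k0 _ hx))
        · rcases (show j = i + 1 ∨ j + 1 ≤ i + 1 by omega) with rfl | e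
          exacts [subset_closure (.inr rfl), subset_closure (.inl (ks _ j h1 e))]
  have T : ∀ i, 1 ≤ i → i ≤ t → ∀ x, (∀ m, i < m → m ≤ t → x ≠ q m) → ∃ a ∈ K i, a (q i) = x := fun i h => by
    induction i, h using Nat.le_induction with
    | base => exact fun _ => T1
    | succ i hi ih =>
      intro h x hx
      by_cases e : x = q (i + 1)
      · exact ⟨1, one_mem _, e.symm⟩
      obtain ⟨a, h1, h2⟩ := ih (by omega) x fun m h1 h2 => by
        rcases (show m = i + 1 ∨ i + 1 < m by omega) with rfl | e'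
        exacts [e, hx m e' h2]
      exact ⟨a * s i, mul_mem (km _ _ i.le_succ h1) (ks _ _ hi le_rfl), by rw [Equiv.Perm.mul_apply, sw i hi h, h2]⟩
  have P : ∀ i, 1 ≤ i → i ≤ t → ∀ x : ℕ → α, (∀ j k, 1 ≤ j → j ≤ i → 1 ≤ k → k ≤ i → x j = x k → j = k) →
      (∀ j, 1 ≤ j → j ≤ i → ∀ m, i < m → m ≤ t → x j ≠ q m) → ∃ g ∈ K i, ∀ j, 1 ≤ j → j ≤ i → g (q j) = x j := fun i h => by
    induction i, h using Nat.le_induction with
    | base => exact fun _ x _ h => (T1 _ (h 1 le_rfl le_rfl)).imp fun a h => ⟨h.1, fun j h1 h2 => le_antisymm h1 h2 ▸ h.2⟩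
    | succ i hi ih =>
      intro h x h1 h2
      obtain ⟨g, hg, e⟩ := T _ (by omega) h _ (h2 _ (by omega) le_rfl)
      obtain ⟨b, hb, e'⟩ := ih (by omega) (fun j => g⁻¹ (x j)) (fun j k a b c d e => h1 j k a (by omega) c (by omega) (g⁻¹.injective e))
        fun j a b m c d e' => by
          rw [Equiv.Perm.inv_eq_iff_eq] at e'
          rcases (show m = i + 1 ∨ i + 1 < m by omega) with rfl | e''
          · have := h1 _ _ a (by omega) (by omega) le_rfl (e'.trans e); omega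
          · exact h2 j a (by omega) m e'' d (e'.trans (fx _ m (by omega) e'' d g hg))
      refine ⟨g * b, mul_mem hg (km _ _ i.le_succ hb), fun j a c => ?_⟩
      rcases (show j = i + 1 ∨ j ≤ i by omega) with rfl | c
      · rw [Equiv.Perm.mul_apply, fx i _ hi i.lt_succ_self h b hb, e]
      · simp [e' j a c]
  have S : ∀ i, 1 ≤ i → i ≤ t → ∀ g ∈ K i, (∀ j, 1 ≤ j → j ≤ i → g (q j) = q j) → g ∈ H := fun i h => by
    induction i, h using Nat.le_induction with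
    | base => exact fun _ g hg h => hH ▸ ⟨⟨(k1 hg).1, h 1 le_rfl le_rfl⟩, (k1 hg).2⟩
    | succ i hi ih =>
      intro h g hg h'
      refine ih (by omega) g ((D i hi h g hg).resolve_right ?_) fun j a b => h' j a (by omega)
      rintro ⟨a, ha, b, hb, rfl⟩
      have := h' _ (by omega) le_rfl
      rw [Equiv.Perm.mul_apply, Equiv.Perm.mul_apply, fx i _ hi i.lt_succ_self h b hb, sw i hi h] at this
      have := hq _ _ hi (by omega) (by omega) h (a.injective (this.trans (fx i _ hi i.lt_succ_self h a ha).symm))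
      omega
  have E : closure ((G : Set (Equiv.Perm α)) ∪ {x | ∃ i : ℕ, 2 ≤ i ∧ i + 1 ≤ t ∧ x = s i}) = K t := le_antisymm ((closure_le _).2 (by
      rintro x (hx | ⟨j, h1, h2, rfl⟩)
      · rcases D1 x hx with h | ⟨a, ha, b, hb, rfl⟩
        exacts [km _ _ (by omega) h, mul_mem (mul_mem (km _ _ (by omega) ha) (ks _ _ le_rfl ht)) (km _ _ (by omega) hb)]
      · exact ks _ _ (by omega) h2)) ((closure_le _).2 (by
      rintro x (hx | ⟨j, h1, h2, rfl⟩)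
      · exact subset_closure (.inl hx.1)
      · rcases (show j = 1 ∨ 2 ≤ j by omega) with rfl | e
        exacts [subset_closure (.inl hs1), subset_closure (.inr ⟨j, e, h2, rfl⟩)]))
  rw [E]
  have Q : ∀ x : Fin t ↪ α, ∃ g ∈ K t, ∀ j : Fin t, g (q (j + 1)) = x j := fun x => by
    obtain ⟨g, hg, e⟩ := P t (by omega) le_rfl (fun j => if h : j - 1 < t then x ⟨_, h⟩ else q 0) (fun j k a b c d e => by
      rw [dif_pos (by omega), dif_pos (by omega)] at e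
      have := congrArg Fin.val (x.injective e)
      simp only at this; omega) fun _ _ _ _ _ _ => by omega
    exact ⟨g, hg, fun j => by simpa using e (j + 1) (by omega) j.2⟩
  refine ⟨⟨fun x y => ?_⟩, le_antisymm (fun g hg => S t (by omega) le_rfl g hg.1 fun j a b => hg.2 ⟨_, j, a, b, rfl⟩) fun g hg =>
    ⟨kH t hg, ?_⟩⟩
  · obtain ⟨a, ha, e⟩ := Q x
    obtain ⟨b, hb, e'⟩ := Q y
    exact ⟨⟨_, mul_mem hb (inv_mem ha)⟩, DFunLike.ext _ _ fun j => by simp [← e, ← e']⟩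
  · rintro ⟨_, j, a, b, rfl⟩
    rcases (show j = 1 ∨ 1 < j by omega) with rfl | e
    exacts [(hH ▸ hg).1.2, fx 1 j le_rfl e b g (kH 1 hg)]

end Cfsg.Agent.S0709
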