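import Cfsg.Statements.S0712
import Mathlib
import Cfsg.Agent.H8.Perm2

set_option autoImplicit false
open Cfsg

namespace Cfsg.Agent.S0712

/-- Jordan: a primitive group in which the pointwise stabiliser of a set `s` is doubly transitive on the complement of `s` (which has at least 2 points) is `(|s| + 2)`-transitive. -/
theorem result {α : Type*} [Fintype α] [DecidableEq α] (G : Subgroup (Equiv.Perm α)) (hG : MulAction.IsPreprimitive G α) (s : Set α) {m : ℕ} (hsm : s.ncard = m) (hm : m + 2 ≤ Fintype.card α) (h2 : MulAction.IsMultiplyPretransitive (fixingSubgroup G s) (SubMulAction.ofFixingSubgroup G s) 2) : MulAction.IsMultiplyPretransitive G α (m + 2) := by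
  have hm1 : MulAction.IsMultiplyPretransitive G α m := by
    rcases m with _ | m
    · exact MulAction.is_zero_pretransitive'
    haveI := (hG.isMultiplyPreprimitive hsm (by rw [Nat.card_eq_fintype_card]; omega)
      (MulAction.isPreprimitive_of_is_two_pretransitive h2)).isMultiplyPretransitive
    exact MulAction.isMultiplyPretransitive_of_le (n := m + 2) (by omega)
      (by rw [Nat.card_eq_fintype_card]; omega)
  obtain ⟨t, rfl⟩ : ∃ t : Finset α, s = t := ⟨s.toFinite.toFinset, by simp⟩
  rw [Set.ncard_coe_finset] at hsm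
  obtain ⟨c, hc⟩ : ∃ c, c ∉ t := by
    by_contra h
    push Not at h
    have := Finset.card_le_card (show Finset.univ ⊆ t from fun x _ => h x)
    rw [Finset.card_univ] at this
    omega
  refine CfsgH8.mt_succ' (CfsgH8.mt_succ' hm1 t hsm fun a ha b hb => ?_) (insert c t)
    (by rw [Finset.card_insert_of_notMem hc, hsm]) fun a ha b hb => ?_
  · haveI := MulAction.isPretransitive_of_is_two_pretransitive (h2 := h2)
    obtain ⟨g, hg⟩ := this.exists_smul_eq ⟨a, ha⟩ ⟨b, hb⟩
    exact ⟨g, fun x hx => g.2 ⟨x, hx⟩, congrArg Subtype.val hg⟩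
  · simp only [Finset.coe_insert, Set.mem_insert_iff, not_or] at ha hb
    obtain ⟨g, h1, h3⟩ := CfsgH8.mt_two h2 (a := ⟨c, hc⟩) (b := ⟨a, ha.2⟩) (c := ⟨c, hc⟩) (d := ⟨b, hb.2⟩)
      (fun h => ha.1 (congrArg Subtype.val h).symm) (fun h => hb.1 (congrArg Subtype.val h).symm)
    refine ⟨g, fun x hx => ?_, congrArg Subtype.val h3⟩
    rcases Finset.mem_insert.1 hx with rfl | hx
    · exact congrArg Subtype.val h1
    · exact g.2 ⟨x, hx⟩

end Cfsg.Agent.S0712
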