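import Cfsg.Statements.S0714
import Mathlib
import Cfsg.Agent.H8.Perm2

set_option autoImplicit false
open Cfsg

namespace Cfsg.Agent.S0714

/-- Over any field, the permutation module of the alternating group of degree at least 5 has exactly four invariant subspaces: zero, the constant functions, the functions with coordinate sum zero, and everything. -/
theorem result {α : Type*} [Fintype α] [DecidableEq α] (hα : 5 ≤ Fintype.card α) {K : Type*} [Field K] (W : Subrepresentation (Cfsg.permRep K (alternatingGroup α) α)) : W.toSubmodule = ⊥ ∨ W = Cfsg.permConstants K (alternatingGroup α) α ∨ W = Cfsg.permSumZero K (alternatingGroup α) α ∨ W.toSubmodule = ⊤ := by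
  by_cases hc : ∀ v ∈ W.toSubmodule, ∀ a b, v a = v b
  · by_cases h0 : W.toSubmodule = ⊥
    · exact Or.inl h0
    refine Or.inr (Or.inl (Subrepresentation.toSubmodule_injective (le_antisymm (fun v hv => ?_) ?_)))
    · haveI : Nonempty α := Fintype.card_pos_iff.1 (by omega)
      exact Submodule.mem_span_singleton.2 ⟨v (Classical.arbitrary α), funext fun x => by
        simp [hc v hv x (Classical.arbitrary α)]⟩
    · obtain ⟨v, hv, h1⟩ := Submodule.exists_mem_ne_zero_of_ne_bot h0
      obtain ⟨a, ha⟩ := Function.ne_iff.1 h1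
      refine Submodule.span_le.2 (Set.singleton_subset_iff.2 ?_)
      have : (fun _ => 1 : α → K) = (v a)⁻¹ • v := funext fun x => by
        simp [hc v hv x a, inv_mul_cancel₀ ha]
      rw [this]
      exact W.toSubmodule.smul_mem (v a)⁻¹ hv
  push Not at hc
  obtain ⟨v, hv, a, b, hab⟩ := hc
  have hab' : a ≠ b := by rintro rfl; exact hab rfl
  have hex : ∀ s : Finset α, s.card < 5 → ∃ x, x ∉ s := fun s hs => by
    obtain ⟨x, -, hx⟩ := Finset.exists_mem_notMem_of_card_lt_card
      (show s.card < (Finset.univ : Finset α).card by rw [Finset.card_univ]; omega)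
    exact ⟨x, hx⟩
  obtain ⟨c, hc⟩ := hex {a, b} (Finset.card_le_two.trans_lt (by omega))
  obtain ⟨d, hd⟩ := hex {a, b, c} (Finset.card_le_three.trans_lt (by omega))
  obtain ⟨e, he⟩ := hex {a, b, c, d} (Finset.card_le_four.trans_lt (by omega))
  simp only [Finset.mem_insert, Finset.mem_singleton, not_or] at hc hd he
  have hact : ∀ x y z : α, x ≠ y → x ≠ z → ∀ w ∈ W.toSubmodule,
      (fun t => w (Equiv.swap x z (Equiv.swap x y t))) ∈ W.toSubmodule := fun x y z h1 h2 w hw =>
    W.apply_mem_toSubmodule ⟨Equiv.swap x y * Equiv.swap x z, by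
      simp [Equiv.Perm.mem_alternatingGroup, h1, h2]⟩ hw
  have h1 := W.toSubmodule.sub_mem hv (hact a b c hab' (Ne.symm hc.1) v hv)
  have h2 := W.toSubmodule.smul_mem (v a - v b)⁻¹
    (W.toSubmodule.sub_mem h1 (hact a d e (Ne.symm hd.1) (Ne.symm he.1) _ h1))
  have h3 : (Pi.single a 1 - Pi.single e 1 : α → K) ∈ W.toSubmodule := by
    convert h2 using 1
    ext t
    have h0 := inv_mul_cancel₀ (sub_ne_zero.2 hab)
    obtain ⟨h4, h5⟩ := hc
    obtain ⟨h6, h7, h8⟩ := hd
    obtain ⟨h9, h10, h11, h12⟩ := he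
    have := Ne.symm h4; have := Ne.symm h5; have := Ne.symm h6; have := Ne.symm h7
    have := Ne.symm h8; have := Ne.symm h9; have := Ne.symm h10; have := Ne.symm h11
    have := Ne.symm h12; have := hab'.symm
    clear h1 h2 hact hex
    by_cases ha : t = a
    · subst ha; simp [Equiv.swap_apply_of_ne_of_ne, *]
    by_cases hd : t = d
    · subst hd; simp [Equiv.swap_apply_of_ne_of_ne, *]
    by_cases he : t = e
    · subst he
      simp [Equiv.swap_apply_of_ne_of_ne, *]
      rw [← neg_sub (v a) (v b), mul_neg, h0]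
    simp [Equiv.swap_apply_of_ne_of_ne, ha, hd, he]
  have h4 : ∀ x y, (Pi.single x 1 - Pi.single y 1 : α → K) ∈ W.toSubmodule := fun x y => by
    by_cases hxy : x = y
    · simp [hxy]
    haveI := alternatingGroup.isMultiplyPretransitive α
    obtain ⟨g, rfl, rfl⟩ := CfsgH8.mt_two (MulAction.isMultiplyPretransitive_of_le
      (G := alternatingGroup α) (α := α) (n := Nat.card α - 2) (m := 2)
      (by rw [Nat.card_eq_fintype_card]; omega) (by omega)) (Ne.symm he.1) hxy
    convert W.apply_mem_toSubmodule g h3 using 1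
    ext t
    simp [Cfsg.permRep, Pi.single_apply, inv_smul_eq_iff]
  have h5 : (Cfsg.permSumZero K (alternatingGroup α) α).toSubmodule ≤ W.toSubmodule := fun u hu => by
    have hu' : ∑ x, u x = 0 := hu
    convert W.toSubmodule.sum_mem (t := Finset.univ) fun x _ => W.toSubmodule.smul_mem (u x) (h4 x a)
    ext t
    simp only [Finset.sum_apply, Pi.smul_apply, Pi.sub_apply, smul_eq_mul, mul_sub,
      Finset.sum_sub_distrib, ← Finset.sum_mul, hu']
    simp [Pi.single_apply]
  by_cases h6 : ∀ u ∈ W.toSubmodule, ∑ x, u x = 0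
  · exact Or.inr (Or.inr (Or.inl (Subrepresentation.toSubmodule_injective (le_antisymm h6 h5))))
  push Not at h6
  obtain ⟨u, hu, h6⟩ := h6
  refine Or.inr (Or.inr (Or.inr (Submodule.eq_top_iff'.2 fun w => ?_)))
  have := W.toSubmodule.add_mem (h5 (show w - ((∑ x, w x) / ∑ x, u x) • u ∈ _ by
    change ∑ x, (w - ((∑ x, w x) / ∑ x, u x) • u) x = 0
    simp [Finset.sum_sub_distrib, ← Finset.mul_sum, h6])) (W.toSubmodule.smul_mem ((∑ x, w x) / ∑ x, u x) hu)
  simpa using this

end Cfsg.Agent.S0714
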