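import Cfsg.Statements.S0716
import Cfsg.Agent.H3.Pm2

set_option autoImplicit false
open Cfsg

namespace Cfsg.Agent.S0716

open CfsgPm CfsgH3 MulAction Finset CfsgH8

/-- (a) If all non-principal irreducible constituents of the permutation character of a transitive group have the same degree `f`, the character is multiplicity-free and all non-trivial subdegrees equal `f`. (b) A transitive group of rank at most 5 has multiplicity-free permutation character. -/
theorem result {G : Type*} [Group G] [Fintype G] {Ω : Type*} [Fintype Ω] [MulAction G Ω] [MulAction.IsPretransitive G Ω] (a : Ω) : ((f : ℕ) → (∀ χ : G → ℂ, Cfsg.IsIrrCharacter G χ → χ ≠ (fun _ => 1) → Cfsg.classInner (fun g : G => (Nat.card (MulAction.fixedBy Ω g) : ℂ)) χ ≠ 0 → χ 1 = f) → (∀ χ : G → ℂ, Cfsg.IsIrrCharacter G χ → Cfsg.classInner (fun g : G => (Nat.card (MulAction.fixedBy Ω g) : ℂ)) χ = 0 ∨ Cfsg.classInner (fun g : G => (Nat.card (MulAction.fixedBy Ω g) : ℂ)) χ = 1)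 ∧ ∀ b : Ω, b ≠ a → Nat.card (MulAction.orbit (MulAction.stabilizer G a) b) = f) ∧ (Nat.card (MulAction.orbitRel.Quotient (MulAction.stabilizer G a) Ω) ≤ 5 → ∀ χ : G → ℂ, Cfsg.IsIrrCharacter G χ → Cfsg.classInner (fun g : G => (Nat.card (MulAction.fixedBy Ω g) : ℂ)) χ = 0 ∨ Cfsg.classInner (fun g : G => (Nat.card (MulAction.fixedBy Ω g) : ℂ)) χ = 1) := by
  classical
  have : Nonempty Ω := ⟨a⟩
  obtain ⟨m, h1, h2, h3, h4⟩ := perm_coeff (G := G) (Ω := Ω)
  rw [card_orbits_prod_eq a] at h4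
  rw [← add_sum_erase _ _ (mem_univ ⟨_, isIrr_one⟩), h2] at h3 h4
  have mf : (∀ χ, m χ ≤ 1) → ∀ χ : G → ℂ, IsIrrCharacter G χ → classInner (fun g : G => (Nat.card (fixedBy Ω g) : ℂ)) χ = 0 ∨
      classInner (fun g : G => (Nat.card (fixedBy Ω g) : ℂ)) χ = 1 := fun h χ hχ => by
    rw [h1 ⟨χ, hχ⟩]; rcases Nat.le_one_iff_eq_zero_or_eq_one.1 (h ⟨χ, hχ⟩) with e | e <;> simp [e]
  have A : ∀ f : ℕ, (∀ χ : G → ℂ, IsIrrCharacter G χ → χ ≠ (fun _ => 1) →
      classInner (fun g : G => (Nat.card (fixedBy Ω g) : ℂ)) χ ≠ 0 → χ 1 = f) →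
      (∀ χ, m χ ≤ 1) ∧ ∀ b : Ω, b ≠ a → Nat.card (orbit (stabilizer G a) b) = f := fun f hf => by
    have := Fintype.ofFinite (orbitRel.Quotient (stabilizer G a) Ω)
    have h5 : ∑ o : orbitRel.Quotient (stabilizer G a) Ω, Nat.card o.orbit = Nat.card Ω := by
      rw [← Nat.card_sigma]; exact Nat.card_congr (selfEquivSigmaOrbits' _ Ω).symm
    have h6 : ∀ o ∈ univ.erase (Quotient.mk'' a : orbitRel.Quotient (stabilizer G a) Ω), f ≤ Nat.card (orbitRel.Quotient.orbit o) := fun o ho => by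
      induction o using Quotient.inductionOn' with | h b =>
      rw [orbitRel.Quotient.orbit_mk]
      exact Nat.le_of_dvd (Nat.card_pos_iff.2 ⟨⟨⟨b, mem_orbit_self b⟩⟩, inferInstance⟩)
        (dvd_subdegree f (fun χ h h' h'' => ⟨1, by simpa using hf χ h h' h''⟩) fun e => (mem_erase.1 ho).1 (e ▸ rfl))
    rw [← add_sum_erase _ _ (mem_univ (Quotient.mk'' a)), orbitRel.Quotient.orbit_mk, show orbit (stabilizer G a) a = {a} from
      Set.eq_singleton_iff_unique_mem.2 ⟨mem_orbit_self a, by rintro _ ⟨g, rfl⟩; exact g.2⟩] at h5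
    have h7 : ∀ χ ∈ univ.erase (⟨_, isIrr_one⟩ : IrrCharacter G), m χ * deg χ = m χ * f := fun χ h => by
      rcases eq_or_ne (m χ) 0 with e | e
      · simp [e]
      · have := hf χ χ.2 (fun e => (mem_erase.1 h).1 (Subtype.ext e)) (by rw [h1]; exact_mod_cast e)
        rw [deg_spec] at this; rw [show deg χ = f by exact_mod_cast this]
    have h8 : deg (⟨_, isIrr_one⟩ : IrrCharacter G) = 1 := by
      have : (1 : ℂ) = _ := deg_spec (⟨_, isIrr_one⟩ : IrrCharacter G); exact_mod_cast this.symm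
    have h9 : ∀ χ ∈ univ.erase (⟨_, isIrr_one⟩ : IrrCharacter G), m χ * f ≤ m χ ^ 2 * f := fun χ _ =>
      Nat.mul_le_mul_right f (Nat.le_self_pow two_ne_zero _)
    have h10 := sum_le_sum h6
    have h11 := sum_le_sum h9
    rw [sum_congr rfl h7, h8] at h3
    have h12 : ∑ o ∈ univ.erase (Quotient.mk'' a : orbitRel.Quotient (stabilizer G a) Ω), f =
        ∑ χ ∈ univ.erase (⟨_, isIrr_one⟩ : IrrCharacter G), m χ ^ 2 * f := by
      rw [← sum_mul, sum_const, card_erase_of_mem (mem_univ _), card_univ, ← Nat.card_eq_fintype_card, ← h4]; simp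
    simp only [Nat.card_unique] at h5
    refine ⟨fun χ => ?_, fun b hb => ?_⟩
    · by_cases h : χ = ⟨_, isIrr_one⟩
      · rw [h, h2]
      have e1 := (sum_eq_sum_iff_of_le h9).1 (by omega) χ (by simpa using h)
      have e2 := h7 χ (by simpa using h)
      have := deg_pos χ
      by_contra hc
      have : deg χ = f := Nat.eq_of_mul_eq_mul_left (by omega) e2
      have : m χ = m χ ^ 2 := Nat.eq_of_mul_eq_mul_right (by omega) e1
      nlinarith
    · exact ((sum_eq_sum_iff_of_le h6).1 (by omega) (Quotient.mk'' b) (mem_erase.2 ⟨fun e => by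
        obtain ⟨g, hg⟩ : a ∈ orbit (stabilizer G a) b := orbitRel_apply.1 (Quotient.exact' e.symm)
        exact hb (smul_left_cancel g (hg.trans g.2.symm)), mem_univ _⟩)).symm
  refine ⟨fun f hf => ⟨mf (A f hf).1, (A f hf).2⟩, fun h => mf fun χ => by_contra fun hc => ?_⟩
  have h5 : χ ∈ univ.erase (⟨_, isIrr_one⟩ : IrrCharacter G) := mem_erase.2 ⟨by rintro rfl; omega, mem_univ _⟩
  refine hc ((A (deg χ) fun ψ h1' h2' h3' => ?_).1 χ)
  by_cases e : (⟨ψ, h1'⟩ : IrrCharacter G) = χ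
  · rw [← deg_spec, ← e]
  rw [← add_sum_erase _ _ h5, ← add_sum_erase _ _ (mem_erase.2 ⟨e, mem_erase.2 ⟨fun e => h2' (congrArg Subtype.val e), mem_univ _⟩⟩)] at h4
  rw [h1 ⟨ψ, h1'⟩, Nat.cast_ne_zero] at h3'
  have := Nat.pow_le_pow_left (Nat.one_le_iff_ne_zero.2 h3') 2
  have := Nat.pow_le_pow_left (show 2 ≤ m χ by omega) 2
  omega

end Cfsg.Agent.S0716
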