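import Cfsg.Statements.S0717
import Cfsg.Agent.H3.Pm2

set_option autoImplicit false
open Cfsg

namespace Cfsg.Agent.S0717

open CfsgPm CfsgH3 MulAction Finset CfsgH8 LinearMap
open scoped ComplexConjugate

/-- All suborbits of a transitive group are self-paired (every pair of points is interchanged by some group element) if and only if the permutation character is multiplicity-free and each of its irreducible constituents is real-valued. -/
theorem result {G : Type*} [Group G] [Fintype G] {Ω : Type*} [Fintype Ω] [MulAction G Ω] [MulAction.IsPretransitive G Ω] : (∀ a b : Ω, ∃ g : G, g • a = b ∧ g • b = a) ↔ ∀ χ : G → ℂ, Cfsg.IsIrrCharacter G χ → Cfsg.classInner (fun g : G => (Nat.card (MulAction.fixedBy Ω g) : ℂ)) χ ≠ 0 → Cfsg.classInner (fun g : G => (Nat.card (MulAction.fixedBy Ω g) : ℂ)) χ = 1 ∧ ∀ g : G, (starRingEnd ℂ) (χ g) = χ g := by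
  classical
  have hc : IsCharacter G fun g : G => (Nat.card (fixedBy Ω g) : ℂ) := isChar_permChar
  have tr : ∀ (M : Matrix Ω Ω ℂ) (g : G), ∑ x, M.transpose (g⁻¹ • x) x = ∑ x, M (g⁻¹⁻¹ • x) x := fun M g => by
    rw [← Equiv.sum_comp (toPerm g)]; simp
  refine ⟨fun h χ hχ h0 => ?_, fun h a b => ?_⟩
  · have sy : ∀ T : Module.End ℂ (Ω → ℂ), (∀ g, Commute T (permRep ℂ G Ω g)) → (toMatrix' T).transpose = toMatrix' T := fun T hT => by
      ext x y
      obtain ⟨g, h1, h2⟩ := h x y
      rw [Matrix.transpose_apply, ← (commute_perm (M := toMatrix' T)).1 (by simpa using hT) g x y, h1, h2]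
    have mf := mf_of_comm (permRep ℂ G Ω) (fun S T hS hT => toMatrix'.injective (by
      rw [← sy _ fun g => (hS g).mul_left (hT g), toMatrix'_mul, toMatrix'_mul, Matrix.transpose_mul, sy S hS, sy T hT])) χ hχ
    rw [perm_character] at mf
    refine ⟨mf.resolve_left h0, fun g => ?_⟩
    have key : ∀ g, trace ℂ _ (permRep ℂ G Ω g * repSum (permRep ℂ G Ω) fun g => conj (χ g)) =
        classInner (fun g : G => (Nat.card (fixedBy Ω g) : ℂ)) χ * (Nat.card G / χ 1 * χ g) := fun g => by
      rw [trace_mul_comm, trace_repSum_mul, perm_character]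
      simp_rw [hc.classFun.apply_eq_sum (_ * g), mul_sum, mul_left_comm (conj _)]
      rw [sum_comm]
      simp_rw [← mul_sum, fun ψ : IrrCharacter G => ψ.2.sum_mul_apply_mul (isClassFunction_conj hχ.classFun) g]
      rw [sum_eq_single ⟨χ, hχ⟩ (fun ψ _ hψ => ?_) (by simp), hχ.sum_conj_mul]
      have := ψ.2.inner_of_ne hχ fun e => hψ (Subtype.ext e)
      rw [classInner, mul_eq_zero, or_iff_right (inv_ne_zero (card_ne_zero_complex G))] at this
      simp [mul_comm (conj _), this]
    have h1 := key g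
    have h2 := key g⁻¹
    rw [← Matrix.toLin'_toMatrix' (repSum _ _), trace_perm] at h1 h2
    rw [← tr, sy _ (repSum_comm _ (isClassFunction_conj hχ.classFun)), h1, hχ.isChar.apply_inv] at h2
    exact (mul_left_cancel₀ (div_ne_zero (card_ne_zero_complex G) hχ.one_ne_zero) (mul_left_cancel₀ h0 h2)).symm
  obtain ⟨s, ψ, h1, -, h3⟩ := eig_decomp (permRep ℂ G Ω) _ (commute_perm.2 (adj_inv (G := G) a b))
  have h4 : (fun g : G => (Nat.card (fixedBy Ω g) : ℂ)) = ∑ μ ∈ s, ψ μ := by
    rw [← perm_character]; ext g; simpa [Representation.character] using h3 0 g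
  have h5 : ∀ μ ∈ s, ∀ g, ψ μ g⁻¹ = ψ μ g := fun μ hμ g => by
    rw [(h1 μ).classFun.apply_eq_sum, (h1 μ).classFun.apply_eq_sum g]
    refine sum_congr rfl fun χ _ => ?_
    by_cases e : classInner (fun g : G => (Nat.card (fixedBy Ω g) : ℂ)) χ = 0
    · simp [inner_zero_of_sum h1 χ.2.isChar (h4 ▸ e) hμ]
    · rw [χ.2.isChar.apply_inv, (h χ χ.2 e).2]
  have h7 : ∀ g : G, ∑ x, adj G a b (g⁻¹ • x) x = ∑ μ ∈ s, μ * ψ μ g := fun g => by simpa [trace_perm] using h3 1 g
  have h8 := eq_zero_of_mf (permRep ℂ G Ω) (fun χ hχ => by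
    rw [perm_character]; exact or_iff_not_imp_left.2 fun e => (h χ hχ e).1) (Matrix.toLin' (adj G a b - (adj G a b).transpose))
    (commute_perm.2 fun g x y => by simp [adj_inv]) fun g => by
      rw [trace_perm]; simp only [Matrix.sub_apply, sum_sub_distrib]
      rw [tr, h7, h7, sum_congr rfl fun μ hμ => by rw [← h5 μ hμ], sub_self]
  have h9 := congrFun₂ (Matrix.toLin'.map_eq_zero_iff.1 h8) a b
  simp only [Matrix.sub_apply, Matrix.transpose_apply, adj, mem_orbit_self, if_true, Matrix.zero_apply] at h9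
  obtain ⟨g, hg⟩ : (b, a) ∈ orbit G (a, b) := by_contra fun e => by simp [e] at h9
  exact ⟨g, congrArg Prod.fst hg, congrArg Prod.snd hg⟩

end Cfsg.Agent.S0717
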