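import Cfsg.Statements.S0719
import Cfsg.Agent.H3.Pm2

set_option autoImplicit false
open Cfsg

namespace Cfsg.Agent.S0719

open CfsgPm CfsgH3 MulAction Finset CfsgH8 LinearMap

theorem arith {m d l u : ℤ} (hm : 2 ≤ m) (h1 : d + l * (m - 1) + u * m = 0) (h2 : d ^ 2 + l ^ 2 * (m - 1) + u ^ 2 * m = 2 * m * d) :
    d = 0 ∨ d = 1 ∨ d = 2 * m - 2 ∨ d = 2 * m - 1 ∨ (2 * d - (2 * m - 1)) ^ 2 = 2 * m - 1 := by
  obtain ⟨c, hc⟩ : ∃ c, l = d - m * c := ⟨-(l + u), by linarith⟩
  subst hc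
  obtain rfl : u = c * (m - 1) - d := mul_right_cancel₀ (show m ≠ 0 by omega) (by linarith)
  have h3 : 2 * d ^ 2 - 4 * d * c * (m - 1) + c ^ 2 * (m - 1) * (2 * m - 1) - 2 * d = 0 :=
    mul_left_cancel₀ (show m ≠ 0 by omega) (by linarith)
  have h4 : 0 ≤ (m - 1) * (4 * c - 2 * c ^ 2) + 1 := by nlinarith [sq_nonneg (2 * d - (2 * c * (m - 1) + 1))]
  have h5 : 0 ≤ c ∧ c ≤ 2 := by
    by_contra h
    have : 4 * c - 2 * c ^ 2 ≤ -6 := by rcases not_and_or.1 h with h | h <;> nlinarith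
    nlinarith
  obtain ⟨h5, h6⟩ := h5
  interval_cases c
  · rcases mul_eq_zero.1 (show d * (d - 1) = 0 by linarith) with h | h <;> omega
  · exact Or.inr (Or.inr (Or.inr (Or.inr (by linarith))))
  · rcases mul_eq_zero.1 (show (d - (2 * m - 2)) * (d - (2 * m - 1)) = 0 by linarith) with h | h <;> omega

theorem nat_sum_one {ι : Type*} {s : Finset ι} {n : ι → ℕ} (h : ∑ i ∈ s, n i = 1) :
    ∃ i ∈ s, n i = 1 ∧ ∀ j ∈ s, j ≠ i → n j = 0 := by
  classical
  obtain ⟨i, hi, e⟩ := exists_ne_zero_of_sum_ne_zero (h ▸ one_ne_zero : ∑ i ∈ s, n i ≠ 0)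
  rw [← add_sum_erase _ _ hi] at h
  exact ⟨i, hi, by omega, fun j hj e' => sum_eq_zero_iff.1 (show ∑ x ∈ s.erase i, n x = 0 by omega) j (mem_erase.2 ⟨e', hj⟩)⟩

theorem stab_all {G Ω : Type*} [Group G] [Finite G] [MulAction G Ω] (hprim : IsPreprimitive G Ω) {a b : Ω} (hab : b ≠ a)
    (h : stabilizer G a ≤ stabilizer G b) (x : Ω) : stabilizer G a = stabilizer G x := by
  have e : stabilizer G a = stabilizer G b := Subgroup.eq_of_le_of_card_ge h (by
    obtain ⟨g, rfl⟩ := exists_smul_eq G a b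
    rw [stabilizer_smul_eq_stabilizer_map_conj, Subgroup.card_map_of_injective (MulAut.conj g).injective])
  rcases prim_rel hprim (fun x y => stabilizer G x = stabilizer G y) ⟨fun _ => rfl, Eq.symm, Eq.trans⟩
    (fun g x y h => by simp only [stabilizer_smul_eq_stabilizer_map_conj, h]) with h | h
  exacts [absurd (h _ _ e).symm hab, h _ _]

/-- Groups of Wielandt type: if a primitive group of degree `2m` has rank 3 and permutation character `1 + χ₁ + χ₂` with irreducible `χ₁, χ₂` of degrees `m - 1` and `m`, then `m = 2a² + 2a + 1` for some positive integer `a` and the two non-trivial subdegrees are `a(2a+1)` and `(a+1)(2a+1)`. -/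
theorem result {G : Type*} [Group G] [Fintype G] {Ω : Type*} [Fintype Ω] [MulAction G Ω] (hprim : MulAction.IsPreprimitive G Ω) {m : ℕ} (hm : Fintype.card Ω = 2 * m) (a₀ : Ω) (hrank : Nat.card (MulAction.orbitRel.Quotient (MulAction.stabilizer G a₀) Ω) = 3) (χ₁ χ₂ : G → ℂ) (h₁ : Cfsg.IsIrrCharacter G χ₁) (h₂ : Cfsg.IsIrrCharacter G χ₂) (hπ : (fun g : G => (Nat.card (MulAction.fixedBy Ω g) : ℂ)) = fun g => 1 + χ₁ g + χ₂ g) (hd₁ : χ₁ 1 = (m : ℂ) - 1) (hd₂ : χ₂ 1 = m) : ∃ a : ℕ, 0 < a ∧ m = 2 * a ^ 2 + 2 * a + 1 ∧ ∀ b : Ω, b ≠ a₀ → Nat.card (MulAction.orbit (MulAction.stabilizer G a₀) b) = a * (2 * a + 1) ∨ Nat.card (MulAction.orbit (MulAction.stabilizer G a₀) b) = (a + 1) * (2 * a + 1) := by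
  classical
  have : Nonempty Ω := ⟨a₀⟩
  have hc : IsCharacter G fun g : G => (Nat.card (fixedBy Ω g) : ℂ) := isChar_permChar
  have hπ' : (fun g : G => (Nat.card (fixedBy Ω g) : ℂ)) = (fun _ => 1) + χ₁ + χ₂ := hπ
  have ip : ∀ χ, classInner (fun g : G => (Nat.card (fixedBy Ω g) : ℂ)) χ = classInner (fun _ => 1) χ + classInner χ₁ χ + classInner χ₂ χ :=
    fun χ => by rw [hπ', CfsgH3.inner_add_left, CfsgH3.inner_add_left]
  have h12 : χ₁ ≠ χ₂ := fun e => by rw [e, hd₂] at hd₁; exact one_ne_zero (α := ℂ) (by linear_combination hd₁)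
  obtain ⟨h01, h02⟩ : (fun _ => 1) ≠ χ₁ ∧ (fun _ => 1) ≠ χ₂ := by
    have := ip fun _ => 1
    rw [inner_one_right, ← Nat.cast_sum, sum_fx_trans, inv_mul_cancel₀ (card_ne_zero_complex G), isIrr_one.inner_self,
      h₁.inner_eq isIrr_one, h₂.inner_eq isIrr_one] at this
    constructor <;> rintro rfl <;> rw [if_pos rfl] at this <;> split_ifs at this <;> norm_num at this
  have hm2 : 2 ≤ m := by
    obtain ⟨n, hn, e⟩ := h₁.exists_deg
    have : m = n + 1 := by rw [e, eq_sub_iff_add_eq] at hd₁; exact_mod_cast hd₁.symm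
    omega
  have fixd : ∀ b, b ≠ a₀ → ¬ stabilizer G a₀ ≤ stabilizer G b := fun b hb h => by
    have : Nat.card Ω = 3 := by
      rw [← hrank]
      refine Nat.card_eq_of_bijective (Quotient.mk'' : Ω → orbitRel.Quotient (stabilizer G a₀) Ω) ⟨fun x y e => ?_, Quotient.mk''_surjective⟩
      obtain ⟨g, rfl⟩ := Quotient.exact' e
      exact (stab_all hprim hb h y).le g.2
    rw [Nat.card_eq_fintype_card] at this
    omega
  have key : ∀ b, b ≠ a₀ → (2 * (Nat.card (orbit (stabilizer G a₀) b) : ℤ) - (2 * m - 1)) ^ 2 = 2 * m - 1 := fun b hb => by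
    obtain ⟨s, ψ, h1, h2, h3⟩ := eig_decomp (permRep ℂ G Ω) _ (commute_perm.2 (adj_inv (G := G) a₀ b))
    have h4 : (fun g : G => (Nat.card (fixedBy Ω g) : ℂ)) = ∑ μ ∈ s, ψ μ := by
      rw [← perm_character]; ext g; simpa [Representation.character] using h3 0 g
    have h5 : ∀ χ, IsIrrCharacter G χ → classInner (fun g : G => (Nat.card (fixedBy Ω g) : ℂ)) χ = 1 →
        ∃ μ, IsIntegral ℤ μ ∧ ∀ k : ℕ, classInner (∑ μ ∈ s, μ ^ k • ψ μ) χ = μ ^ k := fun χ hχ h => by
      choose n hn using fun μ => (h1 μ).inner_nat hχ.isChar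
      rw [h4, inner_sum_left] at h
      simp only [hn] at h
      obtain ⟨μ, hμ, e1, e2⟩ := nat_sum_one (by exact_mod_cast h : ∑ μ ∈ s, n μ = 1)
      refine ⟨μ, isIntegral_of_eig (adj_int a₀ b) (h2 μ hμ), fun k => ?_⟩
      simp only [inner_sum_left, CfsgH3.inner_smul_left, hn]
      rw [sum_eq_single_of_mem μ hμ fun ν h h' => by simp [e2 ν h h'], e1]; simp
    obtain ⟨d, -, hd⟩ := h5 _ isIrr_one (by rw [ip, isIrr_one.inner_self, h₁.inner_of_ne isIrr_one h01.symm, h₂.inner_of_ne isIrr_one h02.symm]; simp)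
    have gal : ∀ χ, IsIrrCharacter G χ → χ ≠ (fun _ => 1) → χ = χ₁ ∨ χ = χ₂ →
        ∃ l : ℤ, ∀ k : ℕ, classInner (∑ μ ∈ s, μ ^ k • ψ μ) χ = l ^ k := fun χ hχ h0 h => by
      have e : classInner (fun g : G => (Nat.card (fixedBy Ω g) : ℂ)) χ = 1 := by
        rw [ip, isIrr_one.inner_of_ne hχ h0.symm]
        rcases h with rfl | rfl
        · simp [hχ.inner_self, h₂.inner_of_ne hχ h12.symm]
        · simp [hχ.inner_self, h₁.inner_of_ne hχ h12]
      obtain ⟨l, hl, h6⟩ := h5 χ hχ e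
      obtain ⟨l, rfl⟩ := exists_int_of_fixed hl fun σ => by
        have e1 := ip_map_ringHom σ.toRingHom (fun g : G => (Nat.card (fixedBy Ω g) : ℂ)) hχ.isGen
        have e2 := hχ.map_ringHom σ.toRingHom
        have e3 : (fun g => σ.toRingHom (χ g)) = χ := by
          simp only [map_natCast, e, map_one, ip, isIrr_one.inner_eq e2, h₁.inner_eq e2, h₂.inner_eq e2] at e1
          rw [if_neg fun e => h0 (funext fun g => σ.injective (by simpa using (congrFun e g).symm))] at e1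
          rcases h with rfl | rfl
          · rw [if_neg (c := χ₂ = _) fun e => by have := congrFun e 1; simp [hd₁, hd₂, eq_sub_iff_add_eq] at this] at e1
            by_contra hn; rw [if_neg (Ne.symm hn)] at e1; simp at e1
          · rw [if_neg (c := χ₁ = _) fun e => by have := congrFun e 1; simp [hd₁, hd₂, sub_eq_iff_eq_add] at this] at e1
            by_contra hn; rw [if_neg (Ne.symm hn)] at e1; simp at e1
        have e4 := ip_map_ringHom σ.toRingHom (∑ μ ∈ s, μ ^ 1 • ψ μ) hχ.isGen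
        rw [e3, show (fun g => σ.toRingHom ((∑ μ ∈ s, μ ^ 1 • ψ μ) g)) = ∑ μ ∈ s, μ ^ 1 • ψ μ from funext fun g => by
          have := h3 1 g
          simp only [pow_one, trace_perm] at this
          simp [← this, adj], h6, pow_one] at e4
        exact e4.symm
      exact ⟨l, h6⟩
    obtain ⟨l, hl⟩ := gal _ h₁ h01.symm (Or.inl rfl)
    obtain ⟨u, hu⟩ := gal _ h₂ h02.symm (Or.inr rfl)
    have h6 : ∀ k : ℕ, trace ℂ _ (Matrix.toLin' (adj G a₀ b) ^ k) = d ^ k + l ^ k * (m - 1) + u ^ k * m := fun k => by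
      have := congrFun ((isClassFunction_sum s fun μ _ => isClassFunction_smul (μ ^ k) (h1 μ).classFun).ext_inner
        (isClassFunction_add (isClassFunction_add (isClassFunction_smul (d ^ k) isIrr_one.classFun)
          (isClassFunction_smul ((l : ℂ) ^ k) h₁.classFun)) (isClassFunction_smul ((u : ℂ) ^ k) h₂.classFun)) fun χ hχ => by
        simp only [CfsgH3.inner_add_left, CfsgH3.inner_smul_left, isIrr_one.inner_eq hχ, h₁.inner_eq hχ, h₂.inner_eq hχ]
        by_cases e0 : (fun _ => 1) = χ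
        · subst e0; simp [hd, h01.symm, h02.symm]
        by_cases e1 : χ₁ = χ
        · subst e1; simp [hl, h01, h12.symm]
        by_cases e2 : χ₂ = χ
        · subst e2; simp [hu, h02, h12]
        have := ip χ
        rw [isIrr_one.inner_of_ne hχ e0, h₁.inner_of_ne hχ e1, h₂.inner_of_ne hχ e2, h4, add_zero, add_zero] at this
        simp only [e0, e1, e2, if_false, inner_sum_left, CfsgH3.inner_smul_left]
        rw [sum_eq_zero fun μ h => by rw [inner_zero_of_sum h1 hχ.isChar this h, mul_zero]]; simp) 1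
      simpa [← h3 k 1, hd₁, hd₂] using this
    have h7 := avg_trace (G := G) _ (adj_row (G := G) a₀ b)
    rw [show (fun g : G => ∑ x, adj G a₀ b (g⁻¹ • x) x) = ∑ μ ∈ s, μ ^ 1 • ψ μ by
      ext g; simpa [trace_perm] using h3 1 g, hd, pow_one] at h7
    subst h7
    have h8 := h6 1
    have h9 := h6 2
    rw [pow_one, Matrix.trace_toLin'_eq, Matrix.trace, sum_eq_zero (f := (adj G a₀ b).diag) fun x _ => if_neg fun ⟨g, h⟩ =>
      hb (smul_left_cancel g ((congrArg Prod.snd h).trans (congrArg Prod.fst h).symm))] at h8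
    rw [sq, Module.End.mul_eq_comp, ← Matrix.toLin'_mul, Matrix.trace_toLin'_eq, Matrix.trace] at h9
    simp only [Matrix.diag, Matrix.mul_apply] at h9
    have d0 : 0 < Nat.card (orbit (stabilizer G a₀) b) := Nat.card_pos_iff.2 ⟨⟨⟨b, mem_orbit_self b⟩⟩, inferInstance⟩
    have h8' : (Nat.card (orbit (stabilizer G a₀) b) : ℤ) + l * (m - 1) + u * m = 0 := by
      simp only [pow_one] at h8; exact_mod_cast h8.symm
    by_cases sy : (b, a₀) ∈ orbit G (a₀, b)
    swap
    · rw [sum_eq_zero fun x _ => sum_eq_zero fun y _ => by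
        simp only [adj, mul_ite, mul_one, mul_zero, ← ite_and, ite_eq_right_iff, one_ne_zero, imp_false]
        rintro ⟨⟨g, h⟩, ⟨g', h'⟩⟩
        simp only [Prod.smul_mk, Prod.mk.injEq] at h h'
        exact sy ⟨g⁻¹ * g', by simp [mul_smul, h', inv_smul_eq_iff, h]⟩] at h9
      have : (0 : ℤ) = (Nat.card (orbit (stabilizer G a₀) b) : ℤ) ^ 2 + l ^ 2 * (m - 1) + u ^ 2 * m := by exact_mod_cast h9
      have : (0 : ℤ) < (Nat.card (orbit (stabilizer G a₀) b) : ℤ) ^ 2 := by positivity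
      nlinarith [mul_nonneg (sq_nonneg l) (show (0 : ℤ) ≤ m - 1 by omega), mul_nonneg (sq_nonneg u) (show (0 : ℤ) ≤ m by omega)]
    rw [sum_congr rfl fun x _ => (sum_congr rfl fun y _ => show _ = adj G a₀ b x y by
      simp only [adj, mul_ite, mul_one, mul_zero, ← ite_and]
      refine if_congr (and_iff_right_of_imp ?_) rfl rfl
      rintro ⟨g, h⟩
      obtain ⟨t, ht⟩ := sy
      simp only [Prod.smul_mk, Prod.mk.injEq] at h ht
      exact ⟨g * t, by simp [mul_smul, h, ht]⟩).trans (adj_row a₀ b x), sum_const, card_univ, hm, nsmul_eq_mul] at h9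
    have big : ∀ c, c ≠ a₀ → Nat.card (orbit (stabilizer G a₀) c) ≠ 1 := fun c hc e => fixd c hc fun g hg => by
      obtain ⟨x, hx⟩ := Set.ncard_eq_one.1 e
      exact (hx.le ⟨⟨g, hg⟩, rfl⟩).trans (hx.le (mem_orbit_self c)).symm
    obtain ⟨c, hc, hc'⟩ : ∃ c, c ≠ a₀ ∧ c ∉ orbit (stabilizer G a₀) b := by
      by_contra! h
      have : Nat.card (orbitRel.Quotient (stabilizer G a₀) Ω) ≤ 2 := by
        rw [← Set.ncard_univ, show (Set.univ : Set (orbitRel.Quotient (stabilizer G a₀) Ω)) = {Quotient.mk'' a₀, Quotient.mk'' b} from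
          (Set.eq_univ_of_forall fun o => Quotient.inductionOn' o fun x => (eq_or_ne x a₀).imp (congrArg _)
            fun e => Quotient.sound' (h x e)).symm]
        exact Set.ncard_insert_le _ _ |>.trans (by simp)
      omega
    have h10 : (orbit (stabilizer G a₀) b).ncard + (orbit (stabilizer G a₀) c).ncard + 1 ≤ 2 * m := by
      rw [← Set.ncard_union_eq (Set.disjoint_left.2 fun x h h' => hc' (by
        rw [← orbit_eq_iff.2 h, orbit_eq_iff.2 h']; exact mem_orbit_self c)), ← hm, ← Nat.card_eq_fintype_card]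
      refine Set.ncard_lt_card fun e => ?_
      rcases e.ge (Set.mem_univ a₀) with ⟨g, h⟩ | ⟨g, h⟩
      exacts [hb (smul_left_cancel g (h.trans g.2.symm)), hc (smul_left_cancel g (h.trans g.2.symm))]
    have := big b hb
    have := big c hc
    have : 0 < Nat.card (orbit (stabilizer G a₀) c) := Nat.card_pos_iff.2 ⟨⟨⟨c, mem_orbit_self c⟩⟩, inferInstance⟩
    simp only [← Nat.card_coe_set_eq] at h10
    rcases arith (by exact_mod_cast hm2) h8' (by exact_mod_cast h9.symm) with h | h | h | h | h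
    iterate 4 omega
    exact h
  have : Nontrivial Ω := Fintype.one_lt_card_iff_nontrivial.1 (by omega)
  obtain ⟨b, hb⟩ := exists_ne a₀
  obtain ⟨a, ha⟩ : Odd (2 * (Nat.card (orbit (stabilizer G a₀) b) : ℤ) - (2 * m - 1)).natAbs :=
    Int.natAbs_odd.2 ⟨Nat.card (orbit (stabilizer G a₀) b) - m, by ring⟩
  have h1 := key b hb
  rw [← Int.natAbs_sq, ha] at h1
  push_cast at h1
  have h2 : m = 2 * a ^ 2 + 2 * a + 1 := by zify; linarith
  refine ⟨a, Nat.pos_of_ne_zero (by rintro rfl; omega), h2, fun c hc => ?_⟩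
  have h3 := key c hc
  rw [← h1, sq_eq_sq_iff_eq_or_eq_neg] at h3
  zify at h2 ⊢
  rcases h3 with h | h
  exacts [Or.inr (by linarith), Or.inl (by linarith)]

end Cfsg.Agent.S0719
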