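import Cfsg.Statements.S0723
import Mathlib
import Cfsg.Agent.H8.MinNormal
import Cfsg.Agent.S0722

set_option autoImplicit false
open Cfsg

namespace Cfsg.Agent.S0723

/-- The core of the O'Nan–Scott Theorem. Let `H` be a primitive permutation group on a finite set whose unique minimal normal subgroup `N` is non-abelian, and `K` a point stabiliser. Then there are a non-abelian simple group `T` and an isomorphism `N ≃* T^m` (`m ≥ 1`) under which `K ⊓ N` becomes either a product `∏ K_i` of proper subgroups `K_i < T`, or the set of functions constant on each block of a partition of the index set into blocks of one common size `k ≥ 2`. -/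
theorem result {α : Type*} [Finite α] (H : Subgroup (Equiv.Perm α)) [MulAction.IsPreprimitive H α] (N : Subgroup H) [N.Normal] (hN : N ≠ ⊥) (hmin : ∀ M : Subgroup H, M.Normal → M ≤ N → M = ⊥ ∨ M = N) (huniq : ∀ L : Subgroup H, L.Normal → L ≠ ⊥ → (∀ M : Subgroup H, M.Normal → M ≤ L → M = ⊥ ∨ M = L) → L = N) (hnab : ¬ IsMulCommutative N) (a : α) : ∃ (T : Type) (_ : Group T) (m : ℕ) (e : N ≃* (Fin m → T)), IsSimpleGroup T ∧ ¬ IsMulCommutative T ∧ 0 < m ∧ ((∃ K : Fin m → Subgroup T, (∀ i, K i ≠ ⊤) ∧ ∀ n : N, (n : H) ∈ MulAction.stabilizer H a ↔ ∀ i, e n i ∈ K i) ∨ (∃ (k : ℕ) (c : Fin m → Fin m), 2 ≤ k ∧ (∀ j : Fin m, Nat.card {i : Fin m // c i = j} = k ∨ Nat.card {i : Fin m // c i = j} = 0) ∧ ∀ n : N, (n : H) ∈ MulAction.stabilizer H a ↔ ∀ i j : Fin m, c i = c j → e n i = e n j)) := by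
  classical
  haveI : Finite H := inferInstance
  obtain ⟨T, _, m, hs, hm, ⟨e⟩⟩ := CfsgH8.min_normal_pow N hN hmin
  have hT : ¬ IsMulCommutative T := fun hT => hnab ⟨⟨fun x y =>
    e.injective (by rw [map_mul, map_mul]; exact funext fun i => hT.is_comm.comm _ _)⟩⟩
  let π : Fin m → N →* T := fun i => (Pi.evalMonoidHom (fun _ => T) i).comp e.toMonoidHom
  have hπ : ∀ i, Function.Surjective (π i) := fun i t => ⟨e.symm fun _ => t, by simp [π]⟩
  have : ∀ (h : H) j, ∃ (i : Fin m) (β : T ≃* T), ∀ x : N, π j (MulAut.conjNormal h x) = β (π i x) := by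
    intro h j
    obtain ⟨i, β, hβ⟩ := CfsgH8.aut_pi hT ((π j).comp ((MulAut.conjNormal h : MulAut N).toMonoidHom.comp
      e.symm.toMonoidHom)) ((hπ j).comp
        ((MulAut.conjNormal h : MulAut N).surjective.comp e.symm.surjective))
    exact ⟨i, β, fun x => by simpa [π] using hβ (e x)⟩
  choose σ β hβ using this
  obtain ⟨t₀, ht₀⟩ := exists_ne (1 : T)
  have hsing : ∀ i j, π i (e.symm (Pi.mulSingle j t₀)) = 1 ↔ i ≠ j := fun i j => by
    by_cases h : i = j <;> simp [π, h, ht₀]
  set K := MulAction.stabilizer H a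
  haveI := CfsgH8.trans_of_normal' (α := α) inferInstance N hN
  have htr : ∀ i j, ∃ k ∈ K, σ k j = i := by
    intro i j
    by_contra hc
    push Not at hc
    have := CfsgH8.eq_top_of_conjNormal hmin (⨅ k ∈ K, (π j).ker.comap
      (MulAut.conjNormal k : MulAut N).toMonoidHom) (fun h => by
        have : e.symm (Pi.mulSingle i t₀) ∈ (⊥ : Subgroup N) := by
          rw [← h]
          simp only [Subgroup.mem_iInf, Subgroup.mem_comap, MonoidHom.mem_ker]
          intro k hk
          exact (hβ k j _).trans (by rw [(hsing _ _).2 (hc k hk), map_one])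
        rw [Subgroup.mem_bot] at this
        simpa [this] using hsing i i) fun g x hx => by
        simp only [Subgroup.mem_iInf, Subgroup.mem_comap, MonoidHom.mem_ker] at hx ⊢
        intro k hk
        obtain ⟨n, hn⟩ := MulAction.exists_smul_eq N a ((k * g) • a)
        have h1 := hx ((n : H)⁻¹ * (k * g)) (by
          rw [MulAction.mem_stabilizer_iff, mul_smul, ← hn]; exact inv_smul_smul _ _)
        have h2 : (MulAut.conjNormal k : MulAut N).toMonoidHom (MulAut.conjNormal g x) = n *
            (MulAut.conjNormal ((n : H)⁻¹ * (k * g)) : MulAut N).toMonoidHom x * n⁻¹ :=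
          Subtype.ext (by simp [mul_assoc])
        rw [h2, map_mul, map_mul, h1]
        simp
    have h1 : e.symm (Pi.mulSingle j t₀) ∈ (⊤ : Subgroup N) := trivial
    rw [← this] at h1
    simp only [Subgroup.mem_iInf, Subgroup.mem_comap, MonoidHom.mem_ker] at h1
    simpa using (hsing j j).1 (by simpa using h1 1 K.one_mem)
  let R := K.subgroupOf N
  have hR : ∀ k ∈ K, ∀ r ∈ R, MulAut.conjNormal k r ∈ R := fun k hk r hr =>
    K.mul_mem (K.mul_mem hk hr) (K.inv_mem hk)
  by_cases h : ∀ i, R.map (π i) ≠ ⊤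
  · refine ⟨T, inferInstance, m, e, hs, hT, hm, Or.inl ⟨fun i => R.map (π i), h, fun n =>
      ⟨fun hn i => ⟨n, hn, rfl⟩, fun hn => ?_⟩⟩⟩
    rcases Cfsg.Agent.S0722.result H N hN hmin a ((⨅ i, (R.map (π i)).comap (π i)).map N.subtype)
      (Subgroup.map_subtype_le _) (fun x hx => ⟨⟨x, hx.2⟩, by
        simp only [SetLike.mem_coe, Subgroup.mem_iInf]
        exact fun i => ⟨_, hx.1, rfl⟩, rfl⟩) (fun k hk => Subgroup.mem_normalizer_fintype (by
        rintro _ ⟨x, hx, rfl⟩
        refine ⟨MulAut.conjNormal k x, ?_, rfl⟩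
        simp only [SetLike.mem_coe, Subgroup.mem_iInf] at hx ⊢
        intro i
        obtain ⟨r, hr, h1⟩ := hx (σ k i)
        exact ⟨_, hR k hk r hr, by rw [hβ, hβ, h1]⟩)) with h1 | h1
    · exact (h1.le ⟨n, Subgroup.mem_iInf.2 hn, rfl⟩).1
    · refine absurd (top_le_iff.1 fun t _ => ?_) (h ⟨0, hm⟩)
      obtain ⟨x, rfl⟩ := hπ ⟨0, hm⟩ t
      obtain ⟨y, hy, h2⟩ := h1.ge x.2
      obtain rfl : y = x := Subtype.ext h2
      simp only [SetLike.mem_coe, Subgroup.mem_iInf] at hy
      exact hy _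
  push Not at h
  obtain ⟨i₀, h⟩ := h
  let f : Fin m → R →* T := fun i => (π i).comp R.subtype
  have hf : ∀ i, Function.Surjective (f i) := fun i t => by
    obtain ⟨k, hk, rfl⟩ := htr i₀ i
    obtain ⟨r, hr, h1⟩ : (β k i).symm t ∈ R.map (π (σ k i)) := h ▸ trivial
    exact ⟨⟨_, hR k hk r hr⟩, by simp [f, hβ, h1]⟩
  let S : Setoid (Fin m) := Setoid.ker fun i => (f i).ker
  let c : Fin m → Fin m := fun i => (Quotient.mk S i).out
  have hc : ∀ i, (f (c i)).ker = (f i).ker := fun i => Quotient.mk_out (s := S) i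
  have hcc : ∀ i j, c i = c j ↔ (f i).ker = (f j).ker := fun i j =>
    Quotient.out_inj.trans (Quotient.eq (r := S))
  let γ : Fin m → T ≃* T := fun i => (QuotientGroup.quotientKerEquivOfSurjective _ (hf i)).symm.trans
    ((QuotientGroup.quotientMulEquivOfEq (hc i).symm).trans
      (QuotientGroup.quotientKerEquivOfSurjective _ (hf (c i))))
  have hγ : ∀ i r, γ i (f i r) = f (c i) r := fun i r => by
    have : (QuotientGroup.quotientKerEquivOfSurjective _ (hf i)).symm (f i r) = r :=
      (MulEquiv.symm_apply_eq _).2 rfl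
    simp only [γ, MulEquiv.trans_apply, this]
    rfl
  have hiff : ∀ n : N, (n : H) ∈ K ↔ ∀ i j, c i = c j → γ i (e n i) = γ j (e n j) := fun n => by
    refine ⟨fun hn i j hij => (hγ i ⟨n, hn⟩).trans (hij ▸ (hγ j ⟨n, hn⟩).symm), fun hn => ?_⟩
    obtain ⟨r, hr⟩ := CfsgH8.crt_simple hT f hf (Finset.univ.image c) (by
      simp only [Finset.mem_image, Finset.mem_univ, true_and, forall_exists_index,
        forall_apply_eq_imp_iff, hc, hcc]
      exact fun _ _ h => h) fun i => γ i (e n i)
    have : (r : N) = n := e.injective (funext fun i => (γ i).injective ((hγ i r).trans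
      ((hr _ (by simp)).trans (hn _ _ ((hcc _ _).2 (hc i))))))
    exact this ▸ r.2
  have hcard : ∀ i j, Nat.card {x // c x = c j} ≤ Nat.card {x // c x = c i} := fun i j => by
    obtain ⟨k, hk, rfl⟩ := htr i j
    refine Nat.card_le_card_of_injective (fun x => ⟨σ k x, ?_⟩) fun x y hxy => Subtype.ext ?_
    · have h1 := (hcc _ _).1 x.2
      rw [hcc]
      ext r
      have h2 := SetLike.ext_iff.1 h1 ⟨_, hR k hk r r.2⟩
      simpa [f, hβ] using h2
    · by_contra hne
      have h1 := hβ k x ((MulAut.conjNormal k : MulAut N).symm (e.symm (Pi.mulSingle x t₀)))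
      have h2 := hβ k y ((MulAut.conjNormal k : MulAut N).symm (e.symm (Pi.mulSingle x t₀)))
      rw [MulEquiv.apply_symm_apply] at h1 h2
      rw [(hsing _ _).2 (Ne.symm hne), eq_comm, map_eq_one_iff _ (MulEquiv.injective _),
        ← show σ k x = σ k y from congrArg Subtype.val hxy] at h2
      rw [h2, map_one, hsing] at h1
      exact h1 rfl
  refine ⟨T, inferInstance, m, e.trans (MulEquiv.piCongrRight γ), hs, hT, hm,
    Or.inr ⟨Nat.card {x // c x = c i₀}, c, ?_, fun j => ?_, hiff⟩⟩
  · by_contra h2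
    refine hN (CfsgH8.eq_bot_of_normal_le_stabilizer N a fun n hn => (hiff ⟨n, hn⟩).2 fun i j hij => ?_)
    haveI := Finite.card_le_one_iff_subsingleton.1 ((hcard i₀ j).trans (by omega : _ ≤ 1))
    obtain rfl : i = j := congrArg Subtype.val
      (Subsingleton.elim (⟨i, hij⟩ : {x // c x = c j}) ⟨j, rfl⟩)
    rfl
  · by_cases h2 : ∃ i, c i = j
    · obtain ⟨i, rfl⟩ := h2
      exact Or.inl (le_antisymm (hcard _ _) (hcard _ _))
    · push Not at h2
      haveI : IsEmpty {x // c x = j} := ⟨fun x => h2 x x.2⟩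
      exact Or.inr Nat.card_of_isEmpty

end Cfsg.Agent.S0723
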