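import Cfsg.Statements.S0724
import Mathlib
import Cfsg.Agent.H8.Perm2

set_option autoImplicit false
open Cfsg

namespace Cfsg.Agent.S0724

/-- Blichfeldt's Theorem: if a finite set `L` of natural numbers contains the number of fixed points of every non-identity element of a permutation group `G` of degree `n`, then the order of `G` divides `∏ (n - l)` over `l ∈ L`. -/
theorem result {α : Type*} [Fintype α] [DecidableEq α] (G : Subgroup (Equiv.Perm α)) (L : Finset ℕ) (hL : ∀ g ∈ G, g ≠ 1 → Nat.card (MulAction.fixedBy α g) ∈ L) : Nat.card G ∣ ∏ l ∈ L, (Fintype.card α - l) := by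
  classical
  haveI : Fintype G := Fintype.ofFinite G
  let π : G → ℤ := fun g => Nat.card (MulAction.fixedBy α g)
  have h0 : ∀ j : ℕ, (Nat.card G : ℤ) ∣ ∑ g, π g ^ j := fun j => by
    haveI : Fintype (MulAction.orbitRel.Quotient G (Fin j → α)) := Fintype.ofFinite _
    have := MulAction.sum_card_fixedBy_eq_card_orbits_mul_card_group G (Fin j → α)
    have h1 : ∀ g : G, Fintype.card (MulAction.fixedBy (Fin j → α) g) =
        Nat.card (MulAction.fixedBy α g) ^ j := fun g => by
      rw [← Nat.card_eq_fintype_card, Nat.card_congr (β := Fin j → MulAction.fixedBy α g)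
        ⟨fun x i => ⟨x.1 i, congrFun x.2 i⟩, fun x => ⟨fun i => x i, funext fun i => (x i).2⟩,
          fun _ => rfl, fun _ => rfl⟩, Nat.card_fun]
      simp
    simp only [h1] at this
    refine ⟨Fintype.card (MulAction.orbitRel.Quotient G (Fin j → α)), ?_⟩
    rw [Nat.card_eq_fintype_card, mul_comm]
    simp only [π]
    exact_mod_cast this
  have h1 : ∀ (L : Finset ℕ) (j : ℕ), (Nat.card G : ℤ) ∣ ∑ g, π g ^ j * ∏ l ∈ L, (π g - l) := by
    intro L
    induction L using Finset.induction_on with
    | empty => simpa using h0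
    | insert l L hl ih =>
      intro j
      refine (dvd_sub (ih (j + 1)) ((ih j).mul_left l)).trans (dvd_of_eq ?_)
      rw [Finset.mul_sum, ← Finset.sum_sub_distrib]
      exact Finset.sum_congr rfl fun g _ => by rw [Finset.prod_insert hl]; ring
  have h2 := h1 L 0
  rw [Finset.sum_eq_single 1 (fun g _ hg => by
    rw [Finset.prod_eq_zero (hL g g.2 fun h => hg (Subtype.ext h)) (sub_self _), mul_zero]) (by simp)] at h2
  by_cases h : ∃ l ∈ L, Fintype.card α ≤ l
  · obtain ⟨l, hl, h⟩ := h
    rw [Finset.prod_eq_zero hl (by omega)]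
    exact dvd_zero _
  push Not at h
  rw [← Int.natCast_dvd_natCast, Nat.cast_prod]
  convert h2 using 1
  rw [pow_zero, one_mul]
  refine Finset.prod_congr rfl fun l hl => ?_
  rw [Nat.cast_sub (h l hl).le]
  simp [π]

end Cfsg.Agent.S0724
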