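import Cfsg.Statements.S0727
import Mathlib
import Cfsg.Agent.H8.Zass4

set_option autoImplicit false
open Cfsg

namespace Cfsg.Agent.S0727

/-- A sharply triply transitive permutation group of degree `2^f + 1` is isomorphic to the projective general linear group of degree 2 over the field with `2^f` elements. -/
theorem result {α : Type*} [Fintype α] [DecidableEq α] {f : ℕ} (hf : 1 ≤ f) (hα : Fintype.card α = 2 ^ f + 1) (G : Subgroup (Equiv.Perm α)) (h3 : MulAction.IsMultiplyPretransitive G α 3) (hsharp : ∀ x : Fin 3 ↪ α, MulAction.stabilizer G x = ⊥) : ∃ (F : Type) (_ : Field F) (_ : Fintype F), Fintype.card F = 2 ^ f ∧ Nonempty (G ≃* Matrix.ProjGenLinGroup (Fin 2) F) := by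
  have h1 : 2 ∣ 2 ^ f := dvd_pow_self 2 (by omega)
  have h2 : 0 < 2 ^ f := by positivity
  have Z := CfsgH8.Z3.of_sharp (by omega) h3 hsharp
  obtain ⟨a, b, hab⟩ := (Fintype.one_lt_card_iff_nontrivial.1 (by omega) : Nontrivial α)
  obtain ⟨c, h4, h5⟩ := Z.third a b
  obtain ⟨s, e1, e2, e3⟩ := CfsgH8.mt_three h3 hab h4.symm h5.symm hab.symm h5.symm h4.symm
  have hs : CfsgH8.Swp a b s := ⟨e1, e2⟩
  rw [← Nat.card_eq_fintype_card] at hα
  have hK := GaloisField.card 2 f (by omega)
  letI := Fintype.ofFinite (GaloisField 2 f)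
  refine ⟨GaloisField 2 f, inferInstance, inferInstance, by rw [← Nat.card_eq_fintype_card, hK],
    Z.pgl_of hab hs (Z.inverts_of_unique hab hs e3 fun y hy => by_contra fun h => ?_)
      (Z.card_three hab h3).ge _ (by rw [hK, hα])⟩
  have h6 := Subgroup.orderOf_dvd_natCard (CfsgH8.St2 G y c) (x := s) ⟨hy, e3⟩
  rw [orderOf_eq_prime (p := 2) (by rw [sq, Z.sq_of_fix hab hs e3]) (fun e => hs.not_mem hab (by rw [e]; exact one_mem _))] at h6
  have := Z.card_three h h3
  omega

end Cfsg.Agent.S0727
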