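import Cfsg.Statements.S0730
import Mathlib
import Cfsg.Agent.H8.Zass4
import Cfsg.Agent.H8.AutGamma

set_option autoImplicit false
open Cfsg

namespace Cfsg.Agent.S0730

/-- A sharply triply transitive group of degree `p^f + 1`, `p` an odd prime and `f` odd, is isomorphic to the projective general linear group of degree 2 over the field with `p^f` elements (for even `f` there is a second, twisted, group). -/
theorem result {α : Type*} [Fintype α] [DecidableEq α] {p f : ℕ} (hp : p.Prime) (hp2 : p ≠ 2) (hfo : Odd f) (hα : Fintype.card α = p ^ f + 1) (G : Subgroup (Equiv.Perm α)) (h3 : MulAction.IsMultiplyPretransitive G α 3) (hsharp : ∀ x : Fin 3 ↪ α, MulAction.stabilizer G x = ⊥) : ∃ (F : Type) (_ : Field F) (_ : Fintype F), Fintype.card F = p ^ f ∧ Nonempty (G ≃* Matrix.ProjGenLinGroup (Fin 2) F) := by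
  haveI := Fact.mk hp
  have h1 : Odd (p ^ f) := (hp.odd_of_ne_two hp2).pow
  have hf : f ≠ 0 := hfo.pos.ne'
  have h2 : 1 < p ^ f := Nat.one_lt_pow hf hp.one_lt
  have Z := CfsgH8.Z3.of_sharp (by omega) h3 hsharp
  obtain ⟨a, b, hab⟩ := (Fintype.one_lt_card_iff_nontrivial.1 (by omega) : Nontrivial α)
  rw [← Nat.card_eq_fintype_card] at hα
  have hK := GaloisField.card p f hf
  letI := Fintype.ofFinite (GaloisField p f)
  have hK' : Fintype.card (GaloisField p f) = p ^ f := by rw [← Nat.card_eq_fintype_card, hK]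
  refine ⟨GaloisField p f, inferInstance, inferInstance, hK',
    Z.pgl_of_odd hab h3 (hα ▸ h1.add_one) _ (by rw [hK, hα]) fun σ hσ => ?_⟩
  rw [← orderOf_eq_one_iff]
  exact Nat.eq_one_of_dvd_coprimes (Nat.coprime_two_left.2 hfo) (orderOf_dvd_of_pow_eq_one (by rwa [sq]))
    ((orderOf_dvd_natCard σ).trans (CfsgH8.card_ringAut hK').dvd)

end Cfsg.Agent.S0730
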