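import Cfsg.Statements.S0731
import Mathlib
import Cfsg.Agent.H8.Zass7

set_option autoImplicit false
open Cfsg

namespace Cfsg.Agent.S0731

/-- A finite Zassenhaus group whose point stabiliser has an abelian regular normal subgroup on the remaining points is sharply triply transitive or isomorphic to `PSL(2, F)` for a finite field `F` of odd characteristic. -/
theorem result {G Ω : Type*} [Group G] [Finite G] [MulAction G Ω] [Finite Ω] (hZ : Cfsg.IsZassenhausGroup G Ω) (x : Ω) (F : Subgroup G) (hFle : F ≤ MulAction.stabilizer G x) (hFn : (F.subgroupOf (MulAction.stabilizer G x)).Normal) (hFab : IsMulCommutative F) (hreg : ∀ y z : Ω, y ≠ x → z ≠ x → ∃! u : F, (u : G) • y = z) : (MulAction.IsMultiplyPretransitive G Ω 3 ∧ ∀ t : Fin 3 ↪ Ω, MulAction.stabilizer G t = ⊥) ∨ ∃ (K : Type) (_ : Field K) (_ : Fintype K), ringChar K ≠ 2 ∧ Nonempty (G ≃* Matrix.ProjectiveSpecialLinearGroup (Fin 2) K) := by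
  have Z := CfsgH8.Z3.of_zass hZ
  have K := CfsgH8.KD.of_reg' hFle hFn hreg
  obtain ⟨b, hb, -⟩ := Z.third x x
  have hc : ∀ u ∈ F, ∀ v ∈ F, u * v = v * u := fun u hu v hv =>
    congrArg Subtype.val (hFab.is_comm.comm (⟨u, hu⟩ : F) ⟨v, hv⟩)
  rcases CfsgH8.zass_ab_card hZ hb K hc with h | h
  · refine Or.inl ⟨(Z.three_iff hb.symm).mpr h.le, fun t => eq_bot_iff.mpr fun g hg => ?_⟩
    have h1 : ∀ i, g • t i = t i := fun i => DFunLike.congr_fun hg i
    exact Z.three g (t 0) (t 1) (t 2) (t.injective.ne (by decide)) (t.injective.ne (by decide))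
      (t.injective.ne (by decide)) (h1 0) (h1 1) (h1 2)
  · obtain ⟨p, f, k, i1, i2, -, -, -, -, hk⟩ := Z.exists_field hb.symm h.le
    refine Or.inr ⟨k, i1, i2, fun h2 => ?_, CfsgH8.zass_ab_psl hZ hb K hc h k hk⟩
    have := FiniteField.even_card_of_char_two h2
    rw [← Nat.card_eq_fintype_card] at this
    omega

end Cfsg.Agent.S0731
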