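import Cfsg.Statements.S0732
import Mathlib
import Cfsg.Agent.H8.Zass7
import Cfsg.Agent.H8.Aff1
import Cfsg.Agent.H8.AutGamma

set_option autoImplicit false
open Cfsg

namespace Cfsg.Agent.S0732

open CfsgH8 MulAction Subgroup in

/-- A transitive permutation group on `p + 1` points (`p` prime) of order `(p+1) p d` with `d < p` is isomorphic to `PGL(2,p)` with `d = p - 1`, or to `PSL(2,p)` with `2d = p - 1`, or else `p + 1 = 2^q` for a prime `q`, `d = 1` or `d = q`, and the group is permutation-isomorphic to a group of semi-affine maps `x ↦ a φ(x) + b` of the field with `2^q` elements. -/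
theorem result {α : Type*} [Fintype α] [DecidableEq α] {p d : ℕ} (hp : p.Prime) (hα : Fintype.card α = p + 1) (G : Subgroup (Equiv.Perm α)) [MulAction.IsPretransitive G α] (hG : Nat.card G = (p + 1) * p * d) (hd : d < p) : (d = p - 1 ∧ Nonempty (G ≃* Matrix.ProjGenLinGroup (Fin 2) (ZMod p))) ∨ (2 * d = p - 1 ∧ Nonempty (G ≃* Matrix.ProjectiveSpecialLinearGroup (Fin 2) (ZMod p))) ∨ (∃ q : ℕ, q.Prime ∧ p + 1 = 2 ^ q ∧ (d = 1 ∨ d = q) ∧ ∃ e : α ≃ GaloisField 2 q, ∀ g : G, (e.symm.trans (((g : Equiv.Perm α)).trans e)) ∈ Cfsg.semiaffineGroup (GaloisField 2 q)) := by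
  have := Fact.mk hp
  have p2 := hp.two_le
  rw [← Nat.card_eq_fintype_card] at hα
  have : Nontrivial α := Finite.one_lt_card_iff_nontrivial.mp (by omega)
  have cs : ∀ a : α, Nat.card (stabilizer G a) = p * d := fun a => by
    have := (stabilizer G a).index_mul_card
    rw [index_stabilizer_of_transitive, hG, hα, mul_assoc] at this
    exact Nat.eq_of_mul_eq_mul_left (by omega) this
  have hK : ∀ a : α, ∃ F : Subgroup G, KD a F ∧ Nat.card F = p := fun a => by
    obtain ⟨P, n, c⟩ := exists_normal_prime hp (cs a) hd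
    have c' : Nat.card (P.map (stabilizer G a).subtype) = p := by rw [card_map_of_injective (subtype_injective _), c]
    set F := P.map (stabilizer G a).subtype
    have fx : ∀ u ∈ F, u • a = a := fun u hu => map_subtype_le _ hu
    have gen : ∀ u ∈ F, u ≠ 1 → zpowers u = F := fun u hu h1 => eq_of_le_of_card_ge (zpowers_le.mpr hu) (by
      rw [Nat.card_zpowers, c', ((Nat.dvd_prime hp).mp (c' ▸ orderOf_dvd_natCard _ hu)).resolve_left
        (mt orderOf_eq_one_iff.mp h1)])
    have fr : ∀ u ∈ F, ∀ y, y ≠ a → u • y = y → u = 1 := fun u hu y hy e => by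
      by_contra h1
      have a1 := card_modEq_fixed hp (P := F) (IsPGroup.of_card (n := 1) (by simpa using c'))
        (Set.univ : Set α) (by simp)
      rw [Nat.card_univ, hα] at a1
      set s := {x : α | x ∈ Set.univ ∧ ∀ g ∈ F, g • x = x}
      have a2 : 1 < s.ncard := (Set.one_lt_ncard (Set.toFinite _)).mpr ⟨y, ⟨trivial, fun g hg =>
        (gen u hu h1 ▸ zpowers_le.mpr (show u ∈ stabilizer G y from e) : F ≤ stabilizer G y) hg⟩,
        a, ⟨trivial, fx⟩, hy⟩
      have a3 : s.ncard < p + 1 := by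
        rw [← hα, ← Set.ncard_univ]
        refine Set.ncard_lt_ncard (Set.ssubset_univ_iff.mpr fun e => h1 ?_)
        exact eq_of_smul_eq_smul (α := α) fun x => by rw [(e.ge (Set.mem_univ x)).2 u hu, one_smul]
      rw [Nat.card_coe_set_eq] at a1
      have a4 := (Nat.modEq_iff_dvd' (by omega)).mp (a1.symm)
      have := Nat.le_of_dvd (by omega) a4
      omega
    refine ⟨F, ⟨fx, ?_, fun y hy z hz => ?_, fr⟩, c'⟩
    · rintro h hh _ ⟨u, hu, rfl⟩
      exact ⟨_, n.conj_mem u hu ⟨h, hh⟩, rfl⟩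
    · have hb : Function.Bijective (fun u : F => (⟨(u : G) • y, smul_ne_of_fix (fx u u.2) hy⟩ : {x // x ≠ a})) := by
        rw [Nat.bijective_iff_injective_and_card]
        refine ⟨fun u v e => Subtype.ext (inv_mul_eq_one.mp (fr _ (mul_mem (inv_mem u.2) v.2) y hy ?_)), ?_⟩
        · rw [mul_smul, inv_smul_eq_iff]; exact (congrArg Subtype.val e).symm
        · rw [c', Nat.card_eq_fintype_card, Fintype.card_subtype_compl, ← Nat.card_eq_fintype_card, hα]; simp
      obtain ⟨u, hu⟩ := hb.2 ⟨z, hz⟩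
      exact ⟨u, u.2, congrArg Subtype.val hu⟩
  have cy : ∀ F : Subgroup G, Nat.card F = p → ∀ u ∈ F, ∀ v ∈ F, u * v = v * u := fun F c u hu v hv => by
    have := isCyclic_of_prime_card c
    exact congrArg Subtype.val (mul_comm' (⟨u, hu⟩ : F) ⟨v, hv⟩)
  have Z : Z3 G α := by
    refine ⟨mt_iff.mpr fun x y => ?_, fun g a b c h1 h2 h3 ga gb gc => ?_, fun a b => ?_⟩
    · obtain ⟨g, hg⟩ := exists_smul_eq G (x 0) (y 0)
      obtain ⟨F, K, -⟩ := hK (y 0)
      obtain ⟨u, hu, e⟩ := K.trans (g • x 1) (hg ▸ (MulAction.injective g).ne (x.injective.ne (by decide)))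
        (y 1) (y.injective.ne (by decide))
      exact ⟨u * g, Fin.forall_fin_two.mpr ⟨by rw [mul_smul, hg, K.fix u hu], by rw [mul_smul, e]⟩⟩
    · obtain ⟨F, K, c'⟩ := hK a
      obtain ⟨u, hu, e⟩ := K.trans b h1.symm c h3.symm
      have u1 : u ≠ 1 := by rintro rfl; exact h2 (by simpa using e)
      have a1 : g * u * g⁻¹ = u := K.eq (K.norm g ga u hu) hu h1.symm (by
        rw [mul_smul, mul_smul, inv_fix gb, e, gc])
      have a2 : zpowers u = F := eq_of_le_of_card_ge (zpowers_le.mpr hu) (by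
        rw [Nat.card_zpowers, c', ((Nat.dvd_prime hp).mp (c' ▸ orderOf_dvd_natCard _ hu)).resolve_left
          (mt orderOf_eq_one_iff.mp u1)])
      refine eq_of_smul_eq_smul (α := α) fun x => ?_
      by_cases hx : x = a
      · rw [hx, ga, one_smul]
      obtain ⟨w, hw, rfl⟩ := K.trans b h1.symm x hx
      obtain ⟨k, rfl⟩ := mem_zpowers_iff.mp (a2 ▸ hw)
      rw [one_smul, ← mul_smul, ((show Commute g u from mul_inv_eq_iff_eq_mul.mp a1).zpow_right k).eq,
        mul_smul, gb]
    · classical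
      by_contra hn
      push Not at hn
      have := Finset.card_le_card (s := Finset.univ) (t := {a, b}) fun c _ => by
        by_cases h : c = a
        · simp [h]
        · simp [hn c h]
      have := Finset.card_le_two (a := a) (b := b)
      rw [Finset.card_univ, ← Nat.card_eq_fintype_card] at *
      omega
  obtain ⟨a, b, hb⟩ := exists_pair_ne α
  replace hb := hb.symm
  obtain ⟨F, K, cF⟩ := hK a
  have cd : ∀ b, b ≠ a → Nat.card (St2 G a b) = d := fun b hb =>
    Nat.eq_of_mul_eq_mul_left hp.pos (by rw [← cs a, K.card_stab hb, cF])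
  have hz : Nat.card (ZMod p) + 1 = Nat.card α := by rw [Nat.card_zmod, hα]
  rcases hp.eq_two_or_odd' with rfl | ho
  · have d0 : 0 < d := cd b hb ▸ Nat.card_pos
    obtain rfl : d = 1 := by omega
    obtain ⟨s, hs⟩ := Z.exists_swp hb.symm
    refine Or.inl ⟨rfl, Z.pgl_of hb.symm hs (fun h hh => ?_) (by rw [cd b hb, hα]) _ hz⟩
    rw [card_eq_one.mp (cd b hb), mem_bot] at hh
    simp [hh]
  by_cases hZ : IsZassenhausGroup G α
  · rcases zass_ab_card hZ hb K (cy F cF) with h | h
    · exact Or.inl ⟨by rw [cd b hb] at h; omega, Z.pgl_of_odd hb.symm ((Z.three_iff hb.symm).mpr h.le)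
        (hα ▸ ho.add_one) _ hz fun σ _ => Subsingleton.elim _ _⟩
    · exact Or.inr (Or.inl ⟨by rw [cd b hb] at h; omega, zass_ab_psl hZ hb K (cy F cF) h _ hz⟩)
  obtain ⟨N, n1, n2, n3⟩ : ∃ N : Subgroup G, N.Normal ∧ IsPretransitive N α ∧ ∀ x : α, stabilizer N x = ⊥ := by
    by_contra hn
    push Not at hn
    refine hZ ⟨inferInstance, Z.two, Z.three, ?_, hn⟩
    by_contra h0
    push Not at h0
    obtain ⟨N, m, t⟩ := exists_frob_kernel (G := G) (X := α) fun g x y hxy gx gy => by
      by_contra h1; exact h0 g h1 x y hxy gx gy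
    obtain ⟨x, hx⟩ := hn N ⟨fun n hn g => (m _).mpr (((m n).mp hn).imp (by rintro rfl; simp)
      fun h c e => h _ (fix_conj.mp e))⟩ t
    refine hx (eq_bot_iff.mpr fun n hn => mem_bot.mpr (Subtype.ext ?_))
    exact ((m n).mp n.2).resolve_right fun h => h x hn
  obtain ⟨r, q, hr, -, h1, h2, -⟩ := ea_of_regular_normal Z.two N n3
  rw [hα] at h1
  obtain rfl : r = 2 := by
    by_contra h
    exact (Nat.not_even_iff_odd.mpr (hr.odd_of_ne_two h).pow) (h1 ▸ ho.add_one)
  have hq : q.Prime := (Nat.prime_of_pow_sub_one_prime (a := 2) (by rintro rfl; omega)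
    (by rw [← h1]; exact hp)).2
  have hk := GaloisField.card 2 q hq.ne_zero
  obtain ⟨e, ψ, e0, e1, e2, e3⟩ := exists_aff_mdl N a (n3 a) h2 K.le (cy F cF) (fun W w1 w2 w3 => by
    obtain ⟨w, hw, w4⟩ := (W.bot_or_exists_ne_one).resolve_left w2
    refine le_antisymm w1 fun n hn => ?_
    by_cases h : n = 1
    · exact h ▸ one_mem _
    have ne : ∀ x ∈ N, x ≠ 1 → x • a ≠ a := fun x hx h e =>
      h (eq_of_regular (n3 a) hx (one_mem _) (by rw [e, one_smul]))
    obtain ⟨u, hu, e⟩ := K.trans _ (ne w (w1 hw) w4) _ (ne n hn h)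
    rw [← eq_of_regular (n3 a) (w1 (w3 u hu w hw)) hn (by rw [mul_smul, mul_smul, inv_fix (K.fix u hu), e])]
    exact w3 u hu w hw) (GaloisField 2 q) (by rw [hk, hα, h1])
  have b1 : e.symm 1 ≠ a := fun h => one_ne_zero ((e.symm_apply_eq.mp h).trans e0)
  have sl : ∀ g ∈ stabilizer G a, ∃ (c : (GaloisField 2 q)ˣ) (σ : GaloisField 2 q ≃+* GaloisField 2 q),
      ∀ x, e (g • x) = c * σ (e x) := fun g hg => by
    obtain ⟨β, hβ⟩ := e2 g hg
    obtain ⟨c, σ, h⟩ := semilin_of β (fun x y h => by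
      obtain ⟨x, rfl⟩ := e.surjective x
      obtain ⟨y, rfl⟩ := e.surjective y
      rw [← hβ, ← hβ] at h
      rw [MulAction.injective g (e.injective h)]) Set.univ (by simp) (fun l _ => by
        by_cases hl : l = 0
        · exact ⟨0, by simp [hl]⟩
        obtain ⟨u, hu, h⟩ := K.trans _ b1 (e.symm l) fun h => hl ((e.symm_apply_eq.mp h).trans e0)
        have h3 : ψ u = l := by simpa [h] using (e3 u hu (e.symm 1)).symm
        refine ⟨ψ (g * u * g⁻¹), fun y => ?_⟩
        obtain ⟨y, rfl⟩ := e.surjective y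
        rw [← h3, ← e3 u hu, ← hβ, ← hβ, ← e3 _ (K.norm g hg u hu), mul_smul, mul_smul, inv_smul_smul])
    exact ⟨c, σ, fun x => (hβ x).trans (h _)⟩
  refine Or.inr (Or.inr ⟨q, hq, h1, (Nat.dvd_prime hq).mp ?_, e, fun g => ?_⟩)
  · have h3 : ∀ g : St2 G a (e.symm 1), ∃ σ : GaloisField 2 q ≃+* GaloisField 2 q,
        ∀ x, e ((g : G) • x) = σ (e x) := fun g => by
      obtain ⟨c, σ, h⟩ := sl g g.2.1
      have := h (e.symm 1)
      rw [show (g : G) • e.symm 1 = e.symm 1 from g.2.2, e.apply_symm_apply, map_one, mul_one] at this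
      exact ⟨σ, fun x => by rw [h, ← this, one_mul]⟩
    choose σ hσ using h3
    letI := Fintype.ofFinite (GaloisField 2 q)
    rw [← cd _ b1]
    refine (card_dvd_of_injective (MonoidHom.mk' σ fun g h => RingEquiv.ext fun x => ?_) fun g h e' => ?_).trans
      (card_ringAut (F := GaloisField 2 q) (p := 2) (f := q) (by rw [← Nat.card_eq_fintype_card, hk])).dvd
    · obtain ⟨x, rfl⟩ := e.surjective x
      rw [RingAut.mul_apply, ← hσ, ← hσ, ← hσ, coe_mul, mul_smul]
    · refine Subtype.ext (eq_of_smul_eq_smul (α := α) fun x => e.injective ?_)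
      rw [hσ, hσ, show σ g = σ h from e']
  · obtain ⟨n, hn⟩ := exists_smul_eq N a (g • a)
    obtain ⟨c, σ, h⟩ := sl ((n : G)⁻¹ * g) (by rw [mem_stabilizer_iff, mul_smul, inv_smul_eq_iff]; exact hn.symm)
    refine ⟨c, e ((n : G) • a), σ, fun x => ?_⟩
    have := e1 n n.2 (((n : G)⁻¹ * g) • e.symm x)
    rw [h, mul_smul, smul_inv_smul, e.apply_symm_apply] at this
    exact this

end Cfsg.Agent.S0732
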