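import Cfsg.Statements.S0733
import Mathlib
import Cfsg.Agent.H8.Perm2

set_option autoImplicit false
open Cfsg

namespace Cfsg.Agent.S0733

/-- A permutation group of affine type — generated by the translations of a finite vector space `V` over `ZMod p` together with a group `G₀` of linear automorphisms — is primitive on `V` if and only if `G₀` is irreducible on `V`. -/
theorem result {p : ℕ} [Fact p.Prime] {V : Type*} [AddCommGroup V] [Module (ZMod p) V] [Finite V] [Nontrivial V] (G₀ : Subgroup (V ≃ₗ[ZMod p] V)) (G : Subgroup (Equiv.Perm V)) (hG : ∀ σ : Equiv.Perm V, σ ∈ G ↔ ∃ g ∈ G₀, ∃ b : V, ∀ x : V, σ x = (g : V ≃ₗ[ZMod p] V) x + b) : MulAction.IsPreprimitive G V ↔ ∀ W : Submodule (ZMod p) V, (∀ g ∈ G₀, ∀ v ∈ W, (g : V ≃ₗ[ZMod p] V) v ∈ W) → W = ⊥ ∨ W = ⊤ := by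
  have htr : ∀ b : V, Equiv.addRight b ∈ G := fun b => (hG _).2 ⟨1, G₀.one_mem, b, fun x => rfl⟩
  have hlin : ∀ g ∈ G₀, (g : V ≃ₗ[ZMod p] V).toEquiv ∈ G := fun g hg =>
    (hG _).2 ⟨g, hg, 0, fun x => by simp⟩
  constructor
  · intro h W hW
    rcases CfsgH8.prim_rel h (fun x y => x - y ∈ W) ⟨fun x => by simp, fun h => by
      simpa using W.neg_mem h, fun h1 h2 => by simpa using W.add_mem h1 h2⟩ (fun σ x y hxy => by
        obtain ⟨g, hg, b, hb⟩ := (hG σ).1 σ.2
        change (σ : Equiv.Perm V) x - (σ : Equiv.Perm V) y ∈ W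
        rw [hb, hb, add_sub_add_right_eq_sub, ← map_sub]
        exact hW g hg _ hxy) with h1 | h1
    · exact Or.inl ((Submodule.eq_bot_iff W).2 fun x hx => h1 x 0 (by simpa))
    · exact Or.inr (Submodule.eq_top_iff'.2 fun x => by simpa using h1 x 0)
  · intro h
    haveI : MulAction.IsPretransitive G V := ⟨fun x y => ⟨⟨_, htr (-x + y)⟩, by
      change x + (-x + y) = y; simp⟩⟩
    refine CfsgH8.prim_of_rel fun r hr hi => ?_
    have ht : ∀ b x y, r x y → r (x + b) (y + b) := fun b x y => hi ⟨_, htr b⟩ x y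
    let A : AddSubgroup V :=
      { carrier := {x | r x 0}
        zero_mem' := hr.refl _
        add_mem' := fun {x y} hx hy => hr.trans (by simpa using ht y _ _ hx) hy
        neg_mem' := fun {x} hx => hr.symm (by simpa using ht (-x) _ _ hx) }
    rcases h (AddSubgroup.toZModSubmodule p A) (fun g hg v hv => by
      change r (g v) 0
      simpa using hi ⟨_, hlin g hg⟩ v 0 hv) with h1 | h1
    · refine Or.inl fun x y hxy => sub_eq_zero.1 ((Submodule.eq_bot_iff _).1 h1 _ ?_)
      change r (x - y) 0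
      simpa [sub_eq_add_neg] using ht (-y) _ _ hxy
    · refine Or.inr fun x y => ?_
      simpa using ht y _ _ (Submodule.eq_top_iff'.1 h1 (x - y))

end Cfsg.Agent.S0733
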