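import Cfsg.Statements.S0734
import Mathlib
import Cfsg.Agent.H8.Perm2

set_option autoImplicit false
open Cfsg

namespace Cfsg.Agent.S0734

/-- Higman's criterion for primitivity: a transitive action on a finite set is primitive if and only if every non-trivial orbital graph (edges = images of a fixed pair of distinct points) is connected. -/
theorem result {G : Type*} [Group G] {Ω : Type*} [Finite Ω] [MulAction G Ω] [MulAction.IsPretransitive G Ω] [Nontrivial Ω] : MulAction.IsPreprimitive G Ω ↔ ∀ a b : Ω, a ≠ b → (SimpleGraph.fromRel fun x y : Ω => ∃ g : G, g • a = x ∧ g • b = y).Connected := by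
  constructor
  · intro h a b hab
    rcases CfsgH8.prim_rel h (SimpleGraph.fromRel fun x y : Ω => ∃ g : G, g • a = x ∧ g • b = y).Reachable
      (SimpleGraph.reachable_is_equivalence _) (fun g x y hxy => by
        refine SimpleGraph.Reachable.map (G' := SimpleGraph.fromRel fun x y : Ω =>
          ∃ g : G, g • a = x ∧ g • b = y) ⟨fun x => g • x, ?_⟩ hxy
        rintro u v ⟨h1, h2⟩
        refine ⟨fun h => h1 (MulAction.injective g h), h2.imp ?_ ?_⟩ <;>
        · rintro ⟨w, rfl, rfl⟩
          exact ⟨g * w, mul_smul _ _ _, mul_smul _ _ _⟩) with h1 | h1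
    · exact absurd (h1 a b (SimpleGraph.Adj.reachable ⟨hab, Or.inl ⟨1, by simp, by simp⟩⟩)) hab
    · exact ⟨h1⟩
  · intro h
    refine CfsgH8.prim_of_rel fun r hr hi => ?_
    by_contra hc
    push Not at hc
    obtain ⟨⟨a, b, hab, hne⟩, x, y, hxy⟩ := hc
    obtain ⟨w⟩ := (h a b hne).preconnected x y
    refine hxy ?_
    clear hxy
    induction w with
    | nil => exact hr.refl _
    | cons h1 _ ih =>
      refine hr.trans ?_ ih
      rcases h1.2 with ⟨g, rfl, rfl⟩ | ⟨g, rfl, rfl⟩
      · exact hi g _ _ hab
      · exact hr.symm (hi g _ _ hab)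

end Cfsg.Agent.S0734
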