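import Cfsg.Statements.S0735
import Mathlib
import Cfsg.Agent.H8.Perm2

set_option autoImplicit false
open Cfsg

namespace Cfsg.Agent.S0735
open scoped Pointwise

/-- A 2-homogeneous permutation group (transitive on 2-subsets) of even order is doubly transitive; a non-trivial 2-homogeneous group is primitive. -/
theorem result {α : Type*} [Fintype α] [DecidableEq α] (G : Subgroup (Equiv.Perm α)) (h2 : MulAction.IsPretransitive G (Set.powersetCard α 2)) (hα : 3 ≤ Fintype.card α) : (Even (Nat.card G) → MulAction.IsMultiplyPretransitive G α 2) ∧ (G ≠ ⊥ → MulAction.IsPreprimitive G α) := by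
  have key : ∀ a b c d : α, a ≠ b → c ≠ d → ∃ g : G, (g • a = c ∧ g • b = d) ∨ (g • a = d ∧ g • b = c) := by
    intro a b c d hab hcd
    obtain ⟨g, hg⟩ := h2.exists_smul_eq ⟨{a, b}, Finset.card_pair hab⟩ ⟨{c, d}, Finset.card_pair hcd⟩
    have h1 : g • ({a, b} : Finset α) = {c, d} := congrArg Subtype.val hg
    simp only [Finset.smul_finset_insert, Finset.smul_finset_singleton] at h1
    refine ⟨g, ?_⟩
    have h3 := congrArg (fun s : Finset α => (s : Set α)) h1
    simpa [Set.pair_eq_pair_iff] using h3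
  refine ⟨fun he => ?_, fun _ => ?_⟩
  · haveI := Fact.mk Nat.prime_two
    obtain ⟨t, ht⟩ := exists_prime_orderOf_dvd_card' 2 (even_iff_two_dvd.1 he)
    obtain ⟨x, hx⟩ := CfsgH8.exists_moved (α := α) (g := t) (by rintro rfl; simp at ht)
    have htt : t • t • x = x := by rw [← mul_smul, ← sq, ← ht, pow_orderOf_eq_one, one_smul]
    have k2 : ∀ c d, c ≠ d → ∃ g : G, g • x = c ∧ g • t • x = d := fun c d hcd => by
      obtain ⟨g, h | h⟩ := key x (t • x) c d hx.symm hcd
      · exact ⟨g, h⟩
      · exact ⟨g * t, by rw [mul_smul, h.2], by rw [mul_smul, htt, h.1]⟩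
    refine MulAction.is_two_pretransitive_iff.2 fun {a b c d} hab hcd => ?_
    obtain ⟨g, rfl, rfl⟩ := k2 a b hab
    obtain ⟨u, rfl, rfl⟩ := k2 c d hcd
    exact ⟨u * g⁻¹, by simp [mul_smul], by simp [mul_smul]⟩
  · have h3 : ∀ a b : α, ∃ c, c ≠ a ∧ c ≠ b := fun a b => by
      by_contra h
      push Not at h
      have := Finset.card_le_card (show Finset.univ ⊆ ({a, b} : Finset α) from fun x _ => by
        by_cases hx : x = a
        · simp [hx]
        · simp [h x hx])
      have h2 := Finset.card_le_two (a := a) (b := b)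
      rw [Finset.card_univ] at this
      omega
    haveI : MulAction.IsPretransitive G α := ⟨fun a b => by
      by_contra hc
      push Not at hc
      have hab : a ≠ b := by rintro rfl; exact hc 1 (one_smul _ _)
      obtain ⟨c, hca, hcb⟩ := h3 a b
      obtain ⟨g, h | h⟩ := key a b b c hab hcb.symm
      · exact hc g h.1
      obtain ⟨u, h' | h'⟩ := key a c a b hca.symm hab
      · exact hc (u * g) (by rw [mul_smul, h.1, h'.2])
      · exact hc u h'.1⟩
    refine CfsgH8.prim_of_rel fun r hr hi => ?_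
    by_contra hc
    push Not at hc
    obtain ⟨⟨a, b, hab, hne⟩, x, y, hxy⟩ := hc
    obtain ⟨g, ⟨rfl, rfl⟩ | ⟨rfl, rfl⟩⟩ := key a b x y hne (by rintro rfl; exact hxy (hr.refl _))
    · exact hxy (hi g _ _ hab)
    · exact hxy (hr.symm (hi g _ _ hab))

end Cfsg.Agent.S0735
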