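import Cfsg.Statements.S0736
import Mathlib

set_option autoImplicit false
open Cfsg

namespace Cfsg.Agent.S0736

open MulAction Finset
open scoped Pointwise
theorem luc {p : ℕ} [Fact p.Prime] (m : ℕ) : ∀ a r : ℕ, r < p ^ a → (p ^ a * m + r).choose r ≡ 1 [MOD p]
  | 0, r, h => by obtain rfl : r = 0 := by simpa using h
                  simp [Nat.ModEq]
  | a + 1, r, h => by
    have p0 := (Fact.out : p.Prime).pos
    refine Choose.choose_modEq_choose_mod_mul_choose_div_nat.trans ?_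
    rw [pow_succ', mul_assoc, Nat.mul_add_mod, Nat.choose_self, one_mul, Nat.mul_add_div p0]
    exact luc m a _ ((Nat.div_lt_iff_lt_mul p0).2 h)

/-- A `k`-homogeneous permutation group of degree `n`, `k ≥ 2`, with `k + q - 1 ≤ n` for every prime power `q` dividing `k`, is `(k-1)`-homogeneous. -/
theorem result {α : Type*} [Fintype α] [DecidableEq α] (G : Subgroup (Equiv.Perm α)) {k : ℕ} (hk : 2 ≤ k) (hG : MulAction.IsPretransitive G (Set.powersetCard α k)) (hq : ∀ q : ℕ, IsPrimePow q → q ∣ k → k + q - 1 ≤ Fintype.card α) : MulAction.IsPretransitive G (Set.powersetCard α (k - 1)) := by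
  classical
  obtain ⟨k, rfl⟩ := Nat.exists_eq_add_of_le' (show 1 ≤ k by omega)
  have hn : k + 1 ≤ Fintype.card α := by
    obtain ⟨p, hp, h⟩ := Nat.exists_prime_and_dvd (show k + 1 ≠ 1 by omega)
    have := hq p hp.isPrimePow h
    have := hp.pos
    omega
  refine ⟨fun ⟨S, hS⟩ ⟨T, hT⟩ => ?_⟩
  let c := fun K : Finset α => (powersetCard k K).filter (· ∈ orbit G S)
  have ex : ∀ T : Finset α, #T = k → ∃ K, T ⊆ K ∧ #K = k + 1 := fun T h => by
    obtain ⟨K, h1, -, h2⟩ := exists_subsuperset_card_eq (subset_univ T) (h.trans_le k.le_succ) hn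
    exact ⟨K, h1, h2⟩
  obtain ⟨K, h1, h2⟩ := ex T hT
  have hc : ∀ L, #L = k + 1 → #(c L) = #(c K) := fun L h => by
    obtain ⟨g, hg⟩ := hG.1 ⟨L, h⟩ ⟨K, h2⟩
    obtain rfl : g • L = K := congrArg Subtype.val hg
    refine card_bijective _ (MulAction.bijective g) fun x => ?_
    simp only [c, mem_filter, mem_powersetCard, card_smul_finset, smul_finset_subset_smul_finset_iff]
    exact and_congr_right' ⟨mem_orbit_of_mem_orbit g, fun h => by simpa using mem_orbit_of_mem_orbit g⁻¹ h⟩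
  have c0 : 0 < #(c K) := by
    obtain ⟨L, h1, h2⟩ := ex S hS
    exact hc L h2 ▸ card_pos.2 ⟨S, mem_filter.2 ⟨mem_powersetCard.2 ⟨h1, hS⟩, mem_orbit_self _⟩⟩
  have d : k + 1 ∣ #(c K) := (Nat.dvd_iff_prime_pow_dvd_dvd _ _).2 fun p a hp h => by
    rcases a.eq_zero_or_pos with rfl | a0
    · simp
    have := Fact.mk hp
    have q0 := pow_pos hp.pos a
    obtain ⟨M, -, hM⟩ := exists_subset_card_eq (s := (univ : Finset α)) (hq _ ((isPrimePow_nat_iff _).2 ⟨p, a, hp, a0, rfl⟩) h)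
    have e := card_mul_eq_card_mul (s := c M) (t := powersetCard (k + 1) M) (· ⊆ ·) (m := p ^ a) (n := #(c K)) (fun x hx => by
      obtain ⟨h1, h2⟩ := mem_powersetCard.1 (mem_filter.1 hx).1
      rw [bipartiteAbove, card_filter_powersetCard_subset _ _ _ h1 (by omega), h2, hM, Nat.add_sub_cancel_left, Nat.choose_one_right]
      omega) fun L hL => by
      obtain ⟨h1, h2⟩ := mem_powersetCard.1 hL
      rw [← hc L h2]
      congr 1
      ext x
      simp only [c, bipartiteBelow, mem_filter, mem_powersetCard]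
      exact ⟨fun h => ⟨⟨h.2, h.1.1.2⟩, h.1.2⟩, fun h => ⟨⟨⟨h.1.1.trans h1, h.1.2⟩, h.2⟩, h.1.1⟩⟩
    obtain ⟨m, hm⟩ := h
    have l := luc (p := p) m a (p ^ a - 1) (by omega)
    rw [card_powersetCard, hM, show k + 1 + p ^ a - 1 = k + 1 + (p ^ a - 1) by omega, Nat.choose_symm_add, hm] at e
    exact (Nat.Coprime.pow_left a (hp.coprime_iff_not_dvd.2 fun h => hp.one_lt.ne' (Nat.dvd_one.1 ((l.dvd_iff dvd_rfl).1 h)))).dvd_of_dvd_mul_left
      (e ▸ dvd_mul_left _ _)
  have : c K = powersetCard k K := eq_of_subset_of_card_le (filter_subset _ _) (by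
    rw [card_powersetCard, h2, Nat.choose_succ_self_right]; exact Nat.le_of_dvd c0 d)
  obtain ⟨g, hg⟩ := (mem_filter.1 (this.ge (mem_powersetCard.2 ⟨h1, hT⟩))).2
  exact ⟨g, Subtype.ext hg⟩

end Cfsg.Agent.S0736
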