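import Cfsg.Statements.S0737
import Cfsg.Agent.H1.Kan

set_option autoImplicit false
open Cfsg

namespace Cfsg.Agent.S0737

/-- A non-trivial 2-homogeneous permutation group that is not doubly transitive has odd order and degree `p^f ≡ 3 (mod 4)`, and is permutation-isomorphic to a group of semi-affine transformations `x ↦ a φ(x) + b` of the field with `p^f` elements containing all translations. -/
theorem result {α : Type*} [Fintype α] [DecidableEq α] (G : Subgroup (Equiv.Perm α)) (hne : G ≠ ⊥) (h2 : MulAction.IsPretransitive G (Set.powersetCard α 2)) (hn2 : ¬ MulAction.IsMultiplyPretransitive G α 2) : Odd (Nat.card G) ∧ ∃ (p f : ℕ) (_ : Fact p.Prime), p ≠ 2 ∧ Fintype.card α = p ^ f ∧ p ^ f % 4 = 3 ∧ ∃ e : α ≃ GaloisField p f, (∀ g : G, e.symm.trans (((g : Equiv.Perm α)).trans e) ∈ Cfsg.semiaffineGroup (GaloisField p f)) ∧ ∀ b : GaloisField p f, ∃ g : G, ∀ x : α, e ((g : Equiv.Perm α) x) = e x + b := by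
  open Subgroup CfsgH1 CfsgFT CfsgH2 MulAction CfsgH8 in
  have h : ∀ a b c d : α, a ≠ b → c ≠ d → ∃ g : G, g • a = c ∧ g • b = d ∨ g • a = d ∧ g • b = c := fun a b c d h1 h3 => by
    obtain ⟨g, hg⟩ := h2.exists_smul_eq ⟨{a, b}, Finset.card_pair h1⟩ ⟨{c, d}, Finset.card_pair h3⟩
    have e : ({g • a, g • b} : Finset α) = {c, d} := by
      simpa [Finset.smul_finset_insert] using (Set.powersetCard.coe_smul ..).symm.trans (congrArg Subtype.val hg)
    have := Finset.coe_inj.2 e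
    rw [Finset.coe_pair, Finset.coe_pair] at this
    exact ⟨g, Set.pair_eq_pair_iff.1 this⟩
  have ho : Odd (Nat.card G) := Nat.not_even_iff_odd.1 fun ev => hn2 (mt_iff.2 fun x y => by
    obtain ⟨t, ht⟩ := exists_prime_orderOf_dvd_card' 2 ev.two_dvd
    obtain ⟨a, ha⟩ := exists_moved (α := α) (g := t) (by rintro rfl; simp at ht)
    have t2 : t • t • a = a := by rw [← mul_smul, ← sq, ← ht, pow_orderOf_eq_one, one_smul]
    have k : ∀ x : Fin 2 ↪ α, ∃ g : G, g • a = x 0 ∧ g • t • a = x 1 := fun x => by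
      obtain ⟨g, e | e⟩ := h a (t • a) (x 0) (x 1) ha.symm (x.injective.ne (by decide))
      · exact ⟨g, e⟩
      · exact ⟨g * t, by rw [mul_smul, e.2], by rw [mul_smul, t2, e.1]⟩
    obtain ⟨g, g1, g2⟩ := k x
    obtain ⟨f, f1, f2⟩ := k y
    exact ⟨f * g⁻¹, Fin.forall_fin_two.2 ⟨by rw [← g1, ← f1]; simp [mul_smul], by rw [← g2, ← f2]; simp [mul_smul]⟩⟩)
  haveI : Group.IsSolvable G := CfsgPF.feit_thompson ho
  haveI := (nontrivial_iff_ne_bot G).2 hne
  obtain ⟨E, p, hp, _, e0, e1, e2, e3, -⟩ := exists_minNormal_of_isSolvable (G := G)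
  haveI := Fact.mk hp
  obtain ⟨⟨u, hu⟩, u1⟩ := ne_bot_iff_exists_ne_one.1 e0
  obtain ⟨a, ha⟩ := exists_moved (α := α) (g := u) fun e => u1 (Subtype.ext e)
  have tr : ∀ x, ∃ n ∈ E, n • a = x := fun x => by
    rcases eq_or_ne a x with rfl | n
    · exact ⟨1, one_mem _, one_smul _ _⟩
    obtain ⟨g, e | e⟩ := h a (u • a) a x ha.symm n
    · exact ⟨g * u * g⁻¹, ‹E.Normal›.conj_mem u hu g, by rw [mul_smul, mul_smul, inv_fix e.1, e.2]⟩
    · exact ⟨g * u⁻¹ * g⁻¹, ‹E.Normal›.conj_mem _ (inv_mem hu) g, by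
        rw [mul_smul, mul_smul, show g⁻¹ • a = u • a from inv_smul_eq_iff.2 e.2.symm, inv_smul_smul, e.1]⟩
  have hf : stabilizer G a ⊓ C(E) = ⊥ := eq_bot_iff.2 fun d hd => eq_of_smul_eq_smul (α := α) fun x => by
    obtain ⟨n, hn, rfl⟩ := tr x
    rw [one_smul, ← mul_smul, ← hd.2 n hn, mul_smul, show d • a = a from hd.1]
  have rg : ∀ m ∈ E, ∀ n ∈ E, m • a = n • a → m = n := fun m hm n hn e => (inv_mul_eq_one.1 (mem_bot.1 (hf.le
    ⟨mem_stabilizer_iff.2 (by rw [mul_smul, e, inv_smul_smul]),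
      le_centralizer E (mul_mem (inv_mem hn) hm)⟩))).symm
  have ht : ∀ m ∈ E, m ≠ 1 → ∀ n ∈ E, n ≠ 1 → ∃ d ∈ stabilizer G a, d * m * d⁻¹ = n ∨ d * m * d⁻¹ = n⁻¹ := by
    intro m hm m1 n hn n1
    have ne : ∀ m ∈ E, m ≠ 1 → a ≠ m • a := fun m hm m1 e => m1 (rg m hm 1 (one_mem _) (by rw [← e, one_smul]))
    obtain ⟨g, e | e⟩ := h a (m • a) a (n • a) (ne m hm m1) (ne n hn n1)
    · exact ⟨g, e.1, .inl (rg _ (‹E.Normal›.conj_mem m hm g) _ hn (by rw [mul_smul, mul_smul, inv_fix e.1, e.2]))⟩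
    · have : (n⁻¹ * g) • a = a := by rw [mul_smul, e.1, inv_smul_smul]
      exact ⟨n⁻¹ * g, this, .inr (rg _ (‹E.Normal›.conj_mem m hm _) _ (inv_mem hn)
        (by rw [mul_smul, mul_smul, inv_fix this, mul_smul, e.2]))⟩
  have cy := huppert_pm hp ⟨e1, e3⟩ e0 (ho.of_dvd_nat (card_subgroup_dvd_card _)) le_normalizer_of_normal hf ht
  obtain ⟨V, _, _, _, f, ρ, f1, f2, f3, f4⟩ := CfsgH9.exists_md (p := p) (H := E) (H₀ := ⊥)
    (commutator_eq_bot_iff_le_centralizer.2 (le_centralizer E)).le e3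
  have f0 : f 1 = 0 := (f3 1 (one_mem _)).2 (one_mem _)
  have fi : ∀ m ∈ E, f m⁻¹ = - f m := fun m hm => eq_neg_of_add_eq_zero_left (by rw [← f1 _ (inv_mem hm) _ hm, inv_mul_cancel, f0])
  have fj : ∀ m ∈ E, ∀ n ∈ E, f m = f n → m = n := fun m hm n hn e => mul_inv_eq_one.1 ((f3 _ (mul_mem hm (inv_mem hn))).1
    (by rw [f1 _ hm _ (inv_mem hn), fi n hn, e, add_neg_cancel]))
  haveI : Nontrivial V := ⟨f u, f 1, fun e => u1 (Subtype.ext (fj _ hu _ (one_mem _) e))⟩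
  obtain ⟨k, k0, c, ε, hε⟩ := semi_pm ρ (le_normalizer_fit (stabilizer G a)) (fit_le _) (le_centralizer _)
    (inf_centralizer_fit_le inferInstance) (fun d hd e => hf.le ⟨hd, fun n hn => (mul_inv_eq_iff_eq_mul.1
      (fj _ (‹E.Normal›.conj_mem n hn d) _ hn (by rw [f4 d n hn, e]; rfl))).symm⟩) fun v w hv hw => by
      obtain ⟨m, hm, rfl⟩ := f2 v
      obtain ⟨n, hn, rfl⟩ := f2 w
      obtain ⟨d, hd, e⟩ := ht m hm (by rintro rfl; exact hv f0) n hn (by rintro rfl; exact hw f0)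
      exact ⟨d, hd, e.imp (fun e => by rw [← f4 d m hm, e]) fun e => by rw [← f4 d m hm, e, fi n hn]⟩
  let e₀ := Equiv.ofBijective (fun n : E => f n) ⟨fun m n e => Subtype.ext (fj _ m.2 _ n.2 e),
    fun v => (f2 v).elim fun n hn => ⟨⟨n, hn.1⟩, hn.2⟩⟩
  let e₁ := Equiv.ofBijective (fun n : E => n.1 • a) ⟨fun m n e => Subtype.ext (rg _ m.2 _ n.2 e),
    fun v => (tr v).elim fun n hn => ⟨⟨n, hn.1⟩, hn.2⟩⟩
  let e := e₁.symm.trans (e₀.trans ε.toEquiv)
  have eu : ∀ n ∈ E, e (n • a) = ε (f n) := fun n hn => congrArg (fun x => ε (e₀ x)) (e₁.symm_apply_apply ⟨n, hn⟩)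
  have cα : Fintype.card α = p ^ k := by rw [← Nat.card_eq_fintype_card, ← c]; exact Nat.card_congr (e₁.symm.trans e₀)
  have p2 : p ≠ 2 := by
    rintro rfl
    exact u1 (Subtype.ext (eq_one_of_odd_of_mem e2 hu (ho.of_dvd_nat (orderOf_dvd_natCard u))))
  refine ⟨ho, p, k, inferInstance, p2, cα, ?_, e, fun g => ?_, fun b => ?_⟩
  · have := (stabilizer G (⟨{a, u • a}, Finset.card_pair ha.symm⟩ : Set.powersetCard α 2)).index_dvd_card
    rw [index_stabilizer_of_transitive, Set.powersetCard.card, Nat.card_eq_fintype_card, cα, Nat.choose_two_right] at this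
    have o := ho.of_dvd_nat this
    obtain ⟨j, hj⟩ := (hp.odd_of_ne_two p2).pow (n := k)
    rw [hj, Nat.add_sub_cancel, mul_left_comm, Nat.mul_div_cancel_left _ two_pos] at o
    obtain ⟨i, hi⟩ := Nat.Odd.of_mul_right o
    omega
  · obtain ⟨n, hn, e4⟩ := tr (g • a)
    obtain ⟨c, σ, hc⟩ := hε (n⁻¹ * g) (by rw [mem_stabilizer_iff, mul_smul, ← e4, inv_smul_smul])
    refine ⟨c, ε (f n), σ, fun x => ?_⟩
    obtain ⟨x, rfl⟩ := e.surjective x
    obtain ⟨m, hm, rfl⟩ := tr x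
    have := ‹E.Normal›.conj_mem m hm (n⁻¹ * g)
    rw [eu m hm, ← hc, ← f4 _ m hm, ← map_add, add_comm, ← f1 _ hn _ this, ← eu _ (mul_mem hn this), ← eu m hm]
    simp only [Equiv.trans_apply, Equiv.symm_apply_apply]
    refine congrArg e ?_
    simp only [mul_smul, mul_inv_rev, inv_inv, smul_inv_smul, e4, inv_smul_smul]
    rfl
  · obtain ⟨n, hn, e4⟩ := f2 (ε.symm b)
    refine ⟨n, fun x => ?_⟩
    obtain ⟨m, hm, rfl⟩ := tr x
    change e (n • m • a) = _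
    rw [← mul_smul, eu _ (mul_mem hn hm), eu _ hm, f1 _ hn _ hm, map_add, e4, ε.apply_symm_apply, add_comm]

end Cfsg.Agent.S0737
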