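import Cfsg.Statements.S0739
import Mathlib
import Cfsg.Agent.H8.Zass2

set_option autoImplicit false
open Cfsg

namespace Cfsg.Agent.S0739

/-- In a finite Zassenhaus group whose two-point stabiliser `H = G_{a,b}` has odd order `d`, and which has no normal `q`-complement for any prime `q ∣ d`, `H` is cyclic, `C_G(H) = H`, and every element swapping `a` and `b` inverts each element of `H`. -/
theorem result {G Ω : Type*} [Group G] [Finite G] [MulAction G Ω] [Fintype Ω] (hZ : Cfsg.IsZassenhausGroup G Ω) {a b : Ω} (hab : a ≠ b) (hodd : Odd (Nat.card ↥(MulAction.stabilizer G a ⊓ MulAction.stabilizer G b))) (hnil : ∀ q : ℕ, q.Prime → q ∣ Nat.card ↥(MulAction.stabilizer G a ⊓ MulAction.stabilizer G b) → ¬ ∃ N : Subgroup G, N.Normal ∧ N.index = q ^ (Nat.card G).factorization q) : IsCyclic ↥(MulAction.stabilizer G a ⊓ MulAction.stabilizer G b) ∧ Subgroup.centralizer ((MulAction.stabilizer G a ⊓ MulAction.stabilizer G b : Subgroup G) : Set G) = MulAction.stabilizer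 G a ⊓ MulAction.stabilizer G b ∧ ∀ s : G, s • a = b → s • b = a → ∀ h ∈ MulAction.stabilizer G a ⊓ MulAction.stabilizer G b, s * h * s⁻¹ = h⁻¹ := by
  have Z := CfsgH8.Z3.of_zass hZ
  obtain ⟨hc, hi⟩ := Z.inverts_of_noNPC hab hodd hnil
  refine ⟨hc, le_antisymm (fun g hg => ?_) (CfsgFT.comm_of_cyclic hc), fun s h1 h2 => hi s ⟨h1, h2⟩⟩
  obtain ⟨h, hh, h1⟩ := CfsgH8.exists_ne_one_St2 hZ hab
  have e : g * h * g⁻¹ = h := by rw [← hg h hh]; group
  refine (Z.mem_Sw_of_conj hab hh h1 (e.symm ▸ hh)).resolve_right fun hs => h1 ?_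
  rw [hi g hs h hh, inv_eq_iff_mul_eq_one] at e
  obtain ⟨m, hm⟩ := hodd
  have := congrArg Subtype.val (pow_card_eq_one' (x := (⟨h, hh⟩ : CfsgH8.St2 G a b)))
  rwa [hm, pow_succ, pow_mul, Subgroup.coe_mul, Subgroup.coe_pow, Subgroup.coe_pow, sq, e, one_pow,
    one_mul] at this

end Cfsg.Agent.S0739
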