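import Cfsg.Statements.S0744
import Mathlib
import Cfsg.Agent.H8.Perm2

set_option autoImplicit false
open Cfsg

namespace Cfsg.Agent.S0744

/-- If for some `k > 1` the pointwise stabilisers of all `(k-1)`-subsets have the same order `> 1` and those of all `k`-subsets have the same order, then the group is `(k-1)`-transitive. -/
theorem result {α : Type*} [Fintype α] [DecidableEq α] (G : Subgroup (Equiv.Perm α)) {k : ℕ} (hk : 1 < k) (hkn : k ≤ Fintype.card α) (l m : ℕ) (hl : 1 < l) (hkm1 : ∀ s : Finset α, s.card = k - 1 → Nat.card (fixingSubgroup G (s : Set α)) = l) (hkm : ∀ s : Finset α, s.card = k → Nat.card (fixingSubgroup G (s : Set α)) = m) : MulAction.IsMultiplyPretransitive G α (k - 1) := by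
  have hsub : ∀ (s : Finset α) x, fixingSubgroup G ((insert x s : Finset α) : Set α) ≤
      fixingSubgroup G (s : Set α) := fun s x => fixingSubgroup_antitone _ _ (by simp)
  obtain ⟨s, -, hs⟩ := Finset.exists_subset_card_eq (s := (Finset.univ : Finset α)) (n := k - 1)
    (by rw [Finset.card_univ]; omega)
  have hins : ∀ (s : Finset α) x, s.card = k - 1 → x ∉ s → (insert x s).card = k := fun s x hs hx => by
    rw [Finset.card_insert_of_notMem hx]; omega
  obtain ⟨x₀, hx₀⟩ : ∃ x, x ∉ s := by
    by_contra h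
    push Not at h
    have := Finset.card_le_card (show Finset.univ ⊆ s from fun x _ => h x)
    rw [Finset.card_univ] at this
    omega
  obtain ⟨d, hd⟩ : m ∣ l := hkm _ (hins s x₀ hs hx₀) ▸ hkm1 s hs ▸ Subgroup.card_dvd_of_le (hsub s x₀)
  have hd1 : d ≠ 1 := by
    rintro rfl
    have : fixingSubgroup G (s : Set α) = ⊥ := by
      refine (Subgroup.eq_bot_iff_forall _).2 fun g hg => Subtype.ext (Equiv.ext fun x => ?_)
      by_cases hx : x ∈ s
      · exact hg ⟨x, hx⟩
      · rw [← Subgroup.eq_of_le_of_card_ge (hsub s x) (by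
          rw [hkm _ (hins s x hs hx), hkm1 s hs]; omega)] at hg
        exact hg ⟨x, by simp⟩
    have h2 := hkm1 s hs
    rw [this, Subgroup.card_bot] at h2
    omega
  obtain ⟨p, hp, hpd⟩ := Nat.exists_prime_and_dvd hd1
  haveI := Fact.mk hp
  refine CfsgH8.gleason hp (by omega) (by omega) fun t ht => ?_
  obtain ⟨Q⟩ : Nonempty (Sylow p (fixingSubgroup G (t : Set α))) := inferInstance
  refine ⟨Q.1.map (Subgroup.subtype _), Q.2.map _, fun x => ⟨fun h => ?_, ?_⟩⟩
  · by_contra hx
    have h1 : Q.1.map (Subgroup.subtype _) ≤ fixingSubgroup G ((insert x t : Finset α) : Set α) := by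
      rintro g hg ⟨y, hy⟩
      rcases Finset.mem_insert.1 hy with rfl | hy
      · exact h g hg
      · obtain ⟨u, -, rfl⟩ := hg
        exact u.2 ⟨y, hy⟩
    obtain ⟨c, hc⟩ := Subgroup.card_dvd_of_le h1
    rw [hkm _ (hins t x ht hx), Subgroup.card_map_of_injective (Subgroup.subtype_injective _)] at hc
    have h2 := Q.1.card_mul_index
    rw [hkm1 t ht, hd, hc, mul_assoc, Nat.mul_right_inj Nat.card_pos.ne'] at h2
    exact Q.not_dvd_index (h2 ▸ hpd.mul_left c)
  · rintro hx _ ⟨u, -, rfl⟩
    exact u.2 ⟨x, hx⟩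

end Cfsg.Agent.S0744
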