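import Cfsg.Statements.S0752
import Cfsg.Agent.H5.Lag
import Cfsg.Agent.H5.SpMat

set_option autoImplicit false
open Cfsg

namespace Cfsg.Agent.S0752

open CfsgH5 Module

/-- Classification of alternating forms: for an alternating bilinear form B on a finite-dimensional space over any field there is a basis indexed by (Fin m ⊕ Fin m) ⊕ Fin k such that B (e_i, f_j) = δ_ij, the e's are pairwise orthogonal, the f's are pairwise orthogonal, and the last k basis vectors are orthogonal to everything (they span the radical). -/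
theorem result {F V : Type*} [Field F] [AddCommGroup V] [Module F V] [FiniteDimensional F V] (B : LinearMap.BilinForm F V) (hA : B.IsAlt) : ∃ (m k : ℕ) (b : Module.Basis ((Fin m ⊕ Fin m) ⊕ Fin k) F V), (∀ i j : Fin m, B (b (Sum.inl (Sum.inl i))) (b (Sum.inl (Sum.inr j))) = if i = j then 1 else 0) ∧ (∀ i j : Fin m, B (b (Sum.inl (Sum.inl i))) (b (Sum.inl (Sum.inl j))) = 0) ∧ (∀ i j : Fin m, B (b (Sum.inl (Sum.inr i))) (b (Sum.inl (Sum.inr j))) = 0) ∧ (∀ (j : Fin k) (v : V), B (b (Sum.inr j)) v = 0) := by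
  let S : Form (spParam F) V := Form.ofAlt (fun x y => B x y) (by simp) (by simp)
    (fun x y => (hA.neg_eq x y).symm) hA
  have hB : ∀ x y, S.B x y = B x y := fun _ _ => rfl
  obtain ⟨U, hU⟩ := (S.perp Set.univ).exists_isCompl
  have h1 : S.NondegOn U := fun x hx h => hU.disjoint.le_bot ⟨fun y _ => by
    obtain ⟨a, ha, b, hb, rfl⟩ := Submodule.mem_sup.1 (hU.sup_eq_top.ge (Submodule.mem_top (x := y)))
    rw [S.add_right, Form.perp_symm (ha x trivial), Form.perp_symm (h b hb), add_zero], hx⟩
  obtain ⟨m, e, f, h, hd⟩ := h1.res.sp_exists_hypFam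
  obtain ⟨b, hb⟩ := h.exists_basis (by simpa using hd)
  refine ⟨m, _, (b.prod (finBasis F (S.perp Set.univ))).map (Submodule.prodEquivOfIsCompl _ _ hU.symm),
    fun i j => ?_, fun i j => ?_, fun i j => ?_, fun j v => ?_⟩
  · simpa [hb, hB] using h.ef i j
  · simpa [hb, hB] using h.ee i j
  · simpa [hb, hB] using h.ff i j
  · simpa [hb, hB] using (finBasis F (S.perp Set.univ) j).2 v trivial

end Cfsg.Agent.S0752
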