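import Cfsg.Statements.S0756
import Cfsg.Agent.H5.OrthMat

set_option autoImplicit false
open Cfsg

namespace Cfsg.Agent.S0756

open CfsgH5

/-- Classification of symmetric bilinear forms over finite fields of odd characteristic: if B is non-degenerate symmetric on V of dimension n + 1 and α is a fixed non-square of F, there is an orthogonal basis b_0, ..., b_n with B(b_i, b_i) = 1 for i < n and B(b_n, b_n) ∈ {1, α}. -/
theorem result {F V : Type*} [Field F] [Finite F] [AddCommGroup V] [Module F V] [FiniteDimensional F V] (h2 : (2 : F) ≠ 0) (B : LinearMap.BilinForm F V) (hS : B.IsSymm) (hB : B.Nondegenerate) {n : ℕ} (hn : Module.finrank F V = n + 1) (α : F) (hα : ¬ IsSquare α) : ∃ b : Module.Basis (Fin (n + 1)) F V, (∀ i j, i ≠ j → B (b i) (b j) = 0) ∧ (∀ i, i ≠ Fin.last n → B (b i) (b i) = 1) ∧ (B (b (Fin.last n)) (b (Fin.last n)) = 1 ∨ B (b (Fin.last n)) (b (Fin.last n)) = α) := by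
  let S : Form (orthParam F) V := (Form.ofQF (LinearMap.BilinMap.toQuadraticMap B)).scale 2⁻¹
  have hB' : ∀ x y, S.B x y = B x y := fun x y => by
    change 2⁻¹ * QuadraticMap.polar (LinearMap.BilinMap.toQuadraticMap B) x y = _
    rw [LinearMap.BilinMap.polar_toQuadraticMap, hS.eq y x]; field_simp; ring
  have hN : S.Nondeg := fun x hx => hB.2 x fun y => by rw [← hB', hx]
  obtain ⟨b, h1, h3, h4⟩ := hN.orth_exists_basis h2 hn (fun _ => 2⁻¹) (fun _ => inv_ne_zero h2)
  have hα0 : α ≠ 0 := by rintro rfl; exact hα IsSquare.zero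
  have h5 : S.B (b (Fin.last n)) (b (Fin.last n)) ≠ 0 := by
    rw [Form.orth_self]; exact mul_ne_zero h2 (h3 _)
  obtain ⟨c, hc, h6⟩ : ∃ c : F, c ≠ 0 ∧ (c ^ 2 * S.B (b (Fin.last n)) (b (Fin.last n)) = 1 ∨
      c ^ 2 * S.B (b (Fin.last n)) (b (Fin.last n)) = α) := by
    rcases Int.units_eq_one_or (chi (S.B (b (Fin.last n)) (b (Fin.last n)))) with h | h
    · obtain ⟨c, hc, h6⟩ := exists_sq_mul_of_chi_eq h5 one_ne_zero (by rw [h, chi_one])
      exact ⟨c, hc, Or.inl h6.symm⟩
    · obtain ⟨c, hc, h6⟩ := exists_sq_mul_of_chi_eq h5 hα0 (by rw [h, chi_eq_neg_one_iff.2 hα])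
      exact ⟨c, hc, Or.inr h6.symm⟩
  refine ⟨b.isUnitSMul (w := fun i => if i = Fin.last n then c else 1)
    fun i => by split_ifs; exacts [hc.isUnit, isUnit_one], fun i j hij => ?_, fun i hi => ?_, ?_⟩
  · rw [Module.Basis.isUnitSMul_apply, Module.Basis.isUnitSMul_apply, ← hB', Form.smul_left,
      Form.orth_smul_right, h1 i j hij]; simp
  · rw [Module.Basis.isUnitSMul_apply, if_neg hi, one_smul, ← hB', Form.orth_self,
      h4 i (by have := Fin.val_lt_last hi; omega), mul_inv_cancel₀ h2]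
  · rw [Module.Basis.isUnitSMul_apply, if_pos rfl, ← hB', Form.smul_left, Form.orth_smul_right,
      ← mul_assoc, ← pow_two]
    exact h6

end Cfsg.Agent.S0756
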