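import Cfsg.Statements.S0757
import Cfsg.Agent.H5.OrthMat

set_option autoImplicit false
open Cfsg

namespace Cfsg.Agent.S0757

open CfsgH5

/-- The two diagonal forms Σ x_i^2 and Σ_(i<n) x_i^2 + α x_n^2 on F^(n+1), with α a non-square and 2 ≠ 0 in F, are inequivalent quadratic forms (so over a finite field of odd order there are exactly two classes of non-singular symmetric bilinear forms in each dimension). -/
theorem result {F : Type*} [Field F] (h2 : (2 : F) ≠ 0) (n : ℕ) (α : F) (hα : ¬ IsSquare α) : ¬ (QuadraticMap.weightedSumSquares F (fun _ : Fin (n + 1) => (1 : F))).Equivalent (QuadraticMap.weightedSumSquares F (fun i : Fin (n + 1) => if i = Fin.last n then α else (1 : F))) := by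
  rintro ⟨e⟩
  have h1 : Form.IsIsom (Form.ofQF (QuadraticMap.weightedSumSquares F (fun _ : Fin (n + 1) => (1 : F))))
      (Form.ofQF (QuadraticMap.weightedSumSquares F
        (fun i : Fin (n + 1) => if i = Fin.last n then α else (1 : F)))) e.toLinearEquiv :=
    Form.IsIsom.of_Q (j := e.toLinearEquiv.toLinearMap) fun x => by
      rw [Form.ofQF_Q, Form.ofQF_Q]; exact e.map_app x
  have key : ∀ w : Fin (n + 1) → F, ((Form.ofQF (QuadraticMap.weightedSumSquares F w)).gram
      (Pi.basisFun F (Fin (n + 1)))).det = 2 ^ (n + 1) * ∏ i, w i := by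
    intro w
    rw [Form.gram_of_orth, Matrix.det_diagonal]
    · simp [Form.orth_self, Form.ofQF_Q, QuadraticMap.weightedSumSquares_apply, Pi.single_apply,
        Finset.prod_mul_distrib]
    · intro i j hij
      simp [Form.ofQF_B, QuadraticMap.polar, QuadraticMap.weightedSumSquares_apply, Pi.single_apply,
        add_mul, mul_add, Finset.sum_add_distrib, hij, hij.symm]
  obtain ⟨c, hc, h3⟩ := Form.det_gram_basis (S := Form.ofQF (QuadraticMap.weightedSumSquares F
        (fun i : Fin (n + 1) => if i = Fin.last n then α else (1 : F))))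
    ((Pi.basisFun F (Fin (n + 1))).map e.toLinearEquiv) (Pi.basisFun F (Fin (n + 1)))
  rw [Module.Basis.coe_map, h1.gram_eq, key, key] at h3
  simp only [Finset.prod_ite_eq', Finset.mem_univ, if_true, Finset.prod_const_one, mul_one] at h3
  exact hα ⟨c, mul_left_cancel₀ (pow_ne_zero (n + 1) h2) (by rw [h3]; ring)⟩

end Cfsg.Agent.S0757
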