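import Cfsg.Statements.S0758
import Cfsg.Agent.H5.OrthMat

set_option autoImplicit false
open Cfsg

namespace Cfsg.Agent.S0758

open CfsgH5

theorem aux {F : Type*} [Field F] {α : F} (hα : α ≠ 0) :
    (∃ x y : F, (x ≠ 0 ∨ y ≠ 0) ∧ x ^ 2 + α * y ^ 2 = 0) ↔ IsSquare (-1 * α) := by
  constructor
  · rintro ⟨x, y, h1, h2⟩
    have hy : y ≠ 0 := by rintro rfl; simp_all
    exact ⟨x / y, by field_simp; linear_combination -h2⟩
  · rintro ⟨r, hr⟩
    exact ⟨r, 1, Or.inr one_ne_zero, by linear_combination -hr⟩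


/-- For a finite field F of odd order q and a non-square α: the form x² + y² is isotropic iff q ≡ 1 mod 4, and the form x² + α y² is isotropic iff q ≡ 3 mod 4. -/
theorem result {F : Type*} [Field F] [Fintype F] (h2 : (2 : F) ≠ 0) (α : F) (hα : ¬ IsSquare α) : ((∃ x y : F, (x ≠ 0 ∨ y ≠ 0) ∧ x ^ 2 + y ^ 2 = 0) ↔ Fintype.card F % 4 = 1) ∧ ((∃ x y : F, (x ≠ 0 ∨ y ≠ 0) ∧ x ^ 2 + α * y ^ 2 = 0) ↔ Fintype.card F % 4 = 3) := by
  have hα0 : α ≠ 0 := by rintro rfl; exact hα IsSquare.zero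
  have ho := odd_card_of_two_ne_zero h2
  have h1 := chi_neg_one_eq_one_iff ho
  constructor
  · rw [← h1, chi_eq_one_iff]
    simpa using aux (F := F) one_ne_zero
  · rw [aux hα0, isSquare_mul_iff_chi (by simp) hα0, chi_eq_neg_one_iff.2 hα,
      ← Int.units_ne_iff_eq_neg, Ne, h1]
    obtain ⟨k, hk⟩ := ho
    omega

end Cfsg.Agent.S0758
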