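import Cfsg.Statements.S0759
import Cfsg.Agent.H5.OrthMat

set_option autoImplicit false
open Cfsg

namespace Cfsg.Agent.S0759

open CfsgH5

/-- Type of the orthonormal form: over a finite field of odd order q and for m ≥ 1, the quadratic form Σ_(i<2m) x_i² on F^(2m) admits an m-dimensional subspace on which it vanishes identically if and only if it is not the case that q ≡ 3 (mod 4) and m is odd. -/
theorem result {F : Type*} [Field F] [Fintype F] (h2 : (2 : F) ≠ 0) (m : ℕ) (hm : 1 ≤ m) : (∃ W : Submodule F (Fin (2 * m) → F), Module.finrank F W = m ∧ ∀ w ∈ W, ∑ i, w i ^ 2 = 0) ↔ ¬ (Fintype.card F % 4 = 3 ∧ Odd m) := by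
  let S := Form.ofQF (QuadraticMap.weightedSumSquares F (fun _ : Fin (2 * m) => (1 : F)))
  have hQ : ∀ w, S.Q w = ∑ i, w i ^ 2 := fun w => by
    simp [S, Form.ofQF_Q, QuadraticMap.weightedSumSquares_apply, pow_two]
  have h1 : ∀ i j : Fin (2 * m), i ≠ j → S.B (Pi.basisFun F _ i) (Pi.basisFun F _ j) = 0 := by
    intro i j hij
    simp [S, Form.ofQF_B, QuadraticMap.polar, QuadraticMap.weightedSumSquares_apply,
      Pi.single_apply, add_mul, mul_add, Finset.sum_add_distrib, hij, hij.symm]
  have h3 : ∀ i : Fin (2 * m), S.Q (Pi.basisFun F _ i) = 1 := fun i => by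
    simp [hQ, Pi.single_apply]
  have hS : S.Nondeg := by
    rw [Form.nondeg_iff_det_gram (Pi.basisFun F _), Form.gram_of_orth h1, Matrix.det_diagonal]
    exact Finset.prod_ne_zero_iff.2 fun i _ => by rw [Form.orth_self, h3]; simpa
  have h4 := hS.isPlus_iff_disc h2 (m := m) (by simp)
  rw [Form.disc_of_orth h2 _ h1 (fun i => by rw [h3]; exact one_ne_zero)] at h4
  simp only [h3, chi_one, Finset.prod_const_one, mul_one, Fintype.card_fin, pow_mul,
    Int.units_sq, one_pow] at h4
  have ho := odd_card_of_two_ne_zero h2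
  have h5 := chi_neg_one_eq_one_iff ho
  have h6 : S.IsPlus ↔ ¬ (Fintype.card F % 4 = 3 ∧ Odd m) := by
    rw [h4, eq_comm]
    rcases Int.units_eq_one_or (chi (-1 : F)) with h | h
    · have := h5.1 h
      simp [h, this]
    · have : Fintype.card F % 4 = 3 := by
        have h7 : ¬ Fintype.card F % 4 = 1 := fun h7 => by
          rw [h5.2 h7] at h; exact absurd h (by decide)
        obtain ⟨k, hk⟩ := ho
        omega
      rw [h, neg_one_pow_eq_one_iff_even (by decide)]
      simp [this]
  rw [← h6]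
  refine exists_congr fun W => ⟨fun h => ⟨(Form.totSing_iff hQ).2 h.2, by simp [h.1]⟩,
    fun h => ⟨by simpa using h.dim, (Form.totSing_iff hQ).1 h.ts⟩⟩

end Cfsg.Agent.S0759
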