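import Cfsg.Statements.S0760
import Cfsg.Agent.H5.Hyp

set_option autoImplicit false
open Cfsg

namespace Cfsg.Agent.S0760

/-- Witt index is well defined: if Q is a quadratic form on a finite-dimensional space V over a finite field with non-degenerate polar form, and W₁, W₂ are subspaces on which Q vanishes that are maximal with this property, then W₁ and W₂ have the same dimension, and twice this dimension is at most dim V. -/
theorem result {F V : Type*} [Field F] [Finite F] [AddCommGroup V] [Module F V] [FiniteDimensional F V] (Q : QuadraticForm F V) (hQ : (QuadraticMap.polarBilin Q).Nondegenerate) (W₁ W₂ : Submodule F V) (h₁ : ∀ w ∈ W₁, Q w = 0) (h₂ : ∀ w ∈ W₂, Q w = 0) (hmax₁ : ∀ W : Submodule F V, W₁ ≤ W → (∀ w ∈ W, Q w = 0) → W = W₁) (hmax₂ : ∀ W : Submodule F V, W₂ ≤ W → (∀ w ∈ W, Q w = 0) → W = W₂) : Module.finrank F W₁ = Module.finrank F W₂ ∧ 2 * Module.finrank F W₁ ≤ Module.finrank F V := by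
  have hS : (CfsgH5.Form.ofQF Q).Nondeg := fun x hx => hQ.2 x fun y => hx y
  have t1 : (CfsgH5.Form.ofQF Q).TotSing W₁ :=
    CfsgH5.Form.totSing_orth fun w hw => by rw [CfsgH5.Form.ofQF_Q, h₁ w hw]
  have t2 : (CfsgH5.Form.ofQF Q).TotSing W₂ :=
    CfsgH5.Form.totSing_orth fun w hw => by rw [CfsgH5.Form.ofQF_Q, h₂ w hw]
  have key : ∀ {X : Submodule F V}, (CfsgH5.Form.ofQF Q).TotSing X → ∀ w ∈ X, Q w = 0 :=
    fun hX w hw => by
      rw [← CfsgH5.Form.ofQF_Q, ← CfsgH5.Form.q_eq_zero_iff]; exact hX.q w hw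
  refine ⟨?_, hS.two_mul_finrank_le t1⟩
  rcases le_total (Module.finrank F W₁) (Module.finrank F W₂) with h | h
  · obtain ⟨X, a, b, c⟩ := hS.exists_totSing_ge t1 t2 h
    rw [← c, hmax₁ X b (key a)]
  · obtain ⟨X, a, b, c⟩ := hS.exists_totSing_ge t2 t1 h
    rw [← c, hmax₂ X b (key a)]

end Cfsg.Agent.S0760
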