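import Cfsg.Statements.S0761
import Cfsg.Agent.H5.OrthMat

set_option autoImplicit false
open Cfsg

namespace Cfsg.Agent.S0761

open CfsgH5

/-- Hyperbolic partners: let B be a non-degenerate bilinear form on a finite-dimensional space, either alternating, or symmetric with 2 ≠ 0. If Z is a subspace on which B vanishes, x ∉ Z is isotropic and orthogonal to Z, then there is an isotropic y with B x y = 1 which is orthogonal to Z. -/
theorem result {F V : Type*} [Field F] [AddCommGroup V] [Module F V] [FiniteDimensional F V] (B : LinearMap.BilinForm F V) (hB : B.Nondegenerate) (hform : B.IsAlt ∨ (B.IsSymm ∧ (2 : F) ≠ 0)) (x : V) (Z : Submodule F V) (hxZ : x ∉ Z) (hx : B x x = 0) (hxz : ∀ z ∈ Z, B x z = 0) (hZ : ∀ z ∈ Z, ∀ z' ∈ Z, B z z' = 0) : ∃ y : V, B y y = 0 ∧ B x y = 1 ∧ ∀ z ∈ Z, B z y = 0 := by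
  rcases hform with hA | ⟨hS, h2⟩
  · let S : Form (spParam F) V := Form.ofAlt (fun x y => B x y) (by simp) (by simp)
      (fun x y => (hA.neg_eq x y).symm) hA
    have hN : S.Nondeg := fun x hx => hB.2 x hx
    obtain ⟨y, -, h1, h3⟩ := hN.exists_hyp Z (S.sp_q x) hxZ fun w hw => Form.perp_symm (hxz w hw)
    exact ⟨y, hA y, h1, h3⟩
  · let S : Form (orthParam F) V := (Form.ofQF (LinearMap.BilinMap.toQuadraticMap B)).scale 2⁻¹
    have hB' : ∀ x y, S.B x y = B x y := fun x y => by
      change 2⁻¹ * QuadraticMap.polar (LinearMap.BilinMap.toQuadraticMap B) x y = _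
      rw [LinearMap.BilinMap.polar_toQuadraticMap, hS.eq y x]; field_simp; ring
    have hN : S.Nondeg := fun x hx => hB.2 x fun y => by rw [← hB', hx]
    obtain ⟨y, h0, h1, h3⟩ := hN.exists_hyp Z ((orthParam_isMax h2).q_eq_zero S (by rw [hB', hx]))
      hxZ fun w hw => Form.perp_symm (by rw [hB', hxz w hw])
    exact ⟨y, by rw [← hB', Form.self_zero h0], by rw [← hB', h1], fun z hz => by rw [← hB', h3 z hz]⟩

end Cfsg.Agent.S0761
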