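import Cfsg.Statements.S0763
import Cfsg.Agent.H5.OrthMat

set_option autoImplicit false
open Cfsg

namespace Cfsg.Agent.S0763

open CfsgH5

/-- Binary quadratic forms in characteristic two over a finite field: if Q is a quadratic form on a 2-dimensional space whose polar form is non-degenerate, then either there are vectors v, w with Q v = Q w = 0 and polar value 1 (Q is xy in these coordinates), or there are v, w and μ with Q v = 1, Q w = μ, polar value 1 and x² + x + μ without roots in F (Q is x² + xy + μy²). -/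
theorem result {F V : Type*} [Field F] [Finite F] [CharP F 2] [AddCommGroup V] [Module F V] (Q : QuadraticForm F V) (h2 : Module.finrank F V = 2) (hQ : (QuadraticMap.polarBilin Q).Nondegenerate) : (∃ v w : V, LinearIndependent F ![v, w] ∧ Q v = 0 ∧ Q w = 0 ∧ QuadraticMap.polar Q v w = 1) ∨ (∃ (v w : V) (μ : F), LinearIndependent F ![v, w] ∧ (∀ x : F, x ^ 2 + x + μ ≠ 0) ∧ Q v = 1 ∧ Q w = μ ∧ QuadraticMap.polar Q v w = 1) := by
  have : FiniteDimensional F V := Module.finite_of_finrank_eq_succ h2
  have hS := Form.ofQF_nondeg hQ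
  by_cases ha : ∀ x, (Form.ofQF Q).Q x = 0 → x = 0
  · obtain ⟨μ, hμ⟩ := exists_irred F
    obtain ⟨b, h3, h4, h5⟩ := Form.exists_aniso_basis ha h2 hμ
    refine Or.inr ⟨b 0, b 1, μ, ?_, hμ, by rwa [← Form.ofQF_Q], by rwa [← Form.ofQF_Q], h4⟩
    convert b.linearIndependent
    ext i; fin_cases i <;> rfl
  · push Not at ha
    obtain ⟨e, he, he0⟩ := ha
    obtain ⟨f, h⟩ := hS.exists_hyp' ((Form.q_eq_zero_iff _).2 he) he0
    exact Or.inl ⟨e, f, h.linearIndependent, by rw [← Form.ofQF_Q, h.Qe],
      by rw [← Form.ofQF_Q, h.Qf], h.ef⟩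

end Cfsg.Agent.S0763
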