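import Cfsg.Statements.S0767
import Cfsg.Agent.H5.SpMat

set_option autoImplicit false
open Cfsg

namespace Cfsg.Agent.S0767

/-- The root group of a point: T_v(c) T_v(d) = T_v(c + d), and for A in the symplectic group with A v = a v, the conjugate A T_v(c) A⁻¹ is again some T_v(d). -/
theorem result {F : Type*} [Field F] (m : ℕ) (v : Fin m ⊕ Fin m → F) : (∀ c d : F, Cfsg.sympTransvection m v c * Cfsg.sympTransvection m v d = Cfsg.sympTransvection m v (c + d)) ∧ ∀ (A : Matrix (Fin m ⊕ Fin m) (Fin m ⊕ Fin m) F) (a : F), A ∈ Matrix.symplecticGroup (Fin m) F → A.mulVec v = a • v → ∀ c : F, ∃ d : F, A * Cfsg.sympTransvection m v c * A⁻¹ = Cfsg.sympTransvection m v d := by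
  refine ⟨fun c d => CfsgH5.mat_ext fun x => ?_, fun A a hA hv c => ⟨a ^ 2 * c, ?_⟩⟩
  · rw [← Matrix.mulVec_mulVec]
    simp only [CfsgH5.sympTransvection_mulVec]
    exact LinearEquiv.congr_fun ((CfsgH5.spForm m F).tv_mul v c d) x
  · have h1 := (CfsgH5.spForm m F).conj_tv (CfsgH5.spHom_mem m ⟨A, hA⟩) v c
    rw [CfsgH5.spHom_apply, hv, CfsgH5.Form.tv_smul, ← CfsgH5.spHom_transvection,
      ← CfsgH5.spHom_transvection, ← map_inv, ← map_mul, ← map_mul] at h1
    have h2 := congr_arg Subtype.val (CfsgH5.spHom_inj m h1)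
    rw [Submonoid.coe_mul, SymplecticGroup.coe_inv'] at h2
    exact h2

end Cfsg.Agent.S0767
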