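import Cfsg.Statements.S0768
import Cfsg.Agent.H5.SpMat

set_option autoImplicit false
open scoped LinearAlgebra.Projectivization
open Cfsg

namespace Cfsg.Agent.S0768

open CfsgH5

/-- Primitivity: for m ≥ 1 and F finite, the symplectic group of the form sympForm (as a subgroup of the general linear group) acts primitively on the projective space of F^(2m). -/
theorem result {F : Type*} [Field F] [Finite F] (m : ℕ) (hm : 1 ≤ m) : MulAction.IsPreprimitive ↥(Cfsg.spGL m F) (ℙ F (Fin m ⊕ Fin m → F)) := by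
  have hS := spForm_nondeg (F := F) m
  have hm' : ∀ g : spGL m F, glEquiv _ F g ∈ (spForm m F).isom := fun g => (spGL_eq m).le g.2
  have ex : ∀ g ∈ (spForm m F).isom, ∃ A : spGL m F, glEquiv _ F A = g := fun g hg =>
    ⟨⟨(glEquiv _ F).symm g, (spGL_eq m).ge (by simpa using hg)⟩, by simp⟩
  haveI : MulAction.IsPretransitive (spGL m F) (ℙ F (Fin m ⊕ Fin m → F)) := ⟨fun x y => by
    obtain ⟨g, h1, h2⟩ := hS.witt_vec x.rep_nonzero y.rep_nonzero (spParam_eq _ _)
    obtain ⟨A, rfl⟩ := ex g h1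
    exact ⟨A, by rw [← x.mk_rep, ← y.mk_rep]; exact congr(Projectivization.mk F $h2 _)⟩⟩
  have h := (spForm_hypFam (F := F) m).isHyp ⟨0, hm⟩
  generalize (Pi.single _ _ : Fin m ⊕ Fin m → F) = e at h
  generalize (Pi.single _ _ : Fin m ⊕ Fin m → F) = f at h
  have hne : Projectivization.mk F f h.ne_right ≠ Projectivization.mk F e h.ne_left := fun k => by
    obtain ⟨c, rfl⟩ := (Projectivization.mk_eq_mk_iff' ..).1 k
    simpa [h.ee] using h.ef
  haveI : Nontrivial (ℙ F (Fin m ⊕ Fin m → F)) := ⟨_, _, hne⟩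
  have hs : ∀ g : spGL m F, g ∈ MulAction.stabilizer _ (Projectivization.mk F e h.ne_left) ↔
      glEquiv _ F g.1 ∈ stab F (Submodule.span F {e} : Set _) := fun g => by
    rw [mem_stab_iff_map, Submodule.map_span, Set.image_singleton, MulAction.mem_stabilizer_iff,
      ← Projectivization.submodule_injective.eq_iff]
    rfl
  refine (MulAction.isCoatom_stabilizer_iff_preprimitive _ (Projectivization.mk F e h.ne_left)).1
    ⟨fun k => ?_, fun K hK => ?_⟩
  · obtain ⟨g, hg⟩ := MulAction.exists_smul_eq (spGL m F) (Projectivization.mk F e h.ne_left) (Projectivization.mk F f h.ne_right)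
    exact hne (hg.symm.trans (k.ge trivial))
  · obtain ⟨g, h1, h2⟩ := SetLike.exists_of_lt hK
    have := hS.EG_le_of_parabolic (Form.totSing_span h.qe) (.inl Form.sp_Λ)
      (K := K.map ((glEquiv _ F).toMonoidHom.comp (spGL m F).subtype)) (fun k hk => by
        obtain ⟨A, rfl⟩ := ex k (Form.EG_le_isom hk.2)
        exact ⟨A, hK.le ((hs A).2 hk.1), rfl⟩) ⟨g, h1, rfl⟩ (hm' g) (mt (hs g).2 h2)
    refine eq_top_iff.2 fun x _ => ?_
    obtain ⟨y, h3, h4⟩ := this (hS.sp_EG ▸ hm' x)
    exact Subtype.ext ((glEquiv _ F).injective h4) ▸ h3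

end Cfsg.Agent.S0768
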