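import Cfsg.Statements.S0769
import Cfsg.Agent.H1.Basic

set_option autoImplicit false
open Cfsg

namespace Cfsg.Agent.S0769

/-- Order of the Borel subgroup of GL_n(q): the invertible lower-triangular n × n matrices over a field with q elements number q^(n(n-1)/2) (q-1)^n (unitriangular part times the diagonal torus). -/
theorem result {F : Type*} [Field F] [Fintype F] {q : ℕ} (hF : Fintype.card F = q) (n : ℕ) : Nat.card {g : Matrix.GeneralLinearGroup (Fin n) F // ∀ i j : Fin n, i < j → (g : Matrix (Fin n) (Fin n) F) i j = 0} = q ^ (n * (n - 1) / 2) * (q - 1) ^ n := by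
  classical
  subst hF
  let c : Fin n → Fin n → F → Prop := fun i j x => (i < j → x = 0) ∧ (i = j → x ≠ 0)
  have d : ∀ M : Matrix (Fin n) (Fin n) F, (∀ i j, i < j → M i j = 0) → M.det = ∏ i, M i i := fun M h =>
    Matrix.det_of_isLowerTriangular M fun i j hij => h i j hij
  have e : {g : Matrix.GeneralLinearGroup (Fin n) F // ∀ i j : Fin n, i < j → (g : Matrix (Fin n) (Fin n) F) i j = 0} ≃
      ∀ i j, {x // c i j x} :=
    { toFun := fun g i j => ⟨g.1.1 i j, g.2 i j, by
        rintro rfl
        exact Finset.prod_ne_zero_iff.1 ((d _ g.2).symm.trans_ne g.1.det_ne_zero) i (Finset.mem_univ _)⟩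
      invFun := fun x => ⟨Matrix.GeneralLinearGroup.mkOfDetNeZero (Matrix.of fun i j => (x i j).1) 
        ((d _ fun i j => (x i j).2.1).trans_ne (Finset.prod_ne_zero_iff.2 fun i _ => (x i i).2.2 rfl)), fun i j => (x i j).2.1⟩
      left_inv := fun g => Subtype.ext (Units.ext rfl)
      right_inv := fun x => rfl }
  have h : ∀ i j, Nat.card {x // c i j x} =
      (if j < i then Fintype.card F else 1) * if i = j then Fintype.card F - 1 else 1 := fun i j => by
    rcases lt_trichotomy i j with h | rfl | h
    · simp [c, h, h.ne, h.le]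
    · simp [c]
    · simp [c, h, h.ne', h.le]
  rw [Nat.card_congr e, Nat.card_pi]
  simp only [Nat.card_pi, h, Finset.prod_mul_distrib, Finset.prod_ite, Finset.prod_const, one_pow, mul_one]
  rw [Finset.prod_pow_eq_pow_sum, Finset.prod_pow_eq_pow_sum, ← Finset.sum_range_id, ← Fin.sum_univ_eq_sum_range (fun i => i)]
  simp [Finset.filter_gt_eq_Iio, Finset.filter_eq]

end Cfsg.Agent.S0769
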