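import Cfsg.Statements.S0770
import Cfsg.Agent.H5.Mat

set_option autoImplicit false
open Cfsg

namespace Cfsg.Agent.S0770

open CfsgH5 Matrix

/-- For a field with at least 3 elements, an invertible matrix normalises the subgroup of invertible diagonal matrices of GL_n if and only if it is monomial (exactly one non-zero entry in each row). -/
theorem result {F : Type*} [Field F] (hF : ∃ a : F, a ≠ 0 ∧ a ≠ 1) (n : ℕ) (g : Matrix.GeneralLinearGroup (Fin n) F) : g ∈ Subgroup.normalizer ((Units.map (Matrix.diagonalRingHom (Fin n) F).toMonoidHom).range : Subgroup (Matrix.GeneralLinearGroup (Fin n) F)) ↔ ∀ i : Fin n, ∃! j : Fin n, (g : Matrix (Fin n) (Fin n) F) i j ≠ 0 := by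
  classical
  obtain ⟨a, h0, h1⟩ := hF
  have hT : ∀ x : GL (Fin n) F, x ∈ (Units.map (Matrix.diagonalRingHom (Fin n) F).toMonoidHom).range ↔
      ∃ d, x.1 = diagonal d := fun x => ⟨fun ⟨d, h⟩ => ⟨d.1, h ▸ rfl⟩, fun ⟨d, h⟩ => by
        have := x.isUnit
        rw [h, isUnit_diagonal] at this
        exact ⟨this.unit, Units.ext h.symm⟩⟩
  have hr : ∀ (g : GL (Fin n) F) i, ∃ j, g.1 i j ≠ 0 := fun g i => by
    by_contra! h
    exact g.det_ne_zero (det_eq_zero_of_row_eq_zero i h)
  refine ⟨fun h i => (hr g i).imp fun j hj => ⟨hj, fun k hk => by_contra fun e => ?_⟩, fun h => ?_⟩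
  · obtain ⟨d, hd⟩ := (hT _).1 ((h _).1 ⟨(isUnit_iff_exists_inv.2 ⟨Function.update (1 : Fin n → F) j a⁻¹, by
      ext l; by_cases l = j <;> simp [*]⟩ : IsUnit (Function.update (1 : Fin n → F) j a)).unit, rfl⟩)
    have h2 := congrArg (· * g.1) hd
    simp only [Units.val_mul, Units.inv_mul_cancel_right] at h2
    have h3 := congrFun₂ h2 i j
    have h4 := congrFun₂ h2 i k
    simp [e, hk, mul_comm (d i), hj] at h3 h4
    exact h1 (by first | exact h3.trans h4 | exact h3.symm.trans h4 | exact (h4.symm.trans h3).symm)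
  · choose σ h2 h3 using h
    have h4 : ∀ d : Fin n → F, g.1 * diagonal d = diagonal (d ∘ σ) * g.1 := fun d => by
      ext i j
      by_cases e : g.1 i j = 0
      · simp [e]
      · simp [h3 i j e, mul_comm]
    have h5 : Function.Bijective σ := Finite.surjective_iff_bijective.1 fun j => by
      by_contra! h
      exact g.det_ne_zero (det_eq_zero_of_column_eq_zero j fun i => by_contra fun e => h i (h3 i j e).symm)
    intro x
    refine (hT x).trans (Iff.trans ?_ (hT _).symm)
    refine ⟨fun ⟨d, e⟩ => ⟨d ∘ σ, by simp [e, h4]⟩, fun ⟨d, e⟩ => ⟨d ∘ (Equiv.ofBijective σ h5).symm, ?_⟩⟩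
    refine g.isUnit.mul_left_cancel ?_
    rw [h4, show (d ∘ (Equiv.ofBijective σ h5).symm) ∘ σ = d from funext fun i => by
      exact congrArg d ((Equiv.ofBijective σ h5).symm_apply_apply i), ← e]
    simp

end Cfsg.Agent.S0770
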