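import Cfsg.Statements.S0772
import Cfsg.Agent.H5.LinMat

set_option autoImplicit false
open Cfsg

namespace Cfsg.Agent.S0772

/-- Maximal parabolics are maximal: over a finite field, for 0 < k < n the stabiliser in GL_n of the span of the first k coordinate vectors is a maximal proper subgroup. -/
theorem result {F : Type*} [Field F] [Finite F] (n k : ℕ) (hk0 : 0 < k) (hkn : k < n) : IsCoatom (Cfsg.stabilizing (Cfsg.glToMat (Fin n) F) {v : Fin n → F | ∀ i : Fin n, k ≤ (i : ℕ) → v i = 0}) := by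
  rw [CfsgH5.stabilizing_gl_eq]
  refine CfsgH5.isCoatom_comap _ ?_
  have hd := CfsgH5.finrank_coordSub (F := F) hkn.le
  have h0 : CfsgH5.coordSub F n k ≠ ⊥ := fun h => by rw [h, finrank_bot] at hd; omega
  have h1 : CfsgH5.coordSub F n k ≠ ⊤ := fun h => by rw [h, finrank_top] at hd; simp at hd; omega
  change IsCoatom (CfsgH5.stab F (CfsgH5.coordSub F n k : Set (Fin n → F)))
  refine ⟨fun h => CfsgH5.sl_not_le_stab h0 h1 (h ▸ le_top), fun K hK => ?_⟩
  obtain ⟨g, hg, hn⟩ := SetLike.exists_of_lt hK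
  have h2 := CfsgH5.sl_le_of_parabolic (inf_le_left.trans hK.le) hg hn
  rw [eq_top_iff]
  intro a _
  obtain ⟨d, h3, h4⟩ := CfsgH5.exists_det_fix h1 (inv_ne_zero (CfsgH5.det_ne_zero' a))
  refine (K.mul_mem_cancel_right (hK.le (CfsgH5.fixer_le_stab _ h3))).1 (h2 (CfsgH5.mem_slSub.2 ?_))
  rw [CfsgH5.det_mul', h4, mul_inv_cancel₀ (CfsgH5.det_ne_zero' a)]

end Cfsg.Agent.S0772
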