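import Cfsg.Statements.S0773
import Cfsg.Agent.H5.Rk1

set_option autoImplicit false
open Cfsg

namespace Cfsg.Agent.S0773

open CfsgH5 Matrix

/-- The stabilisers in GL_n(F), F finite, of the coordinate subspaces of dimensions k and n − k are isomorphic groups, but when 2k ≠ n (and 0 < k < n) no element of GL_n conjugates one onto the other. -/
theorem result {F : Type*} [Field F] [Finite F] (n k : ℕ) (hk0 : 0 < k) (hkn : k < n) (h2 : 2 * k ≠ n) : Nonempty (↥(Cfsg.stabilizing (Cfsg.glToMat (Fin n) F) {v : Fin n → F | ∀ i : Fin n, k ≤ (i : ℕ) → v i = 0}) ≃* ↥(Cfsg.stabilizing (Cfsg.glToMat (Fin n) F) {v : Fin n → F | ∀ i : Fin n, n - k ≤ (i : ℕ) → v i = 0})) ∧ ∀ g : Matrix.GeneralLinearGroup (Fin n) F, (Cfsg.stabilizing (Cfsg.glToMat (Fin n) F) {v : Fin n → F | ∀ i : Fin n, k ≤ (i : ℕ) → v i = 0}).map (MulAut.conj g).toMonoidHom ≠ Cfsg.stabilizing (Cfsg.glToMat (Fin n) F) {v : Fin n → F | ∀ i : Fin n, n - k ≤ (i : ℕ) → v i = 0}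 := by
  have h1 : ∀ k, k ≤ n → ∀ g : GL (Fin n) F, g ∈ Cfsg.stabilizing (Cfsg.glToMat (Fin n) F)
      {v : Fin n → F | ∀ i : Fin n, k ≤ (i : ℕ) → v i = 0} ↔
        ∀ i j : Fin n, k ≤ (i : ℕ) → (j : ℕ) < k → g.1 i j = 0 := fun k hk g => by
    refine ⟨fun h i j hi hj => ?_, fun h => mem_stab_of_le (W := coordSub F n k) (g := glEquiv _ F g)
      fun v hv i hi => show ∑ j, g.1 i j * v j = 0 from Finset.sum_eq_zero fun j _ => ?_⟩
    · simpa using (h (Pi.single j 1)).1 (fun l hl => Pi.single_eq_of_ne (by omega) _) i hi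
    · by_cases e : (j : ℕ) < k
      · simp [h i j hi e]
      · simp [hv j (by omega)]
  let τ : GL (Fin n) F →* GL (Fin n) F := MonoidHom.mk' (fun g => ⟨(g⁻¹).1ᵀ.submatrix Fin.rev Fin.rev,
    g.1ᵀ.submatrix Fin.rev Fin.rev, by
      rw [show Fin.rev = ⇑(Fin.revPerm (n := n)) from rfl, submatrix_mul_equiv, ← transpose_mul]; simp, by
      rw [show Fin.rev = ⇑(Fin.revPerm (n := n)) from rfl, submatrix_mul_equiv, ← transpose_mul]; simp⟩)
    fun a b => Units.ext (by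
      show (_ : Matrix _ _ F) = _ * _
      simp only [show Fin.rev = ⇑(Fin.revPerm (n := n)) from rfl, submatrix_mul_equiv,
        ← transpose_mul, _root_.mul_inv_rev, Units.val_mul])
  have h2 : ∀ g, τ (τ g) = g := fun g => Units.ext (by ext i j; exact congrArg₂ g.1 i.rev_rev j.rev_rev)
  have h3 : ∀ k l, k + l = n → ∀ g ∈ Cfsg.stabilizing (Cfsg.glToMat (Fin n) F)
      {v : Fin n → F | ∀ i : Fin n, k ≤ (i : ℕ) → v i = 0}, τ g ∈ Cfsg.stabilizing (Cfsg.glToMat (Fin n) F)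
      {v : Fin n → F | ∀ i : Fin n, l ≤ (i : ℕ) → v i = 0} := fun k l e g hg =>
    (h1 l (by omega) _).2 fun i j hi hj => (h1 k (by omega) _).1 (inv_mem hg) j.rev i.rev
      (by simp; omega) (by simp; omega)
  refine ⟨⟨⟨⟨fun g => ⟨τ g, h3 k _ (by omega) _ g.2⟩, fun g => ⟨τ g, h3 _ k (by omega) _ g.2⟩,
    fun g => Subtype.ext (h2 g), fun g => Subtype.ext (h2 g)⟩, fun a b => Subtype.ext (map_mul τ _ _)⟩⟩,
    fun g hg => ?_⟩
  have h4 := finrank_coordSub (F := F) hkn.le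
  have h5 := (LinearEquiv.finrank_map_eq (glEquiv _ F g) _).trans h4
  have h6 := eq_of_stab_le (W := coordSub F n (n - k))
    (U := (coordSub F n k).map (glEquiv _ F g : (Fin n → F) →ₗ[F] _)) (fun a ha => by
      obtain ⟨a, rfl⟩ := (glEquiv _ F).surjective a
      obtain ⟨b, hb, rfl⟩ := hg.ge ha
      refine mem_stab_of_le ?_
      rintro _ ⟨v, hv, rfl⟩
      exact ⟨_, (hb v).1 hv, by
        change _ = glEquiv _ F (g * b * g⁻¹) (glEquiv _ F g v)
        rw [← LinearEquiv.mul_apply, ← map_mul, inv_mul_cancel_right, map_mul]; rfl⟩)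
    (fun e => by rw [e, finrank_bot] at h5; omega) fun e => by rw [e] at h5; simp at h5; omega
  rw [h6, finrank_coordSub (by omega)] at h5
  omega

end Cfsg.Agent.S0773
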