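import Cfsg.Statements.S0774
import Cfsg.Agent.H5.Rk1
import Cfsg.Agent.S0769

set_option autoImplicit false
open Cfsg

namespace Cfsg.Agent.S0774

open CfsgH5 Matrix

/-- Borel subgroup of the symplectic group: the elements of Sp_2m(q) stabilising each of the totally isotropic coordinate subspaces ⟨e_0, ..., e_k⟩ (k < m) form a subgroup of order q^(m²) (q − 1)^m. -/
theorem result {F : Type*} [Field F] [Fintype F] {q : ℕ} (hF : Fintype.card F = q) (m : ℕ) : Nat.card ↥(⨅ k : Fin m, Cfsg.stabilizing (Cfsg.spToMat m F) {v : Fin m ⊕ Fin m → F | (∀ i : Fin m, (k : ℕ) < (i : ℕ) → v (Sum.inl i) = 0) ∧ ∀ i : Fin m, v (Sum.inr i) = 0}) = q ^ (m ^ 2) * (q - 1) ^ m := by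
  have hS := spForm_nondeg (F := F) m
  have h := spForm_hypFam' (F := F) m
  let W := Submodule.span F (Set.range fun i : Fin m => (Pi.single (.inl i) 1 : Fin m ⊕ Fin m → F))
  let b : Module.Basis (Fin m) F W := Module.Basis.span h.linearIndependent_left
  have hb : ∀ i, (b i).1 = Pi.single (.inl i) 1 := fun i => congrArg Subtype.val (Module.Basis.span_apply _ i)
  have h0 : ∀ (w : W) i, w.1 (.inl i) = b.repr w i ∧ w.1 (.inr i) = 0 := fun w i => by
    conv_lhs => rw [← b.sum_repr w]
    conv_rhs => rw [← b.sum_repr w]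
    simp [hb, Pi.single_apply, -Module.Basis.sum_repr]
  let X : Fin m → Submodule F (Fin m ⊕ Fin m → F) := fun k =>
    { carrier := {v | (∀ i : Fin m, (k : ℕ) < (i : ℕ) → v (Sum.inl i) = 0) ∧ ∀ i : Fin m, v (Sum.inr i) = 0}
      zero_mem' := by simp
      add_mem' := fun ha hb => ⟨fun i hi => by simp [ha.1 i hi, hb.1 i hi], fun i => by simp [ha.2, hb.2]⟩
      smul_mem' := fun c _ ha => ⟨fun i hi => by simp [ha.1 i hi], fun i => by simp [ha.2]⟩ }
  have h1 : ∀ k, X k ≤ W := fun k v hv => by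
    rw [pi_eq_sum_univ' v, Fintype.sum_sum_type]
    simp only [hv.2, zero_smul, Finset.sum_const_zero, add_zero]
    exact Submodule.sum_mem _ fun i _ => Submodule.smul_mem _ _ (Submodule.subset_span ⟨i, rfl⟩)
  let H : Subgroup (W ≃ₗ[F] W) := ⨅ k, stab F ((X k).comap W.subtype : Set W)
  have h2 : Nat.card H = q ^ (m * (m - 1) / 2) * (q - 1) ^ m := by
    rw [← Cfsg.Agent.S0769.result hF m]
    let e := ((glEquiv _ F).trans (conjEquiv b.equivFun.symm))
    refine Nat.card_congr (Equiv.subtypeEquiv (e.symm.toEquiv.trans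
      ⟨fun g => ⟨g.1ᵀ, g.2ᵀ, by rw [← transpose_mul]; simp, by rw [← transpose_mul]; simp⟩,
        fun g => ⟨g.1ᵀ, g.2ᵀ, by rw [← transpose_mul]; simp, by rw [← transpose_mul]; simp⟩,
        fun _ => rfl, fun _ => rfl⟩) fun g => ?_)
    obtain ⟨g, rfl⟩ := e.surjective g
    simp only [H, Subgroup.mem_iInf]
    refine ⟨fun h i j hij => ?_, fun h k => mem_stab_of_le fun v hv => ⟨fun i hi => ?_, fun i => (h0 _ i).2⟩⟩
    · have := (stab_apply (h i) (v := b i) ⟨fun l hl => by
        simp [hb, Pi.single_apply]; omega, fun l => (h0 _ l).2⟩).1 j hij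
      simpa [(h0 _ _).1, e, mulVec, dotProduct, Finsupp.single_apply] using this
    · simp only [Submodule.subtype_apply, (h0 _ _).1, e, MulEquiv.trans_apply, conjEquiv_apply,
        LinearEquiv.symm_symm, glEquiv_apply, ← b.equivFun_apply, LinearEquiv.apply_symm_apply]
      refine show ∑ j, g.1 i j * b.equivFun v j = 0 from Finset.sum_eq_zero fun j _ => ?_
      by_cases e : (k : ℕ) < j
      · rw [b.equivFun_apply, ← (h0 _ _).1, show v.1 _ = 0 from hv.1 j e, mul_zero]
      · rw [show g.1 i j = 0 by simpa using h j i (by omega), zero_mul]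
  have h3 : Nat.card (spParam F).Λ = Nat.card F := Nat.card_congr AddSubgroup.topEquiv.toEquiv
  have h4 := h.finrank_perp
  have h5 := hS.card_stab W H (fun g _ => (spParam_isMax.mem_isom _).2 fun x y =>
    (h.totSing_left.B _ (g x).2 _ (g y).2).trans (h.totSing_left.B _ x.2 _ y.2).symm)
    ((⨅ k, stab F (X k : Set (Fin m ⊕ Fin m → F))) ⊓ (spForm m F).isom) fun g => by
      simp only [H, Subgroup.mem_inf, Subgroup.mem_iInf]
      refine ⟨fun ⟨a, c⟩ => ⟨c, mem_stab_of_le fun v hv => ?_, fun k =>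
        mem_stab_of_le fun v hv => stab_apply (a k) hv⟩, fun ⟨c, a, d⟩ => ⟨fun k =>
          mem_stab_of_le fun v hv => stab_apply (d k) (v := ⟨v, h1 k hv⟩) hv, c⟩⟩
      refine (Submodule.span_le (p := W.comap g.toLinearMap)).2 ?_ hv
      rintro _ ⟨i, rfl⟩
      exact h1 i (stab_apply (a i) ⟨fun l hl => by simp [Pi.single_apply]; omega, by simp⟩)
  rw [hS.card_fixer_hypFam h, Form.sp_card 0 (h.nondegOn_perp hS).res (by simp at h4; omega), h2, h3,
    Nat.card_eq_fintype_card (α := F), hF, finrank_sp, ← range_spHom,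
    ← card_comap_of_inj _ (spHom_inj m), Subgroup.comap_iInf] at h5
  refine h5.trans ?_
  have a4 : m ^ 2 = m * (m - 1) / 2 + (m * (m - 1) / 2 + m) := by
    have := Nat.mul_div_cancel' (Nat.even_mul_pred_self m).two_dvd
    rcases m with _ | m
    · simp
    · simp only [Nat.add_sub_cancel] at *; nlinarith
  rw [a4]
  simp
  ring

end Cfsg.Agent.S0774
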