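import Cfsg.Statements.S0775
import Cfsg.Agent.H5.SpMat

set_option autoImplicit false
open Cfsg

namespace Cfsg.Agent.S0775

/-- Maximal parabolics of the symplectic group: if W is a k-dimensional subspace of F^(2m) on which the symplectic form vanishes identically, its stabiliser in Sp_2m(q) has order q^(k(k+1)/2 + 2k(m−k)) · |Sp_(2m−2k)(q)| · |GL_k(q)|. -/
theorem result {F : Type*} [Field F] [Fintype F] {q : ℕ} (hF : Fintype.card F = q) (m k : ℕ) (hk : k ≤ m) (W : Submodule F (Fin m ⊕ Fin m → F)) (hWk : Module.finrank F W = k) (hW : ∀ u ∈ W, ∀ v ∈ W, Cfsg.sympForm m F u v = 0) : Nat.card ↥(Cfsg.stabilizing (Cfsg.spToMat m F) (W : Set (Fin m ⊕ Fin m → F))) = q ^ (k * (k + 1) / 2 + 2 * k * (m - k)) * (q ^ ((m - k) ^ 2) * ∏ i ∈ Finset.range (m - k), (q ^ (2 * (i + 1)) - 1)) * ∏ i : Fin k, (q ^ k - q ^ (i : ℕ)) := by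
  have hS := CfsgH5.spForm_nondeg (F := F) m
  have hW' : (CfsgH5.spForm m F).TotSing W := CfsgH5.Form.totSing_of_isMax CfsgH5.spParam_isMax hW
  obtain ⟨e, f, h, rfl⟩ := hS.exists_hypFam_span' hW' hWk
  have h1 := h.finrank_perp
  have h3 : Nat.card (CfsgH5.spParam F).Λ = Nat.card F := Nat.card_congr AddSubgroup.topEquiv.toEquiv
  rw [CfsgH5.finrank_sp, Fintype.card_fin] at h1
  rw [CfsgH5.stabilizing_sp_eq, CfsgH5.card_comap_of_inj _ (CfsgH5.spHom_inj m), CfsgH5.range_spHom,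
    hS.card_stab_totSing hW', hS.card_fixer_hypFam h, CfsgH5.Form.card_linearEquiv_eq_card_GL, hWk,
    Matrix.card_GL_field, CfsgH5.Form.sp_card (m - k) (h.nondegOn_perp hS).res (by omega), h3,
    CfsgH5.finrank_sp, Nat.card_eq_fintype_card, hF]
  have a4 : k * (k + 1) / 2 = k * (k - 1) / 2 + k := by
    have := Nat.choose_two_right (k + 1)
    rw [Nat.choose_succ_succ' k 1, Nat.choose_two_right, Nat.add_sub_cancel, mul_comm (k + 1)] at this
    simp only [Nat.choose_one_right] at this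
    omega
  rw [a4, ← Nat.mul_sub]
  ring

end Cfsg.Agent.S0775
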