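import Cfsg.Statements.S0776
import Cfsg.Agent.H5.SpMat

set_option autoImplicit false
open Cfsg

namespace Cfsg.Agent.S0776

/-- If W ≤ F^(2m) is a 2k-dimensional subspace on which the symplectic form is non-degenerate, then the stabiliser of W in Sp_2m(F) is isomorphic to Sp_2k(F) × Sp_(2m−2k)(F). -/
theorem result {F : Type*} [Field F] (m k : ℕ) (hk : k ≤ m) (W : Submodule F (Fin m ⊕ Fin m → F)) (hWk : Module.finrank F W = 2 * k) (hW : ∀ u ∈ W, (∀ v ∈ W, Cfsg.sympForm m F u v = 0) → u = 0) : Nonempty (↥(Cfsg.stabilizing (Cfsg.spToMat m F) (W : Set (Fin m ⊕ Fin m → F))) ≃* Matrix.symplecticGroup (Fin k) F × Matrix.symplecticGroup (Fin (m - k)) F) := by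
  have hS := CfsgH5.spForm_nondeg (F := F) m
  have hW' : (CfsgH5.spForm m F).NondegOn W := fun x hx h0 =>
    hW x hx fun v hv => CfsgH5.Form.perp_symm (S := CfsgH5.spForm m F) (h0 v hv)
  have h1 := hW'.finrank_add
  rw [CfsgH5.finrank_sp] at h1
  obtain ⟨a⟩ := hW'.res.sp_nonempty_equiv hWk
  obtain ⟨b⟩ := (hW'.perp hS).res.sp_nonempty_equiv (m := m - k) (by omega)
  rw [CfsgH5.stabilizing_sp_eq]
  exact ⟨(CfsgH5.comapEquivOfInj _ (CfsgH5.spHom_inj m) (CfsgH5.stab F (W : Set _))).trans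
    ((MulEquiv.subgroupCongr (by rw [CfsgH5.range_spHom])).trans
      (hW'.stabEquiv.symm.trans (a.prodCongr b)))⟩

end Cfsg.Agent.S0776
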