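import Cfsg.Statements.S0777
import Cfsg.Agent.H5.Rk1

set_option autoImplicit false
open Cfsg

namespace Cfsg.Agent.S0777

open CfsgH5 Matrix
set_option maxHeartbeats 1600000

/-- Weyl group of type C_m: for q ≥ 4 the diagonal matrices of Sp_2m(q) form a torus T ≅ (C_(q−1))^m (the elements stabilising every coordinate axis), and the normaliser of T in Sp_2m(q) has order 2^m · m! · (q − 1)^m. -/
theorem result {F : Type*} [Field F] [Fintype F] {q : ℕ} (hF : Fintype.card F = q) (hq : 4 ≤ q) (m : ℕ) : Nat.card ↥(Subgroup.normalizer (⨅ i : Fin m ⊕ Fin m, Cfsg.stabilizing (Cfsg.spToMat m F) ((Submodule.span F {(Pi.single i (1 : F) : Fin m ⊕ Fin m → F)} : Submodule F (Fin m ⊕ Fin m → F)) : Set (Fin m ⊕ Fin m → F)) : Set (Matrix.symplecticGroup (Fin m) F))) = 2 ^ m * Nat.factorial m * (q - 1) ^ m := by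
  classical
  obtain ⟨t, t0, t1⟩ := exists_sq_ne_one (F := F) (hF ▸ hq)
  set T := ⨅ i : Fin m ⊕ Fin m, Cfsg.stabilizing (Cfsg.spToMat m F) ((Submodule.span F
    {(Pi.single i (1 : F) : Fin m ⊕ Fin m → F)} : Submodule F (Fin m ⊕ Fin m → F)) : Set (Fin m ⊕ Fin m → F))
  let e : Fin m ⊕ Fin m → Fin m ⊕ Fin m → F := fun i => Pi.single i 1
  have he : ∀ {i j} {a b : F}, a ≠ 0 → a • e i = b • e j → i = j ∧ a = b := fun {i j a b} h0 h => by
    have := congrFun h i
    by_cases h1 : i = j <;> simp_all [e]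
  have hg : ∀ g {i j} {a : F}, spHom m F g (e i) = a • e j → a ≠ 0 := by
    rintro g i j _ h rfl
    simpa [e] using congrFun ((spHom m F g).map_eq_zero_iff.1 (h.trans (zero_smul _ _))) i
  have hT : ∀ g, g ∈ T ↔ ∀ i, ∃ c : F, spHom m F g (e i) = c • e i := fun g => by
    simp only [T, Subgroup.mem_iInf, stabilizing_sp_eq, Subgroup.mem_comap]
    refine forall_congr' fun i => ⟨fun h => (Submodule.mem_span_singleton.1 (stab_apply h
      (Submodule.mem_span_singleton_self _))).imp fun _ => Eq.symm, fun ⟨c, h⟩ => mem_stab_of_le fun v hv => ?_⟩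
    obtain ⟨d, rfl⟩ := Submodule.mem_span_singleton.1 hv
    exact Submodule.mem_span_singleton.2 ⟨d * c, by rw [map_smul, h, smul_smul]⟩
  have hD : ∀ g (d : Fin m ⊕ Fin m → F), (∀ j, spHom m F g (e j) = d j • e j) →
      ∀ x j, spHom m F g x j = d j * x j := fun g d h x j => by
    rw [pi_eq_sum_univ' x]
    simp only [map_sum, map_smul]
    simp only [e] at h
    simp [-spHom_apply, h, Pi.single_apply, mul_comm]
  have h := spForm_hypFam (F := F) m
  have hN : ∀ g, g ∈ Subgroup.normalizer (T : Set (symplecticGroup (Fin m) F)) ↔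
      ∀ i, ∃ j, ∃ c : F, spHom m F g (e i) = c • e j := fun g => by
    refine ⟨fun hn i => ?_, fun hn => Subgroup.mem_normalizer_fintype fun s hs => (hT _).2 fun j => ?_⟩
    · obtain ⟨s, d, h1, h2⟩ : ∃ s, ∃ d : Fin m ⊕ Fin m → F, (∀ j, spHom m F s (e j) = d j • e j) ∧
          ∀ j, d j = d i → j = i := by
        obtain ⟨k, hk⟩ : ∃ k, i = .inl k ∨ i = .inr k := by rcases i with k | k <;> simp
        obtain ⟨s, hs⟩ := exists_spHom (Form.dil_mem (h.isHyp k) t0)
        have t2 : t ≠ 1 := by rintro rfl; simp at t1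
        have t3 : t ≠ t⁻¹ := fun e => t1 (by nth_rw 1 [sq, e, inv_mul_cancel₀ t0])
        refine ⟨s, fun j => if j = .inr k then t else if j = .inl k then t⁻¹ else 1, ?_, fun j => ?_⟩
        · rintro (j | j) <;> by_cases e : j = k
          · simpa [hs, e] using Form.dil_f (h.isHyp k) t0
          · simpa [hs, e] using Form.dil_fix _ t0 (h.fe_ne e) (h.ff _ _)
          · simpa [hs, e] using Form.dil_e (h.isHyp k) t0
          · simpa [hs, e] using Form.dil_fix _ t0 (h.ee _ _) (h.ef_ne e)
        · have t4 : t⁻¹ ≠ 1 := by simpa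
          rcases hk with rfl | rfl <;> rcases j with j | j <;> by_cases e : j = k <;>
            simp [e, t2, t3, t4, t2.symm, t3.symm, t4.symm]
      choose d' hd using (hT _).1 ((hn s).1 ((hT s).2 fun j => ⟨_, h1 j⟩))
      obtain ⟨j, hj⟩ := Function.ne_iff.1 ((spHom m F g).map_ne_zero_iff.2 (Pi.single_ne_zero_iff.2 one_ne_zero) :
        spHom m F g (e i) ≠ 0)
      have h4 := hD _ _ hd (spHom m F g (e i)) j
      rw [← LinearEquiv.mul_apply, ← map_mul, inv_mul_cancel_right, map_mul, LinearEquiv.mul_apply,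
        h1, map_smul] at h4
      have h5 : spHom m F s (spHom m F g⁻¹ (e j)) = d i • spHom m F g⁻¹ (e j) := (spHom m F g).injective (by
        rw [map_smul, ← LinearEquiv.mul_apply, ← LinearEquiv.mul_apply, ← LinearEquiv.mul_apply,
          ← map_mul, ← map_mul, ← map_mul, hd, mul_inv_cancel, map_one, mul_right_cancel₀ hj h4]; rfl)
      have h6 : spHom m F g⁻¹ (e j) = spHom m F g⁻¹ (e j) i • e i := funext fun k => by
        by_cases h : k = i
        · simp [e, h]
        · simpa [e, h, mt (h2 k) h] using (hD _ _ h1 _ k).symm.trans (congrFun h5 k)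
      refine ⟨j, _, (eq_inv_smul_iff₀ (hg _ h6)).2 ?_⟩
      rw [← map_smul, ← h6, map_inv, apply_inv_apply]
    · choose σ c hc using hn
      obtain ⟨i, rfl⟩ := Finite.injective_iff_surjective.1 (fun i k h => (he (hg _ (hc k))
        ((spHom m F g).injective (by rw [map_smul, map_smul, hc, hc, smul_comm, h]))).1 :
          Function.Injective σ) j
      obtain ⟨d, hd⟩ := (hT s).1 hs i
      refine ⟨d, smul_right_injective _ (hg _ (hc i)) ?_⟩
      simp only []
      rw [← map_smul, smul_comm, ← hc, ← LinearEquiv.mul_apply, ← map_mul, inv_mul_cancel_right, map_mul,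
        LinearEquiv.mul_apply, hd, map_smul]
  let u : Bool → Fin m → Fin m ⊕ Fin m := fun s k => if s then .inl k else .inr k
  let ε : Bool → F := fun s => if s then -1 else 1
  have hu : ∀ j, ∃ s k, j = u s k := by rintro (k | k); exacts [⟨true, k, rfl⟩, ⟨false, k, rfl⟩]
  have hB : ∀ s k s' k', (spForm m F).B (e (u s k)) (e (u s' k')) = if k = k' ∧ s' = !s then ε s else 0 := by
    rintro (_ | _) k (_ | _) k' <;> simp [spForm_B, sympForm_eq, e, u, ε, Pi.single_apply, eq_comm]
    split_ifs <;> simp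
  have h1 : ∀ p : (Fin m → Bool) × Equiv.Perm (Fin m) × (Fin m → Fˣ), ∃ g, ∀ i,
      spHom m F g (e (.inl i)) = (p.2.2 i : F) • e (u (p.1 i) (p.2.1 i)) ∧
      spHom m F g (e (.inr i)) = (-(p.2.2 i : F)⁻¹ * ε (p.1 i)) • e (u (!p.1 i) (p.2.1 i)) := fun p => by
    obtain ⟨φ, a, b, c⟩ := h.exists_isom_of_card (S' := spForm m F)
      (e' := fun i => (-(p.2.2 i : F)⁻¹ * ε (p.1 i)) • e (u (!p.1 i) (p.2.1 i)))
      (f' := fun i => (p.2.2 i : F) • e (u (p.1 i) (p.2.1 i)))
      ⟨fun _ => Form.sp_q _ _, fun _ => Form.sp_q _ _, fun i j => by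
        by_cases h : i = j <;> simp [hB, h], fun i j => by
        by_cases h : i = j <;> simp [hB, h], fun i j => by
        by_cases h : i = j
        · subst h; cases h : p.1 i <;> simp [hB, h, ε]
        · simp [hB, h]⟩ (by simp [two_mul]) (by simp [two_mul])
    obtain ⟨g, rfl⟩ := exists_spHom (Form.mem_isom.2 ⟨a.B, a.q⟩)
    exact ⟨g, fun i => ⟨c i, b i⟩⟩
  choose Θ hΘ using h1
  rw [Set.iInf_eq_iInter, ← Subgroup.coe_iInf]
  rw [← Nat.card_congr (Equiv.ofBijective (fun p => (⟨Θ p, (hN _).2 (by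
    rintro (i | i); exacts [⟨_, _, (hΘ p i).1⟩, ⟨_, _, (hΘ p i).2⟩])⟩ : Subgroup.normalizer (T : Set _)))
      ⟨fun p p' h => ?_, fun g => ?_⟩)]
  · simp only [Nat.card_prod, Nat.card_fun, card_units_field, hF, Nat.card_perm, mul_assoc]
    simp
  · have h2 := fun i => he (Units.ne_zero _) ((hΘ p i).1.symm.trans
      ((congrArg (fun g => spHom m F g.1 _) h).trans (hΘ p' i).1))
    have h3 : ∀ s k s' k', u s k = u s' k' → s = s' ∧ k = k' := by
      rintro (_ | _) k (_ | _) k' <;> simp [u]
    exact Prod.ext (funext fun i => (h3 _ _ _ _ (h2 i).1).1) (Prod.ext (Equiv.ext fun i =>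
      (h3 _ _ _ _ (h2 i).1).2) (funext fun i => Units.ext (h2 i).2))
  choose j a ha using (hN g).1 g.2
  choose s σ hs using hu
  have h2 := Form.isom_B (spHom_mem m g.1)
  have h3 : ∀ i, σ (j (.inl i)) = σ (j (.inr i)) ∧ s (j (.inr i)) = !s (j (.inl i)) ∧
      a (.inl i) * (a (.inr i) * ε (s (j (.inl i)))) = -1 := fun i => by
    have := h2 (e (u true i)) (e (u false i))
    rw [hB, show u true i = .inl i from rfl, show u false i = .inr i from rfl, ha, ha, hs (j _),
      hs (j (.inr i))] at this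
    simp only [Form.smul_left, Form.smul_right, hB, Bool.not_true, and_self, if_true, spParam_σ] at this
    split_ifs at this with h
    · exact ⟨h.1, h.2, (mul_left_comm _ _ _).trans this⟩
    · simp [ε] at this
  have hε : ∀ s, ε s * ε s = 1 := by rintro (_ | _) <;> simp [ε]
  have h4 : Function.Injective fun i => σ (j (.inl i)) := fun i k h => by
    by_contra h5
    have e1 := h2 (e (u true i)) (e (u true k))
    have e2 := h2 (e (u true k)) (e (u false i))
    rw [hB, show u true i = .inl i from rfl, show u true k = .inl k from rfl, ha, ha, hs (j _),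
      hs (j (.inl k))] at e1
    rw [hB, show u true k = .inl k from rfl, show u false i = .inr i from rfl, ha, ha, hs (j _),
      hs (j (.inr i))] at e2
    have e3 := fun s => left_ne_zero_of_mul_eq_one (hε s)
    simp only [] at h
    simp [hB, h, ← (h3 i).1, (h3 i).2.1, hg _ (ha _), e3, Ne.symm h5] at e1 e2
    exact e2 (Eq.symm (by simpa using e1))
  refine ⟨(fun i => s (j (.inl i)), Equiv.ofBijective _ (Finite.injective_iff_bijective.1 h4),
    fun i => Units.mk0 _ (hg _ (ha (.inl i)))), Subtype.ext (spHom_inj m ((Pi.basisFun F _).ext' ?_))⟩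
  rintro (i | i) <;> rw [Pi.basisFun_apply]
  · exact (hΘ _ i).1.trans ((ha _).trans (by rw [hs (j _)]; rfl)).symm
  · refine (hΘ _ i).2.trans ((ha _).trans ?_).symm
    rw [hs (j _), ← (h3 i).1, (h3 i).2.1]
    congr 1
    have := hg _ (ha (.inl i))
    simp only [Units.val_mk0]
    field_simp
    linear_combination ε _ * (h3 i).2.2 - a (.inl i) * a (.inr i) * hε _

end Cfsg.Agent.S0777
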