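import Cfsg.Statements.S0778
import Cfsg.Agent.H1.Basic

set_option autoImplicit false
open Cfsg

namespace Cfsg.Agent.S0778

/-- The elements of Sp_2m(F) stabilising both W = ⟨e_1..e_m⟩ and U = ⟨f_1..f_m⟩ form a subgroup isomorphic to GL_m(F) (block-diagonal matrices diag(X, X^(−ᵀ)) up to the sign convention of J), for m ≥ 1 or m = 0 alike. -/
theorem result {F : Type*} [Field F] (m : ℕ) : Nonempty (↥(Cfsg.stabilizing (Cfsg.spToMat m F) {v : Fin m ⊕ Fin m → F | ∀ i : Fin m, v (Sum.inr i) = 0} ⊓ Cfsg.stabilizing (Cfsg.spToMat m F) {v : Fin m ⊕ Fin m → F | ∀ i : Fin m, v (Sum.inl i) = 0}) ≃* Matrix.GeneralLinearGroup (Fin m) F) := by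
  open Matrix in
  let φ : GeneralLinearGroup (Fin m) F →* symplecticGroup (Fin m) F :=
    { toFun := fun g => ⟨fromBlocks g.val 0 0 (g⁻¹).valᵀ, by
        simp [SymplecticGroup.fromBlocks_mem_iff, ← transpose_mul]⟩
      map_one' := Subtype.ext (by simp)
      map_mul' := fun a b => Subtype.ext (by simp [fromBlocks_multiply]) }
  have hφ : Function.Injective φ := fun a b h => Units.ext (fromBlocks_inj.1 (congrArg Subtype.val h)).1
  refine ⟨(MulEquiv.subgroupCongr (le_antisymm ?_ ?_)).trans (MonoidHom.ofInjective hφ).symm⟩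
  · rintro ⟨A, hA⟩ ⟨h1, h2⟩
    have e1 : A.toBlocks₂₁ = 0 := by
      ext i j
      simpa [toBlocks₂₁] using (h1 (Pi.single (.inl j) 1)).1 (by simp) i
    have e2 : A.toBlocks₁₂ = 0 := by
      ext i j
      simpa [toBlocks₁₂] using (h2 (Pi.single (.inr j) 1)).1 (by simp) i
    have e : A = fromBlocks A.toBlocks₁₁ 0 0 A.toBlocks₂₂ := by
      conv_lhs => rw [← fromBlocks_toBlocks A, e1, e2]
    have h3 := hA
    rw [e, SymplecticGroup.fromBlocks_mem_iff] at h3
    have h4 : A.toBlocks₂₂ᵀ * A.toBlocks₁₁ = 1 := by simpa using congrArg transpose h3.2.2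
    exact ⟨⟨_, _, mul_eq_one_comm.1 h4, h4⟩, Subtype.ext e.symm⟩
  · rintro _ ⟨g, rfl⟩
    have k : ∀ (M : Matrix (Fin m) (Fin m) F), IsUnit M → ∀ w : Fin m → F, (∀ i, w i = 0) ↔ ∀ i, (M *ᵥ w) i = 0 :=
      fun M hM w => ⟨fun h => by simp [show w = 0 from funext h], fun h => congrFun
        (mulVec_injective_iff_isUnit.2 hM (show M *ᵥ w = M *ᵥ 0 from (funext h).trans (mulVec_zero M).symm))⟩
    refine ⟨fun v => ?_, fun v => ?_⟩
    · simpa [φ, fromBlocks_mulVec] using k _ ((isUnit_transpose _).2 g⁻¹.isUnit) (v ∘ .inr)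
    · simpa [φ, fromBlocks_mulVec] using k _ g.isUnit (v ∘ .inl)

end Cfsg.Agent.S0778
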