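import Cfsg.Statements.S0779
import Cfsg.Agent.H5.UnitMat

set_option autoImplicit false
open Cfsg

namespace Cfsg.Agent.S0779

/-- Unitary transvections: let |F| = q², h the standard Hermitian form Σ x_i y_i^q and v ≠ 0 with h(v, v) = 0. The linear map x ↦ x + c h(x, v) v is an isometry of h if and only if c = 0 or c^(q−1) = −1. -/
theorem result {F : Type*} [Field F] [Fintype F] {q : ℕ} (hF : Fintype.card F = q ^ 2) (n : ℕ) (v : Fin n → F) (hv : v ≠ 0) (hv0 : Cfsg.hermForm n F q v v = 0) (c : F) : (∀ x y : Fin n → F, Cfsg.hermForm n F q ((Cfsg.unitaryTransvection n q v c).mulVec x) ((Cfsg.unitaryTransvection n q v c).mulVec y) = Cfsg.hermForm n F q x y) ↔ (c = 0 ∨ c ^ (q - 1) = -1) := by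
  simp only [CfsgH5.unitaryTransvection_mulVec hF, ← CfsgH5.uForm_B hF] at hv0 ⊢
  have hq := CfsgH5.two_le_of_card_sq hF
  have h1 : (c = 0 ∨ c ^ (q - 1) = -1) ↔ c + CfsgH5.frobQ hF c = 0 := by
    rw [CfsgH5.frobQ_apply, show c + c ^ q = c * (c ^ (q - 1) + 1) by
      rw [mul_add, ← pow_succ', Nat.sub_add_cancel (by omega)]; ring, mul_eq_zero,
      add_eq_zero_iff_eq_neg]
  rw [h1]
  constructor
  · intro h
    obtain ⟨x, hx⟩ := (CfsgH5.uForm_nondeg hF n).exists_ne hv
    have := h x x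
    simp only [CfsgH5.Form.add_left, CfsgH5.Form.add_right, CfsgH5.Form.smul_left,
      CfsgH5.Form.smul_right, hv0, CfsgH5.unitParam_σ, map_mul,
      (CfsgH5.uForm hF n).unit_herm x v] at this
    have h2 : CfsgH5.frobQ hF ((CfsgH5.uForm hF n).B x v) ≠ 0 := by simpa using hx
    apply mul_left_cancel₀ (mul_ne_zero hx h2)
    linear_combination this
  · intro h x y
    simpa only [CfsgH5.Form.utv_apply] using CfsgH5.Form.isom_B (CfsgH5.Form.utv_mem hv0 h) x y

end Cfsg.Agent.S0779
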