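import Cfsg.Statements.S0780
import Cfsg.Agent.H5.UnitMat
import Cfsg.Agent.H5.Util

set_option autoImplicit false
open Cfsg

namespace Cfsg.Agent.S0780

/-- Generation of SU_n(q), n ≥ 3, (n, q) ≠ (3, 2), by unitary transvections: the subgroup generated by the elements whose matrix is x ↦ x + c h(x, v) v with v isotropic is all of SU_n(q). -/
theorem result {F : Type*} [Field F] [Fintype F] {q : ℕ} (hF : Fintype.card F = q ^ 2) (n : ℕ) (hn : 3 ≤ n) (h32 : ¬ (n = 3 ∧ q = 2)) : Subgroup.closure {A : ↥(Cfsg.SU n F q) | ∃ (v : Fin n → F) (c : F), Cfsg.hermForm n F q v v = 0 ∧ ((A : Matrix.SpecialLinearGroup (Fin n) F) : Matrix (Fin n) (Fin n) F) = Cfsg.unitaryTransvection n q v c} = ⊤ := by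
  have hS := CfsgH5.uForm_nondeg hF n
  obtain ⟨e, f, h0⟩ := hS.unit_exists_hyp (CfsgH5.frobQ_ne hF) (by simp; omega)
  have hN : (Subgroup.closure {A : ↥(Cfsg.SU n F q) | ∃ (v : Fin n → F) (c : F), Cfsg.hermForm n F q v v = 0 ∧ ((A : Matrix.SpecialLinearGroup (Fin n) F) : Matrix (Fin n) (Fin n) F) = Cfsg.unitaryTransvection n q v c}).Normal := by
    refine CfsgH5.normal_closure_of_conj ?_
    rintro g A ⟨v, c, h1, h2⟩
    have hg := (CfsgH5.suHom_mem hF g).1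
    refine ⟨CfsgH5.suHom n F q g v, c, (CfsgH5.Form.isom_B hg v v).trans h1,
      CfsgH5.mat_ext fun x => ?_⟩
    rw [← CfsgH5.suHom_apply, map_mul, map_mul, map_inv, LinearEquiv.mul_apply,
      LinearEquiv.mul_apply, CfsgH5.suHom_apply n A, h2, CfsgH5.unitaryTransvection_mulVec hF,
      CfsgH5.unitaryTransvection_mulVec hF, map_add, map_smul, CfsgH5.apply_inv_apply,
      CfsgH5.Form.isom_B_right hg]
  refine (hS.normal_le_center (Or.inl (CfsgH5.Form.unit_Λ (CfsgH5.frobQ_ne hF))) h0.qe h0.ne_left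
    (CfsgH5.suHom n F q) (CfsgH5.suHom_inj n) (CfsgH5.range_suHom_EG hF hn)
    (CfsgH5.commutator_SU hF hn h32) _ hN).resolve_left fun hle => ?_
  obtain ⟨c, hc0, hc⟩ := CfsgH5.exists_trace_zero _ (CfsgH5.frobQ_invol hF) (CfsgH5.frobQ_ne hF)
  have hc' : c + CfsgH5.frobQ hF c = 0 := by simp [hc]
  obtain ⟨A, hA⟩ := CfsgH5.exists_suHom hF (CfsgH5.Form.EG_le_su (CfsgH5.Form.utv_mem_EG h0.ee hc'))
  obtain ⟨a, ha⟩ := (CfsgH5.mem_center_SU hF (by omega)).1 (hle (Subgroup.subset_closure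
    (show A ∈ _ from ⟨e, c, h0.ee, CfsgH5.mat_ext fun x => by
      rw [← CfsgH5.suHom_apply, hA, CfsgH5.unitaryTransvection_mulVec hF, CfsgH5.Form.utv_apply]⟩)))
  have h1 := CfsgH5.mat_eq_smul_one.1 ha f
  rw [← CfsgH5.suHom_apply, hA, CfsgH5.Form.utv_apply] at h1
  have h2 := congr_arg ((CfsgH5.uForm hF n).B · f) h1
  simp [h0.ff, h0.ef, h0.fe, hc0] at h2

end Cfsg.Agent.S0780
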