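import Cfsg.Statements.S0781
import Cfsg.Agent.H5.UnitMat

set_option autoImplicit false
open Cfsg

namespace Cfsg.Agent.S0781

/-- In SU_n(q) with n ≥ 4, or n = 3 and q > 2, every element whose matrix is a unitary transvection x ↦ x + c h(x, v) v (v isotropic) is a commutator ⁅B, C⁆ of two elements of SU_n(q). -/
theorem result {F : Type*} [Field F] [Fintype F] {q : ℕ} (hF : Fintype.card F = q ^ 2) (n : ℕ) (hn : 4 ≤ n ∨ (n = 3 ∧ 3 ≤ q)) (A : ↥(Cfsg.SU n F q)) (v : Fin n → F) (c : F) (hv0 : Cfsg.hermForm n F q v v = 0) (hA : ((A : Matrix.SpecialLinearGroup (Fin n) F) : Matrix (Fin n) (Fin n) F) = Cfsg.unitaryTransvection n q v c) : A ∈ commutatorSet ↥(Cfsg.SU n F q) := by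
  have h3 : 3 ≤ n := by omega
  have hS := CfsgH5.uForm_nondeg hF n
  have h1 : ∀ x, CfsgH5.suHom n F q A x = x + (c * (CfsgH5.uForm hF n).B x v) • v := fun x => by
    rw [CfsgH5.suHom_apply, hA, CfsgH5.unitaryTransvection_mulVec hF]
  by_cases hv : v = 0
  · exact ⟨1, 1, CfsgH5.suHom_inj n (by ext x : 1; simp [h1, hv])⟩
  have hc : c + CfsgH5.frobQ hF c = 0 := by
    obtain ⟨x, hx⟩ := hS.exists_ne hv
    have := CfsgH5.Form.isom_B (CfsgH5.suHom_mem hF A).1 x x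
    rw [← CfsgH5.uForm_B hF] at hv0
    simp only [h1, CfsgH5.Form.add_left, CfsgH5.Form.add_right, CfsgH5.Form.smul_left,
      CfsgH5.Form.smul_right, hv0, CfsgH5.unitParam_σ, map_mul,
      (CfsgH5.uForm hF n).unit_herm x v] at this
    have h2 : CfsgH5.frobQ hF ((CfsgH5.uForm hF n).B x v) ≠ 0 := by simpa using hx
    apply mul_left_cancel₀ (mul_ne_zero hx h2)
    linear_combination this
  obtain ⟨a, ha, b, hb, e⟩ := hS.utv_eq_commutator (CfsgH5.frobQ_ne hF) (by simpa using h3) hv0 hc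
  obtain ⟨a, rfl⟩ := CfsgH5.exists_suHom hF (CfsgH5.Form.EG_le_su ha)
  obtain ⟨b, rfl⟩ := CfsgH5.exists_suHom hF (CfsgH5.Form.EG_le_su hb)
  refine ⟨a, b, CfsgH5.suHom_inj n ?_⟩
  rw [map_commutatorElement, ← e]
  ext x : 1
  rw [h1]
  exact CfsgH5.Form.utv_apply _ _ _

end Cfsg.Agent.S0781
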