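import Cfsg.Statements.S0782
import Cfsg.Agent.H5.UnitMat

set_option autoImplicit false
open Cfsg

namespace Cfsg.Agent.S0782

/-- Maximal parabolics of SU_n(q): if W is a k-dimensional subspace of F^n (n ≥ 1, |F| = q²) on which the Hermitian form vanishes, then (q + 1) times the order of its stabiliser in SU_n(q) equals q^(k(2n−3k)) · |GL_k(q²)| · |GU_(n−2k)(q)|, where |GU_m(q)| = q^(m(m−1)/2) Π_(i=1..m) (q^i − (−1)^i). -/
theorem result {F : Type*} [Field F] [Fintype F] {q : ℕ} (hF : Fintype.card F = q ^ 2) (n k : ℕ) (hn : 1 ≤ n) (hk : 2 * k ≤ n) (W : Submodule F (Fin n → F)) (hWk : Module.finrank F W = k) (hW : ∀ u ∈ W, ∀ v ∈ W, Cfsg.hermForm n F q u v = 0) : (q + 1) * Nat.card ↥((Cfsg.stabilizing (Cfsg.slToMat n F) (W : Set (Fin n → F))).subgroupOf (Cfsg.SU n F q)) = q ^ (k * (2 * n - 3 * k)) * (∏ i : Fin k, ((q ^ 2) ^ k - (q ^ 2) ^ (i : ℕ))) * (q ^ ((n - 2 * k) * ((n - 2 * k) - 1) / 2) * ∏ i ∈ Finset.range (n - 2 * k), (if Even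 i then q ^ (i + 1) + 1 else q ^ (i + 1) - 1)) := by
  have hS := CfsgH5.uForm_nondeg hF n
  have hW' : (CfsgH5.uForm hF n).TotSing W :=
    CfsgH5.Form.totSing_of_isMax (CfsgH5.unitParam_isMax _ _) hW
  obtain ⟨e, f, h, rfl⟩ := hS.exists_hypFam_span' hW' hWk
  have h1 := h.finrank_perp
  simp only [Module.finrank_fintype_fun_eq_card, Fintype.card_fin] at h1
  have h2 : (Cfsg.stabilizing (Cfsg.slToMat n F) (Submodule.span F (Set.range e) : Set (Fin n → F))).subgroupOf (Cfsg.SU n F q) =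
    (CfsgH5.stab F (Submodule.span F (Set.range e) : Set (Fin n → F))).comap (CfsgH5.suHom n F q) := rfl
  have h3 : (q + 1) * Nat.card ↥(CfsgH5.stab F (Submodule.span F (Set.range e) : Set (Fin n → F)) ⊓
      (CfsgH5.uForm hF n).isom ⊓ CfsgH5.slSub F _) = Nat.card ↥(CfsgH5.stab F
        (Submodule.span F (Set.range e) : Set (Fin n → F)) ⊓ (CfsgH5.uForm hF n).isom) := by
    rw [CfsgH5.Form.card_eq_card_map_det_mul (_ ⊓ (CfsgH5.uForm hF n).isom), ← CfsgH5.card_normOne hF]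
    congr 3
    apply le_antisymm
    · intro c hc
      rcases Nat.eq_zero_or_pos k with rfl | hk0
      · refine ⟨_, ⟨?_, CfsgH5.Form.qrefl_mem (d := Pi.single ⟨0, hn⟩ 1)
          (by simp [CfsgH5.uForm_single]) hc⟩,
          Units.ext (by rw [LinearEquiv.coe_det]; exact CfsgH5.Form.det_qrefl _ hc)⟩
        exact CfsgH5.mem_stab_of_le (by simp [Set.range_eq_empty])
      obtain ⟨a, ha, h4⟩ := CfsgH5.exists_div_of_norm_one _ (CfsgH5.frobQ_invol hF)
        (CfsgH5.frobQ_ne hF) hc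
      refine ⟨_, ⟨?_, CfsgH5.Form.dil_mem (h.isHyp ⟨0, hk0⟩) ha⟩,
        Units.ext (by rw [LinearEquiv.coe_det, CfsgH5.Form.det_dil]; exact h4)⟩
      refine CfsgH5.mem_stab_of_le fun v hv => ?_
      rw [CfsgH5.Form.dil_apply, hW'.B v hv _ (Submodule.subset_span ⟨_, rfl⟩), mul_zero, zero_smul,
        add_zero]
      exact Submodule.add_mem _ hv (Submodule.smul_mem _ _ (Submodule.subset_span ⟨_, rfl⟩))
    · rintro _ ⟨g, hg, rfl⟩
      change _ * _ = _
      rw [LinearEquiv.coe_det]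
      exact hS.unit_det hg.2
  rw [h2, CfsgH5.card_comap_of_inj _ (CfsgH5.suHom_inj n), CfsgH5.range_suHom hF, ← inf_assoc, h3,
    hS.card_stab_totSing hW', hS.card_fixer_hypFam h, CfsgH5.card_linearEquiv, hWk,
    CfsgH5.Form.unit_card hF (n - 2 * k) (h.nondegOn_perp hS).res (by omega), CfsgH5.card_uΛ,
    Nat.card_eq_fintype_card (α := F), hF]
  simp only [Module.finrank_fintype_fun_eq_card, Fintype.card_fin]
  have a4 : k * (2 * n - 3 * k) = 2 * (k * (n - 2 * k) + k * (k - 1) / 2) + k := by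
    obtain ⟨r, rfl⟩ := Nat.exists_eq_add_of_le hk
    rw [mul_add 2 (k * _), Nat.mul_div_cancel' (Nat.even_mul_pred_self k).two_dvd,
      show 2 * (2 * k + r) - 3 * k = k + 2 * r by omega, Nat.add_sub_cancel_left]
    rcases k with _ | k
    · simp
    · simp; ring
  rw [a4]
  ring

end Cfsg.Agent.S0782
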