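import Cfsg.Statements.S0783
import Cfsg.Agent.H5.UnitMat

set_option autoImplicit false
open Cfsg

namespace Cfsg.Agent.S0783

/-- PGU_n(q)/PSU_n(q) is cyclic of order (n, q+1): for n ≥ 2 and |F| = q² there is a surjective homomorphism from GU_n(q) onto the cyclic group of order gcd(n, q + 1) whose kernel is generated by the determinant-one elements together with the centre. -/
theorem result {F : Type*} [Field F] [Fintype F] {q : ℕ} (hF : Fintype.card F = q ^ 2) (n : ℕ) (hn : 2 ≤ n) : ∃ φ : ↥(Cfsg.GU n F q) →* Multiplicative (ZMod (Nat.gcd n (q + 1))), Function.Surjective φ ∧ φ.ker = (Matrix.GeneralLinearGroup.det : Matrix.GeneralLinearGroup (Fin n) F →* Fˣ).ker.subgroupOf (Cfsg.GU n F q) ⊔ Subgroup.center ↥(Cfsg.GU n F q) := by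
  have hS := CfsgH5.uForm_nondeg hF n
  obtain ⟨ψ, h1, h2⟩ := CfsgH5.cyc_exists_hom_zmod (C := CfsgH5.normOne hF) n
  have h3 := hS.unit_map_det hF le_rfl (d := Pi.single ⟨0, by omega⟩ 1)
    (by simp [CfsgH5.uForm_single]) fun _ _ => CfsgH5.Form.qrefl_mem _ _
  have h4 : ∀ g : Cfsg.GU n F q, LinearEquiv.det (CfsgH5.guHom n F q g) =
      Matrix.GeneralLinearGroup.det g.1 := fun g =>
    Units.ext (by rw [LinearEquiv.coe_det]; exact CfsgH5.det_glEquiv g.1)
  let δ : Cfsg.GU n F q →* CfsgH5.normOne hF :=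
    (Matrix.GeneralLinearGroup.det.comp (Cfsg.GU n F q).subtype).codRestrict _ fun g =>
      h3 ▸ ⟨_, CfsgH5.range_guHom hF n ▸ ⟨g, rfl⟩, h4 g⟩
  have h5 : Function.Surjective δ := by
    rintro ⟨c, hc⟩
    rw [← h3, ← CfsgH5.range_guHom hF] at hc
    obtain ⟨_, ⟨g, rfl⟩, rfl⟩ := hc
    exact ⟨g, Subtype.ext (h4 g).symm⟩
  rw [← CfsgH5.card_normOne hF]
  refine ⟨ψ.comp δ, h1.comp h5, ?_⟩
  apply le_antisymm
  · intro g hg
    obtain ⟨y, hy⟩ := (h2 _).1 hg
    have h6 : Matrix.GeneralLinearGroup.scalar (Fin n) y.1 ∈ Cfsg.GU n F q := by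
      intro u v
      change hermForm n F q ((Matrix.scalar _ y.1.1).mulVec u) ((Matrix.scalar _ y.1.1).mulVec v) = _
      have := y.2
      change _ * _ = _ at this
      rw [CfsgH5.frobQ_apply, ← pow_succ'] at this
      simp only [Matrix.scalar_apply, ← Matrix.smul_one_eq_diagonal, Matrix.smul_mulVec,
        Matrix.one_mulVec, CfsgH5.hermForm_smul hF, this, one_mul]
    have h7 : (⟨_, h6⟩ : Cfsg.GU n F q) ∈ Subgroup.center _ :=
      (CfsgH5.mem_center_GU hF hn).2 ⟨y.1, by simp [Matrix.smul_one_eq_diagonal]⟩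
    rw [← Subgroup.mul_mem_cancel_right _ (Subgroup.mem_sup_right (Subgroup.inv_mem _ h7))]
    refine Subgroup.mem_sup_left ?_
    have := congr_arg Subtype.val hy
    change y.1 ^ n = Matrix.GeneralLinearGroup.det g.1 at this
    simp [Subgroup.mem_subgroupOf, ← this]
  · refine sup_le (fun g hg => ?_) fun g hg => (h2 _).2 ?_
    · exact (h2 _).2 ⟨1, Subtype.ext (by rw [one_pow]; exact hg.symm)⟩
    · obtain ⟨c, hc⟩ := (CfsgH5.mem_center_GU hF hn).1 hg
      have h3 := g.2 (Pi.single ⟨0, by omega⟩ 1) (Pi.single ⟨0, by omega⟩ 1)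
      change hermForm n F q (g.1.1.mulVec _) (g.1.1.mulVec _) = _ at h3
      rw [hc] at h3
      simp only [Matrix.smul_mulVec, Matrix.one_mulVec, CfsgH5.hermForm_smul hF, ← CfsgH5.uForm_B hF,
        CfsgH5.uForm_single, mul_one, pow_succ', ← CfsgH5.frobQ_apply hF] at h3
      refine ⟨⟨Units.mk0 c (left_ne_zero_of_mul_eq_one h3), h3⟩, Subtype.ext (Units.ext ?_)⟩
      change _ = g.1.1.det
      simp [hc]

end Cfsg.Agent.S0783
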