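import Cfsg.Statements.S0787
import Cfsg.Agent.H5.OrthMat

set_option autoImplicit false
open Cfsg

namespace Cfsg.Agent.S0787

open CfsgH5

/-- Existence and uniqueness of Ω: if F is finite, n ≥ 2, Q is a quadratic form on F^n with non-degenerate polar form and (|F|, n) ≠ (2, 4), then the group of isometries of determinant one has a unique subgroup of index 2. -/
theorem result {F : Type*} [Field F] [Fintype F] {n : ℕ} (hn : 2 ≤ n) (Q : QuadraticForm F (Fin n → F)) (hQ : (QuadraticMap.polarBilin Q).Nondegenerate) (h : Fintype.card F ≠ 2 ∨ n ≠ 4) : ∃! H : Subgroup ↥(Cfsg.specialIsometryGroup F ⇑Q), H.index = 2 := by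
  have h1 := Form.ofQF_Q Q
  have hS := Form.ofQF_nondeg hQ
  have hG := gen_of (V := Fin n → F) (by simp) h
  have hle : Omega F ⇑Q ≤ specialIsometryGroup F ⇑Q :=
    Abelianization.commutator_subset_ker _
  have hi : ((Omega F ⇑Q).subgroupOf (specialIsometryGroup F ⇑Q)).index = 2 := by
    have h3 := Subgroup.relIndex_mul_index hle
    rw [index_Omega h1] at h3
    by_cases h2 : (2 : F) = 0
    · have : specialIsometryGroup F ⇑Q = ⊤ := eq_top_iff.2 fun g _ =>
        mem_specialIsometryGroup.2 (hS.det_eq_one_of_two h2 (oHom_mem h1 g))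
      rw [hS.index_commutator_two h2 hG (by simp; omega)] at h3
      rw [← h3, this, Subgroup.index_top, mul_one]; rfl
    · have : (specialIsometryGroup F ⇑Q).index = 2 := by
        have h4 : specialIsometryGroup F ⇑Q = ((hS.dkHom hG).comp (oEquiv h1).toMonoidHom).ker := by
          ext g
          rw [mem_specialIsometryGroup, hS.det_eq_one_iff h2 (oHom_mem h1 g)]; rfl
        have h5 : Function.Surjective ((hS.dkHom hG).comp (oEquiv h1).toMonoidHom) :=
          (hS.dkHom_surjective hG (by simp; omega)).comp (oEquiv h1).surjective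
        rw [h4, Subgroup.index_ker, MonoidHom.range_eq_top.2 h5, Subgroup.card_top]
        simp
      rw [hS.index_commutator_odd h2 (by simpa using hn), this] at h3
      change Subgroup.relIndex _ _ = 2
      omega
  refine ⟨_, hi, fun H hH => ?_⟩
  symm
  refine Subgroup.eq_of_le_of_card_ge (fun g hg => ?_) ?_
  · have := hS.om_le_of_sq hG (K := (H.map (specialIsometryGroup F ⇑Q).subtype).map (oHom ⇑Q))
      (fun x y hx hy => by
        obtain ⟨a, ha⟩ := exists_oHom h1 ((Form.ofQF Q).isom.mul_mem (Form.rf_mem x) (Form.rf_mem y))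
        have hs : a ∈ specialIsometryGroup F ⇑Q := by
          rw [mem_specialIsometryGroup, ha, det_mul', Form.det_rf hx, Form.det_rf hy]; simp
        exact ⟨a ^ 2, ⟨⟨a, hs⟩ ^ 2, Subgroup.sq_mem_of_index_two hH _, rfl⟩, by rw [map_pow, ha]⟩)
      ((mem_Omega_iff h1).1 hg)
    rwa [Subgroup.mem_map_iff_mem (oHom_inj _), Subgroup.mem_map_iff_mem Subtype.val_injective]
      at this
  · have h3 := H.card_mul_index
    have h4 := ((Omega F ⇑Q).subgroupOf (specialIsometryGroup F ⇑Q)).card_mul_index
    rw [hH] at h3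
    rw [hi] at h4
    omega

end Cfsg.Agent.S0787
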