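import Cfsg.Statements.S0792
import Cfsg.Agent.H5.OrthMat

set_option autoImplicit false
open Cfsg

namespace Cfsg.Agent.S0792

open CfsgH5

/-- For q odd and Q with non-degenerate polar form on F^n, the determinant-one isometries form the subgroup generated by all products r_u r_v of two reflections (Q(u), Q(v) ≠ 0). -/
theorem result {F : Type*} [Field F] [Fintype F] (h2 : (2 : F) ≠ 0) {n : ℕ} (Q : QuadraticForm F (Fin n → F)) (hQ : (QuadraticMap.polarBilin Q).Nondegenerate) : Cfsg.specialIsometryGroup F ⇑Q = Subgroup.closure {g : ↥(Cfsg.isometryGroup F ⇑Q) | ∃ u v : Fin n → F, Q u ≠ 0 ∧ Q v ≠ 0 ∧ ((g : Matrix.GeneralLinearGroup (Fin n) F) : Matrix (Fin n) (Fin n) F) = Cfsg.reflectionMatrix ⇑Q u * Cfsg.reflectionMatrix ⇑Q v} := by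
  have h1 := Form.ofQF_Q Q
  have hS := Form.ofQF_nondeg hQ
  have hG : (∃ a : F, a ≠ 0 ∧ a ≠ 1) ∨ Module.finrank F (Fin n → F) ≠ 4 :=
    Or.inl (gen_of_two_ne_zero h2)
  have hm : ∀ u v x, (reflectionMatrix ⇑Q u * reflectionMatrix ⇑Q v).mulVec x =
      ((Form.ofQF Q).rf u * (Form.ofQF Q).rf v) x := fun u v x => by
    rw [← Matrix.mulVec_mulVec, reflectionMatrix_mulVec h1, reflectionMatrix_mulVec h1]; rfl
  refine le_antisymm (fun g hg => ?_) ?_
  swap
  · rw [Subgroup.closure_le]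
    rintro g ⟨u, v, hu, hv, hg⟩
    rw [SetLike.mem_coe, mem_specialIsometryGroup, (oHom_eq_iff (hm u v)).1 hg, det_mul',
      Form.det_rf (by rwa [h1]), Form.det_rf (by rwa [h1])]
    simp
  rw [mem_specialIsometryGroup, hS.det_eq_one_iff h2 (oHom_mem h1 g)] at hg
  rw [← Subgroup.mem_map_iff_mem (oHom_inj _)]
  set K := Subgroup.map (oHom ⇑Q) (Subgroup.closure _)
  have hK : ∀ u v, (Form.ofQF Q).Q u ≠ 0 → (Form.ofQF Q).Q v ≠ 0 →
      (Form.ofQF Q).rf u * (Form.ofQF Q).rf v ∈ K := by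
    intro u v hu hv
    obtain ⟨a, ha⟩ := exists_oHom h1 ((Form.ofQF Q).isom.mul_mem (Form.rf_mem u) (Form.rf_mem v))
    exact ⟨a, Subgroup.subset_closure ⟨u, v, by rwa [← h1], by rwa [← h1],
      (oHom_eq_iff (hm u v)).2 ha⟩, ha⟩
  have := hS.orth_induction hG (P := fun g => (dk g = 1 → g ∈ K) ∧
    (dk g = -1 → ∀ v, (Form.ofQF Q).Q v ≠ 0 → (Form.ofQF Q).rf v * g ∈ K))
    ⟨fun _ => K.one_mem, fun h => by rw [dk_one] at h; exact absurd h (by decide)⟩ (by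
      intro w hw g hg ⟨ih1, ih2⟩
      rw [hS.dk_rf_mul hw hg]
      refine ⟨fun h => ih2 (neg_eq_iff_eq_neg.1 h) w hw, fun h v hv => ?_⟩
      rw [← mul_assoc]
      exact K.mul_mem (hK v w hv hw) (ih1 (neg_inj.1 h))) _ (oHom_mem h1 g)
  exact this.1 hg

end Cfsg.Agent.S0792
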