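import Cfsg.Statements.S0793
import Cfsg.Agent.H5.OrthMat

set_option autoImplicit false
open Cfsg

namespace Cfsg.Agent.S0793

open CfsgH5

/-- Root elements: if Q(u) = Q(v) = 0 and f(u, v) = 0 (f the polar form), then for every c the Siegel matrix T_(u,v)(c) preserves Q, fixes u and v, and T(c) T(d) = T(c + d). -/
theorem result {F : Type*} [Field F] {n : ℕ} (Q : QuadraticForm F (Fin n → F)) (u v : Fin n → F) (hu : Q u = 0) (hv : Q v = 0) (huv : QuadraticMap.polar ⇑Q u v = 0) : (∀ c x, Q ((Cfsg.siegelMatrix ⇑Q u v c).mulVec x) = Q x) ∧ (∀ c, (Cfsg.siegelMatrix ⇑Q u v c).mulVec u = u ∧ (Cfsg.siegelMatrix ⇑Q u v c).mulVec v = v) ∧ ∀ c d, Cfsg.siegelMatrix ⇑Q u v c * Cfsg.siegelMatrix ⇑Q u v d = Cfsg.siegelMatrix ⇑Q u v (c + d) := by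
  have h := Form.ofQF_Q Q
  have hE := siegel_isEich h hu hv huv
  refine ⟨fun c x => ?_, fun c => ⟨?_, ?_⟩, fun c d => mat_ext fun x => ?_⟩
  · rw [siegelMatrix_eq_eich h (hE c), ← h, Form.isom_Q (Form.eich_mem _), h]
  · rw [siegelMatrix_eq_eich h (hE c), Form.eich_self]
  · rw [siegelMatrix_eq_eich h (hE c), Form.eich_fix _ (Form.perp_symm huv)
      (by rw [Form.orth_smul_right, Form.self_of_Q (by rwa [h]), mul_zero])]
  · rw [← Matrix.mulVec_mulVec, siegelMatrix_eq_eich h (hE c), siegelMatrix_eq_eich h (hE d),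
      siegelMatrix_eq_eich h (hE (c + d)), ← LinearEquiv.mul_apply, Form.eich_mul]
    rw [Form.eich_congr _ (hE (c + d)) (add_smul c d v).symm (by
      simp [Form.smul_left, Form.self_of_Q (S := Form.ofQF Q) (x := v) (by rwa [h])])]

end Cfsg.Agent.S0793
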