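import Cfsg.Statements.S0795
import Cfsg.Agent.H5.OrthMat

set_option autoImplicit false
open Cfsg

namespace Cfsg.Agent.S0795

open CfsgH5

/-- Generation of Ω by root elements: for q odd, n ≥ 5 and Q with non-degenerate polar form on F^n, the commutator subgroup of the isometry group equals the subgroup generated by the isometries whose matrices are Siegel transformations T_(u,v)(c) with u, v singular and orthogonal. -/
theorem result {F : Type*} [Field F] [Fintype F] (h2 : (2 : F) ≠ 0) {n : ℕ} (hn : 5 ≤ n) (Q : QuadraticForm F (Fin n → F)) (hQ : (QuadraticMap.polarBilin Q).Nondegenerate) : Cfsg.Omega F ⇑Q = Subgroup.closure {g : ↥(Cfsg.isometryGroup F ⇑Q) | ∃ (u v : Fin n → F) (c : F), Q u = 0 ∧ Q v = 0 ∧ QuadraticMap.polar ⇑Q u v = 0 ∧ ((g : Matrix.GeneralLinearGroup (Fin n) F) : Matrix (Fin n) (Fin n) F) = Cfsg.siegelMatrix ⇑Q u v c} := by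
  have h := Form.ofQF_Q Q
  have hS := Form.ofQF_nondeg hQ
  apply Subgroup.map_injective (oHom_inj _)
  rw [map_Omega h, hS.om_eq_EG_of_five (by simpa using hn)]
  refine le_antisymm (hS.EG_le_of_siegel (by simpa using hn) fun u w hE => ?_) ?_
  · obtain ⟨a, ha⟩ := exists_oHom h (Form.eich_mem hE)
    have hE' : (Form.ofQF Q).IsEich u ((1 : F) • w) 0 := by rwa [one_smul]
    exact ⟨a, Subgroup.subset_closure ⟨u, w, 1, by rw [← h, hE.Qu_eq], by rw [← h, hE.Q_eq], hE.uw,
      (oHom_eq_iff (siegelMatrix_eq_eich h hE')).2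
        (ha.trans (Form.eich_congr _ _ (one_smul _ _).symm rfl))⟩, ha⟩
  · rw [Subgroup.map_le_iff_le_comap, Subgroup.closure_le]
    rintro g ⟨u, v, c, hu, hv, huv, hg⟩
    change oHom _ g ∈ (Form.ofQF Q).EG
    rw [(oHom_eq_iff (siegelMatrix_eq_eich h (siegel_isEich h hu hv huv c))).1 hg]
    exact Form.eich_mem_EG _

end Cfsg.Agent.S0795
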