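import Cfsg.Statements.S0796
import Cfsg.Agent.H1.PG3

set_option autoImplicit false
open Cfsg

namespace Cfsg.Agent.S0796

/-- If G is finite and acts faithfully and primitively on X, H is the stabiliser of a point, A is a normal subgroup of H whose normal closure in G is G, then for every non-trivial normal subgroup K of G the quotient G ⧸ K is isomorphic to A ⧸ B for some normal subgroup B of A. -/
theorem result {G X : Type*} [Group G] [Finite G] [MulAction G X] [FaithfulSMul G X] (hprim : MulAction.IsPreprimitive G X) (x : X) (A : Subgroup G) (hA : A ≤ MulAction.stabilizer G x) (hAn : (A.subgroupOf (MulAction.stabilizer G x)).Normal) (hgen : Subgroup.normalClosure (A : Set G) = ⊤) (K : Subgroup G) [K.Normal] (hK : K ≠ ⊥) : ∃ (B : Subgroup A) (_ : B.Normal), Nonempty (G ⧸ K ≃* A ⧸ B) := by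
  open Subgroup CfsgH1 CfsgFT CfsgH2 MulAction in
  have ht : IsPretransitive K X := by
    refine hprim.isQuasiPreprimitive.isPretransitive_of_normal fun e => hK (eq_bot_iff.2 fun k hk => ?_)
    exact eq_of_smul_eq_smul (α := X) fun y => by
      rw [one_smul]; exact (e ▸ Set.mem_univ y : y ∈ fixedPoints K X) ⟨k, hk⟩
  have hn : (K ⊔ A).Normal := normalizer_eq_top_iff.1 (eq_top_iff.2 fun g _ => by
    obtain ⟨k, hk⟩ := exists_smul_eq K x (g • x)
    have h1 : (k : G)⁻¹ * g ∈ stabilizer G x := by
      rw [mem_stabilizer_iff, mul_smul, ← hk, Subgroup.smul_def, inv_smul_smul]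
    have := mul_mem (le_normalizer (mem_sup_left k.2 : (k : G) ∈ K ⊔ A)) (CfsgH1.le_normalizer_sup
      le_normalizer_of_normal ((normal_subgroupOf_iff_le_normalizer hA).1 hAn) h1)
    rwa [mul_inv_cancel_left] at this)
  have h2 : K ⊔ A = ⊤ := top_le_iff.1 (hgen ▸ normalClosure_le_normal (le_sup_right : A ≤ K ⊔ A))
  refine ⟨((QuotientGroup.mk' K).comp A.subtype).ker, inferInstance,
    ⟨(QuotientGroup.quotientKerEquivOfSurjective _ fun y => ?_).symm⟩⟩
  obtain ⟨g, rfl⟩ := QuotientGroup.mk_surjective y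
  obtain ⟨k, hk, a, ha, rfl⟩ := (CfsgH1.mem_sup_of_le_normalizer le_normalizer_of_normal).1 (h2 ▸ mem_top g)
  exact ⟨⟨a, ha⟩, by simp [(QuotientGroup.eq_one_iff k).2 hk]⟩

end Cfsg.Agent.S0796
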