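import Cfsg.Statements.S0797
import Cfsg.Agent.H5.OrthMat

set_option autoImplicit false
open Cfsg

namespace Cfsg.Agent.S0797

open CfsgH5

theorem aux {G : Type*} [Group G] (φ : G →* ℤˣ × ℤˣ) (hφ : Function.Surjective φ)
    (hk : φ.ker = commutator G) : Nat.card {H : Subgroup G // H.index = 2} = 3 := by
  have hi : ∀ ψ : ℤˣ × ℤˣ →* ℤˣ, Function.Surjective ψ → (ψ.comp φ).ker.index = 2 := by
    intro ψ hψ
    have h5 : Function.Surjective (ψ.comp φ) := hψ.comp hφ
    rw [Subgroup.index_ker, MonoidHom.range_eq_top.2 h5, Subgroup.card_top]; simp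
  obtain ⟨a, ha⟩ := hφ (-1, 1)
  obtain ⟨b, hb⟩ := hφ (1, -1)
  let H1 : {H : Subgroup G // H.index = 2} := ⟨_, hi (MonoidHom.fst _ _) Prod.fst_surjective⟩
  let H2 : {H : Subgroup G // H.index = 2} := ⟨_, hi (MonoidHom.snd _ _) Prod.snd_surjective⟩
  let H3 : {H : Subgroup G // H.index = 2} := ⟨_, hi (MonoidHom.fst _ _ * MonoidHom.snd _ _)
    fun x => ⟨(x, 1), by simp⟩⟩
  have key : ∀ H H' : {H : Subgroup G // H.index = 2}, (a ∈ H.1 ↔ a ∈ H'.1) →
      (b ∈ H.1 ↔ b ∈ H'.1) → H = H' := by
    intro H H' h1 h2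
    have hc : ∀ H : {H : Subgroup G // H.index = 2}, ∀ g, φ g = 1 → g ∈ H.1 := by
      intro H g hg
      have := Subgroup.normal_of_index_eq_two H.2
      have : commutator G ≤ H.1 := by
        rw [commutator_def, Subgroup.commutator_le]
        intro x _ y _
        rw [commutatorElement_def, mul_assoc, Subgroup.mul_mem_iff_of_index_two H.2,
          Subgroup.mul_mem_iff_of_index_two H.2, Subgroup.mul_mem_iff_of_index_two H.2,
          inv_mem_iff, inv_mem_iff]
      exact this (hk ▸ hg)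
    have hc' : ∀ H : {H : Subgroup G // H.index = 2}, ∀ g g', φ g = φ g' → (g ∈ H.1 ↔ g' ∈ H.1) := by
      intro H g g' h
      rw [← inv_mem_iff, ← Subgroup.mul_mem_iff_of_index_two H.2]
      exact hc H _ (by simp [h])
    refine Subtype.ext (Subgroup.ext fun g => ?_)
    rcases Int.units_eq_one_or (φ g).1 with e1 | e1 <;>
      rcases Int.units_eq_one_or (φ g).2 with e2 | e2
    · exact iff_of_true (hc _ _ (Prod.ext e1 e2)) (hc _ _ (Prod.ext e1 e2))
    · rw [hc' H g b (by rw [hb]; exact Prod.ext e1 e2), hc' H' g b (by rw [hb]; exact Prod.ext e1 e2),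
        h2]
    · rw [hc' H g a (by rw [ha]; exact Prod.ext e1 e2), hc' H' g a (by rw [ha]; exact Prod.ext e1 e2),
        h1]
    · have : φ g = φ (a * b) := by rw [map_mul, ha, hb]; exact Prod.ext e1 e2
      rw [hc' H g _ this, hc' H' g _ this, Subgroup.mul_mem_iff_of_index_two H.2,
        Subgroup.mul_mem_iff_of_index_two H'.2, h1, h2]
  have a1 : a ∉ H1.1 := by simp [H1, ha]
  have a2 : a ∈ H2.1 := by simp [H2, ha]
  have a3 : a ∉ H3.1 := by simp [H3, ha]
  have b1 : b ∈ H1.1 := by simp [H1, hb]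
  have b2 : b ∉ H2.1 := by simp [H2, hb]
  have b3 : b ∉ H3.1 := by simp [H3, hb]
  rw [← Set.ncard_univ, Set.ncard_eq_three]
  refine ⟨H1, H2, H3, fun h => a1 (h ▸ a2), fun h => b3 (h ▸ b1), fun h => a3 (h ▸ a2),
    (Set.eq_univ_of_forall fun H => ?_).symm⟩
  by_cases h1 : a ∈ H.1 <;> by_cases h2 : b ∈ H.1
  · exfalso
    have := key H ⟨_, hi (MonoidHom.fst _ _) Prod.fst_surjective⟩
    have h3 : H.1 = ⊤ := by
      rw [eq_top_iff]
      intro g _
      by_contra hg
      have hc : ∀ g', φ g = φ g' → g' ∉ H.1 := by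
        intro g' h hg'
        apply hg
        have : commutator G ≤ H.1 := by
          rw [commutator_def, Subgroup.commutator_le]
          intro x _ y _
          rw [commutatorElement_def, mul_assoc, Subgroup.mul_mem_iff_of_index_two H.2,
            Subgroup.mul_mem_iff_of_index_two H.2, Subgroup.mul_mem_iff_of_index_two H.2,
            inv_mem_iff, inv_mem_iff]
        have h4 : g * g'⁻¹ ∈ H.1 := this (hk ▸ (by simp [h] : φ (g * g'⁻¹) = 1))
        simpa using H.1.mul_mem h4 hg'
      rcases Int.units_eq_one_or (φ g).1 with e1 | e1 <;>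
        rcases Int.units_eq_one_or (φ g).2 with e2 | e2
      · exact hc 1 (by rw [map_one]; exact Prod.ext e1 e2) H.1.one_mem
      · exact hc b (by rw [hb]; exact Prod.ext e1 e2) h2
      · exact hc a (by rw [ha]; exact Prod.ext e1 e2) h1
      · exact hc (a * b) (by rw [map_mul, ha, hb]; exact Prod.ext e1 e2) (H.1.mul_mem h1 h2)
    have := H.2
    rw [h3, Subgroup.index_top] at this
    omega
  · exact Or.inr (Or.inl (key _ _ (iff_of_true h1 a2) (iff_of_false h2 b2)))
  · exact Or.inl (key _ _ (iff_of_false h1 a1) (iff_of_true h2 b1))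
  · exact Or.inr (Or.inr (key _ _ (iff_of_false h1 a3) (iff_of_false h2 b3)))


/-- O^ε_2m(q) ≅ Ω.2² for q odd: if F is finite of odd characteristic, n ≥ 2 is even and Q has non-degenerate polar form on F^n, the isometry group of Q has exactly three subgroups of index 2. -/
theorem result {F : Type*} [Field F] [Fintype F] (h2 : (2 : F) ≠ 0) {n : ℕ} (hn : 2 ≤ n) (heven : Even n) (Q : QuadraticForm F (Fin n → F)) (hQ : (QuadraticMap.polarBilin Q).Nondegenerate) : Nat.card {H : Subgroup ↥(Cfsg.isometryGroup F ⇑Q) // H.index = 2} = 3 := by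
  have h1 := Form.ofQF_Q Q
  have hS := Form.ofQF_nondeg hQ
  refine aux (((hS.dkHom (Or.inl (gen_of_two_ne_zero h2))).prod hS.spinHom).comp
    (oEquiv h1).toMonoidHom) ((hS.prod_surjective h2 (by simpa using hn)).comp
    (oEquiv h1).surjective) ?_
  ext g
  rw [← MonoidHom.comap_ker, hS.ker_prod, Subgroup.mem_comap, Form.mem_commutator_isom]
  exact (mem_Omega_iff h1).symm

end Cfsg.Agent.S0797
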