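import Cfsg.Statements.S0798
import Cfsg.Agent.H5.Orth2

set_option autoImplicit false
open Cfsg

namespace Cfsg.Agent.S0798

open CfsgH5 Matrix

/-- For q odd, n ≥ 2 even, Q with non-degenerate polar form (n, |F|) ≠ (4, 3), and a fixed c ≠ 0: the subgroup of the isometry group generated by the reflections r_v with Q(v) ∈ c·(F^×)² has index 2. -/
theorem result {F : Type*} [Field F] [Fintype F] (h2 : (2 : F) ≠ 0) {n : ℕ} (hn : 2 ≤ n) (heven : Even n) (Q : QuadraticForm F (Fin n → F)) (hQ : (QuadraticMap.polarBilin Q).Nondegenerate) (h43 : ¬ (n = 4 ∧ Fintype.card F = 3)) (c : F) (hc : c ≠ 0) : (Subgroup.closure {g : ↥(Cfsg.isometryGroup F ⇑Q) | ∃ (v : Fin n → F) (t : F), t ≠ 0 ∧ Q v = c * t ^ 2 ∧ ((g : Matrix.GeneralLinearGroup (Fin n) F) : Matrix (Fin n) (Fin n) F) = Cfsg.reflectionMatrix ⇑Q v}).index = 2 := by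
  have h1 := Form.ofQF_Q Q
  have hS := Form.ofQF_nondeg hQ
  have hG : (∃ a : F, a ≠ 0 ∧ a ≠ 1) ∨ Module.finrank F (Fin n → F) ≠ 4 :=
    Or.inl (gen_of_two_ne_zero h2)
  obtain ⟨θ, h3, h4⟩ : ∃ θ : (Form.ofQF Q).isom →* ℤˣ,
      (∀ v, (Form.ofQF Q).Q v ≠ 0 → θ ⟨_, Form.rf_mem v⟩ = chi c * chi ((Form.ofQF Q).Q v)) ∧
      ∀ g, dk g.1 = 1 → θ g = (Form.ofQF Q).spin g := by
    rcases Int.units_eq_one_or (chi c) with h | h
    · exact ⟨hS.spinHom, fun v hv => by rw [h, one_mul, ← hS.spin_rf hv]; rfl, fun _ _ => rfl⟩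
    · exact ⟨hS.dkHom hG * hS.spinHom, fun v hv => by rw [h, ← hS.spin_rf hv, ← hS.dk_rf hv]; rfl,
        fun g hg => by change dk g.1 * (Form.ofQF Q).spin g = _; rw [hg, one_mul]⟩
  have h5 : Function.Surjective (θ.comp (oEquiv h1).toMonoidHom) := by
    refine Function.Surjective.comp (g := θ) (fun s => ?_) (oEquiv h1).surjective
    obtain ⟨a, ha, h6⟩ := exists_chi_eq h2 (chi c * s)
    obtain ⟨v, hv⟩ := hS.exists_Q_eq (by simpa) a
    exact ⟨_, by rw [h3 v (hv ▸ ha), hv, h6, ← mul_assoc, Int.units_mul_self, one_mul]⟩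
  have h6 : ∀ v t, t ≠ 0 → (Form.ofQF Q).Q v = c * t ^ 2 → θ ⟨_, Form.rf_mem v⟩ = 1 := by
    intro v t ht hv
    rw [h3 v (by rw [hv]; simp [hc, ht]), hv, mul_comm c, chi_sq_mul ht, Int.units_mul_self]
  generalize hK : Subgroup.closure {g : ↥(Cfsg.isometryGroup F ⇑Q) | ∃ (v : Fin n → F) (t : F),
    t ≠ 0 ∧ Q v = c * t ^ 2 ∧ ((g : Matrix.GeneralLinearGroup (Fin n) F) :
      Matrix (Fin n) (Fin n) F) = Cfsg.reflectionMatrix ⇑Q v} = K
  have h7 : ∀ v t, t ≠ 0 → (Form.ofQF Q).Q v = c * t ^ 2 →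
      (Form.ofQF Q).rf v ∈ K.map (oHom ⇑Q) := by
    intro v t ht hv
    obtain ⟨a, ha⟩ := exists_oHom h1 (Form.rf_mem v)
    exact ⟨a, hK ▸ Subgroup.subset_closure ⟨v, t, ht, by rwa [← h1],
      (oHom_eq_iff (reflectionMatrix_mulVec h1 v)).2 ha⟩, ha⟩
  have h8 := hS.om_le_of_class h2 (by
    obtain ⟨k, hk⟩ := heven
    simp only [Module.finrank_fin_fun]; omega) hc h7
  have h9 : K = (θ.comp (oEquiv h1).toMonoidHom).ker := by
    refine le_antisymm ?_ fun g hg => ?_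
    · rw [← hK, Subgroup.closure_le]
      rintro g ⟨v, t, ht, hv, hg⟩
      have : oEquiv h1 g = ⟨_, Form.rf_mem v⟩ :=
        Subtype.ext ((oHom_eq_iff (reflectionMatrix_mulVec h1 v)).1 hg)
      change θ (oEquiv h1 g) = 1
      rw [this, h6 v t ht (by rwa [h1])]
    · change θ (oEquiv h1 g) = 1 at hg
      have hg' := oHom_mem h1 g
      rw [← Subgroup.mem_map_iff_mem (oHom_inj _)]
      rcases Int.units_eq_one_or (dk (oHom _ g)) with h | h
      · exact h8 ((hS.mem_om_iff hG).2 ⟨hg', h, (h4 (oEquiv h1 g) h).symm.trans hg⟩)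
      · obtain ⟨v, hv⟩ := hS.exists_Q_eq (by simpa) c
        have h10 : dk ((Form.ofQF Q).rf v * oHom _ g) = 1 := by
          rw [hS.dk_rf_mul (hv ▸ hc) hg', h]; rfl
        have h11 : θ (⟨_, Form.rf_mem v⟩ * oEquiv h1 g) =
            (Form.ofQF Q).spin ((Form.ofQF Q).rf v * oHom _ g) :=
          h4 (⟨_, Form.rf_mem v⟩ * oEquiv h1 g) (by exact h10)
        rw [map_mul, hg, h6 v 1 one_ne_zero (by rw [hv]; ring), one_mul] at h11
        have h12 := mul_mem (h7 v 1 one_ne_zero (by rw [hv]; ring))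
          (h8 ((hS.mem_om_iff hG).2 ⟨mul_mem (Form.rf_mem v) hg', h10, h11.symm⟩))
        rwa [← mul_assoc, Form.rf_mul_self, one_mul] at h12
  rw [h9, Subgroup.index_ker, MonoidHom.range_eq_top.2 h5, Subgroup.card_top]
  simp

end Cfsg.Agent.S0798
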