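import Cfsg.Statements.S0799
import Cfsg.Agent.H1.Dk5

set_option autoImplicit false
open Cfsg

namespace Cfsg.Agent.S0799

/-- Dickson's classification of the subgroups of PSL_2(q), q a power of the prime p, d = gcd(2, q − 1): every subgroup H is (a) cyclic or dihedral with k dividing (q+1)/d or (q−1)/d (cyclic of order k, or dihedral of order 2k), (b) isomorphic to a subgroup of the normaliser of a Sylow p-subgroup, (c) isomorphic to A_4, S_4 or A_5, or (d) isomorphic to PSL_2(K) or PGL_2(K) for a finite field K with |K|^m = q. -/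
theorem result {F : Type*} [Field F] [Fintype F] {q : ℕ} (hF : Fintype.card F = q) (p : ℕ) [Fact p.Prime] [CharP F p] (H : Subgroup (Matrix.ProjectiveSpecialLinearGroup (Fin 2) F)) : (∃ k : ℕ, (k ∣ (q + 1) / Nat.gcd 2 (q - 1) ∨ k ∣ (q - 1) / Nat.gcd 2 (q - 1)) ∧ ((IsCyclic H ∧ Nat.card H = k) ∨ Nonempty (H ≃* DihedralGroup k))) ∨ (∃ (P : Sylow p (Matrix.ProjectiveSpecialLinearGroup (Fin 2) F)) (K : Subgroup (Matrix.ProjectiveSpecialLinearGroup (Fin 2) F)), K ≤ Subgroup.normalizer ((P : Subgroup (Matrix.ProjectiveSpecialLinearGroup (Fin 2) F)) : Set (Matrix.ProjectiveSpecialLinearGroup (Fin 2) F)) ∧ Nonempty (H ≃* K)) ∨ Nonempty (H ≃* alternatingGroup (Fin 4)) ∨ Nonempty (H ≃* Equiv.Perm (Fin 4)) ∨ Nonempty (H ≃* alternatingGroup (Fin 5)) ∨ (∃ (K : Type) (_ : Field K) (_ : Fintype K) (m : ℕ), Fintype.card K ^ m = q ∧ (Nonempty (H ≃* Matrix.ProjectiveSpecialLinearGroup (Fin 2) K) ∨ Nonempty (H ≃* Matrix.ProjGenLinGroup (Fin 2) K)))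 := by
  open Subgroup CfsgH1 CfsgH1.L2 CfsgH2 in
  classical
  subst hF
  rcases dicksonP p H with ⟨w, hw, k⟩ | ⟨c, k⟩ | ⟨k, k', -⟩ | ⟨K, _, i, f, c, -, k⟩
  · obtain ⟨a, b, -, o, e⟩ := hw.exists_idx2
    have t : ∀ n, n ∣ orderOf a → n ∣ (Fintype.card F + 1) / Nat.gcd 2 (Fintype.card F - 1) ∨
        n ∣ (Fintype.card F - 1) / Nat.gcd 2 (Fintype.card F - 1) := fun n h => by
      rw [← Nat.mul_div_cancel (orderOf a) (d_pos (F := F)), o] at h
      rcases hw.card_cases with k | k <;> rw [k] at h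
      exacts [.inr h, .inl h]
    rcases sub_dih e k with k | ⟨x, hx, y, k⟩
    · exact .inl ⟨_, t _ (Nat.card_zpowers a ▸ card_dvd_of_le k), .inl ⟨cyc_of_le inferInstance k, rfl⟩⟩
    · exact .inl ⟨_, t _ (orderOf_dvd_of_mem_zpowers hx), .inr (k.dihedral rfl)⟩
  · have s := ((sylow_US (F := F) p).map pr).cj c
    rw [map_top_of_surjective _ pr_surj, cj_top] at s
    obtain ⟨P, hP⟩ := s.of_top
    refine .inr (.inl ⟨P, H, k.trans ?_, ⟨MulEquiv.refl _⟩⟩)
    rw [hP, ← cj_normalizer]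
    exact cj_mono c ((map_mono norm_US.ge).trans (le_normalizer_map _))
  · rcases k' with c | c | c
    exacts [.inr (.inr (.inl (k.alt4 c))), .inr (.inr (.inr (.inl (k.perm4 c)))),
      .inr (.inr (.inr (.inr (.inl (k.alt5 c)))))]
  · obtain ⟨m, -, hm⟩ := exists_pow f
    have e : ∀ R, H.map io = cj c R → H ≃* R := fun R h => (H.equivMapOfInjective _ io_inj).trans
      ((MulEquiv.subgroupCongr h).trans (R.equivMapOfInjective _ (MulAut.conj c).injective).symm)
    exact .inr (.inr (.inr (.inr (.inr ⟨K, _, i, m, hm, k.imp (fun h => ⟨(e _ h).trans (eRS f).symm⟩)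
      fun h => ⟨(e _ h).trans (eRG f).symm⟩⟩))))

end Cfsg.Agent.S0799
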