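import Cfsg.Statements.S0800
import Cfsg.Agent.H1.GL2d

set_option autoImplicit false
open Cfsg

namespace Cfsg.Agent.S0800

/-- Tori of SL_2(q): if g ∈ SL_2(q) has order coprime to the characteristic p, then the order of g divides q − 1 or q + 1. -/
theorem result {F : Type*} [Field F] [Fintype F] {q : ℕ} (hF : Fintype.card F = q) (p : ℕ) [Fact p.Prime] [CharP F p] (g : Matrix.SpecialLinearGroup (Fin 2) F) (hg : Nat.Coprime (orderOf g) p) : orderOf g ∣ q - 1 ∨ orderOf g ∣ q + 1 := by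
  open Subgroup CfsgH1 CfsgH3 CfsgH1.L2 in
  classical
  subst hF
  have o := orderOf_dvd_cent g
  have key : ∀ x : Fˣ, x⁻¹ = x → orderOf (utS x 0) ∣ Fintype.card F - 1 := fun x hx =>
    orderOf_dvd_of_pow_eq_one (by rw [utS_pow x hx, ← card_units', pow_card_eq_one', mul_zero, utS_one])
  rcases cases2 (Matrix.SpecialLinearGroup.toGL g : G2 F) with k | k | ⟨x, y, k1, k⟩ | ⟨x, k, k1⟩
  · have e := eq_utS (g := g) k.2.1
    rw [show g.val 0 1 = 0 from k.1] at e
    exact .inl (e ▸ key _ (Ev.inv_eq (evG_jor k.2.1 k.2.2)))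
  · exact .inr (Ell.card_centS k ▸ o)
  · exact .inl (Ev.card_centS_spl k (Units.val_injective.ne k1) ▸ o)
  · obtain ⟨y, hy, e⟩ := Ev.isConj_jor (g := g) k k1
    have := pow_orderOf_eq_one (utS x y)
    rw [utS_pow x (Ev.inv_eq (g := g) k), ← utS_one, utS_inj, ← e.elim fun _ h => SemiconjBy.orderOf_eq _ h] at this
    have := (CharP.cast_eq_zero_iff F p _).1 (by simpa [hy] using this.2 : ((orderOf g : ℕ) : F) = 0)
    exact absurd (Nat.Coprime.eq_one_of_dvd hg.symm this) (Fact.out : p.Prime).ne_one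

end Cfsg.Agent.S0800
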