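import Cfsg.Statements.S0802
import Cfsg.Agent.H1.Dk5

set_option autoImplicit false
open Cfsg

namespace Cfsg.Agent.S0802

/-- PSL_2(p^n) has a subgroup isomorphic to A_4 if and only if it is not the case that p = 2 and n is odd. -/
theorem result {F : Type*} [Field F] [Fintype F] (p n : ℕ) [Fact p.Prime] [CharP F p] (hF : Fintype.card F = p ^ n) : (∃ H : Subgroup (Matrix.ProjectiveSpecialLinearGroup (Fin 2) F), Nonempty (H ≃* alternatingGroup (Fin 4))) ↔ ¬ (p = 2 ∧ Odd n) := by
  open Subgroup CfsgH1 CfsgH1.L2 CfsgH2 in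
  classical
  constructor
  · rintro ⟨H, ⟨e⟩⟩ ⟨rfl, k, rfl⟩
    have n := ncn_A4 e
    have c := (Nat.card_congr e.toEquiv).trans card_A4
    have b := ne_bot_of_card (n := 10) c
    have o : Even (Fintype.card F) := by simp [hF, Nat.even_pow]
    rcases dicksonP 2 H with ⟨w, hw, h⟩ | ⟨x, h⟩ | h | ⟨K, _, i, f, x, h3, h⟩
    · obtain ⟨_, _, -, -, e⟩ := hw.exists_idx2
      exact b (ncn_dih n e h)
    · have := (mul_dvd_mul_right (card_dvd_of_le h) _).trans ((congrArg (· * _) (card_cj _ _)).trans card_BB).dvd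
      rw [c, hF] at this
      have := (Nat.Coprime.dvd_mul_left (Nat.Coprime.pow_right _ (by norm_num))).1 ((by norm_num : 3 ∣ 12).trans
        ((dvd_mul_right 12 _).trans this))
      have t : 2 ^ (2 * k + 1) % 3 = 2 := by rw [pow_add, pow_mul, Nat.mul_mod, Nat.pow_mod]; simp
      generalize 2 ^ _ = x at this t
      omega
    · exact Exc.ne_two h rfl
    · have a := card_le_of_le (le_RG_of h).1
      haveI := f.charP f.injective 2
      have o : Even (Fintype.card K) := even_iff_two_dvd.2 (p_dvd_q 2)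
      have := sixty_le (F := K) (by grind)
      rw [card_cj, card_map_io, ← Nat.card_congr (eRS f).toEquiv, c] at a
      omega
  · intro h
    rcases Nat.even_or_odd (Fintype.card F) with o | o
    · obtain rfl : p = 2 := ((Fact.out : p.Prime).even_iff.1 (Nat.even_pow.1 (hF ▸ o)).1)
      obtain ⟨k, rfl⟩ := Nat.not_odd_iff_even.1 fun k => h ⟨rfl, k⟩
      letI := Fintype.ofFinite (GaloisField 2 2)
      have c : Fintype.card (GaloisField 2 2) = 4 := by rw [← Nat.card_eq_fintype_card, GaloisField.card 2 2 two_ne_zero]; rfl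
      obtain ⟨f⟩ := exists_hom (K := GaloisField 2 2) (F := F) (m := k) (by rw [c, hF, ← two_mul, pow_mul]; rfl)
      obtain ⟨Y, ⟨e⟩⟩ := exists_A5 (F := GaloisField 2 2) (by rw [c]; norm_num)
      obtain ⟨H, -, h1, h2⟩ := a4_of_a5 ((Y.equivMapOfInjective _ (p2m_inj f)).symm.trans e)
      exact ⟨H, h1.alt4 h2⟩
    · obtain ⟨H, h1, h2⟩ := exists_A4 o
      exact ⟨H, h1.alt4 h2⟩

end Cfsg.Agent.S0802
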