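import Cfsg.Statements.S0803
import Cfsg.Agent.H1.Dk5

set_option autoImplicit false
open Cfsg

namespace Cfsg.Agent.S0803

/-- PSL_2(q) has a subgroup isomorphic to S_4 iff q² ≡ 1 (mod 16). -/
theorem result {F : Type*} [Field F] [Fintype F] {q : ℕ} (hF : Fintype.card F = q) : (∃ H : Subgroup (Matrix.ProjectiveSpecialLinearGroup (Fin 2) F), Nonempty (H ≃* Equiv.Perm (Fin 4))) ↔ q ^ 2 % 16 = 1 := by
  open Subgroup CfsgH1 CfsgH1.L2 CfsgH2 in
  classical
  subst hF
  have t : ∀ n : ℕ, n ^ 2 % 16 = 1 ↔ n % 8 = 1 ∨ n % 8 = 7 := fun n => by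
    rw [Nat.pow_mod, ← Nat.mod_mod_of_dvd n (by norm_num : 8 ∣ 16)]
    have := Nat.mod_lt n (by norm_num : 0 < 16)
    generalize n % 16 = m at *
    interval_cases m <;> simp
  rw [t]
  refine ⟨fun ⟨H, ⟨e⟩⟩ => ?_, fun h => let ⟨H, h1, h2⟩ := exists_S4 h; ⟨H, h1.perm4 h2⟩⟩
  rcases Nat.even_or_odd (Fintype.card F) with o | o
  · haveI : CharP F 2 := (CharP.charP_iff_prime_eq_zero Nat.prime_two).2 (two_eq o)
    have := order_cases 2 (e.symm (finRotate 4) : P2 F)
    rw [orderOf_coe, e.symm.orderOf_eq, show orderOf (finRotate 4) = 2 ^ (1 + 1) from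
      orderOf_eq_prime_pow (by decide) (by decide), d_even o] at this
    have := two_le_q (F := F)
    obtain ⟨k, hk⟩ := o
    omega
  · refine (dvd16 o).1 ?_
    have c := (Nat.card_congr e.toEquiv).trans card_S4
    have := (mul_dvd_mul_right H.card_subgroup_dvd_card _).trans (card_P2.trans card_S2.symm).dvd
    rw [c, d_odd o] at this
    exact (by norm_num : 16 ∣ 24 * 2).trans this

end Cfsg.Agent.S0803
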