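import Cfsg.Statements.S0804
import Cfsg.Agent.H1.Dk5

set_option autoImplicit false
open Cfsg

namespace Cfsg.Agent.S0804

/-- PSL_2(q) has a subgroup isomorphic to A_5 iff 5 ∣ q(q² − 1). -/
theorem result {F : Type*} [Field F] [Fintype F] {q : ℕ} (hF : Fintype.card F = q) : (∃ H : Subgroup (Matrix.ProjectiveSpecialLinearGroup (Fin 2) F), Nonempty (H ≃* alternatingGroup (Fin 5))) ↔ 5 ∣ q * (q ^ 2 - 1) := by
  open Subgroup CfsgH1 CfsgH1.L2 CfsgH2 in
  classical
  subst hF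
  refine ⟨fun ⟨H, ⟨e⟩⟩ => ?_, exists_A5⟩
  have := (H.card_subgroup_dvd_card.mul_right _).trans card_P2.dvd
  rw [card_of_A5 e, mul_assoc, mul_comm (_ - 1), ← q_sq_sub] at this
  exact (by norm_num : 5 ∣ 60).trans this

end Cfsg.Agent.S0804
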