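import Cfsg.Statements.S0806
import Cfsg.Agent.H1.Dk5

set_option autoImplicit false
open Cfsg

namespace Cfsg.Agent.S0806

/-- Minimal index (Galois): if q ∉ {2, 3, 5, 7, 9, 11} then every proper subgroup of PSL_2(q) has index ≥ q + 1, and some subgroup has index exactly q + 1. -/
theorem result {F : Type*} [Field F] [Fintype F] {q : ℕ} (hF : Fintype.card F = q) (hq : q ∉ ({2, 3, 5, 7, 9, 11} : Finset ℕ)) : (∀ H : Subgroup (Matrix.ProjectiveSpecialLinearGroup (Fin 2) F), H ≠ ⊤ → q + 1 ≤ H.index) ∧ ∃ H : Subgroup (Matrix.ProjectiveSpecialLinearGroup (Fin 2) F), H.index = q + 1 := by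
  open Subgroup CfsgH1 CfsgH1.L2 CfsgH2 in
  classical
  subst hF
  obtain ⟨p, hp⟩ := CharP.exists F
  haveI := Fact.mk (CharP.char_is_prime F p)
  have c := card_P2 (F := F)
  have b := card_BB (F := F)
  have q2 := two_le_q (F := F)
  have q1 := q_sub_pos (F := F)
  have d2 := d_le (F := F)
  simp only [Finset.mem_insert, Finset.mem_singleton, not_or] at hq
  refine ⟨fun H h => ?_, BB F, Nat.eq_of_mul_eq_mul_left (Nat.mul_pos Nat.card_pos d_pos) (by
    rw [mul_right_comm, card_mul_index, b, c])⟩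
  suffices k : Nat.card H * Nat.gcd 2 (Fintype.card F - 1) ≤ Fintype.card F * (Fintype.card F - 1) by
    refine Nat.le_of_mul_le_mul_left ?_ (Nat.mul_pos (by omega) q1 : 0 < Fintype.card F * (Fintype.card F - 1))
    rw [← c, ← H.card_mul_index, mul_right_comm]
    exact Nat.mul_le_mul_right _ k
  have a := Nat.mul_le_mul_left (Nat.card H) d2
  rcases dicksonP' p h with ⟨w, hw, k⟩ | ⟨x, k⟩ | k | k
  · refine (Nat.mul_le_mul_right _ (card_le_of_le k)).trans (hw.card_TN.trans_le ?_)
    have := Nat.mul_le_mul_left (Fintype.card F) (show 3 ≤ Fintype.card F - 1 by omega)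
    have := hw.card_cases
    omega
  · exact (Nat.mul_le_mul_right _ ((card_le_of_le k).trans_eq (card_cj _ _))).trans b.le
  · have : Nat.card H ≤ 60 := by rcases k.2.1 with e | e | e <;> exact e.le.trans (by norm_num)
    rcases Nat.even_or_odd (Fintype.card F) with o | o
    · exact (k.ne_two (CharP.eq F hp ((CharP.charP_iff_prime_eq_zero Nat.prime_two).2 (two_eq o)))).elim
    · obtain ⟨n, hn⟩ := o
      have := Nat.mul_le_mul (show 13 ≤ Fintype.card F by omega) (show 12 ≤ Fintype.card F - 1 by omega)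
      omega
  · obtain ⟨r, m, k1, -, -, k2, -, k3⟩ := k.num
    have := Nat.le_of_dvd (Nat.mul_pos (Nat.mul_pos (by omega) (by omega)) (by omega)) k3
    rw [card_map_io] at this
    obtain ⟨s, rfl⟩ : ∃ s, r = s + 1 := ⟨r - 1, by omega⟩
    have k4 := Nat.mul_le_mul k2 (show s * (s + 2) ≤ Fintype.card F - 1 from Nat.le_sub_one_of_lt (by nlinarith))
    rw [Nat.add_sub_cancel] at this
    nlinarith [Nat.mul_le_mul_left (s * (s + 1) * (s + 2)) (show 2 ≤ s + 1 by omega)]

end Cfsg.Agent.S0806
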