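import Cfsg.Statements.S1256
import Cfsg.Agent.H2.DihFus

set_option autoImplicit false
open Cfsg

namespace Cfsg.Agent.S1256
open Subgroup CfsgH2
open scoped commutatorElement

/-- Let X be a finite group whose Sylow 2-subgroup S is dihedral of order 2m ≥ 4. If |S| = 4, any two Klein four-subgroups of X are conjugate; if |S| > 4, there are Klein four-subgroups U₁, U₂ of X that are not conjugate, and every Klein four-subgroup of X is conjugate to U₁ or to U₂. -/
theorem result {X : Type*} [Group X] [Finite X] (S : Sylow 2 X) (m : ℕ) (hm : 2 ≤ m) (eS : (S : Subgroup X) ≃* DihedralGroup m) : (Nat.card S = 4 → ∀ U V : Subgroup X, IsKleinFour U → IsKleinFour V → (∃ x : X, U.map (MulAut.conj x).toMonoidHom = V)) ∧ (4 < Nat.card S → ∃ U₁ U₂ : Subgroup X, IsKleinFour U₁ ∧ IsKleinFour U₂ ∧ ¬ (∃ x : X, U₁.map (MulAut.conj x).toMonoidHom = U₂) ∧ ∀ V : Subgroup X, IsKleinFour V → (∃ x : X, V.map (MulAut.conj x).toMonoidHom = U₁) ∨ (∃ x : X, V.map (MulAut.conj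 x).toMonoidHom = U₂)) := by
  have hs := IsSylowIn.of_sylow_top S
  constructor
  · intro h4 U V hU hV
    have h1 : ∀ U : Subgroup X, IsKleinFour U → IsSylowIn 2 U ⊤ := fun U hU =>
      hs.of_card_le (isPGroup_of_kleinFour hU) le_top (by rw [(isKleinFour_iff.1 hU).1]; exact h4.le)
    obtain ⟨x, -, hx⟩ := (h1 U hU).exists_cj_eq (h1 V hV)
    exact ⟨x, hx⟩
  · intro h4
    rcases dihedral_cases S.isPGroup' hm eS with hK | ⟨a, b, r, hM, -⟩
    · have := (isKleinFour_iff.1 hK).1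
      exact absurd this h4.ne'
    refine ⟨_, _, hM.klein_of (hM.dih_sq 0), hM.klein_of (hM.dih_sq 1), fun ⟨x, hx⟩ => ?_,
      fun V hV => ?_⟩
    · have := hM.dih_klein_not_fused hs hx; omega
    · obtain ⟨x, -, hx⟩ := hs.exists_cj_le (isPGroup_of_kleinFour hV) le_top
      obtain ⟨j, -, e⟩ := hM.klein_eq hx (isKleinFour_cj hV x)
      rcases Int.even_or_odd' j with ⟨d, e1 | e1⟩
      · obtain ⟨l, hl⟩ := hM.cj_sub (r + 1) (i := j) (j := 0) (by omega)
        exact Or.inl ⟨a ^ l * x, by rw [cj_def, ← cj_cj, e, hl]⟩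
      · obtain ⟨l, hl⟩ := hM.cj_sub (r + 1) (i := j) (j := 1) (by omega)
        exact Or.inr ⟨a ^ l * x, by rw [cj_def, ← cj_cj, e, hl]⟩


end Cfsg.Agent.S1256
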