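import Cfsg.Statements.S0808
import Cfsg.Agent.H1.PSL2c
import Cfsg.Agent.S1256

set_option autoImplicit false
open Cfsg

namespace Cfsg.Agent.S0808

/-- Conjugacy classes of four-groups in PSL_2(q), q odd: if q ≡ 3 or 5 (mod 8) all Klein four-subgroups are conjugate; if q ≡ 1 or 7 (mod 8) there are two Klein four-subgroups which are not conjugate, and every Klein four-subgroup is conjugate to one of them. -/
theorem result {F : Type*} [Field F] [Fintype F] {q : ℕ} (hF : Fintype.card F = q) (hodd : Odd q) : ((q % 8 = 3 ∨ q % 8 = 5) → ∀ V W : Subgroup (Matrix.ProjectiveSpecialLinearGroup (Fin 2) F), IsKleinFour V → IsKleinFour W → ∃ g : Matrix.ProjectiveSpecialLinearGroup (Fin 2) F, W = V.map (MulAut.conj g).toMonoidHom) ∧ ((q % 8 = 1 ∨ q % 8 = 7) → ∃ V₁ V₂ : Subgroup (Matrix.ProjectiveSpecialLinearGroup (Fin 2) F), IsKleinFour V₁ ∧ IsKleinFour V₂ ∧ (¬ ∃ g : Matrix.ProjectiveSpecialLinearGroup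 (Fin 2) F, V₂ = V₁.map (MulAut.conj g).toMonoidHom) ∧ ∀ W : Subgroup (Matrix.ProjectiveSpecialLinearGroup (Fin 2) F), IsKleinFour W → (∃ g : Matrix.ProjectiveSpecialLinearGroup (Fin 2) F, W = V₁.map (MulAut.conj g).toMonoidHom) ∨ (∃ g : Matrix.ProjectiveSpecialLinearGroup (Fin 2) F, W = V₂.map (MulAut.conj g).toMonoidHom)) := by
  open Subgroup CfsgH1 CfsgH3 CfsgH1.L2 CfsgH2 in
  classical
  subst hF
  obtain ⟨P⟩ : Nonempty (Sylow 2 (P2 F)) := inferInstance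
  obtain ⟨m, h1, h2, ⟨e⟩, h3, h4⟩ := sylow2_dih hodd P
  obtain ⟨a, b⟩ := Cfsg.Agent.S1256.result P m h1 e
  refine ⟨fun k V W hV hW => (a (by rw [h2, h3 k]) V W hV hW).imp fun _ => Eq.symm, fun k => ?_⟩
  obtain ⟨U, V, hU, hV, n, c⟩ := b (by have := h4 k; omega)
  refine ⟨U, V, hU, hV, fun ⟨g, k⟩ => n ⟨g, k.symm⟩, fun W hW => ?_⟩
  exact (c W hW).imp (fun ⟨g, k⟩ => ⟨g⁻¹, cj_eq_iff_eq_cj_inv.1 k⟩) fun ⟨g, k⟩ =>
    ⟨g⁻¹, cj_eq_iff_eq_cj_inv.1 k⟩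

end Cfsg.Agent.S0808
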