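import Cfsg.Statements.S0809
import Cfsg.Agent.H1.PSL2c

set_option autoImplicit false
open Cfsg

namespace Cfsg.Agent.S0809

/-- In SL_2(q), q odd: any two subgroups of order 4 are conjugate, and the normaliser of a subgroup of order 4 has order 2(q − 1) if q ≡ 1 (mod 4) and 2(q + 1) if q ≡ 3 (mod 4); consequently all involutions of PSL_2(q) are conjugate. -/
theorem result {F : Type*} [Field F] [Fintype F] {q : ℕ} (hF : Fintype.card F = q) (hodd : Odd q) (A : Subgroup (Matrix.SpecialLinearGroup (Fin 2) F)) (hA : Nat.card A = 4) : (∀ B : Subgroup (Matrix.SpecialLinearGroup (Fin 2) F), Nat.card B = 4 → ∃ g : Matrix.SpecialLinearGroup (Fin 2) F, B = A.map (MulAut.conj g).toMonoidHom) ∧ (q % 4 = 1 → Nat.card ↥(Subgroup.normalizer (A : Set (Matrix.SpecialLinearGroup (Fin 2) F))) = 2 * (q - 1)) ∧ (q % 4 = 3 → Nat.card ↥(Subgroup.normalizer (A : Set (Matrix.SpecialLinearGroup (Fin 2) F))) = 2 * (q + 1)) ∧ (∀ x y : Matrix.ProjectiveSpecialLinearGroup (Fin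 2) F, orderOf x = 2 → orderOf y = 2 → IsConj x y) := by
  open Subgroup CfsgH1 CfsgH3 CfsgH1.L2 CfsgH2 in
  classical
  subst hF
  have h2 := two_ne hodd
  obtain ⟨i, hi, rfl⟩ := exists_gen_four h2 hA
  have s := ss_of_tr h2 hi
  have c := card_tr0 hodd hi
  rw [s.norm_eq (mem_zpowers i) (zpowers_le.2 (self_mem_cent i)), s.card_norm]
  refine ⟨fun B hB => ?_, fun k => by omega, fun k => by omega, fun x y => isConj_invol hodd⟩
  obtain ⟨j, hj, rfl⟩ := exists_gen_four h2 hB
  obtain ⟨g, rfl⟩ := isConj_iff.1 (isConj_of_tr s (hj.trans hi.symm))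
  exact ⟨g, (cj_zpowers g i).symm⟩

end Cfsg.Agent.S0809
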