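import Cfsg.Statements.S0810
import Cfsg.Agent.H1.Dk6

set_option autoImplicit false
open Cfsg

namespace Cfsg.Agent.S0810

/-- PSL_2(q) is minimal simple iff q is 2^r (r prime), 3^r (r an odd prime), a prime greater than 5 congruent to 2 or 3 mod 5, or 5. -/
theorem result {F : Type*} [Field F] [Fintype F] {q : ℕ} (hF : Fintype.card F = q) : Cfsg.IsMinimalSimple (Matrix.ProjectiveSpecialLinearGroup (Fin 2) F) ↔ ((∃ r : ℕ, r.Prime ∧ q = 2 ^ r) ∨ (∃ r : ℕ, r.Prime ∧ r ≠ 2 ∧ q = 3 ^ r) ∨ (q.Prime ∧ 5 < q ∧ (q % 5 = 2 ∨ q % 5 = 3)) ∨ q = 5) := by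
  open Subgroup CfsgH1 CfsgH1.L2 CfsgH2 in
  classical
  subst hF
  obtain ⟨p, hp⟩ := CharP.exists F
  obtain ⟨⟨n, n0⟩, pp, hn⟩ := FiniteField.card F p
  haveI := Fact.mk pp
  have p2 := pp.two_le
  have c := card_P2 (F := F)
  change _ = p ^ n at hn
  constructor
  · rintro ⟨h1, h2, h3⟩
    have a5 : 5 ∣ Fintype.card F * (Fintype.card F ^ 2 - 1) → Fintype.card F ≤ 5 := fun k => by
      obtain ⟨H, ⟨e⟩⟩ := exists_A5 k
      by_contra k
      exact (ncn_A5 e).not_solv_60 (card_of_A5 e) (h3 H fun t => by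
        have := card_of_A5 e; have := sixty_lt (F := F) (by omega); simp_all)
    have h4 : 4 ≤ Fintype.card F := by_contra fun k => h2 (by
      have := two_le_q (F := F)
      have t : Nat.card (P2 F) = 6 ∨ Nat.card (P2 F) = 12 := by
        rcases (by omega : Fintype.card F = 2 ∨ Fintype.card F = 3) with e | e <;> rw [e] at c
        exacts [.inl ((mul_one _).symm.trans c), .inr (by change _ * 2 = 24 at c; omega)]
      haveI : Group.IsSolvable (P2 F) := solv_of_dvd_60 (by rcases t with t | t <;> simp only [t] <;> decide) (by omega)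
      exact ⟨⟨IsSimpleGroup.comm_iff_isSolvable.2 this⟩⟩)
    rcases (show 1 ≤ n from n0).eq_or_lt with rfl | n1
    · rw [pow_one] at hn
      rw [hn] at a5 h4 ⊢
      by_cases h5 : p = 5
      · exact .inr (.inr (.inr h5))
      have : p ≠ 4 := by rintro rfl; norm_num at pp
      refine .inr (.inr (.inl ⟨pp, by omega, by_contra fun k => ?_⟩))
      refine absurd (a5 ?_) (by omega)
      rcases (by omega : p % 5 = 0 ∨ p % 5 = 1 ∨ p % 5 = 4) with h | h | h
      · exact (Nat.dvd_of_mod_eq_zero h).mul_right _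
      all_goals exact Dvd.dvd.mul_left ((Nat.modEq_iff_dvd' (Nat.one_le_pow _ _ pp.pos)).1 (by
        simp [Nat.ModEq, Nat.pow_mod, h])) _
    obtain ⟨r, hr, m, rfl⟩ := Nat.exists_prime_and_dvd n1.ne'
    have m0 : m ≠ 0 := by rintro rfl; simp at n0
    letI := Fintype.ofFinite (GaloisField p m)
    have c' : Fintype.card (GaloisField p m) = p ^ m := by rw [← Nat.card_eq_fintype_card, GaloisField.card p m m0]
    have e : Fintype.card (GaloisField p m) ^ r = Fintype.card F := by rw [c', hn, mul_comm, pow_mul]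
    obtain ⟨f⟩ := exists_hom e
    have l : p ^ m < 4 := by_contra fun k => not_solv_P2 (c' ▸ not_lt.1 k) (by
      haveI := h3 (p2m f).range fun t => ne_LP f hr e (c := 1) (by
        rw [CfsgH2.cj_one, ← range_io, MonoidHom.range_eq_map, ← t, range_p2m]; exact RS_le_RG f)
      exact isSolvable_of_equiv (MonoidHom.ofInjective (p2m_inj f)).symm)
    obtain rfl : m = 1 := by
      by_contra k
      have := (Nat.pow_le_pow_left p2 2).trans (Nat.pow_le_pow_right pp.pos (show 2 ≤ m by omega))
      omega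
    rw [mul_one] at hn
    rw [pow_one] at l
    rcases (by omega : p = 2 ∨ p = 3) with rfl | rfl
    · exact .inl ⟨r, hr, hn⟩
    · exact .inr (.inl ⟨r, hr, by rintro rfl; simp [hn] at a5, hn⟩)
  · intro h
    have h4 : 4 ≤ Fintype.card F := by
      rcases h with ⟨r, hr, e⟩ | ⟨r, hr, -, e⟩ | h | h <;> try omega
      exacts [e ▸ Nat.pow_le_pow_right two_pos hr.two_le, e ▸ le_trans (by norm_num) (Nat.pow_le_pow_right three_pos hr.two_le)]
    have s := simple_P2 h4
    refine ⟨s, fun k => not_solv_P2 h4 isSolvable_of_isMulCommutative, fun H hH => ?_⟩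
    have s24 : ∀ H : Subgroup (P2 F), Nat.card H ∣ 24 → Group.IsSolvable H := fun H k =>
      CfsgH3.isSolvable_of_card_dvd_pow_mul_pow (a := 3) (b := 1) Nat.prime_two Nat.prime_three k
    rcases dicksonP' p hH with ⟨w, hw, k⟩ | ⟨x, k⟩ | k | k
    · obtain ⟨a, b, -, -, e⟩ := hw.exists_idx2
      exact isSolvable_of_le (solv_dih e) k
    · exact solv_io (solv_B (map_io_BB k))
    · rcases k.2.1 with e | e | e
      · exact s24 H (e.dvd.trans (by norm_num))
      · exact s24 H e.dvd
      exfalso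
      have := (H.card_subgroup_dvd_card.mul_right _).trans c.dvd
      have := (by norm_num : 5 ∣ 60).trans (e ▸ this)
      rw [Nat.prime_five.dvd_mul, Nat.prime_five.dvd_mul] at this
      rcases h with ⟨r, hr, t⟩ | ⟨r, hr, r2, t⟩ | h | h
      · exact k.ne_two ((Nat.prime_dvd_prime_iff_eq pp Nat.prime_two).1 (pp.dvd_of_dvd_pow (t ▸ p_dvd_q p)))
      · obtain ⟨j, rfl⟩ := hr.odd_of_ne_two r2
        have : 9 ^ j % 5 = 1 ∨ 9 ^ j % 5 = 4 := by
          clear hr r2 t; induction j with
          | zero => simp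
          | succ m ih => rw [pow_succ]; omega
        rw [pow_succ, pow_mul, show 3 ^ 2 = 9 from rfl] at t
        omega
      · omega
      · have := card_lt_of_ne hH
        have := cardP (F := F) (h ▸ by decide) (n := 60) (by rw [h])
        simp_all
    · obtain ⟨r, m, k1, k2, k3, -, -, k4⟩ := k.num
      have t : ∀ a b, a.Prime → b.Prime → Fintype.card F = a ^ b → r = a := fun a b ha hb e => by
        obtain ⟨j, -, rfl⟩ := (Nat.dvd_prime_pow ha).1 (e ▸ k3 ▸ dvd_pow_self r (by omega) : r ∣ a ^ b)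
        rw [e, ← pow_mul, Nat.pow_right_inj ha.one_lt] at k3
        rcases hb.eq_one_or_self_of_dvd m ⟨j, by rw [← k3, mul_comm]⟩ with rfl | rfl
        · omega
        · rw [(Nat.mul_eq_right hb.ne_zero).1 k3, pow_one]
      rcases h with ⟨b, hb, e⟩ | ⟨b, hb, -, e⟩ | h | h
      · have := t 2 b Nat.prime_two hb e; omega
      · rw [t 3 b Nat.prime_three hb e, card_map_io] at k4
        exact s24 H k4
      exacts [(not_subC h.1 k).elim, (not_subC (h ▸ Nat.prime_five) k).elim]

end Cfsg.Agent.S0810
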