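import Cfsg.Statements.S0813
import Mathlib
import Cfsg.Agent.H8.AutPSL2

set_option autoImplicit false
open Cfsg

namespace Cfsg.Agent.S0813

/-- |Aut(PSL_n(q))|, q = p^f: for n ≥ 3 it is 2 f |PGL_n(q)|, and for n = 2 (q ≥ 4) it is f |PGL_2(q)|. -/
theorem result {F : Type*} [Field F] [Fintype F] (p f : ℕ) [Fact p.Prime] (hf : 1 ≤ f) (hF : Fintype.card F = p ^ f) (n : ℕ) (hn : 2 ≤ n) (h2 : n = 2 → 4 ≤ p ^ f) : Nat.card (MulAut (Matrix.ProjectiveSpecialLinearGroup (Fin n) F)) = (if n = 2 then 1 else 2) * f * Nat.card (Matrix.ProjGenLinGroup (Fin n) F) := by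
  haveI : Nonempty (Fin n) := ⟨⟨0, by omega⟩⟩
  have hP : Nat.card (GL (Fin n) F) = Nat.card (Matrix.ProjGenLinGroup (Fin n) F) *
      Nat.card (Subgroup.center (GL (Fin n) F)) := Subgroup.card_eq_card_quotient_mul_card_subgroup _
  have hZ : 0 < Nat.card (Subgroup.center (GL (Fin n) F)) := Nat.card_pos
  have hA := CfsgH8.card_ringAut hF
  split_ifs with h
  · subst h
    let Φ := (CfsgH8.pslPhi (ι := Fin 2) (F := F)).comp CfsgH8.gammaLIncl
    have hΦ : Function.Surjective Φ := fun β => by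
      obtain ⟨M, σ, rfl⟩ := CfsgH8.pslPhi_surj_two (by simp) β
      exact ⟨⟨M, σ⟩, rfl⟩
    have h1 := CfsgH8.card_of_surj_ker Φ hΦ
    rw [CfsgH8.card_ker_scalar Φ SemidirectProduct.inl SemidirectProduct.inl_injective
      (fun γ => ⟨fun hγ => by
        obtain ⟨h1, c, hc⟩ := CfsgH8.scalar_of_pslPhi_eq_one (M := γ.left) (σ := γ.right) (by simp) hγ
        exact ⟨c, SemidirectProduct.ext hc h1⟩, by
        rintro ⟨c, rfl⟩
        exact CfsgH8.pslPhi_scalar c⟩), SemidirectProduct.card, hP, hA] at h1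
    refine Nat.eq_of_mul_eq_mul_right hZ ?_
    rw [← h1]; ring
  · have h1 := CfsgH8.card_of_surj_ker _ (CfsgH8.pslPhi_surj (ι := Fin n) (F := F) (by simpa using hn))
    rw [CfsgH8.card_ker_scalar _ SemidirectProduct.inl SemidirectProduct.inl_injective
      (fun γ => CfsgH8.pslPhi_eq_one_iff (by simp; omega)), SemidirectProduct.card, hP, Nat.card_prod,
      hA] at h1
    refine Nat.eq_of_mul_eq_mul_right hZ ?_
    rw [← h1]
    simp
    ring

end Cfsg.Agent.S0813
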