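import Cfsg.Statements.S0814
import Mathlib
import Cfsg.Agent.S2600
import Cfsg.Agent.H8.AutO3

set_option autoImplicit false
open Cfsg

namespace Cfsg.Agent.S0814

/-- |Aut(PSp_2m(q))| = gcd(2, q−1) · f · |PSp_2m(q)| for q = p^f, m ≥ 2, (m, q) ≠ (2, 2), with an extra factor 2 exactly when m = 2 and p = 2. -/
theorem result {F : Type*} [Field F] [Fintype F] (p f : ℕ) [Fact p.Prime] (hf : 1 ≤ f) (hF : Fintype.card F = p ^ f) (m : ℕ) (hm : 2 ≤ m) (h22 : m = 2 → 3 ≤ p ^ f) : Nat.card (MulAut (Cfsg.PSp m F)) = (if m = 2 ∧ p = 2 then 2 else 1) * Nat.gcd 2 (p ^ f - 1) * f * Nat.card (Cfsg.PSp m F) := by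
  haveI : Nonempty (Fin m ⊕ Fin m) := ⟨.inl ⟨0, by omega⟩⟩
  have hef := CfsgH8.sp_hyp (F := F) (⟨0, by omega⟩ : Fin m)
  have h3 : 3 ≤ Fintype.card (Fin m ⊕ Fin m) := by simp; omega
  refine ((CfsgH8.fsetup_sp m F).card_aut hef h3).trans ?_
  congr 1
  split_ifs with h
  · obtain ⟨rfl, rfl⟩ := h
    have : Nat.gcd 2 (2 ^ f - 1) = 1 := by
      obtain ⟨k, rfl⟩ := Nat.exists_eq_add_of_le' hf
      have := Nat.one_le_two_pow (n := k)
      exact (Nat.coprime_two_left.2 (Nat.odd_iff.2 (by rw [pow_succ]; omega)))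
    rw [this, mul_one]
    exact (Cfsg.Agent.S2600.result hf hF).2
  have hs : Function.Surjective (CfsgH8.fsetup_sp m F).simPhi := by
    refine CfsgH8.sp_surj hm ?_
    rcases hm.eq_or_lt with rfl | h'
    · exact Or.inl (CfsgH8.two_ne_of_odd (hF ▸ ((Fact.out : p.Prime).odd_of_ne_two fun hp => h ⟨rfl, hp⟩).pow))
    · exact Or.inr h'
  refine ((CfsgH8.fsetup_sp m F).card_out hs hef h3
    ((QuotientGroup.mk' (powMonoidHom 2 : Fˣ →* Fˣ).range).comp (CfsgH8.simMult (CfsgH5.spForm_nondeg m)))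
    ((QuotientGroup.mk'_surjective _).comp CfsgH8.sp_simMult_surj)
    (fun g => (QuotientGroup.eq_one_iff _).trans (CfsgH8.sp_mem_Inn hm g).symm)
    fun σ => ⟨⟨_, CfsgH8.sp_inr_mem σ⟩, rfl⟩).trans ?_
  rw [CfsgH8.card_ringAut hF, ← Subgroup.index_eq_card, IsCyclic.index_powMonoidHom_range, Nat.card_units,
    Nat.card_eq_fintype_card, Nat.gcd_comm, hF, one_mul]

end Cfsg.Agent.S0814
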