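import Cfsg.Statements.S0816
import Mathlib
import Cfsg.Agent.H8.AutO3

set_option autoImplicit false
open Cfsg

namespace Cfsg.Agent.S0816

/-- |Aut(PΩ_(2m+1)(q))| = 2 f · |PΩ_(2m+1)(q)| for q = p^f odd and m ≥ 3 (for the form quadFormOdd). -/
theorem result {F : Type*} [Field F] [Fintype F] (p f : ℕ) [Fact p.Prime] (hf : 1 ≤ f) (hF : Fintype.card F = p ^ f) (hodd : Odd p) (m : ℕ) (hm : 3 ≤ m) : Nat.card (MulAut (Cfsg.POmega F (Cfsg.quadFormOdd m F))) = 2 * f * Nat.card (Cfsg.POmega F (Cfsg.quadFormOdd m F)) := by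
  have h2 := CfsgH8.two_ne_of_odd (F := F) (hF ▸ hodd.pow)
  have h5 := CfsgH8.five_odd (m := m) (by omega)
  have hS := CfsgH5.oddForm_nondeg m h2
  obtain ⟨e, f', hef⟩ := CfsgH8.o_hyp hS h5
  obtain ⟨θ, h1, h3, -⟩ := CfsgH8.exists_theta_odd hS (CfsgH8.genC_of h5)
    (by rw [CfsgH8.card_odd]; simp) (by omega)
  refine ((CfsgH8.fsO (by omega) h2).card_aut hef (by omega)).trans ?_
  rw [CfsgH8.o_card_out (CfsgH5.oddForm_Q m) hS h5 (CfsgH8.o_surj (CfsgH5.oddForm_Q m) hS (by rw [CfsgH8.card_odd]; omega)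
    fun h => by rw [CfsgH8.card_odd] at h; omega) θ h1 h3, CfsgH8.card_ringAut hF]
  simp

end Cfsg.Agent.S0816
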