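import Cfsg.Statements.S2607
import Mathlib
import Cfsg.Agent.H8.OutD4

set_option autoImplicit false
open Cfsg

namespace Cfsg.Agent.S2607

/-- Outer automorphism group of PΩ⁺_2m(q), q = 2^f: for m ≥ 5 it is the direct product of a group of order 2 (graph automorphism, an orthogonal transvection) and a cyclic group of order f (field automorphisms); for m = 4 triality enlarges it to S_3 × C_f. -/
theorem result {F : Type*} [Field F] [Fintype F] {f m : ℕ} (hf : 1 ≤ f) (hF : Fintype.card F = 2 ^ f) (hm : 4 ≤ m) : if m = 4 then Nonempty (Cfsg.Out (Cfsg.POmega F (Cfsg.quadFormPlus m F)) ≃* Equiv.Perm (Fin 3) × Multiplicative (ZMod f)) else Nonempty (Cfsg.Out (Cfsg.POmega F (Cfsg.quadFormPlus m F)) ≃* Multiplicative (ZMod 2 × ZMod f)) := by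
  have h2 := CfsgH8.two_eq_of_card hF
  obtain ⟨e'⟩ := CfsgH8.exists_ringAut_equiv hF
  split_ifs with h
  · subst h
    obtain ⟨e1⟩ := CfsgH8.equiv_D4 F
    obtain ⟨e2⟩ := CfsgH8.out_equiv_of_equiv e1
    obtain ⟨e3⟩ := CfsgH8.out_D4_even h2
    exact ⟨e2.symm.trans (e3.trans ((MulEquiv.refl _).prodCongr e'))⟩
  · have : Nonempty (Fin m ⊕ Fin m) := ⟨.inl ⟨0, by omega⟩⟩
    have h5 := CfsgH8.five_plus (m := m) (by omega)
    have hS := CfsgH5.plusForm_nondeg (F := F) m
    have hk := CfsgH8.card_plus m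
    have hs := CfsgH8.o_surj (CfsgH5.plusForm_Q m) hS (by omega) fun h => by omega
    obtain ⟨e⟩ := CfsgH8.o_out_inr (CfsgH5.plusForm_Q m) hS h5 hs _ (CfsgH8.sdk_surj hS _ hk)
      (fun g => (CfsgH8.mem_KO_two hS _ h2 hk).symm) (CfsgH8.plus_inr_mem m) (CfsgH8.sdk_conjS hS _ hk)
    exact ⟨e.trans ((CfsgH8.unitsEquiv.prodCongr e').trans (MulEquiv.prodMultiplicative _ _).symm)⟩

end Cfsg.Agent.S2607
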