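import Cfsg.Statements.S2608
import Mathlib
import Cfsg.Agent.H8.OutD4

set_option autoImplicit false
open Cfsg

namespace Cfsg.Agent.S2608

/-- Outer automorphism group of PΩ⁺_2m(q), q = p^f odd: for m = 4 it is S_4 × C_f (triality); for m ≥ 5 it is C_2 × C_2 × C_f when q ≡ 3 (mod 4) and m is odd, and D_8 × C_f otherwise. -/
theorem result {F : Type*} [Field F] [Fintype F] {p f m : ℕ} [Fact p.Prime] (hf : 1 ≤ f) (hF : Fintype.card F = p ^ f) (hp : p ≠ 2) (hm : 4 ≤ m) : if m = 4 then Nonempty (Cfsg.Out (Cfsg.POmega F (Cfsg.quadFormPlus m F)) ≃* Equiv.Perm (Fin 4) × Multiplicative (ZMod f)) else if p ^ f % 4 = 3 ∧ Odd m then Nonempty (Cfsg.Out (Cfsg.POmega F (Cfsg.quadFormPlus m F)) ≃* Multiplicative (ZMod 2 × ZMod 2 × ZMod f)) else Nonempty (Cfsg.Out (Cfsg.POmega F (Cfsg.quadFormPlus m F)) ≃* DihedralGroup 4 × Multiplicative (ZMod f)) := by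
  have ho : Odd (Fintype.card F) := hF ▸ ((Fact.out : p.Prime).odd_of_ne_two hp).pow
  have h2 := CfsgH8.two_ne_of_odd ho
  obtain ⟨e'⟩ := CfsgH8.exists_ringAut_equiv hF
  by_cases h : m = 4
  · rw [if_pos h]
    subst h
    obtain ⟨e1⟩ := CfsgH8.equiv_D4 F
    obtain ⟨e2⟩ := CfsgH8.out_equiv_of_equiv e1
    obtain ⟨e3⟩ := CfsgH8.out_D4_odd h2
    exact ⟨e2.symm.trans (e3.trans ((MulEquiv.refl _).prodCongr e'))⟩
  rw [if_neg h]
  have : Nonempty (Fin m ⊕ Fin m) := ⟨.inl ⟨0, by omega⟩⟩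
  have h5 := CfsgH8.five_plus (m := m) (by omega)
  have hS := CfsgH5.plusForm_nondeg (F := F) m
  have hk := CfsgH8.card_plus m
  have hs := CfsgH8.o_surj (CfsgH5.plusForm_Q m) hS (by omega) fun h => by omega
  have hn := CfsgH8.spG_neg_iff hS h2 hk
  rw [CfsgH8.pow_mod_four ho, iff_true_intro (CfsgH5.plusForm_isPlus m), true_iff, hF, and_comm] at hn
  split_ifs with h'
  · obtain ⟨e⟩ := CfsgH8.o_out_inr (CfsgH5.plusForm_Q m) hS h5 hs _ (CfsgH8.klein_surj hS _ h2 hk)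
      (fun g => Prod.ext_iff.trans (CfsgH8.mem_KO_klein hS _ h2 hk (hn.not.2 (not_not.2 h'))).symm)
      (CfsgH8.plus_inr_mem m) fun y g => Prod.ext (CfsgH8.smu_conjS hS y g) (CfsgH8.sdk_conjS hS _ hk y g)
    exact ⟨e.trans (MulEquiv.prodAssoc.trans ((CfsgH8.unitsEquiv.prodCongr ((CfsgH8.unitsEquiv.prodCongr e').trans
      (MulEquiv.prodMultiplicative _ _).symm)).trans (MulEquiv.prodMultiplicative _ _).symm))⟩
  · let i : Fin m := ⟨0, by omega⟩
    obtain ⟨e⟩ := CfsgH8.o_out_d8_inr (CfsgH5.plusForm_Q m) hS h5 hs h2 hk (hn.2 h') (CfsgH8.plus_inr_mem m)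
      (v := Sum.elim (Pi.single i 1) (Pi.single i 1))
      (by simp [CfsgH5.plusForm_Q, Cfsg.quadFormPlus, Pi.single_apply])
      (by rintro σ (j | j) <;> simp [Pi.single_apply, apply_ite σ])
    exact ⟨e.trans ((MulEquiv.refl _).prodCongr e')⟩

end Cfsg.Agent.S2608
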