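import Cfsg.Statements.S0817
import Mathlib
import Cfsg.Agent.S2607
import Cfsg.Agent.S2608

set_option autoImplicit false
open Cfsg

namespace Cfsg.Agent.S0817

/-- |Aut(PΩ⁺_2m(q))| for q = p^f, m ≥ 4: |PΩ⁺_2m(q)| times f, times 3 when m = 4, times 2 if p = 2, and times 8 or 4 if p is odd according as m(q−1)/2 is even or odd. -/
theorem result {F : Type*} [Field F] [Fintype F] (p f : ℕ) [Fact p.Prime] (hf : 1 ≤ f) (hF : Fintype.card F = p ^ f) (m : ℕ) (hm : 4 ≤ m) : Nat.card (MulAut (Cfsg.POmega F (Cfsg.quadFormPlus m F))) = (if m = 4 then 3 else 1) * (if p = 2 then 2 else (if Even (m * (p ^ f - 1) / 2) then 8 else 4)) * f * Nat.card (Cfsg.POmega F (Cfsg.quadFormPlus m F)) := by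
  have h5 := CfsgH8.five_plus (m := m) (by omega)
  obtain ⟨e, f', hef⟩ := CfsgH8.o_hyp (CfsgH5.plusForm_nondeg (F := F) m) h5
  refine ((CfsgH8.fsP (by omega)).card_aut hef (by omega)).trans ?_
  congr 1
  haveI : NeZero f := ⟨by omega⟩
  by_cases hp : p = 2
  · subst hp
    have := Cfsg.Agent.S2607.result hf hF hm
    rw [if_pos rfl]
    split_ifs at this ⊢ with h
    · obtain ⟨e⟩ := this
      refine (Nat.card_congr e.toEquiv).trans ?_
      simp [Fintype.card_perm, Nat.factorial]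
    · obtain ⟨e⟩ := this
      refine (Nat.card_congr e.toEquiv).trans ?_
      simp
  have ho : Odd (Fintype.card F) := hF ▸ ((Fact.out : p.Prime).odd_of_ne_two hp).pow
  have hE : Even (m * (p ^ f - 1) / 2) ↔ ¬ (p ^ f % 4 = 3 ∧ Odd m) := by
    rw [← hF]
    obtain ⟨t, ht⟩ := ho
    rw [ht, Nat.add_sub_cancel, mul_left_comm, Nat.mul_div_cancel_left _ two_pos, Nat.even_mul,
      ← Nat.not_odd_iff_even, Nat.even_iff, Nat.odd_iff]
    omega
  have := Cfsg.Agent.S2608.result hf hF hp hm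
  rw [if_neg hp]
  by_cases h : m = 4
  · rw [if_pos h] at this
    obtain ⟨e⟩ := this
    rw [if_pos h, if_pos (hE.2 fun h' => by subst h; exact absurd h'.2 (by decide))]
    refine (Nat.card_congr e.toEquiv).trans ?_
    simp [Fintype.card_perm, Nat.factorial]
  rw [if_neg h] at this ⊢
  by_cases h' : p ^ f % 4 = 3 ∧ Odd m
  · rw [if_pos h'] at this
    obtain ⟨e⟩ := this
    rw [if_neg (hE.not.2 (not_not.2 h'))]
    refine (Nat.card_congr e.toEquiv).trans ?_
    simp [← mul_assoc]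
  · rw [if_neg h'] at this
    obtain ⟨e⟩ := this
    rw [if_pos (hE.2 h')]
    refine (Nat.card_congr e.toEquiv).trans ?_
    simp [DihedralGroup.card]

end Cfsg.Agent.S0817
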