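import Cfsg.Statements.S0818
import Mathlib
import Cfsg.Agent.H8.AutO3

set_option autoImplicit false
open Cfsg

namespace Cfsg.Agent.S0818

/-- |Aut(PΩ⁻_2m(q))| for q = p^f, m ≥ 4 (form quadFormMinus (m−1) with anisotropic binary part): |PΩ⁻_2m(q)| times f, times 2 if p = 2, and times 4 or 8 if p is odd according as m(q−1)/2 is even or odd. -/
theorem result {F : Type*} [Field F] [Fintype F] (p f : ℕ) [Fact p.Prime] (hf : 1 ≤ f) (hF : Fintype.card F = p ^ f) (m : ℕ) (hm : 4 ≤ m) (a b : F) (hab : ∀ z₁ z₂ : F, z₁ ^ 2 + a * z₁ * z₂ + b * z₂ ^ 2 = 0 → z₁ = 0 ∧ z₂ = 0) : Nat.card (MulAut (Cfsg.POmega F (Cfsg.quadFormMinus (m - 1) F a b))) = (if p = 2 then 2 else (if Even (m * (p ^ f - 1) / 2) then 4 else 8)) * f * Nat.card (Cfsg.POmega F (Cfsg.quadFormMinus (m - 1) F a b)) := by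
  have h5 := CfsgH8.five_minus (m := m - 1) (by omega)
  have hS := CfsgH5.minusForm_nondeg (m - 1) hab
  obtain ⟨e, f', hef⟩ := CfsgH8.o_hyp hS h5
  have hs := CfsgH8.o_surj (CfsgH5.minusForm_Q (m - 1) a b) hS (by rw [CfsgH8.card_minus]; omega)
    fun _ => CfsgH5.minusForm_not_isPlus _ hab
  have hk := CfsgH8.card_minus (m - 1)
  refine ((CfsgH8.fsM (by omega) hab).card_aut hef (by omega)).trans ?_
  congr 1
  have hA := CfsgH8.card_ringAut hF
  by_cases hp : p = 2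
  · subst hp
    rw [CfsgH8.o_card_out (CfsgH5.minusForm_Q (m - 1) a b) hS h5 hs _ (CfsgH8.sdk_surj hS _ hk) fun g =>
      (CfsgH8.mem_KO_two hS _ (CfsgH8.two_eq_of_card hF) hk).symm]
    simp [hA]
  have ho : Odd (Fintype.card F) := hF ▸ ((Fact.out : p.Prime).odd_of_ne_two hp).pow
  have h2 := CfsgH8.two_ne_of_odd ho
  have hn := CfsgH8.spG_neg_iff hS h2 hk
  rw [Nat.sub_add_cancel (by omega), CfsgH8.pow_mod_four ho, iff_false_intro
    (CfsgH5.minusForm_not_isPlus _ hab), false_iff, not_not] at hn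
  have hE : Even (m * (p ^ f - 1) / 2) ↔ ¬ (Odd m ∧ Fintype.card F % 4 = 3) := by
    rw [← hF]
    obtain ⟨t, ht⟩ := ho
    rw [ht, Nat.add_sub_cancel, mul_left_comm, Nat.mul_div_cancel_left _ two_pos, Nat.even_mul,
      ← Nat.not_odd_iff_even, Nat.even_iff, Nat.odd_iff]
    omega
  rw [if_neg hp]
  split_ifs with h
  · rw [CfsgH8.o_card_out (CfsgH5.minusForm_Q (m - 1) a b) hS h5 hs _ (CfsgH8.klein_surj hS _ h2 hk) fun g => by
      rw [CfsgH8.mem_KO_klein hS _ h2 hk (hn.not.2 (hE.1 h)), Prod.ext_iff]; rfl]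
    simp [hA]
  · obtain ⟨v, hv⟩ := hS.exists_Q_ne
    obtain ⟨θ, h1, h3, -⟩ := CfsgH8.exists_theta_d8 hS (CfsgH8.genC_of h5) h2 hk
      (hn.2 (not_not.1 (hE.not.1 h))) hv
    rw [CfsgH8.o_card_out (CfsgH5.minusForm_Q (m - 1) a b) hS h5 hs θ h1 h3, DihedralGroup.nat_card, hA]

end Cfsg.Agent.S0818
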