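import Cfsg.Statements.S0819
import Cfsg.Agent.H5.Iso2

set_option autoImplicit false
open Cfsg

namespace Cfsg.Agent.S0819

open CfsgH5

/-- No element of PSL_3(4) has order 15. -/
theorem result {F : Type*} [Field F] [Fintype F] (hF : Fintype.card F = 4) (g : Matrix.ProjectiveSpecialLinearGroup (Fin 3) F) : orderOf g ≠ 15 := by
  intro hg
  obtain ⟨A, rfl⟩ := QuotientGroup.mk_surjective g
  have h2 : (2 : F) = 0 := two_eq_zero_of_not_odd (by rw [hF]; decide)
  have h3 : ∀ a : F, a ≠ 0 → a ^ 3 = 1 := fun a h => by simpa [hF] using FiniteField.pow_card_sub_one_eq_one a h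
  have key : ∀ k (p q r : F), A.1 ^ k = p • A.1 ^ 2 + q • A.1 + r • 1 → p = 0 → q = 0 → 15 ∣ k := by
    rintro k _ _ r h rfl rfl
    rw [← hg, orderOf_dvd_iff_pow_eq_one, ← QuotientGroup.mk_pow, QuotientGroup.eq_one_iff]
    exact mem_center_SL.2 ⟨r, by simpa using h⟩
  obtain ⟨a, b, e3⟩ : ∃ a b : F, A.1 ^ 3 = a • A.1 ^ 2 + b • A.1 + (1 : F) • 1 := by
    have h4 := A.1.aeval_self_charpoly
    have h5 : A.1.charpoly.natDegree = 3 := by simp
    have h6 := Matrix.det_eq_sign_charpoly_coeff A.1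
    rw [A.2, Fintype.card_fin] at h6
    rw [Polynomial.aeval_eq_sum_range, h5] at h4
    have h7 := A.1.charpoly_monic.coeff_natDegree
    rw [h5] at h7
    simp only [Finset.sum_range_succ, Finset.sum_range_zero, h7, pow_zero, pow_one] at h4
    exact ⟨-A.1.charpoly.coeff 2, -A.1.charpoly.coeff 1, by
      linear_combination (norm := module) h4 - h6 • (1 : Matrix (Fin 3) (Fin 3) F)⟩
  have st : ∀ {k} {p q r : F}, A.1 ^ k = p • A.1 ^ 2 + q • A.1 + r • 1 →
      A.1 ^ (k + 1) = (p * a + q) • A.1 ^ 2 + (p * b + r) • A.1 + p • 1 := fun {k p q r} h => by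
    rw [pow_succ, h, add_mul, add_mul, smul_mul_assoc, smul_mul_assoc, smul_mul_assoc, ← pow_succ, e3,
      ← sq, one_mul]
    module
  by_cases ha : a = 0 <;> by_cases hb : b = 0
  · simpa using key _ _ _ _ e3 ha hb
  · simpa using key _ _ _ _ (st (st (st (st e3)))) (by rw [ha]; linear_combination b * h2)
      (by rw [ha]; linear_combination h3 b hb + h2)
  · simpa using key _ _ _ _ (st (st (st (st e3)))) (by
      rw [hb]; linear_combination (a ^ 2) * h3 a ha + 2 * a ^ 2 * h2) (by rw [hb]; linear_combination h3 a ha + h2)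
  · rcases mul_eq_zero.1 (show (a * b - 1) * (a ^ 2 * b ^ 2 + a * b + 1) = 0 by
      linear_combination h3 _ (mul_ne_zero ha hb)) with h | h
    · simpa using key _ _ _ _ (st e3) (by linear_combination a ^ 2 * h - b * h3 a ha + (a ^ 2) * h2)
        (by linear_combination h + h2)
    · simpa using key _ _ _ _ (st (st e3)) (by linear_combination h3 a ha + (a * b + 1) * h2)
        (by linear_combination a * h - b ^ 2 * h3 a ha)

end Cfsg.Agent.S0819
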