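import Cfsg.Statements.S0820
import Cfsg.Agent.H5.W2
import Cfsg.Agent.H5.Iso2

set_option autoImplicit false
open Cfsg

namespace Cfsg.Agent.S0820

open CfsgH5

/-- Any two elements of order 2 of PSL_3(4) are conjugate. -/
theorem result {F : Type*} [Field F] [Fintype F] (hF : Fintype.card F = 4) (x y : Matrix.ProjectiveSpecialLinearGroup (Fin 3) F) (hx : orderOf x = 2) (hy : orderOf y = 2) : IsConj x y := by
  have h2 : (2 : F) = 0 := two_eq_zero_of_not_odd (by rw [hF]; decide)
  have key : ∀ x : Matrix.ProjectiveSpecialLinearGroup (Fin 3) F, orderOf x = 2 →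
      ∃ A : Matrix.SpecialLinearGroup (Fin 3) F, A = x ∧ mov (slHom _ F A) ≤ fix (slHom _ F A) ∧
        Module.finrank F (mov (slHom _ F A)) = 1 := fun x hx => by
    obtain ⟨A, rfl⟩ := QuotientGroup.mk_surjective x
    have h3 := hx ▸ pow_orderOf_eq_one (A : Matrix.ProjectiveSpecialLinearGroup (Fin 3) F)
    have h4 : (A ^ 3 : Matrix.SpecialLinearGroup (Fin 3) F) = (A : Matrix.ProjectiveSpecialLinearGroup (Fin 3) F) := by
      rw [QuotientGroup.mk_pow, pow_succ, h3, one_mul]
    have h5 : A ^ 3 * A ^ 3 = 1 := by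
      have := pow_card_eq_one' (x := (⟨A ^ 2, (QuotientGroup.eq_one_iff _).1 h3⟩ : Subgroup.center _))
      rw [card_center_SL, hF] at this
      simpa [← pow_mul, ← pow_add] using congrArg Subtype.val this
    have h6 := mov_le_fix h2 (t := slHom _ F (A ^ 3)) (by rw [← map_mul, h5, map_one])
    have h7 := two_mul_mov_le' h6
    have h8 := Form.one_le_mov (t := slHom _ F (A ^ 3)) fun e => by
      rw [← h4, slHom_inj (e.trans (map_one _).symm)] at hx; simp at hx
    exact ⟨_, h4, h6, by simp at h7; omega⟩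
  obtain ⟨A, rfl, h3, h4⟩ := key x hx
  obtain ⟨B, rfl, h5, h6⟩ := key y hy
  obtain ⟨k, h7, h8⟩ := sqz_conj_sl h3 h5 (h4.trans h6.symm) (.inl (by simp [h4]))
  obtain ⟨k, rfl⟩ := exists_slHom h7
  exact (QuotientGroup.mk' _).map_isConj (isConj_iff.2 ⟨k, slHom_inj (by simpa using h8)⟩)

end Cfsg.Agent.S0820
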