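import Cfsg.Statements.S0821
import Cfsg.Agent.H5.El15
import Cfsg.Agent.H5.Iso1

set_option autoImplicit false
open Cfsg

namespace Cfsg.Agent.S0821

open CfsgH5 Pointwise Module Polynomial

/-- PSp_2m(q) ≇ PΩ_(2m+1)(q) for q odd and m ≥ 3 (they have the same order). -/
theorem result {F : Type*} [Field F] [Fintype F] (hodd : Odd (Fintype.card F)) (m : ℕ) (hm : 3 ≤ m) : IsEmpty (Cfsg.PSp m F ≃* Cfsg.POmega F (Cfsg.quadFormOdd m F)) := by
  classical
  refine ⟨fun e => ?_⟩
  have h2 := two_ne_of_odd hodd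
  have hO := oddForm_nondeg (F := F) m h2
  have hW := finrank_odd (F := F) m
  replace e := e.trans ((pomEquiv (oddForm_Q m)).trans (qcBot (hO.center_om_odd (by omega) hW)))
  have hS := spForm_nondeg (F := F) m
  have hV := finrank_sp (F := F) m
  have hZ := sp_center (F := F) (show 1 ≤ m by omega)
  have h1 : ∀ i : Fin m, ∃ x : Matrix.symplecticGroup (Fin m) F, finrank F (mov (e x).1) = 2 * (i + 1) ∧
      ((spHom m F x ^ 2 = 1 ∧ 0 < finrank F (mov (spHom m F x)) ∧ finrank F (mov (spHom m F x)) ≤ m) ∨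
        spHom m F x ^ 2 = scE _ (-1)) := fun i => by
    obtain ⟨A, a1, a2, a3⟩ := hO.exists_sub h2 (k := 2 * (i + 1)) 1 (fun _ => rfl) (by omega) (by omega)
    obtain ⟨t, b1, b2, rfl, b3⟩ := a1.exists_inv h2
    obtain ⟨x, hx⟩ := QuotientGroup.mk_surjective (e.symm ⟨t, (hO.inv_om h2 a1 b3).2 ⟨a2 ▸ even_two_mul _, a3⟩⟩)
    have b4 : (e x).1 = t := by rw [hx, e.apply_symm_apply]
    obtain ⟨⟨l, c1⟩, c2⟩ := (pe_mk _ hZ Nat.prime_two).1 ((e.orderOf_eq x).symm.trans (orderOf_eq_prime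
      (Subtype.ext (by rw [← b4] at b2; exact b2)) fun h => by
        rw [← b4, h, OneMemClass.coe_one, mov_one, finrank_bot] at a2
        omega))
    rcases sq_eq_one_iff.1 (show l.1 ^ 2 = 1 by
      simpa using congrArg Units.val (sp_scE hS (by omega) l (c1 ▸ pow_mem (spHom_mem m x) 2))) with c3 | c3
    · rw [show l = 1 from Units.ext c3, map_one] at c1
      by_cases c4 : finrank F (mov (spHom m F x)) ≤ m
      · exact ⟨x, b4 ▸ a2, .inl ⟨c1, Form.one_le_mov fun h => c2 1 (h.trans (map_one _).symm), c4⟩⟩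
      obtain ⟨z, hz⟩ := exists_spHom (m := m) (spForm m F).neg_mem_isom
      have c5 : ((z * x : Matrix.symplecticGroup (Fin m) F) : PSp m F) = x := by
        rw [QuotientGroup.mk_mul, (QuotientGroup.eq_one_iff z).2 ((hZ z).2 ⟨-1, hz.trans (by ext; simp)⟩), one_mul]
      have c6 : ∀ v, spHom m F x (spHom m F x v) = v := fun v => LinearEquiv.congr_fun ((sq _).symm.trans c1) v
      have c7 : ∀ v, spHom m F (z * x) v = -spHom m F x v := fun v => by rw [map_mul, hz]; rfl
      have c8 := finrank_mov_add (spHom m F x)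
      have c9 := Submodule.finrank_mono (s := mov (spHom m F (z * x))) (t := fix (spHom m F x)) (by
        rintro _ ⟨v, rfl⟩
        exact mem_fix.2 (by simp only [LinearMap.sub_apply, LinearEquiv.coe_coe, c7, map_sub, map_neg, c6]; simp; abel))
      refine ⟨z * x, by rw [c5, b4, a2], .inl ⟨LinearEquiv.ext fun v => ?_, Form.one_le_mov fun h => c2 (-1)
        (LinearEquiv.ext fun v => ?_), by omega⟩⟩
      · rw [sq, LinearEquiv.mul_apply, c7, c7, map_neg, c6, neg_neg]; rfl
      · have := LinearEquiv.congr_fun h v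
        rw [c7, neg_eq_iff_eq_neg] at this
        rw [this, scE_apply, Units.val_neg, Units.val_one, neg_smul, one_smul]; rfl
    · exact ⟨x, b4 ▸ a2, .inr (c1.trans (congrArg _ (Units.ext c3)))⟩
  choose x h1 h3 using h1
  have h5 : ∀ {g : (Fin m ⊕ Fin m → F) ≃ₗ[F] (Fin m ⊕ Fin m → F)}, g ^ 2 = 1 → Disjoint (mov g) (fix g) := disjoint_mov (by simpa)
  have h6 : ∀ {g : (Fin m ⊕ Fin m → F) ≃ₗ[F] (Fin m ⊕ Fin m → F)}, g ^ 2 = scE _ (-1) → g ^ 2 ≠ 1 := fun a b => h2 (by
    have := (scE_inj (by rw [hV]; omega)).eq_iff.1 (a.symm.trans (b.trans (map_one _).symm))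
    linear_combination -(by simpa using congrArg Units.val this : (-1 : F) = 1))
  obtain ⟨i, -, j, -, hij, h7⟩ := Finset.exists_ne_map_eq_of_card_lt_of_maps_to (s := Finset.univ)
    (t := Finset.range (m / 2 + 1)) (by simp; omega) (f := fun i =>
      if spHom m F (x i) ^ 2 = 1 then finrank F (mov (spHom m F (x i))) / 2 else 0) fun i _ => by
        rcases h3 i with a | a
        · simp only [if_pos a.1, Finset.coe_range, Set.mem_Iio]; omega
        · simp [h6 a]
  suffices ∃ k ∈ (spForm m F).isom, k * spHom m F (x i) * k⁻¹ = spHom m F (x j) by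
    obtain ⟨k, a1, a2⟩ := this
    obtain ⟨k, rfl⟩ := exists_spHom a1
    have a3 := finrank_mov_conj (e k).1 (e (x i)).1
    rw [← map_inv, ← map_mul, ← map_mul, (spHom_inj m).eq_iff] at a2
    have a4 := h1 j
    rw [← a2, QuotientGroup.mk_mul, QuotientGroup.mk_mul, QuotientGroup.mk_inv, map_mul, map_mul, map_inv] at a4
    exact hij (Fin.ext (by have := a3.symm.trans a4; rw [h1] at this; omega))
  have a1 := spHom_mem (F := F) m (x i)
  have a2 := spHom_mem (F := F) m (x j)
  have h8 := h3 i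
  have h9 := h3 j
  generalize spHom m F (x i) = g, spHom m F (x j) = h at *
  have ev : ∀ g ∈ (spForm m F).isom, g ^ 2 = 1 → Even (finrank F (mov g)) := fun g a b =>
    (hS.nondegOn_mov a (h5 b)).res.sp_even
  rcases h8 with b | b <;> rcases h9 with c | c
  · obtain ⟨_, d1⟩ := ev g a1 b.1
    obtain ⟨_, d2⟩ := ev h a2 c.1
    rw [if_pos b.1, if_pos c.1] at h7
    obtain ⟨φ, d3⟩ := (hS.nondegOn_mov a1 (h5 b.1)).res.sp_exists_isom' (hS.nondegOn_mov a2 (h5 c.1)).res (by omega)
    have d4 : ∀ {g : (Fin m ⊕ Fin m → F) ≃ₗ[F] (Fin m ⊕ Fin m → F)}, g ^ 2 = 1 → ∀ v, rs g v = -v := fun {g} a ⟨_, v, rfl⟩ =>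
      Subtype.ext (by simpa [sq] using congrArg (· - g v) (LinearEquiv.congr_fun a v))
    exact hS.conj_of_rs a1 a2 (h5 b.1) ⟨φ, d3, fun v => by rw [d4 b.1, d4 c.1, map_neg]⟩
  · obtain ⟨_, d1⟩ := ev g a1 b.1
    rw [if_pos b.1, if_neg (h6 c)] at h7
    omega
  · obtain ⟨_, d1⟩ := ev h a2 c.1
    rw [if_pos c.1, if_neg (h6 b)] at h7
    omega
  refine (hS.sp_ic hS a1 a2 (m := 4) (by simpa [show (4 : F) = 2 * 2 by norm_num] using h2)
    (hS.sp_inv a1 h2 (by omega) b).1 (sim_iff_ed.2 ?_)).conj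
  by_cases hc : ∃ c : Fˣ, -1 = c ^ 2
  · obtain ⟨y, hy⟩ := hc
    have d1 : y.1 * -y.1 = 1 := by have := congrArg Units.val hy; simp at this; linear_combination this
    have d2 : (X - C y.1 : F[X]) ≠ X - C (-y.1) := fun e => h2 (by
      simpa using show 2 * y.1 = 0 by linear_combination C_injective (sub_right_inj.1 e))
    suffices ∀ g ∈ (spForm m F).isom, g ^ 2 = scE _ (-1) → ed g.toLinearMap = Multiset.replicate m (X - C y.1) +
      Multiset.replicate m (X - C (-y.1)) from (this g a1 b).trans (this h a2 c).symm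
    intro g a1 b
    obtain ⟨u, w, d3⟩ := inv_ed h2 (hy ▸ b)
    have d4 := congrArg (Multiset.count (X - C y.1)) (hS.ed_du a1)
    rw [d3, Multiset.map_add, Multiset.map_replicate, Multiset.map_replicate, du_X_sub_C y.ne_zero,
      du_X_sub_C (neg_ne_zero.2 y.ne_zero)] at d4
    simp only [spParam, RingHom.id_apply, ← eq_inv_of_mul_eq_one_right d1, ← eq_inv_of_mul_eq_one_left d1,
      Multiset.count_add, Multiset.count_replicate, if_neg d2.symm, if_true] at d4
    have := (det_lin d3).1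
    rw [d3, show u = m by omega, show w = m by omega]
  · obtain ⟨-, u, d1, d2⟩ := (inv_cases b).resolve_left hc
    obtain ⟨-, w, d3, d4⟩ := (inv_cases c).resolve_left hc
    rw [d1, d3, show u = w by omega]

end Cfsg.Agent.S0821
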