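import Cfsg.Statements.S0823
import Cfsg.Agent.H5.Iso2

set_option autoImplicit false
open Cfsg

namespace Cfsg.Agent.S0823

/-- SO_3(3) ≅ S_4: the determinant-one isometries of the form x_0² + x_1y_1 over the field with 3 elements form a group isomorphic to the symmetric group on 4 letters. -/
theorem result {F : Type*} [Field F] [Fintype F] (hF : Fintype.card F = 3) : Nonempty (↥(Cfsg.specialIsometryGroup F (Cfsg.quadFormOdd 1 F)) ≃* Equiv.Perm (Fin 4)) := by
  open CfsgH5 in
  have h2 := two_ne_zero_of_card_three hF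
  have hS := oddForm_nondeg 1 h2
  have c3 : Nat.card F = 3 := by rw [Nat.card_eq_fintype_card, hF]
  have dn : LinearMap.det ((LinearEquiv.neg F : (Unit ⊕ (Fin 1 ⊕ Fin 1) → F) ≃ₗ[F] _) :
      (Unit ⊕ (Fin 1 ⊕ Fin 1) → F) →ₗ[F] _) ≠ 1 := by
    rw [show ((LinearEquiv.neg F : (Unit ⊕ (Fin 1 ⊕ Fin 1) → F) ≃ₗ[F] _) : (Unit ⊕ (Fin 1 ⊕ Fin 1) → F) →ₗ[F] _) =
      (-1 : F) • LinearMap.id by ext; simp, LinearMap.det_smul, finrank_odd, LinearMap.det_id]
    intro h; apply h2; linear_combination -h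
  refine equiv_perm_of_inj (((MulAction.toPermHom (oddForm 1 F).isom (oddForm 1 F).Pts).comp
    (oEquiv (oddForm_Q 1)).toMonoidHom).comp (Subgroup.subtype _)) ((injective_iff_map_eq_one _).2 fun g hg => ?_) ?_ ?_
  · obtain ⟨c, hc⟩ := hS.scalar_of_pts (.inr (by rw [finrank_odd]; omega)) ((oddForm_hypFam 1).isHyp 0).qe
      ((oddForm_hypFam 1).isHyp 0).ne_left hg
    rcases Form.scalar_isom hS (oEquiv (oddForm_Q 1) g.1).2 hc with h | h
    · exact Subtype.ext (oHom_inj _ (h.trans (map_one _).symm))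
    · exact absurd ((show oHom _ g.1 = _ from h) ▸ mem_specialIsometryGroup.1 g.2) dn
  · have h1 := (oddForm 1 F).card_Pts
    have h3 := Form.orth_card_zero_odd 1 hS (finrank_odd 1)
    rw [Form.card_sing_orth] at h3
    rw [c3] at h1 h3
    omega
  · have h1 := (specialIsometryGroup F (quadFormOdd 1 F)).card_mul_index
    rw [card_isometryGroup (oddForm_Q 1), Form.orth_card_odd 1 hS (finrank_odd 1), c3] at h1
    have h3 : (specialIsometryGroup F (quadFormOdd 1 F)).index ∣ 2 := by
      rw [specialIsometryGroup, Subgroup.index_ker]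
      exact (Subgroup.card_subgroup_dvd_card _).trans (by rw [Nat.card_units, c3])
    rcases (Nat.dvd_prime Nat.prime_two).1 h3 with h | h
    · obtain ⟨g, hg⟩ := exists_oHom (oddForm_Q 1) (g := LinearEquiv.neg F) (Form.neg_mem_isom)
      exact absurd (hg ▸ mem_specialIsometryGroup.1 (Subgroup.index_eq_one.1 h ▸ Subgroup.mem_top g)) dn
    · simp [h] at h1
      simp [Nat.factorial]; omega

end Cfsg.Agent.S0823
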