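import Cfsg.Statements.S0824
import Cfsg.Agent.H5.Iso1

set_option autoImplicit false
open Cfsg

namespace Cfsg.Agent.S0824

open CfsgH5

/-- O⁻_4(2) ≅ S_5: the isometry group of the form x y + z_1² + z_1 z_2 + z_2² over the field with 2 elements is isomorphic to the symmetric group on 5 letters. -/
theorem result {F : Type*} [Field F] [Fintype F] (hF : Fintype.card F = 2) : Nonempty (↥(Cfsg.isometryGroup F (Cfsg.quadFormMinus 1 F 1 1)) ≃* Equiv.Perm (Fin 5)) := by
  have h1 : ∀ c : F, c ≠ 0 → c = 1 := fun c h => by simpa [hF] using FiniteField.pow_card_sub_one_eq_one c h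
  have h2 : (2 : F) = 0 := two_eq_zero_of_not_odd (by rw [hF]; decide)
  have hab := aniso_of_irred (F := F) (a := 1) (b := 1) fun t e => by
    by_cases h : t = 0
    · simp [h] at e
    · rw [h1 t h] at e; exact one_ne_zero (by linear_combination e - h2 : (1 : F) = 0)
  have hS := minusForm_nondeg 1 hab
  have hp := minusForm_not_isPlus 1 hab
  have hq : Nat.card F = 2 := by rw [Nat.card_eq_fintype_card, hF]
  have h3 := hS.card_sing_even (finrank_minus 1)
  have h4 := Form.card_Pts (S := minusForm 1 F 1 1)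
  rw [Form.tp_eq_neg_one_iff.2 hp, hq] at h3
  have h5 := (minusForm_hypFam (F := F) 1 1 1).isHyp 0
  obtain ⟨e⟩ := equiv_perm_of_inj (MulAction.toPermHom (minusForm 1 F 1 1).isom (minusForm 1 F 1 1).Pts)
    ((injective_iff_map_eq_one _).2 fun g hg => by
      obtain ⟨c, hc⟩ := hS.scalar_of_pts (.inr (by simp)) h5.qe h5.ne_left hg
      have : c ≠ 0 := fun e => h5.ne_left (g.1.map_eq_zero_iff.1 (by simp [hc, e]))
      exact Subtype.ext (LinearEquiv.ext fun v => by simp [hc, h1 c this])) (n := 5)
    (by rw [hq] at h4; push_cast at h3; omega)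
    (by rw [hS.orth_card_minus hp (m := 2) (by omega) (finrank_minus 1), hq]; rfl)
  exact ⟨(oEquiv (minusForm_Q 1 1 1)).trans e⟩

end Cfsg.Agent.S0824
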