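import Cfsg.Statements.S0828
import Cfsg.Agent.H5.Rk1

set_option autoImplicit false
open Cfsg

namespace Cfsg.Agent.S0828

open CfsgH5

/-- The symplectic generalised quadrangle over a field with q elements: the number of 2-dimensional subspaces of F^4 on which the symplectic form vanishes is (q + 1)(q² + 1), and every non-zero vector lies in exactly q + 1 of them. -/
theorem result {F : Type*} [Field F] [Fintype F] {q : ℕ} (hF : Fintype.card F = q) : Nat.card {W : Submodule F (Fin 2 ⊕ Fin 2 → F) // Module.finrank F W = 2 ∧ ∀ u ∈ W, ∀ v ∈ W, Cfsg.sympForm 2 F u v = 0} = (q + 1) * (q ^ 2 + 1) ∧ ∀ v : Fin 2 ⊕ Fin 2 → F, v ≠ 0 → Nat.card {W : Submodule F (Fin 2 ⊕ Fin 2 → F) // Module.finrank F W = 2 ∧ v ∈ W ∧ ∀ u ∈ W, ∀ w ∈ W, Cfsg.sympForm 2 F u w = 0} = q + 1 := by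
  have hS := spForm_nondeg (F := F) 2
  have h3 : 2 ≤ q := hF ▸ Fintype.one_lt_card
  have hq : Nat.card F = q := by rw [Nat.card_eq_fintype_card, hF]
  obtain ⟨r, rfl⟩ := Nat.exists_eq_add_of_le' h3
  have h4 := Nat.sub_eq_of_eq_add (by ring : (r + 2) ^ 2 = (r + 1) * (r + 2) + (r + 2))
  refine ⟨?_, fun v hv => ?_⟩
  · have h := spForm_hypFam (F := F) 2
    have h1 := h.finrank_perp
    have h2 := hS.card_totSing spParam_isMax h
    have h5 : Nat.card (spParam F).Λ = Nat.card F := Nat.card_congr AddSubgroup.topEquiv.toEquiv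
    rw [Form.sp_card 2 hS (by simp), Form.sp_card 0 (h.nondegOn_perp hS).res (by simpa using h1),
      h5, hq] at h2
    simp only [Finset.prod_range_succ, Fin.prod_univ_two] at h2
    norm_num at h2
    rw [Nat.sub_eq_of_eq_add (by ring : (r + 2) ^ 2 = (r + 1) * (r + 3) + 1), h4,
      Nat.sub_eq_of_eq_add (by ring : (r + 2) ^ 4 = (r + 1) * (r + 3) * ((r + 2) ^ 2 + 1) + 1)] at h2
    exact Nat.eq_of_mul_eq_mul_right (by positivity) (h2.symm.trans (by ring))
  have h1 := hS.finrank_perp_singleton hv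
  have h5 : ∀ U : Submodule F (Fin 2 ⊕ Fin 2 → F), v ∈ U →
      Nat.card {x // x ∈ U ∧ x ∉ Submodule.span F {v}} = (r + 2) ^ Module.finrank F U - (r + 2) := fun U hU => by
    rw [← hq, ← Form.card_eq_pow_finrank']
    have := Set.ncard_sdiff (SetLike.coe_subset_coe.2 ((Submodule.span_singleton_le_iff_mem _ _).2 hU))
    rw [← Nat.card_coe_set_eq, ← Nat.card_coe_set_eq, ← Nat.card_coe_set_eq,
      SetLike.coe_sort_coe, SetLike.coe_sort_coe, Form.card_eq_pow_finrank' (F := F) (Submodule.span F {v}),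
      finrank_span_singleton hv, pow_one] at this
    exact this
  have h6 := card_eq_mul_of_fib (n := (r + 2) ^ 2 - (r + 2)) (X := {x // x ∈ (spForm 2 F).perp {v} ∧ x ∉ Submodule.span F {v}})
    (Y := {W : Submodule F (Fin 2 ⊕ Fin 2 → F) // Module.finrank F W = 2 ∧ v ∈ W ∧
      ∀ u ∈ W, ∀ w ∈ W, Cfsg.sympForm 2 F u w = 0})
    (fun x => ⟨Submodule.span F {v} ⊔ Submodule.span F {x.1}, by
      rw [finrank_sup_span_eq x.2.2, finrank_span_singleton hv],
      Submodule.mem_sup_left (Submodule.mem_span_singleton_self v),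
      ((Form.totSing_span (Form.sp_q _ v)).sup_span (Form.sp_q _ _) (by
        rw [Form.perp_span (F := F)]; exact x.2.1)).B⟩) (by rw [h4]; positivity)
    fun W => by
      refine .trans ?_ ((h5 W W.2.2.1).trans (by rw [W.2.1]))
      refine Nat.card_congr ⟨fun x => ⟨x.1.1, ?_, x.1.2.2⟩, fun x => ⟨⟨x.1, ?_, x.2.2⟩, ?_⟩,
        fun _ => rfl, fun _ => rfl⟩
      · exact (congrArg Subtype.val x.2).le (Submodule.mem_sup_right (Submodule.mem_span_singleton_self _))
      · exact (Form.mem_perp_singleton _).2 (W.2.2.2 _ x.2.1 _ W.2.2.1)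
      · refine Subtype.ext (Submodule.eq_of_le_of_finrank_eq (by simp [W.2.2.1, x.2.1]) ?_)
        rw [finrank_sup_span_eq x.2.2, finrank_span_singleton hv, W.2.1]
  rw [h5 _ (by simp [Form.sp_self]), show Module.finrank F ((spForm 2 F).perp {v}) = 3 by simpa using h1] at h6
  rw [h4, Nat.sub_eq_of_eq_add (by ring : (r + 2) ^ 3 = (r + 1) * (r + 2) * (r + 3) + (r + 2))] at h6
  exact Nat.eq_of_mul_eq_mul_right (by positivity) (h6.symm.trans (by ring))

end Cfsg.Agent.S0828
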