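import Cfsg.Statements.S0830
import Cfsg.Agent.H5.Rk1

set_option autoImplicit false
open Cfsg

namespace Cfsg.Agent.S0830

open CfsgH5

/-- The unitary quadrangle of PSU_5(q): with |F| = q², the number of 2-dimensional subspaces of F^5 on which the Hermitian form vanishes is (q³ + 1)(q⁵ + 1). -/
theorem result {F : Type*} [Field F] [Fintype F] {q : ℕ} (hF : Fintype.card F = q ^ 2) : Nat.card {W : Submodule F (Fin 5 → F) // Module.finrank F W = 2 ∧ ∀ u ∈ W, ∀ v ∈ W, Cfsg.hermForm 5 F q u v = 0} = (q ^ 3 + 1) * (q ^ 5 + 1) := by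
  have hS := uForm_nondeg hF 5
  obtain ⟨e, f, h⟩ := hS.unit_exists_hypFam (frobQ_ne hF) (k := 2) (by simp)
  have h1 := h.finrank_perp
  have h2 := hS.card_totSing (unitParam_isMax _ _) h
  have h3 := two_le_of_card_sq hF
  rw [Form.unit_card hF 5 hS (by simp), Form.unit_card hF 1 (h.nondegOn_perp hS).res (by simpa using h1),
    card_uΛ, Nat.card_eq_fintype_card (α := F), hF] at h2
  simp only [Finset.prod_range_succ, Fin.prod_univ_two, ← pow_mul] at h2
  norm_num at h2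
  obtain ⟨r, rfl⟩ := Nat.exists_eq_add_of_le' h3
  rw [Nat.sub_eq_of_eq_add (by ring : (r + 2) ^ 2 = (r + 1) * (r + 3) + 1),
    Nat.sub_eq_of_eq_add (by ring : (r + 2) ^ 4 = (r + 1) * (r + 3) * ((r + 2) ^ 2 + 1) + 1),
    Nat.sub_eq_of_eq_add (by ring : (r + 2) ^ 4 = (r + 1) * (r + 3) * (r + 2) ^ 2 + (r + 2) ^ 2)] at h2
  exact Nat.eq_of_mul_eq_mul_right (by positivity) (h2.symm.trans (by ring))

end Cfsg.Agent.S0830
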