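import Cfsg.Statements.S0831
import Cfsg.Agent.H5.OrthMat

set_option autoImplicit false
open Cfsg

namespace Cfsg.Agent.S0831

open CfsgH5

/-- The two families of maximal totally singular subspaces of the hyperbolic quadric: for the form Σ x_i y_i on F^(2m), m ≥ 1, and m-dimensional subspaces U, W, X on which it vanishes, the parities of m − dim(U ∩ W), m − dim(W ∩ X) and m − dim(U ∩ X) sum to an even number (so 'even codimension of the intersection' is an equivalence relation), and there exist two such subspaces meeting in codimension 1 (so there are exactly two classes). -/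
theorem result {F : Type*} [Field F] (m : ℕ) (hm : 1 ≤ m) : (∀ U W X : Submodule F (Fin m ⊕ Fin m → F), (Module.finrank F U = m ∧ ∀ w ∈ U, Cfsg.quadFormPlus m F w = 0) → (Module.finrank F W = m ∧ ∀ w ∈ W, Cfsg.quadFormPlus m F w = 0) → (Module.finrank F X = m ∧ ∀ w ∈ X, Cfsg.quadFormPlus m F w = 0) → Even ((m - Module.finrank F ↥(U ⊓ W)) + (m - Module.finrank F ↥(W ⊓ X)) + (m - Module.finrank F ↥(U ⊓ X)))) ∧ ∃ U W : Submodule F (Fin m ⊕ Fin m → F), (Module.finrank F U = m ∧ ∀ w ∈ U, Cfsg.quadFormPlus m F w = 0) ∧ (Module.finrank F W = m ∧ ∀ w ∈ W, Cfsg.quadFormPlus m F w = 0) ∧ Module.finrank F ↥(U ⊓ W) + 1 = m := by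
  have hS := plusForm_nondeg (F := F) m
  have hL : ∀ {U : Submodule F (Fin m ⊕ Fin m → F)}, (Module.finrank F U = m ∧
      ∀ w ∈ U, Cfsg.quadFormPlus m F w = 0) ↔ (plusForm m F).IsLag U := fun {U} =>
    ⟨fun h => ⟨(Form.totSing_iff (plusForm_Q m)).2 h.2, by rw [h.1, finrank_sp]⟩,
      fun h => ⟨by have := h.dim; rw [finrank_sp] at this; omega,
        (Form.totSing_iff (plusForm_Q m)).1 h.ts⟩⟩
  constructor
  · intro U W X hU hW hX
    have h1 := Form.lagSign_mul hS (hL.1 hU) (hL.1 hW) (hL.1 hX)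
    have a1 := lagSign_eq_one_iff (U := U) (W := W)
    have a2 := lagSign_eq_one_iff (U := W) (W := X)
    have a3 := lagSign_eq_one_iff (U := U) (W := X)
    rw [hU.1] at a1 a3
    rw [hW.1] at a2
    rw [Nat.even_add, Nat.even_add, ← a1, ← a2, ← a3, ← h1]
    rcases Int.units_eq_one_or (lagSign U W) with h | h <;>
      rcases Int.units_eq_one_or (lagSign W X) with h' | h' <;> simp [h, h']
  · have hU := (plusForm_hypFam (F := F) m).isLag_left (by simp [two_mul])
    obtain ⟨h1, h2, h3⟩ := Form.exists_adj hS hU ((plusForm_hypFam (F := F) m).qf ⟨0, hm⟩)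
      (fun h => by
        have := hU.ts.B _ (Submodule.subset_span ⟨⟨0, hm⟩, rfl⟩) _ h
        simp [plusForm_B, Pi.single_apply] at this)
    exact ⟨_, _, hL.2 hU, hL.2 h1, by rw [h2, h3, (hL.2 hU).1]⟩

end Cfsg.Agent.S0831
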