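import Cfsg.Statements.S0832
import Cfsg.Agent.H5.Orth2

set_option autoImplicit false
open Cfsg

namespace Cfsg.Agent.S0832

open CfsgH5 Matrix

/-- For the form Σ x_i y_i on F^(2m) over a finite field, m ≥ 1: an (m−1)-dimensional subspace on which the form vanishes is contained in exactly two m-dimensional subspaces on which it vanishes. -/
theorem result {F : Type*} [Field F] [Finite F] (m : ℕ) (hm : 1 ≤ m) (U : Submodule F (Fin m ⊕ Fin m → F)) (hU : Module.finrank F U + 1 = m ∧ ∀ u ∈ U, Cfsg.quadFormPlus m F u = 0) : Nat.card {W : Submodule F (Fin m ⊕ Fin m → F) // Module.finrank F W = m ∧ (∀ w ∈ W, Cfsg.quadFormPlus m F w = 0) ∧ U ≤ W} = 2 := by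
  have hS := plusForm_nondeg (F := F) m
  have hU' := (Form.totSing_iff (plusForm_Q m)).2 hU.2
  obtain ⟨L, hL⟩ := plusForm_isPlus (F := F) m
  have h1 := hL.dim
  rw [finrank_sp] at h1
  obtain ⟨W, h2, h3, h4⟩ := hS.exists_totSing_ge hU' hL.ts (by omega)
  have hW : (plusForm m F).IsLag W := ⟨h2, by rw [h4, hL.dim]⟩
  obtain ⟨W', h5, h6, h7, h8⟩ := hS.two_lag hW h3 (by omega)
  have h9 := h5.dim
  rw [finrank_sp] at h9
  rw [Nat.card_eq_two_iff]
  refine ⟨⟨W, by omega, (Form.totSing_iff (plusForm_Q m)).1 h2, h3⟩,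
    ⟨W', by omega, (Form.totSing_iff (plusForm_Q m)).1 h5.ts, h6 ▸ inf_le_right⟩, fun h => ?_,
    Set.eq_univ_of_forall fun X => ?_⟩
  · obtain rfl : W = W' := congrArg Subtype.val h
    rw [lagSign_self] at h7
    exact absurd h7 (by decide)
  · simpa [Subtype.ext_iff] using h8 X.1 ⟨(Form.totSing_iff (plusForm_Q m)).2 X.2.2.1,
      by rw [X.2.1, finrank_sp]⟩ X.2.2.2

end Cfsg.Agent.S0832
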