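import Cfsg.Statements.S0833
import Cfsg.Agent.H5.Orth2

set_option autoImplicit false
open Cfsg

namespace Cfsg.Agent.S0833

open CfsgH5 Matrix Module TensorProduct

/-- If B₁, B₂ are non-degenerate alternating forms on U (dim 2k) and W (dim 2l), then B₁ ⊗ B₂ on U ⊗ W is symmetric, non-degenerate, and vanishes identically on some subspace of dimension 2kl (half of dim U ⊗ W). -/
theorem result {F U W : Type*} [Field F] [Fintype F] [AddCommGroup U] [Module F U] [FiniteDimensional F U] [AddCommGroup W] [Module F W] [FiniteDimensional F W] (B₁ : LinearMap.BilinForm F U) (B₂ : LinearMap.BilinForm F W) (h₁ : B₁.Nondegenerate) (h₂ : B₂.Nondegenerate) (hA₁ : B₁.IsAlt) (hA₂ : B₂.IsAlt) (k l : ℕ) (hU : Module.finrank F U = 2 * k) (hW : Module.finrank F W = 2 * l) : (B₁.tmul B₂).IsSymm ∧ (B₁.tmul B₂).Nondegenerate ∧ (∃ X : Submodule F (TensorProduct F U W), Module.finrank F X = 2 * k * l ∧ ∀ x ∈ X, ∀ y ∈ X, (B₁.tmul B₂) x y = 0) := by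
  classical
  refine ⟨⟨fun x y => ?_⟩, ?_, ?_⟩
  · have : B₁.tmul B₂ = (B₁.tmul B₂).flip := by
      ext u w u' w'
      simp [← hA₁.neg_eq u u', ← hA₂.neg_eq w w']
    exact LinearMap.congr_fun₂ this x y
  · refine (LinearMap.BilinForm.nondegenerate_iff_det_ne_zero
      ((finBasis F U).tensorProduct (finBasis F W))).2 ?_
    have : LinearMap.BilinForm.toMatrix ((finBasis F U).tensorProduct (finBasis F W)) (B₁.tmul B₂) =
        kroneckerMap (· * ·) (LinearMap.BilinForm.toMatrix (finBasis F U) B₁)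
          (LinearMap.BilinForm.toMatrix (finBasis F W) B₂) := by
      ext ⟨i, j⟩ ⟨i', j'⟩
      simp [LinearMap.BilinForm.toMatrix_apply, mul_comm]
    rw [this, det_kronecker]
    exact mul_ne_zero (pow_ne_zero _ ((LinearMap.BilinForm.nondegenerate_iff_det_ne_zero _).1 h₁))
      (pow_ne_zero _ ((LinearMap.BilinForm.nondegenerate_iff_det_ne_zero _).1 h₂))
  · let S : Form (spParam F) U := Form.ofAlt (fun x y => B₁ x y) (by simp) (by simp)
      (fun x y => (hA₁.neg_eq x y).symm) hA₁
    have hS : S.Nondeg := fun x hx => h₁.2 x hx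
    obtain ⟨j, e, f, h, -, h3⟩ := hS.exists_witt_decomp
    have h4 := h.finrank_perp
    rw [(Submodule.eq_bot_iff _).2 fun x hx => h3 x hx (S.sp_q x)] at h4
    have h5 := h.finrank_left
    set L := Submodule.span F (Set.range e)
    refine ⟨LinearMap.range (L.subtype.rTensor W), ?_, ?_⟩
    · rw [LinearMap.finrank_range_of_inj (Module.Flat.rTensor_preserves_injective_linearMap _
        L.injective_subtype), finrank_tensorProduct, h5, hW]
      simp at h4 ⊢
      rw [show j = k by omega]; ring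
    · rintro _ ⟨x, rfl⟩ _ ⟨y, rfl⟩
      have : (B₁.tmul B₂).compl₁₂ (L.subtype.rTensor W) (L.subtype.rTensor W) = 0 := by
        ext u w u' w'
        simp [show B₁ u u' = 0 from h.totSing_left.B _ u.2 _ u'.2]
      exact LinearMap.congr_fun₂ this x y

end Cfsg.Agent.S0833
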