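import Cfsg.Statements.S0834
import Cfsg.Agent.H5.Orth2

set_option autoImplicit false
open Cfsg

namespace Cfsg.Agent.S0834

open CfsgH5 Matrix Module TensorProduct

theorem aux {F U W : Type*} [Field F] [Fintype F] [AddCommGroup U] [Module F U]
    [FiniteDimensional F U] [AddCommGroup W] [Module F W] [FiniteDimensional F W]
    (h2 : (2 : F) ≠ 0) (B₁ : LinearMap.BilinForm F U) (B₂ : LinearMap.BilinForm F W)
    (h₁ : B₁.Nondegenerate) (h₂ : B₂.Nondegenerate) (hS₁ : B₁.IsSymm) (hS₂ : B₂.IsSymm) :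
    ∃ h : LinearMap.BilinForm.IsSymm (B₁.tmul B₂), (Form.ofBilin _ h h2).Nondeg ∧ (Form.ofBilin _ h h2).disc =
      (Form.ofBilin _ hS₁ h2).disc ^ finrank F W * (Form.ofBilin _ hS₂ h2).disc ^ finrank F U := by
  have h : LinearMap.BilinForm.IsSymm (B₁.tmul B₂) := ⟨fun x y => by
    have : B₁.tmul B₂ = (B₁.tmul B₂).flip := by
      ext u w u' w'
      simp [hS₁.eq u u', hS₂.eq w w']
    exact LinearMap.congr_fun₂ this x y⟩
  have h3 : (Form.ofBilin _ h h2).gram ((finBasis F U).tensorProduct (finBasis F W)) =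
      kroneckerMap (· * ·) ((Form.ofBilin _ hS₁ h2).gram (finBasis F U))
        ((Form.ofBilin _ hS₂ h2).gram (finBasis F W)) := by
    ext ⟨i, j⟩ ⟨i', j'⟩
    simp [Form.gram_apply, Form.ofBilin_B, mul_comm]
  have h4 := (Form.nondeg_iff_det_gram (finBasis F U)).1 (Form.ofBilin_nondeg hS₁ h2 h₁)
  have h5 := (Form.nondeg_iff_det_gram (finBasis F W)).1 (Form.ofBilin_nondeg hS₂ h2 h₂)
  refine ⟨h, ?_, ?_⟩
  · rw [Form.nondeg_iff_det_gram ((finBasis F U).tensorProduct (finBasis F W)), h3, det_kronecker]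
    exact mul_ne_zero (pow_ne_zero _ h4) (pow_ne_zero _ h5)
  · rw [← Form.chi_det_gram ((finBasis F U).tensorProduct (finBasis F W)), h3, det_kronecker,
      chi_mul (pow_ne_zero _ h4) (pow_ne_zero _ h5), chi_pow h4, chi_pow h5, Form.chi_det_gram,
      Form.chi_det_gram]
    simp


/-- Over a finite field with 2 ≠ 0: if B₁ on U (dim 2k, k ≥ 1) and B₂ on W (dim 2l, l ≥ 1) are non-degenerate symmetric forms admitting no totally isotropic subspaces of dimensions k, resp. l (minus type), then B₁ ⊗ B₂ admits a totally isotropic subspace of dimension 2kl (plus type). -/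
theorem result {F U W : Type*} [Field F] [Fintype F] [AddCommGroup U] [Module F U] [FiniteDimensional F U] [AddCommGroup W] [Module F W] [FiniteDimensional F W] (h2 : (2 : F) ≠ 0) (B₁ : LinearMap.BilinForm F U) (B₂ : LinearMap.BilinForm F W) (h₁ : B₁.Nondegenerate) (h₂ : B₂.Nondegenerate) (hS₁ : B₁.IsSymm) (hS₂ : B₂.IsSymm) (k l : ℕ) (hk : 1 ≤ k) (hl : 1 ≤ l) (hU : Module.finrank F U = 2 * k) (hW : Module.finrank F W = 2 * l) (hm₁ : ¬ (∃ X : Submodule F (U), Module.finrank F X = k ∧ ∀ x ∈ X, ∀ y ∈ X, (B₁) x y = 0)) (hm₂ : ¬ (∃ X : Submodule F (W), Module.finrank F X = l ∧ ∀ x ∈ X, ∀ y ∈ X, (B₂) x y = 0)) : (∃ X : Submodule F (TensorProduct F U W), Module.finrank F X = 2 * k * l ∧ ∀ x ∈ X, ∀ y ∈ X, (B₁.tmul B₂) x y = 0) := by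
  obtain ⟨h, h3, h4⟩ := aux h2 B₁ B₂ h₁ h₂ hS₁ hS₂
  have hd : finrank F (U ⊗[F] W) = 2 * (2 * k * l) := by rw [finrank_tensorProduct, hU, hW]; ring
  rw [← Form.ofBilin_isPlus_iff h h2 hd, h3.isPlus_iff_disc h2 hd, h4, hU, hW, mul_assoc 2 k]
  simp [pow_mul, Int.units_sq]

end Cfsg.Agent.S0834
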