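import Cfsg.Statements.S0836
import Cfsg.Agent.H5.LinMat

set_option autoImplicit false
open Cfsg

namespace Cfsg.Agent.S0836

/-- For i ≠ j and any scalar c, the elementary transvection 1 + c E_ij is a commutator ⁅g, h⁆ of two elements of SL_n(F) provided n ≥ 3, or n = 2 and F contains x ≠ 0 with x² ≠ 1. -/
theorem result {F : Type*} [Field F] (n : ℕ) (hn : 3 ≤ n ∨ (n = 2 ∧ ∃ x : F, x ≠ 0 ∧ x ^ 2 ≠ 1)) (i j : Fin n) (hij : i ≠ j) (c : F) (t : Matrix.SpecialLinearGroup (Fin n) F) (ht : (t : Matrix (Fin n) (Fin n) F) = Matrix.transvection i j c) : t ∈ commutatorSet (Matrix.SpecialLinearGroup (Fin n) F) := by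
  have h0 : (c • LinearMap.proj j : Module.Dual F (Fin n → F)) (Pi.single i 1) = 0 := by
    simp [hij.symm]
  have h1 : CfsgH5.slHom _ F t = CfsgH5.tr (c • LinearMap.proj j) (Pi.single i 1) := by
    ext v k
    rw [CfsgH5.slHom_apply, ht, CfsgH5.tr_apply h0]
    simp [Matrix.transvection, Matrix.add_mulVec, Matrix.single_mulVec, Pi.single_apply,
      Function.update_apply]
  have key : ∀ a ∈ CfsgH5.slSub F (Fin n → F), ∀ b ∈ CfsgH5.slSub F (Fin n → F),
      CfsgH5.slHom _ F t = a * b * a⁻¹ * b⁻¹ →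
        t ∈ commutatorSet (Matrix.SpecialLinearGroup (Fin n) F) := by
    intro a ha b hb e
    obtain ⟨A, rfl⟩ := CfsgH5.exists_slHom ha
    obtain ⟨B, rfl⟩ := CfsgH5.exists_slHom hb
    exact ⟨A, B, CfsgH5.slHom_inj (by rw [e, map_commutatorElement]; rfl)⟩
  rcases hn with hn | ⟨-, x, hx, hx2⟩
  · obtain ⟨ψ, w, e⟩ := CfsgH5.exists_tr_commutator (by simpa using hn) h0
    exact key _ (CfsgH5.tr_mem_sl _ _) _ (CfsgH5.tr_mem_sl _ _) (h1.trans e)
  · obtain ⟨g, hg, w, e⟩ := CfsgH5.exists_tr_commutator_of_sq hx hx2 h0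
    exact key _ hg _ (CfsgH5.tr_mem_sl _ _) (h1.trans e)

end Cfsg.Agent.S0836
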