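import Cfsg.Statements.S0837
import Cfsg.Agent.H5.UnitMat

set_option autoImplicit false
open Cfsg

namespace Cfsg.Agent.S0837

/-- If W ≤ F^n (|F| = q²) is a k-dimensional subspace on which the Hermitian form Σ x_i y_i^q is non-degenerate, then the stabiliser of W in GU_n(q) is isomorphic to GU_k(q) × GU_(n−k)(q). -/
theorem result {F : Type*} [Field F] [Fintype F] {q : ℕ} (hF : Fintype.card F = q ^ 2) (n k : ℕ) (hk : k ≤ n) (W : Submodule F (Fin n → F)) (hWk : Module.finrank F W = k) (hW : ∀ u ∈ W, (∀ v ∈ W, Cfsg.hermForm n F q u v = 0) → u = 0) : Nonempty (↥((Cfsg.stabilizing (Cfsg.glToMat (Fin n) F) (W : Set (Fin n → F))).subgroupOf (Cfsg.GU n F q)) ≃* ↥(Cfsg.GU k F q) × ↥(Cfsg.GU (n - k) F q)) := by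
  have hS := CfsgH5.uForm_nondeg hF n
  have hW' : (CfsgH5.uForm hF n).NondegOn W := fun x hx h0 =>
    hW x hx fun v hv => CfsgH5.Form.perp_symm (S := CfsgH5.uForm hF n) (h0 v hv)
  have h1 := hW'.finrank_add
  simp only [Module.finrank_fintype_fun_eq_card, Fintype.card_fin] at h1
  obtain ⟨a⟩ := hW'.res.unit_nonempty_equiv hF hWk
  obtain ⟨b⟩ := (hW'.perp hS).res.unit_nonempty_equiv hF (n := n - k) (by omega)
  have h2 : (Cfsg.stabilizing (Cfsg.glToMat (Fin n) F) (W : Set (Fin n → F))).subgroupOf (Cfsg.GU n F q) =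
    (CfsgH5.stab F (W : Set (Fin n → F))).comap (CfsgH5.guHom n F q) := rfl
  rw [h2]
  exact ⟨(CfsgH5.comapEquivOfInj _ (CfsgH5.guHom_inj n) (CfsgH5.stab F (W : Set _))).trans
    ((MulEquiv.subgroupCongr (by rw [CfsgH5.range_guHom hF])).trans
      (hW'.stabEquiv.symm.trans (a.prodCongr b)))⟩

end Cfsg.Agent.S0837
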