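import Cfsg.Statements.S0839
import Cfsg.Agent.H5.LinMat

set_option autoImplicit false
open Cfsg

namespace Cfsg.Agent.S0839

/-- Every transvection t ∈ SL_(n+2)(F) (rank(t − 1) = 1, (t − 1)² = 0) is conjugate in SL_(n+2)(F) to 1 + v·e_0ᵀ for some column vector v with v_0 = 0 (the group A of matrices that are the identity except in the first column below the diagonal); the dimension is written n + 2 ≥ 2. -/
theorem result {F : Type*} [Field F] (n : ℕ) (t : Matrix.SpecialLinearGroup (Fin (n + 2)) F) (ht : Cfsg.IsTransvection (t : Matrix (Fin (n + 2)) (Fin (n + 2)) F)) : ∃ (g : Matrix.SpecialLinearGroup (Fin (n + 2)) F) (v : Fin (n + 2) → F), v 0 = 0 ∧ ((g⁻¹ * t * g : Matrix.SpecialLinearGroup (Fin (n + 2)) F) : Matrix (Fin (n + 2)) (Fin (n + 2)) F) = 1 + Matrix.vecMulVec v (Pi.single 0 1) := by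
  obtain ⟨h1, h2⟩ := ht
  set N := (t : Matrix (Fin (n + 2)) (Fin (n + 2)) F) - 1 with hN
  obtain ⟨⟨x, hx⟩, hx0, hxx⟩ := finrank_eq_one_iff'.1 h1
  have h3 : ∀ y, ∃ c : F, c • x = N.mulVec y := fun y => by
    obtain ⟨c, hc⟩ := hxx ⟨N.mulVec y, y, rfl⟩
    exact ⟨c, congr_arg Subtype.val hc⟩
  have hx0' : x ≠ 0 := fun h => hx0 (Subtype.ext h)
  obtain ⟨ψ, hψ⟩ := CfsgH5.exists_dual_one (F := F) hx0'
  let φ : Module.Dual F (Fin (n + 2) → F) := ψ ∘ₗ N.mulVecLin
  have h4 : ∀ y, N.mulVec y = φ y • x := fun y => by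
    obtain ⟨c, hc⟩ := h3 y
    change _ = ψ (N.mulVec y) • x
    rw [← hc]; simp [hψ]
  obtain ⟨z, hz⟩ := hx
  have hz' : N.mulVec z = x := hz
  have h5 : φ x = 0 := by
    change ψ (N.mulVec x) = 0
    rw [← hz', Matrix.mulVec_mulVec, h2]; simp
  have h6 : φ z = 1 := by change ψ (N.mulVec z) = 1; rw [hz', hψ]
  have hφ : φ ≠ 0 := fun h => by simp [h] at h6
  let π : Module.Dual F (Fin (n + 2) → F) := LinearMap.proj 0
  have hπ : π ≠ 0 := fun h => by simpa [π] using LinearMap.congr_fun h (Pi.single 0 1)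
  obtain ⟨g, hg⟩ := CfsgH5.exists_gl_map_submodule (U := LinearMap.ker π) (W := LinearMap.ker φ)
    (by have := CfsgH5.finrank_ker_dual hφ; have := CfsgH5.finrank_ker_dual hπ; omega)
  obtain ⟨s, hs, h7⟩ := CfsgH5.exists_sl_eq_on (H := LinearMap.ker π) (by simpa using hπ) g
  obtain ⟨A, rfl⟩ := CfsgH5.exists_slHom hs
  have h8 : ∀ y, φ (CfsgH5.slHom _ F A y) = φ (CfsgH5.slHom _ F A (Pi.single 0 1)) * y 0 := by
    intro y
    have e1 : y - y 0 • (Pi.single 0 1 : Fin (n + 2) → F) ∈ LinearMap.ker π := by simp [π]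
    have e2 : g _ ∈ LinearMap.ker φ := hg ▸ Submodule.mem_map_of_mem e1
    rw [← h7 _ e1, LinearMap.mem_ker, map_sub, map_sub, map_smul, map_smul, sub_eq_zero] at e2
    rw [e2, smul_eq_mul, mul_comm]
  set a := φ (CfsgH5.slHom _ F A (Pi.single 0 1))
  have ha : a ≠ 0 := fun h => by
    have := h8 ((CfsgH5.slHom _ F A)⁻¹ z)
    rw [CfsgH5.apply_inv_apply, h6, h] at this
    simp at this
  refine ⟨A, a • (CfsgH5.slHom _ F A)⁻¹ x, ?_, CfsgH5.mat_ext fun y => ?_⟩
  · have := h8 ((CfsgH5.slHom _ F A)⁻¹ x)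
    rw [CfsgH5.apply_inv_apply, h5] at this
    simpa using this.symm
  · rw [← CfsgH5.slHom_apply, map_mul, map_mul, map_inv, LinearEquiv.mul_apply,
      LinearEquiv.mul_apply, CfsgH5.slHom_apply t, show (t : Matrix _ _ F) = 1 + N by simp [hN],
      Matrix.add_mulVec, Matrix.one_mulVec, h4, h8, map_add, CfsgH5.inv_apply_apply,
      Matrix.add_mulVec, Matrix.one_mulVec, Matrix.vecMulVec_mulVec, map_smul]
    simp [smul_smul, mul_comm]

end Cfsg.Agent.S0839
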