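import Cfsg.Statements.S0840
import Cfsg.Agent.H4.Ord2

set_option autoImplicit false
open scoped ComplexConjugate
open Cfsg

namespace Cfsg.Agent.S0840

open CfsgH4 CfsgH3 CfsgH2 MonoidAlgebra

/-- Class multiplication coefficients from the character table: for elements a, b, c of a finite group G, the number of ordered pairs (x, y) with x conjugate to a, y conjugate to b and x * y = c equals the product of the sizes of the conjugacy classes of a and b, divided by the order of G, times the sum over the irreducible characters χ of χ a * χ b * conj (χ c) / χ 1. -/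
theorem result {G : Type*} [Group G] [Finite G] (a b c : G) : (Nat.card {p : G × G // IsConj a p.1 ∧ IsConj b p.2 ∧ p.1 * p.2 = c} : ℂ) = (Nat.card {x : G // IsConj a x} : ℂ) * (Nat.card {x : G // IsConj b x} : ℂ) / (Nat.card G : ℂ) * ∑ᶠ χ : Cfsg.IrrCharacter G, (χ : G → ℂ) a * (χ : G → ℂ) b * conj ((χ : G → ℂ) c) / (χ : G → ℂ) 1 := by
  classical
  have := Fintype.ofFinite G
  let X := {x : G // IsConj a x} × {x : G // IsConj b x}
  have cj : ∀ a h : G, {x : G // IsConj a x} ≃ {x : G // IsConj a x} := fun a h =>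
    (MulAut.conj h).toEquiv.subtypeEquiv fun x =>
      ⟨fun hx => hx.trans (isConj_iff.mpr ⟨h, rfl⟩), fun hx => hx.trans (isConj_iff.mpr ⟨h, rfl⟩).symm⟩
  have h := card_fiber_eq_sum (fun x : X => x.1.1 * x.2.1) (fun g h => Nat.card_congr
    ((((MulAut.conj h).toEquiv.subtypeEquiv fun x =>
      ⟨fun hx => hx.trans (isConj_iff.mpr ⟨h, rfl⟩), fun hx => hx.trans (isConj_iff.mpr ⟨h, rfl⟩).symm⟩).prodCongr
      ((MulAut.conj h).toEquiv.subtypeEquiv fun x =>
      ⟨fun hx => hx.trans (isConj_iff.mpr ⟨h, rfl⟩), fun hx => hx.trans (isConj_iff.mpr ⟨h, rfl⟩).symm⟩)).subtypeEquiv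
      fun s => by
      rw [← (MulAut.conj h).injective.eq_iff]
      simp [mul_assoc]).symm) c
  have e0 : Nat.card {p : G × G // IsConj a p.1 ∧ IsConj b p.2 ∧ p.1 * p.2 = c} =
      Nat.card {x : X // x.1.1 * x.2.1 = c} := Nat.card_congr
    { toFun := fun p => ⟨(⟨p.1.1, p.2.1⟩, ⟨p.1.2, p.2.2.1⟩), p.2.2.2⟩
      invFun := fun x => ⟨(x.1.1.1, x.1.2.1), x.1.1.2, x.1.2.2, x.2⟩
      left_inv := fun _ => rfl
      right_inv := fun _ => rfl }
  rw [e0, h, finsum_irr, Finset.mul_sum]
  refine Finset.sum_congr rfl fun χ _ => ?_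
  have e1 : ∀ (a : G) (F : G → ℂ), ∑ x : {x : G // IsConj a x}, F x = ∑ x, classInd a x * F x :=
    fun a F => by
      rw [← Finset.sum_subtype (Finset.univ.filter fun x => IsConj a x) (by simp), Finset.sum_filter]
      exact Finset.sum_congr rfl fun x _ => by simp [classInd]
  rw [Fintype.sum_prod_type_right, Finset.sum_congr rfl fun (y : {x : G // IsConj b x}) _ =>
    (e1 a (fun x => χ.1 (x * y))).trans (χ.2.sum_mul_apply_mul (classInd_classFun a) y),
    ← Finset.mul_sum, e1 b χ.1, sum_classInd_mul a χ.2.classFun, sum_classInd_mul b χ.2.classFun,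
    card_isConj_eq_index, card_isConj_eq_index]
  ring

end Cfsg.Agent.S0840
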