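import Cfsg.Statements.S0841
import Cfsg.Agent.H4.Ord2

set_option autoImplicit false
open Cfsg

namespace Cfsg.Agent.S0841

open CfsgH4 CfsgH3 CfsgH2 MonoidAlgebra

/-- If the commutator subgroup of G lies in the centre, then for all x, y in G and every natural number n one has (x * y) ^ n = x ^ n * y ^ n * c ^ (n * (n - 1) / 2) with c = y⁻¹ * x⁻¹ * y * x. -/
theorem result {G : Type*} [Group G] (hG : commutator G ≤ Subgroup.center G) (x y : G) (n : ℕ) : (x * y) ^ n = x ^ n * y ^ n * (y⁻¹ * x⁻¹ * y * x) ^ (n * (n - 1) / 2) := by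
  have hc : y⁻¹ * x⁻¹ * y * x ∈ Subgroup.center G := hG (by
    simpa [commutatorElement_def, _root_.commutator_def] using
      Subgroup.commutator_mem_commutator (Subgroup.mem_top y⁻¹) (Subgroup.mem_top x⁻¹))
  generalize hcd : y⁻¹ * x⁻¹ * y * x = c at hc ⊢
  have h1 : ∀ g k, c ^ k * g = g * c ^ k := fun g k =>
    (Subgroup.mem_center_iff.mp (Subgroup.pow_mem _ hc k) g).symm
  have h2 : y * x = x * y * c := by rw [← hcd]; group
  have h3 : ∀ k : ℕ, y ^ k * x = x * y ^ k * c ^ k := fun k => by
    induction k with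
    | zero => simp
    | succ k ih =>
      rw [pow_succ', mul_assoc, ih, ← mul_assoc, ← mul_assoc, h2, pow_succ' c]
      have := h1 (y ^ k) 1
      rw [pow_one] at this
      rw [mul_assoc (x * y), this]; group
  induction n with
  | zero => simp
  | succ n ih =>
    rw [pow_succ, ih, Nat.add_sub_cancel, show (n + 1) * n / 2 = n * (n - 1) / 2 + n from ?_]
    · calc x ^ n * y ^ n * c ^ (n * (n - 1) / 2) * (x * y)
          = x ^ n * (y ^ n * x) * y * c ^ (n * (n - 1) / 2) := by
            rw [mul_assoc _ (c ^ _), h1]; simp only [mul_assoc]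
        _ = x ^ n * x * y ^ n * (c ^ n * y) * c ^ (n * (n - 1) / 2) := by
            rw [h3]; simp only [mul_assoc]
        _ = _ := by
            rw [h1 y n, add_comm (n * (n - 1) / 2), pow_add c, pow_succ, pow_succ]
            simp only [mul_assoc]
    · rw [← Nat.choose_two_right, show (n + 1) * n = (n + 1) * (n + 1 - 1) by simp,
        ← Nat.choose_two_right, Nat.choose_succ_succ, Nat.choose_one_right, add_comm]

end Cfsg.Agent.S0841
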