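import Cfsg.Statements.S0842
import Cfsg.Agent.H2.BS16

set_option autoImplicit false
open Cfsg

namespace Cfsg.Agent.S0842
open Subgroup CfsgH2
open scoped commutatorElement

/-- Suppose a Sylow 2-subgroup S of the finite group G is generalized quaternion of order at least 16, and let D be the commutator subgroup of S, C its centralizer and N its normalizer in G. Then there is a subgroup K of odd order, contained in C and normalized by N, with K ⊔ S = N and K ⊔ (S ⊓ C) = C, and C has index 2 in N. -/
theorem result {G : Type*} [Group G] [Finite G] (S : Sylow 2 G) (n : ℕ) (e : (S : Subgroup G) ≃* QuaternionGroup (2 ^ (n + 2))) (D : Subgroup G) (hD : D = ⁅(S : Subgroup G), (S : Subgroup G)⁆) : ∃ K : Subgroup G, Odd (Nat.card K) ∧ K ≤ Subgroup.centralizer (D : Set G) ∧ Subgroup.normalizer (D : Set G) ≤ Subgroup.normalizer (K : Set G) ∧ K ⊔ (S : Subgroup G) = Subgroup.normalizer (D : Set G) ∧ K ⊔ ((S : Subgroup G) ⊓ Subgroup.centralizer (D : Set G)) = Subgroup.centralizer (D : Set G) ∧ ((Subgroup.centralizer (D : Set G)).subgroupOf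 (Subgroup.normalizer (D : Set G))).index = 2 := by
  obtain ⟨a, b, h, ho⟩ := exists_idx2_of_quaternion e
  have hS := IsSylowIn.of_sylow_top S
  rw [h.commutator_eq_sq] at hD
  subst hD
  rw [centralizer_zpowers']
  refine ⟨resIn 2 (centralizer ({a ^ (2 : ℤ)} : Set G)), odd_card_resIn (bs_npc hS h ho),
    resIn_le _, ?_, bs_sup hS h ho, ?_, bs_relIndex hS h ho⟩
  · rw [bs_res ho]; exact le_normalizer_resIn _
  · rw [bs_inf h ho, sup_comm]; exact (bs_sylow hS h ho).sup_resIn


end Cfsg.Agent.S0842
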