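import Cfsg.Statements.S0844
import Cfsg.Agent.H2.BS16

set_option autoImplicit false
open Cfsg

namespace Cfsg.Agent.S0844
open Subgroup CfsgH2
open scoped commutatorElement

open CfsgH3 in
theorem aux {G : Type*} [Group G] [Fintype G] {α β : G → ℂ} (hα : IsDirr α) (hβ : IsDirr β)
    (h1 : Cfsg.classInner α (fun _ => 1) = 0) (h2 : Cfsg.classInner β (fun _ => 1) = 0)
    (h3 : ∀ g, ¬ 4 ∣ orderOf g → 1 + α g + β g = 0) (h4 : 0 ≤ (α 1).re) :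
    ∃ χ₁ χ₂ : G → ℂ, Cfsg.IsIrrCharacter G χ₁ ∧ Cfsg.IsIrrCharacter G χ₂ ∧ χ₁ ≠ (fun _ => 1) ∧ χ₂ ≠ (fun _ => 1) ∧ χ₁ 1 = χ₂ 1 + 1 ∧ ∀ g : G, ¬ 4 ∣ orderOf g → χ₁ g - χ₂ g = 1 := by
  have h5 := h3 1 (by simp)
  have h6 : (-β) 1 = α 1 + 1 := by rw [Pi.neg_apply]; linear_combination -h5
  refine ⟨-β, α, hβ.neg.irr_of_pos ?_, hα.irr_of_pos h4, fun e => ?_, fun e => ?_, h6,
    fun g hg => ?_⟩
  · rw [h6]; simp; linarith
  · rw [← neg_neg β, e, CfsgH3.inner_neg_left, ip_one_one] at h2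
    norm_num at h2
  · rw [e, ip_one_one] at h1
    norm_num at h1
  · rw [Pi.neg_apply]; linear_combination -h3 g hg

/-- Suppose a Sylow 2-subgroup S of the finite group G is generalized quaternion of order at least 16. Then G has two non-principal irreducible characters χ₁ and χ₂ with χ₁ 1 = χ₂ 1 + 1 such that χ₁ g - χ₂ g = 1 for every element g whose order is not divisible by 4. -/
theorem result {G : Type*} [Group G] [Fintype G] (S : Sylow 2 G) (n : ℕ) (e : (S : Subgroup G) ≃* QuaternionGroup (2 ^ (n + 2))) : ∃ χ₁ χ₂ : G → ℂ, Cfsg.IsIrrCharacter G χ₁ ∧ Cfsg.IsIrrCharacter G χ₂ ∧ χ₁ ≠ (fun _ => 1) ∧ χ₂ ≠ (fun _ => 1) ∧ χ₁ 1 = χ₂ 1 + 1 ∧ ∀ g : G, ¬ 4 ∣ orderOf g → χ₁ g - χ₂ g = 1 := by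
  obtain ⟨a, b, h, ho⟩ := exists_idx2_of_quaternion e
  obtain ⟨α, β, hα, hβ, h1, h2, h3⟩ := bs_theta (IsSylowIn.of_sylow_top S) h ho
  by_cases h4 : 0 ≤ (α 1).re
  · exact aux hα hβ h1 h2 h3 h4
  · refine aux hβ hα h2 h1 (fun g hg => by linear_combination h3 g hg) ?_
    obtain ⟨k, -, hk⟩ := dirr_exists_int_deg hα
    have h5 : β 1 = ((-1 - k : ℤ) : ℂ) := by push_cast; linear_combination h3 1 (by simp) - hk
    rw [hk, Complex.intCast_re] at h4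
    rw [h5, Complex.intCast_re]
    have : k < 0 := by exact_mod_cast not_le.1 h4
    exact_mod_cast (by omega : 0 ≤ -1 - k)


end Cfsg.Agent.S0844
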