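import Cfsg.Statements.S0846
import Cfsg.Agent.H2.BS16

set_option autoImplicit false
open Cfsg

namespace Cfsg.Agent.S0846
open Subgroup CfsgH2
open scoped commutatorElement

/-- Suppose a Sylow 2-subgroup S of the finite group G is generalized quaternion of order at least 16. Then every Sylow 2-subgroup of the subgroup generated by the involutions of G is cyclic. -/
theorem result {G : Type*} [Group G] [Finite G] (S : Sylow 2 G) (n : ℕ) (e : (S : Subgroup G) ≃* QuaternionGroup (2 ^ (n + 2))) (Q : Sylow 2 ↥(Subgroup.closure {g : G | orderOf g = 2})) : IsCyclic Q := by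
  obtain ⟨a, b, h, ho⟩ := exists_idx2_of_quaternion e
  have hS := IsSylowIn.of_sylow_top S
  have h1 := isCyclic_of_le' (isCyclic_zpowers' a) (bs16_le hS h ho)
  obtain ⟨g, -, hg⟩ := (sylowIn_invClosure hS).exists_cj_eq (IsSylowIn.of_sylow_map Q)
  have h2 : IsCyclic (cj g ((S : Subgroup G) ⊓ invClosure G)) :=
    isCyclic_of_surjective _ (cjEquiv g _).surjective
  rw [hg] at h2
  exact (equivMapOfInjective Q.toSubgroup _ (Subgroup.subtype_injective _)).isCyclic.2 h2


end Cfsg.Agent.S0846
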