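import Cfsg.Statements.S0847
import Cfsg.Agent.H2.BS16

set_option autoImplicit false
open Cfsg

namespace Cfsg.Agent.S0847
open Subgroup CfsgH2
open scoped commutatorElement

/-- The Brauer–Suzuki Theorem in the case of order at least 16: if a Sylow 2-subgroup S of the finite group G is generalized quaternion of order at least 16 and G has no nontrivial normal subgroup of odd order, then the centre of G has order 2. -/
theorem result {G : Type*} [Group G] [Finite G] (S : Sylow 2 G) (n : ℕ) (e : (S : Subgroup G) ≃* QuaternionGroup (2 ^ (n + 2))) (hO : ∀ N : Subgroup G, N.Normal → Odd (Nat.card N) → N = ⊥) : Nat.card (Subgroup.center G) = 2 := by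
  obtain ⟨a, b, h, ho⟩ := exists_idx2_of_quaternion e
  have hS := IsSylowIn.of_sylow_top S
  have ht := orderOf_half' (by positivity) ho
  have hO' := pPrimeCore_eq_bot_of hO
  exact card_center_eq_two hS ht (h.inf_centralizer_le_half
    (by rw [pow_add]; have := Nat.one_le_two_pow (n := n); omega) ho) hO'
    (mem_center_of_zstar hO' (zstar_of_hasNPC_invClosure
      (isolated_of_uniqInv hS (h.uniqInv (by positivity) ho) ht) (bs16_npc hS h ho)))


end Cfsg.Agent.S0847
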