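import Cfsg.Statements.S0849
import Cfsg.Agent.H4.Ord4

set_option autoImplicit false
open Cfsg

namespace Cfsg.Agent.S0849

open CfsgH4 CfsgH3

/-- Let H be a subgroup of a finite group G and S a subset of H that is mapped to itself under conjugation by H, is disjoint from its conjugate by any element outside H, and is closed under inverses. Let φ be a class function of H vanishing on H away from S, and let u, v be involutions of G. Then the sum of the induced function of φ over all products a * b with a conjugate to u and b conjugate to v equals the index of H times the sum of φ (a * b) over such pairs with a and b in H. -/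
theorem result {G : Type*} [Group G] [Fintype G] (H : Subgroup G) (S : Set G) (hSH : S ⊆ H) (hHS : ∀ h ∈ H, ∀ s ∈ S, h * s * h⁻¹ ∈ S) (hTI : ∀ g : G, g ∉ H → ∀ s ∈ S, g * s * g⁻¹ ∉ S) (hinv : ∀ s ∈ S, s⁻¹ ∈ S) (φ : H → ℂ) (hφ : Cfsg.IsClassFunction H φ) (hφS : ∀ x : H, (x : G) ∉ S → φ x = 0) (u v : G) (hu : orderOf u = 2) (hv : orderOf v = 2) : ∑ᶠ p ∈ {p : G × G | IsConj u p.1 ∧ IsConj v p.2}, Cfsg.indFun H φ (p.1 * p.2) = (H.index : ℂ) * ∑ᶠ p ∈ {p : H × H | IsConj u (p.1 : G) ∧ IsConj v (p.2 : G)}, φ (p.1 * p.2) := by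
  classical
  have := Fintype.ofFinite H
  rw [finsum_mem_eq_finite_toFinset_sum _ (Set.toFinite _),
    finsum_mem_eq_finite_toFinset_sum _ (Set.toFinite _)]
  set T := (Set.toFinite {p : G × G | IsConj u p.1 ∧ IsConj v p.2}).toFinset with hT
  have mT : ∀ p, p ∈ T ↔ IsConj u p.1 ∧ IsConj v p.2 := fun p => Set.Finite.mem_toFinset _
  have h1 : ∀ x : G, ∑ p ∈ T, extendByZero H φ (x * (p.1 * p.2) * x⁻¹) =
      ∑ p ∈ T, extendByZero H φ (p.1 * p.2) := fun x =>
    Finset.sum_equiv ((MulAut.conj x).toEquiv.prodCongr (MulAut.conj x).toEquiv) (fun p => by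
      have : ∀ a b : G, IsConj a b ↔ IsConj a (x * b * x⁻¹) := fun a b =>
        ⟨fun h => h.trans (isConj_iff.2 ⟨x, rfl⟩), fun h => h.trans (isConj_iff.2 ⟨x, rfl⟩).symm⟩
      rw [mT, mT]; exact and_congr (this _ _) (this _ _)) fun p _ => by simp [mul_assoc]
  simp only [indFun_apply']
  rw [← Finset.mul_sum, Finset.sum_comm, Finset.sum_congr rfl fun x _ => h1 x, Finset.sum_const,
    Finset.card_univ, ← Nat.card_eq_fintype_card, nsmul_eq_mul, card_eq_card_mul_index H, mul_assoc,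
    inv_mul_cancel_left₀ (card_ne_zero_complex H)]
  congr 1
  refine (Finset.sum_of_injOn (fun p : H × H => ((p.1 : G), (p.2 : G))) (fun a _ b _ e =>
    Prod.ext (Subtype.ext (congrArg Prod.fst e)) (Subtype.ext (congrArg Prod.snd e)))
    (fun p hp => (mT _).2 (by simpa using hp)) (fun p hp h => ?_)
    fun p _ => (ext0_coe H φ (p.1 * p.2)).symm).symm
  obtain ⟨a, b⟩ := (mT p).1 hp
  rw [ext0_eq]
  split_ifs with hH
  · refine hφS _ fun hS => h ?_
    have sq : ∀ {w y : G}, orderOf w = 2 → IsConj w y → y⁻¹ = y := fun hw hy => by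
      obtain ⟨c, rfl⟩ := isConj_iff.1 hy
      rw [inv_eq_iff_mul_eq_one, conj_mul, (orderOf_eq_two_iff.1 hw).1]; simp
    have h2 : p.1 ∈ H := by_contra fun e => hTI _ e _ hS (by
      have := hinv _ hS
      rw [mul_inv_rev, sq hv b] at this
      have e2 : p.1 * (p.1 * p.2) = p.2 := by nth_rewrite 1 [← sq hu a]; rw [inv_mul_cancel_left]
      change p.1 * (p.1 * p.2) * p.1⁻¹ ∈ S
      rwa [e2])
    exact ⟨(⟨p.1, h2⟩, ⟨p.2, (mul_mem_cancel_left h2).1 hH⟩), (Set.Finite.mem_toFinset _).2 ⟨a, b⟩, rfl⟩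
  · rfl

end Cfsg.Agent.S0849
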