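import Cfsg.Statements.S0850
import Cfsg.Agent.H4.Ord4

set_option autoImplicit false
open Cfsg

namespace Cfsg.Agent.S0850

open CfsgH4 CfsgH3

/-- Let K be a subgroup of the finite group G that meets each conjugate by an element outside its normalizer N trivially, is properly contained in N, and contains the centralizer of each of its non-identity elements (a T.I. subgroup with Frobenius normalizer). Then no element of N outside K is conjugate in G to an element of K, and for every class function ϑ of N that vanishes on N away from K and at the identity, the function induced from ϑ to G agrees with ϑ on all of N. -/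
theorem result {G : Type*} [Group G] [Fintype G] (K : Subgroup G) (hTI : ∀ g : G, g ∉ Subgroup.normalizer (K : Set G) → ∀ k ∈ K, g * k * g⁻¹ ∈ K → k = 1) (hlt : K < Subgroup.normalizer (K : Set G)) (hC : ∀ k ∈ K, k ≠ 1 → Subgroup.centralizer ({k} : Set G) ≤ K) : (∀ x ∈ Subgroup.normalizer (K : Set G), x ∉ K → ∀ g : G, g * x * g⁻¹ ∉ K) ∧ ∀ (ϑ : Subgroup.normalizer (K : Set G) → ℂ), Cfsg.IsClassFunction (Subgroup.normalizer (K : Set G)) ϑ → (∀ x : Subgroup.normalizer (K : Set G), (x : G) ∉ K → ϑ x = 0) → ϑ 1 = 0 → ∀ x : Subgroup.normalizer (K : Set G), Cfsg.indFun (Subgroup.normalizer (K : Set G)) ϑ x = ϑ x := by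
  have h1 : ∀ x ∈ Subgroup.normalizer (K : Set G), x ∉ K → ∀ g : G, g * x * g⁻¹ ∉ K := by
    intro x hx hK g hg
    have h2 := CfsgH1.card_dvd_card_sub_one (K := K) (R := Subgroup.zpowers x) (Subgroup.zpowers_le.2 hx)
      fun z hz h1 => eq_bot_iff.2 fun k hk => by_contra fun e => hK (hC z (hC k hk.1 e
        (Subgroup.mem_centralizer_singleton_iff.2 (Subgroup.mem_centralizer_singleton_iff.1 hk.2).symm))
        h1 (by
          obtain ⟨i, rfl⟩ := hz
          exact Subgroup.mem_centralizer_singleton_iff.2 (Commute.self_zpow x i)))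
    have h3 := K.orderOf_dvd_natCard hg
    rw [show orderOf (g * x * g⁻¹) = orderOf x from (MulAut.conj g).orderOf_eq x] at h3
    rw [Nat.card_zpowers] at h2
    have h4 := (Nat.dvd_sub_iff_right Nat.card_pos h3).1 h2
    rw [Nat.dvd_one, orderOf_eq_one_iff] at h4
    exact hK (h4 ▸ one_mem K)
  refine ⟨h1, fun θ a b c x => ?_⟩
  rw [← ind_subtype]
  refine ind_apply_of_TI (Subgroup.subtype_injective _) a x fun g y d e => ?_
  rw [Subgroup.range_subtype]
  have h2 : g * x * g⁻¹ ∈ K := by_contra fun h => d (b y (by rwa [show (y : G) = _ from e.symm]))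
  by_contra h3
  have := hTI g h3 x (by_contra fun h => h1 x x.2 h g h2) h2
  exact d (by rw [show y = 1 from Subtype.ext (e.symm.trans (by simp [this])), c])

end Cfsg.Agent.S0850
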