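import Cfsg.Statements.S0851
import Cfsg.Agent.H4.Ord4
import Cfsg.Agent.S0850

set_option autoImplicit false
open Cfsg

namespace Cfsg.Agent.S0851

open CfsgH4 CfsgH3

/-- Let K be a subgroup of the finite group G that meets each conjugate by an element outside its normalizer N trivially, is properly contained in N, and contains the centralizer of each of its non-identity elements (a T.I. subgroup with Frobenius normalizer). Suppose K is abelian, let e be the index of K in N, and call an irreducible character of N relevant when it takes at some element of K a value different from its degree. Then either there is exactly one relevant character and K is an elementary abelian p-group of order e + 1 for some prime p, or there are a sign ε and an injective map f from the relevant characters to the irreducible characters of G such that inducing χ - ξ to G gives ε (f χ - f ξ) for all relevant χ and ξ. -/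
theorem result {G : Type*} [Group G] [Fintype G] (K : Subgroup G) (hTI : ∀ g : G, g ∉ Subgroup.normalizer (K : Set G) → ∀ k ∈ K, g * k * g⁻¹ ∈ K → k = 1) (hlt : K < Subgroup.normalizer (K : Set G)) (hC : ∀ k ∈ K, k ≠ 1 → Subgroup.centralizer ({k} : Set G) ≤ K) (hab : ∀ a ∈ K, ∀ b ∈ K, a * b = b * a) : (Nat.card {χ : Cfsg.IrrCharacter (Subgroup.normalizer (K : Set G)) // ∃ k : Subgroup.normalizer (K : Set G), (k : G) ∈ K ∧ (χ : ↥(Subgroup.normalizer (K : Set G)) → ℂ) k ≠ (χ : ↥(Subgroup.normalizer (K : Set G)) → ℂ) 1} = 1 ∧ ∃ p : ℕ, p.Prime ∧ Cfsg.IsElementaryAbelian p K ∧ Nat.card K = (K.subgroupOf (Subgroup.normalizer (K : Set G))).index + 1) ∨ ∃ (ε : ℂ) (f : {χ : Cfsg.IrrCharacter (Subgroup.normalizer (K : Set G)) // ∃ k : Subgroup.normalizer (K : Set G), (k : G) ∈ K ∧ (χ : ↥(Subgroup.normalizer (K : Set G)) → ℂ) k ≠ (χ : ↥(Subgroup.normalizer (K : Set G)) → ℂ) 1} → Cfsg.IrrCharacter G), (ε = 1 ∨ ε = -1) ∧ Function.Injective f ∧ ∀ χ ξ, Cfsg.indFun (Subgroup.normalizer (K : Set G))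 ((χ.1 : ↥(Subgroup.normalizer (K : Set G)) → ℂ) - (ξ.1 : ↥(Subgroup.normalizer (K : Set G)) → ℂ)) = ε • ((f χ : G → ℂ) - (f ξ : G → ℂ)) := by
  classical
  right
  have h0 := (S0850.result K hTI hlt hC).2
  generalize hN : Subgroup.normalizer (K : Set G) = N at *
  have := Fintype.ofFinite N
  have : (K.subgroupOf N).Normal := Subgroup.normal_subgroupOf_of_le_normalizer hN.ge
  have := Fintype.ofFinite (K.subgroupOf N)
  rcases isEmpty_or_nonempty {χ : IrrCharacter N // ∃ k : N, (k : G) ∈ K ∧ χ.1 k ≠ χ.1 1} with e | ⟨⟨i₀⟩⟩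
  · exact ⟨1, isEmptyElim, Or.inl rfl, isEmptyElim, isEmptyElim⟩
  have key : ∀ χ : {χ : IrrCharacter N // ∃ k : N, (k : G) ∈ K ∧ χ.1 k ≠ χ.1 1},
      χ.1.1 1 = (K.subgroupOf N).index ∧ ∀ x : N, (x : G) ∉ K → χ.1.1 x = 0 := by
    rintro ⟨χ, k, a, b⟩
    obtain ⟨τ, c, d⟩ := χ.2.exists_res_constituent (K.subgroupOf N)
    have := irr_indFun_of_inertia_le c (inertia_le_of_cent' (K := K.subgroupOf N) (fun k hk h1 y hy =>
      hC k hk (fun e => h1 (Subtype.ext e)) (Subgroup.mem_centralizer_singleton_iff.2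
        (congrArg Subtype.val (Subgroup.mem_centralizer_singleton_iff.1 hy)))) c
      fun e => b (ker_of_ip_res_one χ.2 (e ▸ d) k a))
    rw [← inner_indFun_right _ _ χ.2.classFun] at d
    change χ.1 1 = _ ∧ ∀ x : N, _ → χ.1 x = 0
    rw [χ.2.eq_of_inner_ne_zero this d, indFun_one, c.deg_one_of_comm fun a b =>
      Subtype.ext (Subtype.ext (hab _ a.2 _ b.2)), mul_one]
    exact ⟨rfl, fun x hx => indFun_of_not_mem_normal _ _ hx⟩
  have ip : ∀ i j : {χ : IrrCharacter N // ∃ k : N, (k : G) ∈ K ∧ χ.1 k ≠ χ.1 1},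
      classInner (indFun N (i.1.1 - i₀.1.1)) (indFun N (j.1.1 - i₀.1.1)) =
      classInner (i.1.1 - i₀.1.1) (j.1.1 - i₀.1.1) := fun i j => by
    rw [inner_indFun_left _ _ (indFun_classFun _ _)]
    congr 1
    exact funext (h0 _ (isClassFunction_sub j.1.2.classFun i₀.1.2.classFun)
      (fun x hx => by simp [(key j).2 x hx, (key i₀).2 x hx]) (by simp [(key j).1, (key i₀).1]))
  obtain ⟨ε, a, μ, b, c, d⟩ := exists_irr_family i₀ (fun i => indFun N (i.1.1 - i₀.1.1))
    (by simp [indFun_zero]) (fun i => (i.1.2.isGen.sub i₀.1.2.isGen).ind)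
    (fun i => by simp [indFun_one, (key i).1, (key i₀).1])
    (fun i h => by
      have h' : i.1 ≠ i₀.1 := fun e => h (Subtype.ext e)
      simp only [ip, CfsgH3.inner_sub_left, CfsgH3.inner_sub_right, inner_irr, h', h'.symm, if_true, if_false]
      norm_num)
    (fun i j h k l => by
      have h' : i.1 ≠ i₀.1 := fun e => h (Subtype.ext e)
      have k' : i₀.1 ≠ j.1 := fun e => k (Subtype.ext e.symm)
      have l' : i.1 ≠ j.1 := fun e => l (Subtype.ext e)
      simp only [ip, CfsgH3.inner_sub_left, CfsgH3.inner_sub_right, inner_irr, h', k', l', if_true, if_false]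
      norm_num)
  refine ⟨ε, fun i => ⟨μ i, b i⟩, a, fun i j e => c (congrArg Subtype.val e), fun i j => ?_⟩
  rw [← sub_sub_sub_cancel_right i.1.1 j.1.1 i₀.1.1, indFun_sub, d, d, ← smul_sub, sub_sub_sub_cancel_right]

end Cfsg.Agent.S0851
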