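import Cfsg.Statements.S0855
import Cfsg.Agent.H4.Ord2

set_option autoImplicit false
open Cfsg

namespace Cfsg.Agent.S0855

open CfsgH4 CfsgH3 CfsgH2 MonoidAlgebra

/-- For a finite group G and a prime p: every irreducible character of G has degree a power of p if and only if G has an abelian normal subgroup whose order is prime to p and whose index is a power of p. -/
theorem result {G : Type*} [Group G] [Finite G] (p : ℕ) (hp : p.Prime) : (∀ χ : Cfsg.IrrCharacter G, ∃ k : ℕ, (χ : G → ℂ) 1 = (p : ℂ) ^ k) ↔ ∃ A : Subgroup G, A.Normal ∧ (∀ a ∈ A, ∀ b ∈ A, a * b = b * a) ∧ Nat.Coprime (Nat.card A) p ∧ ∃ k : ℕ, A.index = p ^ k := by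
  constructor
  · intro h
    obtain ⟨K, hK, h1, h2⟩ := thompson_npc hp fun χ hχ d hd => by
      obtain ⟨k, hk⟩ := h ⟨χ, hχ⟩
      obtain rfl : d = p ^ k := by exact_mod_cast hd.symm.trans hk
      cases k with
      | zero => exact Or.inl rfl
      | succ k => exact Or.inr (dvd_pow_self _ (Nat.succ_ne_zero k))
    have hc := ((Nat.Prime.coprime_iff_not_dvd hp).mpr h1)
    refine ⟨K, hK, fun a ha b hb => congrArg Subtype.val (comm_of_irr_deg_one (G := K)
      (fun θ hθ => ?_) ⟨a, ha⟩ ⟨b, hb⟩), hc.symm, h2⟩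
    have := Fintype.ofFinite K
    obtain ⟨χ, a, b⟩ := hθ.exists_over
    obtain ⟨e, he, -⟩ := exists_deg_mul hθ a b
    obtain ⟨d, -, hd⟩ := hθ.exists_deg
    obtain ⟨k, hk⟩ := h ⟨χ, a⟩
    have h3 : p ^ k = e * d := by
      have : (p : ℂ) ^ k = e * d := by rw [← hd, ← he]; exact hk.symm
      exact_mod_cast this
    rw [hd, Nat.eq_one_of_dvd_coprimes (hc.pow_left k) (Dvd.intro_left e h3.symm) (hθ.deg_dvd_card hd),
      Nat.cast_one]
  · rintro ⟨A, hA, h1, -, k, hk⟩ χ
    have := deg_dvd_index_of_abelian χ.2 (deg_spec χ) h1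
    rw [hk, Nat.dvd_prime_pow hp] at this
    obtain ⟨j, -, hj⟩ := this
    exact ⟨j, by rw [deg_spec, hj, Nat.cast_pow]⟩

end Cfsg.Agent.S0855
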