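import Cfsg.Statements.S0856
import Cfsg.Agent.H4.Ext3

set_option autoImplicit false
open Cfsg

namespace Cfsg.Agent.S0856

open CfsgH4 CfsgH3

theorem aux {X M : Type*} [Fintype X] [AddCommMonoid M] (m : X → ℕ) (F : X → M)
    (hF : ∀ β, m β = 0 → F β = 0) : ∑ β, F β = ∑ i : {β // m β ≠ 0}, F i.1 := by
  rw [← Finset.sum_subtype (Finset.univ.filter fun β => m β ≠ 0) (by simp)]
  exact (Finset.sum_filter_of_ne (p := fun β => m β ≠ 0) fun β _ h h0 => h (hF β h0)).symm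

/-- Let N be a normal subgroup of the finite group G and φ, ϑ irreducible characters of N that are invariant under conjugation by G, such that the pointwise product φ * ϑ is irreducible and ϑ is the restriction of an irreducible character χ of G. Then multiplication by χ is a bijection from the set of irreducible characters of G having nonzero inner product with the function induced from φ onto the set of those having nonzero inner product with the function induced from φ * ϑ. -/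
theorem result {G : Type*} [Group G] [Fintype G] (N : Subgroup G) [hN : N.Normal] (φ ϑ : N → ℂ) (hφ : Cfsg.IsIrrCharacter N φ) (hϑ : Cfsg.IsIrrCharacter N ϑ) (hφinv : ∀ (g : G) (n : N), φ ⟨g * n * g⁻¹, hN.conj_mem (n : G) n.2 g⟩ = φ n) (hϑinv : ∀ (g : G) (n : N), ϑ ⟨g * n * g⁻¹, hN.conj_mem (n : G) n.2 g⟩ = ϑ n) (hprod : Cfsg.IsIrrCharacter N (φ * ϑ)) (χ : G → ℂ) (hχ : Cfsg.IsIrrCharacter G χ) (hext : ∀ n : N, χ n = ϑ n) : Set.BijOn (fun β : G → ℂ => β * χ) {β : G → ℂ | Cfsg.IsIrrCharacter G β ∧ Cfsg.classInner (Cfsg.indFun N φ) β ≠ 0} {ψ : G → ℂ | Cfsg.IsIrrCharacter G ψ ∧ Cfsg.classInner (Cfsg.indFun N (φ * ϑ)) ψ ≠ 0} := by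
  classical
  have := Fintype.ofFinite N
  obtain ⟨m, hm, hsum⟩ := hφ.isChar.ind.exists_coeff
  have e1 : indFun N (φ * ϑ) = indFun N φ * χ := by
    rw [← indFun_mul_res N φ hχ.classFun]; congr 1; ext n; simp [hext]
  have hn : ∀ {a : N → ℂ}, IsIrrCharacter N a → (∀ g : G, CfsgH3.cj g a = a) →
      classInner (indFun N a) (indFun N a) = N.index := fun {a} ha hi => by
    rw [ip_indFun_self ha, (Subgroup.eq_top_iff' (inertia a)).mpr hi, Subgroup.relIndex_top_right]
  have hφi : ∀ g : G, CfsgH3.cj g φ = φ := fun g => funext (hφinv g)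
  have hpi : ∀ g : G, CfsgH3.cj g (φ * ϑ) = φ * ϑ := fun g => by
    rw [cj_mul, hφi, show CfsgH3.cj g ϑ = ϑ from funext (hϑinv g)]
  let ι := {β : IrrCharacter G // m β ≠ 0}
  have hs := fun (F : IrrCharacter G → G → ℂ) => aux m F
  have hs' := fun (F : IrrCharacter G → ℂ) => aux m F
  have e2 : indFun N (φ * ϑ) = ∑ i : ι, (m i.1 : ℂ) • (i.1.1 * χ) := by
    rw [e1, hsum, Finset.sum_mul, hs _ fun β h => by simp [h]]
    exact Finset.sum_congr rfl fun i _ => smul_mul_assoc _ _ _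
  have e3 : (N.index : ℂ) = ∑ i : ι, (m i.1 : ℂ) ^ 2 := by
    rw [← hn hφ hφi, (indFun_classFun N φ).inner_eq_sum, hs' _ fun β h => by simp [hm, h]]
    refine Finset.sum_congr rfl fun i _ => ?_
    rw [i.1.2.isChar.inner_comm hφ.isChar.ind, hm, sq]
  obtain ⟨h1, h2⟩ := irr_of_norm_sum (fun i : ι => m i.1) (fun i => Nat.pos_of_ne_zero i.2)
    (fun i => i.1.1 * χ) (fun i => i.1.2.isChar.mul hχ.isChar)
    (fun i h => mul_ne_zero i.1.2.one_ne_zero hχ.one_ne_zero (congrFun h 1))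
    (by rw [← e2, hn hprod hpi, e3])
  have mk : ∀ β, IsIrrCharacter G β ∧ classInner (indFun N φ) β ≠ 0 → ∃ i : ι, i.1.1 = β :=
    fun β h => ⟨⟨⟨β, h.1⟩, fun h0 => h.2 ((hm ⟨β, h.1⟩).trans (by rw [h0, Nat.cast_zero]))⟩, rfl⟩
  refine ⟨fun β h => ?_, fun β h γ h' e => ?_, fun ψ h => ?_⟩
  · obtain ⟨i, rfl⟩ := mk β h
    refine ⟨h1 i, ?_⟩
    rw [e2, inner_sum_left, Finset.sum_eq_single i (fun j _ hj => by
      rw [CfsgH3.inner_smul_left, (h1 j).inner_of_ne (h1 i) (h2.ne hj), mul_zero]) (by simp),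
      CfsgH3.inner_smul_left, (h1 i).inner_self, mul_one]
    exact Nat.cast_ne_zero.mpr i.2
  · obtain ⟨i, rfl⟩ := mk β h
    obtain ⟨j, rfl⟩ := mk γ h'
    rw [h2 e]
  · have h3 := h.2
    rw [e2, inner_sum_left] at h3
    obtain ⟨i, -, hi⟩ := Finset.exists_ne_zero_of_sum_ne_zero h3
    exact ⟨i.1.1, ⟨i.1.2, by rw [hm]; exact Nat.cast_ne_zero.mpr i.2⟩,
      eq_of_smul_constituent (h1 i) h.1 hi⟩

end Cfsg.Agent.S0856
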