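import Cfsg.Statements.S0858
import Cfsg.Agent.H4.Ext3

set_option autoImplicit false
open Cfsg

namespace Cfsg.Agent.S0858

open CfsgH4 CfsgH3

universe u in
theorem aux (n : ℕ) : ∀ (G : Type u) [Group G] [Fintype G] (N : Subgroup G) [N.Normal], Nat.card G < n → Group.IsSolvable (G ⧸ N) → (∀ (H K L : Subgroup G), N ≤ L → L < K → K ≤ H → (∀ h ∈ H, ∀ k ∈ K, h * k * h⁻¹ ∈ K) → (∀ h ∈ H, ∀ l ∈ L, h * l * h⁻¹ ∈ L) → (∀ M : Subgroup G, L ≤ M → M ≤ K → (∀ h ∈ H, ∀ m ∈ M, h * m * h⁻¹ ∈ M) → M = L ∨ M = K) → ¬ IsSquare (L.relIndex K)) → ∀ (χ : G → ℂ), IsIrrCharacter G χ → ∃ (H : Subgroup G) (hNH : N ≤ H) (ψ : H → ℂ), IsIrrCharacter H ψ ∧ indFun H ψ = χ ∧ IsIrrCharacter N (fun n : N => ψ ⟨(n : G), hNH n.2⟩) := by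
  induction n with
  | zero => intro G _ _ N _ h; exact absurd h (Nat.not_lt_zero _)
  | succ n ih =>
  intro G _ _ N _ hn hsolv hchief χ hχ
  have htop : IsIrrCharacter (⊤ : Subgroup G) (fun x => χ x) := hχ.comp_equiv Subgroup.topEquiv
  by_cases h0 : IsIrrCharacter N (fun n : N => χ n)
  · exact ⟨⊤, le_top, fun x => χ x, htop, funext fun g => indFun_top _ htop.classFun g, h0⟩
  obtain ⟨K, ⟨hK, hNK, hKi⟩, hmin⟩ := (wellFounded_lt (α := Subgroup G)).has_min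
    {K | K.Normal ∧ N ≤ K ∧ IsIrrCharacter K (fun n : K => χ n)} ⟨⊤, inferInstance, le_top, htop⟩
  obtain ⟨L, hL, hNL, hLK, hc⟩ := exists_chief_below (lt_of_le_of_ne hNK (by rintro rfl; exact h0 hKi))
  have := solvable_quot_of_le hNL
  rcases going_down hLK.le hc (chief_abelian hLK hc) hKi (cj_res hχ.classFun) with h | ⟨φ, e, -, -, h⟩ | ⟨F, h1, h2, h3⟩
  · exact absurd hLK (hmin L ⟨hL, hNL, h⟩)
  · exact absurd ⟨e, by rw [← h, sq]⟩ (hchief ⊤ K L hNL hLK le_top (fun h _ k hk => hK.conj_mem k hk h)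
      (fun h _ k hk => hL.conj_mem k hk h) fun M a b c => hc M ⟨fun m hm g => c g trivial m hm⟩ a b)
  have := Fintype.ofFinite L
  have hcon : ∀ φ ∈ F, classInner (fun n : L => χ n) φ ≠ 0 := fun φ hφ => by
    change classInner (resLe hLK.le fun n : K => χ n) φ ≠ 0
    rw [h3, inner_sum_left, Finset.sum_eq_single_of_mem φ hφ fun ξ hξ hne =>
      (h1 ξ hξ).inner_of_ne (h1 φ hφ) hne, (h1 φ hφ).inner_self]
    exact one_ne_zero
  have h4 : 1 < F.card := by
    rw [h2]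
    exact Nat.one_lt_iff_ne_zero_and_ne_one.mpr ⟨Subgroup.index_ne_zero_of_finite,
      fun h => hLK.not_ge (Subgroup.relIndex_eq_one.mp h)⟩
  obtain ⟨φ, hφ, φ', hφ', hne⟩ := Finset.one_lt_card.mp h4
  obtain ⟨T, ψ, hT, hLT, hψ, rfl⟩ := exists_ind_of_not_invariant hχ (h1 φ hφ) (hcon φ hφ) fun hi => by
    obtain ⟨g, hg⟩ := exists_cj_of_constituents hχ (h1 φ hφ) (h1 φ' hφ') (hcon φ hφ) (hcon φ' hφ')
    exact hne (by rw [hg, hi])
  have := Fintype.ofFinite T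
  have hNT := hNL.trans hLT
  have inj := T.subtype_injective
  obtain ⟨H, hNH, η, a, rfl, b⟩ := ih T (N.subgroupOf T)
    (lt_of_lt_of_le (card_lt_of_ne_top' hT) (Nat.lt_succ_iff.mp hn))
    (solvable_quot_comap T.subtype N) (fun H K L c1 c2 c3 c4 c5 c6 => by
      rw [← Subgroup.relIndex_map_map_of_injective L K inj]
      refine hchief (H.map T.subtype) _ _ (fun x hx => ⟨⟨x, hNT hx⟩, c1 hx, rfl⟩)
        (lt_of_le_of_ne (Subgroup.map_mono c2.le) fun e => c2.ne (Subgroup.map_injective inj e))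
        (Subgroup.map_mono c3) ?_ ?_ fun M d1 d2 d3 => ?_
      · rintro _ ⟨h, hh, rfl⟩ _ ⟨k, hk, rfl⟩
        exact ⟨_, c4 h hh k hk, rfl⟩
      · rintro _ ⟨h, hh, rfl⟩ _ ⟨k, hk, rfl⟩
        exact ⟨_, c5 h hh k hk, rfl⟩
      · have e : (M.subgroupOf T).map T.subtype = M :=
          Subgroup.map_subgroupOf_eq_of_le (d2.trans (Subgroup.map_subtype_le K))
        rw [← e]
        refine (c6 (M.subgroupOf T) (fun x hx => d1 ⟨x, hx, rfl⟩) (fun x hx => ?_)
          fun h hh m hm => d3 h ⟨h, hh, rfl⟩ m hm).imp (congrArg _) (congrArg _)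
        obtain ⟨y, hy, e⟩ := d2 hx
        rwa [← Subtype.ext e]) ψ hψ
  obtain ⟨f, c1, -, c2, c3⟩ := exists_ind_map T H a.isChar
  have hle : N ≤ H.map T.subtype := fun x hx => ⟨⟨x, hNT hx⟩, hNH hx, rfl⟩
  have c4 : IsIrrCharacter N (fun n : N => f ⟨n, hle n.2⟩) := by
    have := b.comp_equiv (Subgroup.subgroupOfEquivOfLe hNT).symm
    convert this using 2 with n
    exact c2 ⟨⟨n, hNT n.2⟩, hNH n.2⟩
  exact ⟨_, hle, f, c1.irr_of_res_irr (Subgroup.inclusion hle) c4, c3.symm, c4⟩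

/-- Let N be a normal subgroup of the finite group G with G / N solvable, and suppose that for every subgroup H containing N and all subgroups L < K between N and H that are normal in H with no subgroup normal in H strictly between them, the index of L in K is not a perfect square. Then every irreducible character χ of G is induced from an irreducible character ψ of some subgroup H containing N such that the restriction of ψ to N is irreducible. -/
theorem result {G : Type*} [Group G] [Fintype G] (N : Subgroup G) [N.Normal] (hsolv : Group.IsSolvable (G ⧸ N)) (hchief : ∀ (H K L : Subgroup G), N ≤ L → L < K → K ≤ H → (∀ h ∈ H, ∀ k ∈ K, h * k * h⁻¹ ∈ K) → (∀ h ∈ H, ∀ l ∈ L, h * l * h⁻¹ ∈ L) → (∀ M : Subgroup G, L ≤ M → M ≤ K → (∀ h ∈ H, ∀ m ∈ M, h * m * h⁻¹ ∈ M) → M = L ∨ M = K) → ¬ IsSquare (L.relIndex K)) (χ : G → ℂ) (hχ : Cfsg.IsIrrCharacter G χ) : ∃ (H : Subgroup G) (hNH : N ≤ H) (ψ : H → ℂ), Cfsg.IsIrrCharacter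 H ψ ∧ Cfsg.indFun H ψ = χ ∧ Cfsg.IsIrrCharacter N (fun n : N => ψ ⟨(n : G), hNH n.2⟩) := by
  exact aux _ G N (Nat.lt_succ_self _) hsolv hchief χ hχ

end Cfsg.Agent.S0858
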