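import Cfsg.Statements.S0859
import Cfsg.Agent.H4.Ord2

set_option autoImplicit false
open Cfsg

namespace Cfsg.Agent.S0859

open CfsgH4 CfsgH3 CfsgH2 MonoidAlgebra

universe u in
theorem aux (n : ℕ) : ∀ (G : Type u) [Group G] [Fintype G] [Group.IsSolvable G] (N : Subgroup G) [N.Normal], Nat.card G < n → (∀ (p : ℕ), p.Prime → ∀ Q : Subgroup G, IsPGroup p Q → Q ≤ N → ∀ a ∈ Q, ∀ b ∈ Q, a * b = b * a) → ∀ (χ : G → ℂ), IsIrrCharacter G χ → IsIrrCharacter N (fun n : N => χ n) → IsMonomial χ := by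
  induction n with
  | zero => intro G _ _ _ N _ h; exact absurd h (Nat.not_lt_zero _)
  | succ n ih =>
  intro G _ _ _ N hN hn hab χ hχ hχN
  by_cases h1 : χ 1 = 1
  · exact isMonomial_of_deg_one hχ.isChar h1
  let K := hχ.isChar.ker
  let π := QuotientGroup.mk' K
  have hπ := QuotientGroup.mk'_surjective K
  have hk : ∀ x, π x = 1 ↔ χ x = χ 1 := fun x => QuotientGroup.eq_one_iff x
  have hNZ : ¬ N.map π ≤ Subgroup.center _ := fun h => h1 (hχN.deg_one_of_commutator fun c hc => by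
    refine (hk c).mp ?_
    have : commutator N ≤ (π.comp N.subtype).ker := by
      rw [_root_.commutator_def, Subgroup.commutator_le]
      intro a _ b _
      rw [MonoidHom.mem_ker, map_commutatorElement, commutatorElement_eq_one_iff_mul_comm]
      exact Subgroup.mem_center_iff.mp (h ⟨b, b.2, rfl⟩) _
    exact this hc)
  obtain ⟨B, ⟨hB, hBN, hBZ⟩, hmin⟩ := (wellFounded_lt (α := Subgroup (G ⧸ K))).has_min
    {B | B.Normal ∧ B ≤ N.map π ∧ ¬ B ≤ Subgroup.center _} ⟨_, hN.map π hπ, le_rfl, hNZ⟩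
  have hB1 : ⁅B, B⁆ ≤ Subgroup.center _ := by
    by_contra h
    exact hmin ⁅B, B⁆ ⟨inferInstance, (Subgroup.commutator_le_left _ _).trans hBN, h⟩
      (Group.IsSolvable.commutator_lt_of_ne_bot (by rintro rfl; exact hBZ bot_le))
  have hnil : Group.IsNilpotent B := Subgroup.isNilpotent_of_ker_le_center Abelianization.of (by
    rw [Abelianization.ker_of]
    intro x hx
    rw [Subgroup.mem_center_iff]
    intro y
    have : (x : G ⧸ K) ∈ ⁅B, B⁆ := by
      rw [← Subgroup.map_subtype_commutator]; exact ⟨x, hx, rfl⟩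
    exact Subtype.ext (Subgroup.mem_center_iff.mp (hB1 this) y))
  have hBab := comm_of_nilpotent_of_sylow (G := B) fun p hp P a ha b hb => by
    let Q : Subgroup G := N ⊓ ((P : Subgroup B).map B.subtype).comap π
    let r : Q →* ((P : Subgroup B).map B.subtype) := (π.comp Q.subtype).codRestrict _ fun x => x.2.2
    have hr : Function.Surjective r := by
      rintro ⟨_, y, hy, rfl⟩
      obtain ⟨x, hx, e⟩ := hBN y.2
      exact ⟨⟨x, hx, y, hy, e.symm⟩, Subtype.ext e⟩
    obtain ⟨S⟩ := (inferInstance : Nonempty (Sylow p Q))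
    have hS : (S : Subgroup Q).map r = ⊤ :=
      ((S.mapSurjective hr).is_maximal' ((P.isPGroup'.map B.subtype).to_subgroup ⊤) le_top).symm
    obtain ⟨x, hx, ex⟩ := hS.ge (Subgroup.mem_top ⟨a, a, ha, rfl⟩)
    obtain ⟨y, hy, ey⟩ := hS.ge (Subgroup.mem_top ⟨b, b, hb, rfl⟩)
    have := hab p hp.out _ (S.isPGroup'.map Q.subtype) (by rintro _ ⟨z, -, rfl⟩; exact z.2.1)
      x ⟨x, hx, rfl⟩ y ⟨y, hy, rfl⟩
    have e1 : π x = a := congrArg Subtype.val ex
    have e2 : π y = b := congrArg Subtype.val ey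
    refine Subtype.ext ?_
    rw [Subgroup.coe_mul, Subgroup.coe_mul, ← e1, ← e2, ← map_mul, this, map_mul]
  obtain ⟨T, ψ, hT, -, hψ, rfl⟩ := exists_ind_of_abelian_noncentral hχ (B.comap π) (fun a ha b hb => by
    rw [← hk, map_mul, map_mul, map_mul, map_inv, map_inv]
    have : π a * π b = π b * π a := congrArg Subtype.val (hBab ⟨_, ha⟩ ⟨_, hb⟩)
    rw [this]; group) (by
    obtain ⟨a, ha, haZ⟩ := SetLike.not_le_iff_exists.mp hBZ
    obtain ⟨a, rfl⟩ := hπ a
    rw [Subgroup.mem_center_iff] at haZ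
    push Not at haZ
    obtain ⟨g, hg⟩ := haZ
    obtain ⟨g, rfl⟩ := hπ g
    refine ⟨a, ha, g, fun h => hg ?_⟩
    rw [← hk, map_mul, map_mul, map_mul, map_inv, map_inv, mul_inv_eq_one, mul_inv_eq_iff_eq_mul] at h
    exact h.symm)
  have := Fintype.ofFinite T
  refine IsMonomial.ind (ih T (N.subgroupOf T)
    (lt_of_lt_of_le (card_lt_of_ne_top' hT) (Nat.lt_succ_iff.mp hn)) (fun p hp Q h1 h2 a ha b hb => ?_)
    ψ hψ (irr_res_of_ind hψ hχN))
  exact Subtype.ext (hab p hp _ (h1.map T.subtype) (by rintro _ ⟨z, hz, rfl⟩; exact h2 hz)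
    a ⟨a, ha, rfl⟩ b ⟨b, hb, rfl⟩)

/-- Let G be a finite solvable group and N a normal subgroup such that for every prime p every Sylow p-subgroup of N is abelian. Suppose every irreducible character of G is induced from an irreducible character of some subgroup containing N whose restriction to N is irreducible. Then every irreducible character of G is induced from a character of degree 1 of some subgroup. -/
theorem result {G : Type*} [Group G] [Fintype G] [Group.IsSolvable G] (N : Subgroup G) [N.Normal] (hab : ∀ (p : ℕ) [Fact p.Prime] (P : Sylow p N), ∀ a ∈ P, ∀ b ∈ P, a * b = b * a) (hrel : ∀ χ : G → ℂ, Cfsg.IsIrrCharacter G χ → ∃ (H : Subgroup G) (hNH : N ≤ H) (ψ : H → ℂ), Cfsg.IsIrrCharacter H ψ ∧ Cfsg.indFun H ψ = χ ∧ Cfsg.IsIrrCharacter N (fun n : N => ψ ⟨(n : G), hNH n.2⟩)) (χ : G → ℂ) (hχ : Cfsg.IsIrrCharacter G χ) : ∃ (U : Subgroup G) (lam : U → ℂ), Cfsg.IsCharacter U lam ∧ lam 1 = 1 ∧ Cfsg.indFun U lam = χ := by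
  obtain ⟨H, hNH, ψ, h1, rfl, h2⟩ := hrel χ hχ
  have := Fintype.ofFinite H
  obtain ⟨U, lam, e⟩ := IsMonomial.ind (aux _ H (N.subgroupOf H) (Nat.lt_succ_self _)
    (fun p hp Q h1 h2 a ha b hb => by
      have := Fact.mk hp
      obtain ⟨S, hS⟩ := ((h1.map H.subtype).comap_of_injective N.subtype N.subtype_injective).exists_le_sylow
      have := congrArg Subtype.val (hab p S ⟨a, h2 ha⟩ (hS ⟨a, ha, rfl⟩) ⟨b, h2 hb⟩ (hS ⟨b, hb, rfl⟩))
      exact Subtype.ext this)
    ψ h1 ((isIrr_resLe_iff hNH ψ).mp h2))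
  exact ⟨U, _, (isIrr_unitsHom lam).isChar, by simp, e.symm⟩

end Cfsg.Agent.S0859
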