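import Cfsg.Statements.S0861
import Cfsg.Agent.H4.Ord2

set_option autoImplicit false
open Cfsg

namespace Cfsg.Agent.S0861

open CfsgH4 CfsgH3 CfsgH2 MonoidAlgebra

/-- Let P be a normal abelian Sylow p-subgroup of the finite group G and suppose some element g of P has centralizer exactly P. Then the number of irreducible characters of G is at most the order of P, and if equality holds then G / P is abelian (the commutator subgroup lies in P). -/
theorem result {G : Type*} [Group G] [Finite G] (p : ℕ) [Fact p.Prime] (P : Sylow p G) [(P : Subgroup G).Normal] (hab : ∀ a ∈ P, ∀ b ∈ P, a * b = b * a) (g : G) (hg : g ∈ P) (hC : Subgroup.centralizer ({g} : Set G) = P) : Nat.card (Cfsg.IrrCharacter G) ≤ Nat.card P ∧ (Nat.card (Cfsg.IrrCharacter G) = Nat.card P → commutator G ≤ P) := by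
  have hp : p.Prime := Fact.out
  have h0 : ∀ χ : IrrCharacter G, χ.1 g ≠ 0 := fun χ h => by
    obtain ⟨k, hk⟩ := P.isPGroup' ⟨g, hg⟩
    obtain ⟨γ, h1, h2⟩ := char_pow_prime_pow hp χ.2.isChar g (k + 1)
    have : g ^ p ^ (k + 1) = 1 := by
      rw [pow_succ, pow_mul, show g ^ p ^ k = 1 from congrArg Subtype.val hk, one_pow]
    rw [h, zero_pow (pow_ne_zero _ hp.ne_zero), this, deg_spec] at h2
    refine P.not_dvd_index ((nat_dvd_of_isIntegral_div hp.ne_zero ?_).trans
      (deg_dvd_index_of_abelian χ.2 (deg_spec χ) hab))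
    have : (deg χ : ℂ) / p = -γ := by
      rw [div_eq_iff (Nat.cast_ne_zero.mpr hp.ne_zero)]; linear_combination -h2
    rw [this]; exact h1.neg
  have h1 := one_le_prod_normSq Finset.univ (fun χ : IrrCharacter G => χ.1 g)
    (fun χ _ => χ.2.isChar.isIntegral g) (fun χ _ => h0 χ) fun σ => by
      rw [map_prod]
      refine Fintype.prod_bijective _ (galIrr_bijective σ.toRingHom) _ _ fun χ => ?_
      rw [galIrr_conj, map_mul]; rfl
  obtain ⟨h2, h3⟩ := amgm _ _ (fun χ _ => sq_nonneg _) h1
  rw [sum_irr_normSq, hC, Finset.card_univ, ← Nat.card_eq_fintype_card] at h2 h3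
  refine ⟨by exact_mod_cast h2, fun h x hx => ?_⟩
  rw [← QuotientGroup.eq_one_iff]
  refine eq_one_of_forall_irr fun β hβ => ?_
  have h4 := h3 (by rw [h]) ⟨_, hβ.inflate⟩ (Finset.mem_univ _)
  obtain ⟨d, -, hd⟩ := hβ.exists_deg
  simp only [(QuotientGroup.eq_one_iff g).mpr hg, hd, Complex.norm_natCast] at h4
  have h5 : d = 1 := by
    have : d ^ 2 = 1 := by exact_mod_cast h4
    simpa using this
  exact apply_commutator_of_deg_one hβ.inflate.isChar (by simp [hd, h5]) hx

end Cfsg.Agent.S0861
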