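import Cfsg.Statements.S0868
import Cfsg.Agent.H4.Ext3

set_option autoImplicit false
open scoped ComplexConjugate
open Cfsg

namespace Cfsg.Agent.S0868

open CfsgH4 CfsgH3

/-- Let N be a normal subgroup of the finite group G, χ an irreducible character of G whose restriction ϑ to N is irreducible, and ψ an irreducible character of G. Define η on G by η g = (1 / order of N) * Σ over n in N of ψ (n * g) * conj (χ (n * g)). Then: if the restriction of ψ to N has nonzero inner product with ϑ, η is an irreducible character of G; if that inner product is zero, η vanishes identically; and if ψ = χ then η is identically 1. -/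
theorem result {G : Type*} [Group G] [Fintype G] (N : Subgroup G) [N.Normal] [Fintype N] (χ : G → ℂ) (hχ : Cfsg.IsIrrCharacter G χ) (hχN : Cfsg.IsIrrCharacter N (fun n : N => χ n)) (ψ : G → ℂ) (hψ : Cfsg.IsIrrCharacter G ψ) (η : G → ℂ) (hη : η = fun g => (Nat.card N : ℂ)⁻¹ * ∑ n : N, ψ ((n : G) * g) * conj (χ ((n : G) * g))) : (Cfsg.classInner (fun n : N => ψ n) (fun n : N => χ n) ≠ 0 → Cfsg.IsIrrCharacter G η) ∧ (Cfsg.classInner (fun n : N => ψ n) (fun n : N => χ n) = 0 → η = 0) ∧ (ψ = χ → η = fun _ => 1) := by
  have e : η = navg N (ψ * fun g => conj (χ g)) := hη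
  have key : ∀ β : G ⧸ N → ℂ, navg N (((fun g : G => β g) * χ) * fun g => conj (χ g)) =
      fun g : G => β g := fun β => by
    rw [mul_assoc, navg_mul_left, navg_mul_conj hχ.isChar hχN]
    · ext; simp
    · intro n hn g
      rw [QuotientGroup.mk_mul, (QuotientGroup.eq_one_iff n).mpr hn, one_mul]
  refine ⟨fun h => ?_, fun h => ?_, ?_⟩
  · obtain ⟨β, h1, rfl⟩ := gallagher_surj hχ.isChar hχN hψ h
    rw [e, key]
    exact h1.inflate
  · rw [e]
    refine (isChar_navg (hψ.isChar.mul hχ.isChar.conj_char)).eq_zero_of_deg ?_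
    rw [navg_one, ← h]
    unfold classInner
    simp
  · rintro rfl
    rw [e, navg_mul_conj hχ.isChar hχN]

end Cfsg.Agent.S0868
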