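import Cfsg.Statements.S0875
import Cfsg.Agent.H4.Misc4

set_option autoImplicit false
open Cfsg

namespace Cfsg.Agent.S0875

open CfsgH4 CfsgH3 MonoidAlgebra

/-- Let G be a finite group of order m * n with m and n coprime, and g an element whose order is coprime to m. Every x in G factors uniquely as x = u * v with u, v commuting, the order of u coprime to n and the order of v coprime to m; let ϑ be the function on G equal to n at those x whose factor v is conjugate to g and equal to 0 elsewhere. Then ϑ is a linear combination of the irreducible characters of G with algebraic-integer coefficients. -/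
theorem result {G : Type*} [Group G] [Fintype G] (m n : ℕ) (hmn : Nat.card G = m * n) (hcop : Nat.Coprime m n) (g : G) (hg : Nat.Coprime (orderOf g) m) (ϑ : G → ℂ) (hϑ1 : ∀ x : G, (∃ v : G, IsConj v g ∧ (∃ u : G, x = u * v ∧ Commute u v ∧ Nat.Coprime (orderOf u) n ∧ Nat.Coprime (orderOf v) m)) → ϑ x = n) (hϑ0 : ∀ x : G, (¬ ∃ v : G, IsConj v g ∧ (∃ u : G, x = u * v ∧ Commute u v ∧ Nat.Coprime (orderOf u) n ∧ Nat.Coprime (orderOf v) m)) → ϑ x = 0) : ∃ c : Cfsg.IrrCharacter G → ℂ, (∀ χ, c χ ∈ Cfsg.AlgInt) ∧ ϑ = ∑ᶠ χ : Cfsg.IrrCharacter G, c χ • (χ : G → ℂ) := by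
  classical
  obtain ⟨t, h0, h1⟩ := exists_hall_exp hcop
  have e : ϑ = fun x => if IsConj (x ^ t) g then (n : ℂ) else 0 := by
    ext x
    split_ifs with h
    · exact hϑ1 x ⟨x ^ t, h, exists_decomp hmn hcop h0 h1 x⟩
    · refine hϑ0 x ?_
      rintro ⟨v, hv, u, rfl, hc, hu, hv'⟩
      rw [pow_of_decomp hmn h0 h1 hc hu hv'] at h
      exact h hv
  have hcl : IsClassFunction G ϑ := by
    intro a b
    simp only [e, conj_pow]
    congr 1
    apply propext
    exact ⟨fun h => (isConj_iff.2 ⟨b, rfl⟩).trans h, fun h => (isConj_iff.2 ⟨b, rfl⟩).symm.trans h⟩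
  refine ⟨fun χ => classInner ϑ χ, fun χ => ?_, ?_⟩
  · rw [e]
    exact hall_ind_integral hmn hcop h0 h1 g χ.2
  · rw [finsum_irr]
    exact hcl.eq_sum

end Cfsg.Agent.S0875
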