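import Cfsg.Statements.S0876
import Cfsg.Agent.H4.Rob

set_option autoImplicit false
open Cfsg

namespace Cfsg.Agent.S0876

open CfsgH4 CfsgH3 CfsgH2 MonoidAlgebra

/-- Let G be a finite group, p a prime and M a maximal ideal of the ring of algebraic integers containing p. Let x, y be elements with p-parts a and b (so a⁻¹ * x and b⁻¹ * y are their p-regular parts). Then a⁻¹ * x and b⁻¹ * y are conjugate in G if and only if, for every irreducible character χ, the difference χ x - χ y lies in the local ideal at M. -/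
theorem result {G : Type*} [Group G] [Finite G] (p : ℕ) (M : Ideal Cfsg.AlgInt) (hM : Cfsg.IsPModular p M) (x y a b : G) (ha : Cfsg.IsPPart p x a) (hb : Cfsg.IsPPart p y b) : IsConj (a⁻¹ * x) (b⁻¹ * y) ↔ ∀ χ : Cfsg.IrrCharacter G, Cfsg.MemLocalIdeal M ((χ : G → ℂ) x - (χ : G → ℂ) y) := by
  have := hM.2.1
  have := charP_of_isPModular hM
  have : Fact p.Prime := ⟨hM.1⟩
  obtain ⟨x', rfl, h1, h2, h3⟩ := ha
  obtain ⟨y', rfl, h4, h5, h6⟩ := hb
  simp only [inv_mul_cancel_left]
  have key : ∀ χ : IrrCharacter G, MemLocalIdeal M (χ.1 (a * x') - χ.1 (b * y')) ↔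
      red M (χ.1 x') = red M (χ.1 y') := fun χ => by
    rw [memLocalIdeal_sub_iff (irr_mem_Loc χ _) (irr_mem_Loc χ _), red_apply_mul χ.2.isChar h1 h2,
      red_apply_mul χ.2.isChar h4 h5]
  refine ⟨fun h χ => (key χ).2 (by rw [χ.2.classFun.of_isConj h]), fun h => ?_⟩
  exact isConj_of_red_eq h3 h6 fun χ => (key χ).1 (h χ)

end Cfsg.Agent.S0876
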