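import Cfsg.Statements.S0880
import Mathlib
import Cfsg.Agent.H8.Zass7

set_option autoImplicit false
open Cfsg

namespace Cfsg.Agent.S0880

open CfsgH3 CfsgH8 MulAction in

/-- Let G be a finite simple Zassenhaus group on Ω with n points whose two-point stabilizer E has odd order less than n - 2. Then there are two elements of G, each fixing no point of Ω, that are not conjugate. -/
theorem result {G Ω : Type*} [Group G] [Finite G] [MulAction G Ω] [Fintype Ω] (hZ : Cfsg.IsZassenhausGroup G Ω) {a b : Ω} (hab : a ≠ b) [IsSimpleGroup G] (hodd : Odd (Nat.card ↥(MulAction.stabilizer G a ⊓ MulAction.stabilizer G b : Subgroup G))) (hlt : Nat.card ↥(MulAction.stabilizer G a ⊓ MulAction.stabilizer G b : Subgroup G) < Fintype.card Ω - 2) : ∃ x y : G, (∀ c : Ω, x • c ≠ c) ∧ (∀ c : Ω, y • c ≠ c) ∧ ¬ IsConj x y := by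
  classical
  have := Fintype.ofFinite G
  have O := CfsgH8.ZO.of_simple hZ hab hodd
  obtain ⟨F, K, -⟩ := O.exists_KD a
  have C := O.zc K hab.symm
  have := K.normal
  have := O.pre
  have h2 := K.two_le O.toZ3
  have hΩ := K.card hab.symm
  have he := O.one_lt hab.symm
  have hG := C.cardG
  obtain ⟨k, hk⟩ := C.odd
  generalize Nat.card F = h at *
  generalize Nat.card (St2 G a b) = e at *
  have p1 := ip_indFun_one_one (stabilizer G a)
  have p2 := C.ip_pi
  rw [← permChar_eq_indFun] at p1 p2
  have p3 : classInner (fun _ => 1 : G → ℂ) (permChar Ω) = 1 := by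
    rw [← CfsgH3.inner_conj_symm, p1, map_one]
  have p4 : classInner (permChar Ω - fun _ : G => 1) (permChar Ω - (2 : ℂ) • fun _ => 1) = 1 := by
    simp only [CfsgH3.inner_sub_left, CfsgH3.inner_sub_right, CfsgH3.inner_smul_right, p1, p2, p3,
      isIrr_one.inner_self, map_ofNat]
    norm_num
  set Y := Finset.univ.filter (fun g : G => ∀ c : Ω, g • c ≠ c) with hY
  have p5 : ∀ g : G, ((permChar Ω - fun _ : G => 1 : G → ℂ)) g *
      starRingEnd ℂ ((permChar Ω - (2 : ℂ) • fun _ : G => 1 : G → ℂ) g) =
      (if g = 1 then (h * (h - 1) : ℂ) else 0) + if g ∈ Y then 2 else 0 := fun g => by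
    simp only [Pi.sub_apply, Pi.smul_apply, permChar, smul_eq_mul, map_sub, map_natCast, mul_one, map_ofNat,
      hY, Finset.mem_filter, Finset.mem_univ, true_and]
    by_cases h1 : g = 1
    · subst h1
      rw [if_pos rfl, if_neg (fun h => h a (one_smul _ _)), fixedBy_one_eq_univ, Nat.card_univ, ← hΩ]
      push_cast; ring
    rw [if_neg h1]
    split_ifs with h3
    · rw [show fixedBy Ω g = ∅ from Set.eq_empty_of_forall_notMem h3]; simp
    · push Not at h3
      obtain ⟨c, hc⟩ := h3
      by_cases h4 : ∃ d, d ≠ c ∧ g • d = d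
      · obtain ⟨d, d1, d2⟩ := h4
        rw [show fixedBy Ω g = {c, d} from Set.ext fun y => ⟨fun hy => O.fix_iff d1.symm ⟨hc, d2⟩ h1 hy,
          by rintro (rfl | rfl) <;> assumption⟩, Nat.card_coe_set_eq, Set.ncard_pair d1.symm]
        simp
      · push Not at h4
        rw [show fixedBy Ω g = {c} from Set.ext fun y => ⟨fun hy => by_contra fun h => h4 y h hy,
          by rintro rfl; assumption⟩]
        simp
  rw [classInner, Finset.sum_congr rfl (fun g _ => p5 g), Finset.sum_add_distrib, Finset.sum_ite_eq',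
    Finset.sum_ite_mem, Finset.univ_inter, Finset.sum_const, if_pos (Finset.mem_univ _),
    inv_mul_eq_one₀ (card_ne_zero_complex G), nsmul_eq_mul] at p4
  have p6 : Nat.card G + h = h * h + Y.card * 2 := by
    have : (Nat.card G + h : ℂ) = h * h + Y.card * 2 := by rw [p4]; ring
    exact_mod_cast this
  by_contra hn
  push Not at hn
  obtain ⟨y, hy⟩ : Y.Nonempty := by
    rw [← Finset.card_pos]
    by_contra h0
    have : Y.card = 0 := by omega
    rw [this, hG] at p6
    nlinarith [Nat.mul_le_mul_left (h * (h + 1)) he.le]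
  have hy' := (Finset.mem_filter.mp hy).2
  have c1 : Y.card = (Subgroup.centralizer ({y} : Set G)).index := by
    rw [← card_isConj_eq_index, Nat.card_eq_fintype_card, Fintype.card_subtype]
    refine congrArg _ (Finset.filter_congr fun x _ => ⟨fun hx => hn y x hy' hx, fun hx c hc => ?_⟩)
    obtain ⟨g, rfl⟩ := isConj_iff.mp hx
    exact hy' _ (fix_conj.mp hc)
  obtain ⟨m, hm⟩ := card_dvd_of_semireg (Ω := Ω) (Subgroup.centralizer ({y} : Set G)) fun x hx c hc =>
    O.fpf_cent hy' (Subgroup.mem_centralizer_singleton_iff.mp hx).symm hc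
  have c2 := (Subgroup.centralizer ({y} : Set G)).index_mul_card
  have c0 : 0 < Nat.card (Subgroup.centralizer ({y} : Set G)) := Nat.card_pos
  rw [← c1] at c2
  generalize Nat.card (Subgroup.centralizer ({y} : Set G)) = c at *
  generalize Y.card = n at *
  rw [← hΩ] at hm
  have c3 : n = h * e * m := Nat.eq_of_mul_eq_mul_right c0 (by rw [c2, hG, hm]; ring)
  have c4 : e * (h + 1) + 1 = h + e * m * 2 :=
    Nat.eq_of_mul_eq_mul_left (by omega : 0 < h) (by rw [hG, c3] at p6; linarith)
  have c5 : m * (c * k) + 1 = m * e := by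
    have : e * (h + 1) + 2 = (h + 1) + e * m * 2 := by omega
    rw [hm, hk] at this
    rw [hk]; linarith
  have c6 : m = 1 := Nat.eq_one_of_dvd_one ((Nat.dvd_add_right (dvd_mul_right _ _)).mp (c5 ▸ dvd_mul_right _ _))
  subst c6
  have : 3 ≤ c := by omega
  have : 1 ≤ k := by omega
  nlinarith

end Cfsg.Agent.S0880
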