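import Cfsg.Statements.S0892
import Cfsg.Agent.H2.Carm3
import Cfsg.Agent.H2.PGroup2

set_option autoImplicit false
open Cfsg

namespace Cfsg.Agent.S0892
open Subgroup CfsgH2
open scoped commutatorElement

/-- Let n ≥ 4 with n ≠ 6 and n ≠ 7, and let Γ be a finite group with a subgroup Z contained in both the centre and the commutator subgroup of Γ such that Γ / Z is isomorphic to the alternating group on n letters. Then Z has order at most 2. -/
theorem result (n : ℕ) (hn : 4 ≤ n) (h6 : n ≠ 6) (h7 : n ≠ 7) {Γ : Type*} [Group Γ] [Finite Γ] (Z : Subgroup Γ) [Z.Normal] (hZc : Z ≤ Subgroup.center Γ) (hZd : Z ≤ commutator Γ) (e : Γ ⧸ Z ≃* alternatingGroup (Fin n)) : Nat.card Z ≤ 2 := by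
  obtain ⟨m, rfl⟩ : ∃ m, n = m + 2 := ⟨n - 2, by omega⟩
  obtain ⟨f, h, rfl⟩ := CE.of_quot Z hZc e
  refine h.card_ker_le_two hZd ?_
  haveI : Fact (Nat.Prime 2) := ⟨Nat.prime_two⟩
  haveI : Fact (Nat.Prime 3) := ⟨Nat.prime_three⟩
  by_cases hm : 6 ≤ m
  · obtain ⟨S, hS⟩ := IsSylowIn.exists_sylowIn 2 f.ker
    haveI : S.Normal := ⟨fun w hw g => by
      rw [← (h.cen w (hS.le hw) g).eq, mul_inv_cancel_right]; exact hw⟩
    let f' := QuotientGroup.lift S f hS.le
    have hk : f'.ker = f.ker.map (QuotientGroup.mk' S) := QuotientGroup.ker_lift _ _ _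
    have h' : CE f' := by
      refine ⟨fun g hg x => ?_, ?_⟩
      · obtain ⟨g, rfl⟩ := QuotientGroup.mk'_surjective S g
        obtain ⟨x, rfl⟩ := QuotientGroup.mk'_surjective S x
        exact (h.cen g hg x).map _
      · rw [← h.rng]
        ext σ
        constructor
        · rintro ⟨g, rfl⟩
          obtain ⟨g, rfl⟩ := QuotientGroup.mk'_surjective S g
          exact ⟨g, rfl⟩
        · rintro ⟨g, rfl⟩
          exact ⟨QuotientGroup.mk' S g, rfl⟩
    have hc : Nat.card f'.ker = S.relIndex f.ker := by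
      rw [hk, ← relIndex_ker, QuotientGroup.ker_mk']
    have h1 := h'.card_ker_le_one hm (by
      rw [hk, _root_.commutator, ← map_top_of_surjective _ (QuotientGroup.mk'_surjective S),
        ← Subgroup.map_commutator]
      exact map_mono hZd) (by
      rw [hc]; exact Nat.odd_iff.2 (Nat.two_dvd_ne_zero.1 hS.not_dvd))
    have h2 : S.relIndex f.ker = 1 := by
      have := relIndex_ne_zero S f.ker
      omega
    obtain ⟨k, hk⟩ := IsPGroup.iff_card.1 (hS.pgroup.to_le (relIndex_eq_one.1 h2))
    rw [hk]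
    exact Nat.Coprime.pow_right _ (by norm_num)
  · rw [Nat.Prime.coprime_iff_not_dvd Nat.prime_three]
    intro h3
    obtain ⟨w, hw⟩ := exists_prime_orderOf_dvd_card' 3 h3
    obtain ⟨P, hP, hwP⟩ := IsSylowIn.exists_le (p := 3) (H := ⊤)
      (isPGroup_zpowers_of_orderOf (x := (w : Γ)) (k := 1) (by rw [Subgroup.orderOf_coe, hw, pow_one])) le_top
    have hc : IsCyclic (P.map f) := by
      refine isCyclic_of_card_le_prime (hP.pgroup.map f) ?_
      obtain ⟨k, hk⟩ := IsPGroup.iff_card.1 (hP.pgroup.map f)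
      have h1 := card_subgroup_dvd_card (P.map f)
      rw [hk, Nat.card_eq_fintype_card, Fintype.card_perm, Fintype.card_fin] at h1
      rw [hk]
      rcases k with _ | _ | k
      · norm_num
      · norm_num
      · have h2 : 9 ∣ (m + 2).factorial := Dvd.dvd.trans ⟨3 ^ k, by ring⟩ h1
        have : m = 2 ∨ m = 3 := by omega
        rcases this with rfl | rfl <;> exact absurd h2 (by decide)
    have hcm : IsMulCommutative P := (f.subgroupMap P).isMulCommutative_of_isCyclic_of_ker_le_center
      fun g hg => mem_center_iff.2 fun x => Subtype.ext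
        (h.cen g (congrArg Subtype.val hg) x).symm
    have h4 := inf_commutator_inf_center hcm (by simpa using hP.coprime_relIndex)
    have h5 : (w : Γ) = 1 := mem_bot.1 (h4.le ⟨⟨hwP (mem_zpowers _), hZd w.2⟩, hZc w.2⟩)
    have : w = 1 := Subtype.ext h5
    rw [this, orderOf_one] at hw
    omega


end Cfsg.Agent.S0892
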