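import Cfsg.Statements.S0893
import Cfsg.Agent.H4.Ord4

set_option autoImplicit false
open Cfsg

namespace Cfsg.Agent.S0893

open CfsgH4 CfsgH3

/-- Let P be an extraspecial p-group of order p ^ (2 * n + 1), A an abelian subgroup of order p ^ (n + 1), and λ a character of A of degree 1 that is not identically 1 on the elements of A lying in the centre of P. Then the function induced from λ to P is an irreducible character of P and vanishes at every element outside the centre. -/
theorem result {P : Type*} [Group P] [Fintype P] (p n : ℕ) [Fact p.Prime] (hP : Cfsg.IsExtraspecial p P) (hcard : Nat.card P = p ^ (2 * n + 1)) (A : Subgroup P) (hab : ∀ a ∈ A, ∀ b ∈ A, a * b = b * a) (hA : Nat.card A = p ^ (n + 1)) (lam : A → ℂ) (hlam : Cfsg.IsCharacter A lam ∧ lam 1 = 1) (hZ : ∃ a : A, (a : P) ∈ Subgroup.center P ∧ lam a ≠ 1) : Cfsg.IsIrrCharacter P (Cfsg.indFun A lam) ∧ ∀ x : P, x ∉ Subgroup.center P → Cfsg.indFun A lam x = 0 := by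
  have hp : p.Prime := Fact.out
  have := Fintype.ofFinite A
  have hθ := hlam.1.ind (G := P)
  have hA' : A.index = p ^ n := by
    have := A.card_mul_index
    rw [hA, hcard, show 2 * n + 1 = n + 1 + n by ring, pow_add p (n + 1)] at this
    exact Nat.eq_of_mul_eq_mul_left (pow_pos hp.pos _) this
  obtain ⟨χ, a, b⟩ := (hlam.1.isIrr_of_deg_one hlam.2).exists_over
  have h1 : χ 1 ≠ 1 := fun e => by
    obtain ⟨z, c, d⟩ := hZ
    have := ((a.isChar.restrict A).isIrr_of_deg_one e).eq_of_inner_ne_zero
      (hlam.1.isIrr_of_deg_one hlam.2) b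
    exact d (by rw [← this]; exact (apply_commutator_of_deg_one a.isChar e (hP.1.2.2.ge c)).trans e)
  rw [← inner_indFun_right _ _ a.classFun, Ne, CfsgH3.inner_eq_zero_symm] at b
  rw [hθ.eq_of_constituent_of_deg_eq a b (by
    rw [indFun_one, hlam.2, ← coe_charDegree a.isChar, deg_extraspecial hp hP hcard a h1, hA', mul_one])]
  exact ⟨a, fun x => vanish_of_prime_comm (by rw [hP.1.2.2, hP.2]; exact hp) hP.1.2.2.le a h1⟩

end Cfsg.Agent.S0893
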