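import Cfsg.Statements.S0894
import Cfsg.Agent.H4.Ord4

set_option autoImplicit false
open Cfsg

namespace Cfsg.Agent.S0894

open CfsgH4 CfsgH3

/-- Let P be an extraspecial p-group of order p ^ (2 * n + 1). Then every irreducible character of P has degree 1 or p ^ n, and exactly p - 1 of them have degree p ^ n. -/
theorem result {P : Type*} [Group P] [Finite P] (p n : ℕ) [Fact p.Prime] (hP : Cfsg.IsExtraspecial p P) (hcard : Nat.card P = p ^ (2 * n + 1)) : (∀ χ : Cfsg.IrrCharacter P, (χ : P → ℂ) 1 = 1 ∨ (χ : P → ℂ) 1 = (p : ℂ) ^ n) ∧ Nat.card {χ : Cfsg.IrrCharacter P // (χ : P → ℂ) 1 = (p : ℂ) ^ n} = p - 1 := by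
  have hp : p.Prime := Fact.out
  have h1 : ∀ χ : IrrCharacter P, χ.1 1 ≠ 1 → χ.1 1 = (p : ℂ) ^ n := fun χ h => by
    rw [← coe_charDegree χ.2.isChar, deg_extraspecial hp hP hcard χ.2 h, Nat.cast_pow]
  obtain ⟨ψ, a, b⟩ := exists_nonlin (G := P) (by
    rw [hP.1.2.2, ← Subgroup.one_lt_card_iff_ne_bot, hP.2]; exact hp.one_lt)
  refine ⟨fun χ => or_iff_not_imp_left.2 (h1 χ), ?_⟩
  rw [← card_nonlin_extraspecial hp hP]
  exact Nat.card_congr (Equiv.subtypeEquivRight fun χ =>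
    ⟨fun h => by rw [h, ← h1 ⟨ψ, a⟩ b]; exact b, h1 χ⟩)

end Cfsg.Agent.S0894
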