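import Cfsg.Statements.S0898
import Cfsg.Agent.H4.Ext3
import Cfsg.Agent.H4.Ord4

set_option autoImplicit false
open Cfsg

namespace Cfsg.Agent.S0898

open CfsgH4 CfsgH3 CfsgH2 MonoidAlgebra

open scoped ComplexConjugate
open Subgroup

theorem main {G : Type*} [Group G] [Fintype G] (H : Subgroup G) [Fintype H]
    (hab : ∀ a ∈ H, ∀ b ∈ H, a * b = b * a) (hZ : H ⊓ center G = ⊥)
    (hone : ∀ g : G, g ∉ center G → ∀ a b : G,
      centralizer ({g} : Set G) ⊓ H.map (MulAut.conj a).toMonoidHom ≠ ⊥ →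
      centralizer ({g} : Set G) ⊓ H.map (MulAut.conj b).toMonoidHom ≠ ⊥ →
      H.map (MulAut.conj a).toMonoidHom = H.map (MulAut.conj b).toMonoidHom)
    {χ : G → ℂ} (hχ : IsIrrCharacter G χ) (hker : ∃ h ∈ H, χ h ≠ χ 1) {d m : ℕ} (hd : χ 1 = d)
    (hm : classInner (fun h : H => χ h) (fun _ => 1) = m) : Nat.card H * m ^ 2 < d ^ 2 := by
  classical
  obtain ⟨h₀, hh₀, hk₀⟩ := hker
  have h01 : h₀ ≠ 1 := by rintro rfl; exact hk₀ rfl
  have hHN : H ≤ normalizer (H : Set G) := le_normalizer
  have hZN : center G ≤ normalizer (H : Set G) := center_le_normalizer _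
  have hTI : TIOn (normalizer (H : Set G)).subtype
      {n | (n : G) ∉ center G ∧ ∃ h ∈ H, h ≠ 1 ∧ h * n = n * h} := by
    rintro a ⟨ha, h, hh, h1, e⟩ b ⟨hb, k, hk, k1, e'⟩ g hg
    rw [range_subtype, ← cj_eq_iff_mem_normalizer]
    have hg' : g * (a : G) * g⁻¹ = b := hg
    have := hone b hb g 1 (fun e0 => h1 (by
      have : g * h * g⁻¹ ∈ centralizer ({(b : G)} : Set G) ⊓ H.map (MulAut.conj g).toMonoidHom := by
        refine mem_inf.2 ⟨?_, ⟨h, hh, rfl⟩⟩
        rw [mem_centralizer_singleton_iff, ← hg']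
        calc g * h * g⁻¹ * (g * a * g⁻¹) = g * (h * a) * g⁻¹ := by group
          _ = _ := by rw [e]; group
      rw [e0, mem_bot] at this
      exact conj_eq_one_iff.1 this)) (fun e0 => k1 (by
      have : k ∈ centralizer ({(b : G)} : Set G) ⊓ H.map (MulAut.conj 1).toMonoidHom :=
        mem_inf.2 ⟨mem_centralizer_singleton_iff.2 e', ⟨k, hk, by simp⟩⟩
      rwa [e0, mem_bot] at this))
    rwa [CfsgH2.cj_def, CfsgH2.cj_def, CfsgH2.cj_one] at this
  have hHn : (H.subgroupOf (normalizer (H : Set G))).Normal := inferInstance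
  have hconj : ∀ x ∈ normalizer (H : Set G), ∀ h ∈ H, x * h * x⁻¹ ∈ H :=
    fun x hx h hh => conj_mem_of_mem_normalizer hx hh
  generalize normalizer (H : Set G) = N at hHN hZN hTI hHn hconj
  have := Fintype.ofFinite N
  have := Fintype.ofFinite (H.subgroupOf N)
  obtain ⟨S, hS⟩ : ∃ S : Set N, S = {n : N | (n : G) ∉ center G ∧ ∃ h ∈ H, h ≠ 1 ∧ h * n = n * h} :=
    ⟨_, rfl⟩
  rw [← hS] at hTI
  have hψ : IsCharacter N (fun n : N => χ n) := hχ.isChar.restrict N
  have hN0 : (0 : ℝ) < Nat.card N := by exact_mod_cast Nat.card_pos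
  -- the T.I. bound
  have hScl : ∀ a b : N, a ∈ S → b * a * b⁻¹ ∈ S := by
    intro a b ha
    rw [hS] at ha ⊢
    obtain ⟨ha, h, hh, h1, e⟩ := ha
    refine ⟨fun hc => ha ?_, b * h * (b : G)⁻¹, hconj b b.2 h hh, fun e0 => h1 (conj_eq_one_iff.1 e0), ?_⟩
    · have := (inferInstance : (center G).Normal).conj_mem _ hc (b : G)⁻¹
      simpa [mul_assoc] using this
    · simp only [Subgroup.coe_mul, Subgroup.coe_inv]
      calc (b : G) * h * (b : G)⁻¹ * (b * a * (b : G)⁻¹) = b * (h * a) * (b : G)⁻¹ := by group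
        _ = _ := by rw [e]; group
  have hα : IsClassFunction N (S.indicator fun n : N => χ n) := by
    intro a b
    by_cases ha : a ∈ S
    · rw [Set.indicator_of_mem ha, Set.indicator_of_mem (hScl a b ha)]
      exact hψ.classFun a b
    · rw [Set.indicator_of_notMem ha, Set.indicator_of_notMem]
      intro h
      have := hScl _ b⁻¹ h
      exact ha (by simpa [mul_assoc] using this)
  have h1 : ∑ n : N, (if n ∈ S then ‖χ n‖ ^ 2 else 0) < Nat.card N := by
    have e1 := hTI.ip_ind (subtype_injective N) (α := S.indicator fun n : N => χ n)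
      (fun x hx => Set.indicator_of_notMem hx _) hα
      (fun x hx => Set.indicator_of_notMem hx (fun n : N => χ n))
    have e2 : classInner (ind N.subtype (S.indicator fun n : N => χ n)) χ =
        classInner (S.indicator fun n : N => χ n) (S.indicator fun n : N => χ n) := by
      rw [ip_ind_left (subtype_injective N) _ hχ.classFun]
      refine ip_congr_right fun x hx => ?_
      rw [Set.indicator_of_mem (Set.mem_of_indicator_ne_zero hx)]
      rfl
    have e3 : classInner χ (ind N.subtype (S.indicator fun n : N => χ n)) =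
        classInner (S.indicator fun n : N => χ n) (S.indicator fun n : N => χ n) := by
      rw [← CfsgH3.inner_conj_symm, e2, CfsgH3.inner_conj_symm]
    have e4 : classInner (ind N.subtype (S.indicator fun n : N => χ n) - χ)
        (ind N.subtype (S.indicator fun n : N => χ n) - χ) =
        1 - classInner (S.indicator fun n : N => χ n) (S.indicator fun n : N => χ n) := by
      rw [CfsgH3.inner_sub_left, CfsgH3.inner_sub_right, CfsgH3.inner_sub_right, e1, e2, e3,
        hχ.inner_self]
      ring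
    have e5 := CfsgH3.inner_self_re_nonneg (ind N.subtype (S.indicator fun n : N => χ n) - χ)
    have e6 : (classInner (ind N.subtype (S.indicator fun n : N => χ n) - χ)
        (ind N.subtype (S.indicator fun n : N => χ n) - χ)).re ≠ 0 := by
      intro e
      have := CfsgH3.inner_self_eq_re (ind N.subtype (S.indicator fun n : N => χ n) - χ)
      rw [e, Complex.ofReal_zero, CfsgH3.inner_self_eq_zero] at this
      have h2 := congrFun this 1
      rw [Pi.sub_apply, ind_one (subtype_injective N), Set.indicator_of_notMem (by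
        rw [hS]; exact fun h => h.1 (one_mem _))] at h2
      exact hχ.one_ne_zero (by simpa using h2)
    rw [e4, CfsgH3.inner_self_eq] at e5 e6
    simp only [Complex.sub_re, Complex.one_re, Complex.ofReal_re] at e5 e6
    have e7 : (Nat.card N : ℝ)⁻¹ * ∑ g, ‖S.indicator (fun n : N => χ n) g‖ ^ 2 < 1 :=
      lt_of_le_of_ne (by linarith) (fun e => e6 (by linarith))
    rw [inv_mul_lt_iff₀ hN0, mul_one] at e7
    refine lt_of_eq_of_lt (Finset.sum_congr rfl fun n _ => ?_) e7
    split_ifs with hn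
    · rw [Set.indicator_of_mem hn]
    · rw [Set.indicator_of_notMem hn]; simp
  obtain ⟨χ₀, hχ₀⟩ : ∃ χ₀, χ₀ = navg (H.subgroupOf N) (fun n : N => χ n) := ⟨_, rfl⟩
  have hc₀ : IsCharacter N χ₀ := hχ₀ ▸ isChar_navg hψ
  have hinv : ∀ k ∈ H.subgroupOf N, ∀ g, χ₀ (k * g) = χ₀ g := fun k hk g => by
    rw [hχ₀]; exact navg_apply_mul _ hk g
  have h2 : (Nat.card N : ℝ) ≤ ∑ n : N, (‖χ n‖ ^ 2 - ‖χ₀ n‖ ^ 2) := by
    have e1 : classInner χ₀ χ₀ = classInner (fun n : N => χ n) χ₀ := by
      conv_lhs => rw [hχ₀]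
      rw [← hχ₀]
      conv_lhs => enter [1]; rw [hχ₀]
      exact ip_navg _ hinv
    have e2 : classInner χ₀ (fun n : N => χ n) = classInner χ₀ χ₀ := by
      rw [hc₀.inner_comm hψ, e1]
    obtain ⟨k, hk⟩ := (hψ.isGen.sub hc₀.isGen).inner_int (hψ.isGen.sub hc₀.isGen)
    have e3 := CfsgH3.inner_self_re_nonneg ((fun n : N => χ n) - χ₀)
    have e4 : k ≠ 0 := by
      rintro rfl
      rw [Int.cast_zero, CfsgH3.inner_self_eq_zero, sub_eq_zero] at hk
      apply hk₀
      have := hinv ⟨h₀, hHN hh₀⟩ hh₀ 1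
      rw [← hk, mul_one] at this
      exact this
    rw [hk, Complex.intCast_re] at e3
    have e5 : (1 : ℝ) ≤ k := by
      have : 0 ≤ k := by exact_mod_cast e3
      exact_mod_cast (show 1 ≤ k by omega)
    rw [CfsgH3.inner_sub_left, CfsgH3.inner_sub_right, CfsgH3.inner_sub_right, e2, ← e1] at hk
    have e6 := congrArg Complex.re hk
    simp only [Complex.sub_re, Complex.intCast_re] at e6
    rw [Finset.sum_sub_distrib, sum_normSq_eq (fun n : N => χ n), sum_normSq_eq χ₀]
    nlinarith
  have hm' : χ₀ 1 = m := by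
    rw [hχ₀, navg_one, ← hm]
    exact inner_comp_equiv (subgroupOfEquivOfLe hHN).toEquiv (fun h : H => χ h) (fun _ => 1)
  have hcen : ∀ n : N, (n : G) ∈ center G → ‖χ n‖ = d ∧ ‖χ₀ n‖ = m := by
    intro n hn
    obtain ⟨ω, hω, e⟩ := hχ.exists_scalar_of_mem_center hn
    have hω' := norm_eq_one_of_pow_eq_one' (orderOf_pos _).ne' hω
    refine ⟨by simpa [hd, hω'] using congrArg norm (e 1), ?_⟩
    have : χ₀ n = ω * χ₀ 1 := by
      simp only [hχ₀, navg, Finset.mul_sum]
      refine Finset.sum_congr rfl fun x _ => ?_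
      rw [Subgroup.coe_mul, mem_center_iff.1 hn, e, mul_one]
      ring
    rw [this, hm', norm_mul, hω']
    simp
  have hHZ : ∀ n : N, (n : G) ∈ H ⊔ center G → ‖χ₀ n‖ = m ∧ ((n : G) ∉ center G → n ∈ S) := by
    intro n hn
    obtain ⟨h, hh, z, hz, e⟩ := mem_sup_of_normal_right.1 hn
    constructor
    · rw [show n = ⟨h, hHN hh⟩ * ⟨z, hZN hz⟩ from Subtype.ext e.symm, hinv _ hh]
      exact (hcen ⟨z, hZN hz⟩ hz).2
    · intro h1
      rw [hS]
      refine ⟨h1, h₀, hh₀, h01, ?_⟩
      rw [← e, ← mul_assoc, hab _ hh₀ _ hh, mul_assoc, mul_assoc, mem_center_iff.1 hz]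
  have h3 : ∀ n : N, ‖χ n‖ ^ 2 - ‖χ₀ n‖ ^ 2 ≤ (if n ∈ S then ‖χ n‖ ^ 2 else 0) +
      (if (n : G) ∈ center G then (d : ℝ) ^ 2 else 0) -
      (if (n : G) ∈ H ⊔ center G then (m : ℝ) ^ 2 else 0) := by
    intro n
    by_cases hn : (n : G) ∈ center G
    · rw [if_pos hn, if_pos (mem_sup_right hn), if_neg (by rw [hS]; exact fun h => h.1 hn),
        (hcen n hn).1, (hcen n hn).2, zero_add]
    · rw [if_neg hn]
      by_cases hs : n ∈ S
      · rw [if_pos hs]
        split_ifs with h
        · rw [(hHZ n h).1, add_zero]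
        · nlinarith [sq_nonneg ‖χ₀ n‖]
      · rw [if_neg hs, if_neg fun h => hs ((hHZ n h).2 hn)]
        have : χ₀ n = χ n := by
          simp only [hχ₀, navg]
          rw [Finset.sum_congr rfl (g := fun _ => χ n), Finset.sum_const, Finset.card_univ,
            ← Nat.card_eq_fintype_card, nsmul_eq_mul, inv_mul_cancel_left₀ (card_ne_zero_complex _)]
          intro k _
          obtain ⟨x, -, e⟩ := exists_conj_of_fpf (K := H.subgroupOf N) (h := n) (fun y hy e => by
            by_contra y1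
            exact hs (hS ▸ ⟨hn, y, hy, fun e' => y1 (Subtype.ext e'),
              (congrArg Subtype.val e).symm⟩)) k.2
          rw [e]
          exact hψ.classFun n x
        rw [this]
        simp
  have hcnt : ∀ (K : Subgroup G) [DecidablePred (· ∈ K)] (c : ℝ), K ≤ N →
      ∑ n : N, (if (n : G) ∈ K then c else 0) = Nat.card K * c := by
    intro K _ c hK
    rw [← Finset.sum_filter, Finset.sum_const, nsmul_eq_mul,
      ← Nat.card_congr (subgroupOfEquivOfLe hK).toEquiv, Nat.card_eq_fintype_card,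
      Fintype.card_subtype]
    congr 3
    ext x
    simp [mem_subgroupOf]
  have h4 := h2.trans (Finset.sum_le_sum fun n _ => h3 n)
  have h5 : Nat.card (H ⊔ center G : Subgroup G) = Nat.card (center G) * Nat.card H := by
    rw [← card_mul_relIndex (le_sup_right (a := H) (b := center G)), relIndex_sup_right,
      ← inf_relIndex_left, hZ, relIndex_bot_left]
  rw [Finset.sum_sub_distrib, Finset.sum_add_distrib, hcnt _ _ hZN, hcnt _ _ (sup_le hHN hZN),
    h5] at h4
  have hZ0 : (0 : ℝ) < Nat.card (center G) := by exact_mod_cast Nat.card_pos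
  push_cast at h4
  have h6 : (Nat.card H : ℝ) * m ^ 2 < d ^ 2 := by nlinarith
  exact_mod_cast h6

/-- Let H be an abelian subgroup of the finite group G meeting the centre of G trivially, such that for every non-central g the centralizer of g has nontrivial intersection with at most one conjugate of H. Let χ be an irreducible character of G with χ h ≠ χ 1 for some h in H, and let c be the inner product of the restriction of χ to H with the principal character. Then χ(1)² > (order of H)·c²; and if in addition χ 1 ≠ 1 and no proper normal subgroup of G contains H, then (1 + χ 1)² > order of H (both sides read as real numbers). -/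
theorem result {G : Type*} [Group G] [Fintype G] (H : Subgroup G) [Fintype H] (hab : ∀ a ∈ H, ∀ b ∈ H, a * b = b * a) (hZ : H ⊓ Subgroup.center G = ⊥) (hone : ∀ g : G, g ∉ Subgroup.center G → ∀ a b : G, Subgroup.centralizer ({g} : Set G) ⊓ H.map (MulAut.conj a).toMonoidHom ≠ ⊥ → Subgroup.centralizer ({g} : Set G) ⊓ H.map (MulAut.conj b).toMonoidHom ≠ ⊥ → H.map (MulAut.conj a).toMonoidHom = H.map (MulAut.conj b).toMonoidHom) (χ : G → ℂ) (hχ : Cfsg.IsIrrCharacter G χ) (hker : ∃ h ∈ H, χ h ≠ χ 1) : (χ 1).re ^ 2 > (Nat.card H : ℝ) * (Cfsg.classInner (fun h : H => χ h) (fun _ => 1)).re ^ 2 ∧ (χ 1 ≠ 1 → (∀ M : Subgroup G, M.Normal → H ≤ M → M = ⊤) → (1 + (χ 1).re) ^ 2 > (Nat.card H : ℝ)) := by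
  classical
  obtain ⟨d, hd0, hd⟩ := hχ.exists_deg
  obtain ⟨m, hm⟩ := (hχ.isChar.restrict H).inner_nat isChar_one
  refine ⟨?_, fun h1 hM => ?_⟩
  · rw [hd, hm]
    exact_mod_cast main H hab hZ hone hχ hker hd hm
  rw [hd] at h1 ⊢
  by_contra hle
  have hle' : (1 + d) ^ 2 ≤ Nat.card H := by
    simp only [Complex.natCast_re, gt_iff_lt, not_lt] at hle
    exact_mod_cast hle
  have hd1 : 2 ≤ d := by
    have : d ≠ 1 := by rintro rfl; simp at h1
    omega
  obtain ⟨a, ha, e⟩ := (hχ.isChar.mul hχ.isChar.conj_char).exists_coeff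
  choose μ hμ using fun ψ : IrrCharacter G => (ψ.2.isChar.restrict H).inner_nat isChar_one
  let o : IrrCharacter G := ⟨fun _ => 1, isIrr_one⟩
  have hao : a o = 1 := by
    have := ha o
    rw [CfsgH3.inner_mul_left] at this
    simp only [o, Complex.conj_conj, mul_one, hχ.inner_self] at this
    exact_mod_cast this.symm
  have hμo : μ o = 1 := by
    have := hμ o
    simp only [o, isIrr_one.inner_self] at this
    exact_mod_cast this.symm
  have hdo : deg o = 1 := by
    have : (deg o : ℂ) = 1 := (deg_spec o).symm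
    exact_mod_cast this
  have hlt : ∀ ψ, ψ ≠ o → (1 + d) * μ ψ < deg ψ := by
    intro ψ hψ
    have h2 := main H hab hZ hone ψ.2 (by
      by_contra hn
      push Not at hn
      have := hM _ inferInstance (show H ≤ ψ.2.isChar.ker from hn)
      exact hψ (Subtype.ext (ψ.2.eq_one_of_ker_top fun g =>
        show g ∈ ψ.2.isChar.ker from this ▸ Subgroup.mem_top g))) (deg_spec ψ) (hμ ψ)
    refine lt_of_pow_lt_pow_left₀ 2 (Nat.zero_le _) ?_
    rw [mul_pow]
    exact (Nat.mul_le_mul_right _ hle').trans_lt h2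
  have hs1 : ∑ ψ, a ψ * deg ψ = d ^ 2 := by
    have := congrFun e 1
    simp only [Pi.mul_apply, hd, Complex.conj_natCast, Finset.sum_apply, Pi.smul_apply,
      smul_eq_mul, deg_spec] at this
    rw [pow_two]
    exact_mod_cast this.symm
  have hs2 : d ≤ ∑ ψ, a ψ * μ ψ := by
    obtain ⟨b, hb, e'⟩ := (hχ.isChar.restrict H).exists_coeff
    have h2 : classInner (fun h : H => χ h) (fun h : H => χ h) = (∑ ψ, a ψ * μ ψ : ℕ) := by
      have h3 : classInner (fun h : H => χ h) (fun h : H => χ h) =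
          classInner (fun h : H => (χ * fun g => conj (χ g)) h) (fun _ => 1) := by
        simp [classInner]
      rw [h3, e]
      have h4 : (fun h : H => (∑ ψ : IrrCharacter G, (a ψ : ℂ) • (ψ : G → ℂ)) h) =
          ∑ ψ : IrrCharacter G, (a ψ : ℂ) • fun h : H => ψ.1 h := by
        ext h; simp [Finset.sum_apply]
      rw [h4, CfsgH3.inner_sum_left]
      simp only [CfsgH3.inner_smul_left, hμ]
      push_cast; rfl
    rw [(hχ.isChar.restrict H).classFun.inner_eq_sum] at h2
    have h3 : ∑ l, b l * b l = ∑ ψ, a ψ * μ ψ := by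
      have : ∀ l : IrrCharacter H, classInner l.1 (fun h : H => χ h) = b l := fun l => by
        rw [l.2.isChar.inner_comm (hχ.isChar.restrict H), hb]
      simp only [this, hb] at h2
      exact_mod_cast h2
    have h4 : ∑ l, b l = d := by
      have := congrFun e' 1
      have h5 : ∀ l : IrrCharacter H, l.1 1 = 1 := fun l =>
        l.2.deg_one_of_comm fun x y => Subtype.ext (hab x x.2 y y.2)
      simp only [Finset.sum_apply, Pi.smul_apply, smul_eq_mul, h5, mul_one, OneMemClass.coe_one,
        hd] at this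
      exact_mod_cast this.symm
    rw [← h3, ← h4]
    exact Finset.sum_le_sum fun l _ => Nat.le_mul_self _
  rw [← Finset.add_sum_erase _ _ (Finset.mem_univ o), hao] at hs1 hs2
  rw [hdo] at hs1
  rw [hμo] at hs2
  have h3 : ∑ ψ ∈ Finset.univ.erase o, (1 + d) * (a ψ * μ ψ) <
      ∑ ψ ∈ Finset.univ.erase o, a ψ * deg ψ := by
    refine Finset.sum_lt_sum (fun ψ hψ => ?_) ?_
    · have := hlt ψ (Finset.ne_of_mem_erase hψ)
      nlinarith
    · obtain ⟨ψ, hψ, h⟩ := Finset.exists_ne_zero_of_sum_ne_zero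
        (show ∑ ψ ∈ Finset.univ.erase o, a ψ * deg ψ ≠ 0 by nlinarith)
      have := hlt ψ (Finset.ne_of_mem_erase hψ)
      have h' : 0 < a ψ := Nat.pos_of_ne_zero (left_ne_zero_of_mul h)
      exact ⟨ψ, hψ, by nlinarith⟩
  rw [← Finset.mul_sum] at h3
  nlinarith

end Cfsg.Agent.S0898
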