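import Cfsg.Statements.S0900
import Cfsg.Agent.H4.Ext3

set_option autoImplicit false
open Cfsg

namespace Cfsg.Agent.S0900

open CfsgH4 CfsgH3

/-- Let N be a normal subgroup of the finite group G, χ an irreducible character of G and ϑ an irreducible character of N having nonzero inner product with the restriction of χ. Consider: (a) the restriction of χ to N is e • ϑ for a natural number e with e ^ 2 equal to the index of N; (b) χ vanishes outside N and ϑ is invariant under conjugation by G; (c) ϑ is invariant and every irreducible character of G having nonzero inner product with the function induced from ϑ equals χ. Then (a) ↔ (b) and (a) ↔ (c). -/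
theorem result {G : Type*} [Group G] [Fintype G] (N : Subgroup G) [hN : N.Normal] [Fintype N] (χ : G → ℂ) (hχ : Cfsg.IsIrrCharacter G χ) (ϑ : N → ℂ) (hϑ : Cfsg.IsIrrCharacter N ϑ) (hcon : Cfsg.classInner (fun n : N => χ n) ϑ ≠ 0) : ((∃ e : ℕ, (fun n : N => χ n) = (e : ℂ) • ϑ ∧ e ^ 2 = N.index) ↔ ((∀ g : G, g ∉ N → χ g = 0) ∧ ∀ (g : G) (n : N), ϑ ⟨g * n * g⁻¹, hN.conj_mem (n : G) n.2 g⟩ = ϑ n)) ∧ ((∃ e : ℕ, (fun n : N => χ n) = (e : ℂ) • ϑ ∧ e ^ 2 = N.index) ↔ (∀ (g : G) (n : N), ϑ ⟨g * n * g⁻¹, hN.conj_mem (n : G) n.2 g⟩ = ϑ n ∧ ∀ ψ : G → ℂ, Cfsg.IsIrrCharacter G ψ → Cfsg.classInner (Cfsg.indFun N ϑ) ψ ≠ 0 → ψ = χ)) := by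
  have hi : (N.index : ℂ) ≠ 0 := Nat.cast_ne_zero.mpr Subgroup.index_ne_zero_of_finite
  have hnorm : ∀ e : ℕ, (fun n : N => χ n) = (e : ℂ) • ϑ →
      classInner (fun n : N => χ n) (fun n : N => χ n) = (e ^ 2 : ℕ) := fun e he => by
    rw [he, CfsgH3.inner_smul_left, CfsgH3.inner_smul_right, hϑ.inner_self]; simp [sq]
  have hinv : ∀ e : ℕ, (fun n : N => χ n) = (e : ℂ) • ϑ → ∀ g : G, CfsgH3.cj g ϑ = ϑ := fun e he g => by
    have h0 : (e : ℂ) ≠ 0 := fun h => hχ.one_ne_zero (by simpa [h] using congrFun he 1)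
    have := cj_res (N := N) hχ.classFun g
    rw [he, cj_smul] at this
    exact smul_right_injective _ h0 this
  have A : (∃ e : ℕ, (fun n : N => χ n) = (e : ℂ) • ϑ ∧ e ^ 2 = N.index) ↔
      ((∀ g : G, g ∉ N → χ g = 0) ∧ ∀ g : G, CfsgH3.cj g ϑ = ϑ) := by
    constructor
    · rintro ⟨e, h1, h2⟩
      exact ⟨fun g hg => vanish_of_ip_res N (by rw [hnorm e h1, h2, hχ.inner_self, mul_one]) hg,
        hinv e h1⟩
    · rintro ⟨h1, h2⟩
      obtain ⟨e, -, -, he⟩ := clifford_invariant' hχ hϑ h2 hcon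
      refine ⟨e, funext he, ?_⟩
      have := ip_res_eq_of_vanish N χ h1
      rw [hnorm e (funext he), hχ.inner_self, mul_one] at this
      exact_mod_cast this
  refine ⟨A.trans (and_congr_right fun _ => forall_congr' fun g => funext_iff), ?_, fun h => ?_⟩
  · rintro ⟨e, h1, h2⟩ g n
    refine ⟨congrFun (hinv e h1 g) n, fun ψ hψ hc => ?_⟩
    have hv := (A.1 ⟨e, h1, h2⟩).1
    have h0 : (e : ℂ) ≠ 0 := fun h => hχ.one_ne_zero (by simpa [h] using congrFun h1 1)
    refine (eq_of_smul_constituent hχ hψ (c := e) ?_).symm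
    have : indFun N ϑ = (e : ℂ) • χ := by
      ext x
      by_cases hx : x ∈ N
      · have a := congrFun (res_indFun_of_invariant (hinv e h1)) ⟨x, hx⟩
        have b := congrFun h1 ⟨x, hx⟩
        simp only [Pi.smul_apply, smul_eq_mul] at a b ⊢
        rw [a, b, ← h2]; push_cast; ring
      · rw [indFun_of_not_mem_normal N ϑ hx, Pi.smul_apply, hv x hx, smul_zero]
    rwa [← this]
  · refine A.2 ⟨fun x hx => ?_, fun g => funext fun n => (h g n).1⟩
    obtain ⟨f, hf⟩ := eq_smul_of_smul hϑ.isChar.ind hχ one_ne_zero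
      (d := classInner (indFun N ϑ) χ) (by
      rw [one_smul]
      refine (indFun_classFun N ϑ).ext_inner (isClassFunction_smul _ hχ.classFun) fun ψ hψ => ?_
      rw [CfsgH3.inner_smul_left]
      by_cases e : ψ = χ
      · rw [e, hχ.inner_self, mul_one]
      · rw [hχ.inner_of_ne hψ (Ne.symm e), mul_zero]
        by_contra hc
        exact e ((h 1 1).2 ψ hψ hc))
    have a := congrFun hf x
    rw [indFun_of_not_mem_normal N ϑ hx, Pi.smul_apply, smul_eq_mul] at a
    refine (mul_eq_zero.mp a.symm).resolve_left fun h0 => ?_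
    have b := congrFun hf 1
    rw [indFun_one, Pi.smul_apply, h0, zero_smul] at b
    exact mul_ne_zero hi hϑ.one_ne_zero b

end Cfsg.Agent.S0900
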