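import Cfsg.Statements.S0901
import Cfsg.Agent.H4.LC

set_option autoImplicit false
open Cfsg

namespace Cfsg.Agent.S0901

open CfsgH4 CfsgH3 CfsgH2 MonoidAlgebra

/-- Let M be a maximal ideal of the ring of algebraic integers containing the prime p, and let U be the set of complex roots of unity of order prime to p. Then reduction modulo M is injective on U, and every algebraic integer not in M is congruent modulo M to an element of U (so U maps bijectively onto the nonzero residues). -/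
theorem result (p : ℕ) [Fact p.Prime] (M : Ideal Cfsg.AlgInt) (hM : Cfsg.IsPModular p M) : (∀ ε₁ ε₂ : Cfsg.AlgInt, (∃ m : ℕ, ¬ p ∣ m ∧ (ε₁ : ℂ) ^ m = 1) → (∃ m : ℕ, ¬ p ∣ m ∧ (ε₂ : ℂ) ^ m = 1) → ε₁ - ε₂ ∈ M → ε₁ = ε₂) ∧ (∀ a : Cfsg.AlgInt, a ∉ M → ∃ ε : Cfsg.AlgInt, (∃ m : ℕ, ¬ p ∣ m ∧ (ε : ℂ) ^ m = 1) ∧ a - ε ∈ M) := by
  have := hM.2.1
  have := charP_of_isPModular hM
  refine ⟨fun ε₁ ε₂ ⟨m, hm, h1⟩ ⟨n, hn, h2⟩ h => Subtype.ext ?_, fun a ha => ?_⟩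
  · refine eq_of_red_eq_of_pow (M := M) (p := p) (n := m * n)
      (fun h => ((Fact.out : p.Prime).dvd_mul.1 h).elim hm hn) (by rw [pow_mul, h1, one_pow])
      (by rw [mul_comm, pow_mul, h2, one_pow]) ?_
    rw [red_coe, red_coe, ← sub_eq_zero, ← map_sub, mkRes_eq_zero]
    exact h
  · obtain ⟨n, hn, h⟩ := exists_pow_eq_one_Res (p := p) (c := mkRes M a) (by rwa [Ne, mkRes_eq_zero])
    have hn0 : n ≠ 0 := by rintro rfl; exact hn (dvd_zero _)
    obtain ⟨z, hz, hz'⟩ := exists_root_red_eq hn0 h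
    refine ⟨⟨z, isIntegral_of_pow_eq_one hn0 hz⟩, ⟨n, hn, hz⟩, ?_⟩
    rw [← mkRes_eq_zero, map_sub, ← hz', ← red_coe, sub_self]

end Cfsg.Agent.S0901
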