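import Cfsg.Statements.S0904
import Mathlib
import Cfsg.Agent.H8.Small2

set_option autoImplicit false
open Cfsg

namespace Cfsg.Agent.S0904

/-- Let G be a finite simple group of order p ^ a * q ^ b * r with p, q, r distinct primes. Then every Sylow r-subgroup S of G satisfies C_G(S) = S. -/
theorem result {G : Type*} [Group G] [Finite G] [IsSimpleGroup G] (p q r a b : ℕ) (hp : p.Prime) (hq : q.Prime) [Fact r.Prime] (hpq : p ≠ q) (hpr : p ≠ r) (hqr : q ≠ r) (hcard : Nat.card G = p ^ a * q ^ b * r) (S : Sylow r G) : Subgroup.centralizer (S : Set G) = (S : Subgroup G) := by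
  have hr : r.Prime := Fact.out
  have hk : ¬ r ∣ p ^ a * q ^ b := fun h => by
    rcases (Nat.Prime.dvd_mul hr).mp h with h | h
    · exact hpr ((Nat.prime_dvd_prime_iff_eq hr hp).mp (hr.dvd_of_dvd_pow h)).symm
    · exact hqr ((Nat.prime_dvd_prime_iff_eq hr hq).mp (hr.dvd_of_dvd_pow h)).symm
  have h1 := (CfsgH8.card_sylow_eq (a := 1) (by rw [hcard]; ring) hk S).1
  rw [pow_one] at h1
  obtain ⟨x, hx, x1⟩ := (S : Subgroup G).bot_or_exists_ne_one.resolve_left (fun e => by
    rw [e, Subgroup.card_bot] at h1; exact hr.one_lt.ne h1)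
  have h3 := CfsgH8.zpowers_eq_of_prime hr h1 hx x1
  have ox : orderOf x = r := by rw [← Nat.card_zpowers, h3, h1]
  show Subgroup.centralizer ((S : Subgroup G) : Set G) = _
  rw [← h3, CfsgH8.cent_zpowers]
  by_cases hc : (Nat.card G).Prime
  · have h1 : Subgroup.zpowers x = ⊤ := CfsgH8.zpowers_eq_of_prime hc (F := ⊤) (by simp) trivial x1
    rw [h1, eq_top_iff, ← h1]
    exact Subgroup.zpowers_le.mpr (Subgroup.mem_centralizer_singleton_iff.mpr rfl)
  exact (CfsgH8.NAS.of_card hc).cent_eq hp hq hr hpq hpr hqr hcard ox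

end Cfsg.Agent.S0904
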