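import Cfsg.Statements.S0911
import Cfsg.Agent.H4.Height

set_option autoImplicit false
open Cfsg

namespace Cfsg.Agent.S0911

open CfsgH4 CfsgH3 CfsgH2 MonoidAlgebra

/-- The min–max Theorem for defect classes. Let B be a block of the finite group G relative to a maximal ideal M of the algebraic integers containing the prime p, let g represent a defect class of B and let D be a Sylow p-subgroup of the centralizer of g (viewed in G). For any h: (a) if the idempotent coefficient of B at h is a local integer outside the local ideal, then some conjugate of D contains a Sylow p-subgroup of the centralizer of h; (b) if the central character of some member of B at h is outside the local ideal, then some conjugate of D is contained in a Sylow p-subgroup of the centralizer of h. -/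
theorem result {G : Type*} [Group G] [Finite G] (p : ℕ) [Fact p.Prime] (M : Ideal Cfsg.AlgInt) (hM : Cfsg.IsPModular p M) (B : Set (Cfsg.IrrCharacter G)) (hB : Cfsg.IsPBlock M B) (g : G) (hg : Cfsg.IsDefectClass M B g) (D : Sylow p (Subgroup.centralizer ({g} : Set G))) (h : G) : (Cfsg.MemLocalRing M (Cfsg.blockCoeff B h) → ¬ Cfsg.MemLocalIdeal M (Cfsg.blockCoeff B h) → ∃ (x : G) (Q : Sylow p (Subgroup.centralizer ({h} : Set G))), (Q : Subgroup (Subgroup.centralizer ({h} : Set G))).map (Subgroup.centralizer ({h} : Set G)).subtype ≤ ((D : Subgroup (Subgroup.centralizer ({g} : Set G))).map (Subgroup.centralizer ({g} : Set G)).subtype).map (MulAut.conj x).toMonoidHom) ∧ ((∃ χ ∈ B, ¬ Cfsg.MemLocalIdeal M (Cfsg.centralChar (χ : G → ℂ) h)) → ∃ (x : G) (Q : Sylow p (Subgroup.centralizer ({h} : Set G))), ((D : Subgroup (Subgroup.centralizer ({g} : Set G))).map (Subgroup.centralizer ({g} : Set G)).subtype).map (MulAut.conj x).toMonoidHom ≤ (Q : Subgroup (Subgroup.centralizer ({h} : Set G))).map (Subgroup.centralizer ({h} : Set G)).subtype)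 := by
  have := hM.2.1
  have := charP_of_isPModular hM
  have hD : IsDef p ⊤ (bId M B) _ := (isDefectGroup_iff hB).1 ⟨g, hg, D, rfl⟩
  constructor
  · intro h1 h2
    obtain ⟨Q⟩ : Nonempty (Sylow p (Subgroup.centralizer ({h} : Set G))) := inferInstance
    have hQ := IsSylowIn.of_sylow_map Q
    obtain ⟨n, -, hn⟩ := hD.max _ le_top hQ.pgroup (Br_ne_zero_iff.2 ⟨h, by
      rw [coeff_bId]; exact fun h0 => h2 ((memLocalIdeal_iff_red h1).2 h0), hQ.le⟩)
    exact ⟨n⁻¹, Q, cj_le_iff_le_cj_inv.1 hn⟩
  · rintro ⟨χ, hχ, h1⟩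
    obtain ⟨n, -, hn⟩ := (isPrim_bId hB).exists_cj_le_of_lam le_rfl (Subgroup.normalizer_eq_top ⊤).ge
      (Subgroup.mem_top h) (by
        rw [lam_bId_cs hB hχ]
        exact fun h0 => h1 ((memLocalIdeal_iff_red (centralChar_mem_Loc χ.2 h)).2 h0))
      le_top hD.pgroup hD.ne_zero
    obtain ⟨S, hS, hle⟩ := IsSylowIn.exists_le (IsPGroup_cj hD.pgroup n) hn
    exact ⟨n, hS.toSylow, by rw [hS.toSylow_map]; exact hle⟩

end Cfsg.Agent.S0911
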