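import Cfsg.Statements.S0915
import Cfsg.Agent.H4.Cover2

set_option autoImplicit false
open Cfsg

namespace Cfsg.Agent.S0915

open CfsgH4 CfsgH3 CfsgH2 MonoidAlgebra

/-- Let G be a finite p-solvable group with trivial largest normal subgroup of order prime to p. Then any two irreducible characters of G lie in the same block relative to every maximal ideal M of the algebraic integers containing p: G has a single p-block. -/
theorem result {G : Type*} [Group G] [Finite G] (p : ℕ) [Fact p.Prime] (M : Ideal Cfsg.AlgInt) (hM : Cfsg.IsPModular p M) (hsolv : Cfsg.IsPSolvable p G) (hcore : Cfsg.pPrimeCore p G = ⊥) (χ ψ : Cfsg.IrrCharacter G) : Cfsg.SameBlock M (χ : G → ℂ) (ψ : G → ℂ) := by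
  have := hM.2.1
  have := charP_of_isPModular hM
  have hC : ∀ x ∈ Subgroup.centralizer (pCore p G : Set G), ¬ p ∣ orderOf x → x = 1 := fun x hx h =>
    eq_one_of_mem_pgroup_of_coprime (CfsgH1.isPGroup_pCore p G)
      (CfsgH1.IsPSolvable.centralizer_pCore_le hsolv hcore hx)
      ((Nat.Prime.coprime_iff_not_dvd Fact.out).2 h).symm
  have h1 := fun χ : IrrCharacter G =>
    block_unique_of_constrained (CfsgH1.isPGroup_pCore p G) hC (isPBlock_blockOf (M := M) χ)
  have h2 := bId_injective (isPBlock_blockOf χ) (isPBlock_blockOf ψ) ((h1 χ).trans (h1 ψ).symm)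
  exact (h2 ▸ mem_blockOf_self ψ : ψ ∈ blockOf M χ.1)

end Cfsg.Agent.S0915
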