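import Cfsg.Statements.S0918
import Cfsg.Agent.H4.Height

set_option autoImplicit false
open Cfsg

namespace Cfsg.Agent.S0918

open CfsgH4 CfsgH3 CfsgH2 MonoidAlgebra

/-- Let P be a p-subgroup of the finite group G and H a subgroup with P·C_G(P) ≤ H ≤ N_G(P); let b be a block of H and B a block of G relative to a maximal ideal M of the algebraic integers containing p. Then b induces B if and only if, for every g ∈ G, every ξ ∈ b and every χ ∈ B, the central character of χ at g is congruent modulo the local ideal at M to the sum of ξ h / ξ 1 over the elements h of H conjugate in G to g and centralizing P. -/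
theorem result {G : Type*} [Group G] [Finite G] (p : ℕ) [Fact p.Prime] (M : Ideal Cfsg.AlgInt) (hM : Cfsg.IsPModular p M) (P H : Subgroup G) (hP : IsPGroup p P) (hPH : P ≤ H) (hCH : Subgroup.centralizer (P : Set G) ≤ H) (hHN : H ≤ Subgroup.normalizer (P : Set G)) (b : Set (Cfsg.IrrCharacter H)) (hb : Cfsg.IsPBlock M b) (B : Set (Cfsg.IrrCharacter G)) (hB : Cfsg.IsPBlock M B) : Cfsg.IsInducedBlock M H b B ↔ ∀ ξ ∈ b, ∀ χ ∈ B, ∀ g : G, Cfsg.MemLocalIdeal M (Cfsg.brauerCentralChar P H (ξ : H → ℂ) g - Cfsg.centralChar (χ : G → ℂ) g) := by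
  have := hM.2.1
  have := charP_of_isPModular hM
  have key : ∀ ξ ∈ b, ∀ g : G, red M (brauerCentralChar P H ξ.1 g) = red M (inducedCentralChar H ξ.1 g) ∧
      brauerCentralChar P H ξ.1 g ∈ Loc M ∧ inducedCentralChar H ξ.1 g ∈ Loc M := by
    intro ξ hξ g
    have h1 : cs ℂ ⊤ g ∈ Fix ℂ H := Fix_anti le_top (cs_mem_Fix ⊤ g)
    have h2 : Br P (cs ℂ ⊤ g) ∈ Fix ℂ H := Br_mem_Fix h1 hHN
    have h3 : Br P (cs ℂ ⊤ g) ∈ SG M G := tr_mem_SG _ (cs_mem_SG ⊤ g)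
    rw [brauerCentralChar_eq, inducedCentralChar_eq]
    refine ⟨?_, om_res_mem_Loc ξ h2 h3, om_res_mem_Loc ξ h1 (cs_mem_SG ⊤ g)⟩
    rw [← lam_bIdS hb hξ h2 h3, ← lam_bIdS hb hξ h1 (cs_mem_SG ⊤ g), redA_tr, redA_cs,
      lam_tr_eq_lam_Br hP hPH (inf_le_right.trans hCH) le_top hHN (isPrim_bIdS hb) (cs_mem_Ztop g),
      tr_of_mem_Supp (Supp_mono hCH (Br_mem_Supp P _))]
  refine ⟨fun h ξ hξ χ hχ g => ?_, fun h => ⟨hb, hB, fun ξ hξ χ hχ g => ?_⟩⟩
  · obtain ⟨h1, h2, h3⟩ := key ξ hξ g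
    rw [memLocalIdeal_sub_iff h2 (centralChar_mem_Loc χ.2 g), h1,
      ← memLocalIdeal_sub_iff h3 (centralChar_mem_Loc χ.2 g)]
    exact h.2.2 ξ hξ χ hχ g
  · obtain ⟨h1, h2, h3⟩ := key ξ hξ g
    rw [memLocalIdeal_sub_iff h3 (centralChar_mem_Loc χ.2 g), ← h1,
      ← memLocalIdeal_sub_iff h2 (centralChar_mem_Loc χ.2 g)]
    exact h ξ hξ χ hχ g

end Cfsg.Agent.S0918
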