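import Cfsg.Statements.S0920
import Cfsg.Agent.H4.Height

set_option autoImplicit false
open Cfsg

namespace Cfsg.Agent.S0920

open CfsgH4 CfsgH3 CfsgH2 MonoidAlgebra

/-- Brauer's First Main Theorem. Let D be a p-subgroup of the finite group G with normalizer N, and fix a maximal ideal M of the algebraic integers containing p. Then (i) every block b of N having D as a defect group induces some block B of G having D as a defect group; (ii) every block of G with defect group D is induced by exactly one block of N with defect group D. -/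
theorem result {G : Type*} [Group G] [Finite G] (p : ℕ) [Fact p.Prime] (M : Ideal Cfsg.AlgInt) (hM : Cfsg.IsPModular p M) (D : Subgroup G) (hD : IsPGroup p D) : (∀ b : Set (Cfsg.IrrCharacter (Subgroup.normalizer (D : Set G))), Cfsg.IsPBlock M b → Cfsg.IsDefectGroup p M b (D.subgroupOf (Subgroup.normalizer (D : Set G))) → ∃ B : Set (Cfsg.IrrCharacter G), Cfsg.IsPBlock M B ∧ Cfsg.IsDefectGroup p M B D ∧ Cfsg.IsInducedBlock M (Subgroup.normalizer (D : Set G)) b B) ∧ (∀ B : Set (Cfsg.IrrCharacter G), Cfsg.IsPBlock M B → Cfsg.IsDefectGroup p M B D → ∃! b : Set (Cfsg.IrrCharacter (Subgroup.normalizer (D : Set G))), Cfsg.IsPBlock M b ∧ Cfsg.IsDefectGroup p M b (D.subgroupOf (Subgroup.normalizer (D : Set G))) ∧ Cfsg.IsInducedBlock M (Subgroup.normalizer (D : Set G)) b B) := by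
  have := hM.2.1
  have := charP_of_isPModular hM
  have hle : D ≤ Subgroup.normalizer (D : Set G) := Subgroup.le_normalizer
  constructor
  · intro b hb hDb
    have h1 := isPrim_bIdS hb
    have h2 := (isDefectGroup_iff_S' hb hle).1 hDb
    obtain ⟨E, hE, hE', hBr⟩ := exists_isPrim_Br_eq' (N := ⊤) (D := D) (f := bIdS M _ b)
      (by rwa [top_inf_eq]) (by rwa [top_inf_eq])
    obtain ⟨B, hB, rfl⟩ := exists_block_of_isPrim hE
    refine ⟨B, hB, (isDefectGroup_iff hB).2 hE', (isInducedBlock_iff' hb hB).2 ?_⟩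
    have := hE'.ind_Br hE
    rwa [top_inf_eq, hBr] at this
  · intro B hB hDB
    have hE := isPrim_bId hB
    have hE' := (isDefectGroup_iff hB).1 hDB
    have h1 := hE.isPrim_Br' hE'
    have h2 := hE'.isDef_Br
    have h3 := hE'.ind_Br hE
    rw [top_inf_eq] at h1 h2 h3
    obtain ⟨b, hb, hbe⟩ := exists_block_of_isPrim_S h1
    refine ⟨b, ⟨hb, (isDefectGroup_iff_S' hb hle).2 (hbe ▸ h2),
      (isInducedBlock_iff' hb hB).2 (hbe ▸ h3)⟩, ?_⟩
    rintro b' ⟨hb', -, h4⟩
    refine bIdS_injective hb' hb ?_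
    rw [hbe]
    exact hE'.eq_Br_of_ind hE (by rw [top_inf_eq]; exact isPrim_bIdS hb')
      (by rw [top_inf_eq]; exact ind_of_isInducedBlock h4)

end Cfsg.Agent.S0920
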