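import Cfsg.Statements.S0928
import Cfsg.Agent.H4.Pairs3

set_option autoImplicit false
open Cfsg

namespace Cfsg.Agent.S0928

open CfsgH4 CfsgH3 CfsgH2 MonoidAlgebra

/-- Let χ be an irreducible character of the finite group G and p a prime. If χ g = 0 for every element g of order p, then the exponent of p in the degree χ(1) equals the exponent of p in the order of G (χ has p-defect zero). -/
theorem result {G : Type*} [Group G] [Finite G] (p : ℕ) [Fact p.Prime] (χ : Cfsg.IrrCharacter G) (hvan : ∀ g : G, orderOf g = p → (χ : G → ℂ) g = 0) : (Cfsg.charDegree (χ : G → ℂ)).factorization p = (Nat.card G).factorization p := by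
  classical
  obtain ⟨M, hM⟩ := CfsgH4.exists_isPModular p
  have := hM.2.1
  have := charP_of_isPModular hM
  have := Fintype.ofFinite G
  have hB := isPBlock_blockOf (M := M) χ
  have hχ := mem_blockOf_self (M := M) χ
  obtain ⟨D, hD⟩ := exists_isDef_blk p hB
  by_cases h1 : D = ⊥
  · have h2 := minNu_add_blockDefect (p := p) ⟨χ, hχ⟩
    rw [(blockDefect_eq_zero_iff hB hD).2 h1, add_zero] at h2
    exact le_antisymm (nu_le χ.2) (h2 ▸ minNu_le hχ)
  exfalso
  obtain ⟨e, he, hm⟩ := exists_mp_blk hB hD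
  obtain ⟨θ, hθ⟩ := block_nonempty he
  have hU : hat ℂ {g : G | g ^ p = 1} ∈ Fix ℂ ⊤ := hat_mem_Fix fun n _ x => by
    simp only [Set.mem_ofPred_eq, conj_pow]
    exact ⟨fun h => by simpa using h, fun h => by simp [h]⟩
  have h2 := red_om_res_of_induced (induced_of_mul_Br hD.pgroup he hB hm.mul) hθ hχ hU
    (hat_mem_SG _)
  have h3 : om χ.1 (hat ℂ {g : G | g ^ p = 1}) = 1 := by
    rw [om_apply, ev_apply, Finset.sum_eq_single 1, coeff_hat_of_mem (by simp), one_mul,
      div_self χ.2.one_ne_zero]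
    · intro g _ hg
      by_cases h : g ^ p = 1
      · rw [hvan g (orderOf_eq_prime h hg), mul_zero]
      · rw [coeff_hat_of_notMem (X := {g : G | g ^ p = 1}) h, zero_mul]
    · simp
  let Ω : Subgroup (Subgroup.centralizer (D : Set G)) :=
    { carrier := {c | (c : G) ∈ D ∧ c ^ p = 1}
      mul_mem' := fun {a b} ha hb => ⟨D.mul_mem ha.1 hb.1, by
        have : Commute a b := Subtype.ext (b.2 a ha.1)
        rw [this.mul_pow, ha.2, hb.2, mul_one]⟩
      one_mem' := ⟨D.one_mem, one_pow p⟩
      inv_mem' := fun {a} ha => ⟨D.inv_mem ha.1, by rw [inv_pow, ha.2, inv_one]⟩ }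
  have hΩ : Ω.Normal := ⟨fun a ha g => by
    have : g * a * g⁻¹ = a := by
      have : a * g = g * a := Subtype.ext (g.2 a ha.1)
      rw [← this]; group
    rwa [this]⟩
  have h4 : om θ.1 (res _ (hat ℂ {g : G | g ^ p = 1})) = Nat.card Ω * om θ.1 (avg Ω) := by
    rw [avg, map_smul, smul_eq_mul, mul_inv_cancel_left₀ (card_ne_zero_complex Ω), om_apply,
      om_apply, ev_apply, ev_apply]
    congr 1
    refine Finset.sum_congr rfl fun c _ => ?_
    by_cases h : θ.1 c = 0
    · rw [h, mul_zero, mul_zero]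
    rw [coeff_res]
    by_cases h5 : (c : G) ^ p = 1
    · have h6 : ∃ k, orderOf (c : G) = p ^ k := by
        rcases (Nat.dvd_prime Fact.out).1 (orderOf_dvd_of_pow_eq_one h5) with h | h
        · exact ⟨0, by simpa using h⟩
        · exact ⟨1, by simpa using h⟩
      rw [coeff_hat_of_mem (X := {g : G | g ^ p = 1}) h5, coeff_hat_of_mem (X := (Ω : Set (Subgroup.centralizer (D : Set G))))
        (show c ∈ Ω from
          ⟨mem_of_apply_ne_zero he hm.isDef_center_top hθ (isPPart_self h6) h, Subtype.ext h5⟩)]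
    · rw [coeff_hat_of_notMem (X := {g : G | g ^ p = 1}) h5, coeff_hat_of_notMem (X := (Ω : Set (Subgroup.centralizer (D : Set G))))
        (show c ∉ Ω from fun h => h5 (congrArg Subtype.val h.2))]
  obtain ⟨y, hy, hyc, hyo⟩ := exists_center_orderOf hD.pgroup h1
  have h5 : p ∣ Nat.card Ω := by
    have := orderOf_dvd_natCard (⟨⟨y, hyc⟩, hy, Subtype.ext (by
      rw [← hyo]; exact pow_orderOf_eq_one y)⟩ : Ω)
    rwa [← Subgroup.orderOf_coe, ← Subgroup.orderOf_coe, hyo] at this
  rw [h3, h4, red_one] at h2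
  rcases om_idem θ.2 (avg_mem_Fix_top Ω) (avg_idem Ω) with h | h
  · rw [h, mul_zero, red_zero] at h2
    exact zero_ne_one h2
  · rw [h, mul_one, (red_natCast_eq_zero_iff (p := p)).2 h5] at h2
    exact zero_ne_one h2

end Cfsg.Agent.S0928
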