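import Cfsg.Statements.S0930
import Cfsg.Agent.H4.Pairs3

set_option autoImplicit false
open Cfsg

namespace Cfsg.Agent.S0930

open CfsgH4 CfsgH3 CfsgH2 MonoidAlgebra

/-- Let H be a subgroup of the finite group G and fix a maximal ideal M of the algebraic integers containing the prime p. If the block b of H with defect group D induces the block B of G with defect group P, then every element of the centre of P is conjugate in G to an element of the centre of D. -/
theorem result {G : Type*} [Group G] [Finite G] (p : ℕ) [Fact p.Prime] (M : Ideal Cfsg.AlgInt) (hM : Cfsg.IsPModular p M) (H : Subgroup G) (b : Set (Cfsg.IrrCharacter H)) (B : Set (Cfsg.IrrCharacter G)) (hind : Cfsg.IsInducedBlock M H b B) (D : Subgroup H) (hD : Cfsg.IsDefectGroup p M b D) (P : Subgroup G) (hP : Cfsg.IsDefectGroup p M B P) (x : G) (hx : x ∈ P) (hxc : ∀ w ∈ P, x * w = w * x) : ∃ g : G, g * x * g⁻¹ ∈ D.map H.subtype ∧ ∀ w ∈ D.map H.subtype, (g * x * g⁻¹) * w = w * (g *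 x * g⁻¹) := by
  have := hM.2.1
  have := charP_of_isPModular hM
  obtain ⟨y, hy, h1⟩ := isDefectGroup_iff_sylow.1 hP
  have h2 := lam_cs_mul_ne_zero hind.2.1 hy h1 hx fun w hw => (hxc w hw).symm
  rw [← ind_of_isInducedBlock hind _ (cs_mem_Ztop _)] at h2
  obtain ⟨h, hh, h3, h4⟩ := (isPrim_bIdS hind.1).exists_of_lam_ne_zero le_rfl
    Subgroup.le_normalizer (tr_mem_Z le_top (cs_mem_Ztop _)) h2
  obtain ⟨ξ, hξ⟩ := block_nonempty hind.1
  rw [lam_bIdS_cs hind.1 hξ ⟨h, hh⟩, ← lam_bId_cs hind.1 hξ] at h4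
  obtain ⟨h', h5, h6, h7⟩ := exists_conj_center hind.1 ((isDefectGroup_iff hind.1).1 hD) h4
  obtain ⟨c, hc⟩ := isConj_iff.1 ((cjIn_of_coeff_cs_ne_zero (coeff_tr_ne_zero.1 h3).2).isConj.trans
    (H.subtype.map_isConj h5))
  have h8 := isPPart_conj (isPPart_mul (Subgroup.mem_centralizer_singleton_iff.1 (h1.le hx))
    (exists_orderOf_eq_pow h1.pgroup hx) (not_dvd_of_defectClass hind.2.1 hy)) c
  rw [hc] at h8
  obtain ⟨z, hz, h9⟩ := isPPart_subtype (g := h') h8
  refine ⟨c, ⟨z, h7 z h9, hz⟩, ?_⟩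
  rintro _ ⟨w, hw, rfl⟩
  rw [← hz]
  exact (congrArg Subtype.val (isPPart_mem h9 h6 w hw)).symm

end Cfsg.Agent.S0930
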