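import Cfsg.Statements.S0931
import Cfsg.Agent.H4.Pairs3
import Cfsg.Agent.S0930

set_option autoImplicit false
open Cfsg

namespace Cfsg.Agent.S0931

open CfsgH4 CfsgH3 CfsgH2 MonoidAlgebra

/-- Let H be a subgroup of the finite group G and fix a maximal ideal M of the algebraic integers containing the prime p. If the block b of H induces the block B of G, then b has defect 0 if and only if B has defect 0. -/
theorem result {G : Type*} [Group G] [Finite G] (p : ℕ) [Fact p.Prime] (M : Ideal Cfsg.AlgInt) (hM : Cfsg.IsPModular p M) (H : Subgroup G) (b : Set (Cfsg.IrrCharacter H)) (B : Set (Cfsg.IrrCharacter G)) (hind : Cfsg.IsInducedBlock M H b B) : Cfsg.blockDefect p b = 0 ↔ Cfsg.blockDefect p B = 0 := by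
  have := hM.2.1
  have := charP_of_isPModular hM
  refine ⟨fun h => ?_, fun h => Nat.le_zero.1 (h ▸ blockDefect_le_of_induced hind)⟩
  obtain ⟨D, hD⟩ := exists_isDef_blk p hind.1
  obtain ⟨P, hP⟩ := exists_isDef_blk p hind.2.1
  rw [blockDefect_eq_zero_iff hind.1 hD] at h
  rw [blockDefect_eq_zero_iff hind.2.1 hP]
  by_contra hne
  obtain ⟨y, hy, hyc, hyo⟩ := exists_center_orderOf hP.pgroup hne
  obtain ⟨g, hg, -⟩ := S0930.result p M hM H b B hind D ((isDefectGroup_iff hind.1).2 hD) P
    ((isDefectGroup_iff hind.2.1).2 hP) y hy fun w hw => (hyc w hw).symm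
  rw [h, Subgroup.map_bot, Subgroup.mem_bot] at hg
  rw [← orderOf_conj' g, hg, orderOf_one] at hyo
  exact (Fact.out : p.Prime).one_lt.ne hyo

end Cfsg.Agent.S0931
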