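import Cfsg.Statements.S0933
import Cfsg.Agent.H4.Pairs3
import Cfsg.Agent.S0932

set_option autoImplicit false
open Cfsg

namespace Cfsg.Agent.S0933

open CfsgH4 CfsgH3 CfsgH2 MonoidAlgebra

/-- Let H be a subgroup of the finite group G and ξ an irreducible character of H such that the induced function ξ^G is an irreducible character of G. Then, relative to any maximal ideal M of the algebraic integers containing the prime p, the block of ξ induces the block of ξ^G. -/
theorem result {G : Type*} [Group G] [Fintype G] (p : ℕ) [Fact p.Prime] (M : Ideal Cfsg.AlgInt) (hM : Cfsg.IsPModular p M) (H : Subgroup G) (ξ : Cfsg.IrrCharacter H) (hind : Cfsg.IsIrrCharacter G (Cfsg.indFun H (ξ : H → ℂ))) : Cfsg.IsInducedBlock M H (Cfsg.blockOf M (ξ : H → ℂ)) (Cfsg.blockOf M (Cfsg.indFun H (ξ : H → ℂ))) := by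
  have := hM.2.1
  have := charP_of_isPModular hM
  have hb := isPBlock_blockOf (M := M) ξ
  have hB := isPBlock_blockOf' (M := M) hind
  refine (isInducedBlock_iff' hb hB).2 (ind_of_cs le_top (isPrim_bIdS hb) (isPrim_bId hB)
    fun x _ => ?_)
  rw [lam_bId_cs hB (mem_blockOf_self ⟨_, hind⟩), ← redA_cs,
    lam_bIdS hb (mem_blockOf_self ξ) (Fix_anti le_top (cs_mem_Fix _ _)) (cs_mem_SG _ _),
    ← inducedCentralChar_eq, S0932.result H _ ξ.2.isChar]

end Cfsg.Agent.S0933
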