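import Cfsg.Statements.S0934
import Cfsg.Agent.H4.Pairs3

set_option autoImplicit false
open Cfsg

namespace Cfsg.Agent.S0934

open CfsgH4 CfsgH3 CfsgH2 MonoidAlgebra

/-- Let H be a subgroup of the finite group G and fix a maximal ideal M of the algebraic integers containing the prime p. If the block b of H induces the block B of G and ξ ∈ b, then there is χ ∈ B whose restriction to H has nonzero inner product with ξ. -/
theorem result {G : Type*} [Group G] [Fintype G] (p : ℕ) [Fact p.Prime] (M : Ideal Cfsg.AlgInt) (hM : Cfsg.IsPModular p M) (H : Subgroup G) [Fintype H] (b : Set (Cfsg.IrrCharacter H)) (B : Set (Cfsg.IrrCharacter G)) (hind : Cfsg.IsInducedBlock M H b B) (ξ : Cfsg.IrrCharacter H) (hξ : ξ ∈ b) : ∃ χ ∈ B, Cfsg.classInner (fun h : H => (χ : G → ℂ) h) (ξ : H → ℂ) ≠ 0 := by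
  have := hM.2.1
  have := charP_of_isPModular hM
  obtain ⟨χ, hχ⟩ := block_nonempty hind.2.1
  have h1 := red_om_res_of_induced hind hξ hχ (eSet_mem_Fix B) (eSet_mem_SG hind.2.1)
  rw [om_eSet_of_mem hχ, red_one] at h1
  by_contra hcon
  push Not at hcon
  have h2 : ev ξ.1 (res H (eSet B)) = 0 := by
    rw [ev_apply]
    simp only [coeff_res, coeff_eSet, blockCoeff_eq, Finset.mul_sum, Finset.sum_mul]
    rw [Finset.sum_comm]
    refine Finset.sum_eq_zero fun ψ hψ => ?_
    have h3 := inner_eq_zero_symm.1 (hcon ψ (mem_irrF.1 hψ))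
    rw [classInner, mul_eq_zero, inv_eq_zero] at h3
    have h4 := h3.resolve_left (card_ne_zero_complex H)
    calc _ = (Nat.card G : ℂ)⁻¹ * ψ.1 1 * ∑ h : H, ξ.1 h * (starRingEnd ℂ) (ψ.1 h) := by
          rw [Finset.mul_sum]
          exact Finset.sum_congr rfl fun h _ => by ring
      _ = 0 := by rw [h4, mul_zero]
  rw [om_apply, h2, zero_div, red_zero] at h1
  exact zero_ne_one h1

end Cfsg.Agent.S0934
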