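import Cfsg.Statements.S0937
import Cfsg.Agent.H4.Height

set_option autoImplicit false
open Cfsg

namespace Cfsg.Agent.S0937

open CfsgH4 CfsgH3 CfsgH2 MonoidAlgebra

/-- Let H be a subgroup of the finite group G and fix a maximal ideal M of the algebraic integers containing the prime p. If the block b of H induces the block B of G and χ ∈ B has height zero, then there is ξ ∈ b of height zero whose multiplicity in the restriction of χ to H is a natural number not divisible by p. -/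
theorem result {G : Type*} [Group G] [Fintype G] (p : ℕ) [Fact p.Prime] (M : Ideal Cfsg.AlgInt) (hM : Cfsg.IsPModular p M) (H : Subgroup G) [Fintype H] (b : Set (Cfsg.IrrCharacter H)) (B : Set (Cfsg.IrrCharacter G)) (hind : Cfsg.IsInducedBlock M H b B) (χ : Cfsg.IrrCharacter G) (hχ : χ ∈ B) (h0 : Cfsg.blockHeight p B (χ : G → ℂ) = 0) : ∃ ξ ∈ b, Cfsg.blockHeight p b (ξ : H → ℂ) = 0 ∧ ∃ n : ℕ, Cfsg.classInner (fun h : H => (χ : G → ℂ) h) (ξ : H → ℂ) = (n : ℂ) ∧ ¬ p ∣ n := by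
  have := hM.2.1
  have := charP_of_isPModular hM
  obtain ⟨η, hη⟩ := block_nonempty hind.1
  have h1 := red_om_tReg_ne_zero hind.2.1 hχ h0 hχ
  obtain ⟨m, hm, hm'⟩ := (χ.2.isChar.restrict H).exists_coeff
  rw [← red_om_res_of_induced hind hη hχ (tReg_mem_Fix χ.2.classFun) (tReg_mem_SG (irr_mem_Loc χ)),
    res_tReg, hm', tReg_sum, map_sum] at h1
  simp only [map_smul, smul_eq_mul] at h1
  rw [red_sum _ _ fun ξ _ => mul_mem (natCast_mem _ _) (om_tReg_mem_Loc ξ η)] at h1
  obtain ⟨ξ, -, h2⟩ := Finset.exists_ne_zero_of_sum_ne_zero h1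
  rw [red_mul (natCast_mem _ _) (om_tReg_mem_Loc ξ η), mul_ne_zero_iff,
    red_om_tReg_ne_zero_iff hind.1 hη] at h2
  exact ⟨ξ, h2.2.1, h2.2.2, m ξ, hm ξ, fun h => h2.1 (red_natCast_eq_zero_iff.2 h)⟩

end Cfsg.Agent.S0937
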