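import Cfsg.Statements.S0940
import Cfsg.Agent.H4.Rob2

set_option autoImplicit false
open Cfsg

namespace Cfsg.Agent.S0940

open CfsgH4 CfsgH3 CfsgH2 MonoidAlgebra

theorem card_aux {G : Type*} [Group G] (p : ℕ) (g : G) :
    Nat.card {xy : G × G // (∃ k : ℕ, orderOf xy.1 = p ^ k) ∧ ¬ p ∣ orderOf xy.2 ∧
      xy.1 * xy.2 = g} = Nat.card {y : G // ¬ p ∣ orderOf y ∧ ∃ k, orderOf (y * g⁻¹) = p ^ k} := by
  refine Nat.card_congr ⟨fun xy => ⟨xy.1.2, xy.2.2.1, ?_⟩, fun y => ⟨(g * y.1⁻¹, y.1), ?_, y.2.1, ?_⟩,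
    fun xy => Subtype.ext (Prod.ext ?_ rfl), fun y => rfl⟩
  · obtain ⟨⟨x, y⟩, h1, -, rfl⟩ := xy
    rw [← orderOf_inv]; simpa using h1
  · rw [← orderOf_inv]; simpa using y.2.2
  · simp
  · obtain ⟨⟨x, y⟩, h1, h2, rfl⟩ := xy
    simp

/-- Let G be a finite group and M a maximal ideal of the algebraic integers containing the prime p. For every p-regular g, the idempotent coefficient of the principal block at g (the inverse of the group order times the sum over χ in the principal block of χ 1 * conj (χ g)) is congruent modulo the local ideal at M to N / R, where N is the number of pairs (x, y) with x of p-power order, y of order prime to p and x * y = g, and R is the number of elements of G of order prime to p. -/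
theorem result {G : Type*} [Group G] [Finite G] (p : ℕ) [Fact p.Prime] (M : Ideal Cfsg.AlgInt) (hM : Cfsg.IsPModular p M) (g : G) (hg : ¬ p ∣ orderOf g) : Cfsg.MemLocalIdeal M (Cfsg.blockCoeff (Cfsg.principalBlock M G) g - (Nat.card {xy : G × G // (∃ k : ℕ, orderOf xy.1 = p ^ k) ∧ ¬ p ∣ orderOf xy.2 ∧ xy.1 * xy.2 = g} : ℂ) / (Nat.card {y : G // ¬ p ∣ orderOf y} : ℂ)) := by
  classical
  have := hM.2.1
  have := charP_of_isPModular hM
  have := Fintype.ofFinite G
  set R : ℂ[G] := hat ℂ {g : G | ¬ p ∣ orderOf g} with hR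
  have hRF : R ∈ Fix ℂ ⊤ := by rw [hR, ← tReg_one]; exact tReg_mem_Fix (isClassFunction_const 1)
  have hRS : R ∈ SG M G := hat_mem_SG _
  have hB := isPBlock_principal (M := M) (G := G)
  have hL := LC_pInd G M
  have h1 : om (fun _ : G => (1 : ℂ)) R = Nat.card {y : G // ¬ p ∣ orderOf y} := by
    rw [om_apply, div_one, ev_apply, Nat.card_eq_fintype_card, Fintype.card_subtype]
    simp only [hR, coeff_hat, mul_one, Set.mem_ofPred_eq, Finset.card_filter]
    push_cast
    exact Finset.sum_congr rfl fun x _ => by congr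
  have h2 : red M (Nat.card {y : G // ¬ p ∣ orderOf y} : ℂ) ≠ 0 := by
    rw [← h1]
    exact (mem_principal_iff (M := M) (p := p) (χ := ⟨fun _ : G => 1, isIrr_one⟩)).1 one_mem_principal
  have h3 : (Nat.card {xy : G × G // (∃ k : ℕ, orderOf xy.1 = p ^ k) ∧ ¬ p ∣ orderOf xy.2 ∧
      xy.1 * xy.2 = g} : ℂ) = ev (pInd p) (R * single g⁻¹ 1) := by
    rw [card_aux, ev_mul_eq, Nat.card_eq_fintype_card, Fintype.card_subtype, Finset.card_filter]
    push_cast
    refine Finset.sum_congr rfl fun v _ => ?_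
    simp only [coeff_single, Finsupp.single_apply, mul_ite, mul_one, mul_zero, ite_mul, zero_mul,
      Finset.sum_ite_eq, Finset.mem_univ, if_true]
    simp only [hR, coeff_hat, Set.mem_ofPred_eq, pInd]
    by_cases h : p ∣ orderOf v <;> by_cases h' : ∃ k, orderOf (v * g⁻¹) = p ^ k <;> simp [h, h']
  have h4 : blockPart (principalBlock M G) (pInd p) g⁻¹ = blockCoeff (principalBlock M G) g := by
    rw [blockPart_congr (eSet_mem_SG hB) (isSecUnion_reg (p := p))
      (ϑ' := fun x => if x = 1 then 1 else 0) (fun x hx => ?_) (by simpa using hg), blockPart_apply',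
      blockCoeff_eq]
    · simp only [ite_mul, one_mul, zero_mul, Finset.sum_ite_eq', Finset.mem_univ, if_true, inv_one]
      congr 1
      exact Finset.sum_congr rfl fun χ _ => by rw [χ.2.isChar.apply_inv, mul_comm]
    · split_ifs with h
      · exact pInd_of ⟨0, by simp [h]⟩
      · refine pInd_of_not fun ⟨k, hk⟩ => h ?_
        rcases k with _ | k
        · simpa using hk
        · exact absurd (hk ▸ dvd_pow_self p k.succ_ne_zero) hx
  have h5 : red M (ev (pInd p) (R * single g⁻¹ 1)) =
      red M (Nat.card {y : G // ¬ p ∣ orderOf y} : ℂ) * red M (blockCoeff (principalBlock M G) g) := by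
    rw [← h4, blockPart_apply, ev_eq_sum_inner pInd_classFun,
      ← Finset.sum_subset (Finset.subset_univ (irrF (principalBlock M G))) fun χ _ hχ => ?_]
    · rw [red_sum _ _ fun χ _ => mul_mem (hL.inner χ) (ev_mem_Loc (irr_mem_Loc χ)
        (mul_mem hRS (single_mem_SG _ (one_mem _)))),
        red_sum _ _ fun χ _ => mul_mem (hL.inner χ) (irr_mem_Loc χ _)]
      refine Eq.trans ?_ (Finset.mul_sum _ _ _).symm
      refine Finset.sum_congr rfl fun χ hχ => ?_
      rw [ev_mul_of_central χ.2 hRF, ev_single, one_mul, red_mul (hL.inner χ)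
        (mul_mem (om_mem_Loc χ.2 hRF hRS) (irr_mem_Loc _ _)), red_mul (om_mem_Loc χ.2 hRF hRS)
        (irr_mem_Loc _ _), red_mul (hL.inner χ) (irr_mem_Loc _ _), ← h1,
        red_om_eq_of_sameBlock isIrr_one χ.2 (mem_irrF.1 hχ) hRF hRS]
      ring
    · rw [ev_mul_of_central χ.2 hRF, hR, ← tReg_one, om_tReg_eq_zero (eSet_mem_SG hB)
        (χ := ⟨_, isIrr_one⟩) one_mem_principal (by simpa using hχ), zero_mul, mul_zero]
  rw [memLocalIdeal_sub_iff (blockCoeff_mem_Loc hB g) (div_mem_Loc (natCast_mem _ _) h2),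
    red_div' (natCast_mem _ _) h2, h3, h5, mul_div_cancel_left₀ _ h2]

end Cfsg.Agent.S0940
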