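import Cfsg.Statements.S0947
import Cfsg.Agent.H4.Rob2

set_option autoImplicit false
open Cfsg

namespace Cfsg.Agent.S0947

open CfsgH4 CfsgH3 CfsgH2 MonoidAlgebra

/-- Let z ≠ 1 be a p-element of the finite group G with centralizer H, and fix a maximal ideal M of the algebraic integers containing p. (i) For every y ∈ H of order prime to p, the sum over ζ in the principal block of G of |ζ (z * y)|² equals the sum over χ in the principal block of H of |χ y|². (ii) If moreover H has a normal p-complement (its largest normal subgroup of order prime to p has p-power index), that common value is the largest power of p dividing the order of H. -/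
theorem result {G : Type*} [Group G] [Finite G] (p : ℕ) [Fact p.Prime] (M : Ideal Cfsg.AlgInt) (hM : Cfsg.IsPModular p M) (z : G) (hz : ∃ k : ℕ, orderOf z = p ^ k) (hz1 : z ≠ 1) (y : Subgroup.centralizer ({z} : Set G)) (hy : ¬ p ∣ orderOf y) : (∑ᶠ ζ ∈ Cfsg.principalBlock M G, ‖(ζ : G → ℂ) (z * (y : G))‖ ^ 2 = ∑ᶠ χ ∈ Cfsg.principalBlock M (Subgroup.centralizer ({z} : Set G)), ‖(χ : Subgroup.centralizer ({z} : Set G) → ℂ) y‖ ^ 2) ∧ ((∃ k : ℕ, (Cfsg.pPrimeCore p (Subgroup.centralizer ({z} : Set G))).index = p ^ k) → ∑ᶠ ζ ∈ Cfsg.principalBlock M G, ‖(ζ : G → ℂ) (z * (y : G))‖ ^ 2 = ((p ^ (Nat.card (Subgroup.centralizer ({z} : Set G))).factorization p : ℕ) : ℝ)) := by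
  have := hM.2.1
  have := charP_of_isPModular hM
  have hc : Commute z y := (Subgroup.mem_centralizer_singleton_iff.1 y.2).symm
  let z' : (Subgroup.centralizer ({z} : Set G)) := ⟨z, mem_centralizer_self z⟩
  have h1 : IsPPart p ((z' * y : (Subgroup.centralizer ({z} : Set G))) : G) z := isPPart_mul hc hz (by simpa using hy)
  have h2 := sum_mul_conj_eq_indSet h1 h1 (isPBlock_principal (M := M))
  rw [indSet_principal hz] at h2
  simp only [Complex.mul_conj, Complex.normSq_eq_norm_sq] at h2
  have h3 : ∑ ζ ∈ irrF (principalBlock M G), ‖ζ.1 (z * y)‖ ^ 2 =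
      ∑ ξ ∈ irrF (principalBlock M (Subgroup.centralizer ({z} : Set G))), ‖ξ.1 y‖ ^ 2 := by
    refine Eq.trans (by exact_mod_cast h2) (Finset.sum_congr rfl fun ξ _ => ?_)
    obtain ⟨ω, h4, h5⟩ := ξ.2.exists_scalar_of_mem_center (z := z') (Subgroup.mem_center_iff.2
      fun c => Subtype.ext (Subgroup.mem_centralizer_singleton_iff.1 c.2))
    rw [h5, norm_mul, norm_eq_one_of_pow_eq_one' (orderOf_pos _).ne' h4, one_mul]
  rw [finsum_mem_irr, finsum_mem_irr, h3]
  refine ⟨rfl, fun ⟨k, hk⟩ => ?_⟩
  have hK := CfsgH1.not_dvd_card_pPrimeCore p (Subgroup.centralizer ({z} : Set G))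
  have h4 := congrArg (fun a : ℂ[(Subgroup.centralizer ({z} : Set G))] => a.coeff 1) (eSet_principal_of_npc (M := M) hK hk)
  have h5 : (Nat.card (Subgroup.centralizer ({z} : Set G))).factorization p = k := by
    rw [← factorization_card_add_index (p := p) (pPrimeCore p (Subgroup.centralizer ({z} : Set G))), hk,
      Nat.factorization_eq_zero_of_not_dvd hK, (Fact.out : p.Prime).factorization_pow]
    simp
  simp only [coeff_eSet, blockCoeff_eq, avg, coeff_smul, Finsupp.smul_apply, smul_eq_mul,
    coeff_hat_of_mem (show (1 : (Subgroup.centralizer ({z} : Set G))) ∈ ((pPrimeCore p (Subgroup.centralizer ({z} : Set G)) : Subgroup (Subgroup.centralizer ({z} : Set G))) : Set (Subgroup.centralizer ({z} : Set G))) from one_mem _),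
    mul_one, Complex.mul_conj, Complex.normSq_eq_norm_sq] at h4
  rw [card_eq_card_mul_index (pPrimeCore p (Subgroup.centralizer ({z} : Set G))), hk, mul_inv, mul_assoc,
    mul_eq_left₀ (inv_ne_zero (card_ne_zero_complex _)), inv_mul_eq_one₀
      (by exact_mod_cast pow_ne_zero k (Fact.out : p.Prime).ne_zero)] at h4
  rw [h5]
  refine Eq.trans (Finset.sum_congr rfl fun ξ hξ => ?_) (by exact_mod_cast h4.symm)
  rw [ker_of_mem_principal (mem_irrF.1 hξ) hK y (mem_of_not_dvd_orderOf hk hy)]

end Cfsg.Agent.S0947
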