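import Cfsg.Statements.S0948
import Cfsg.Agent.H2.KleinBlock

set_option autoImplicit false
open Cfsg

namespace Cfsg.Agent.S0948
open Subgroup CfsgH2
open scoped commutatorElement

open CfsgH3 CfsgH4 in
theorem aux {G : Type*} [Group G] [Finite G] (M : Ideal Cfsg.AlgInt) (P : Sylow 2 G) (hP : IsKleinFour (P : Subgroup G)) (ζ₂ ζ₃ ζ₄ : Cfsg.IrrCharacter G) (ε : ℤ) (hε : ε = 1 ∨ ε = -1)
    (h2 : (ζ₂ : G → ℂ) ≠ (fun _ => 1)) (h3 : (ζ₃ : G → ℂ) ≠ (fun _ => 1)) (h23 : ζ₂ ≠ ζ₃)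
    (h24 : ζ₂ ≠ ζ₄) (h34 : ζ₃ ≠ ζ₄)
    (hB : ∀ χ, χ ∈ Cfsg.principalBlock M G ↔ (χ : G → ℂ) = (fun _ => 1) ∨ χ = ζ₂ ∨ χ = ζ₃ ∨ χ = ζ₄)
    (v2 : ∀ z : G, 2 ∣ orderOf z → (ζ₂ : G → ℂ) z = (1 : ℤ))
    (v3 : ∀ z : G, 2 ∣ orderOf z → (ζ₃ : G → ℂ) z = ε)
    (v4 : ∀ z : G, 2 ∣ orderOf z → (ζ₄ : G → ℂ) z = (-1 : ℤ))
    (h : ∀ y : G, ¬ 2 ∣ (orderOf y) → 1 + (ζ₂ : G → ℂ) y + (ε : ℂ) * (ζ₃ : G → ℂ) y - (ζ₄ : G → ℂ) y = 0) :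
    ∃ ζ₂ ζ₃ ζ₄ : Cfsg.IrrCharacter G, ∃ ε : ℤ, (ε = 1 ∨ ε = -1) ∧ (ζ₂ : G → ℂ) ≠ (fun _ => 1) ∧ (ζ₃ : G → ℂ) ≠ (fun _ => 1) ∧ ζ₂ ≠ ζ₃ ∧ ζ₂ ≠ ζ₄ ∧ ζ₃ ≠ ζ₄ ∧ Cfsg.principalBlock M G = {χ : Cfsg.IrrCharacter G | (χ : G → ℂ) = (fun _ => 1) ∨ χ = ζ₂ ∨ χ = ζ₃ ∨ χ = ζ₄} ∧ (∀ z : G, orderOf z = 2 → (ζ₂ : G → ℂ) z = 1 ∧ (ζ₃ : G → ℂ) z = (ε : ℂ) ∧ (ζ₄ : G → ℂ) z = -1) ∧ (4 : ℤ) ∣ (Cfsg.charDegree (ζ₂ : G → ℂ) : ℤ) - 1 ∧ (4 : ℤ) ∣ (Cfsg.charDegree (ζ₃ : G → ℂ) : ℤ) - ε ∧ (4 : ℤ) ∣ (Cfsg.charDegree (ζ₄ : G → ℂ) : ℤ) + 1 ∧ ∀ y : G, Odd (orderOf y) → 1 + (ζ₂ : G → ℂ) y + (ε : ℂ) * (ζ₃ : G → ℂ) y - (ζ₄ : G → ℂ) y = 0 := by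
  have ho : ∀ x ∈ (P : Subgroup G), x ≠ 1 → 2 ∣ orderOf x := fun x hx h1 =>
    (orderOf_two_of ((isKleinFour_iff.1 hP).2 x hx) h1).symm.dvd
  refine ⟨ζ₂, ζ₃, ζ₄, ε, hε, h2, h3, h23, h24, h34, Set.ext hB, fun z hz => ⟨?_, v3 z hz.symm.dvd, ?_⟩,
    four_dvd_deg_sub hP ζ₂.2.isChar fun x hx h1 => v2 x (ho x hx h1),
    four_dvd_deg_sub hP ζ₃.2.isChar fun x hx h1 => v3 x (ho x hx h1), ?_,
    fun y hy => h y hy.not_two_dvd_nat⟩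
  · simpa using v2 z hz.symm.dvd
  · simpa using v4 z hz.symm.dvd
  · simpa using four_dvd_deg_sub hP ζ₄.2.isChar fun x hx h1 => v4 x (ho x hx h1)

/-- Let the finite group G have a Sylow 2-subgroup P that is a Klein four-group, suppose all involutions of G are conjugate, and fix a maximal ideal M of the algebraic integers containing 2. Then the principal block consists of exactly four irreducible characters, the principal character and ζ₂, ζ₃, ζ₄, and there is a sign ε such that for every involution z: ζ₂ z = 1, ζ₃ z = ε, ζ₄ z = -1; moreover ζ₂ 1 ≡ 1, ζ₃ 1 ≡ ε, ζ₄ 1 ≡ -1 (mod 4), and 1 + ζ₂ y + ε ζ₃ y - ζ₄ y = 0 for every y of odd order. -/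
theorem result {G : Type*} [Group G] [Finite G] (M : Ideal Cfsg.AlgInt) (hM : Cfsg.IsPModular 2 M) (P : Sylow 2 G) (hP : IsKleinFour (P : Subgroup G)) (hone : ∀ s t : G, orderOf s = 2 → orderOf t = 2 → IsConj s t) : ∃ ζ₂ ζ₃ ζ₄ : Cfsg.IrrCharacter G, ∃ ε : ℤ, (ε = 1 ∨ ε = -1) ∧ (ζ₂ : G → ℂ) ≠ (fun _ => 1) ∧ (ζ₃ : G → ℂ) ≠ (fun _ => 1) ∧ ζ₂ ≠ ζ₃ ∧ ζ₂ ≠ ζ₄ ∧ ζ₃ ≠ ζ₄ ∧ Cfsg.principalBlock M G = {χ : Cfsg.IrrCharacter G | (χ : G → ℂ) = (fun _ => 1) ∨ χ = ζ₂ ∨ χ = ζ₃ ∨ χ = ζ₄} ∧ (∀ z : G, orderOf z = 2 → (ζ₂ : G → ℂ) z = 1 ∧ (ζ₃ : G → ℂ) z = (ε : ℂ) ∧ (ζ₄ : G → ℂ) z = -1) ∧ (4 : ℤ) ∣ (Cfsg.charDegree (ζ₂ : G → ℂ) : ℤ) - 1 ∧ (4 : ℤ) ∣ (Cfsg.charDegree (ζ₃ : G → ℂ) : ℤ) - ε ∧ (4 : ℤ) ∣ (Cfsg.charDegree (ζ₄ : G → ℂ) : ℤ) + 1 ∧ ∀ y : G, Odd (orderOf y) → 1 + (ζ₂ : G → ℂ) y + (ε : ℂ) * (ζ₃ : G → ℂ) y -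 (ζ₄ : G → ℂ) y = 0 := by
  have := hM.2.1
  have := CfsgH4.charP_of_isPModular hM
  letI := Fintype.ofFinite G
  obtain ⟨ζ, ε, h1, h2, h3, h4, h5, h6⟩ := klein_block M (IsSylowIn.of_sylow_top P) hP hone
  have h7 := h6 1 (by simp)
  choose d hd0 hd using fun i => CfsgH3.Cfsg.IsIrrCharacter.exists_deg (ζ i).2
  simp only [Fin.sum_univ_three, hd] at h7
  have h8 : 1 + (ε 0 * d 0 + ε 1 * d 1 + ε 2 * d 2) = 0 := by exact_mod_cast h7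
  have n01 : ζ 0 ≠ ζ 1 := fun e => by simpa using h1 e
  have n02 : ζ 0 ≠ ζ 2 := fun e => by simpa using h1 e
  have n12 : ζ 1 ≠ ζ 2 := fun e => by simpa using h1 e
  simp only [Fin.sum_univ_three] at h6
  simp only [Fin.exists_fin_succ, Fin.succ_zero_eq_one, Fin.succ_one_eq_two, IsEmpty.exists_iff,
    or_false] at h4
  have := hd0 0; have := hd0 1; have := hd0 2
  rcases h3 0 with e0 | e0 <;> rcases h3 1 with e1 | e1 <;> rcases h3 2 with e2 | e2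
  · rw [e0, e1, e2] at h8; omega
  · exact aux M P hP (ζ 0) (ζ 1) (ζ 2) (ε 1) (h3 1) (h2 _) (h2 _) n01 n02 n12 h4
      (e0 ▸ h5 0) (h5 1) (e2 ▸ h5 2) fun y hy => by
        have := h6 y hy; rw [e0, e2] at this; push_cast at this; linear_combination this
  · exact aux M P hP (ζ 0) (ζ 2) (ζ 1) (ε 2) (h3 2) (h2 _) (h2 _) n02 n01 n12.symm
      (fun χ => by rw [h4]; tauto) (e0 ▸ h5 0) (h5 2) (e1 ▸ h5 1) fun y hy => by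
        have := h6 y hy; rw [e0, e1] at this; push_cast at this; linear_combination this
  · exact aux M P hP (ζ 0) (ζ 1) (ζ 2) (ε 1) (h3 1) (h2 _) (h2 _) n01 n02 n12 h4
      (e0 ▸ h5 0) (h5 1) (e2 ▸ h5 2) fun y hy => by
        have := h6 y hy; rw [e0, e2] at this; push_cast at this; linear_combination this
  · exact aux M P hP (ζ 1) (ζ 2) (ζ 0) (ε 2) (h3 2) (h2 _) (h2 _) n12 n01.symm n02.symm
      (fun χ => by rw [h4]; tauto) (e1 ▸ h5 1) (h5 2) (e0 ▸ h5 0) fun y hy => by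
        have := h6 y hy; rw [e0, e1] at this; push_cast at this; linear_combination this
  · exact aux M P hP (ζ 1) (ζ 2) (ζ 0) (ε 2) (h3 2) (h2 _) (h2 _) n12 n01.symm n02.symm
      (fun χ => by rw [h4]; tauto) (e1 ▸ h5 1) (h5 2) (e0 ▸ h5 0) fun y hy => by
        have := h6 y hy; rw [e0, e1] at this; push_cast at this; linear_combination this
  · exact aux M P hP (ζ 2) (ζ 1) (ζ 0) (ε 1) (h3 1) (h2 _) (h2 _) n12.symm n02.symm n01.symm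
      (fun χ => by rw [h4]; tauto) (e2 ▸ h5 2) (h5 1) (e0 ▸ h5 0) fun y hy => by
        have := h6 y hy; rw [e0, e2] at this; push_cast at this; linear_combination this
  · rw [e0, e1, e2] at h8; omega


end Cfsg.Agent.S0948
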