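import Cfsg.Statements.S0949
import Cfsg.Agent.H2.HomoB

set_option autoImplicit false
open Cfsg

namespace Cfsg.Agent.S0949
open Subgroup CfsgH2
open scoped commutatorElement

/-- Let the finite group G have a Sylow 2-subgroup P isomorphic to Z/2^m × Z/2^m with m ≥ 2, and suppose G has no nontrivial normal subgroup of odd order. Then P is normal in G, C_G(P) = P, and the index of P is 1 or 3. -/
theorem result {G : Type*} [Group G] [Finite G] (P : Sylow 2 G) (m : ℕ) (hm : 2 ≤ m) (e : (P : Subgroup G) ≃* Multiplicative (ZMod (2 ^ m) × ZMod (2 ^ m))) (hO : ∀ N : Subgroup G, N.Normal → Odd (Nat.card N) → N = ⊥) : (P : Subgroup G).Normal ∧ Subgroup.centralizer (P : Set G) = (P : Subgroup G) ∧ ((P : Subgroup G).index = 1 ∨ (P : Subgroup G).index = 3) := by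
  obtain ⟨V, h⟩ := ak_of_equiv (by omega) e
  obtain ⟨x, y, h1⟩ := hc_of_equiv e
  exact brauer_index (IsSylowIn.of_sylow_top P) h (h1.card ▸ Nat.pow_le_pow_right two_pos (show 4 ≤ 2 * m by omega))
    (CfsgH1.pPrimeCore_eq_bot_iff.2 fun N a b => hO N a (coprime_two_iff_odd.1 b))


end Cfsg.Agent.S0949
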