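import Cfsg.Statements.S0950
import Cfsg.Agent.H2.Q8b

set_option autoImplicit false
open Cfsg

namespace Cfsg.Agent.S0950
open Subgroup CfsgH2
open scoped commutatorElement

/-- Let S be a Sylow 2-subgroup of the finite group G that is isomorphic to the quaternion group of order 8, and suppose S has no normal complement in G. Then any two subgroups of order 4 of S are conjugate by an element of the normalizer of S. -/
theorem result {G : Type*} [Group G] [Finite G] (S : Sylow 2 G) (e : (S : Subgroup G) ≃* QuaternionGroup 2) (hnc : ∀ N : Subgroup G, N.Normal → ¬ Subgroup.IsComplement' N (S : Subgroup G)) (A B : Subgroup G) (hA : A ≤ S) (hB : B ≤ S) (hA4 : Nat.card A = 4) (hB4 : Nat.card B = 4) : ∃ n ∈ Subgroup.normalizer ((S : Subgroup G) : Set G), B = A.map (MulAut.conj n).toMonoidHom := by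
  obtain ⟨a, b, h, ho⟩ := exists_idx2_of_quaternion e
  have hS := IsSylowIn.of_sylow_top S
  obtain ⟨g, hg, hgo, hga⟩ := exists_odd_q8 hS h ho fun hN => by
    obtain ⟨N, h1, h2⟩ := (hasNPC_iff_sylow S).1 hN
    exact hnc N h1 h2
  have key : ∀ A : Subgroup G, A ≤ S → Nat.card A = 4 →
      ∃ x ∈ (S : Subgroup G), zpowers x = A ∧ x ∉ zpowers (a ^ (2 : ℤ)) := by
    intro A hA hA4
    rcases h.cyclic_or_eq_q8 ho hA with h1 | h1
    · obtain ⟨x, rfl⟩ := isCyclic_iff_zpowers.1 h1
      refine ⟨x, hA (mem_zpowers x), rfl, notMem_sq_of ho ?_⟩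
      rw [Nat.card_zpowers] at hA4
      rw [← pow_two, Ne, ← orderOf_dvd_iff_pow_eq_one, hA4]; norm_num
    · rw [h1, h.card, ho] at hA4; omega
  obtain ⟨x, hx, rfl, hx'⟩ := key A hA hA4
  obtain ⟨y, hy, rfl, hy'⟩ := key B hB hB4
  obtain ⟨n, hn, e⟩ := conj_q8' h ho hg hgo hga hx hy hx' hy'
  exact ⟨n, hn, by rw [cj_def, cj_zpowers, e]⟩


end Cfsg.Agent.S0950
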