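import Cfsg.Statements.S0951
import Cfsg.Agent.H2.Q8b

set_option autoImplicit false
open Cfsg

namespace Cfsg.Agent.S0951
open Subgroup CfsgH2
open scoped commutatorElement

open CfsgH3 CfsgH4 Cfsg in
theorem aux {G : Type*} [Group G] [Fintype G] {B : Set (IrrCharacter G)} {ι : Type*} [Fintype ι]
    {f : ι → G → ℂ} (h1 : ∀ i, IsDirr (f i)) (h2 : ∀ i j, i ≠ j → classInner (f i) (f j) = 0)
    (h3 : ∀ i, InB B (f i)) (h4 : ∀ χ ∈ B, (∀ i, classInner χ (f i) = 0) → False) :
    Nat.card B = Nat.card ι := by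
  choose ε ψ hε hψ e using fun i => (h1 i).exists_sign
  have hε0 : ∀ i, (ε i : ℂ) ≠ 0 := fun i => by rcases hε i with e | e <;> simp [e]
  have hB : ∀ i, (⟨ψ i, hψ i⟩ : IrrCharacter G) ∈ B := fun i => by
    refine mem_of_inB ?_
    have := (h3 i).smul (ε i : ℂ)⁻¹
    rwa [e i, smul_smul, inv_mul_cancel₀ (hε0 i), one_smul] at this
  refine (Nat.card_eq_of_bijective (fun i => (⟨_, hB i⟩ : B)) ⟨fun i j hij => ?_, ?_⟩).symm
  · by_contra h5
    have h6 := h2 i j h5
    have h7 : ψ i = ψ j := congrArg (fun x : B => x.1.1) hij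
    rw [e i, e j, CfsgH3.inner_smul_left, CfsgH3.inner_smul_right, h7, (hψ j).inner_self] at h6
    simp [hε0] at h6
  · rintro ⟨χ, hχ⟩
    by_contra h5
    push Not at h5
    refine h4 χ hχ fun i => ?_
    rw [e i, CfsgH3.inner_smul_right, χ.2.inner_of_ne (hψ i), mul_zero]
    exact fun h6 => h5 i (Subtype.ext (Subtype.ext h6.symm))

/-- Let S be a Sylow 2-subgroup of the finite group G isomorphic to the quaternion group of order 8. Suppose G has no nontrivial normal subgroup of odd order and G ≠ S. Then, relative to any maximal ideal M of the algebraic integers containing 2, the principal block of G consists of exactly 7 irreducible characters. -/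
theorem result {G : Type*} [Group G] [Finite G] (M : Ideal Cfsg.AlgInt) (hM : Cfsg.IsPModular 2 M) (S : Sylow 2 G) (e : (S : Subgroup G) ≃* QuaternionGroup 2) (hO : ∀ N : Subgroup G, N.Normal → Odd (Nat.card N) → N = ⊥) (hG : (S : Subgroup G) ≠ ⊤) : Nat.card (Cfsg.principalBlock M G) = 7 := by
  have := hM.2.1
  have := CfsgH4.charP_of_isPModular hM
  letI := Fintype.ofFinite G
  obtain ⟨a, b, h, ho⟩ := exists_idx2_of_quaternion e
  have hS := IsSylowIn.of_sylow_top S
  obtain ⟨α, β, hα, hβ, h1, h2, h3, h4, h5, h6, h7, -, -, -, h8⟩ := q8_main hS h ho M fun hN => by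
    have h1 := hS.sup_resIn
    rw [hO _ (resIn_normal ⊤) (odd_card_resIn (hasNPC_top_iff.2 hN)), sup_bot_eq] at h1
    exact hG h1
  rw [aux (ι := Option (Fin 3 ⊕ Fin 3)) (f := fun i => i.elim (fun _ => 1) (Sum.elim α β))]
  · simp
  · rintro (_ | i | i)
    exacts [dirr_one, hα i, hβ i]
  · rintro (_ | i | i) (_ | j | j) hij
    · exact absurd rfl hij
    · exact CfsgH3.inner_eq_zero_symm.1 (h1 j)
    · exact CfsgH3.inner_eq_zero_symm.1 (h2 j)
    · exact h1 i
    · exact h3 i j fun e => hij (by rw [e])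
    · exact h5 i j
    · exact h2 i
    · exact CfsgH3.inner_eq_zero_symm.1 (h5 j i)
    · exact h4 i j fun e => hij (by rw [e])
  · rintro (_ | i | i)
    exacts [inB_one, h6 i, h7 i]
  · intro χ hχ h9
    refine h8 χ hχ (fun e => ?_) (fun i => h9 (some (Sum.inl i))) (fun i => h9 (some (Sum.inr i)))
    have := h9 none
    rw [e] at this
    exact one_ne_zero (ip_one_one.symm.trans this)


end Cfsg.Agent.S0951
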