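import Cfsg.Statements.S0954
import Cfsg.Agent.H4.Cover2

set_option autoImplicit false
open Cfsg

namespace Cfsg.Agent.S0954

open CfsgH4 CfsgH3 CfsgH2 MonoidAlgebra

/-- Let N be a normal subgroup of the finite group G of order prime to p and of p-power index (a normal p-complement), and fix a maximal ideal M of the algebraic integers containing p. Then two irreducible characters χ, ψ of G lie in the same block if and only if some irreducible character of N has nonzero inner product with both the restriction of χ and the restriction of ψ. -/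
theorem result {G : Type*} [Group G] [Fintype G] (p : ℕ) [Fact p.Prime] (M : Ideal Cfsg.AlgInt) (hM : Cfsg.IsPModular p M) (N : Subgroup G) [N.Normal] [Fintype N] (hN : ¬ p ∣ Nat.card N) (hidx : ∃ k : ℕ, N.index = p ^ k) (χ ψ : Cfsg.IrrCharacter G) : Cfsg.SameBlock M (χ : G → ℂ) (ψ : G → ℂ) ↔ ∃ θ : Cfsg.IrrCharacter N, Cfsg.classInner (fun n : N => (χ : G → ℂ) n) (θ : N → ℂ) ≠ 0 ∧ Cfsg.classInner (fun n : N => (ψ : G → ℂ) n) (θ : N → ℂ) ≠ 0 := by
  have := hM.2.1
  have := charP_of_isPModular hM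
  obtain ⟨k, hk⟩ := hidx
  constructor
  · intro h
    obtain ⟨f, hf, h1⟩ := exists_cover_above (K := N) (isPrim_eChi χ)
    obtain ⟨θ, rfl⟩ := exists_eSetS_of_isPrim hf
    exact ⟨θ, (over_iff χ θ).2 h1, over_of_sameBlock hN h ((over_iff χ θ).2 h1)⟩
  · rintro ⟨θ, h1, h2⟩
    have hθ := isPBlock_singleton (M := M) hN θ
    have hχ := isPBlock_blockOf (M := M) χ
    have hψ := isPBlock_blockOf (M := M) ψ
    have h3 := bId_injective hχ hψ (cover_unique_of_pquot le_top le_normalizer_top
      (mem_of_pregular_of_index hk) (isPrim_bIdS hθ) (isPrim_bId hχ) (isPrim_bId hψ)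
      ((cover_iff hχ hθ).1 ⟨χ, mem_blockOf_self χ, θ, rfl, h1⟩)
      ((cover_iff hψ hθ).1 ⟨ψ, mem_blockOf_self ψ, θ, rfl, h2⟩))
    exact (h3 ▸ mem_blockOf_self ψ : ψ ∈ blockOf M χ.1)

end Cfsg.Agent.S0954
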