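import Cfsg.Statements.S0958
import Cfsg.Agent.H4.Height

set_option autoImplicit false
open Cfsg

namespace Cfsg.Agent.S0958

open CfsgH4 CfsgH3 CfsgH2 MonoidAlgebra

/-- Let P be a p-subgroup of the finite group G and H a subgroup with P ⊔ C_G(P) ≤ H ≤ N_G(P); fix a maximal ideal M of the algebraic integers containing p. Then a block B of G is induced by some block of H if and only if some conjugate of P is contained in a defect group of B. -/
theorem result {G : Type*} [Group G] [Finite G] (p : ℕ) [Fact p.Prime] (M : Ideal Cfsg.AlgInt) (hM : Cfsg.IsPModular p M) (P H : Subgroup G) (hP : IsPGroup p P) (hPH : P ⊔ Subgroup.centralizer (P : Set G) ≤ H) (hHN : H ≤ Subgroup.normalizer (P : Set G)) (B : Set (Cfsg.IrrCharacter G)) (hB : Cfsg.IsPBlock M B) : (∃ b : Set (Cfsg.IrrCharacter H), Cfsg.IsInducedBlock M H b B) ↔ ∃ D : Subgroup G, Cfsg.IsDefectGroup p M B D ∧ ∃ x : G, P.map (MulAut.conj x).toMonoidHom ≤ D := by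
  have := hM.2.1
  have := charP_of_isPModular hM
  have hE := isPrim_bId hB
  have h1 : P ≤ H := le_sup_left.trans hPH
  have h2 : ⊤ ⊓ Subgroup.centralizer (P : Set G) ≤ H := inf_le_right.trans (le_sup_right.trans hPH)
  constructor
  · rintro ⟨b, hb⟩
    obtain ⟨D, hD⟩ := exists_isDefectGroup p hB
    have h3 := (ind_iff_mul_Br_ne_zero hP h1 h2 le_top hHN (isPrim_bIdS hb.1) hE).1
      (ind_of_isInducedBlock hb)
    obtain ⟨n, -, hn⟩ := ((isDefectGroup_iff hB).1 hD).max P le_top hP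
      fun h0 => h3 (by rw [h0, mul_zero])
    exact ⟨D, hD, n, hn⟩
  · rintro ⟨D, hD, x, hx⟩
    obtain ⟨e, he, hind⟩ := exists_ind_of_Br_ne_zero hP h1 h2 le_top hHN hE
      ((((isDefectGroup_iff hB).1 hD).Br_ne_zero_iff hE.mem.2 le_top hP).2 ⟨x, trivial, hx⟩)
    obtain ⟨b, hb, rfl⟩ := exists_block_of_isPrim_S he
    exact ⟨b, (isInducedBlock_iff' hb hB).2 hind⟩

end Cfsg.Agent.S0958
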