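import Cfsg.Statements.S0959
import Cfsg.Agent.H4.Height

set_option autoImplicit false
open Cfsg

namespace Cfsg.Agent.S0959

open CfsgH4 CfsgH3 CfsgH2 MonoidAlgebra

/-- Let B be a block of the finite group G with defect group D (relative to a maximal ideal M of the algebraic integers containing the prime p), and let P be a p-subgroup. Then there is an element g whose idempotent coefficient for B is a local integer outside the local ideal at M and which has a conjugate centralizing P, if and only if some conjugate of P is contained in D. -/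
theorem result {G : Type*} [Group G] [Finite G] (p : ℕ) [Fact p.Prime] (M : Ideal Cfsg.AlgInt) (hM : Cfsg.IsPModular p M) (B : Set (Cfsg.IrrCharacter G)) (hB : Cfsg.IsPBlock M B) (D : Subgroup G) (hD : Cfsg.IsDefectGroup p M B D) (P : Subgroup G) (hP : IsPGroup p P) : (∃ g : G, Cfsg.MemLocalRing M (Cfsg.blockCoeff B g) ∧ ¬ Cfsg.MemLocalIdeal M (Cfsg.blockCoeff B g) ∧ ∃ c : G, IsConj g c ∧ c ∈ Subgroup.centralizer (P : Set G)) ↔ ∃ x : G, P.map (MulAut.conj x).toMonoidHom ≤ D := by
  have := hM.2.1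
  have := charP_of_isPModular hM
  have hE := isPrim_bId hB
  have h1 := ((isDefectGroup_iff hB).1 hD).Br_ne_zero_iff hE.mem.2 le_top hP
  constructor
  · rintro ⟨g, h2, h3, c, hc, hc'⟩
    obtain ⟨n, -, hn⟩ := h1.1 (tr_ne_zero_iff.2 ⟨c, hc', by
      rw [← (cjIn_top.2 hc).coeff_eq hE.mem.2, coeff_bId]
      exact fun h0 => h3 ((memLocalIdeal_iff_red h2).2 h0)⟩)
    exact ⟨n, hn⟩
  · rintro ⟨x, hx⟩
    obtain ⟨c, hc, hc'⟩ := tr_ne_zero_iff.1 (h1.2 ⟨x, trivial, hx⟩)
    exact ⟨c, blockCoeff_mem_Loc hB c,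
      fun h => hc' ((memLocalIdeal_iff_red (blockCoeff_mem_Loc hB c)).1 h), c, IsConj.refl c, hc⟩

end Cfsg.Agent.S0959
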