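import Cfsg.Statements.S0963
import Cfsg.Agent.H4.Cover2

set_option autoImplicit false
open Cfsg

namespace Cfsg.Agent.S0963

open CfsgH4 CfsgH3 CfsgH2 MonoidAlgebra

/-- Let N be a normal subgroup of the finite group G, χ an irreducible character of G and θ an irreducible character of N. Then θ occurs in the restriction of χ to N if and only if, for every n ∈ N, the central character of χ at n (class size in G times χ n over χ 1) equals the sum of θ m / θ 1 over the elements m of N conjugate in G to n. -/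
theorem result {G : Type*} [Group G] [Fintype G] (N : Subgroup G) [N.Normal] [Fintype N] (χ : Cfsg.IrrCharacter G) (θ : Cfsg.IrrCharacter N) : Cfsg.classInner (fun n : N => (χ : G → ℂ) n) (θ : N → ℂ) ≠ 0 ↔ ∀ n : N, Cfsg.centralChar (χ : G → ℂ) (n : G) = Cfsg.inducedCentralChar N (θ : N → ℂ) (n : G) := by
  rw [over_iff, cover_iff_lam_cs le_top le_normalizer_top (isPrim_eChi χ) (isPrim_eSetS_singleton θ)]
  have key : ∀ x ∈ N, (lam ℂ (eChi χ.1) (cs ℂ ⊤ x) = lam ℂ (eSetS N {θ}) (cs ℂ ⊤ x) ↔
      centralChar χ.1 x = inducedCentralChar N θ.1 x) := fun x hx => by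
    rw [lam_eChi χ (cs_mem_Fix ⊤ x), om_cs χ.2.classFun, inducedCentralChar_eq,
      ← lam_eSetS_singleton θ (Fix_anti le_top (cs_mem_Fix ⊤ x)),
      tr_of_mem_Supp (cs_mem_Supp le_normalizer_top hx)]
  exact ⟨fun h n => (key n n.2).1 (h n n.2), fun h x hx => (key x hx).2 (h ⟨x, hx⟩)⟩

end Cfsg.Agent.S0963
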