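import Cfsg.Statements.S0965
import Cfsg.Agent.H4.Cover2

set_option autoImplicit false
open Cfsg

namespace Cfsg.Agent.S0965

open CfsgH4 CfsgH3 CfsgH2 MonoidAlgebra

/-- Let N be a normal subgroup of the finite group G and let B, b be blocks of G and of N relative to a maximal ideal M of the algebraic integers containing the prime p. Then some χ ∈ B has a constituent in b on restriction to N if and only if, for all χ ∈ B, θ ∈ b and n ∈ N, the central character of χ at n is congruent modulo the local ideal at M to the sum of θ m / θ 1 over the elements m ∈ N conjugate in G to n. -/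
theorem result {G : Type*} [Group G] [Fintype G] (p : ℕ) [Fact p.Prime] (M : Ideal Cfsg.AlgInt) (hM : Cfsg.IsPModular p M) (N : Subgroup G) [N.Normal] [Fintype N] (B : Set (Cfsg.IrrCharacter G)) (hB : Cfsg.IsPBlock M B) (b : Set (Cfsg.IrrCharacter N)) (hb : Cfsg.IsPBlock M b) : (∃ χ ∈ B, ∃ θ ∈ b, Cfsg.classInner (fun n : N => (χ : G → ℂ) n) (θ : N → ℂ) ≠ 0) ↔ ∀ χ ∈ B, ∀ θ ∈ b, ∀ n : N, Cfsg.MemLocalIdeal M (Cfsg.centralChar (χ : G → ℂ) (n : G) - Cfsg.inducedCentralChar N (θ : N → ℂ) (n : G)) := by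
  have := hM.2.1
  rw [cover_iff hB hb, cover_iff_lam_cs le_top le_normalizer_top (isPrim_bId hB) (isPrim_bIdS hb)]
  have key : ∀ χ ∈ B, ∀ θ ∈ b, ∀ x ∈ N, (lam (Res M) (bId M B) (cs (Res M) ⊤ x) =
      lam (Res M) (bIdS M N b) (cs (Res M) ⊤ x) ↔
      MemLocalIdeal M (centralChar χ.1 x - inducedCentralChar N θ.1 x)) := fun χ hχ θ hθ x hx => by
    have h1 := Fix_anti (le_top (a := N)) (cs_mem_Fix (R := ℂ) ⊤ x)
    rw [lam_bId_cs hB hχ, inducedCentralChar_eq, memLocalIdeal_sub_iff (centralChar_mem_Loc χ.2 x)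
      (om_res_mem_Loc θ h1 (cs_mem_SG ⊤ x)), ← lam_bIdS hb hθ h1 (cs_mem_SG ⊤ x), redA_cs,
      tr_of_mem_Supp (cs_mem_Supp le_normalizer_top hx)]
  refine ⟨fun h χ hχ θ hθ n => (key χ hχ θ hθ n n.2).1 (h n n.2), fun h x hx => ?_⟩
  obtain ⟨χ, hχ⟩ := block_nonempty hB
  obtain ⟨θ, hθ⟩ := block_nonempty hb
  exact (key χ hχ θ hθ x hx).2 (h χ hχ θ hθ ⟨x, hx⟩)

end Cfsg.Agent.S0965
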