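import Cfsg.Statements.S0970
import Cfsg.Agent.H4.Cover2

set_option autoImplicit false
open Cfsg

namespace Cfsg.Agent.S0970

open CfsgH4 CfsgH3 CfsgH2 MonoidAlgebra

/-- Let N be a normal subgroup of the finite group G and fix a maximal ideal M of the algebraic integers containing the prime p. Let b be a block of N that is invariant under conjugation by G, and B a block of G covering b (some χ ∈ B has a constituent in b) whose defect is at least that of every block covering b. If P is a defect group of B, then p does not divide the index of P ⊔ N, the subgroup P ∩ N of N is a defect group of b, and the defect of B equals the defect of b plus the exponent of p in the index of N. -/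
theorem result {G : Type*} [Group G] [Fintype G] (p : ℕ) [Fact p.Prime] (M : Ideal Cfsg.AlgInt) (hM : Cfsg.IsPModular p M) (N : Subgroup G) [hN : N.Normal] [Fintype N] (b : Set (Cfsg.IrrCharacter N)) (hb : Cfsg.IsPBlock M b) (hinv : ∀ g : G, ∀ θ ∈ b, ∀ θ' : Cfsg.IrrCharacter N, (∀ n : N, (θ' : N → ℂ) n = (θ : N → ℂ) ⟨g * n * g⁻¹, hN.conj_mem n n.2 g⟩) → θ' ∈ b) (B : Set (Cfsg.IrrCharacter G)) (hB : Cfsg.IsPBlock M B) (hcov : ∃ χ ∈ B, ∃ θ ∈ b, Cfsg.classInner (fun n : N => (χ : G → ℂ) n) (θ : N → ℂ) ≠ 0) (hmax : ∀ B' : Set (Cfsg.IrrCharacter G), Cfsg.IsPBlock M B' → (∃ χ ∈ B', ∃ θ ∈ b, Cfsg.classInner (fun n : N => (χ : G → ℂ) n) (θ : N → ℂ) ≠ 0) → Cfsg.blockDefect p B' ≤ Cfsg.blockDefect p B) (P : Subgroup G) (hP : Cfsg.IsDefectGroup p M B P) : ¬ p ∣ (P ⊔ N).index ∧ Cfsg.IsDefectGroup p M b ((P ⊓ N).subgroupOf N) ∧ Cfsg.blockDefect p B = Cfsg.blockDefect p b + N.index.factorization p := by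
  have := hM.2.1
  have := charP_of_isPModular hM
  have hf := isPrim_bIdS hb
  have hfT : bIdS M N b ∈ Fix (Res M) ⊤ := fun g _ => (mem_stabA_iff_normal hb).2 (hinv g)
  have hE := isPrim_bId hB
  have hP' := (isDefectGroup_iff hB).1 hP
  have h1 : bId M B * bIdS M N b = bId M B :=
    hE.mul_eq_self (mem_Zc_top.2 hfT) hf.idem ((cover_iff hB hb).1 hcov)
  obtain ⟨D, hD⟩ := (hf.of_Fix le_top hfT).exists_isDef p le_top le_normalizer_top
  obtain ⟨E, hE', h2, h3⟩ := hD.exists_cover hf le_top hfT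
  obtain ⟨B', hB', rfl⟩ := exists_block_of_isPrim hE'
  have h4 : IsDef p ⊤ (bIdS M N b) P := by
    refine hD.of_card_le hfT le_top hP'.pgroup (Br_ne_zero_of_mul hP'.pgroup (Fix_anti le_top hE.mem.2)
      (Fix_anti le_top hfT) h1 hP'.ne_zero) ?_
    rw [card_isDef hB' h3, card_isDef hB hP']
    exact Nat.pow_le_pow_right (Fact.out : p.Prime).pos (hmax B' hB' ((cover_iff hB' hb).2
      (by rw [h2]; exact hE'.ne_zero)))
  have h5 := h4.not_dvd_relIndex hf le_top le_normalizer_top hfT
  have h6 := h4.inf hf le_top le_normalizer_top hfT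
  rw [Subgroup.relIndex_top_right] at h5
  refine ⟨by rwa [sup_comm], (isDefectGroup_iff_S' hb inf_le_right).2 h6, ?_⟩
  have h7 := card_mul_relIndex (inf_le_left : P ⊓ N ≤ P)
  rw [card_isDef_S hb h6, card_isDef hB hP', Subgroup.inf_relIndex_left,
    ← relIndex_sup_of_normalizer (le_normalizer_of_normal' (N := N) (H := P))] at h7
  have h8 := Subgroup.relIndex_mul_index (le_sup_left : N ≤ N ⊔ P)
  have h9 := congrArg (fun n => n.factorization p) h7
  have hp : p.Prime := Fact.out
  simp only [Nat.factorization_mul (pow_ne_zero _ hp.ne_zero) (relIndex_ne_zero _ _), hp.factorization_pow,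
    Finsupp.add_apply, Finsupp.single_eq_same] at h9
  rw [← h8, Nat.factorization_mul (relIndex_ne_zero _ _) Subgroup.index_ne_zero_of_finite,
    Finsupp.add_apply, Nat.factorization_eq_zero_of_not_dvd h5]
  omega

end Cfsg.Agent.S0970
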