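import Cfsg.Statements.S0971
import Cfsg.Agent.H4.Cover2

set_option autoImplicit false
open Cfsg

namespace Cfsg.Agent.S0971

open CfsgH4 CfsgH3 CfsgH2 MonoidAlgebra

/-- Let Q be a normal p-subgroup of the finite group G, let N = Q ⊔ C_G(Q) (a normal subgroup) and let b be a block of N relative to a maximal ideal M of the algebraic integers containing p. Then b induces some block of G, and every block B of G containing a character whose restriction to N has a constituent in b is induced by b. -/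
theorem result {G : Type*} [Group G] [Fintype G] (p : ℕ) [Fact p.Prime] (M : Ideal Cfsg.AlgInt) (hM : Cfsg.IsPModular p M) (Q : Subgroup G) [Q.Normal] (hQ : IsPGroup p Q) [Fintype ↥(Q ⊔ Subgroup.centralizer (Q : Set G))] (b : Set (Cfsg.IrrCharacter ↥(Q ⊔ Subgroup.centralizer (Q : Set G)))) (hb : Cfsg.IsPBlock M b) : Cfsg.InducedBlockDefined M (Q ⊔ Subgroup.centralizer (Q : Set G)) b ∧ ∀ B : Set (Cfsg.IrrCharacter G), Cfsg.IsPBlock M B → (∃ χ ∈ B, ∃ θ ∈ b, Cfsg.classInner (fun n : ↥(Q ⊔ Subgroup.centralizer (Q : Set G)) => (χ : G → ℂ) n) (θ : ↥(Q ⊔ Subgroup.centralizer (Q : Set G)) → ℂ) ≠ 0) → Cfsg.IsInducedBlock M (Q ⊔ Subgroup.centralizer (Q : Set G)) b B := by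
  have := hM.2.1
  have := charP_of_isPModular hM
  refine ⟨inducedBlockDefined_of_local hQ le_sup_left le_sup_right le_normalizer_of_normal' hb,
    fun B hB hcov => (isInducedBlock_iff' hb hB).2 ?_⟩
  have hE := isPrim_bId hB
  refine ind_of_cover_of_cs le_top le_normalizer_top hE (isPrim_bIdS hb) ((cover_iff hB hb).1 hcov)
    fun x _ h => ?_
  obtain ⟨n, -, hn⟩ := mem_of_lam_cs_ne_zero hE hQ le_top (by
    rw [Br_eq_self_of_idem le_top le_normalizer_top hQ hE.mem hE.idem]; exact hE.ne_zero) trivial h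
  exact Subgroup.mem_sup_right ((cjIn_conj (N := ⊤) trivial x).symm.mem le_normalizer_top hn)

end Cfsg.Agent.S0971
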