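import Cfsg.Statements.S0972
import Cfsg.Agent.H4.DC2

set_option autoImplicit false
open Cfsg

namespace Cfsg.Agent.S0972

open CfsgH4 CfsgH3 CfsgH2 MonoidAlgebra

/-- Let B be a block of the finite group G (relative to a maximal ideal M of the algebraic integers containing the prime p) with a defect group P that is normal in G. Then P is commutative if and only if every member of B has height zero. -/
theorem result {G : Type*} [Group G] [Finite G] (p : ℕ) [Fact p.Prime] (M : Ideal Cfsg.AlgInt) (hM : Cfsg.IsPModular p M) (B : Set (Cfsg.IrrCharacter G)) (hB : Cfsg.IsPBlock M B) (P : Subgroup G) [P.Normal] (hP : Cfsg.IsDefectGroup p M B P) : (∀ a ∈ P, ∀ c ∈ P, a * c = c * a) ↔ ∀ χ ∈ B, Cfsg.blockHeight p B (χ : G → ℂ) = 0 := by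
  have := hM.2.1
  have := charP_of_isPModular hM
  have hD := (isDefectGroup_iff hB).1 hP
  have hi := index_defectGroup hB hP
  constructor
  · intro h χ hχ
    have h1 := (Nat.factorization_le_iff_dvd (charDegree_ne_zero' χ.2)
      Subgroup.index_ne_zero_of_finite).2
      (deg_dvd_index_of_abelian χ.2 (coe_charDegree χ.2.isChar).symm h) p
    rw [blockHeight_eq, ← hi]
    exact Nat.sub_eq_zero_of_le h1
  · intro h0
    obtain ⟨e, -, h⟩ := exists_mp_blk hB hD
    obtain ⟨b, h1, h2, h3⟩ := exists_DC_block hB h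
    generalize hH : P ⊔ Subgroup.centralizer (P : Set G) = H at b h1 h2 h3
    have hPH : P ≤ H := hH ▸ le_sup_left
    have : H.Normal := hH ▸ inferInstance
    have := Fintype.ofFinite H
    have := Fintype.ofFinite G
    have hG := DC_subgroupOf hPH hH.ge
    have h4 := (isDef_subgroupOf_iff hPH).2 (h1 ▸ h3)
    obtain ⟨Φ, hΦ⟩ := exists_equiv_DC hG h2.1 h4
    have key : ∀ ζ, IsIrrCharacter (P.subgroupOf H) ζ → ζ 1 = 1 := fun ζ hζ => by
      obtain ⟨⟨ψ, hψ⟩, h5⟩ := Φ.surjective ⟨ζ, hζ⟩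
      rw [show ζ = (Φ ⟨ψ, hψ⟩).1 by rw [h5], ← height_eq_zero_iff_DC hG h2.1 h4 hψ (hΦ ⟨ψ, hψ⟩).2]
      obtain ⟨χ, hχ, h6⟩ := ψ.2.exists_over
      have h7 : (⟨χ, hχ⟩ : IrrCharacter G) ∈ B := by
        have a := (cover_iff (M := M) (isPBlock_blockOf ⟨χ, hχ⟩) h2.1).1
          ⟨_, mem_blockOf_self _, ψ, hψ, h6⟩
        rw [← bId_injective (isPBlock_blockOf ⟨χ, hχ⟩) hB
          (eq_of_cover_root h (isPrim_bId (isPBlock_blockOf ⟨χ, hχ⟩)) (h1 ▸ a))]
        exact mem_blockOf_self _
      obtain ⟨k, hk⟩ := (hχ.isChar.restrict H).inner_nat ψ.2.isChar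
      have h8 := nu_of_deg_mul (p := p) hχ ψ.2 (e := k * (inertia ψ.1).index)
        (by rw [clifford_deg hχ ψ.2 h6, hk, Nat.cast_mul])
      have hk0 : k ≠ 0 := fun a => h6 (by rw [hk, a, Nat.cast_zero])
      rw [Nat.factorization_mul hk0 Subgroup.index_ne_zero_of_finite, Finsupp.add_apply,
        (height_eq_zero_iff h7).1 (h0 _ h7), nu_eq_add_height hψ, ← hi,
        ← index_defectGroup h2.1 ((isDefectGroup_iff h2.1).2 h4)] at h8
      have h9 : inertia ψ.1 ≤ ⊤ ⊓ Subgroup.normalizer (P : Set G) ⊓ stabA (bIdS M _ e) :=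
        fun g hg => ⟨⟨trivial, le_normalizer_top trivial⟩, by
          rw [← h1]
          have a : g ∈ Subgroup.normalizer (H : Set G) := le_normalizer_top trivial
          refine (cjA_eq_iff_exists (cj_eq_iff_mem_normalizer.2 a) h2.1 h2.1).2
            ⟨ψ, hψ, ψ, hψ, fun c c' hc => ?_⟩
          rw [← mem_inertia'.1 hg c]
          exact congrArg _ (Subtype.ext hc)⟩
      have h10 := (Nat.factorization_le_iff_dvd Subgroup.index_ne_zero_of_finite
        Subgroup.index_ne_zero_of_finite).2 (Subgroup.index_dvd_of_le h9) p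
      have h11 := h.not_dvd
      rw [Cn_top, sup_comm, hH] at h11
      have h12 := Subgroup.relIndex_mul_index
        (hH.ge.trans (sup_le h.bp.le_stab ((Cn_top P).ge.trans h.bp.Cn_le_stab)))
      have h13 := Subgroup.relIndex_mul_index hPH
      apply_fun (·.factorization p) at h12 h13
      rw [Subgroup.relIndex, Nat.factorization_mul Subgroup.index_ne_zero_of_finite
        Subgroup.index_ne_zero_of_finite, Finsupp.add_apply] at h12 h13
      rw [← Subgroup.relIndex, Nat.factorization_eq_zero_of_not_dvd h11] at h12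
      omega
    intro a ha c hc
    exact congrArg (fun x : P.subgroupOf H => ((x : H) : G)) (comm_of_irr_deg_one key
      ⟨⟨a, hPH ha⟩, ha⟩ ⟨⟨c, hPH hc⟩, hc⟩)

end Cfsg.Agent.S0972
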