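import Cfsg.Statements.S0973
import Cfsg.Agent.H4.Cover2

set_option autoImplicit false
open Cfsg

namespace Cfsg.Agent.S0973

open CfsgH4 CfsgH3 CfsgH2 MonoidAlgebra

/-- Let B be a block of the finite group G with defect group P (relative to a maximal ideal M of the algebraic integers containing p), and let L = P ⊔ C_G(P). Then (i) some block b of L with defect group P (viewed in L) induces B, and (ii) if b and b' are blocks of L both inducing B, there is n ∈ N_G(P) carrying b to b': for every θ ∈ b there is θ' ∈ b' with θ' x = θ (n x n⁻¹) for all x ∈ L. -/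
theorem result {G : Type*} [Group G] [Finite G] (p : ℕ) [Fact p.Prime] (M : Ideal Cfsg.AlgInt) (hM : Cfsg.IsPModular p M) (B : Set (Cfsg.IrrCharacter G)) (hB : Cfsg.IsPBlock M B) (P : Subgroup G) (hP : Cfsg.IsDefectGroup p M B P) : (∃ b : Set (Cfsg.IrrCharacter ↥(P ⊔ Subgroup.centralizer (P : Set G))), Cfsg.IsDefectGroup p M b (P.subgroupOf (P ⊔ Subgroup.centralizer (P : Set G))) ∧ Cfsg.IsInducedBlock M (P ⊔ Subgroup.centralizer (P : Set G)) b B) ∧ ∀ b b' : Set (Cfsg.IrrCharacter ↥(P ⊔ Subgroup.centralizer (P : Set G))), Cfsg.IsInducedBlock M (P ⊔ Subgroup.centralizer (P : Set G)) b B → Cfsg.IsInducedBlock M (P ⊔ Subgroup.centralizer (P : Set G)) b' B → ∃ n ∈ Subgroup.normalizer (P : Set G), ∀ θ ∈ b, ∃ θ' ∈ b', ∀ x : ↥(P ⊔ Subgroup.centralizer (P : Set G)), ∀ hx : n * (x : G) * n⁻¹ ∈ P ⊔ Subgroup.centralizer (P : Set G), (θ' : ↥(P ⊔ Subgroup.centralizer (P : Set G)) → ℂ) x = (θ : ↥(P ⊔ Subgroup.centralizer (P : Set G)) → ℂ) ⟨n * (x :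 G) * n⁻¹, hx⟩ := by
  have := hM.2.1
  have := charP_of_isPModular hM
  have hE := isPrim_bId hB
  have hD := (isDefectGroup_iff hB).1 hP
  set H := P ⊔ Subgroup.centralizer (P : Set G)
  have h1 : P ≤ H := le_sup_left
  have h2 : ⊤ ⊓ Subgroup.centralizer (P : Set G) ≤ H := inf_le_right.trans le_sup_right
  have h3 : H ≤ Subgroup.normalizer (P : Set G) :=
    sup_le Subgroup.le_normalizer (Subgroup.centralizer_le_normalizer _)
  have h4 : Subgroup.normalizer (P : Set G) ≤ Subgroup.normalizer (H : Set G) := fun g hg => by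
    rw [← cj_eq_iff_mem_normalizer] at hg ⊢
    rw [cj_sup, cj_centralizer, hg]
  have key : ∀ b, IsInducedBlock M H b B → bIdS M H b * Br P (bId M B) = bIdS M H b := fun b hb =>
    (ind_iff_mul_Br hD.pgroup h1 h2 le_top h3 (isPrim_bIdS hb.1) hE).1 (ind_of_isInducedBlock hb)
  constructor
  · obtain ⟨e, he, hind⟩ := exists_ind_of_Br_ne_zero hD.pgroup h1 h2 le_top h3 hE hD.ne_zero
    obtain ⟨b, hb, rfl⟩ := exists_block_of_isPrim_S he
    have h5 := (isInducedBlock_iff' hb hB).2 hind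
    exact ⟨b, (isDefectGroup_iff_S' hb h1).2 (isDef_loc_of_isDef hD.pgroup h2 he hE.mem.2 (key b h5) h1
      le_rfl (le_inf (le_inf le_top h3) he.le_stabA) hD), h5⟩
  · intro b b' hb hb'
    obtain ⟨g, hg, h5⟩ := exists_cjA_eq_loc h2 (le_inf le_top h3) (isPrim_bIdS hb.1) hE hD
      (isPrim_bIdS hb'.1) (inf_le_right.trans h4) (key b hb) (key b' hb')
    refine ⟨g⁻¹, Subgroup.inv_mem _ hg.2, fun θ hθ => ?_⟩
    obtain ⟨θ', h6, h7⟩ := (cjA_eq_iff_forall_exists (cj_eq_iff_mem_normalizer.2 (h4 hg.2)) hb.1 hb'.1).1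
      h5 θ hθ
    exact ⟨θ', h6, fun x hx => h7 _ _ (by simp [mul_assoc])⟩

end Cfsg.Agent.S0973
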