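import Cfsg.Statements.S0980
import Mathlib
import Cfsg.Agent.H8.Small3

set_option autoImplicit false
open Cfsg

namespace Cfsg.Agent.S0980

set_option maxRecDepth 100000 in

/-- No finite simple group has order 5760 = 2^7 * 3^2 * 5. -/
theorem result {G : Type*} [Group G] [Finite G] [IsSimpleGroup G] : Nat.card G ≠ 5760 := by
  intro h
  exact absurd ((CfsgH8.NAS.of_card (G := G) (by rw [h]; norm_num)).sc3 (p := 2) (q := 3) (r := 5) (a := 7)
    (b := 2) (k := 1152) (by norm_num) (by norm_num) (by norm_num) (by norm_num) (by norm_num) (by norm_num)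
    h (by norm_num)) (by decide +kernel)

end Cfsg.Agent.S0980
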