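import Cfsg.Statements.S0981
import Cfsg.Agent.H1.Big

set_option autoImplicit false
open Cfsg

namespace Cfsg.Agent.S0981

open CfsgH1.Big

/-- A simple group of order 4080 is isomorphic to the projective special linear group of dimension 2 over the field with 16 elements. -/
theorem result {G : Type*} [Group G] [Finite G] [IsSimpleGroup G] (h : Nat.card G = 4080) {F : Type*} [Field F] [Fintype F] (hF : Fintype.card F = 16) : Nonempty (G ≃* Matrix.ProjectiveSpecialLinearGroup (Fin 2) F) := by
  rcases S0999.result (G := G) (not_cyclic (by rw [h]; norm_num)) 17 (by norm_num) (by rw [h]; norm_num)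
    (by rw [h]; norm_num) with ⟨K, _, _, k, -, ⟨e⟩⟩ | ⟨m, K, _, _, k, k', -, ⟨e⟩⟩
  · have := card_psl e k
    rw [h] at this; norm_num at this
  · obtain ⟨f⟩ := pslCongr (F := K) (K := F) (by omega)
    exact ⟨e.trans f⟩

end Cfsg.Agent.S0981
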