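import Cfsg.Statements.S0986
import Cfsg.Agent.H1.PG3

set_option autoImplicit false
open Cfsg

namespace Cfsg.Agent.S0986

/-- Let P and Q be distinct Sylow p-subgroups of a finite group G chosen so that the order of P ∩ Q is as large as possible among intersections of two distinct Sylow p-subgroups, and let N be the normalizer of P ∩ Q. Then N has more than one Sylow p-subgroup, any two distinct Sylow p-subgroups of N intersect exactly in P ∩ Q, and each Sylow p-subgroup of N lies in exactly one Sylow p-subgroup of G. -/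
theorem result {G : Type*} [Group G] [Finite G] (p : ℕ) [Fact p.Prime] (P Q : Sylow p G) (hPQ : P ≠ Q) (hmax : ∀ P' Q' : Sylow p G, P' ≠ Q' → Nat.card ↥((P' : Subgroup G) ⊓ (Q' : Subgroup G)) ≤ Nat.card ↥((P : Subgroup G) ⊓ (Q : Subgroup G))) : 1 < Nat.card (Sylow p ↥(Subgroup.normalizer (((P : Subgroup G) ⊓ (Q : Subgroup G) : Subgroup G) : Set G))) ∧ (∀ S T : Sylow p ↥(Subgroup.normalizer (((P : Subgroup G) ⊓ (Q : Subgroup G) : Subgroup G) : Set G)), S ≠ T → (S : Subgroup _) ⊓ (T : Subgroup _) = ((P : Subgroup G) ⊓ (Q : Subgroup G)).subgroupOf (Subgroup.normalizer (((P : Subgroup G) ⊓ (Q : Subgroup G) : Subgroup G) : Set G))) ∧ ∀ S : Sylow p ↥(Subgroup.normalizer (((P : Subgroup G) ⊓ (Q : Subgroup G) : Subgroup G) : Set G)), ∃! T : Sylow p G, (S : Subgroup _).map (Subgroup.normalizer (((P : Subgroup G) ⊓ (Q : Subgroup G) : Subgroup G) : Set G)).subtype ≤ (T : Subgroup G) := by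
  open Subgroup CfsgH1 CfsgFT CfsgH2 in
  set D := (P : Subgroup G) ⊓ Q with hD
  have uq : ∀ (U V : Sylow p G) (X : Subgroup G), D < X → X ≤ U → X ≤ V → U = V := fun U V X h1 h2 h3 => by
    by_contra h
    exact (CfsgH1.card_lt_of_lt h1).not_ge ((card_le_of_le (le_inf h2 h3)).trans (hmax U V h))
  have hDp : IsPGroup p D := P.isPGroup'.to_le inf_le_left
  have l1 := lt_inf_normalizer P.isPGroup' (sylow_lt_of_ne hPQ)
  have l2 := lt_inf_normalizer Q.isPGroup' (sylow_lt_of_ne hPQ.symm)
  rw [inf_comm (Q : Subgroup G) P] at l2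
  have le : ∀ S, IsSylowIn p S N(D) → D < S := fun S hS =>
    (hS.le_of_normalizer hDp le_normalizer le_rfl).lt_of_ne fun e => (CfsgH1.card_lt_of_lt l1).not_ge
      ((hS.card_le (P.isPGroup'.to_le inf_le_left) inf_le_right).trans (by rw [← e]))
  refine ⟨?_, fun S T hST => ?_, fun S => ?_⟩
  · by_contra! h
    haveI := Finite.card_le_one_iff_subsingleton.1 h
    obtain ⟨S, hS, a1⟩ := IsSylowIn.exists_le (P.isPGroup'.to_le inf_le_left) (inf_le_right : (P : Subgroup G) ⊓ N(D) ≤ _)
    obtain ⟨T, hT, a2⟩ := IsSylowIn.exists_le (Q.isPGroup'.to_le inf_le_left) (inf_le_right : (Q : Subgroup G) ⊓ N(D) ≤ _)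
    obtain rfl : S = T := by rw [← hS.toSylow_map, Subsingleton.elim hS.toSylow hT.toSylow, hT.toSylow_map]
    obtain ⟨U, hU⟩ := hS.pgroup.exists_le_sylow
    exact hPQ ((uq P U _ l1 inf_le_left (a1.trans hU)).trans (uq Q U _ l2 inf_le_left (a2.trans hU)).symm)
  · have hS := IsSylowIn.of_sylow_map S
    have hT := IsSylowIn.of_sylow_map T
    apply map_injective N(D).subtype_injective
    rw [map_inf _ _ _ N(D).subtype_injective, subgroupOf_map_subtype, inf_eq_left.2 le_normalizer]
    by_contra h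
    obtain ⟨U, hU⟩ := hS.pgroup.exists_le_sylow
    obtain ⟨V, hV⟩ := hT.pgroup.exists_le_sylow
    obtain rfl := uq U V _ ((le_inf (le _ hS).le (le _ hT).le).lt_of_ne' h) (inf_le_left.trans hU) (inf_le_right.trans hV)
    refine hST (Sylow.ext (map_injective N(D).subtype_injective ?_))
    exact (hS.eq_of_le (U.isPGroup'.to_le inf_le_left) (le_inf hU hS.le) inf_le_right).symm.trans
      (hT.eq_of_le (U.isPGroup'.to_le inf_le_left) (le_inf hV hT.le) inf_le_right)
  · have hS := IsSylowIn.of_sylow_map S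
    obtain ⟨U, hU⟩ := hS.pgroup.exists_le_sylow
    exact ⟨U, hU, fun V hV => uq V U _ (le _ hS) hV hU⟩

end Cfsg.Agent.S0986
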