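import Cfsg.Statements.S0987
import Cfsg.Agent.H1.PG3
import Cfsg.Agent.H1.Ten1

set_option autoImplicit false
open Cfsg

namespace Cfsg.Agent.S0987

/-- If a finite group has order pqr for primes p < q < r, then its Sylow r-subgroups are normal. -/
theorem result {G : Type*} [Group G] [Finite G] (p q r : ℕ) (hp : p.Prime) (hq : q.Prime) [Fact r.Prime] (hpq : p < q) (hqr : q < r) (hG : Nat.card G = p * q * r) (R : Sylow r G) : (R : Subgroup G).Normal := by
  open Subgroup CfsgH1 CfsgFT CfsgH2 in
  have hr : r.Prime := Fact.out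
  have sq : Squarefree (Nat.card G) := by
    rw [hG, Nat.squarefree_mul_iff, Nat.squarefree_mul_iff]
    exact ⟨Nat.Coprime.mul_left ((Nat.coprime_primes hp hr).2 (by omega)) ((Nat.coprime_primes hq hr).2 hqr.ne),
      ⟨(Nat.coprime_primes hp hq).2 hpq.ne, hp.squarefree, hq.squarefree⟩, hr.squarefree⟩
  haveI := IsZGroup.of_squarefree sq
  refine normalizer_eq_top_iff.1 (top_le_iff.1 (AbCyc.sylow_normal (fun A _ hA => ?_) inferInstance ?_
    (fun s hs hd => ?_) (IsSylowIn.of_sylow_top R)))
  · haveI := isMulCommutative_iff_le_centralizer.2 hA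
    open scoped IsMulCommutative in infer_instance
  · have := hp.two_le
    have : r ≠ 4 := by rintro rfl; norm_num at hr
    omega
  · rw [card_top, hG] at hd
    rcases hs.dvd_mul.1 hd with h | h
    · rcases hs.dvd_mul.1 h with h | h
      · have := Nat.le_of_dvd hp.pos h; omega
      · have := Nat.le_of_dvd hq.pos h; omega
    · exact Nat.le_of_dvd hr.pos h

end Cfsg.Agent.S0987
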