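import Cfsg.Statements.S0988
import Cfsg.Agent.FT.PF14c
import Cfsg.Agent.S0992

set_option autoImplicit false
open Cfsg

namespace Cfsg.Agent.S0988

open CfsgH8 Subgroup

/-- If a finite simple group has order p^2 * q * r with p, q and r prime, then its order is 60. -/
theorem result {G : Type*} [Group G] [Finite G] [IsSimpleGroup G] (p q r : ℕ) (hp : p.Prime) (hq : q.Prime) (hr : r.Prime) (hG : Nat.card G = p ^ 2 * q * r) : Nat.card G = 60 := by
  have p2 := hp.two_le
  have q2 := hq.two_le
  have r2 := hr.two_le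
  have S : NAS G := .of_card (hG ▸ Nat.not_prime_mul (by nlinarith) hr.ne_one)
  have nc : ¬ IsMulCommutative G := fun h => by
    obtain ⟨a, b, e⟩ := S.na
    exact e (h.is_comm.comm a b)
  have ev : Even (Nat.card G) := Nat.not_odd_iff_even.1 fun o => S.not_solv (CfsgPF.feit_thompson o)
  have pq : p ≠ q := by rintro rfl; exact S.not_pq (a := 3) (b := 1) hp hr (by rw [hG]; exact dvd_of_eq (by ring))
  have pr : p ≠ r := by rintro rfl; exact S.not_pq (a := 3) (b := 1) hp hq (by rw [hG]; exact dvd_of_eq (by ring))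
  have qr : q ≠ r := by rintro rfl; exact S.not_pq (a := 2) (b := 2) hp hq (by rw [hG]; exact dvd_of_eq (by ring))
  have od : ∀ {s : ℕ}, s.Prime → s ≠ 2 → Odd s := fun h => h.odd_of_ne_two
  have two : Fact (Nat.Prime 2) := ⟨Nat.prime_two⟩
  obtain rfl : p = 2 := by
    by_contra n
    by_cases e : q = 2
    · subst e
      obtain ⟨-, e, -, -, -, -, -, -, h1, h2⟩ := S.sylow1 (p := 2) (k := p ^ 2 * r) (by rw [hG]; ring)
        (Odd.not_two_dvd_nat ((od hp n).pow.mul (od hr qr.symm)))
      exact absurd (Nat.dvd_one.1 h1) h2.ne'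
    by_cases e' : r = 2
    · subst e'
      obtain ⟨-, e, -, -, -, -, -, -, h1, h2⟩ := S.sylow1 (p := 2) (k := p ^ 2 * q) (by rw [hG]; ring)
        (Odd.not_two_dvd_nat ((od hp n).pow.mul (od hq e)))
      exact absurd (Nat.dvd_one.1 h1) h2.ne'
    · exact absurd ev (Nat.not_even_iff_odd.2 (hG ▸ ((od hp n).pow.mul (od hq e)).mul (od hr e')))
  obtain ⟨T⟩ : Nonempty (Sylow 2 G) := inferInstance
  have h8 : ¬ 8 ∣ Nat.card G := fun h => Odd.not_two_dvd_nat ((od hq pq.symm).mul (od hr pr.symm))
    (Nat.dvd_of_mul_dvd_mul_left (by norm_num : 0 < 4) (by rw [hG] at h; simpa [mul_assoc] using h))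
  have h3 : 3 ∣ Nat.card G := (S0992.result nc ev h8 T).2 ▸ (relIndex_dvd_card _ _).trans (card_subgroup_dvd_card _)
  have key : ∀ s : ℕ, s.Prime → s ≠ 2 → s ≠ 3 → Nat.card G = s * 12 → Nat.card G = 60 := fun s hs s2 s3 e => by
    have : Fact s.Prime := ⟨hs⟩
    have s5 : 5 ≤ s := hs.five_le_of_ne_two_of_ne_three s2 s3
    have nd : ¬ s ∣ 12 := fun h => by
      have := Nat.le_of_dvd (by norm_num) h
      interval_cases s <;> first | omega | norm_num at hs
    obtain ⟨h1, h2, h3, -, h5⟩ := S.sylow (a := 1) (by rw [e, pow_one]) nd one_ne_zero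
    have h6 := h5 (by norm_num)
    generalize Nat.card (Sylow s G) = n at *
    have := Nat.le_of_dvd (by norm_num) h1
    have : s < n := by_contra fun k => by
      rcases (Nat.le_of_not_lt k).eq_or_lt with rfl | k
      · simp at h2
      · rw [Nat.mod_eq_of_lt k] at h2; omega
    obtain rfl : n = 6 := by interval_cases n <;> omega
    obtain rfl : s = 5 := by omega
    exact e
  rw [hG, mul_assoc] at h3
  rcases (Nat.prime_three.dvd_mul.1 ((Nat.prime_three.dvd_mul.1 h3).resolve_left (by norm_num))) with h | h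
  · obtain rfl := (Nat.prime_dvd_prime_iff_eq Nat.prime_three hq).1 h
    exact key r hr pr.symm qr.symm (by rw [hG]; ring)
  · obtain rfl := (Nat.prime_dvd_prime_iff_eq Nat.prime_three hr).1 h
    exact key q hq pq.symm qr (by rw [hG]; ring)

end Cfsg.Agent.S0988
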