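import Cfsg.Statements.S0989
import Cfsg.Agent.H1.PG3
import Cfsg.Agent.H8.Small2

set_option autoImplicit false
open Cfsg

namespace Cfsg.Agent.S0989

/-- In the symmetric group on p or p + 1 letters, p a prime, the normalizer of a Sylow p-subgroup has order p * (p - 1). -/
theorem result {α : Type*} [Fintype α] [DecidableEq α] (p : ℕ) [Fact p.Prime] (hα : Fintype.card α = p ∨ Fintype.card α = p + 1) (P : Sylow p (Equiv.Perm α)) : Nat.card ↥(Subgroup.normalizer ((P : Subgroup (Equiv.Perm α)) : Set (Equiv.Perm α))) = p * (p - 1) := by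
  open Subgroup CfsgH1 CfsgFT CfsgH2 CfsgH8 in
  have pp : p.Prime := Fact.out
  have p2 := pp.two_le
  have nd : ¬ p ∣ (p - 1).factorial := fun h => by have := (pp.dvd_factorial).1 h; omega
  have hP : Nat.card P = p := by
    have f := Nat.mul_factorial_pred pp.ne_zero
    rcases hα with h | h
    · simpa using (card_sylow_eq (a := 1) (by rw [Nat.card_perm, Nat.card_eq_fintype_card, h, pow_one, f]) nd P).1
    · simpa using (card_sylow_eq (a := 1) (k := (p + 1) * (p - 1).factorial) (by
        rw [Nat.card_perm, Nat.card_eq_fintype_card, h, pow_one, Nat.factorial_succ, ← f]; ring) (fun c =>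
          (pp.dvd_mul.1 c).elim (fun c => pp.one_lt.ne' (Nat.dvd_one.1 ((Nat.dvd_add_right dvd_rfl).1 c))) nd) P).1
  have ct : ∀ y ∈ (P : Subgroup (Equiv.Perm α)), y ≠ 1 → y.cycleType = {p} := fun y hy y1 => by
    have o : orderOf y = p := by rw [← Nat.card_zpowers, CfsgH8.zpowers_eq_of_prime pp hP hy y1, hP]
    obtain ⟨n, hn⟩ := Equiv.Perm.cycleType_prime_order (o ▸ pp)
    have := y.sum_cycleType_le
    rw [hn, o, Multiset.sum_replicate, smul_eq_mul] at this
    obtain rfl : n = 0 := by rcases n with _ | n; · rfl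
                             · nlinarith [show Fintype.card α ≤ p + 1 by omega]
    rw [hn, o]; rfl
  obtain ⟨x, hx, x1⟩ := (bot_or_exists_ne_one (P : Subgroup (Equiv.Perm α))).resolve_left fun e => by
    rw [e, card_bot] at hP; omega
  have h1 := card_cls_in N((P : Subgroup (Equiv.Perm α))) x
  rw [inf_eq_right.2 fun g hg => mem_norm_of_conj pp hP hx x1 (by rwa [mem_C1.1 hg, mul_inv_cancel_right]),
    Equiv.Perm.nat_card_centralizer, ct x hx x1] at h1
  have h2 := card_sdiff (bot_le : ⊥ ≤ (P : Subgroup (Equiv.Perm α)))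
  rw [hP, card_bot, ← Nat.card_congr (Equiv.subtypeEquivRight (p := fun y => ∃ a ∈ N((P : Subgroup (Equiv.Perm α))), a * x * a⁻¹ = y)
    fun y => ⟨by
      rintro ⟨a, ha, rfl⟩
      exact ⟨CfsgH1.conj_mem_of_mem_normalizer ha hx, by simpa using x1⟩, fun ⟨hy, y1⟩ => by
      obtain ⟨a, rfl⟩ := isConj_iff.1 (Equiv.Perm.isConj_iff_cycleType_eq.2 ((ct x hx x1).trans (ct y hy y1).symm))
      exact ⟨a, mem_norm_of_conj pp hP hx x1 hy, rfl⟩⟩)] at h2
  rw [← h1, h2, mul_comm]
  rcases hα with h | h <;> simp [h]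

end Cfsg.Agent.S0989
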