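import Cfsg.Statements.S0994
import Mathlib
import Cfsg.Agent.H8.Small3

set_option autoImplicit false
open Cfsg

namespace Cfsg.Agent.S0994

/-- No finite simple group has order 1188 = 2^2 * 3^3 * 11. -/
theorem result {G : Type*} [Group G] [Finite G] [IsSimpleGroup G] : Nat.card G ≠ 1188 := by
  intro h
  exact absurd ((CfsgH8.NAS.of_card (G := G) (by rw [h]; norm_num)).psl_of_card.{_, 0} (p := 11) (d := 9)
    (by norm_num) h (by norm_num)).1 (by norm_num)

end Cfsg.Agent.S0994
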