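import Cfsg.Statements.S0996
import Mathlib
import Cfsg.Agent.H8.Def3c

set_option autoImplicit false
open Cfsg

namespace Cfsg.Agent.S0996

open CfsgH8 Subgroup

/-- Let G be a finite perfect group containing an element z of prime order p whose centralizer is the cyclic group it generates, and suppose the number 1 + n * p of Sylow p-subgroups satisfies n < (p + 3) / 2. Then p > 3 and G is isomorphic to the projective special linear group of dimension 2 over the field with p elements, or p - 1 is a power of 2 and G is isomorphic to that group over the field with p - 1 elements. -/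
theorem result {G : Type*} [Group G] [Finite G] (hperf : commutator G = ⊤) (p : ℕ) [Fact p.Prime] (z : G) (hz : orderOf z = p) (hC : Subgroup.centralizer ({z} : Set G) = Subgroup.zpowers z) (hn : 2 * Nat.card (Sylow p G) < (p + 1) * (p + 2)) : (∃ (F : Type) (_ : Field F) (_ : Fintype F), Fintype.card F = p ∧ 3 < p ∧ Nonempty (G ≃* Matrix.ProjectiveSpecialLinearGroup (Fin 2) F)) ∨ (∃ (m : ℕ) (F : Type) (_ : Field F) (_ : Fintype F), Fintype.card F = 2 ^ m ∧ p = 2 ^ m + 1 ∧ 3 < p ∧ Nonempty (G ≃* Matrix.ProjectiveSpecialLinearGroup (Fin 2) F)) := by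
  have := Fintype.ofFinite G
  have hp : p.Prime := Fact.out
  obtain ⟨P, hP⟩ := (IsPGroup.of_card (n := 1) (by rw [Nat.card_zpowers, hz, pow_one]) :
    IsPGroup p (zpowers z)).exists_le_sylow
  have z1 : z ≠ 1 := by rintro rfl; exact hp.one_lt.ne (by simpa using hz)
  have zP := hP (mem_zpowers z)
  have hP' : P.1 = zpowers z := by
    have : Nontrivial P.1 := ⟨⟨z, zP⟩, 1, fun e => z1 (congrArg Subtype.val e)⟩
    have := P.isPGroup'.center_nontrivial
    obtain ⟨⟨c, hc⟩, c1⟩ := exists_ne (1 : center P.1)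
    have h1 : (c : G) ∈ zpowers z := hC ▸ mem_centralizer_singleton_iff.mpr
      (congrArg Subtype.val (mem_center_iff.mp hc ⟨z, zP⟩)).symm
    have h2 := zpowers_eq_of_prime hp (by rw [Nat.card_zpowers, hz]) h1 fun e => c1 (Subtype.ext (Subtype.ext e))
    refine le_antisymm (fun x hx => ?_) hP
    rw [← hC, ← cent_zpowers, ← h2, cent_zpowers]
    exact mem_centralizer_singleton_iff.mpr (congrArg Subtype.val (mem_center_iff.mp hc ⟨x, hx⟩))
  have : O1 P := ⟨by rw [hP', Nat.card_zpowers, hz]⟩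
  have hC' : CP P ≤ P := by rw [← O1.cent zP z1, hC, hP']
  obtain ⟨n, h1⟩ : ∃ n, Nat.card (Sylow p G) = 1 + n * p := ⟨_, by
    rw [← Nat.mod_eq_of_lt hp.one_lt, ← card_sylow_modEq_one p G, Nat.mod_add_div']⟩
  have h3 : 2 * n < p + 3 := by rw [h1] at hn; by_contra h; nlinarith [Nat.mul_le_mul_right p (not_lt.mp h)]
  obtain ⟨p3, h4⟩ := brauer_quot P hperf h1 (not_form_of_lt h3)
  have h5 := card_mul_index (pPrimeCore p G)
  have h7 := card_I0 (P := P)
  rw [card_G_sc hC', ← card_sylow_eq_NP, h1] at h5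
  have h6 : pPrimeCore p G = ⊥ := card_eq_one.mp ((few_of_not_form (not_form_of_lt h3) _ ?_ ?_).resolve_right ?_)
  · have e0 := ((QuotientGroup.quotientMulEquivOfEq h6).trans QuotientGroup.quotientBot).symm
    obtain ⟨-, h4⟩ | ⟨m, h3, -, h4⟩ := h4
    · exact Or.inl ⟨ZMod p, inferInstance, inferInstance, ZMod.card p, p3, (h4 _ (Nat.card_zmod p)).map e0.trans⟩
    · have hK := GaloisField.card 2 m (by rintro rfl; omega)
      letI := Fintype.ofFinite (GaloisField 2 m)
      exact Or.inr ⟨m, GaloisField 2 m, inferInstance, inferInstance, by rw [← Nat.card_eq_fintype_card, hK], h3, p3,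
        (h4 _ hK).map e0.trans⟩
  · rw [← h7, mul_assoc]
    exact ((CfsgH1.coprime_card_pPrimeCore p G).dvd_of_dvd_mul_left ⟨_, by rw [h5, mul_assoc]⟩).mul_left _
  · have := CfsgH2.card_modEq_card_inf_cent P.isPGroup' (V := pPrimeCore p G) le_normalizer_of_normal
    rwa [eq_bot_iff.mpr ((inf_le_inf_left _ hC').trans (disjoint_of_coprime_natCard (by
      rw [O1.card]; exact CfsgH1.coprime_card_pPrimeCore p G)).le_bot), card_bot, Nat.ModEq,
      Nat.mod_eq_of_lt hp.one_lt] at this
  · intro h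
    rw [h, mul_comm, Nat.mul_left_inj (by omega)] at h5
    have h8 : fN P ≤ p - 1 := h7 ▸ Nat.le_mul_of_pos_left _ Fintype.card_pos
    obtain ⟨q, rfl⟩ : ∃ q, p = q + 2 := ⟨p - 2, by omega⟩
    have h9 : 2 ≤ q := by omega
    rcases h4 with ⟨h4, -⟩ | ⟨m, -, h4, -⟩ <;> simp only [show q + 2 - 1 = q + 1 from rfl, Nat.add_sub_cancel] at h4 h8 <;>
      nlinarith [Nat.mul_le_mul h9 h9]

end Cfsg.Agent.S0996
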