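import Cfsg.Statements.S0999
import Mathlib
import Cfsg.Agent.H8.Def3c

set_option autoImplicit false
open Cfsg

namespace Cfsg.Agent.S0999

open CfsgH8 Subgroup

/-- Let G be a non-cyclic finite simple group and p a prime divisor of its order with p^3 > |G|. Then p > 3 and G is isomorphic to the projective special linear group of dimension 2 over the field with p elements, or p - 1 is a power of 2 and G is isomorphic to that group over the field with p - 1 elements. -/
theorem result {G : Type*} [Group G] [Finite G] [IsSimpleGroup G] (hG : ¬ IsCyclic G) (p : ℕ) (hp : p.Prime) (hdvd : p ∣ Nat.card G) (hbig : Nat.card G < p ^ 3) : (∃ (F : Type) (_ : Field F) (_ : Fintype F), Fintype.card F = p ∧ 3 < p ∧ Nonempty (G ≃* Matrix.ProjectiveSpecialLinearGroup (Fin 2) F)) ∨ (∃ (m : ℕ) (F : Type) (_ : Field F) (_ : Fintype F), Fintype.card F = 2 ^ m ∧ p = 2 ^ m + 1 ∧ 3 < p ∧ Nonempty (G ≃* Matrix.ProjectiveSpecialLinearGroup (Fin 2) F)) := by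
  have := Fintype.ofFinite G
  have := Fact.mk hp
  have S := NAS.of_cyclic hG
  obtain ⟨P⟩ : Nonempty (Sylow p G) := inferInstance
  obtain ⟨_, n, h1, h3⟩ := o1_of_cube (P := P) S.perfect hdvd hbig fun h =>
    S.sylow_ne_top P (S.eq_top (P.ne_bot_of_dvd_card hdvd))
  obtain ⟨p3, ⟨-, h4⟩ | ⟨m, h3, -, h4⟩⟩ := brauer_main (P := P) S.perfect (fun N _ h => S.eq_bot (by
    rintro rfl; exact h (by simpa using hdvd))) (card_sylow_eq_NP (P := P) ▸ h1 ▸ few_of_not_form (not_form_of_lt h3))
  · exact Or.inl ⟨ZMod p, inferInstance, inferInstance, ZMod.card p, p3, h4 _ (Nat.card_zmod p)⟩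
  · have hK := GaloisField.card 2 m (by rintro rfl; omega)
    letI := Fintype.ofFinite (GaloisField 2 m)
    exact Or.inr ⟨m, GaloisField 2 m, inferInstance, inferInstance, by rw [← Nat.card_eq_fintype_card, hK], h3, p3,
      h4 _ hK⟩

end Cfsg.Agent.S0999
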