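import Cfsg.Statements.S1001
import Mathlib
import Cfsg.Agent.H8.Small2

set_option autoImplicit false
open Cfsg

namespace Cfsg.Agent.S1001

/-- In a finite simple group whose order has the form p * 3^a * 2^b with p prime, the centralizer of any element of order p is the cyclic group it generates. -/
theorem result {G : Type*} [Group G] [Finite G] [IsSimpleGroup G] (p a b : ℕ) (hp : p.Prime) (hG : Nat.card G = p * 3 ^ a * 2 ^ b) (x : G) (hx : orderOf x = p) : Subgroup.centralizer ({x} : Set G) = Subgroup.zpowers x := by
  by_cases hc : (Nat.card G).Prime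
  · have h1 : Subgroup.zpowers x = ⊤ := by
      refine (CfsgH8.zpowers_eq_of_prime hc (F := ⊤) (by simp) trivial fun e => ?_)
      rw [e, orderOf_one] at hx; exact hp.one_lt.ne hx
    rw [h1, eq_top_iff, ← h1]
    exact Subgroup.zpowers_le.mpr (Subgroup.mem_centralizer_singleton_iff.mpr rfl)
  have S := CfsgH8.NAS.of_card hc
  by_cases h3 : p = 3
  · exact (S.not_pq (a := a + 1) (b := b) Nat.prime_three Nat.prime_two (by rw [hG, h3]; ring_nf; rfl)).elim
  by_cases h2 : p = 2
  · exact (S.not_pq (a := a) (b := b + 1) Nat.prime_three Nat.prime_two (by rw [hG, h2]; ring_nf; rfl)).elim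
  exact S.cent_eq (a := a) (b := b) Nat.prime_three Nat.prime_two hp (by decide) (Ne.symm h3) (Ne.symm h2)
    (by rw [hG]; ring) hx

end Cfsg.Agent.S1001
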