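import Cfsg.Statements.S1002
import Mathlib
import Cfsg.Agent.FT.PF14c

set_option autoImplicit false
open Cfsg

namespace Cfsg.Agent.S1002

/-- No finite simple group has order 1004913 = 3^3 * 7 * 13 * 409. -/
theorem result {G : Type*} [Group G] [Finite G] [IsSimpleGroup G] : Nat.card G ≠ 1004913 := by
  intro h
  have h1 := IsSimpleGroup.comm_iff_isSolvable.mpr (CfsgPF.feit_thompson (G := G) (by rw [h]; decide))
  have : IsMulCommutative G := ⟨⟨h1⟩⟩
  have h2 : (Nat.card G).Prime := by
    letI : CommGroup G := { (inferInstance : Group G) with mul_comm := h1 }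
    exact IsSimpleGroup.prime_card
  rw [h] at h2; norm_num at h2

end Cfsg.Agent.S1002
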