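import Cfsg.Statements.S1008
import Cfsg.Agent.H1.G168

set_option autoImplicit false
open Cfsg

namespace Cfsg.Agent.S1008

/-- In a simple group of order 168 every maximal subgroup is either isomorphic to the symmetric group of degree 4 or non-abelian of order 21; the maximal subgroups of order 21 form one conjugacy class and those isomorphic to the symmetric group of degree 4 form exactly two conjugacy classes. -/
theorem result {G : Type*} [Group G] [Finite G] [IsSimpleGroup G] (h : Nat.card G = 168) : (∀ M : Subgroup G, IsCoatom M → Nonempty (↥M ≃* Equiv.Perm (Fin 4)) ∨ (Nat.card ↥M = 21 ∧ ¬ IsMulCommutative ↥M)) ∧ (∀ M M' : Subgroup G, IsCoatom M → IsCoatom M' → Nat.card ↥M = 21 → Nat.card ↥M' = 21 → ∃ g : G, M' = M.map (MulAut.conj g).toMonoidHom) ∧ ∃ M₁ M₂ : Subgroup G, IsCoatom M₁ ∧ IsCoatom M₂ ∧ Nonempty (↥M₁ ≃* Equiv.Perm (Fin 4)) ∧ Nonempty (↥M₂ ≃* Equiv.Perm (Fin 4)) ∧ (∀ g : G, M₂ ≠ M₁.map (MulAut.conj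 g).toMonoidHom) ∧ ∀ M : Subgroup G, IsCoatom M → Nonempty (↥M ≃* Equiv.Perm (Fin 4)) → ∃ g : G, M = M₁.map (MulAut.conj g).toMonoidHom ∨ M = M₂.map (MulAut.conj g).toMonoidHom := by
  open Subgroup CfsgH1 CfsgFT CfsgH2 CfsgH1.G168 in
  have : Fact (Nat.Prime 7) := ⟨by norm_num⟩
  obtain ⟨T⟩ : Nonempty (Sylow 2 G) := inferInstance
  obtain ⟨U, W, n, hU, hW, k, l, a⟩ := klein2 h T
  refine ⟨fun M hM => (max_cases h hM).symm.imp (fun c => c.1.perm4 c.2) fun c => ⟨c, ncomm21 h c⟩,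
    fun M M' _ _ c c' => ?_, N(U), N(W), max24 h (nv h k).1 (nv h k).2, max24 h (nv h l).1 (nv h l).2,
    (nv h k).1.perm4 (nv h k).2, (nv h l).1.perm4 (nv h l).2, fun g e => ?_, fun M _ ⟨e⟩ => ?_⟩
  · obtain ⟨P, rfl⟩ := eq21 h c
    obtain ⟨Q, rfl⟩ := eq21 h c'
    obtain ⟨g, e⟩ := exists_cj_sylow_eq P Q
    exact ⟨g, by rw [cj_def, cj_normalizer, e]⟩
  · rw [cj_def, cj_normalizer] at e
    exact n (not_conj h T hU hW k l (klein_unique h l (isKleinFour_cj k g) e).symm)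
  · obtain ⟨V, m, rfl⟩ := s4_eq h e
    obtain ⟨g, f⟩ := exists_cj_le_sylow T (isPGroup_of_kleinFour m)
    refine ⟨g⁻¹, (a _ f (isKleinFour_cj m g)).imp (fun e => ?_) fun e => ?_⟩ <;>
      rw [cj_def, cj_normalizer, ← e, cj_inv_cj]

end Cfsg.Agent.S1008
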