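import Cfsg.Statements.S1009
import Cfsg.Agent.H1.PG3

set_option autoImplicit false
open Cfsg

namespace Cfsg.Agent.S1009

/-- Brodkey's Theorem: if a finite group has abelian Sylow p-subgroups, then there are two Sylow p-subgroups whose intersection equals the intersection of all Sylow p-subgroups. -/
theorem result {G : Type*} [Group G] [Finite G] (p : ℕ) [Fact p.Prime] (hab : ∀ P : Sylow p G, IsMulCommutative ↥(P : Subgroup G)) : ∃ P Q : Sylow p G, (P : Subgroup G) ⊓ (Q : Subgroup G) = ⨅ R : Sylow p G, (R : Subgroup G) := by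
  open Subgroup CfsgH1 CfsgFT CfsgH2 in
  obtain ⟨⟨P, Q⟩, hm⟩ := Finite.exists_min fun x : Sylow p G × Sylow p G => Nat.card ↥((x.1 : Subgroup G) ⊓ x.2)
  refine ⟨P, Q, le_antisymm (le_iInf fun R => ?_) (le_inf (iInf_le _ P) (iInf_le _ Q))⟩
  set D := (P : Subgroup G) ⊓ Q
  have c : ∀ U : Sylow p G, D ≤ U → (U : Subgroup G) ≤ N(D) := fun U h => fun x hx =>
    centralizer_le_normalizer _ fun y hy => mul_comm_of_isMulCommutative (hab U) (h hy) hx
  obtain ⟨x, hx, h1⟩ := (IsSylowIn.of_sylow P (c P inf_le_left)).exists_cj_le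
    (R.isPGroup'.to_le inf_le_left) (inf_le_right : (R : Subgroup G) ⊓ N(D) ≤ _)
  have h2 : cj x R ⊓ Q ≤ D := le_inf ((le_inf inf_le_left (inf_le_right.trans (c Q inf_le_right))).trans (by
    rwa [cj_inf, cj_eq_of_mem hx] at h1)) inf_le_right
  have h3 := CfsgH1.eq_of_le_of_card_le h2 (sylow_smul_coe R x ▸ hm (x • R, Q) :)
  rw [← cj_le_cj_iff x, cj_eq_iff_mem_normalizer.2 hx, ← h3]; exact inf_le_left

end Cfsg.Agent.S1009
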