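import Cfsg.Statements.S1010
import Cfsg.Agent.H2.PseudoSyl

set_option autoImplicit false
open Cfsg

namespace Cfsg.Agent.S1010
open Subgroup CfsgH2
open scoped commutatorElement

/-- No finite group has exactly twenty-one Sylow 5-subgroups. -/
theorem result {G : Type*} [Group G] [Finite G] : Nat.card (Sylow 5 G) ≠ 21 := by
  haveI : Fact (Nat.Prime 5) := ⟨by norm_num⟩
  refine CfsgH2.PS.ne_of_simple (by norm_num) (fun m hm e => ?_)
    (CfsgH2.PS.npp Nat.prime_three (by norm_num : Nat.Prime 7) (by norm_num)) (fun S _ _ _ => CfsgH2.PS.not_twentyone) G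
  have := Nat.le_of_dvd (by norm_num) hm
  interval_cases m <;> simp_all


end Cfsg.Agent.S1010
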