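import Cfsg.Statements.S1012
import Cfsg.Agent.H1.PG3

set_option autoImplicit false
open Cfsg

namespace Cfsg.Agent.S1012

/-- A group of order 24 containing no element of order 6 is isomorphic to the symmetric group of degree 4. -/
theorem result {G : Type*} [Group G] [Finite G] (h : Nat.card G = 24) (h6 : ∀ g : G, orderOf g ≠ 6) : Nonempty (G ≃* Equiv.Perm (Fin 4)) := by
  open Subgroup CfsgH1 CfsgFT CfsgH2 in
  refine NCN.perm4 (ncn_of fun x hx hn => ?_) h
  have hd : orderOf x ∣ 2 ^ 3 * 3 := (h ▸ orderOf_dvd_natCard x :)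
  have key : ∀ z y : G, orderOf z = 2 → orderOf y = 3 → ¬ Commute z y := fun z y h1 h2 h3 =>
    h6 (z * y) (by rw [h3.orderOf_mul_eq_mul_orderOf_of_coprime (by rw [h1, h2]; norm_num), h1, h2])
  rcases (hx.dvd_mul).1 hd with h1 | h1
  · have := (Nat.prime_dvd_prime_iff_eq hx Nat.prime_two).1 (hx.dvd_of_dvd_pow h1)
    haveI i3 := Fact.mk Nat.prime_three
    obtain ⟨y, hy⟩ := exists_prime_orderOf_dvd_card' (G := G) 3 (by rw [h]; norm_num)
    exact key x y this hy (mem_center_iff.1 (central_of_normal_two this hn) y).symm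
  · replace h1 := (Nat.prime_dvd_prime_iff_eq hx Nat.prime_three).1 h1
    obtain ⟨P⟩ : Nonempty (Sylow 2 G) := inferInstance
    have hP : Nat.card P = 2 ^ 3 := by
      rw [P.card_eq_multiplicity, h]; congr 1; decide +kernel
    obtain ⟨z, -, h2, h3⟩ := exists_invol_comm h1 hn P.isPGroup' (by omega)
    exact key z x h2 h1 h3

end Cfsg.Agent.S1012
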