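import Cfsg.Statements.S1013
import Cfsg.Agent.H2.Focal

set_option autoImplicit false
open Cfsg

namespace Cfsg.Agent.S1013

/-- Let G be a transitive permutation group of prime degree p having more than one Sylow p-subgroup, and suppose a Sylow p-subgroup P has prime index in its normalizer. Then G is simple. -/
theorem result {α : Type*} [Fintype α] [DecidableEq α] {p : ℕ} [Fact p.Prime] (hα : Fintype.card α = p) (G : Subgroup (Equiv.Perm α)) [MulAction.IsPretransitive ↥G α] (P : Sylow p ↥G) (hn : 1 < Nat.card (Sylow p ↥G)) (ht : (((P : Subgroup ↥G).subgroupOf (Subgroup.normalizer ((P : Subgroup ↥G) : Set ↥G))).index).Prime) : IsSimpleGroup ↥G := by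
  open Subgroup CfsgH2 MulAction in
    have hp : p.Prime := Fact.out
    have hc : Nat.card α = p := by rw [Nat.card_eq_fintype_card, hα]
    obtain ⟨a⟩ : Nonempty α := (Nat.card_pos_iff.1 (hc.symm ▸ hp.pos)).1
    have prim : IsPreprimitive G α := IsPreprimitive.of_prime_card (hc ▸ hp)
    have key : ∀ N : Subgroup G, N.Normal → N ≠ ⊥ → p ∣ Nat.card N := fun N hN h => by
      have : IsPretransitive N α := IsQuasiPreprimitive.isPretransitive_of_normal fun e => h ((eq_bot_iff_forall _).2
        fun g hg => Subtype.ext (Equiv.ext fun x => mem_fixedPoints.1 (e ▸ Set.mem_univ x) ⟨g, hg⟩))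
      have := (stabilizer N a).index_dvd_card
      rwa [index_stabilizer_of_transitive, hc] at this
    have cP : Nat.card P = p := by
      have h1 := (stabilizer G a).index_dvd_card
      have h2 := card_subgroup_dvd_card G
      rw [index_stabilizer_of_transitive, hc] at h1
      rw [Nat.card_perm, hc] at h2
      have h3 : ¬ 2 ≤ (Nat.card G).factorization p := fun h => by
        have := ((hp.pow_dvd_iff_le_factorization Nat.card_pos.ne').2 h).trans h2
        rw [← Nat.mul_factorial_pred hp.ne_zero, pow_two, Nat.mul_dvd_mul_iff_left hp.pos, hp.dvd_factorial] at this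
        have := hp.pos
        omega
      have := (hp.dvd_iff_one_le_factorization Nat.card_pos.ne').1 h1
      rw [P.card_eq_multiplicity, show (Nat.card G).factorization p = 1 by omega, pow_one]
    have : Nontrivial G := (nontrivial_iff_exists_ne_one (⊤ : Subgroup G)).1 ((nontrivial_iff_ne_bot _).2 fun e => by
      rw [eq_bot_mono (le_top (a := (P : Subgroup G))) e, card_bot] at cP
      exact hp.one_lt.ne cP) |>.elim fun x h => ⟨x, 1, h.2⟩
    refine ⟨fun N hN => (eq_or_ne N ⊥).imp_right fun h => ?_⟩
    have s := IsSylowIn.sylow_inf_normal P N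
    have PN : (P : Subgroup G) ≤ N := inf_eq_left.1 (CfsgH2.eq_of_le_of_card_le inf_le_left (by
      rw [cP]
      have := card_mul_relIndex s.le
      have h2 := ((Nat.Prime.dvd_mul hp).1 (this ▸ key N hN h)).resolve_right (s.not_dvd_of_le le_rfl s.le)
      exact Nat.le_of_dvd Nat.card_pos h2))
    have s' := IsSylowIn.of_sylow P PN
    have m := relIndex_mul_relIndex (P : Subgroup G) (N ⊓ normalizer P) (normalizer P) (le_inf PN le_normalizer) inf_le_right
    rcases (Nat.dvd_prime ht).1 (Dvd.intro _ m) with e | e
    · rw [relIndex_eq_one] at e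
      have npc := hasNPC_subgroup_iff.1 (burnside_hasNPC s' (e.trans (le_centralizer_iff_isMulCommutative.2
        (isCyclic_of_prime_card cP).isMulCommutative)))
      have r : resIn p N = ⊥ := by_contra fun k => npc (key _ (resIn_normal N) k)
      have e2 := s'.sup_resIn
      rw [r, sup_bot_eq] at e2
      have := P.unique_of_normal (e2 ▸ hN)
      simp at hn
    · have e' : (P : Subgroup G).relIndex (N ⊓ normalizer P) = (P : Subgroup G).relIndex (normalizer P) := e
      rw [e', mul_eq_left₀ (relIndex_ne_zero _ _), relIndex_eq_one] at m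
      have := Sylow.normalizer_sup_eq_top' P PN
      rwa [sup_eq_right.2 (m.trans inf_le_left)] at this

end Cfsg.Agent.S1013
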