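import Cfsg.Statements.S1018
import Cfsg.Agent.H1.PG3
import Cfsg.Agent.H8.Small2

set_option autoImplicit false
open Cfsg

namespace Cfsg.Agent.S1018

/-- Let P be a Sylow p-subgroup of order p of a finite group G, and consider the action of G on the left cosets of the normalizer N of P. Then every element of order p fixes exactly one coset, and an element of N that does not centralize P fixes at most as many cosets as there are orbits of P. -/
theorem result {G : Type*} [Group G] [Finite G] (p : ℕ) [Fact p.Prime] (P : Sylow p G) (hP : Nat.card ↥(P : Subgroup G) = p) : (∀ y : G, orderOf y = p → Nat.card (MulAction.fixedBy (G ⧸ Subgroup.normalizer ((P : Subgroup G) : Set G)) y) = 1) ∧ ∀ x : G, x ∈ Subgroup.normalizer ((P : Subgroup G) : Set G) → x ∉ Subgroup.centralizer ((P : Subgroup G) : Set G) → Nat.card (MulAction.fixedBy (G ⧸ Subgroup.normalizer ((P : Subgroup G) : Set G)) x) ≤ Nat.card (MulAction.orbitRel.Quotient ↥(P : Subgroup G) (G ⧸ Subgroup.normalizer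 ((P : Subgroup G) : Set G))) := by
  open Subgroup CfsgH1 CfsgFT CfsgH2 CfsgH8 MulAction in
  have pp : p.Prime := Fact.out
  have fx : ∀ y g : G, (g : G ⧸ N((P : Subgroup G))) ∈ fixedBy _ y ↔ g⁻¹ * y * g ∈ N((P : Subgroup G)) := fun y g => by
    rw [mem_fixedBy, Quotient.smul_mk, eq_comm, QuotientGroup.eq, smul_eq_mul, mul_assoc]
  refine ⟨fun y hy => ?_, fun x h1 h2 => ?_⟩
  · have fy : ∀ g : G, g⁻¹ * y * g ∈ N((P : Subgroup G)) → g⁻¹ * y * g ∈ (P : Subgroup G) := fun g hg =>
      (IsSylowIn.of_sylow_top P).le_of_le_normalizer (isPGroup_zpowers_of_orderOf (k := 1)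
        (by simpa [hy] using orderOf_conj' g⁻¹ y)) le_top (zpowers_le.2 hg) (mem_zpowers _)
    obtain ⟨g, hg⟩ := exists_conj_mem_sylow P (k := 1) (x := y) (by simpa using hy)
    refine Nat.card_eq_one_iff_exists.2 ⟨⟨(g⁻¹ :), (fx y _).2 (le_normalizer (by rwa [inv_inv]))⟩, fun ⟨a, ha⟩ => ?_⟩
    obtain ⟨a, rfl⟩ := QuotientGroup.mk_surjective a
    refine Subtype.ext (QuotientGroup.eq.2 (mem_norm_of_conj pp hP hg (fun e => pp.one_lt.ne ?_) ?_))
    · rw [← hy, ← orderOf_conj' g, e, orderOf_one]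
    · simpa [mul_assoc] using fy a ((fx y a).1 ha)
  · refine Nat.card_le_card_of_injective (fun a => Quotient.mk _ a.1) fun a b h => Subtype.ext ?_
    obtain ⟨⟨u, hu⟩, e⟩ := Quotient.exact h
    replace e : u • b.1 = a.1 := e
    have hw : u⁻¹ * (x * u * x⁻¹) ∈ (P : Subgroup G) := mul_mem (inv_mem hu) (CfsgH1.conj_mem_of_mem_normalizer h1 hu)
    have hb : x⁻¹ • b.1 = b.1 := inv_smul_eq_iff.2 (Eq.symm b.2)
    have h3 : u⁻¹ * (x * u * x⁻¹) ∈ stabilizer G b.1 := by
      rw [mem_stabilizer_iff, mul_smul, mul_smul, hb, mul_smul, e, show x • a.1 = a.1 from a.2, ← e, inv_smul_smul]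
    by_cases u1 : u = 1
    · rw [← e, u1, one_smul]
    by_cases w1 : u⁻¹ * (x * u * x⁻¹) = 1
    · refine absurd ?_ h2
      rw [← CfsgH8.zpowers_eq_of_prime pp hP hu u1, CfsgH8.cent_zpowers, mem_C1, ← mul_inv_eq_iff_eq_mul]
      exact (inv_mul_eq_one.1 w1).symm
    · rw [← e]
      exact zpowers_le.2 h3 (by rwa [CfsgH8.zpowers_eq_of_prime pp hP hw w1])

end Cfsg.Agent.S1018
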