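import Cfsg.Statements.S1019
import Cfsg.Agent.H1.PG3
import Cfsg.Agent.H2.StrEmb

set_option autoImplicit false
open Cfsg

namespace Cfsg.Agent.S1019

/-- Let H be a subgroup of a finite group G and x an element of H. In the action of G on the left cosets of H, the number of cosets fixed by x, multiplied by the size of the conjugacy class of x, equals the index of H multiplied by the number of conjugates of x that lie in H. -/
theorem result {G : Type*} [Group G] [Finite G] (H : Subgroup G) (x : G) (hx : x ∈ H) : Nat.card (MulAction.fixedBy (G ⧸ H) x) * Nat.card {g : G // IsConj x g} = H.index * Nat.card {g : G // IsConj x g ∧ g ∈ H} := by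
  open Subgroup CfsgH1 CfsgFT CfsgH2 MulAction in
  have h1 : Nat.card {g : G // g⁻¹ * x * g ∈ H} = Nat.card (fixedBy (G ⧸ H) x) * Nat.card H := by
    refine card_of_fib (fun g => ⟨(g.1 : G ⧸ H), by
      rw [mem_fixedBy, Quotient.smul_mk, eq_comm, QuotientGroup.eq, smul_eq_mul, ← mul_assoc]; exact g.2⟩) fun ⟨a, ha⟩ => ?_
    · obtain ⟨a, rfl⟩ := QuotientGroup.mk_surjective a
      rw [mem_fixedBy, Quotient.smul_mk, eq_comm, QuotientGroup.eq, smul_eq_mul, ← mul_assoc] at ha
      refine Nat.card_congr ⟨fun g => ⟨a⁻¹ * g.1.1, QuotientGroup.eq.1 (congrArg Subtype.val g.2).symm⟩,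
        fun k => ⟨⟨a * k, by simpa [mul_assoc] using mul_mem (mul_mem (inv_mem k.2) ha) k.2⟩,
          Subtype.ext (QuotientGroup.mk_mul_of_mem a k.2)⟩, fun g => by simp, fun k => by simp⟩
  have h2 : Nat.card {g : G // g⁻¹ * x * g ∈ H} = Nat.card {g : G // IsConj x g ∧ g ∈ H} * Nat.card C1(x) := by
    refine card_of_fib (fun g => ⟨g.1⁻¹ * x * g.1, isConj_iff.2 ⟨g.1⁻¹, by simp⟩, g.2⟩) fun ⟨y, hy, hH⟩ => ?_
    obtain ⟨c, rfl⟩ := isConj_iff.1 hy
    rw [← card_conj_eq x c]
    exact Nat.card_congr ⟨fun g => ⟨g.1.1⁻¹, by simpa using congrArg Subtype.val g.2⟩,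
      fun k => ⟨⟨k.1⁻¹, by simpa [k.2] using hH⟩, Subtype.ext (by simpa using k.2)⟩, fun g => by simp, fun k => by simp⟩
  refine Nat.eq_of_mul_eq_mul_right (Nat.card_pos (α := H)) ?_
  rw [mul_right_comm, ← h1, h2, mul_assoc, mul_comm (Nat.card C1(x)), card_cls, mul_right_comm, index_mul_card, mul_comm]

end Cfsg.Agent.S1019
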