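import Cfsg.Statements.S1026
import Cfsg.Agent.H6.All

set_option autoImplicit false
open Cfsg

namespace Cfsg.Agent.S1026

open CfsgH6 CfsgH6.Chev in
theorem aux {F : Type*} [Field F] {D : Cfsg.Lie.ChevalleyDatum} (g : Good D) (L : List (Fin D.nroots)) (t : ℕ → F) :
    D.wordMat F ((L.map Fin.val).map fun r => (r, t r)) =
      ((L.map fun r => (g.adj F).x r (t r)).prod : GL D.Idx F) := by
  induction L with
  | nil => rfl
  | cons a L ih => rw [List.map_cons, List.map_cons, wordMat_cons, ih]; simp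

/-- Every element of `U` has a unique expression `∏_{r ∈ Φ⁺} x_r(t_r)`, the product over the positive roots in increasing index order (the coefficient family `t`, supported on the positive roots, exists and is unique); and conversely every such ordered product is the matrix of an element of `U`. -/
theorem result {F : Type*} [Field F] (D : Cfsg.Lie.ChevalleyDatum) (hD : D ∈ [Cfsg.Lie.chevG2, Cfsg.Lie.chevB2, Cfsg.Lie.chevD4, Cfsg.Lie.chevF4, Cfsg.Lie.chevE6, Cfsg.Lie.chevE7, Cfsg.Lie.chevE8]) :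
    (∀ g : GL D.Idx F, g ∈ D.posUnipotent F →
      ∃! t : ℕ → F, (∀ r, ¬ D.IsPosRoot r → t r = 0) ∧
        (g : Matrix D.Idx D.Idx F) = D.wordMat F (D.posRoots.map fun r => (r, t r))) ∧
    (∀ t : ℕ → F, ∃ g : GL D.Idx F, g ∈ D.posUnipotent F ∧
      (g : Matrix D.Idx D.Idx F) = D.wordMat F (D.posRoots.map fun r => (r, t r))) := by
  classical
  obtain ⟨g⟩ := CfsgH6.Chev.good_of_mem hD
  let L : List (Fin D.nroots) := (List.finRange D.nroots).filter fun r => decide (D.IsPosRoot r)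
  have hL : D.posRoots = L.map Fin.val := by
    rw [Cfsg.Lie.ChevalleyDatum.posRoots, ← List.map_coe_finRange_eq_range, List.filter_map]; rfl
  have hmem : ∀ r, r ∈ L ↔ g.cd.Pos r := fun r => by simp [L, g.isPosRoot_iff]
  have hnd : L.Nodup := (List.nodup_finRange _).filter _
  have hs : L.Pairwise fun a b => CfsgH6.Chev.Good.lex D (g.cd.rt a) ≤ CfsgH6.Chev.Good.lex D (g.cd.rt b) :=
    ((List.pairwise_lt_finRange _).filter _).imp fun h => (g.lex_lt h).le
  have hpos : ∀ r ∈ L, 0 < CfsgH6.Chev.Good.lex D (g.cd.rt r) := by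
    intro r hr
    have h1 := g.pos_iff.1 ((hmem r).1 hr)
    have h2 : g.cd.neg r < r := by
      have := g.ag.neg_eq r.2
      have := g.ag.even
      have := r.2
      rw [Fin.lt_def, g.cd_neg]; omega
    have h3 := g.lex_lt h2
    rw [← g.cd_rt, g.cd.rt_neg, map_neg, g.cd_rt] at h3
    rw [g.cd_rt]; omega
  have e : {r | r ∈ L} = {r | g.cd.Pos r} := Set.ext hmem
  rw [hL, g.U_eq]
  refine ⟨fun y hy => ?_, fun t => ⟨_, (g.adj F).prod_mem L (fun r hr => (hmem r).1 hr) _, (aux g L t).symm⟩⟩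
  obtain ⟨t, rfl⟩ := (g.adj F).exists_prod _ L hnd hs hpos (by
    rw [e]
    intro a ha b hb c hc
    have := CfsgH6.PreSt.phi_tm_ge CfsgH6.RS.ht hc (g.cd.ht_pos ha).le (g.cd.ht_pos hb).le
    have h1 := g.cd.ht_pos ha
    have h2 := g.cd.ht_pos hb
    exact g.cd.ht_pos_iff.1 (by omega)) (g := y) (by rw [e]; exact hy)
  refine ⟨fun r => if h : D.IsPosRoot r then t ⟨r, h.1⟩ else 0, ⟨fun r hr => dif_neg hr, ?_⟩, ?_⟩
  · rw [aux g]
    congr 2
    refine List.map_congr_left fun r hr => ?_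
    rw [dif_pos (g.isPosRoot_iff.2 ((hmem r).1 hr))]
  · rintro t' ⟨h1, h2⟩
    rw [aux g] at h2
    have := (g.adj F).prod_unique g.sep1 _ L hnd hs hpos (Units.ext h2)
    ext r
    split_ifs with h
    · exact (this ⟨r, h.1⟩ ((hmem _).2 (g.isPosRoot_iff.1 h))).symm
    · exact h1 r h

end Cfsg.Agent.S1026
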