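import Cfsg.Statements.S1027
import Cfsg.Agent.H6.All

set_option autoImplicit false
open Cfsg

namespace Cfsg.Agent.S1027

/-- For the subgroup `U` generated by the root elements `x_r(t)` of the positive roots `r`: `|U| = q^N` over a field with `q` elements, where `N` is the number of positive roots (half the number of roots). -/
theorem result {F : Type*} [Field F] [Fintype F] (D : Cfsg.Lie.ChevalleyDatum) (hD : D ∈ [Cfsg.Lie.chevG2, Cfsg.Lie.chevB2, Cfsg.Lie.chevD4, Cfsg.Lie.chevF4, Cfsg.Lie.chevE6, Cfsg.Lie.chevE7, Cfsg.Lie.chevE8]) :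
    Nat.card (D.posUnipotent F) = Fintype.card F ^ (D.nroots / 2) := by
  obtain ⟨g⟩ := CfsgH6.Chev.good_of_mem hD
  rw [g.U_eq, CfsgH6.PreSt.U, (g.adj F).card_XS g.sep1 CfsgH6.RS.ht (S := {r | g.cd.Pos r}) (fun r hr => g.cd.ht_pos hr) (by
    intro a ha b hb c hc
    have := CfsgH6.PreSt.phi_tm_ge CfsgH6.RS.ht hc (g.cd.ht_pos ha).le (g.cd.ht_pos hb).le
    have h1 := g.cd.ht_pos ha
    have h2 := g.cd.ht_pos hb
    exact g.cd.ht_pos_iff.1 (by omega)), Nat.card_eq_fintype_card]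
  congr 1
  have he := g.ag.even
  rw [← Nat.card_fin (D.nroots / 2)]
  refine Nat.card_congr ⟨fun r => ⟨r.1 - D.nroots / 2, ?_⟩, fun k => ⟨⟨k + D.nroots / 2, ?_⟩, ?_⟩, ?_, ?_⟩
  · have := r.1.2; have := g.pos_iff.1 r.2; omega
  · have := k.2; omega
  · exact g.pos_iff.2 (by simp)
  · intro r
    have := g.pos_iff.1 r.2
    ext; simp only; omega
  · intro k; ext; simp

end Cfsg.Agent.S1027
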