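import Cfsg.Statements.S1037
import Cfsg.Agent.H6.All

set_option autoImplicit false
open Cfsg

namespace Cfsg.Agent.S1037

/-- `UH ∩ V = 1` and `UH ∩ VH = H`. -/
theorem result {F : Type*} [Field F] (D : Cfsg.Lie.ChevalleyDatum) (hD : D ∈ [Cfsg.Lie.chevG2, Cfsg.Lie.chevB2, Cfsg.Lie.chevD4, Cfsg.Lie.chevF4, Cfsg.Lie.chevE6, Cfsg.Lie.chevE7, Cfsg.Lie.chevE8]) :
    D.borelSubgroup F ⊓ D.negUnipotent F = ⊥ ∧
      D.borelSubgroup F ⊓ (D.negUnipotent F ⊔ D.diagonalSubgroup F) = D.diagonalSubgroup F := by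
  obtain ⟨g⟩ := CfsgH6.Chev.good_of_mem hD
  rw [g.B_eq, g.H_eq, g.V_eq]
  exact ⟨eq_bot_iff.2 fun y hy => (g.isSt F).eq_one_of_mem_B_V hy.1 hy.2,
    le_antisymm (fun y hy => (g.isSt F).mem_H_of_mem_B_VH hy.1 hy.2) (le_inf (g.adj F).H_le_B le_sup_right)⟩

end Cfsg.Agent.S1037
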