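import Cfsg.Statements.S1039
import Cfsg.Agent.H6.Num

set_option autoImplicit false
open Cfsg

namespace Cfsg.Agent.S1039

open CfsgH6 CfsgH6.Chev in
theorem aux {F : Type*} [Field F] {D : Cfsg.Lie.ChevalleyDatum} (g : Good D) (M : CoxeterMatrix (Fin D.rank))
    (h : ∃ cs : CoxeterSystem M g.cd.W, ∀ i, cs.simple i = g.cd.sW i) :
    ∃ φ : ↥(D.monomialSubgroup F) →* M.Group, Function.Surjective φ ∧
      φ.ker = (D.diagonalSubgroup F).subgroupOf (D.monomialSubgroup F) ∧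
      ∀ (i : Fin D.rank) (y : ↥(D.monomialSubgroup F)),
        ((y : GL D.Idx F) : Matrix D.Idx D.Idx F) = D.nMat F (D.simple i) 1 → φ y = M.simple i := by
  obtain ⟨cs, hcs⟩ := h
  rw [g.N_eq, g.H_eq]
  let π := (g.isSt F).pi.codRestrict g.cd.W (g.isSt F).pi_mem
  refine ⟨cs.mulEquiv.toMonoidHom.comp π, cs.mulEquiv.surjective.comp fun w => ?_, ?_, fun i y hy => ?_⟩
  · obtain ⟨n, hn⟩ := (g.isSt F).range_pi.ge w.2
    exact ⟨n, Subtype.ext hn⟩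
  · rw [← (g.isSt F).ker_pi]
    ext y
    simp [π, Subtype.ext_iff]
  · have h1 : (y : GL D.Idx F) = (g.adj F).n (g.cd.sim i) 1 := Units.ext (hy.trans (g.coe_n F (g.cd.sim i) 1).symm)
    have h2 : π y = cs.simple i := by
      rw [hcs]; exact Subtype.ext ((g.isSt F).pi_eq (h1 ▸ (g.isSt F).act_sim i))
    simp only [MulEquiv.toMonoidHom_eq_coe, MonoidHom.coe_comp, MonoidHom.coe_coe, Function.comp_apply, h2]
    exact cs.mulEquiv.apply_symm_apply _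

/-- `N/H ≅ W`: there is a surjective homomorphism from `N` onto the Coxeter group of the type (Mathlib's Coxeter matrix G₂, B₂, F₄, E₆, E₇, E₈, nodes numbered as the fundamental roots) with kernel `H`, mapping each `n_{p_i}` to the `i`-th simple reflection. -/
theorem result {F : Type*} [Field F]
    (p : Cfsg.Lie.ChevalleyDatum × (Σ n : ℕ, CoxeterMatrix (Fin n)))
    (hp : p ∈ [(Cfsg.Lie.chevG2, ⟨2, CoxeterMatrix.G₂⟩), (Cfsg.Lie.chevB2, ⟨2, CoxeterMatrix.B 2⟩), (Cfsg.Lie.chevD4, ⟨4, Cfsg.Lie.coxeterD4⟩), (Cfsg.Lie.chevF4, ⟨4, CoxeterMatrix.F₄⟩),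
      (Cfsg.Lie.chevE6, ⟨6, CoxeterMatrix.E₆⟩), (Cfsg.Lie.chevE7, ⟨7, CoxeterMatrix.E₇⟩), (Cfsg.Lie.chevE8, ⟨8, CoxeterMatrix.E₈⟩)]) :
    ∃ φ : ↥(p.1.monomialSubgroup F) →* p.2.2.Group, Function.Surjective φ ∧
      φ.ker = (p.1.diagonalSubgroup F).subgroupOf (p.1.monomialSubgroup F) ∧
      ∀ (i : Fin p.2.1) (g : ↥(p.1.monomialSubgroup F)),
        ((g : GL p.1.Idx F) : Matrix p.1.Idx p.1.Idx F) = p.1.nMat F (p.1.simple i) 1 → φ g = p.2.2.simple i := by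
  simp only [List.mem_cons, List.not_mem_nil, or_false] at hp
  rcases hp with rfl | rfl | rfl | rfl | rfl | rfl | rfl
  exacts [aux _ _ CfsgH6.Chev.coxG2, aux _ _ CfsgH6.Chev.coxB2, aux _ _ CfsgH6.Chev.coxD4,
    aux _ _ CfsgH6.Chev.coxF4, aux _ _ CfsgH6.Chev.coxE6, aux _ _ CfsgH6.Chev.coxE7, aux _ _ CfsgH6.Chev.coxE8]

end Cfsg.Agent.S1039
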