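import Cfsg.Statements.S1044
import Cfsg.Agent.H6.All
import Cfsg.Agent.H6.Br4

set_option autoImplicit false
open Cfsg

namespace Cfsg.Agent.S1044

/-- For a fundamental root `p` the set `B ∪ B n_p B` is (the carrier of) a subgroup of the general linear group. -/
theorem result {F : Type*} [Field F] (D : Cfsg.Lie.ChevalleyDatum) (hD : D ∈ [Cfsg.Lie.chevG2, Cfsg.Lie.chevB2, Cfsg.Lie.chevD4, Cfsg.Lie.chevF4, Cfsg.Lie.chevE6, Cfsg.Lie.chevE7, Cfsg.Lie.chevE8]) (i : ℕ) (hi : i < D.rank) (n : GL D.Idx F)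
    (hn : (n : Matrix D.Idx D.Idx F) = D.nMat F (D.simple i) 1) :
    ∃ P : Subgroup (GL D.Idx F), (P : Set (GL D.Idx F)) =
      (D.borelSubgroup F : Set (GL D.Idx F)) ∪ DoubleCoset.doubleCoset n (D.borelSubgroup F : Set (GL D.Idx F)) (D.borelSubgroup F) := by
  obtain ⟨g⟩ := CfsgH6.Chev.good_of_mem hD
  have h1 : n = (g.adj F).n (g.cd.sim ⟨i, hi⟩) 1 := Units.ext (hn.trans (g.coe_n F (g.cd.sim ⟨i, hi⟩) 1).symm)
  rw [g.B_eq]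
  let P := (g.isSt F).toG.bn (g.adj F).toG_G
  have hs : (g.adj F).toG.n (g.cd.sim ⟨i, hi⟩) 1 ∈ P.S := ⟨_, rfl⟩
  have hB : ∀ y, y ∈ P.B ↔ (y : GL D.Idx F) ∈ (g.adj F).B := fun y => by
    rw [show P.B = _ from (g.isSt F).bn_B]; rfl
  refine ⟨(P.parabolic {(g.adj F).toG.n (g.cd.sim ⟨i, hi⟩) 1}).map (g.adj F).G.subtype, ?_⟩
  ext y
  simp only [Subgroup.coe_map, Set.mem_image, SetLike.mem_coe, CfsgH6.BN.parabolic_singleton_iff P hs,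
    Set.mem_union, DoubleCoset.mem_doubleCoset, h1]
  constructor
  · rintro ⟨y, h | ⟨a, ha, b, hb, rfl⟩, rfl⟩
    · exact Or.inl ((hB y).1 h)
    · exact Or.inr ⟨a, (hB a).1 ha, b, (hB b).1 hb, rfl⟩
  · rintro (h | ⟨a, ha, b, hb, rfl⟩)
    · exact ⟨⟨y, (g.adj F).B_le_G h⟩, Or.inl ((hB _).2 h), rfl⟩
    · exact ⟨_, Or.inr ⟨⟨a, (g.adj F).B_le_G ha⟩, (hB _).2 ha, ⟨b, (g.adj F).B_le_G hb⟩, (hB _).2 hb, rfl⟩, rfl⟩

end Cfsg.Agent.S1044
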