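import Cfsg.Statements.S1045
import Cfsg.Agent.H6.All
import Cfsg.Agent.H6.Br4

set_option autoImplicit false
open Cfsg

namespace Cfsg.Agent.S1045

/-- For a fundamental root `p`, the subgroup `U_p` generated by the `X_s`, `s` positive and `s ≠ p`, is normalised by `X_p` and `X_{-p}`, and `U = U_p ⊔ X_p`. -/
theorem result {F : Type*} [Field F] (D : Cfsg.Lie.ChevalleyDatum) (hD : D ∈ [Cfsg.Lie.chevG2, Cfsg.Lie.chevB2, Cfsg.Lie.chevD4, Cfsg.Lie.chevF4, Cfsg.Lie.chevE6, Cfsg.Lie.chevE7, Cfsg.Lie.chevE8]) (i : ℕ) (hi : i < D.rank) :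
    D.rootSubgroup F (D.simple i) ⊔ D.rootSubgroup F (D.neg (D.simple i)) ≤
        Subgroup.normalizer (Subgroup.closure {g : GL D.Idx F | ∃ (s : ℕ) (t : F), D.IsPosRoot s ∧ s ≠ D.simple i ∧
          (g : Matrix D.Idx D.Idx F) = D.x F s t} : Set (GL D.Idx F)) ∧
      Subgroup.closure {g : GL D.Idx F | ∃ (s : ℕ) (t : F), D.IsPosRoot s ∧ s ≠ D.simple i ∧
          (g : Matrix D.Idx D.Idx F) = D.x F s t} ⊔ D.rootSubgroup F (D.simple i) = D.posUnipotent F := by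
  obtain ⟨g⟩ := CfsgH6.Chev.good_of_mem hD
  have e : Subgroup.closure {y : GL D.Idx F | ∃ (s : ℕ) (t : F), D.IsPosRoot s ∧ s ≠ D.simple i ∧
      (y : Matrix D.Idx D.Idx F) = D.x F s t} = (g.adj F).UJ {⟨i, hi⟩} := by
    rw [CfsgH6.PreSt.UJ_singleton, ← g.closure_eq F (fun s => D.IsPosRoot s ∧ s ≠ D.simple i) (fun _ h => h.1.1) _
      fun r => by rw [g.isPosRoot_iff, Set.mem_ofPred_eq, Ne, Ne, Fin.ext_iff]; rfl]
    simp only [and_assoc]
  have e1 := g.root_eq F (g.cd.sim ⟨i, hi⟩)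
  have e2 := g.root_eq F (g.cd.neg (g.cd.sim ⟨i, hi⟩))
  simp only [CfsgH6.Chev.Good.cd_neg, CfsgH6.Chev.Good.cd_sim] at e1 e2
  rw [e, e1, e2, g.U_eq]
  refine ⟨le_trans ?_ ((g.isSt F).PJ_le_normalizer _), ?_⟩
  · rw [(g.isSt F).PJ_eq]
    refine le_trans (sup_le ((g.adj F).XS_mono ?_) ((g.adj F).XS_mono ?_)) le_sup_right
    · rintro _ rfl; exact Or.inl (g.cd.pos_sim _)
    · rintro _ rfl; exact Or.inr (g.cd.inJ_singleton.2 (Or.inr rfl))
  · rw [CfsgH6.PreSt.UJ_singleton, ← CfsgH6.PreSt.XS_union, CfsgH6.PreSt.U]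
    congr 1
    ext r
    simp only [Set.mem_union, Set.mem_ofPred_eq, Set.mem_singleton_iff]
    refine ⟨fun h => h.elim (·.1) (· ▸ g.cd.pos_sim _), fun h => ?_⟩
    tauto

end Cfsg.Agent.S1045
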