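import Cfsg.Statements.S1081
import Cfsg.Agent.H6.Aut0

set_option autoImplicit false
open Cfsg

namespace Cfsg.Agent.S1081

open CfsgH6 CfsgH6.Chev CfsgH6.Chev.Good in
theorem aux {F : Type*} [Field F] {D : Cfsg.Lie.ChevalleyDatum} (γ : Good D) (L : List ℕ) (tab : ℕ)
    (h : chkMor γ.T γ.T ctx0 tab 0 γ.T.n = true) (π : Equiv.Perm (Fin D.rank))
    (ht : TabS D tab π fun _ => 1) (hL : ∀ i : Fin D.rank, L.getD i 0 = π i) :
    ∃ α : ↥(D.group F) ≃* ↥(D.group F), ∀ (g : ↥(D.group F)) (i : ℕ) (t : F), i < D.rank →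
      (((g : GL D.Idx F) : Matrix D.Idx D.Idx F) = D.x F (D.simple i) t →
        ((α g : GL D.Idx F) : Matrix D.Idx D.Idx F) = D.x F (D.simple (L.getD i 0)) t) ∧
      (((g : GL D.Idx F) : Matrix D.Idx D.Idx F) = D.x F (D.neg (D.simple i)) t →
        ((α g : GL D.Idx F) : Matrix D.Idx D.Idx F) = D.x F (D.neg (D.simple (L.getD i 0))) t) := by
  obtain ⟨α, -, hα⟩ := γ.gr0 h ht (RingEquiv.refl F)
  refine ⟨α, fun g i t hi => ?_⟩
  have := γ.gr_iff.1 hα g ⟨i, hi⟩ t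
  rw [← hL] at this
  exact this

/-- Graph automorphisms: for E₆ with ρ = (p₁ p₆)(p₃ p₅) and for D₄ with ρ the 3-cycle on the outer nodes there is a group automorphism sending `x_p(t) ↦ x_{ρ(p)}(t)` and `x_{-p}(t) ↦ x_{-ρ(p)}(t)` for every fundamental root `p`. -/
theorem result {F : Type*} [Field F] (p : Cfsg.Lie.ChevalleyDatum × List ℕ)
    (hp : p ∈ [(Cfsg.Lie.chevE6, [5, 1, 4, 3, 2, 0]), (Cfsg.Lie.chevD4, [2, 1, 3, 0]), (Cfsg.Lie.chevD4, [3, 1, 0, 2])]) :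
    ∃ α : ↥(p.1.group F) ≃* ↥(p.1.group F), ∀ (g : ↥(p.1.group F)) (i : ℕ) (t : F), i < p.1.rank →
      (((g : GL p.1.Idx F) : Matrix p.1.Idx p.1.Idx F) = p.1.x F (p.1.simple i) t →
        ((α g : GL p.1.Idx F) : Matrix p.1.Idx p.1.Idx F) = p.1.x F (p.1.simple (p.2.getD i 0)) t) ∧
      (((g : GL p.1.Idx F) : Matrix p.1.Idx p.1.Idx F) = p.1.x F (p.1.neg (p.1.simple i)) t →
        ((α g : GL p.1.Idx F) : Matrix p.1.Idx p.1.Idx F) = p.1.x F (p.1.neg (p.1.simple (p.2.getD i 0))) t) := by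
  simp only [List.mem_cons, List.not_mem_nil, or_false] at hp
  rcases hp with rfl | rfl | rfl
  · exact aux CfsgH6.Chev.gE6 _ _ CfsgH6.Chev.mE6g _ CfsgH6.Chev.tabE6 (fun _ => rfl)
  · exact aux CfsgH6.Chev.gD4 _ _ CfsgH6.Chev.mD4g2130 _ CfsgH6.Chev.tab2130 (fun _ => rfl)
  · exact aux CfsgH6.Chev.gD4 _ _ CfsgH6.Chev.mD4g3102 _ CfsgH6.Chev.tab3102 (fun _ => rfl)

end Cfsg.Agent.S1081
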