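import Cfsg.Statements.S1094
import Cfsg.Agent.H6.Num

set_option autoImplicit false
open Cfsg

namespace Cfsg.Agent.S1094

open CfsgH6 CfsgH6.Chev in
theorem aux {D : Cfsg.Lie.ChevalleyDatum} (g : Good D) (M : CoxeterMatrix (Fin D.rank))
    (h : ∃ cs : CoxeterSystem M g.cd.W, ∀ i, cs.simple i = g.cd.sW i) {k : ℕ}
    (hk : orderOf (g.cd.EW.wp (List.finRange D.rank)) = k) :
    orderOf ((List.finRange D.rank).map M.simple).prod = k := by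
  obtain ⟨cs, hcs⟩ := h
  rw [← hk, ← cs.mulEquiv.symm.orderOf_eq, map_list_prod, List.map_map, ExchSys.wp]
  congr 3
  ext1 i
  exact hcs i

/-- The Coxeter element `s₁ s₂ ⋯ s_l` of the Coxeter group of type B₂, G₂, D₄, F₄, E₆, E₇, E₈ has order `h = 2N/l` = 4, 6, 6, 12, 12, 18, 30. -/
theorem result (p : (Σ n : ℕ, CoxeterMatrix (Fin n)) × ℕ)
    (hp : p ∈ [(⟨2, CoxeterMatrix.B 2⟩, 4), (⟨2, CoxeterMatrix.G₂⟩, 6), (⟨4, Cfsg.Lie.coxeterD4⟩, 6), (⟨4, CoxeterMatrix.F₄⟩, 12),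
      (⟨6, CoxeterMatrix.E₆⟩, 12), (⟨7, CoxeterMatrix.E₇⟩, 18), (⟨8, CoxeterMatrix.E₈⟩, 30)]) :
    orderOf ((List.finRange p.1.1).map p.1.2.simple).prod = p.2 := by
  simp only [List.mem_cons, List.not_mem_nil, or_false] at hp
  rcases hp with rfl | rfl | rfl | rfl | rfl | rfl | rfl
  exacts [aux _ _ CfsgH6.Chev.coxB2 CfsgH6.Chev.ordB2, aux _ _ CfsgH6.Chev.coxG2 CfsgH6.Chev.ordG2,
    aux _ _ CfsgH6.Chev.coxD4 CfsgH6.Chev.ordD4, aux _ _ CfsgH6.Chev.coxF4 CfsgH6.Chev.ordF4,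
    aux _ _ CfsgH6.Chev.coxE6 CfsgH6.Chev.ordE6, aux _ _ CfsgH6.Chev.coxE7 CfsgH6.Chev.ordE7,
    aux _ _ CfsgH6.Chev.coxE8 CfsgH6.Chev.ordE8]

end Cfsg.Agent.S1094
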