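import Cfsg.Statements.S1096
import Cfsg.Agent.H6.All

set_option autoImplicit false
open Cfsg

namespace Cfsg.Agent.S1096

/-- `n_p h_{p_j}(t) n_p⁻¹ = h_{w_p(p_j)}(t)` for fundamental `p`, `p_j` and `t ≠ 0`, stated as `n_p h_{p_j}(t) = h_{w_p(p_j)}(t) n_p`. -/
theorem result {F : Type*} [Field F] (D : Cfsg.Lie.ChevalleyDatum) (hD : D ∈ [Cfsg.Lie.chevG2, Cfsg.Lie.chevB2, Cfsg.Lie.chevD4, Cfsg.Lie.chevF4, Cfsg.Lie.chevE6, Cfsg.Lie.chevE7, Cfsg.Lie.chevE8]) (i j : ℕ) (hi : i < D.rank) (hj : j < D.rank) (t : F) (ht : t ≠ 0) :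
    D.nMat F (D.simple i) 1 * D.hMat F (D.simple j) t = D.hMat F (D.reflectRoot i (D.simple j)) t * D.nMat F (D.simple i) 1 := by
  obtain ⟨g⟩ := CfsgH6.Chev.good_of_mem hD
  have h1 := g.h_eq_dg (g.cd.sim ⟨j, hj⟩) (Units.mk0 t ht)
  have h2 := g.h_eq_dg (g.cd.w ⟨i, hi⟩ (g.cd.sim ⟨j, hj⟩)) (Units.mk0 t ht)
  have h3 := g.n_sim_dg ⟨i, hi⟩
    (χ := CfsgH6.Chev.Good.chi (g.cd.prHom (g.cd.co (g.cd.sim ⟨j, hj⟩))) (Units.mk0 t ht))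
    (χ' := CfsgH6.Chev.Good.chi (g.cd.prHom (g.cd.co (g.cd.w ⟨i, hi⟩ (g.cd.sim ⟨j, hj⟩)))) (Units.mk0 t ht))
    (fun s => by
      rw [CfsgH6.Chev.Good.chi_apply, CfsgH6.Chev.Good.chi_apply, CfsgH6.RS.prHom_apply, CfsgH6.RS.prHom_apply,
        ← g.cd_rt, ← g.cd_rt, ← CfsgH6.RS.A, ← CfsgH6.RS.A, CfsgH6.RS.A_w_w])
  rw [← h1, ← h2, mul_inv_eq_iff_eq_mul] at h3
  have h := congrArg Units.val h3
  rw [g.reflectRoot_eq hi (g.sim_lt hj)]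
  simpa [g.coe_h, g.coe_n] using h

end Cfsg.Agent.S1096
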