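import Cfsg.Statements.S1100
import Cfsg.Agent.H6.All
import Cfsg.Agent.H6.Br4

set_option autoImplicit false
open Cfsg

namespace Cfsg.Agent.S1100

open CfsgH6 CfsgH6.Chev in
theorem aux {F : Type*} [Field F] {D : Cfsg.Lie.ChevalleyDatum} (g : Good D) {n : GL D.Idx F}
    {σ : Equiv.Perm (Fin D.nroots)} (ha : (g.adj F).Act n σ) :
    Subgroup.closure {x : GL D.Idx F | ∃ (r : ℕ) (t : F), D.IsPosRoot r ∧
      (D.rootSubgroup F r).map (MulAut.conj n).toMonoidHom ≤ D.negUnipotent F ∧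
        (x : Matrix D.Idx D.Idx F) = D.x F r t} = PreSt.IsSt.Um (g.adj F) σ := by
  rw [PreSt.IsSt.Um, ← g.closure_eq F (fun r => D.IsPosRoot r ∧
    (D.rootSubgroup F r).map (MulAut.conj n).toMonoidHom ≤ D.negUnipotent F) (fun _ h => h.1.1) _ fun r => ?_]
  · simp only [and_assoc]
  · rw [g.isPosRoot_iff, g.root_eq, g.V_eq, Set.mem_ofPred_eq]
    refine and_congr_right fun _ => ⟨fun h => ?_, fun h => ?_⟩
    · obtain ⟨v, hv⟩ := ha.conj_le r 1
      exact (g.isSt F).not_pos_of_x_mem_V one_ne_zero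
        (hv ▸ h ⟨_, (g.adj F).x_mem_XS (Set.mem_singleton r) v, rfl⟩)
    · rintro _ ⟨y, hy, rfl⟩
      exact ha.conj_mem (S := {r}) (by simpa using h) hy

/-- Canonical form `g = b n_w u` (`b ∈ B`, `u ∈ U_w⁻ = ⟨X_r : r > 0, n_w X_r n_w⁻¹ ≤ V⟩`): such a decomposition exists for every element of the group; the coset `n_w H` is determined by `g`; and for a fixed representative `n_w` the factors `b`, `u` are unique. -/
theorem result {F : Type*} [Field F] (D : Cfsg.Lie.ChevalleyDatum) (hD : D ∈ [Cfsg.Lie.chevG2, Cfsg.Lie.chevB2, Cfsg.Lie.chevD4, Cfsg.Lie.chevF4, Cfsg.Lie.chevE6, Cfsg.Lie.chevE7, Cfsg.Lie.chevE8]) :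
    (∀ g ∈ D.group F, ∃ b ∈ D.borelSubgroup F, ∃ n ∈ D.monomialSubgroup F,
      ∃ u ∈ Subgroup.closure {x : GL D.Idx F | ∃ (r : ℕ) (t : F), D.IsPosRoot r ∧
            (D.rootSubgroup F r).map (MulAut.conj n).toMonoidHom ≤ D.negUnipotent F ∧ (x : Matrix D.Idx D.Idx F) = D.x F r t},
        g = b * n * u) ∧
    (∀ (b b' n n' u u' : GL D.Idx F), b ∈ D.borelSubgroup F → b' ∈ D.borelSubgroup F →
      n ∈ D.monomialSubgroup F → n' ∈ D.monomialSubgroup F →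
      u ∈ Subgroup.closure {x : GL D.Idx F | ∃ (r : ℕ) (t : F), D.IsPosRoot r ∧
            (D.rootSubgroup F r).map (MulAut.conj n).toMonoidHom ≤ D.negUnipotent F ∧ (x : Matrix D.Idx D.Idx F) = D.x F r t} →
      u' ∈ Subgroup.closure {x : GL D.Idx F | ∃ (r : ℕ) (t : F), D.IsPosRoot r ∧
            (D.rootSubgroup F r).map (MulAut.conj n').toMonoidHom ≤ D.negUnipotent F ∧ (x : Matrix D.Idx D.Idx F) = D.x F r t} →
      b * n * u = b' * n' * u' → n⁻¹ * n' ∈ D.diagonalSubgroup F ∧ (n = n' → b = b' ∧ u = u')) := by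
  obtain ⟨g⟩ := CfsgH6.Chev.good_of_mem hD
  rw [g.G_eq, g.B_eq, g.N_eq, g.H_eq]
  refine ⟨fun y hy => ?_, fun b b' n n' u u' hb hb' hn hn' hu hu' e => ?_⟩
  · obtain ⟨b, hb, n, hn, σ, -, ha, u, hu, e⟩ := (g.isSt F).bruhat hy
    exact ⟨b, hb, n, hn, u, by rw [aux g ha]; exact hu, e⟩
  · obtain ⟨σ, -, ha⟩ := (g.isSt F).exists_act hn
    obtain ⟨σ', -, ha'⟩ := (g.isSt F).exists_act hn'
    rw [aux g ha] at hu
    refine ⟨(g.isSt F).dc_unique' hn hn' hb hb' ((g.adj F).U_le_B (CfsgH6.PreSt.IsSt.Um_le_U _ hu))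
      ((g.adj F).U_le_B (CfsgH6.PreSt.IsSt.Um_le_U _ (by rwa [aux g ha'] at hu'))) e, ?_⟩
    rintro rfl
    rw [aux g ha] at hu'
    exact (g.isSt F).normal_form_unique ha hb hb' hu hu' e

end Cfsg.Agent.S1100
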