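import Cfsg.Statements.S1120
import Cfsg.Agent.H3.Suz4

set_option autoImplicit false
open Cfsg

namespace Cfsg.Agent.S1120

open Subgroup CfsgSuz CfsgH2 CfsgLead CfsgFT MulAction

/-- In the rank-one set-up (`G` finite and doubly transitive on `Ω`, `t` an involution moving `a`, `Q` normal in `G_a` with `G_a = Q D`, `Q ⊓ D = 1` for the two-point stabiliser `D = G_a ⊓ G_{t • a}`, `|Q|` even, `|D|` odd), if `G` has 2-rank at least 2 then `O_{2'}(G)` equals the normal core of `G_a`. -/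
theorem result {G Ω : Type*} [Group G] [Finite G] [MulAction G Ω] {a : Ω} {t : G} {Q : Subgroup G}
    (hS : Cfsg.IsRankOneSetup G Ω a t Q)
    (h2 : ∃ x y : G, x ≠ 1 ∧ y ≠ 1 ∧ x ≠ y ∧ x * x = 1 ∧ y * y = 1 ∧ x * y = y * x) :
    Cfsg.pPrimeCore 2 G = (MulAction.stabilizer G a).normalCore := by
  obtain ⟨s, r, R⟩ := (rk0_of_setup hS).exists_RK
  obtain ⟨u, hu, u1, u2, us⟩ := R.exists_ne h2
  haveI := (ea_Q0 Q).1
  apply le_antisymm
  · refine (normal_le_normalCore).2 (CfsgH1.le_of_noncyclic (A := Q0 Q) (fun hc => ?_) le_normalizer_of_normal ?_ ?_)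
    · have := CfsgH1.card_le_of_cyclic_ea (ea_Q0 Q) hc
      have h3 : 2 < Nat.card (Q0 Q) := by
        haveI := Fintype.ofFinite (Q0 Q)
        rw [Nat.card_eq_fintype_card, Fintype.two_lt_card_iff]
        exact ⟨⟨1, one_mem _⟩, ⟨s, R.s_mem_Q0⟩, ⟨u, R.mem_Q0_of_sq hu u2⟩, by simpa using R.s1.symm,
          by simpa using u1.symm, by simpa using us.symm⟩
      omega
    · obtain ⟨k, hk⟩ := IsPGroup.iff_card.1 (pgroup_Q0 Q)
      rw [hk]
      exact (CfsgH1.coprime_card_pPrimeCore 2 G).symm.pow_left k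
    · exact fun x hx x1 g hg => R.mem_of_comm (Q0_le Q hx) x1 (mem_top _) (mem_cent1'.1 hg.2)
  · refine CfsgH1.le_pPrimeCore (Nat.coprime_two_right.2 (Odd.of_dvd_nat R.odd (card_dvd_of_le fun x hx => ?_)))
    refine R.mem_D.2 ⟨normalCore_le _ hx, normalCore_le _ ?_⟩
    have := (normalCore_normal (stabilizer G a)).conj_mem x hx t
    rwa [R.ti] at this

end Cfsg.Agent.S1120
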