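import Cfsg.Statements.S1124
import Cfsg.Agent.H3.Suz4

set_option autoImplicit false
open scoped Pointwise
open Cfsg

namespace Cfsg.Agent.S1124

open Subgroup CfsgSuz CfsgH2 CfsgLead CfsgFT MulAction

/-- Let `t` be an element of order 2 of a finite group normalising a subgroup `X` of odd order, `Y = C_X(t)` and `Z` the set of elements of `X` inverted by `t`. Then `(y, z) ↦ y z` is a bijection `Y × Z → X`, so `|X| = |Y| |Z|`, and the subgroup generated by `Z` is normal in `X`. -/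
theorem result {M : Type*} [Group M] [Finite M]
    (t : M) (ht : orderOf t = 2) (X : Subgroup M) (hodd : Odd (Nat.card X))
    (hnorm : ∀ x ∈ X, t * x * t⁻¹ ∈ X) :
    (∀ x ∈ X, ∃! p : M × M, p.1 ∈ X ⊓ Subgroup.centralizer {t} ∧ p.2 ∈ Cfsg.invertedBy X t ∧ x = p.1 * p.2) ∧
      Nat.card X = Nat.card ↥(X ⊓ Subgroup.centralizer {t}) * Nat.card (Cfsg.invertedBy X t) ∧
      ∀ x ∈ X, MulAut.conj x • Subgroup.closure (Cfsg.invertedBy X t) = Subgroup.closure (Cfsg.invertedBy X t) := by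
  have tt : t * t = 1 := by rw [← pow_two, ← ht, pow_orderOf_eq_one]
  refine ⟨fun x hx => ?_, card_dec tt hodd hnorm, fun x hx => ?_⟩
  · obtain ⟨y, hy, hy', z, hz, hz', rfl⟩ := exists_dec tt hodd hnorm hx
    refine ⟨(y, z), ⟨⟨hy, mem_cent1.2 hy'⟩, ⟨hz, hz'⟩, rfl⟩, fun p hp => ?_⟩
    have := dec_uniq hodd hy' hz hz' (mem_cent1.1 hp.1.2) hp.2.1.1 hp.2.1.2 hp.2.2
    exact Prod.ext this.1.symm this.2.symm
  · exact cj_eq_of_norm (norm_closure_invertedBy tt hodd hnorm hx)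

end Cfsg.Agent.S1124
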