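import Cfsg.Statements.S1125
import Cfsg.Agent.H3.Suz4

set_option autoImplicit false
open Cfsg

namespace Cfsg.Agent.S1125

open Subgroup CfsgSuz CfsgH2 CfsgLead CfsgFT MulAction

/-- In the rank-one set-up (`G` finite and doubly transitive on `Ω`, `t` an involution moving `a`, `Q` normal in `G_a` with `G_a = Q D`, `Q ⊓ D = 1` for the two-point stabiliser `D = G_a ⊓ G_{t • a}`, `|Q|` even, `|D|` odd), let `X ⊆ D` fix at least three points of `Ω`. Then `C_G(X)` is doubly transitive on the fixed-point set of `X`, `|C_Q(X)|` is even, and `C_{G_a}(X) = C_Q(X) C_D(X)`. -/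
theorem result {G Ω : Type*} [Group G] [Finite G] [MulAction G Ω] {a : Ω} {t : G} {Q : Subgroup G}
    (hS : Cfsg.IsRankOneSetup G Ω a t Q)
    (X : Set G) (hX : X ⊆ ((MulAction.stabilizer G a ⊓ MulAction.stabilizer G (t • a)) : Set G))
    (h3 : ∃ b c d : Ω, b ≠ c ∧ b ≠ d ∧ c ≠ d ∧ ∀ x ∈ X, x • b = b ∧ x • c = c ∧ x • d = d) :
    (∀ b₁ b₂ c₁ c₂ : Ω, (∀ x ∈ X, x • b₁ = b₁ ∧ x • b₂ = b₂ ∧ x • c₁ = c₁ ∧ x • c₂ = c₂) →
        b₁ ≠ b₂ → c₁ ≠ c₂ → ∃ g ∈ Subgroup.centralizer X, g • b₁ = c₁ ∧ g • b₂ = c₂) ∧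
      Even (Nat.card ↥(Subgroup.centralizer X ⊓ Q)) ∧
      (Subgroup.centralizer X ⊓ Q) ⊔ (Subgroup.centralizer X ⊓ (MulAction.stabilizer G a ⊓ MulAction.stabilizer G (t • a))) = Subgroup.centralizer X ⊓ MulAction.stabilizer G a := by
  obtain ⟨s, r, R⟩ := (rk0_of_setup hS).exists_RK
  obtain ⟨y, hy, y1, hc⟩ := exists_cent_of_three hS hX h3
  have hX' : X ⊆ DD (stabilizer G a) t := by rw [DD_stab R.tt]; exact hX
  have fixc : ∀ g ∈ centralizer X, ∀ b : Ω, (∀ x ∈ X, x • b = b) → ∀ x ∈ X, x • g • b = g • b :=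
    fun g hg b hb x hx => by rw [← mul_smul, mem_centS.1 hg x hx, mul_smul, hb x hx]
  have k1 : ∀ b : Ω, b ≠ a → (∀ x ∈ X, x • b = b) → ∃ z ∈ Q, z ∈ centralizer X ∧ z • b = t • a := by
    intro b hb h
    obtain ⟨z, hz, rfl⟩ := pt_form hS hb
    exact ⟨z⁻¹, inv_mem hz, inv_mem (mem_centS.2 fun x hx => pt_fix hS (hX hx) hz (h x hx)), by simp⟩
  refine ⟨?_, ?_, le_antisymm (sup_le (inf_le_inf_left _ R.QH) (inf_le_inf_left _ inf_le_left)) ?_⟩
  · obtain ⟨k, hk, hkX⟩ := R.conj_into_V hX' hy y1 hc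
    have hk1 := hk.1
    rw [DD_stab R.tt] at hk1
    have τc : k⁻¹ * t * k ∈ centralizer X := mem_centS.2 fun x hx => by
      have := (R.mem_V.1 (hkX x hx)).2
      calc _ = k⁻¹ * (k * x * k⁻¹ * t) * k := by group
        _ = _ := by rw [← this]; group
    have τ1 : (k⁻¹ * t * k) • t • a = a := by
      rw [mul_smul, mul_smul, mem_stabilizer_iff.1 hk1.2, ← mul_smul t, R.tt, one_smul]
      exact (stabilizer G a).inv_mem hk1.1
    have key : ∀ b c : Ω, (∀ x ∈ X, x • b = b) → (∀ x ∈ X, x • c = c) → b ≠ c →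
        ∃ g ∈ centralizer X, g • b = a ∧ g • c = t • a := by
      intro b c hb hc bc
      obtain ⟨g, hg, e⟩ : ∃ g ∈ centralizer X, g • b = a := by
        by_cases e : b = a
        · exact ⟨1, one_mem _, by simp [e]⟩
        · obtain ⟨z, -, hz, e⟩ := k1 b e hb
          exact ⟨_, mul_mem τc hz, by rw [mul_smul, e, τ1]⟩
      obtain ⟨z, zQ, hz, e2⟩ := k1 (g • c) (fun h => bc (smul_left_cancel g (e.trans h.symm))) (fixc g hg c hc)
      exact ⟨z * g, mul_mem hz hg, by rw [mul_smul, e]; exact R.QH zQ, by rw [mul_smul, e2]⟩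
    intro b₁ b₂ c₁ c₂ h hb hc
    obtain ⟨g, hg, e1, e2⟩ := key b₁ b₂ (fun x hx => (h x hx).1) (fun x hx => (h x hx).2.1) hb
    obtain ⟨l, hl, e3, e4⟩ := key c₁ c₂ (fun x hx => (h x hx).2.2.1) (fun x hx => (h x hx).2.2.2) hc
    exact ⟨l⁻¹ * g, mul_mem (inv_mem hl) hg, by rw [mul_smul, e1, ← e3]; simp, by rw [mul_smul, e2, ← e4]; simp⟩
  · obtain ⟨u, hu, u1, u2, uc⟩ := R.exists_invol_cent hX' hy y1 hc
    have : orderOf u = 2 := orderOf_eq_prime (by rw [pow_two, u2]) u1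
    exact even_iff_two_dvd.2 (this ▸ orderOf_dvd_natCard _ (show u ∈ centralizer X ⊓ Q from ⟨uc, hu⟩))
  · rintro h ⟨hc, hh⟩
    obtain ⟨z, hz, d, hd, rfl⟩ := R.split hh
    rw [DD_stab R.tt] at hd
    have zc : z ∈ centralizer X := mem_centS.2 fun x hx => pt_fix hS (hX hx) hz (by
      have := fixc _ hc (t • a) (fun x hx => (hX hx).2) x hx
      rwa [mul_smul, mem_stabilizer_iff.1 hd.2] at this)
    exact mul_mem_sup ⟨zc, hz⟩ ⟨((centralizer X).mul_mem_cancel_left zc).1 hc, hd⟩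

end Cfsg.Agent.S1125
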