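import Cfsg.Statements.S1132
import Cfsg.Agent.H3.Suz5

set_option autoImplicit false
open Cfsg

namespace Cfsg.Agent.S1132

open Subgroup CfsgSuz CfsgH2 CfsgLead CfsgFT MulAction

/-- In the rank-one set-up (`G` finite and doubly transitive on `Ω`, `t` an involution moving `a`, `Q` normal in `G_a` with `G_a = Q D`, `Q ⊓ D = 1` for the two-point stabiliser `D = G_a ⊓ G_{t • a}`, `|Q|` even, `|D|` odd), with the action faithful and `G` containing two distinct commuting involutions: a Sylow 2-subgroup of `Q` is abelian or a Suzuki 2-group. -/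
theorem result {G Ω : Type*} [Group G] [Finite G] [MulAction G Ω] [FaithfulSMul G Ω] {a : Ω} {t : G} {Q : Subgroup G}
    (hS : Cfsg.IsRankOneSetup G Ω a t Q)
    (h2 : ∃ x y : G, x ≠ 1 ∧ y ≠ 1 ∧ x ≠ y ∧ x * x = 1 ∧ y * y = 1 ∧ x * y = y * x)
    (S : Sylow 2 ↥Q) : IsMulCommutative (S : Subgroup ↥Q) ∨ Cfsg.IsSuzukiTwoGroup ↥(S : Subgroup ↥Q) := by
  obtain ⟨s, r, R⟩ := (rk0_of_setup hS).exists_RK
  obtain ⟨u, hu, u1, u2, us⟩ := R.exists_ne h2
  obtain ⟨F, _, _, _, e₀, ζ, ρ, Z⟩ := R.exists_SZ' hu u1 u2 us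
  have e := sylow_normal_of_nilpotent (IsSylowIn.of_sylow_map S) Z.nil
  let f : (S : Subgroup Q) ≃* Opi {2} Q := (equivMapOfInjective _ _ Q.subtype_injective).trans (MulEquiv.subgroupCongr e)
  by_cases hc : Opi {2} Q ≤ C(Opi {2} Q)
  · refine Or.inl ⟨⟨fun x y => f.injective ?_⟩⟩
    rw [map_mul, map_mul]
    exact Subtype.ext (hc (f y).2 _ (f x).2)
  · obtain ⟨h1, h2, ⟨x, y, h3⟩, ⟨a, b, h4, h5, h6, h7, h8⟩, K, h9, h10⟩ := Z.hg.suzuki R.cyclic_K hc
    refine Or.inr ⟨inferInstance, S.isPGroup', ⟨f.symm x, f.symm y, fun h => h3 (f.symm.injective (by simpa using h))⟩,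
      ⟨f.symm a, f.symm b, by simpa using h4, by simpa using h5, by rw [← map_mul, h6, map_one], by simpa using h7,
        by rw [← map_mul, h8, map_one]⟩, K.map (MulAut.congr f.symm).toMonoidHom,
      isCyclic_of_surjective _ (K.equivMapOfInjective _ (MulAut.congr f.symm).injective).surjective,
      fun x y x1 x2 y1 y2 => ?_⟩
    obtain ⟨k, hk, hk'⟩ := h10 (f x) (f y) (by simpa using x1) (by rw [← map_mul, x2, map_one]) (by simpa using y1)
      (by rw [← map_mul, y2, map_one])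
    refine ⟨⟨_, k, k.2, rfl⟩, by simp [MulAut.congr, hk], ?_⟩
    rintro ⟨_, l, hl, rfl⟩ h
    have := hk' ⟨l, hl⟩ (by
      have := congrArg f h
      simpa [MulAut.congr] using this)
    simp [← this]

end Cfsg.Agent.S1132
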