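import Cfsg.Statements.S1138
import Cfsg.Agent.H3.Hig4

set_option autoImplicit false
open Cfsg

namespace Cfsg.Agent.S1138

open Subgroup CfsgSuz CfsgH2 CfsgLead CfsgFT

/-- Let `P` be a Suzuki 2-group with `|Z(P)| = q`. Then every square lies in `Z(P)` and `P/Z(P)` is abelian (so elementary abelian), `|P| = q²` or `|P| = q³`, and `P` has exponent 4. -/
theorem result {P : Type*} [Group P] (hP : Cfsg.IsSuzukiTwoGroup P) :
    (∀ x : P, x * x ∈ Subgroup.center P) ∧ (∀ x y : P, x⁻¹ * y⁻¹ * x * y ∈ Subgroup.center P) ∧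
      (Nat.card P = Nat.card (Subgroup.center P) ^ 2 ∨ Nat.card P = Nat.card (Subgroup.center P) ^ 3) ∧
      Monoid.exponent P = 4 := by
  obtain ⟨Γ, _, _, f, K, Z, F, _, _, _, e₀, ζ, fi, h, hna⟩ := hg_of_suzuki hP
  have hS := HG.Sq_le_Z _ h hna
  have h1 : ∀ x : P, x * x ∈ center P := fun x => by
    rw [abs_center fi h hna, map_mul]
    exact hS (sq_mem_Sq ⟨x, rfl⟩)
  have h4 : ∀ x : P, x ^ 4 = 1 := fun x => by
    have := ((h.mem _).1 ((abs_center fi h hna).1 (h1 x))).2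
    apply fi
    rw [map_one, ← this, ← map_mul]
    congr 1
    simp [pow_succ, mul_assoc]
  have hc : Nat.card f.range = Nat.card P := (Nat.card_congr (MonoidHom.ofInjective fi).toEquiv).symm
  refine ⟨h1, fun x y => ?_, ?_, ?_⟩
  · rw [abs_center fi h hna]
    have := hS (dl_mem_Sq (A := f.range) (x := f x⁻¹) (y := f y⁻¹) ⟨_, rfl⟩ ⟨_, rfl⟩)
    simpa using this
  · rw [abs_card_center fi h hna, ← hc]
    exact (h.card_cases hS (fun e => hna (by rw [e]; exact h.cZ.trans (centralizer_le h.ZP)))).imp_left And.left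
  · have hd : Monoid.exponent P ∣ 2 ^ 2 := Monoid.exponent_dvd_of_forall_pow_eq_one h4
    obtain ⟨k, hk, e⟩ := (Nat.dvd_prime_pow Nat.prime_two).1 hd
    have : ¬ Monoid.exponent P ∣ 2 := fun h2 => hna (by
      rintro _ ⟨x, rfl⟩
      exact h.cZ ((h.mem _).2 ⟨⟨x, rfl⟩, by
        rw [← map_mul, ← pow_two, Monoid.exponent_dvd_iff_forall_pow_eq_one.1 h2 x, map_one]⟩))
    rw [e] at this ⊢
    interval_cases k <;> simp_all

end Cfsg.Agent.S1138
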