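import Cfsg.Statements.S1142
import Mathlib
import Cfsg.Agent.H8.FH2

set_option autoImplicit false
open Cfsg

namespace Cfsg.Agent.S1142

open CfsgH6 CfsgH6.BN CfsgH8

/-- Feit–Higman: if a finite group has a (B,N)-pair of rank 2, its Weyl group `N/(B ⊓ N)` has order 4, 6, 8, 12 or 16. -/
theorem result {G : Type*} [Group G] [Finite G] (P : Cfsg.BNPair G)
    (h2 : P.rank = 2) :
    ((P.B ⊓ P.N).subgroupOf P.N).index ∈ ({4, 6, 8, 12, 16} : Set ℕ) := by
  obtain ⟨s, t, h1, h3⟩ := Nat.card_eq_two_iff.1 h2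
  have hst : ∀ i : P.S, i = s ∨ i = t := fun i => by simpa using (h3 ▸ Set.mem_univ i : i ∈ ({s, t} : Set P.S))
  have h4 : ((P.B ⊓ P.N).subgroupOf P.N).index = _ := card_W P hst
  haveI : Finite (W P) := Finite.of_surjective _ (pr_surjective P)
  have h5 := orderOf_pos (sw P s * sw P t)
  have h6 : orderOf (sw P s * sw P t) ≠ 1 := fun e => h1 (sw_injective P (by
    rw [orderOf_eq_one_iff, ← sw_mul_sw P t] at e
    exact mul_right_cancel e))
  have := feit_higman P hst
  simp only [Set.mem_insert_iff, Set.mem_singleton_iff]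
  omega

end Cfsg.Agent.S1142
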