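import Cfsg.Statements.S1151
import Cfsg.Agent.H6.Ree2

set_option autoImplicit false
open Cfsg

namespace Cfsg.Agent.S1151

open CfsgH6 CfsgH6.Chev

/-- In the small Ree group ²G₂(q), q = 3^(2m+1), realised as G¹ inside the Chevalley group G₂ over the field with q elements (θ the 3^m-th power map), with H¹ = G¹ ∩ H and U¹ = G¹ ∩ U the intersections with the ambient diagonal and positive unipotent subgroups: `H¹` has exactly `(q - 1)/2` elements of odd order, and each non-identity one centralises no non-identity element of `U¹`. -/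
theorem result {K : Type*} [Field K] [Fintype K] {m : ℕ} (hK : Fintype.card K = 3 ^ (2 * m + 1)) :
    2 * Nat.card {h : ↥(Cfsg.Lie.chevG2.diagonalSubgroup K ⊓ Cfsg.Lie.twistedG2 K (3 ^ m)) // Odd (orderOf h)} = 3 ^ (2 * m + 1) - 1 ∧
      ∀ h ∈ (Cfsg.Lie.chevG2.diagonalSubgroup K ⊓ Cfsg.Lie.twistedG2 K (3 ^ m)), h ≠ 1 → Odd (orderOf h) →
        (Cfsg.Lie.chevG2.posUnipotent K ⊓ Cfsg.Lie.twistedG2 K (3 ^ m)) ⊓ Subgroup.centralizer {h} = ⊥ := by
  obtain ⟨φ, T, h, hq⟩ := exists_isG2 hK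
  have hi : Function.Injective ((Lie.chevG2.group K).subtype.comp (IsG2.hc φ)) :=
    Subtype.val_injective.comp IsG2.hc_inj
  refine ⟨?_, fun y hy h1 h2 => eq_bot_iff.2 fun u hu => ?_⟩
  · obtain ⟨n, hn⟩ : ∃ n, Nat.card Kˣ = 2 * (2 * n + 1) := ⟨Nat.card K / 4, by rw [Nat.card_units]; omega⟩
    rw [h.D_eq hq, ← hK, ← Nat.card_eq_fintype_card, ← Nat.card_units, hn]
    congr 1
    refine (Nat.card_congr ((MonoidHom.ofInjective hi).toEquiv.subtypeEquiv
      (p := fun c => c ^ (2 * n + 1) = 1) fun c => ?_)).symm.trans ?_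
    · rw [MulEquiv.toEquiv_eq_coe, EquivLike.coe_coe, MulEquiv.orderOf_eq, ← orderOf_dvd_iff_pow_eq_one]
      exact ⟨fun h => Odd.of_dvd_nat ⟨n, rfl⟩ h, fun h => (Nat.coprime_two_right.2 h).dvd_of_dvd_mul_left
        (hn ▸ orderOf_dvd_natCard c)⟩
    · rw [CfsgH5.cyc_card_pow_eq_one, hn, Nat.gcd_mul_left_right]
  · rw [h.D_eq hq] at hy
    obtain ⟨c, rfl⟩ := hy
    obtain ⟨x, rfl⟩ := (h.U_eq u).1 hu.1
    by_contra h3
    rcases h.cent_U3 (c := c) (x := x) (fun e => h3 (by simp [e]))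
      (Subtype.ext (Subgroup.mem_centralizer_singleton_iff.1 hu.2).symm) with rfl | rfl
    · exact h1 (map_one _)
    · rw [orderOf_injective _ hi, orderOf_eq_prime (p := 2) (by simp) h.neg_ne] at h2
      exact absurd h2 (by decide)

end Cfsg.Agent.S1151
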