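import Cfsg.Statements.S1154
import Cfsg.Agent.H6.Ree2

set_option autoImplicit false
open Cfsg

namespace Cfsg.Agent.S1154

open CfsgH6 CfsgH6.Chev

/-- In the small Ree group ²G₂(q), q = 3^(2m+1) with m ≥ 1, realised as G¹ inside the Chevalley group G₂ over the field with q elements (θ the 3^m-th power map), with `U¹ = G¹ ∩ U` (U the positive unipotent subgroup of the ambient G₂): `U¹` has exactly `q² - 1` elements of order 3. -/
theorem result {K : Type*} [Field K] [Fintype K] {m : ℕ} (hm : 1 ≤ m) (hK : Fintype.card K = 3 ^ (2 * m + 1)) :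
    Nat.card {u : ↥(Cfsg.Lie.chevG2.posUnipotent K ⊓ Cfsg.Lie.twistedG2 K (3 ^ m)) // orderOf u = 3} = (3 ^ (2 * m + 1)) ^ 2 - 1 := by
  obtain ⟨φ, T, h, hq⟩ := exists_isG2 hK
  haveI : Fact (Nat.Prime 3) := ⟨Nat.prime_three⟩
  classical
  have e : Nat.card {p : K × K // p ≠ 0} = (3 ^ (2 * m + 1)) ^ 2 - 1 := by
    simp [← hK, sq]
  rw [← e]
  refine (Nat.card_congr (Equiv.ofBijective (fun p : {p : K × K // p ≠ 0} => ⟨⟨_, (h.U_eq _).2 ⟨(0, p.1), rfl⟩⟩,
    orderOf_eq_prime (Subtype.ext (congrArg Subtype.val ((h.U3_cube (0, p.1)).2 rfl) :)) fun e => p.2 (congrArg Prod.snd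
      (IsG2.U3_inj (φ := φ) (a₂ := 0) (Subtype.ext (by simpa using congrArg Subtype.val e))))⟩) ⟨?_, ?_⟩)).symm
  · intro a b e
    exact Subtype.ext (congrArg Prod.snd (IsG2.U3_inj (φ := φ) (Subtype.ext (congrArg (·.1.1) e))))
  · rintro ⟨⟨u, hu⟩, h3⟩
    obtain ⟨⟨t, x⟩, rfl⟩ := (h.U_eq u).1 hu
    have h4 := pow_orderOf_eq_one (⟨_, hu⟩ : (Lie.chevG2.posUnipotent K ⊓ Lie.twistedG2 K (3 ^ m) : Subgroup _))
    rw [h3] at h4
    obtain rfl : t = 0 := (h.U3_cube (t, x)).1 (Subtype.ext (congrArg Subtype.val h4 :))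
    refine ⟨⟨x, ?_⟩, rfl⟩
    rintro rfl
    exact absurd (h3.symm.trans (orderOf_eq_one_iff.2 (Subtype.ext (congrArg Subtype.val (IsG2.U3_zero (φ := φ)) :))))
      (by decide)

end Cfsg.Agent.S1154
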