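import Cfsg.Statements.S1155
import Cfsg.Agent.H6.Ree2

set_option autoImplicit false
open Cfsg

namespace Cfsg.Agent.S1155

open CfsgH6 CfsgH6.Chev
open scoped Pointwise

/-- In the small Ree group ²G₂(q), q = 3^(2m+1) with m ≥ 1, realised as G¹ inside the Chevalley group G₂ over the field with q elements (θ the 3^m-th power map): distinct Sylow 3-subgroups of `G¹` meet trivially. -/
theorem result {K : Type*} [Field K] [Fintype K] {m : ℕ} (hm : 1 ≤ m) (hK : Fintype.card K = 3 ^ (2 * m + 1))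
    (P Q : Sylow 3 ↥(Cfsg.Lie.twistedG2 K (3 ^ m))) (hPQ : P ≠ Q) : (P : Subgroup ↥(Cfsg.Lie.twistedG2 K (3 ^ m))) ⊓ (Q : Subgroup ↥(Cfsg.Lie.twistedG2 K (3 ^ m))) = ⊥ := by
  obtain ⟨φ, T, h, hq⟩ := exists_isG2 hK
  haveI : Fact (Nat.Prime 3) := ⟨Nat.prime_three⟩
  haveI : Nonempty (Fin Lie.chevG2.rank) := ⟨g2i 0⟩
  haveI := h.ch
  have := gG2.finiteG K
  have : Finite (Lie.twistedG2 K (3 ^ m)) := Finite.of_injective _ h.set.ι_inj
  have hX := gG2.isStG K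
  obtain ⟨P0, h0⟩ := PreSt.Tw.exists_sylow hX h.ne h.set.ι_inj h.set.range_ι (gG2.multG K) 3
  obtain ⟨a, rfl⟩ := MulAction.exists_smul_eq (Lie.twistedG2 K (3 ^ m)) P0 P
  obtain ⟨b, rfl⟩ := MulAction.exists_smul_eq (Lie.twistedG2 K (3 ^ m)) P0 Q
  refine eq_bot_iff.2 fun x hx => ?_
  have k : ∀ {c : Lie.twistedG2 K (3 ^ m)}, x ∈ c • P0 → h.set.ι (c⁻¹ * x * c) ∈ (gG2.adjG K).U := fun {c} hc => by
    have := Subgroup.mem_pointwise_smul_iff_inv_smul_mem.1 (show x ∈ MulAut.conj c • (P0 : Subgroup _) from hc)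
    rw [h0] at this
    simpa using this
  have := PreSt.Tw.rank1_TI hX h.ne h.orb' (PreSt.Tw.ι_mem h.set.range_ι (b⁻¹ * a)) (fun e => hPQ ?_) (k hx.1)
    (by simpa [mul_assoc] using k hx.2)
  · rw [map_eq_one_iff _ h.set.ι_inj, mul_assoc, inv_mul_eq_one, right_eq_mul] at this
    exact this
  · refine (smul_left_cancel_iff b⁻¹).1 ?_
    rw [inv_smul_smul, ← mul_smul, Sylow.smul_eq_iff_mem_normalizer]
    refine Subgroup.mem_normalizer_fintype fun u hu => ?_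
    have k : ∀ y, y ∈ (P0 : Set _) ↔ h.set.ι y ∈ (gG2.adjG K).U := fun y => SetLike.ext_iff.1 h0 y
    rw [k] at hu ⊢
    simpa using hX.B_conj_mem_U e hu

end Cfsg.Agent.S1155
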