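import Cfsg.Statements.S1160
import Cfsg.Agent.H3.Suz4

set_option autoImplicit false
open Cfsg

namespace Cfsg.Agent.S1160

open Subgroup CfsgSuz CfsgH2 CfsgLead CfsgFT MulAction

/-- Let `p ≠ 2` be prime and `P` a finite `p`-group acting faithfully by additive automorphisms on a finite elementary abelian `q`-group `E` (`q` prime), such that `|P_a|` is the same for all `a ≠ 0`. Then `P` is cyclic and every non-identity element of `P` fixes only `0`. -/
theorem result {P E : Type*} [Group P] [Finite P]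
    [AddCommGroup E] [Finite E] [DistribMulAction P E] [FaithfulSMul P E]
    {p q : ℕ} [Fact p.Prime] (hp2 : p ≠ 2) (hP : IsPGroup p P) (hq : q.Prime) (hE : ∀ e : E, q • e = 0)
    (hconst : ∀ a b : E, a ≠ 0 → b ≠ 0 →
      Nat.card (MulAction.stabilizer P a) = Nat.card (MulAction.stabilizer P b)) :
    IsCyclic P ∧ ∀ g : P, g ≠ 1 → ∀ a : E, g • a = a → a = 0 := by
  let φ : P →* MulAut (Multiplicative E) := 
    { toFun := fun g => (DistribMulAction.toAddAut P E g).toMultiplicative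
      map_one' := by ext; simp
      map_mul' := fun _ _ => by ext; simp [mul_smul] }
  have hφ : ∀ g a, φ g (Multiplicative.ofAdd a) = Multiplicative.ofAdd (g • a) := fun _ _ => rfl
  have hE' : IsElementaryAbelian q (sdL φ ⊤) := ⟨comm_iff.2 (by
      rintro _ ⟨x, -, rfl⟩
      refine mem_cent.2 ?_
      rintro _ ⟨y, -, rfl⟩
      rw [← map_mul, ← map_mul, mul_comm]), by
    rintro _ ⟨x, -, rfl⟩
    rw [← map_pow, show x ^ q = 1 from hE x.toAdd, map_one]⟩
  have hP' : IsPGroup p (sdR φ ⊤) := (hP.to_subgroup ⊤).of_equiv (sdREquiv φ ⊤)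
  have cm : ∀ (g : P) (a : E), (SemidirectProduct.inr g : _ ⋊[φ] P) ∈
      centralizer {SemidirectProduct.inl (Multiplicative.ofAdd a)} ↔ g • a = a := fun g a => by
    rw [mem_cent1', ← mul_inv_eq_iff_eq_mul, sd_conj, hφ, SemidirectProduct.inl_inj]; rfl
  have st : ∀ a : E, sdR φ ⊤ ⊓ centralizer {SemidirectProduct.inl (Multiplicative.ofAdd a)} =
      sdR φ (stabilizer P a) := fun a => by
    ext x
    constructor
    · rintro ⟨⟨g, -, rfl⟩, h⟩
      exact inr_mem_sdR.2 ((cm g a).1 h)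
    · rintro ⟨g, hg, rfl⟩
      exact ⟨inr_mem_sdR.2 (mem_top _), (cm g a).2 hg⟩
  have key := huppert_p hp2 hq hE' hP' (le_normalizer_sdL_top _) (by
    rw [eq_bot_iff]
    rintro _ ⟨⟨g, -, rfl⟩, h⟩
    rw [eq_of_smul_eq_smul (M := P) (α := E) (m₁ := g) (m₂ := 1) fun a => by
      rw [one_smul]; exact inr_mem_centralizer_sdL.1 h (Multiplicative.ofAdd a) (mem_top _)]
    simp) (by
    rintro _ ⟨a, -, rfl⟩ a1 _ ⟨b, -, rfl⟩ b1
    have := st a.toAdd
    have h2 := st b.toAdd
    simp only [ofAdd_toAdd] at this h2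
    rw [this, h2, card_sdR, card_sdR]
    exact hconst _ _ (fun e => a1 (by rw [toAdd_eq_zero.1 e, map_one])) (fun e => b1 (by rw [toAdd_eq_zero.1 e, map_one])))
  have k2 : ∀ g : P, g ≠ 1 → ∀ a : E, g • a = a → a = 0 := fun g g1 a e => by
    have := key _ (inr_mem_sdR.2 (mem_top g)) (fun e => g1 (SemidirectProduct.inr_injective (e.trans (map_one _).symm)))
    have h2 : (SemidirectProduct.inl (Multiplicative.ofAdd a) : _ ⋊[φ] P) ∈ (⊥ : Subgroup _) :=
      this ▸ ⟨inl_mem_sdL.2 (mem_top _), mem_cent1_symm ((cm g a).2 e)⟩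
    exact ofAdd_eq_one.1 ((map_eq_one_iff _ SemidirectProduct.inl_injective).1 (mem_bot.1 h2))
  refine ⟨?_, k2⟩
  by_cases hb : sdL φ ⊤ = ⊥
  · haveI : Subsingleton P := ⟨fun g h => eq_of_smul_eq_smul (α := E) fun a => by
      have : (SemidirectProduct.inl (Multiplicative.ofAdd a) : _ ⋊[φ] P) ∈ (⊥ : Subgroup _) :=
        hb ▸ inl_mem_sdL.2 (mem_top _)
      rw [show a = 0 from ofAdd_eq_one.1 ((map_eq_one_iff _ SemidirectProduct.inl_injective).1 (mem_bot.1 this))]; simp⟩
    infer_instance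
  · have := cyclic_of_fpf_nil hb (le_normalizer_sdL_top _) hP'.isNilpotent (by
      obtain ⟨k, hk⟩ := IsPGroup.iff_card.1 hP'
      rw [hk]; exact ((Fact.out : p.Prime).odd_of_ne_two hp2).pow) key
    exact isCyclic_of_surjective (((sdREquiv φ ⊤).symm.trans topEquiv).toMonoidHom)
      ((sdREquiv φ ⊤).symm.trans topEquiv).surjective

end Cfsg.Agent.S1160
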