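import Cfsg.Statements.S1161
import Cfsg.Agent.H3.Suz4

set_option autoImplicit false
open Cfsg

namespace Cfsg.Agent.S1161

open Subgroup CfsgSuz CfsgH2 CfsgLead CfsgFT MulAction

/-- Let `D` be a finite group of odd order acting faithfully by additive automorphisms on a finite elementary abelian `q`-group `E ≠ 0` (`q` prime), transitively on `E ∖ {0}`. Then the Fitting subgroup `F(D)` is cyclic, its non-identity elements fix only `0`, and `D/F(D)` is abelian (the derived subgroup lies in `F(D)`). -/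
theorem result {D E : Type*} [Group D] [Finite D]
    [AddCommGroup E] [Finite E] [Nontrivial E] [DistribMulAction D E] [FaithfulSMul D E]
    (hodd : Odd (Nat.card D)) {q : ℕ} (hq : q.Prime) (hE : ∀ e : E, q • e = 0)
    (htrans : ∀ a b : E, a ≠ 0 → b ≠ 0 → ∃ d : D, d • a = b) :
    IsCyclic ↥(Cfsg.fittingSubgroup D) ∧
      (∀ g ∈ Cfsg.fittingSubgroup D, g ≠ 1 → ∀ a : E, g • a = a → a = 0) ∧
      commutator D ≤ Cfsg.fittingSubgroup D := by
  let φ : D →* MulAut (Multiplicative E) := 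
    { toFun := fun g => (DistribMulAction.toAddAut D E g).toMultiplicative
      map_one' := by ext; simp
      map_mul' := fun _ _ => by ext; simp [mul_smul] }
  have hφ : ∀ g a, φ g (Multiplicative.ofAdd a) = Multiplicative.ofAdd (g • a) := fun _ _ => rfl
  have hE' : IsElementaryAbelian q (sdL φ ⊤) := ⟨comm_iff.2 (by
      rintro _ ⟨x, -, rfl⟩
      refine mem_cent.2 ?_
      rintro _ ⟨y, -, rfl⟩
      rw [← map_mul, ← map_mul, mul_comm]), by
    rintro _ ⟨x, -, rfl⟩
    rw [← map_pow, show x ^ q = 1 from hE x.toAdd, map_one]⟩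
  have cm : ∀ (g : D) (a : E), (SemidirectProduct.inr g : _ ⋊[φ] D) ∈
      centralizer {SemidirectProduct.inl (Multiplicative.ofAdd a)} ↔ g • a = a := fun g a => by
    rw [mem_cent1', ← mul_inv_eq_iff_eq_mul, sd_conj, hφ, SemidirectProduct.inl_inj]; rfl
  obtain ⟨h1, h2, h3⟩ := huppert (D := sdR φ ⊤) hq hE' (fun hb => by
      obtain ⟨a, ha⟩ := exists_ne (0 : E)
      have : (SemidirectProduct.inl (Multiplicative.ofAdd a) : _ ⋊[φ] D) ∈ (⊥ : Subgroup _) :=
        hb ▸ inl_mem_sdL.2 (mem_top _)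
      exact ha (ofAdd_eq_one.1 ((map_eq_one_iff _ SemidirectProduct.inl_injective).1 (mem_bot.1 this)))) (by rwa [card_sdR, card_top]) (le_normalizer_sdL_top _) (by
    rw [eq_bot_iff]
    rintro _ ⟨⟨g, -, rfl⟩, h⟩
    rw [eq_of_smul_eq_smul (M := D) (α := E) (m₁ := g) (m₂ := 1) fun a => by
      rw [one_smul]; exact inr_mem_centralizer_sdL.1 h (Multiplicative.ofAdd a) (mem_top _)]
    simp) (by
    rintro _ ⟨a, -, rfl⟩ a1 _ ⟨b, -, rfl⟩ b1
    obtain ⟨d, hd⟩ := htrans a.toAdd b.toAdd (fun e => a1 (by rw [toAdd_eq_zero.1 e, map_one]))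
      (fun e => b1 (by rw [toAdd_eq_zero.1 e, map_one]))
    refine ⟨_, inr_mem_sdR.2 (mem_top d), ?_⟩
    rw [sd_conj, ← ofAdd_toAdd a, hφ, hd, ofAdd_toAdd])
  have hF : fittingOf (sdR φ ⊤) = sdR φ (fittingSubgroup D) := by
    rw [sdR, fit_map_injective SemidirectProduct.inr_injective, fit_top]; rfl
  rw [hF] at h1 h2 h3
  refine ⟨isCyclic_of_surjective ((sdREquiv φ _).symm.toMonoidHom) (sdREquiv φ _).symm.surjective,
    fun g hg g1 a e => ?_, ?_⟩
  · have := h2 _ (inr_mem_sdR.2 hg) (fun e => g1 (SemidirectProduct.inr_injective (e.trans (map_one _).symm)))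
    have h2 : (SemidirectProduct.inl (Multiplicative.ofAdd a) : _ ⋊[φ] D) ∈ (⊥ : Subgroup _) :=
      this ▸ ⟨inl_mem_sdL.2 (mem_top _), mem_cent1_symm ((cm g a).2 e)⟩
    exact ofAdd_eq_one.1 ((map_eq_one_iff _ SemidirectProduct.inl_injective).1 (mem_bot.1 h2))
  · rw [← sdR_le_iff (φ := φ)]
    refine le_trans (le_of_eq ?_) h3
    rw [sdR, sdR, _root_.commutator_def, map_commutator]

end Cfsg.Agent.S1161
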