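import Cfsg.Statements.S1167
import Mathlib
import Cfsg.Agent.H8.Zass7

set_option autoImplicit false
open Cfsg

namespace Cfsg.Agent.S1167

/-- Let `G` be a finite simple Zassenhaus group on `Ω`, `U` a normal subgroup of `G_a` regular on `Ω` minus `a` which is an abelian 2-group, and `v` an involution with `v • a ≠ a`. Then there is a unique `u₀ ∈ U`, `u₀ ≠ 1`, with `v u₀ v = u₀ v u₀`. -/
theorem result {G Ω : Type*} [Group G] [Finite G] [MulAction G Ω] [Finite Ω]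
    (hZ : Cfsg.IsZassenhausGroup G Ω) [IsSimpleGroup G] {a : Ω}
    (U : Subgroup G) (hUle : U ≤ MulAction.stabilizer G a)
    (hUn : ∀ h ∈ MulAction.stabilizer G a, ∀ u ∈ U, h * u * h⁻¹ ∈ U)
    (hreg : ∀ c d : Ω, c ≠ a → d ≠ a → ∃! u : U, (u : G) • c = d)
    (hU2 : IsPGroup 2 U) (hUab : ∀ u ∈ U, ∀ u' ∈ U, u * u' = u' * u)
    (v : G) (hv1 : v ≠ 1) (hv2 : v * v = 1) (hva : v • a ≠ a) :
    ∃! u₀ : G, u₀ ∈ U ∧ u₀ ≠ 1 ∧ v * u₀ * v = u₀ * v * u₀ := by
  have Z := CfsgH8.Z3.of_zass hZ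
  have K := CfsgH8.KD.of_reg hUle hUn hreg
  have := Fact.mk Nat.prime_two
  obtain ⟨k, hk⟩ := IsPGroup.iff_card.mp hU2
  have h2 := K.two_le Z
  have h3 := K.card hva
  have hev : 2 ∣ Nat.card U := hk ▸ dvd_pow_self 2 (by rintro rfl; simp [hk] at h2)
  have h4 := CfsgH8.zass_ab_card hZ hva K hUab
  have O := CfsgH8.ZO.of_simple hZ hva.symm (Nat.odd_iff.mpr (by omega))
  have hv : orderOf v = 2 := CfsgH8.orderOf_two_iff.mpr ⟨hv2, hv1⟩
  obtain ⟨-, p, hp, hp'⟩ := K.ea Z hva (by omega)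
  have hsq : ∀ u ∈ U, u * u = 1 := fun u hu => by
    by_cases h1 : u = 1
    · simp [h1]
    have a1 : orderOf u = p := by have := Fact.mk hp; exact orderOf_eq_prime (hp' u hu) h1
    have a2 := Subgroup.orderOf_dvd_natCard _ hu
    rw [a1, hk] at a2
    rw [← pow_two, ← (Nat.prime_dvd_prime_iff_eq hp Nat.prime_two).mp (hp.dvd_of_dvd_pow a2), hp' u hu]
  obtain ⟨c, hc⟩ : ∃ c : Ω, v • c = c := by
    by_contra hn
    push Not at hn
    have := O.card_moved hv
    rw [if_neg (by rw [Nat.even_iff]; omega), Nat.card_congr (Equiv.subtypeUnivEquiv hn)] at this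
    omega
  have hvb : v • v • a = a := by rw [← mul_smul, hv2, one_smul]
  have ca : c ≠ a := fun e => hva (e ▸ hc)
  have cb : c ≠ v • a := fun e => hva (by rw [e, hvb] at hc; exact hc.symm)
  obtain ⟨u, hu, e⟩ := K.trans _ hva c ca
  have e' : u • c = v • a := by rw [← e, ← mul_smul, hsq u hu, one_smul]
  refine ⟨u, ⟨hu, by rintro rfl; exact cb (by simpa using e.symm), ?_⟩, fun w ⟨hw, _, h5⟩ => ?_⟩
  · refine Z.eq_of_three hva.symm cb.symm ca.symm ?_ ?_ ?_ <;>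
      simp only [mul_smul, e, e', hc, hvb, K.fix u hu]
  · have := congrArg (· • a) h5
    simp only [mul_smul, K.fix w hw] at this
    exact K.eq hw hu hva ((O.inv_fix_eq hv2 hv1 this hc).trans e.symm)

end Cfsg.Agent.S1167
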