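import Cfsg.Statements.S1176
import Cfsg.Agent.H1.PG3

set_option autoImplicit false
open Cfsg

namespace Cfsg.Agent.S1176

/-- Let x₀ be an involution of the finite group G and D its conjugacy class. Assume (a) for each x ∈ D the subgroup W(x) generated by the members of D commuting with x is a 2-group of nilpotency class at most 2, and (b) the product of two distinct commuting members of D again lies in D. Then for all x, y ∈ D, if xy has even order greater than 2, its order is 4. -/
theorem result {G : Type*} [Group G] [Finite G] (x₀ : G) (hx₀ : orderOf x₀ = 2) (ha : ∀ x : G, IsConj x₀ x → IsPGroup 2 ↥(Subgroup.closure {y : G | IsConj x₀ y ∧ Commute y x}) ∧ ⁅⁅Subgroup.closure {y : G | IsConj x₀ y ∧ Commute y x}, Subgroup.closure {y : G | IsConj x₀ y ∧ Commute y x}⁆, Subgroup.closure {y : G | IsConj x₀ y ∧ Commute y x}⁆ = ⊥) (hb : ∀ x y : G, IsConj x₀ x → IsConj x₀ y → x ≠ y → Commute x y → IsConj x₀ (x * y)) (x y : G) (hx : IsConj x₀ x) (hy : IsConj x₀ y) (heven : Even (orderOf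 (x * y))) (hgt : 2 < orderOf (x * y)) : orderOf (x * y) = 4 := by
  open Subgroup CfsgH1 CfsgFT CfsgH2 in
  have o2 : ∀ w, IsConj x₀ w → w * w = 1 := fun w hw => by
    obtain ⟨c, rfl⟩ := isConj_iff.1 hw
    rw [← pow_two, ← hx₀, conj_pow, pow_orderOf_eq_one]; simp
  obtain ⟨h1, h2, h3⟩ := exists_central_invol (o2 x hx) (o2 y hy) heven
  set m := orderOf (x * y) / 2
  have h4 : IsConj x₀ ((x * y) ^ m * x) := by
    rcases Int.even_or_odd' m with ⟨k, hk | hk⟩
    · exact hx.trans (isConj_iff.2 ⟨_, (conj_invol_pow (o2 x hx) (o2 y hy) k).trans (by rw [← hk, zpow_natCast])⟩)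
    · exact hy.trans (isConj_iff.2 ⟨_, (conj_invol_pow' (o2 x hx) (o2 y hy) (k + 1)).trans
        (by rw [show 2 * (k + 1) - 1 = (m : ℤ) by omega, zpow_natCast])⟩)
  have h5 := hb _ _ h4 hx (fun e => by rw [mul_eq_right.1 e, orderOf_one] at h1; omega) (h2.mul_left (Commute.refl x))
  rw [mul_assoc, o2 x hx, mul_one] at h5
  have h6 := commutator_eq_bot_iff_le_centralizer.1 (ha _ h5).2
    (commutator_mem_commutator (subset_closure ⟨hx, h2.symm⟩) (subset_closure ⟨hy, h3.symm⟩)) x (subset_closure ⟨hx, h2.symm⟩)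
  rw [commutatorElement_def, inv_eq_of_mul_eq_one_right (o2 x hx), inv_eq_of_mul_eq_one_right (o2 y hy)] at h6
  have h7 : (x * y) ^ 2 ^ 2 = 1 := by
    have : (x * y) ^ 2 ^ 2 = (x * y * x * y * x) * (y * x * y) := by simp [pow_succ, mul_assoc]
    rw [this, ← h6]
    simp only [mul_assoc, ← mul_assoc x x, ← mul_assoc y y, o2 x hx, o2 y hy, one_mul]
  have := orderOf_dvd_of_pow_eq_one h7
  have := Nat.le_of_dvd (by norm_num) this
  obtain ⟨k, hk⟩ := heven
  omega

end Cfsg.Agent.S1176
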