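import Cfsg.Statements.S1177
import Cfsg.Agent.H2.StrEmb

set_option autoImplicit false
open Cfsg

namespace Cfsg.Agent.S1177
open Subgroup CfsgH2
open scoped commutatorElement

/-- Let A be a nontrivial elementary abelian 2-subgroup of a finite group G which is a T.I. set (each conjugate of A meets A trivially or equals A) and which does not commute elementwise with any conjugate of A other than A itself. Then for every a ∈ A, a ≠ 1, every conjugate of A contained in C_G(a) is equal to A (A is weakly closed in C_G(a)). -/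
theorem result {G : Type*} [Group G] [Finite G] (A : Subgroup G) (hA : Cfsg.IsElementaryAbelian 2 A) (hA1 : A ≠ ⊥) (hTI : ∀ g : G, A.map (MulAut.conj g).toMonoidHom ⊓ A = ⊥ ∨ A.map (MulAut.conj g).toMonoidHom = A) (hb : ∀ g : G, (∀ a ∈ A, ∀ b ∈ A.map (MulAut.conj g).toMonoidHom, a * b = b * a) → A.map (MulAut.conj g).toMonoidHom = A) (a : G) (ha : a ∈ A) (ha1 : a ≠ 1) (g : G) (hg : A.map (MulAut.conj g).toMonoidHom ≤ Subgroup.centralizer ({a} : Set G)) : A.map (MulAut.conj g).toMonoidHom = A := by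
  simp only [cj_def] at *
  have hA2 : ∀ a ∈ A, a * a = 1 := fun a ha => by rw [← pow_two]; exact hA.2 a ha
  have hn : ∀ b ∈ A, b ≠ 1 → ∀ x, x * b * x⁻¹ ∈ A → x ∈ normalizer (A : Set G) := fun b hb h1 x hx =>
    cj_eq_iff_mem_normalizer.1 ((hTI x).resolve_left fun h => h1 (by
      simpa using mem_bot.1 (h.le (mem_inf.2 ⟨conj_mem_cj x hb, hx⟩))))
  have h1 : cj g A ≤ normalizer (A : Set G) := fun x hx =>
    hn a ha ha1 x (by rw [mem_centralizer_singleton_iff.1 (hg hx), mul_inv_cancel_right]; exact ha)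
  by_contra hne
  have hd : cj g A ⊓ A = ⊥ := (hTI g).resolve_right hne
  have h2 : ∀ b ∈ cj g A, b ≠ 1 → ∀ x ∈ A, Commute x b → x ∈ centralizer (cj g A : Set G) := by
    intro b hb hb1 x hx hc y hy
    have h3 : x ∈ normalizer (cj g A : Set G) := by
      rw [← cj_normalizer, mem_cj]
      refine hn _ (mem_cj.1 hb) (fun e => hb1 (by simpa [mul_assoc] using (conj_eq_one_iff (a := g⁻¹)).1 (by simpa using e))) _ ?_
      have : g⁻¹ * x * g * (g⁻¹ * b * g) * (g⁻¹ * x * g)⁻¹ = g⁻¹ * (x * b * x⁻¹) * g := by group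
      rw [this, commute_iff_conj.1 hc]
      exact mem_cj.1 hb
    have h4 : y * x * y⁻¹ * x⁻¹ ∈ cj g A ⊓ A := mem_inf.2 ⟨by
      have := mul_mem hy (conj_mem_of_mem_normalizer h3 (inv_mem hy))
      simpa [mul_assoc] using this, mul_mem (conj_mem_of_mem_normalizer (h1 hy) hx) (inv_mem hx)⟩
    rwa [hd, mem_bot, mul_inv_eq_one, mul_inv_eq_iff_eq_mul] at h4
  have h3 : A ⊓ centralizer (cj g A : Set G) < A := lt_of_le_of_ne inf_le_left fun e =>
    hne (hb g fun x hx y hy => ((e.ge hx).2 y hy).symm)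
  obtain ⟨x, hx, hx'⟩ := SetLike.exists_of_lt h3
  refine (card_lt_of_lt h3).not_ge ((card_cj g A).ge.trans (Nat.card_le_card_of_injective
    (fun y => ⟨y.1 * x * y.1⁻¹ * x⁻¹, ?_⟩) fun y z e => ?_))
  · obtain ⟨y, hy⟩ := y
    simp only
    have h4 := conj_mem_of_mem_normalizer (h1 hy) hx
    have h5 := mul_mem h4 (inv_mem hx)
    refine mem_inf.2 ⟨h5, ?_⟩
    by_cases e : (y : G) = 1
    · simp [e]
    refine h2 y hy e _ h5 (Commute.symm (commute_iff_conj.2 ?_))
    have h6 : (y : G) * y = 1 := by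
      have := conj_mul_self (hA2 _ (mem_cj.1 hy)) g
      simpa [mul_assoc] using this
    calc y * (y * x * y⁻¹ * x⁻¹) * (y : G)⁻¹ = y * y * x * (y * y : G)⁻¹ * (y * x * y⁻¹)⁻¹ := by group
      _ = x * (y * x * y⁻¹)⁻¹ := by rw [h6]; group
      _ = _ := by
        rw [inv_eq_of_mul_self (hA2 _ h4), inv_eq_of_mul_self (hA2 _ hx)]
        exact mul_comm_of_isMulCommutative hA.1 hx h4
  · by_contra hyz
    obtain ⟨y, hy⟩ := y
    obtain ⟨z, hz⟩ := z
    have e1 : (y : G) * x * y⁻¹ = z * x * z⁻¹ := mul_right_cancel (Subtype.mk.inj e)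
    refine hx' (mem_inf.2 ⟨hx, h2 ((z : G)⁻¹ * y) (mul_mem (inv_mem hz) hy)
      (fun e => hyz (Subtype.ext (inv_mul_eq_one.1 e).symm)) x hx (Commute.symm (commute_iff_conj.2 ?_))⟩)
    calc (z : G)⁻¹ * y * x * ((z : G)⁻¹ * y)⁻¹ = z⁻¹ * (y * x * y⁻¹) * z := by group
      _ = x := by rw [e1]; group


end Cfsg.Agent.S1177
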