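import Cfsg.Statements.S1178
import Cfsg.Agent.H2.Focal

set_option autoImplicit false
open Cfsg

namespace Cfsg.Agent.S1178
open Subgroup CfsgH2

/-- Let A be a subgroup of a Sylow 2-subgroup S of the finite group G which is weakly closed in S. If a conjugate g A g⁻¹ commutes elementwise with A, then g A g⁻¹ = A. -/
theorem result {G : Type*} [Group G] [Finite G] (S : Sylow 2 G) (A : Subgroup G) (hW : Cfsg.IsWeaklyClosed A (S : Subgroup G)) (g : G) (hc : ∀ a ∈ A, ∀ b ∈ A.map (MulAut.conj g).toMonoidHom, a * b = b * a) : A.map (MulAut.conj g).toMonoidHom = A := by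
  rw [cj_def] at hc ⊢
  have hA : IsPGroup 2 A := S.2.to_le hW.1
  have hn : cj g A ≤ normalizer (A : Set G) := fun b hb =>
    centralizer_le_normalizer _ fun a ha => hc a ha b hb
  have hB : IsPGroup 2 ↥(A ⊔ cj g A) := hA.to_sup_of_normal_left' (IsPGroup_cj hA g) hn
  obtain ⟨k, hk⟩ := exists_cj_le_sylow S hB
  have e1 : cj k A = A := hW.2 k ((cj_mono k le_sup_left).trans hk)
  have e2 : cj (k * g) A = A := hW.2 _ (by
    rw [cj_def, ← cj_cj]; exact (cj_mono k le_sup_right).trans hk)
  rw [← cj_inj k, cj_cj, e1, e2]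


end Cfsg.Agent.S1178
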