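import Cfsg.Statements.S1181
import Cfsg.Agent.H2.Invol

set_option autoImplicit false
open Cfsg

namespace Cfsg.Agent.S1181
open Subgroup CfsgH2
open scoped commutatorElement

/-- Let z be an isolated involution of the finite group G and N a normal subgroup with z ∉ N. Then the centralizer of zN in G/N is the image of C_G(z), and zN is an isolated involution of G/N. -/
theorem result {G : Type*} [Group G] [Finite G] (z : G) (hz : Cfsg.IsIsolatedInvolution z) (N : Subgroup G) [N.Normal] (hzN : z ∉ N) : Subgroup.centralizer ({(QuotientGroup.mk z : G ⧸ N)} : Set (G ⧸ N)) = (Subgroup.centralizer ({z} : Set G)).map (QuotientGroup.mk' N) ∧ Cfsg.IsIsolatedInvolution (QuotientGroup.mk z : G ⧸ N) := by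
  refine ⟨?_, isolated_map hz (QuotientGroup.mk' N) (QuotientGroup.mk'_surjective N)
    (fun h => hzN ((QuotientGroup.eq_one_iff z).1 h))⟩
  apply le_antisymm
  · intro g hg
    obtain ⟨g, rfl⟩ := QuotientGroup.mk'_surjective N g
    rw [mem_centralizer_singleton_iff] at hg
    obtain ⟨d, hd, e⟩ := isolated_exists_conj hz (isConj_conj z g) (IsConj.refl z)
    have hdN : d ∈ N := by
      refine (Subgroup.zpowers_le.2 ?_) hd
      rw [← QuotientGroup.eq_one_iff]
      simp only [QuotientGroup.mk'_apply] at hg
      simp only [QuotientGroup.mk_mul, QuotientGroup.mk_inv, hg]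
      rw [mul_inv_cancel_right, ← QuotientGroup.mk_mul, isolated_mul_self hz]; rfl
    refine ⟨d * g, ?_, ?_⟩
    · show d * g ∈ centralizer _
      rw [mem_centralizer_singleton_iff, ← mul_inv_eq_iff_eq_mul]
      refine Eq.trans ?_ e; group
    · simp [(QuotientGroup.eq_one_iff d).2 hdN]
  · rintro _ ⟨g, hg, rfl⟩
    rw [SetLike.mem_coe, mem_centralizer_singleton_iff] at hg
    rw [mem_centralizer_singleton_iff, QuotientGroup.mk'_apply, ← QuotientGroup.mk_mul, hg,
      QuotientGroup.mk_mul]


end Cfsg.Agent.S1181
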