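import Cfsg.Statements.S1183
import Cfsg.Agent.H2.Invol

set_option autoImplicit false
open Cfsg

namespace Cfsg.Agent.S1183
open Subgroup CfsgH2
open scoped commutatorElement

/-- Let z be an isolated involution of the finite group G and C = C_G(z). Then the subgroup of G generated by its elements of odd order is all of G if and only if the subgroup of C generated by its elements of odd order is all of C. -/
theorem result {G : Type*} [Group G] [Finite G] (z : G) (hz : Cfsg.IsIsolatedInvolution z) : Cfsg.pResidual 2 G = ⊤ ↔ Cfsg.pResidual 2 ↥(Subgroup.centralizer ({z} : Set G)) = ⊤ := by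
  obtain ⟨S, hS, hzS⟩ := IsSylowIn.exists_le (p := 2) (H := ⊤)
    (isPGroup_zpowers_of_mul_self (isolated_mul_self hz)) le_top
  have hSC : S ≤ centralizer ({z} : Set G) := fun s hs => by
    rw [mem_centralizer_singleton_iff]
    exact (isolated_mem_centralizer hz hS.pgroup (hzS (mem_zpowers z))) s hs
  have hc : ∀ s ∈ S, Commute s z := fun s hs => mem_centralizer_singleton_iff.1 (hSC hs)
  have key := inf_resIn_eq_of_controls hS hSC le_top (fun x hx g _ hgx => by
    obtain ⟨c, -, h2, h3⟩ := isolated_controls hz (H := ⊤) (Subgroup.le_normalizer (mem_top z)) (A := {x})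
      (by simpa using hc x hx) (mem_top g) (by simpa using hc _ hgx)
    exact ⟨c, mem_centralizer_singleton_iff.2 h2, h3 x rfl⟩)
  have h1 := hS.sup_resIn
  have h2 := (hS.mono hSC le_top).sup_resIn
  rw [← resIn_top, ← resIn_subgroupOf, subgroupOf_eq_top]
  constructor
  · intro h
    rw [h, inf_top_eq] at key
    exact h2.ge.trans (sup_le (key.le.trans inf_le_right) le_rfl)
  · intro h
    rw [inf_eq_left.2 (hSC.trans h)] at key
    rw [eq_top_iff]
    exact h1.ge.trans (sup_le (key.ge.trans inf_le_right) le_rfl)


end Cfsg.Agent.S1183
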