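import Cfsg.Statements.S1184
import Cfsg.Agent.H2.Invol

set_option autoImplicit false
open Cfsg

namespace Cfsg.Agent.S1184
open Subgroup CfsgH2
open scoped commutatorElement

/-- Let z be an isolated involution of the finite group G. If s and t are distinct conjugates of z, then st does not commute with z. -/
theorem result {G : Type*} [Group G] [Finite G] (z : G) (hz : Cfsg.IsIsolatedInvolution z) (g h : G) (hne : g * z * g⁻¹ ≠ h * z * h⁻¹) : ¬ Commute (g * z * g⁻¹ * (h * z * h⁻¹)) z := by
  intro hc
  set a := g * z * g⁻¹ with ha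
  set b := h * z * h⁻¹ with hb
  have haz : IsConj z a := isConj_conj z g
  have hbz : IsConj z b := isConj_conj z h
  have ha2 := isolated_mul_self (isolated_of_isConj hz haz)
  have hb2 := isolated_mul_self (isolated_of_isConj hz hbz)
  have h1 : a * z * (a * b) * (a * z)⁻¹ = (a * b)⁻¹ := by
    rw [← invol_inverts ha2 hb2, mul_assoc a z, ← hc.eq]; group
  obtain ⟨m, hm⟩ := isolated_odd hz haz (IsConj.refl z)
  have h2 : Commute ((a * z) ^ 2) (a * b) := by
    have := conj_zpow_of_inv h1 (-1)
    rw [neg_neg, zpow_one, zpow_neg_one, ← h1] at this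
    show _ * _ = _ * _
    rw [← mul_inv_eq_iff_eq_mul]
    refine Eq.trans ?_ this
    rw [pow_two]; group
  have h3 : Commute (a * z) (a * b) := by
    have h4 := h2.pow_left (m + 1)
    rwa [← pow_mul, show 2 * (m + 1) = orderOf (a * z) + 1 by omega, pow_succ, pow_orderOf_eq_one,
      one_mul] at h4
  rw [h3.eq, mul_inv_cancel_right] at h1
  have h5 := eq_one_of_inv_of_odd (isolated_odd hz haz hbz) h1.symm
  exact hne (by rw [eq_inv_of_mul_eq_one_left h5, inv_eq_of_mul_self hb2])


end Cfsg.Agent.S1184
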