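import Cfsg.Statements.S1185
import Cfsg.Agent.H2.Invol

set_option autoImplicit false
open Cfsg

namespace Cfsg.Agent.S1185
open Subgroup CfsgH2
open scoped commutatorElement

/-- Let z be an isolated involution of the finite group G with centralizer C. Then for every g ∈ G there is exactly one element k in the coset gC that has odd order and is inverted by z. -/
theorem result {G : Type*} [Group G] [Finite G] (z : G) (hz : Cfsg.IsIsolatedInvolution z) (g : G) : ∃! k : G, (Odd (orderOf k) ∧ z * k * z⁻¹ = k⁻¹) ∧ g⁻¹ * k ∈ Subgroup.centralizer ({z} : Set G) := by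
  have hz2 := isolated_mul_self hz
  obtain ⟨d, hd, e⟩ := isolated_exists_conj hz (IsConj.refl z) (isConj_conj z g)
  have key : ∀ k : G, z * k * z⁻¹ = k⁻¹ → g⁻¹ * k ∈ centralizer ({z} : Set G) →
      k * k = g * z * g⁻¹ * z⁻¹ := by
    intro k h1 h2
    rw [mem_centralizer_singleton_iff] at h2
    have h3 : k * z * k⁻¹ = g * z * g⁻¹ := by
      calc k * z * k⁻¹ = g * (g⁻¹ * k * z) * k⁻¹ := by group
        _ = _ := by rw [h2]; group
    have h4 : z * k⁻¹ * z⁻¹ = k := by
      have := conj_zpow_of_inv h1 (-1)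
      simpa using this
    rw [← h3]; nth_rewrite 2 [← h4]; group
  have hd1 : z * d * z⁻¹ = d⁻¹ := by
    obtain ⟨i, rfl⟩ := hd
    simp only
    rw [conj_zpow_of_inv (invol_inverts hz2 (conj_mul_self hz2 g)), zpow_neg]
  have hd2 : g⁻¹ * d ∈ centralizer ({z} : Set G) := by
    rw [mem_centralizer_singleton_iff]
    calc g⁻¹ * d * z = g⁻¹ * (d * z * d⁻¹) * d := by group
      _ = _ := by rw [e]; group
  have hd3 := odd_orderOf_of_mem_zpowers (isolated_odd' hz g) hd
  refine ⟨d, ⟨⟨hd3, hd1⟩, hd2⟩, ?_⟩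
  rintro k ⟨⟨h1, h2⟩, h3⟩
  exact eq_of_sq_eq_of_odd h1 hd3 (by rw [key k h2 h3, key d hd1 hd2])


end Cfsg.Agent.S1185
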