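import Cfsg.Statements.S1186
import Cfsg.Agent.H2.Isolated

set_option autoImplicit false
open Cfsg

namespace Cfsg.Agent.S1186
open Subgroup CfsgH2
open scoped commutatorElement

/-- Let z be an isolated involution of the finite group G, C = C_G(z), K the set of elements of odd order inverted by z, and s an involution of C. Then |G| = |C| · |C_K(sz)| · |C_K(s)|. -/
theorem result {G : Type*} [Group G] [Finite G] (z : G) (hz : Cfsg.IsIsolatedInvolution z) (s : G) (hs : orderOf s = 2) (hsz : Commute s z) : Nat.card G = Nat.card (Subgroup.centralizer ({z} : Set G)) * Nat.card {k : G // Odd (orderOf k) ∧ z * k * z⁻¹ = k⁻¹ ∧ Commute k (s * z)} * Nat.card {k : G // Odd (orderOf k) ∧ z * k * z⁻¹ = k⁻¹ ∧ Commute k s} := by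
  have hz2 := isolated_mul_self hz
  have hs2 := mul_self_of_orderOf_two hs
  have ex : ∀ w, Commute w z → ∀ t, IsConj z t → Commute w t →
      ∃ k, (Odd (orderOf k) ∧ z * k * z⁻¹ = k⁻¹ ∧ Commute k w) ∧ k * z * k⁻¹ = t := by
    intro w h1 t ht h2
    obtain ⟨d, hd, e⟩ := isolated_exists_conj hz (IsConj.refl z) ht
    refine ⟨d, ⟨odd_orderOf_of_mem_zpowers (isolated_odd hz (IsConj.refl z) ht) hd, ?_, ?_⟩, e⟩
    · obtain ⟨i, rfl⟩ := hd
      simp only
      rw [conj_zpow_of_inv (invol_inverts hz2 (isolated_mul_self (isolated_of_isConj hz ht))),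
        zpow_neg]
    · obtain ⟨i, rfl⟩ := hd
      exact ((h1.mul_right h2).zpow_right i).symm
  have un : ∀ k l : G, Odd (orderOf k) → z * k * z⁻¹ = k⁻¹ → Odd (orderOf l) → z * l * z⁻¹ = l⁻¹ →
      k * z * k⁻¹ = l * z * l⁻¹ → k = l := by
    intro k l h1 h2 h3 h4 e
    have key : ∀ k : G, z * k * z⁻¹ = k⁻¹ → k * k = k * z * k⁻¹ * z⁻¹ := fun k h => by
      have := conj_zpow_of_inv h (-1)
      simp only [zpow_neg, zpow_one, neg_neg] at this
      nth_rewrite 2 [← this]; group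
    exact eq_of_sq_eq_of_odd h1 h3 (by rw [key k h2, key l h4, e])
  rw [mul_assoc, ← Nat.card_prod,
    card_eq_card_quotient_mul_card_subgroup (centralizer ({z} : Set G)), mul_comm]
  congr 1
  symm
  refine Nat.card_eq_of_bijective (fun x => QuotientGroup.mk (x.2.1 * x.1.1)) ⟨?_, fun q => ?_⟩
  · rintro ⟨⟨a, ha⟩, ⟨b, hb⟩⟩ ⟨⟨a', ha'⟩, ⟨b', hb'⟩⟩ e
    simp only at e
    rw [QuotientGroup.eq, mem_centralizer_singleton_iff] at e
    have e1 : b * a * z * (b * a)⁻¹ = b' * a' * z * (b' * a')⁻¹ := by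
      calc b * a * z * (b * a)⁻¹ = b * a * (z * ((b * a)⁻¹ * (b' * a'))) * (b' * a')⁻¹ := by group
        _ = _ := by rw [← e]; group
    have key : ∀ a b : G, Commute a (s * z) → Commute b s → ∀ n, Odd n →
        orderOf (b * z * b⁻¹ * (b * a * z * (b * a)⁻¹)) ∣ n →
        (s * (b * a * z * (b * a)⁻¹)) ^ n = s * (b * z * b⁻¹) := by
      intro a b h1 h2 n hn hd
      have h3 : s * (b * z * b⁻¹) = b * (s * z) * b⁻¹ := by
        rw [← mul_assoc, ← mul_assoc, ← h2.eq]; group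
      have h4 : Commute (s * z) z := hsz.mul_left (Commute.refl z)
      have h5 : Commute (s * (b * z * b⁻¹)) (b * z * b⁻¹ * (b * a * z * (b * a)⁻¹)) := by
        have := (h4.mul_right ((h1.symm.mul_right h4).mul_right h1.symm.inv_right)).map
          (MulAut.conj b)
        simp only [MulAut.conj_apply] at this
        rw [h3]; convert this using 1; group
      have h6 : s * (b * z * b⁻¹) * (s * (b * z * b⁻¹)) = 1 := by
        rw [h3]; exact conj_mul_self (mul_self_of_commute hs2 hz2 hsz) b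
      have h7 : s * (b * a * z * (b * a)⁻¹) =
          s * (b * z * b⁻¹) * (b * z * b⁻¹ * (b * a * z * (b * a)⁻¹)) := by
        rw [mul_assoc s, ← mul_assoc (b * z * b⁻¹), conj_mul_self hz2, one_mul]
      obtain ⟨m, rfl⟩ := hn
      rw [h7, h5.mul_pow, orderOf_dvd_iff_pow_eq_one.1 hd, mul_one, pow_succ, pow_mul, pow_two, h6,
        one_pow, one_mul]
    have o1 := isolated_odd hz (isConj_conj z b) (isConj_conj z (b * a))
    have o2 := isolated_odd hz (isConj_conj z b') (isConj_conj z (b' * a'))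
    have e2 := key a b ha.2.2 hb.2.2 _ (o1.mul o2) (dvd_mul_right _ _)
    have e3 := key a' b' ha'.2.2 hb'.2.2 _ (o1.mul o2) (dvd_mul_left _ _)
    replace e2 : s * (b' * z * b'⁻¹) = s * (b * z * b⁻¹) := by rw [← e2, ← e3]; congr 2; exact e1.symm
    rw [mul_right_inj] at e2
    obtain rfl := un b' b hb'.1 hb'.2.1 hb.1 hb.2.1 e2
    obtain rfl : a = a' := un a a' ha.1 ha.2.1 ha'.1 ha'.2.1 (by
      have : b' * (a * z * a⁻¹) * b'⁻¹ = b' * (a' * z * a'⁻¹) * b'⁻¹ := by
        simpa only [mul_assoc, mul_inv_rev] using e1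
      simpa using this)
    rfl
  · obtain ⟨g, rfl⟩ := QuotientGroup.mk_surjective q
    have ht := isConj_conj z g
    have ht' := isolated_conj hz g
    obtain ⟨u, hu, h1, h2⟩ : ∃ u, IsConj z u ∧ Commute s u ∧ Commute (s * u) (g * z * g⁻¹) := by
      by_cases h : IsConj s (g * z * g⁻¹)
      · refine ⟨s, ht.trans h.symm, Commute.refl s, by rw [hs2]; exact Commute.one_left _⟩
      obtain ⟨h1, h2, -⟩ := isolated_mul_order ht' hs2 h
      obtain ⟨-, h3, h4⟩ := exists_central_invol hs2 (isolated_mul_self ht') h1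
      refine ⟨(s * (g * z * g⁻¹)) ^ (orderOf (s * (g * z * g⁻¹)) / 2) * s, ?_,
        h3.symm.mul_right (Commute.refl s), ?_⟩
      · rcases pow_mul_conj hs2 (isolated_mul_self ht')
          ((orderOf (s * (g * z * g⁻¹)) / 2 : ℕ) : ℤ) with ⟨h5, -⟩ | ⟨-, k, hk⟩
        · exact absurd h5 (by rw [Int.even_coe_nat]; exact Nat.not_even_iff_odd.2 h2)
        · rw [zpow_natCast] at hk
          exact hk ▸ ht.trans (isConj_conj _ _)
      · rw [h3.eq, ← mul_assoc, hs2, one_mul]; exact h4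
    obtain ⟨b, hb, rfl⟩ := ex s hsz u hu h1
    obtain ⟨a, ha, e⟩ := ex (s * z) (hsz.mul_left (Commute.refl z)) (b⁻¹ * (g * z * g⁻¹) * b⁻¹⁻¹)
      (ht.trans (isConj_conj _ _)) (by
        have := h2.map (MulAut.conj b⁻¹)
        simp only [MulAut.conj_apply] at this
        convert this using 1
        rw [← mul_assoc b⁻¹, hb.2.2.inv_left.eq]; group)
    refine ⟨⟨⟨a, ha⟩, ⟨b, hb⟩⟩, ?_⟩
    simp only
    rw [QuotientGroup.eq, mem_centralizer_singleton_iff]
    calc (b * a)⁻¹ * g * z = a⁻¹ * (b⁻¹ * (g * z * g⁻¹) * b⁻¹⁻¹) * b⁻¹ * g := by group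
      _ = _ := by rw [← e]; group


end Cfsg.Agent.S1186
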