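import Cfsg.Statements.S1187
import Cfsg.Agent.H2.Isolated

set_option autoImplicit false
open Cfsg

namespace Cfsg.Agent.S1187
open Subgroup CfsgH2
open scoped commutatorElement

/-- Let z be an isolated involution of the finite group G and p a prime. If Q is a p-subgroup normalized by z that is maximal among p-subgroups normalized by z, then Q is a Sylow p-subgroup of G. -/
theorem result {G : Type*} [Group G] [Finite G] (z : G) (hz : Cfsg.IsIsolatedInvolution z) {p : ℕ} [Fact p.Prime] (Q : Subgroup G) (hQ : IsPGroup p Q) (hzQ : z ∈ Subgroup.normalizer (Q : Set G)) (hmax : ∀ R : Subgroup G, IsPGroup p R → z ∈ Subgroup.normalizer (R : Set G) → Q ≤ R → R = Q) : ∃ P : Sylow p G, (P : Subgroup G) = Q := by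
  obtain ⟨P, hP⟩ := hQ.exists_le_sylow
  refine ⟨P, ?_⟩
  by_cases hp : p = 2
  · subst hp
    have h1 := hmax _ (IsPGroup.to_sup_of_normal_left' hQ
      (isPGroup_zpowers_of_mul_self (isolated_mul_self hz)) (Subgroup.zpowers_le.2 hzQ))
      (le_normalizer (mem_sup_right (mem_zpowers z))) le_sup_left
    exact hmax _ P.isPGroup' (le_normalizer (hP (h1.le (mem_sup_right (mem_zpowers z))))) hP
  have h1 : Odd (Nat.card ↥((P : Subgroup G) ⊔ Cfsg.pPrimeCore 2 G)) := odd_card_sup
    (coprime_two_iff_odd.1 (CfsgH1.coprime_card_pPrimeCore 2 G)) (odd_card_of_pgroup hp P.isPGroup')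
  obtain ⟨S, hS, h2, h3⟩ := CfsgH1.exists_invariant_sylow_le (A := zpowers z)
    (Subgroup.zpowers_le.2 (mem_normalizer_of_zstar hz le_sup_right))
    (by rw [Nat.card_zpowers, hz.1]; exact (coprime_two_iff_odd.2 h1).symm)
    (Or.inl (CfsgH1.isSolvable_zpowers z)) (hP.trans le_sup_left) hQ (Subgroup.zpowers_le.2 hzQ)
  obtain rfl := hmax S hS.pgroup (h3 (mem_zpowers z)) h2
  exact hS.eq_of_le P.isPGroup' hP le_sup_left


end Cfsg.Agent.S1187
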