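import Cfsg.Statements.S1222
import Cfsg.Agent.H3.Suz18

set_option autoImplicit false
open Cfsg

namespace Cfsg.Agent.S1222

open Subgroup CfsgSuz CfsgH2 CfsgLead CfsgFT

/-- Let G be a finite simple group with a strongly embedded subgroup H such that H permutes transitively the cosets gH with g ∉ H, and H has a normal subgroup Q acting regularly on those cosets (transitively, with only the identity fixing any of them). Then G is isomorphic to PSL(2,F) with F of characteristic 2 and at least 4 elements, or is simple with the order of a Suzuki group, or is isomorphic to PSU(3) over a field with q² elements, q ≥ 4 a power of 2. -/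
theorem result {G : Type*} [Group G] [Finite G] [IsSimpleGroup G] (H : Subgroup G) (hH : Cfsg.IsStronglyEmbedded H) (Q : Subgroup G) (hQH : Q ≤ H) (hQn : (Q.subgroupOf H).Normal) (htrans : ∀ g₁ g₂ : G, g₁ ∉ H → g₂ ∉ H → ∃ u ∈ Q, g₂⁻¹ * (u * g₁) ∈ H) (hreg : ∀ g : G, g ∉ H → ∀ u ∈ Q, g⁻¹ * (u * g) ∈ H → u = 1) : (∃ (F : Type) (_ : Field F) (_ : Fintype F), CharP F 2 ∧ 4 ≤ Fintype.card F ∧ Nonempty (G ≃* Matrix.ProjectiveSpecialLinearGroup (Fin 2) F)) ∨ Cfsg.IsSuzuki G ∨ (∃ (F : Type) (_ : Field F) (_ : Fintype F) (q : ℕ), Fintype.card F = q ^ 2 ∧ Even q ∧ 4 ≤ q ∧ Nonempty (G ≃* Cfsg.PSU 3 F q)) := by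
  obtain ⟨t, ht, tH⟩ := se_exists_out hH
  obtain ⟨u, uH, hu⟩ := se_exists_invol hH
  have tt : t * t = 1 := by rw [← pow_two, ← ht, pow_orderOf_eq_one]
  have od := hH.2.2 t tH
  have nQ : H ≤ N(Q) := (normal_subgroupOf_iff_le_normalizer hQH).1 hQn
  have R : RK0 ⊤ H Q t := ⟨le_top, mem_top _, tt, tH, hQH, nQ, fun g _ hg => by
      obtain ⟨y, hy, h⟩ := htrans t g⁻¹ tH fun h => hg (inv_mem_iff.1 h)
      exact ⟨_, h, y⁻¹, inv_mem hy, by simp [mul_assoc, tt, ← mul_assoc t t]⟩,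
    fun x hx h => hreg t tH x hx (by rwa [inv_of_sq tt, ← mul_assoc]), by
      obtain ⟨y, hy, h⟩ := htrans t (u⁻¹ * t) tH fun h => tH ((mul_mem_cancel_left (inv_mem uH)).1 h)
      have h1 : Odd (orderOf (u * y)) := od.of_dvd_nat (orderOf_dvd_natCard _ (⟨mul_mem uH (hQH hy), mem_cj.2 (by
        simpa [mul_assoc] using h)⟩ : u * y ∈ H ⊓ cj t H))
      let f := QuotientGroup.mk' (Q.subgroupOf H)
      have h2 : f ⟨u * y, mul_mem uH (hQH hy)⟩ = f ⟨u, uH⟩ := by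
        rw [← mul_one (f ⟨u, uH⟩), ← (QuotientGroup.eq_one_iff (⟨y, hQH hy⟩ : H)).2 hy]; rfl
      have h3 : f ⟨u, uH⟩ = 1 := eq_one_of_sq_of_odd (h1.of_dvd_nat (by
        rw [← h2, ← Subgroup.orderOf_mk _ (mul_mem uH (hQH hy))]; exact orderOf_map_dvd f _)) (by
        rw [← map_mul, ← map_one f]; congr 1; exact Subtype.ext (by simp [← pow_two, ← hu]))
      exact even_iff_two_dvd.2 (hu ▸ Subgroup.orderOf_dvd_natCard Q (show u ∈ Q from (QuotientGroup.eq_one_iff (⟨u, uH⟩ : H)).1 h3)), od⟩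
  obtain ⟨s, r, R⟩ := R.exists_RK
  have big : 2 < q0 Q := lt_of_le_of_ne R.two_le fun h => by
    obtain ⟨F, l, -, nF, -, FH, st⟩ := R.nf0 h.symm R.faith
    rcases nF.eq_bot_or_eq_top with e | e
    · exact R.st_ne (mem_bot.1 (e ▸ st))
    · exact R.s1 (mem_bot.1 (FH ▸ ⟨e ▸ mem_top s, R.QH R.sQ⟩))
  rcases R.ident big with ⟨F, _, _, ⟨n, h1, h2⟩, e⟩ | h | ⟨F, _, _, n, h1, h2, e⟩
  · exact Or.inl ⟨F, _, _, charP_of_card_eq_prime_pow h2, h2 ▸ Nat.pow_le_pow_right two_pos h1, e⟩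
  · exact Or.inr (Or.inl (isSuzuki_of_iso h))
  · exact Or.inr (Or.inr ⟨F, _, _, 2 ^ n, h2, even_two.pow_of_ne_zero (by omega), Nat.pow_le_pow_right two_pos h1, e⟩)

end Cfsg.Agent.S1222
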