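import Cfsg.Statements.S1224
import Cfsg.Agent.H2.StrEmb

set_option autoImplicit false
open Cfsg

namespace Cfsg.Agent.S1224
open Subgroup CfsgH2
open scoped commutatorElement

/-- Let H be a strongly embedded subgroup of the finite group G and x ≠ y two cosets in G/H. Then the number of involutions i of G with i • x = y equals the number of involutions lying in H. -/
theorem result {G : Type*} [Group G] [Finite G] (H : Subgroup G) (hH : Cfsg.IsStronglyEmbedded H) (x y : G ⧸ H) (hxy : x ≠ y) : Nat.card {i : G // orderOf i = 2 ∧ i • x = y} = Nat.card {t : G // orderOf t = 2 ∧ t ∈ H} := by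
  obtain ⟨a, rfl⟩ := QuotientGroup.mk_surjective x
  obtain ⟨b, rfl⟩ := QuotientGroup.mk_surjective y
  obtain ⟨s, hsH, hs⟩ := se_exists_invol hH
  have key : ∀ i : G, i • (QuotientGroup.mk a : G ⧸ H) = QuotientGroup.mk b ↔ b⁻¹ * i * a ∈ H := by
    intro i
    rw [MulAction.Quotient.smul_mk, eq_comm, QuotientGroup.eq, smul_eq_mul, mul_assoc]
  have hab : b⁻¹ * a ∉ H := fun h => hxy (QuotientGroup.eq.2 h).symm
  refine Nat.card_eq_of_bijective (fun i => ⟨b⁻¹ * i.1 * a * s * (b⁻¹ * i.1 * a)⁻¹,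
    (orderOf_conj' _ s).trans hs, mul_mem (mul_mem ((key _).1 i.2.2) hsH) (inv_mem ((key _).1 i.2.2))⟩)
    ⟨?_, ?_⟩
  · rintro ⟨i, hi, h1⟩ ⟨j, hj, h2⟩ e
    have e1 : b⁻¹ * i * a * s * (b⁻¹ * i * a)⁻¹ = b⁻¹ * j * a * s * (b⁻¹ * j * a)⁻¹ :=
      congrArg Subtype.val e
    have := se_swap_unique hH hs hsH (conj_mul_self (mul_self_of_orderOf_two hi) a⁻¹)
      (fun h => hab (by
        have := mul_mem ((key i).1 h1) (inv_mem h)
        simpa [mul_assoc] using this))
      (conj_mul_self (mul_self_of_orderOf_two hj) a⁻¹) (by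
        calc _ = a⁻¹ * b * (b⁻¹ * i * a * s * (b⁻¹ * i * a)⁻¹) * (a⁻¹ * b)⁻¹ := by group
          _ = _ := by rw [e1]; group)
    exact Subtype.ext (by simpa using this)
  · rintro ⟨t, ht, htH⟩
    obtain ⟨w, hw, e⟩ := se_exists_swap hH hs hsH
      (conj_mul_self (mul_self_of_orderOf_two ht) (a⁻¹ * b)) (fun h => hab (by
        simpa using inv_mem (se_mem hH ht htH h)))
    have e2 : b⁻¹ * (a * w * a⁻¹) * a * s * (b⁻¹ * (a * w * a⁻¹) * a)⁻¹ = t := by
      calc _ = b⁻¹ * a * (w * s * w⁻¹) * (b⁻¹ * a)⁻¹ := by group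
        _ = t := by rw [e]; group
    exact ⟨⟨a * w * a⁻¹, (orderOf_conj' a w).trans hw, (key _).2 (se_mem hH hs hsH (e2 ▸ htH))⟩,
      Subtype.ext e2⟩


end Cfsg.Agent.S1224
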