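import Cfsg.Statements.S1229
import Cfsg.Agent.H1.IA3

set_option autoImplicit false
open Cfsg

namespace Cfsg.Agent.S1229

/-- Let G be a finite group with a Sylow 2-subgroup T that is neither cyclic nor normal, such that the centralizer of every involution is an elementary abelian 2-group; put H = N_G(T) and X = G/H. Then G is triply transitive on X, an element fixing three distinct points of X is the identity, and T acts regularly on X minus the point H. -/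
theorem result {G : Type*} [Group G] [Finite G] (T : Sylow 2 G) (hnc : ¬ IsCyclic (T : Subgroup G)) (hnn : ¬ (T : Subgroup G).Normal) (hC : ∀ t : G, orderOf t = 2 → IsMulCommutative (Subgroup.centralizer ({t} : Set G)) ∧ ∀ c ∈ Subgroup.centralizer ({t} : Set G), c ^ 2 = 1) : (∀ x₁ x₂ x₃ y₁ y₂ y₃ : G ⧸ Subgroup.normalizer ((T : Subgroup G) : Set G), x₁ ≠ x₂ → x₁ ≠ x₃ → x₂ ≠ x₃ → y₁ ≠ y₂ → y₁ ≠ y₃ → y₂ ≠ y₃ → ∃ g : G, g • x₁ = y₁ ∧ g • x₂ = y₂ ∧ g • x₃ = y₃) ∧ (∀ g : G, ∀ x₁ x₂ x₃ : G ⧸ Subgroup.normalizer ((T : Subgroup G) : Set G), x₁ ≠ x₂ → x₁ ≠ x₃ → x₂ ≠ x₃ → g • x₁ = x₁ → g • x₂ = x₂ → g • x₃ = x₃ → g = 1) ∧ (∀ x y : G ⧸ Subgroup.normalizer ((T : Subgroup G) : Set G), x ≠ QuotientGroup.mk 1 → y ≠ QuotientGroup.mk 1 → ∃! t : G, t ∈ T ∧ t • x = y) := by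
  open Subgroup CfsgH1 CfsgFT CfsgH2 CfsgH1.L2 in
  obtain ⟨t, t1, h, b, e, k⟩ := ea_setup T hnc hnn hC
  have e' : ∀ s : G, s ∈ T ↔ s ∈ centralizer ({t} : Set G) := fun s => by rw [← e]; rfl
  simp only [e']
  rw [e]
  obtain ⟨u, hu, huH⟩ := se_exists_out h.se
  refine ⟨fun x1 x2 x3 y1 y2 y3 a1 a2 a3 b1 b2 b3 => ?_, fun g x y z a1 a2 a3 =>
    h.three b g x y z a1 a3 a2, fun x y hx hy => ?_⟩
  · obtain ⟨g, c1, c2, c3⟩ := h.to_std b k hu huH a1 a2 a3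
    obtain ⟨g', d1, d2, d3⟩ := h.to_std b k hu huH b1 b2 b3
    exact ⟨g'⁻¹ * g, by rw [mul_smul, c1, ← d1, inv_smul_smul],
      by rw [mul_smul, c2, ← d2, inv_smul_smul], by rw [mul_smul, c3, ← d3, inv_smul_smul]⟩
  · obtain ⟨s, h1, h2⟩ := (h.kd b).trans x hx y hy
    refine ⟨s, ⟨h1, h2⟩, fun s' h' => ?_⟩
    exact (inv_mul_eq_one.1 ((h.kd b).free _ (mul_mem (inv_mem h1) h'.1) x hx (by
      rw [mul_smul, h'.2, ← h2, inv_smul_smul]))).symm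

end Cfsg.Agent.S1229
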