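import Cfsg.Statements.S1231
import Cfsg.Agent.H2.StrEmb
import Cfsg.Agent.FT.Rank

set_option autoImplicit false
open Cfsg

namespace Cfsg.Agent.S1231
open Subgroup CfsgH2
open scoped commutatorElement

/-- Let H be a subgroup of the finite group G, p a prime, k ≥ 1, and P a Sylow p-subgroup of H whose p-rank is at least k. Then N_G(X) ≤ H for every subgroup X of P of p-rank at least k if and only if H ∩ gHg⁻¹ has p-rank less than k for every g ∉ H. -/
theorem result {G : Type*} [Group G] [Finite G] {p : ℕ} [Fact p.Prime] (k : ℕ) (hk : 1 ≤ k) (H : Subgroup G) (P : Sylow p ↥H) (hP : ¬ Cfsg.PRankLE p (k - 1) ↥(P : Subgroup ↥H)) : (∀ X : Subgroup G, X ≤ (P : Subgroup ↥H).map H.subtype → ¬ Cfsg.PRankLE p (k - 1) ↥X → Subgroup.normalizer (X : Set G) ≤ H) ↔ (∀ g : G, g ∉ H → Cfsg.PRankLE p (k - 1) ↥(H ⊓ H.map (MulAut.conj g).toMonoidHom)) := by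
  have hS := IsSylowIn.of_sylow_map P
  constructor
  · intro h g hg
    by_contra h1
    obtain ⟨A, hA⟩ := CfsgFT.le_rk_iff.1 (CfsgFT.not_pRankLE_iff.1 h1)
    refine hg ?_
    have := mem_of_normalizers hS (fun X => k - 1 + 1 ≤ CfsgFT.rk p X)
      (fun X Y h1 h2 => h2.trans (CfsgFT.rk_mono h1)) (fun X g h1 => by rwa [CfsgFT.rk_cj])
      (fun X h1 h2 => h X h1 (CfsgFT.not_pRankLE_iff.2 h2)) A hA.isPGroup hA.rk_eq.ge
      (hA.le.trans inf_le_left) g⁻¹ (by
        rw [cj_le_iff_le_cj_inv, inv_inv]; exact hA.le.trans inf_le_right)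
    simpa using this
  · intro h X hX h1 g hg
    by_contra hgH
    refine h1 (CfsgFT.rk_le_iff.1 ((CfsgFT.rk_mono (le_inf (hX.trans hS.le) ?_)).trans
      (CfsgFT.rk_le_iff.2 (h g hgH))))
    rw [cj_def]
    exact (cj_eq_iff_mem_normalizer.2 hg).ge.trans (cj_mono g (hX.trans hS.le))


end Cfsg.Agent.S1231
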