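import Cfsg.Statements.S1236
import Cfsg.Agent.H2.CycSCN

set_option autoImplicit false
open Cfsg

namespace Cfsg.Agent.S1236
open Subgroup CfsgH2
open scoped commutatorElement

/-- Let R be a finite group, t a central involution of R such that R ⧸ ⟨t⟩ is dihedral (of order ≥ 4) or quasi-dihedral, and A ≤ R an elementary abelian subgroup of order 8 containing t. Then C_R(A) = A. -/
theorem result {R : Type*} [Group R] [Finite R] (t : R) (ht : orderOf t = 2) (htz : t ∈ Subgroup.center R) [(Subgroup.zpowers t).Normal] (hq : (∃ m : ℕ, 2 ≤ m ∧ Nonempty (R ⧸ Subgroup.zpowers t ≃* DihedralGroup m)) ∨ Cfsg.IsQuasiDihedral (R ⧸ Subgroup.zpowers t)) (A : Subgroup R) (hA : Cfsg.IsElementaryAbelian 2 A) (hA8 : Nat.card A = 8) (htA : t ∈ A) : Subgroup.centralizer (A : Set R) = A := by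
  have h1 : zpowers t ≤ A := zpowers_le.2 htA
  have h2 : IsKleinFour (A.map (QuotientGroup.mk' (zpowers t))) := by
    refine isKleinFour_iff.2 ⟨?_, ?_⟩
    · have := CfsgH1.card_comap_of_surjective _ (QuotientGroup.mk'_surjective (zpowers t))
        (A.map (QuotientGroup.mk' (zpowers t)))
      rw [CfsgH1.comap_map_mk', sup_eq_left.2 h1, hA8, QuotientGroup.ker_mk', Nat.card_zpowers, ht] at this
      omega
    · rintro _ ⟨x, hx, rfl⟩
      rw [← map_mul, ← sq, hA.2 x hx, map_one]
  have key : centralizer (A.map (QuotientGroup.mk' (zpowers t)) : Set (R ⧸ zpowers t)) ≤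
      A.map (QuotientGroup.mk' (zpowers t)) := by
    generalize A.map (QuotientGroup.mk' (zpowers t)) = K at h2
    rcases hq with ⟨m, -, ⟨e⟩⟩ | hq
    · obtain ⟨a, b, h, -⟩ := exists_idx2_of_dihedral (topEquiv.trans e)
      obtain ⟨j, hj⟩ := h.exists_mem_of_not_le le_top
        (fun e => h2.not_isCyclic (isCyclic_of_le' inferInstance e))
      have h3 := (isKleinFour_iff.1 h2).2
      obtain ⟨z, hz, hz1, hza⟩ : ∃ z ∈ K, z ≠ 1 ∧ z ∈ zpowers a := by
        obtain ⟨y, hy, hy1, hyj⟩ := exists_of_kleinFour h2 hj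
        obtain ⟨i, rfl | rfl⟩ := (h.mem y).1 (mem_top y)
        · exact ⟨_, hy, hy1, zpow_mem (mem_zpowers a) i⟩
        · refine ⟨_, mul_mem hy hj, fun e => hyj ?_, by rw [h.mul_eq]; exact zpow_mem (mem_zpowers a) _⟩
          rw [eq_inv_of_mul_eq_one_left e, inv_eq_of_mul_self (h3 _ hj)]
      have h4 : ∀ i : ℤ, a ^ i ∈ centralizer (K : Set _) → a ^ i ∈ K := fun i hi => by
        by_cases h5 : a ^ i = 1
        · rw [h5]; exact one_mem _
        have h6 := (h.commute_iff i j).1 (hi _ hj)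
        rw [invol_eq_of_mem_zpowers (zpow_mem (mem_zpowers a) i) hza (orderOf_two_of (by
          nth_rewrite 1 [← h6]; rw [← zpow_add]; simp) h5) (orderOf_two_of (h3 z hz) hz1)]
        exact hz
      intro x hx
      obtain ⟨i, rfl | rfl⟩ := (h.mem x).1 (mem_top x)
      · exact h4 i hx
      · have h5 := mul_mem hx (show a ^ j * b ∈ centralizer (K : Set _) from
          fun y hy => IsKleinFour_comm h2 hy hj)
        rw [h.mul_eq] at h5
        have h6 := h4 _ h5
        rw [← h.mul_eq] at h6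
        exact (mul_mem_cancel_right hj).1 h6
    · obtain ⟨a, b, r, -, h⟩ := mc_top_of_qd hq
      obtain ⟨j, -, e⟩ := h.klein_eq le_top h2
      have := h.inf_centralizer_sub (s := r + 1) le_rfl j
      rwa [top_inf_eq, ← e] at this
  refine le_antisymm (fun x hx => ?_) (CfsgFT.ea_le_centralizer hA)
  have h3 : x ∈ (A.map (QuotientGroup.mk' (zpowers t))).comap (QuotientGroup.mk' (zpowers t)) := by
    refine key ?_
    rintro _ ⟨y, hy, rfl⟩
    rw [← map_mul, ← map_mul, hx y hy]
  rwa [CfsgH1.comap_map_mk', sup_eq_left.2 h1] at h3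


end Cfsg.Agent.S1236
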