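import Cfsg.Statements.S1239
import Cfsg.Agent.H2.Wr3

set_option autoImplicit false
open Cfsg

namespace Cfsg.Agent.S1239
open Subgroup CfsgH2
open scoped commutatorElement

open CfsgFT CfsgH1

/-- Let X be a finite group whose Sylow 2-subgroup S is quasi-dihedral or wreathed, and suppose some involution of S is isolated in X. Then the product of the largest normal odd-order subgroup O(X) with the centre of S is normal in X. -/
theorem result {X : Type*} [Group X] [Finite X] (S : Sylow 2 X) (hS : Cfsg.IsQuasiDihedral (S : Subgroup X) ∨ Cfsg.IsWreathed (S : Subgroup X)) (z : X) (hzS : z ∈ S) (hz : Cfsg.IsIsolatedInvolution z) : (Cfsg.oddCore X ⊔ (Subgroup.center (S : Subgroup X)).map (S : Subgroup X).subtype).Normal := by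
  have p : IsPGroup 2 (S : Subgroup X) := S.2
  have k := IsSylowIn.of_sylow_top S
  have z1 : z ∈ (S : Subgroup X) ⊓ C((S : Subgroup X)) := ⟨hzS, iso_mem_centralizer hz.2 p hzS⟩
  have m : ∀ a ∈ (S : Subgroup X) ⊓ C((S : Subgroup X)), IsIsolated a := by
    rcases hS with h | h
    · obtain ⟨a, b, r, hr, h⟩ := mc_of_qd h
      rw [h.inf_centralizer_eq] at z1 ⊢
      obtain rfl := h.invol_eq_z (zpowers_le.2 (zpow_mem (mem_zpowers a) _) z1) hz.1
      exact fun v => iso_zpow (p := 2) (k := 1) hz.2 hz.1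
    · obtain ⟨U, x, y, w, r, h⟩ := wr_of h
      rw [h.center_eq] at z1 ⊢
      obtain rfl := h.t_eq z1 hz.1
      refine fun v hv => iso_of_sylow k (h.U_le (h.Z_le hv)) fun g => h.iso_Z k (fun o => ?_) hv
      obtain ⟨g, hg⟩ := isConj_iff.1 (h.conj_t_s o)
      exact h.s_notMem (hg ▸ (iso_eq_of_mem hz.2 p hzS (hg ▸ h.i_mem _ _)).symm ▸ z1)
  rw [center_map_eq]
  refine normalizer_eq_top_iff.1 (top_le_iff.1 fun g _ => CfsgH2.mem_normalizer_of_conj_mem fun v hv => ?_)
  obtain ⟨o, a, c, b, rfl⟩ := mem_sup_of_normal_left.1 hv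
  rw [show g * (o * c) * g⁻¹ = g * o * g⁻¹ * (g * c * g⁻¹ * c⁻¹) * c by group]
  exact mul_mem_sup (mul_mem (Normal.conj_mem inferInstance o a g) (zstar_comm p b.1 (m c b) g)) b


end Cfsg.Agent.S1239
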