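import Cfsg.Statements.S1242
import Cfsg.Agent.H2.Transfer

set_option autoImplicit false
open Cfsg

namespace Cfsg.Agent.S1242
open Subgroup CfsgH2
open scoped commutatorElement

/-- Let G be a finite group, p a prime and H a subgroup of index prime to p such that any two elements of H of p-power order that are conjugate in G are conjugate in H. Then (O^p(G)·G') ∩ H = O^p(H)·H', where O^p denotes the subgroup generated by the elements of order prime to p. -/
theorem result {G : Type*} [Group G] [Finite G] {p : ℕ} [Fact p.Prime] (H : Subgroup G) (hidx : Nat.Coprime p H.index) (hfus : ∀ g ∈ H, (∃ k : ℕ, orderOf g = p ^ k) → ∀ a : G, a * g * a⁻¹ ∈ H → ∃ h ∈ H, h * g * h⁻¹ = a * g * a⁻¹) : (Cfsg.pResidual p G ⊔ commutator G) ⊓ H = (Cfsg.pResidual p ↥H ⊔ commutator ↥H).map H.subtype := by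
  rw [Subgroup.map_sup, map_pResidual, map_subtype_commutator]
  have h0 : resIn p H ⊔ ⁅H, H⁆ ≤ H := sup_le (resIn_le H) (commutator_le_of_le le_rfl le_rfl)
  refine le_antisymm (fun x hx => ?_) (le_inf (sup_le_sup ((resIn_mono le_top).trans resIn_top.le)
    (commutator_mono le_top le_top)) h0)
  obtain ⟨N, hN, h1, h2, h3⟩ := exists_transfer h0 le_sup_right
  obtain ⟨k, hk⟩ := relIndex_resIn (p := p) H
  have h7 := h2.trans (relIndex_dvd_of_le_left H (le_sup_left : resIn p H ≤ resIn p H ⊔ ⁅H, H⁆))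
  rw [hk] at h7
  obtain ⟨j, -, hj⟩ := (Nat.dvd_prime_pow Fact.out).1 h7
  have h4 : pResidual p G ⊔ _root_.commutator G ≤ N := sup_le (pResidual_le_of_index hj) h1
  obtain ⟨a, b, ha, hb, ⟨e, he⟩, h5, rfl⟩ := exists_p_part (p := p) x
  have haH := zpowers_le.2 hx.2 ha
  refine mul_mem (mem_of_pow_mem_of_coprime (by rw [he]; exact hidx.pow_left e) ((h3 a haH fun m c hc => ?_).1
    (h4 (zpowers_le.2 hx.1 ha)))) (mem_sup_left (mem_resIn_of_coprime (zpowers_le.2 hx.2 hb) h5))
  have h6 := orderOf_pow_dvd (x := a) m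
  rw [he] at h6
  obtain ⟨i, -, hi⟩ := (Nat.dvd_prime_pow Fact.out).1 h6
  obtain ⟨h, hh, e⟩ := hfus _ (pow_mem haH m) ⟨i, hi⟩ c hc
  rw [← e]
  exact mem_sup_right (mul_mul_inv_mul_inv_mem_commutator hh (pow_mem haH m))


end Cfsg.Agent.S1242
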