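import Cfsg.Statements.S1243
import Cfsg.Agent.H2.Focal

set_option autoImplicit false
open Cfsg

namespace Cfsg.Agent.S1243
open Subgroup CfsgH2

/-- Let T be a Sylow p-subgroup of the finite group G and W ≤ T a subgroup weakly closed in T. If d and g d g⁻¹ both centralize W, then g d g⁻¹ = h d h⁻¹ for some h ∈ N_G(W). -/
theorem result {G : Type*} [Group G] [Finite G] {p : ℕ} [Fact p.Prime] (T : Sylow p G) (W : Subgroup G) (hW : Cfsg.IsWeaklyClosed W (T : Subgroup G)) (d g : G) (hd : d ∈ Subgroup.centralizer (W : Set G)) (hgd : g * d * g⁻¹ ∈ Subgroup.centralizer (W : Set G)) : ∃ h ∈ Subgroup.normalizer (W : Set G), h * d * h⁻¹ = g * d * g⁻¹ := by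
  have h1 : W ≤ centralizer ({g * d * g⁻¹} : Set G) :=
    le_centralizer_iff.1 (zpowers_le.2 hgd) |>.trans (centralizer_le (by simp))
  have h2 : cj g W ≤ centralizer ({g * d * g⁻¹} : Set G) := by
    rw [← cj_centralizer_singleton]
    exact cj_mono g (le_centralizer_iff.1 (zpowers_le.2 hd) |>.trans (centralizer_le (by simp)))
  obtain ⟨l, hl, h⟩ := weaklyClosed_conj_in hW h1 h2
  refine ⟨_, h, ?_⟩
  rw [mem_centralizer_singleton_iff] at hl
  calc l * g * d * (l * g)⁻¹ = l * (g * d * g⁻¹) * l⁻¹ := by group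
    _ = _ := by rw [hl]; group


end Cfsg.Agent.S1243
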