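import Cfsg.Statements.S1244
import Cfsg.Agent.H2.Transfer

set_option autoImplicit false
open Cfsg

namespace Cfsg.Agent.S1244
open Subgroup CfsgH2
open scoped commutatorElement

/-- Let G be a finite group with no subgroup of index 2 whose Sylow 2-subgroup S is commutative, and let R ≤ S be a subgroup whose 2-rank is exactly one less than the 2-rank r of S. Then every involution of S is conjugate, by an element of N_G(S), to an element of R. -/
theorem result {G : Type*} [Group G] [Finite G] (hG : ∀ H : Subgroup G, H.index ≠ 2) (S : Sylow 2 G) (hS : IsMulCommutative (S : Subgroup G)) (r : ℕ) (hr1 : 1 ≤ r) (hSr : Cfsg.PRankLE 2 r (S : Subgroup G) ∧ ¬ Cfsg.PRankLE 2 (r - 1) (S : Subgroup G)) (R : Subgroup G) (hRS : R ≤ S) (hRr : Cfsg.PRankLE 2 (r - 1) R ∧ (r = 1 ∨ ¬ Cfsg.PRankLE 2 (r - 2) R)) (t : G) (ht : orderOf t = 2) (htS : t ∈ S) : ∃ n ∈ Subgroup.normalizer ((S : Subgroup G) : Set G), n * t * n⁻¹ ∈ R := by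
  have hs := IsSylowIn.of_sylow_top S
  by_contra hc
  push Not at hc
  have h1 : ∀ a : G, a * t * a⁻¹ ∈ (S : Subgroup G) → a * t * a⁻¹ ∉ R := fun a ha h => by
    obtain ⟨n, hn, e⟩ := conj_in_normalizer_of_comm hs hS htS (mem_top a) ha
    exact hc n hn.2 (e ▸ h)
  have htR : t ∉ R := by simpa using h1 1 (by rw [one_mul, inv_one, mul_one]; exact htS)
  have hΩ := omegaOne_ea_of_comm (p := 2) hS
  have h2 : Nat.card (omegaOne 2 (S : Subgroup G)) ≤ 2 ^ r :=
    (CfsgFT.card_le_pow_rk hΩ (omegaOne_le _)).trans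
      (Nat.pow_le_pow_right (by norm_num) (CfsgFT.rk_le_iff.2 hSr.1))
  have h3 : 2 ^ (r - 1) ≤ Nat.card (omegaOne 2 R) := by
    rcases hRr.2 with rfl | h
    · exact Nat.card_pos
    · obtain ⟨A, hA⟩ := CfsgFT.le_rk_iff.1 (CfsgFT.not_pRankLE_iff.1 h)
      have := card_le_of_le (fun x hx => mem_omegaOne (hA.le hx) (hA.ea.2 x hx) : A ≤ omegaOne 2 R)
      rw [hA.card] at this
      exact (Nat.pow_le_pow_right (by norm_num) (by omega)).trans this
  have ht2 : t ^ 2 = 1 := ht ▸ pow_orderOf_eq_one t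
  have h4 : (omegaOne 2 R).relIndex (omegaOne 2 (S : Subgroup G)) = 2 := by
    have h5 := card_mul_relIndex (omegaOne_mono (p := 2) hRS)
    have h6 : (omegaOne 2 R).relIndex (omegaOne 2 (S : Subgroup G)) ≠ 1 := fun e =>
      htR (omegaOne_le R (relIndex_eq_one.1 e (mem_omegaOne htS ht2)))
    have h7 := relIndex_ne_zero (omegaOne 2 R) (omegaOne 2 (S : Subgroup G))
    by_contra h8
    have h9 := Nat.mul_le_mul h3 (show 3 ≤ (omegaOne 2 R).relIndex (omegaOne 2 (S : Subgroup G)) by omega)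
    obtain ⟨s, rfl⟩ : ∃ s, r = s + 1 := ⟨r - 1, by omega⟩
    have : 0 < 2 ^ s := by positivity
    rw [h5, Nat.add_sub_cancel] at h9
    rw [pow_succ] at h2
    omega
  obtain ⟨N, hN, -, h5, h6⟩ := exists_transfer hRS
    (by rw [commutator_eq_bot_of_le_centralizer (isMulCommutative_iff_le_centralizer.1 hS)]; exact bot_le)
  obtain ⟨k, hk⟩ := S.isPGroup'.exists_card_eq
  have h7 := h5.trans (relIndex_dvd_card R _)
  rw [hk] at h7
  obtain ⟨j, -, hj⟩ := (Nat.dvd_prime_pow Nat.prime_two).1 h7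
  have h8 : t ∈ N := pResidual_le_of_index hj (pResidual_two_eq_top_iff.2 hG ▸ mem_top t)
  refine htR (mem_of_pow_mem_of_coprime (coprime_orderOf_of_mem S.card_coprime_index htS)
    ((h6 t htS fun m a ha => ?_).1 h8))
  obtain ⟨d, rfl | rfl⟩ := Nat.even_or_odd' m
  · simp [pow_mul, ht2]
  · rw [pow_succ, pow_mul, ht2, one_pow, one_mul] at ha ⊢
    refine omegaOne_le (p := 2) R ((mul_mem_iff_of_index_two (H := (omegaOne 2 R).subgroupOf _) h4
      (a := ⟨_, mem_omegaOne ha (by rw [conj_pow, ht2]; simp)⟩)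
      (b := ⟨_, inv_mem (mem_omegaOne htS ht2)⟩)).2 (iff_of_false (fun h => h1 a ha (omegaOne_le R h))
        fun h => htR (inv_mem_iff.1 (omegaOne_le R h))))


end Cfsg.Agent.S1244
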