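import Cfsg.Statements.S1246
import Cfsg.Agent.H2.CharP

set_option autoImplicit false
open Cfsg

namespace Cfsg.Agent.S1246

open Subgroup CfsgFT CfsgH1 CfsgH2 CfsgLead

/-- Let V ≤ U be p-subgroups of the finite group G. If the generalized Fitting subgroup of C_G(V) is a p-group, then so is that of C_G(U). -/
theorem result {G : Type*} [Group G] [Finite G] {p : ℕ} [Fact p.Prime] (U V : Subgroup G) (hVU : V ≤ U) (hU : IsPGroup p U) (hV : IsPGroup p ↥(Cfsg.generalizedFittingSubgroup ↥(Subgroup.centralizer (V : Set G)))) : IsPGroup p ↥(Cfsg.generalizedFittingSubgroup ↥(Subgroup.centralizer (U : Set G))) := by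
  have cv : ∀ L : Subgroup G, IsPGroup p (generalizedFittingSubgroup L) ↔ ChP p L := fun L => by
    rw [← fstar_iff_chP]
    haveI := genFitting_normal L
    exact ⟨fun h => le_antisymm (le_pCore h) ((pCore_le_fitting p).trans fitting_le_genFitting), fun h => h ▸ isPGroup_pCore p L⟩
  rw [cv] at hV ⊢
  refine SN.induction (P := fun H => H ≤ U → ChP p C(H) → ChP p C(U)) (fun _ h => h) (fun H K h1 h2 h3 h4 h5 h6 => h4 h3.le ?_)
    (sn_of_nilpotent hU.isNilpotent hVU) hVU hV
  have := (ChP.norm_of_cent (H := ⊤) (by rwa [top_inf_eq]) (hU.to_le h5) le_top).inf_cent (hU.to_le h3.le) (le_inf le_top h2)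
  rwa [inf_eq_right.2 (le_inf le_top ((centralizer_le h1).trans (cent_le_norm H)))] at this

end Cfsg.Agent.S1246
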