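import Cfsg.Statements.S1248
import Cfsg.Agent.H5.U3b
import Cfsg.Agent.H5.Iso1

set_option autoImplicit false
open Cfsg

namespace Cfsg.Agent.S1248

open CfsgH5
open scoped commutatorElement

/-- Let F be a field with 16 elements and S a Sylow 2-subgroup of PSU(3) over F (the unitary group U₃(4)). Then |S| = 64; the centre Z(S) is a Klein four-group and coincides with the subgroup generated by the involutions of S and with the derived subgroup; and every element of S ⧸ Z(S) squares to the identity, S ⧸ Z(S) having order 16. -/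
theorem result {F : Type*} [Field F] [Fintype F] (hF : Fintype.card F = 16) (S : Sylow 2 (Cfsg.PSU 3 F 4)) : Nat.card S = 64 ∧ IsKleinFour (Subgroup.center (S : Subgroup (Cfsg.PSU 3 F 4))) ∧ Subgroup.center (S : Subgroup (Cfsg.PSU 3 F 4)) = Subgroup.closure {x : (S : Subgroup (Cfsg.PSU 3 F 4)) | orderOf x = 2} ∧ Subgroup.center (S : Subgroup (Cfsg.PSU 3 F 4)) = commutator (S : Subgroup (Cfsg.PSU 3 F 4)) ∧ Nat.card ((S : Subgroup (Cfsg.PSU 3 F 4)) ⧸ Subgroup.center (S : Subgroup (Cfsg.PSU 3 F 4))) = 16 ∧ ∀ x : (S : Subgroup (Cfsg.PSU 3 F 4)) ⧸ Subgroup.center (S : Subgroup (Cfsg.PSU 3 F 4)), x ^ 2 = 1 := by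
  replace hF : Fintype.card F = (2 ^ 2) ^ 2 := hF
  obtain ⟨e⟩ := sylow_PSU3 (p := 2) (k := 2) hF rfl S
  have hne := frobQ_ne hF
  have h2 := two_eq_zero_of_sq hF
  have h1 : Nat.card S = 64 := (Nat.card_congr e.toEquiv).symm.trans (card_UH hF)
  have hZ : ∀ x, e x ∈ Subgroup.center S ↔ x.a = 0 := fun x => (mem_center_equiv e).trans (UH.mem_center_iff hne)
  have h3 : Nat.card (Subgroup.center S) = 4 := (Nat.card_congr (Subgroup.centerCongr e).toEquiv).symm.trans
    (card_center_UH hF)
  have h4 : ∀ x, x ∈ Subgroup.center S ↔ x ^ 2 = 1 := e.surjective.forall.2 fun x => by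
    rw [hZ, ← map_pow, e.map_eq_one_iff, sq x, UH.mul_self_eq_one h2]
  refine ⟨h1, ⟨h3, ?_⟩, le_antisymm (fun x hx => ?_) ((Subgroup.closure_le _).2 fun x hx => (h4 x).2
    (orderOf_dvd_iff_pow_eq_one.1 (Eq.dvd hx))), le_antisymm (fun x hx => ?_) (Subgroup.commutator_le.2 fun x _ y _ => ?_),
    ?_, fun x => ?_⟩
  · haveI : Nontrivial (Subgroup.center S) := Finite.one_lt_card_iff_nontrivial.1 (by omega)
    exact Monoid.exponent_eq_prime_iff Nat.prime_two |>.2 fun x hx =>
      orderOf_eq_prime (Subtype.ext ((h4 _).1 x.2)) hx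
  · by_cases e : x = 1
    · exact e ▸ one_mem _
    · exact Subgroup.subset_closure (orderOf_eq_prime ((h4 x).1 hx) e)
  · obtain ⟨x, rfl⟩ := e.surjective x
    obtain ⟨θ, hθ⟩ := hne
    have h5 := (hZ x).1 hx
    have h6 : θ + frobQ hF θ ≠ 0 := fun h => hθ (by linear_combination h - θ * h2)
    have h7 : frobQ hF x.l = x.l := by
      have := x.3
      simp only [h5, zero_mul, mul_zero] at this
      linear_combination this - x.l * h2
    obtain ⟨y, hy⟩ := UH.exists_a (hσ := frobQ_invol hF) ⟨θ, hθ⟩ 1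
    obtain ⟨z, hz⟩ := UH.exists_a (hσ := frobQ_invol hF) ⟨θ, hθ⟩ (x.l * θ / (θ + frobQ hF θ))
    rw [show x = ⁅y, z⁆ from ?_, map_commutatorElement]
    · exact Subgroup.commutator_mem_commutator trivial trivial
    rw [commutatorElement_def, eq_mul_inv_iff_mul_eq, eq_mul_inv_iff_mul_eq]
    ext
    · simp [h5, add_comm]
    · simp only [UH.mul_l, UH.mul_a, h5, hy, hz, map_zero, map_one, zero_add, map_div₀, map_mul, map_add,
        frobQ_invol, h7, add_comm (frobQ hF θ)]
      field_simp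
      linear_combination (x.l * frobQ hF θ) * h2
  · obtain ⟨x, rfl⟩ := e.surjective x
    obtain ⟨y, rfl⟩ := e.surjective y
    rw [← map_commutatorElement, hZ]
    simp [commutatorElement_def]
  · have := card_quotient_center_mul S
    rw [h3, h1] at this
    omega
  · obtain ⟨x, rfl⟩ := QuotientGroup.mk_surjective x
    obtain ⟨x, rfl⟩ := e.surjective x
    rw [← QuotientGroup.mk_pow, QuotientGroup.eq_one_iff, ← map_pow, hZ, sq x, UH.mul_self_a h2]

end Cfsg.Agent.S1248
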