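import Cfsg.Statements.S1249
import Cfsg.Agent.H2.Focal

set_option autoImplicit false
open Cfsg

namespace Cfsg.Agent.S1249
open Subgroup CfsgH2

/-- Let P and Q be Sylow p-subgroups of the finite group G both containing the subgroup A. If A is strongly closed in P, then A is strongly closed in Q. -/
theorem result {G : Type*} [Group G] [Finite G] {p : ℕ} [Fact p.Prime] (P Q : Sylow p G) (A : Subgroup G) (hAQ : A ≤ Q) (hA : Cfsg.IsStronglyClosed A (P : Subgroup G)) : Cfsg.IsStronglyClosed A (Q : Subgroup G) := by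
  refine ⟨hAQ, fun x hx g hg => ?_⟩
  obtain ⟨k, hk⟩ := exists_cj_sylow_eq Q P
  have h1 : cj k A ≤ A := cj_le_iff.2 fun y hy => hA.2 y hy k (hk.le (conj_mem_cj k (hAQ hy)))
  have h2 := mem_normalizer_of_cj_le h1
  have h3 : (k * g) * x * (k * g)⁻¹ ∈ A := hA.2 x hx _ (by
    have := hk.le (conj_mem_cj k hg)
    simpa [mul_assoc] using this)
  have := conj_mem_of_mem_normalizer' h2 h3
  simpa [mul_assoc] using this


end Cfsg.Agent.S1249
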