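import Cfsg.Statements.S1250
import Cfsg.Agent.H2.Focal

set_option autoImplicit false
open Cfsg

namespace Cfsg.Agent.S1250
open Subgroup CfsgH2

/-- Let S be a Sylow p-subgroup of the finite group G, A ≤ S strongly closed in S, and N a normal subgroup. Then the image of A in G ⧸ N is strongly closed in the image of S (which is a Sylow p-subgroup of G ⧸ N). -/
theorem result {G : Type*} [Group G] [Finite G] {p : ℕ} [Fact p.Prime] (S : Sylow p G) (A : Subgroup G) (hA : Cfsg.IsStronglyClosed A (S : Subgroup G)) (N : Subgroup G) [N.Normal] : Cfsg.IsStronglyClosed (A.map (QuotientGroup.mk' N)) ((S : Subgroup G).map (QuotientGroup.mk' N)) := by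
  refine ⟨map_mono hA.1, ?_⟩
  rintro _ ⟨x, hx, rfl⟩ g ⟨s, hs, e⟩
  obtain ⟨g, rfl⟩ := QuotientGroup.mk'_surjective N g
  have hs' : s ∈ (S : Subgroup G) := hs
  have hx' : x ∈ A := hx
  have h1 : g * x * g⁻¹ ∈ (S : Subgroup G) ⊔ N := by
    have : s⁻¹ * (g * x * g⁻¹) ∈ N := by
      have h0 : QuotientGroup.mk' N (s⁻¹ * (g * x * g⁻¹)) = 1 := by
        rw [map_mul, map_mul, map_mul, map_inv, map_inv, e, inv_mul_cancel]
      exact (QuotientGroup.eq_one_iff _).1 h0
    have h3 : s * (s⁻¹ * (g * x * g⁻¹)) ∈ (S : Subgroup G) ⊔ N :=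
      Subgroup.mul_mem _ (mem_sup_left hs') (mem_sup_right this)
    rw [mul_inv_cancel_left] at h3
    exact h3
  obtain ⟨k, hk⟩ := exists_orderOf_eq_pow S.2 (hA.1 hx')
  obtain ⟨h, hh, hle⟩ := (IsSylowIn.of_sylow S (H := (S : Subgroup G) ⊔ N) le_sup_left).exists_cj_le
    (isPGroup_zpowers_of_orderOf ((orderOf_conj' g x).trans hk)) (zpowers_le.2 h1)
  obtain ⟨t, ht, n, hn, rfl⟩ := (mem_sup_of_normalizer' (H := (S : Subgroup G)) (N := N) le_normalizer_of_normal).1 hh
  have h2 : (n * g) * x * (n * g)⁻¹ ∈ (S : Subgroup G) := by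
    have := Subgroup.mul_mem _ (Subgroup.mul_mem _ (Subgroup.inv_mem _ ht)
      (hle (conj_mem_cj _ (mem_zpowers _)))) ht
    convert this using 1
    group
  refine ⟨_, hA.2 x hx _ h2, ?_⟩
  have hn1 : QuotientGroup.mk' N n = 1 := (QuotientGroup.eq_one_iff n).2 hn
  simp only [map_mul, map_inv, hn1, one_mul]


end Cfsg.Agent.S1250
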