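import Cfsg.Statements.S1251
import Cfsg.Agent.H2.Isolated
import Cfsg.Agent.S1249

set_option autoImplicit false
open Cfsg

namespace Cfsg.Agent.S1251
open Subgroup CfsgH2
open scoped commutatorElement

/-- Let S be a Sylow 2-subgroup of the finite group G and A ≤ S strongly closed in S. If H is a subgroup normalized by A with no nontrivial normal subgroup of odd order and A ∩ H = 1, then A ≤ C_G(H). -/
theorem result {G : Type*} [Group G] [Finite G] (S : Sylow 2 G) (A : Subgroup G) (hA : Cfsg.IsStronglyClosed A (S : Subgroup G)) (H : Subgroup G) (hAH : A ≤ Subgroup.normalizer (H : Set G)) (hO : Cfsg.oddCore ↥H = ⊥) (hdisj : A ⊓ H = ⊥) : A ≤ Subgroup.centralizer (H : Set G) := by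
  intro a ha
  have hA2 : IsPGroup 2 A := S.isPGroup'.to_le hA.1
  obtain ⟨k, hk⟩ := exists_orderOf_eq_pow hA2 ha
  have h1 : ∀ h ∈ H, h * a * h⁻¹ * a⁻¹ ∈ H := fun h hh => by
    have := mul_mem hh (conj_mem_of_mem_normalizer (hAH ha) (inv_mem hh))
    simpa [mul_assoc] using this
  obtain ⟨T, hT, hAT⟩ := IsSylowIn.exists_le hA2 (le_sup_right (a := H))
  obtain ⟨T', hT'⟩ := hT.pgroup.exists_le_sylow
  have hA' := Cfsg.Agent.S1249.result S T' A (hAT.trans hT') hA
  have haL : a ∈ H ⊔ zpowers a := mem_sup_right (mem_zpowers a)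
  have h2 : Cfsg.IsIsolated (⟨a, haL⟩ : ↥(H ⊔ zpowers a)) := by
    rintro ⟨g, hg⟩ hc
    obtain ⟨h, hh, i, rfl⟩ := (mem_sup_zpowers (hAH ha)).1 hg
    have e : h * a ^ i * a * (h * a ^ i)⁻¹ = h * a * h⁻¹ := by group
    have hc' : Commute a (h * a * h⁻¹) := e ▸ hc.map (H ⊔ zpowers a).subtype
    refine Subtype.ext (e.trans ?_)
    obtain ⟨m, hm, h3⟩ := hT.exists_cj_le (isPGroup_sup_zpowers_of_commute hk
      ((orderOf_conj' h a).trans hk) hc') (sup_le (Subgroup.zpowers_le.2 (mem_sup_right ha))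
        (Subgroup.zpowers_le.2 (mul_mem (mul_mem (mem_sup_left hh) (mem_sup_right ha))
          (inv_mem (mem_sup_left hh)))))
    have h4 := hA'.2 a ha m (hT' (cj_le_iff.1 h3 _ (mem_sup_left (mem_zpowers _))))
    have h5 := hA'.2 a ha (m * h) (hT' (by
      have := cj_le_iff.1 h3 _ (mem_sup_right (mem_zpowers _))
      convert this using 1; group))
    have h6 : m * (h * a * h⁻¹ * a⁻¹) * m⁻¹ ∈ A ⊓ H := mem_inf.2 ⟨by
      have := mul_mem h5 (inv_mem h4)
      convert this using 1; group,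
      conj_mem_of_mem_normalizer (sup_le le_normalizer hAH hm) (h1 h hh)⟩
    rw [hdisj, mem_bot] at h6
    simpa [mul_inv_eq_one] using h6
  have h3 := mk_mem_center_iff.1 (zstar_two (k := k) (by rw [← hk, ← Subgroup.orderOf_coe]) h2)
  intro h hh
  have h4 : h * a * h⁻¹ * a⁻¹ ∈ (Cfsg.pPrimeCore 2 ↥(H ⊔ zpowers a)).map (H ⊔ zpowers a).subtype ⊓ H :=
    mem_inf.2 ⟨⟨_, h3 ⟨h, mem_sup_left hh⟩, rfl⟩, h1 h hh⟩
  have h5 := CfsgH1.le_map_pPrimeCore (p := 2) (H := H) inf_le_right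
      (le_normalizer_inf' (le_sup_left.trans (le_normalizer.trans
        (CfsgH1.normalizer_le_normalizer_pPrimeCore (H ⊔ zpowers a)))) le_normalizer)
      (Nat.Coprime.coprime_dvd_left (card_dvd_of_le inf_le_left)
        (CfsgH1.coprime_card_map_pPrimeCore _)) h4
  rw [show Cfsg.pPrimeCore 2 H = ⊥ from hO, Subgroup.map_bot, mem_bot, mul_inv_eq_one] at h5
  exact mul_inv_eq_iff_eq_mul.1 h5


end Cfsg.Agent.S1251
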