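import Cfsg.Statements.S1253
import Cfsg.Agent.H2.Isolated

set_option autoImplicit false
open Cfsg

namespace Cfsg.Agent.S1253
open Subgroup CfsgH2
open scoped commutatorElement

/-- Let z be an isolated involution of the finite group G with centralizer C, p an odd prime and P a Sylow p-subgroup of G normalized by z. Then P ∩ C has p-power-free index in C (it is a Sylow p-subgroup of C), and |P : C_P(z)| equals the number of elements x ∈ P with z x z⁻¹ = x⁻¹. -/
theorem result {G : Type*} [Group G] [Finite G] (z : G) (hz : Cfsg.IsIsolatedInvolution z) {p : ℕ} [Fact p.Prime] (hp : p ≠ 2) (P : Sylow p G) (hzP : z ∈ Subgroup.normalizer ((P : Subgroup G) : Set G)) : ¬ p ∣ ((P : Subgroup G) ⊓ Subgroup.centralizer ({z} : Set G)).relIndex (Subgroup.centralizer ({z} : Set G)) ∧ ((P : Subgroup G) ⊓ Subgroup.centralizer ({z} : Set G)).relIndex (P : Subgroup G) = Nat.card {x : G // x ∈ P ∧ z * x * z⁻¹ = x⁻¹} := by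
  have h1 : Odd (Nat.card ↥((P : Subgroup G) ⊔ Cfsg.pPrimeCore 2 G)) := odd_card_sup
    (coprime_two_iff_odd.1 (CfsgH1.coprime_card_pPrimeCore 2 G)) (odd_card_of_pgroup hp P.isPGroup')
  constructor
  · have hP := IsSylowIn.of_sylow P (le_sup_left (b := Cfsg.pPrimeCore 2 G))
    have h2 := CfsgH1.invariant_sylow_inf_centralizer (A := zpowers z)
      (Subgroup.zpowers_le.2 (mem_normalizer_of_zstar hz le_sup_right))
      (by rw [Nat.card_zpowers, hz.1]; exact (coprime_two_iff_odd.2 h1).symm)
      (Or.inl (CfsgH1.isSolvable_zpowers z)) hP (Subgroup.zpowers_le.2 hzP)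
    rw [centralizer_zpowers'] at h2
    refine (h2.trans_of_not_dvd inf_le_right ?_).not_dvd
    rw [inf_relIndex_right, relIndex_eq_index_of_sup le_sup_right (core_sup_centralizer hz)]
    simpa using (IsSylowIn.of_sylow_top P).not_dvd_of_le le_sup_left le_top
  · rw [inf_relIndex_left]
    exact relIndex_centralizer_eq_card_inv (isolated_mul_self hz) (odd_card_of_pgroup hp P.isPGroup')
      hzP


end Cfsg.Agent.S1253
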