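import Cfsg.Statements.S1254
import Cfsg.Agent.H2.DihFus

set_option autoImplicit false
open Cfsg

namespace Cfsg.Agent.S1254
open Subgroup CfsgH2
open scoped commutatorElement

/-- Let X be a finite group whose Sylow 2-subgroup S is dihedral (of order at least 4). Then X has a normal 2-complement if and only if, for every Klein four-subgroup U ≤ S, the normalizer N_X(U) is generated by C_X(U) and N_S(U). -/
theorem result {X : Type*} [Group X] [Finite X] (S : Sylow 2 X) (m : ℕ) (hm : 2 ≤ m) (eS : (S : Subgroup X) ≃* DihedralGroup m) : Cfsg.HasNormalPComplement 2 X ↔ ∀ U : Subgroup X, U ≤ S → IsKleinFour U → Subgroup.normalizer (U : Set X) = Subgroup.centralizer (U : Set X) ⊔ ((S : Subgroup X) ⊓ Subgroup.normalizer (U : Set X)) := by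
  have hs := IsSylowIn.of_sylow_top S
  constructor
  · intro h U hU _
    refine le_antisymm (fun g hg => ?_) (sup_le (Subgroup.centralizer_le_normalizer _) inf_le_right)
    obtain ⟨v, hv, e⟩ := controls_of_hasNPC hs (hasNPC_top_iff.2 h) (mem_top g)
    have h1 : ∀ x ∈ U, v * x * v⁻¹ = g * x * g⁻¹ := fun x hx =>
      e x (hU hx) (hU (conj_mem_of_mem_normalizer hg hx))
    have h2 : v ∈ normalizer (U : Set X) :=
      mem_normalizer_of_conj_mem fun x hx => h1 x hx ▸ conj_mem_of_mem_normalizer hg hx
    have h3 : v⁻¹ * g ∈ centralizer (U : Set X) := fun x hx => by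
      have := h1 x hx
      calc x * (v⁻¹ * g) = v⁻¹ * (v * x * v⁻¹) * g := by group
        _ = _ := by rw [this]; group
    simpa using mul_mem (mem_sup_right (S := centralizer (U : Set X)) (mem_inf.2 ⟨hv, h2⟩))
      (mem_sup_left h3)
  · intro h
    have key : ∀ U ≤ (S : Subgroup X), IsKleinFour U → ¬ OddAct U := by
      rintro U hU hK ⟨g, h1, h2, h3⟩
      have h4 := mem_resIn_of_odd (h U hU hK ▸ h1) h2
      rw [sup_comm, resIn_sup_of_isPGroup (S.isPGroup'.to_le inf_le_left)
        (inf_le_right.trans (normalizer_le_normalizer_centralizer U))] at h4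
      exact h3 (resIn_le _ h4)
    rcases dihedral_cases S.isPGroup' hm eS with hK | ⟨a, b, r, hM, -⟩
    · exact klein_hasNPC hs hK (key _ le_rfl hK)
    · have : ∀ j, ¬ Act S a b j := fun j hj =>
        key _ (hM.sub_le _ j) (hM.klein_of (hM.dih_sq j)) ((hM.dih_act_iff j).1 hj)
      exact hM.res_none hs (this 0) (this 1)


end Cfsg.Agent.S1254
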