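import Cfsg.Statements.S1255
import Cfsg.Agent.H2.DihFus

set_option autoImplicit false
open Cfsg

namespace Cfsg.Agent.S1255
open Subgroup CfsgH2
open scoped commutatorElement

/-- Let X be a finite group whose Sylow 2-subgroup S is dihedral of order 2m ≥ 4. Then X has no subgroup of index 2 and no isolated involution if and only if either all involutions of X are conjugate, or for every Klein four-subgroup U ≤ S the index |N_X(U) : C_X(U)| equals 3 when |S| = 4 and equals 6 when |S| > 4. -/
theorem result {X : Type*} [Group X] [Finite X] (S : Sylow 2 X) (m : ℕ) (hm : 2 ≤ m) (eS : (S : Subgroup X) ≃* DihedralGroup m) : ((∀ H : Subgroup X, H.index ≠ 2) ∧ (∀ z : X, ¬ Cfsg.IsIsolatedInvolution z)) ↔ ((∀ a b : X, orderOf a = 2 → orderOf b = 2 → IsConj a b) ∨ (∀ U : Subgroup X, U ≤ S → IsKleinFour U → (Subgroup.centralizer (U : Set X)).relIndex (Subgroup.normalizer (U : Set X)) = (if Nat.card S = 4 then 3 else 6))) := by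
  have hs := IsSylowIn.of_sylow_top S
  refine ⟨fun h => Or.inl fun a b ha hb => conj_of_no_index_two hs hm eS h.1 ha hb, fun h => ?_⟩
  have key : ∀ a b : X, orderOf a = 2 → orderOf b = 2 → IsConj a b := by
    rcases h with h | h
    · exact h
    rcases dihedral_cases S.isPGroup' hm eS with hK | ⟨a, b, r, hM, -⟩
    · refine fun a b => klein_conj_of_oddAct hs hK ?_
      by_contra h1
      obtain ⟨k, hk⟩ := not_oddAct_iff.1 h1
      rw [h _ le_rfl hK, if_pos (isKleinFour_iff.1 hK).1] at hk
      have : 3 ∣ 2 ^ k := hk ▸ dvd_rfl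
      have := Nat.Prime.dvd_of_dvd_pow Nat.prime_three this
      omega
    · have h1 : ∀ j, Act S a b j := fun j => (hM.dih_act_iff j).2 (oddAct_of_six (by
        rw [h _ (hM.sub_le _ j) (hM.klein_of (hM.dih_sq j)), if_neg]
        intro e
        have := hM.card_eq.symm.trans e
        rw [pow_add] at this
        have : 0 < 2 ^ r := by positivity
        omega))
      exact fun s t h2 h3 => (hM.dih_conj_of_acts hs (h1 0) (h1 1) h2).symm.trans
        (hM.dih_conj_of_acts hs (h1 0) (h1 1) h3)
  refine ⟨no_index_two_of_conj hs hm eS key, fun z hz => ?_⟩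
  obtain ⟨V, hV⟩ : ∃ V : Subgroup X, IsKleinFour V := by
    rcases dihedral_cases S.isPGroup' hm eS with hK | ⟨a, b, r, hM, -⟩
    · exact ⟨_, hK⟩
    · exact ⟨_, hM.klein_of (hM.dih_sq 0)⟩
  obtain ⟨x, hx, y, hy, hx1, hy1, hxy⟩ := exists_pair_of_kleinFour hV
  have h2 := (isKleinFour_iff.1 hV).2
  exact hxy (isolated_eq_of_commute hz (key _ _ hz.1 (orderOf_two_of (h2 x hx) hx1))
    (key _ _ hz.1 (orderOf_two_of (h2 y hy) hy1)) (IsKleinFour_comm hV hx hy))


end Cfsg.Agent.S1255
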