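import Cfsg.Statements.S1258
import Cfsg.Agent.Lead.Component

set_option autoImplicit false
open Cfsg

namespace Cfsg.Agent.S1258

/-- If the central quotient of a finite group X is non-abelian simple, then X = X' Z(X) and the commutator subgroup X' is quasisimple. -/
theorem result {X : Type*} [Group X] [Finite X] (hs : IsSimpleGroup (X ⧸ Subgroup.center X)) (hna : ¬ IsMulCommutative (X ⧸ Subgroup.center X)) : commutator X ⊔ Subgroup.center X = ⊤ ∧ Cfsg.IsQuasisimple ↥(commutator X) := by
  have hq : (commutator X).map (QuotientGroup.mk' (Subgroup.center X)) = ⊤ := by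
    have hn : ((commutator X).map (QuotientGroup.mk' (Subgroup.center X))).Normal :=
      Subgroup.Normal.map inferInstance _ (QuotientGroup.mk'_surjective _)
    rcases hs.eq_bot_or_eq_top_of_normal _ hn with h | h
    · exfalso
      apply hna
      rw [map_commutator_eq, MonoidHom.range_eq_top_of_surjective _ (QuotientGroup.mk'_surjective _)] at h
      exact (commutator_eq_bot_iff _).1 h
    · exact h
  have h1 : commutator X ⊔ Subgroup.center X = ⊤ := by
    have := congrArg (Subgroup.comap (QuotientGroup.mk' (Subgroup.center X))) hq
    rwa [Subgroup.comap_map_eq, QuotientGroup.ker_mk', Subgroup.comap_top] at this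
  refine ⟨h1, ?_⟩
  have key : ∀ N : Subgroup X, N.Normal → N ⊔ Subgroup.center X = ⊤ → commutator X ≤ N :=
    fun N hN h => Subgroup.Normal.commutator_le_of_self_sup_commutative_eq_top h inferInstance
  have hcomm : ∀ N : Subgroup X, ⁅N, commutator X⁆ = ⊥ → N ≤ Subgroup.center X := by
    intro N hN
    rw [← Subgroup.commutator_top_left_eq_bot_iff_le_center, ← h1]
    exact CfsgLead.commutator_sup_left_eq_bot (by rwa [Subgroup.commutator_comm])
      (Subgroup.commutator_center_left _)
  have hnorm : ∀ N : Subgroup X, commutator X ≤ Subgroup.normalizer (N : Set X) → N.Normal := by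
    intro N hN
    rw [← Subgroup.normalizer_eq_top_iff, eq_top_iff, ← h1]
    exact sup_le hN (Subgroup.center_le_normalizer _)
  have hdich : ∀ N : Subgroup X, N.Normal → commutator X ≤ N ∨ N ≤ Subgroup.center X := by
    intro N hN
    have hn : (N.map (QuotientGroup.mk' (Subgroup.center X))).Normal :=
      hN.map _ (QuotientGroup.mk'_surjective _)
    rcases hs.eq_bot_or_eq_top_of_normal _ hn with h | h
    · right
      rwa [Subgroup.map_eq_bot_iff, QuotientGroup.ker_mk'] at h
    · left
      apply key N hN
      have := congrArg (Subgroup.comap (QuotientGroup.mk' (Subgroup.center X))) h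
      rwa [Subgroup.comap_map_eq, QuotientGroup.ker_mk', Subgroup.comap_top] at this
  have hnc : ¬ commutator X ≤ Subgroup.center X := by
    intro h
    have h2 : Subgroup.center X = ⊤ := by rw [← h1]; exact (sup_eq_right.2 h).symm
    have := hs.toNontrivial
    exact (QuotientGroup.nontrivial_iff.1 this) h2
  rw [CfsgLead.isQuasisimple_subgroup_iff]
  refine ⟨?_, ?_, ?_⟩
  · apply le_antisymm (Subgroup.commutator_le_self _)
    rcases hdich ⁅commutator X, commutator X⁆ inferInstance with h | h
    · exact h
    · exfalso
      apply hna
      have h3 := Subgroup.map_mono (f := QuotientGroup.mk' (Subgroup.center X)) h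
      rw [Subgroup.map_commutator, hq, QuotientGroup.map_mk'_self, le_bot_iff] at h3
      exact (commutator_eq_bot_iff _).1 h3
  · intro h
    exact hnc (h ▸ bot_le)
  · intro N hN hn
    rcases hdich N (hnorm N hn) with h | h
    · left; exact le_antisymm hN h
    · right
      exact le_bot_iff.1 ((Subgroup.commutator_mono h le_rfl).trans (Subgroup.commutator_center_left _).le)

end Cfsg.Agent.S1258
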