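import Cfsg.Statements.S1262
import Cfsg.Agent.Lead.Component

set_option autoImplicit false
open Cfsg

namespace Cfsg.Agent.S1262

/-- Let L be a component of the finite group G and H a solvable subgroup normalized by L. Then ⁅L, H⁆ = 1. -/
theorem result {G : Type*} [Group G] [Finite G] (L H : Subgroup G) (hL : Cfsg.IsComponent L) (hsolv : Group.IsSolvable ↥H) (hinv : L ≤ Subgroup.normalizer (H : Set G)) : ⁅L, H⁆ = ⊥ := by
  have hHL : L ≤ Subgroup.normalizer ((H ⊓ L : Subgroup G) : Set G) :=
    CfsgLead.le_normalizer_inf hinv Subgroup.le_normalizer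
  have hsn : CfsgLead.SN H (H ⊔ L) :=
    CfsgLead.SN.of_normal le_sup_left (sup_le Subgroup.le_normalizer hinv)
  rcases CfsgLead.qs_le_or_commute hL.2 (H ⊔ L) H (CfsgLead.SN.of_isSubnormal hL.1 le_sup_right) hsn with h | h
  · exact absurd h (CfsgLead.qs_not_le_solvable hL.2 hsolv)
  · exact h

end Cfsg.Agent.S1262
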