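import Cfsg.Statements.S1263
import Cfsg.Agent.Lead.GenFitting

set_option autoImplicit false
open Cfsg

namespace Cfsg.Agent.S1263

open Subgroup CfsgLead in
theorem aux {G : Type*} [Group G] [Finite G] (S : Finset (Subgroup G)) (hS : ∀ K ∈ S, IsComponent K) :
    ∀ x ∈ S.sup id, (∀ K ∈ S, x ∈ centralizer (K : Set G)) →
      x ∈ ⨆ L : {K : Subgroup G // Cfsg.IsComponent K}, (center ↥(L : Subgroup G)).map (L : Subgroup G).subtype := by
  classical
  induction S using Finset.induction_on with
  | empty => intro x hx _; simp at hx; rw [hx]; exact one_mem _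
  | insert L T hLT ih =>
    intro x hx hc
    have hL := hS L (Finset.mem_insert_self _ _)
    have hT : ∀ K ∈ T, IsComponent K := fun K hK => hS K (Finset.mem_insert_of_mem hK)
    have hTL : T.sup id ≤ centralizer (L : Set G) := by
      refine Finset.sup_le fun K hK => ?_
      rcases component_eq_or_commute (hT K hK) hL with h | h
      · exact absurd (h ▸ hK) hLT
      · exact commutator_eq_bot_iff_le_centralizer.1 h
    rw [Finset.sup_insert] at hx
    have hx' : x ∈ ((L ⊔ T.sup id : Subgroup G) : Set G) := hx
    rw [coe_mul_of_right_le_normalizer_left _ _ (hTL.trans (centralizer_le_normalizer _))] at hx'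
    obtain ⟨l, hl, y, hy, rfl⟩ := hx'
    have h1 : l ∈ centralizer (L : Set G) := by
      simpa using mul_mem (hc L (Finset.mem_insert_self _ _)) (inv_mem (hTL hy))
    refine mul_mem (mem_iSup_of_mem ⟨L, hL⟩ ?_) (ih hT y hy fun K hK => ?_)
    · rw [map_center_subtype]; exact ⟨hl, h1⟩
    · have h2 : l ∈ centralizer (K : Set G) :=
        le_centralizer_iff.1 ((Finset.le_sup (f := id) hK).trans hTL) hl
      simpa using mul_mem (inv_mem h2) (hc K (Finset.mem_insert_of_mem hK))


/-- For a finite group G, Z(E(G)) is the subgroup generated by the centres Z(L) of the components L of G (all viewed as subgroups of G). -/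
theorem result {G : Type*} [Group G] [Finite G] : (Subgroup.center ↥(Cfsg.layer G)).map (Cfsg.layer G).subtype = ⨆ L : {K : Subgroup G // Cfsg.IsComponent K}, (Subgroup.center ↥(L : Subgroup G)).map (L : Subgroup G).subtype := by
  classical
  apply le_antisymm
  · rw [CfsgLead.map_center_subtype]
    intro x hx
    have hfin : {K : Subgroup G | IsComponent K}.Finite := Set.toFinite _
    refine aux hfin.toFinset (fun K hK => by simpa using hK) x ?_ ?_
    · have : layer G ≤ hfin.toFinset.sup id := CfsgLead.layer_le_iff.2 fun K hK =>
        Finset.le_sup (f := id) (by simpa using hK)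
      exact this hx.1
    · intro K hK
      have hK' : IsComponent K := by simpa using hK
      exact Subgroup.centralizer_le (SetLike.coe_subset_coe.2 (CfsgLead.le_layer hK')) hx.2
  · refine iSup_le fun L => ?_
    rw [CfsgLead.map_center_subtype, CfsgLead.map_center_subtype]
    refine le_inf (inf_le_left.trans (CfsgLead.le_layer L.2)) ?_
    rw [Subgroup.le_centralizer_iff, CfsgLead.layer_le_iff]
    intro K hK
    rcases CfsgLead.component_eq_or_commute hK L.2 with h | h
    · rw [Subgroup.le_centralizer_iff, h]; exact inf_le_right
    · exact (Subgroup.commutator_eq_bot_iff_le_centralizer.1 h).trans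
        (Subgroup.centralizer_le (SetLike.coe_subset_coe.2 inf_le_left))

end Cfsg.Agent.S1263
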