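import Cfsg.Statements.S1267
import Cfsg.Agent.Lead.GenFitting
import Cfsg.Agent.H2.SylowIn

set_option autoImplicit false
open Cfsg

namespace Cfsg.Agent.S1267

/-- Let G be finite and P ≤ O_p(G). Then E(N_G(P)) = E(G). -/
theorem result {G : Type*} [Group G] [Finite G] (p : ℕ) [Fact p.Prime] (P : Subgroup G) (hP : P ≤ Cfsg.pCore p G) : (Cfsg.layer ↥(Subgroup.normalizer ((P : Subgroup G) : Set G))).map (Subgroup.normalizer ((P : Subgroup G) : Set G)).subtype = Cfsg.layer G := by
  change CfsgLead.layerOf _ = _
  have hQ := CfsgH1.isPGroup_pCore p G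
  have hE := CfsgLead.layer_normal G
  apply le_antisymm
  · induction P using CfsgH2.subgroup_induction_down with
    | h P ih =>
    rcases eq_or_lt_of_le hP with h | h
    · rw [h, Subgroup.normalizer_eq_top, CfsgLead.layerOf_top]
    have h1 := CfsgH2.lt_inf_normalizer hQ h
    refine le_trans ?_ (ih _ (CfsgH2.card_lt_of_lt h1) inf_le_left)
    set P1 := pCore p G ⊓ Subgroup.normalizer (P : Set G) with hP1
    have hn : Group.IsNilpotent P1 := (hQ.to_le inf_le_left).isNilpotent
    have h2 : CfsgLead.layerOf (Subgroup.normalizer (P : Set G)) ≤ Subgroup.centralizer (P1 : Set G) :=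
      Subgroup.commutator_eq_bot_iff_le_centralizer.1 (CfsgLead.layerOf_commute_solvable
        (CfsgLead.SN.of_normal inf_le_right (CfsgLead.le_normalizer_inf
          Subgroup.le_normalizer_of_normal Subgroup.le_normalizer)) inferInstance)
    have h3 : Subgroup.centralizer (P1 : Set G) ≤ Subgroup.normalizer (P : Set G) :=
      (Subgroup.centralizer_le (SetLike.coe_subset_coe.2 h1.le)).trans
        (Subgroup.centralizer_le_normalizer _)
    rw [CfsgLead.layerOf_le_iff]
    intro K hK hq
    refine CfsgLead.le_layerOf ((hK.mono ((CfsgLead.le_layerOf hK hq).trans h2) h3).trans ?_) hq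
    exact CfsgLead.SN.of_normal (Subgroup.centralizer_le_normalizer _)
      (CfsgLead.normalizer_le_normalizer_centralizer _)
  · have hn : Group.IsNilpotent (pCore p G) := hQ.isNilpotent
    have h1 : layer G ≤ Subgroup.normalizer (P : Set G) :=
      (Subgroup.commutator_eq_bot_iff_le_centralizer.1 (CfsgLead.layer_commute_solvable
        (pCore_normal p G).isSubnormal inferInstance)).trans
        ((Subgroup.centralizer_le (SetLike.coe_subset_coe.2 hP)).trans
          (Subgroup.centralizer_le_normalizer _))
    rw [CfsgLead.layer_le_iff]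
    intro K hK
    exact CfsgLead.le_layerOf (CfsgLead.SN.of_isSubnormal hK.1 ((CfsgLead.le_layer hK).trans h1)) hK.2

end Cfsg.Agent.S1267
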