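import Cfsg.Statements.S1271
import Cfsg.Agent.H1.PLay3

set_option autoImplicit false
open Cfsg

namespace Cfsg.Agent.S1271

/-- Let G be finite with O_{p'}(G) = 1. Suppose that for every component L of G and every subgroup H ≥ L in which L is normal, the quotient H / C_H(L) is balanced for the prime p. Then G is balanced for p. -/
theorem result {G : Type*} [Group G] [Finite G] (p : ℕ) [Fact p.Prime] (hO : Cfsg.pPrimeCore p G = ⊥) (h : ∀ L : Subgroup G, Cfsg.IsComponent L → ∀ H : Subgroup G, L ≤ H → (L.subgroupOf H).Normal → ∀ [((Subgroup.centralizer (L : Set G)).subgroupOf H).Normal], Cfsg.IsBalancedFor p (↥H ⧸ (Subgroup.centralizer (L : Set G)).subgroupOf H)) : Cfsg.IsBalancedFor p G := by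
  open Subgroup CfsgH1 CfsgFT CfsgH2 in
  intro x hx
  have hO' : Opi {p}ᶜ (⊤ : Subgroup G) = ⊥ := Opi_compl_top'.trans hO
  have ho := pgroup_zpowers hx
  rw [cpc_eq, ← top_inf_eq C1(x), hO, le_bot_iff]
  set Y := Opi {p}ᶜ (⊤ ⊓ C1(x)) with hY
  refine (isPi_singleton_iff.2 ((isPGroup_Opi ⊤).to_le (le_Op_of_cent hO' le_top
    (le_cent_layerOf fun K h1 h2 => ?_) ?_))).eq_bot (isPi_Opi _ _)
  swap
  · rw [hY, Opi_cent1_eq (mem_top x) ho]; exact core_cent_Op ho le_top
  by_cases h0 : ⁅K, zpowers x⁆ = K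
  swap
  · exact core_cent_comp hO' h1 h2 (mem_top x) hx h0
  have hc := pc_of_qs h2 h1 hO'
  have hxK : x ∈ N(K) := by
    have := le_norm_comm_right K (zpowers x) (mem_zpowers x)
    rwa [h0] at this
  have hYK : Y ≤ N(K) := by
    rw [hY, Opi_cent1_eq (mem_top x) ho]
    exact le_sup_left.trans (hc.local_le_norm ho le_top)
  have hM : K ⊔ (Y ⊔ zpowers x) ≤ N(K) :=
    sup_le (le_norm_of_le le_rfl) (sup_le hYK (zpowers_le.2 hxK))
  set M := K ⊔ (Y ⊔ zpowers x) with hMdef
  haveI := normal_subgroupOf (le_normalizer_centralizer hM)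
  have hb := h K ⟨CfsgLead.SN.top_iff.1 h1, h2⟩ M le_sup_left (normal_subgroupOf hM)
  let f := QuotientGroup.mk' ((C(K)).subgroupOf M)
  have hxM : x ∈ M := mem_sup_right (mem_sup_right (mem_zpowers x))
  have h3 := core_map_le (B := Y ⊔ zpowers x) (D := Y) hO' h1 h2 ⟨x, hxM⟩ (mem_top _) ho hM f
    (QuotientGroup.ker_mk' _) (sup_le (Opi_le _ _) (le_inf le_top (zpowers_le.2 (self_mem_cent1 x))))
    le_rfl le_sup_left le_rfl
  rw [subgroupOf_self, map_top_mk', top_inf_eq, ← cpc_eq] at h3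
  have h4 : orderOf (f ⟨x, hxM⟩) = p := by
    refine orderOf_eq_prime ?_ fun e => ?_
    · rw [← map_pow, show (⟨x, hxM⟩ : M) ^ p = 1 from Subtype.ext (by
        simpa using hx ▸ pow_orderOf_eq_one x), map_one]
    · have : x ∈ C(K) := (QuotientGroup.eq_one_iff (⟨x, hxM⟩ : M)).1 e
      rw [comm_eq_bot (cent_symm (zpowers_le.2 this))] at h0
      exact hc.pq.ne_bot h0.symm
  have h5 := h3.trans (hb _ h4)
  have hKM : K ≤ M := le_sup_left
  have hYM : Y ≤ M := le_sup_left.trans le_sup_right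
  have h6 : (⁅K, Y⁆.subgroupOf M).map f ≤ pPrimeCore p _ := by
    rw [← comm_subgroupOf hKM hYM, map_commutator]
    exact (commutator_mono le_rfl h5).trans (commutator_le_right _ _)
  rcases CfsgLead.qs_normal h2 (comm_le_left hYK) (le_norm_comm_left K Y) with h7 | h7
  · rw [h7] at h6
    rcases ((PQ.subgroupOf_iff hKM).2 hc.pq).map f with h8 | h8
    · rw [Subgroup.map_eq_bot_iff, QuotientGroup.ker_mk'] at h8
      have := comm_eq_bot (le_of_subgroupOf_le hKM h8)
      rw [hc.pq.perf] at this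
      exact (hc.pq.ne_bot this).elim
    · rw [← Opi_compl_top'] at h6
      exact (h8.not_le (isPi_Opi _ _) h6).elim
  · rw [commutator_comm K Y] at h7
    exact cent_symm (cent_of_comm_eq_bot (CfsgLead.commutator_eq_bot_of_perfect hc.pq.perf h7))

end Cfsg.Agent.S1271
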