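import Cfsg.Statements.S1273
import Cfsg.Agent.H1.PLay3

set_option autoImplicit false
open Cfsg

namespace Cfsg.Agent.S1273

/-- Let K be a p-component of the finite group X and N a normal subgroup of K whose index in K is prime to p. Then N = K. -/
theorem result {X : Type*} [Group X] [Finite X] (p : ℕ) [Fact p.Prime] (K : Subgroup X) (hK : Cfsg.IsPComponent p K) (N : Subgroup ↥K) [N.Normal] (hidx : (N.index).Coprime p) : N = ⊤ := by
  open Subgroup CfsgH1 CfsgFT CfsgH2 in
  have h := (isPComponent_iff.1 hK).pq.eq_of_sn
    (CfsgLead.SN.of_normal (map_subtype_le N) (le_norm_map_subtype N)) (by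
      rw [relIndex, subgroupOf_map_subtype_self]
      exact (Nat.Prime.coprime_iff_not_dvd Fact.out).1 hidx.symm)
  rw [← subgroupOf_map_subtype_self N, h, subgroupOf_self]

end Cfsg.Agent.S1273
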