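import Cfsg.Statements.S1277
import Cfsg.Agent.H1.PLay3

set_option autoImplicit false
open Cfsg

namespace Cfsg.Agent.S1277

/-- For a finite group X with core O(X): the image of E(X) in X / O(X) is all of E(X / O(X)) if and only if every 2-component of X is a component, i.e. L_{2'}(X) ≤ E(X). -/
theorem result {X : Type*} [Group X] [Finite X] : (Cfsg.layer X).map (QuotientGroup.mk' (Cfsg.oddCore X)) = Cfsg.layer (X ⧸ Cfsg.oddCore X) ↔ Cfsg.pLayer 2 X ≤ Cfsg.layer X := by
  open Subgroup CfsgH1 CfsgFT CfsgH2 in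
  haveI : Fact (Nat.Prime 2) := ⟨Nat.prime_two⟩
  constructor
  · intro h
    rw [← pLayerOf_top, pLayerOf_le_iff]
    intro K hK
    have h1 : K ≤ pPrimeCore 2 X ⊔ layer X := by
      have := map_mono (f := QuotientGroup.mk' (pPrimeCore 2 X)) hK.le_pLayerOf
      rwa [pLayerOf_top, map_pLayer_core, ← h, map_le_iff_le_comap, comap_map_eq,
        QuotientGroup.ker_mk', sup_comm] at this
    haveI := CfsgLead.layer_normal X
    refine hK.pq.le_of_le_sup (Opi_compl_top' (G := X) (p := 2) ▸ isPi_Opi _ _)
      (by rw [normalizer_eq_top]; exact le_top)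
      (CfsgLead.SN.of_normal le_sup_right (by rw [normalizer_eq_top]; exact le_top)) h1
  · intro h
    refine le_antisymm ?_ (map_pLayer_core.ge.trans (map_mono h))
    rw [map_le_iff_le_comap, CfsgLead.layer_le_iff]
    intro K hK
    rw [← map_le_iff_le_comap]
    rcases CfsgLead.qs_map (QuotientGroup.mk' (oddCore X)) hK.2 with h1 | h1
    · rw [h1]; exact bot_le
    · refine CfsgLead.le_layer ⟨CfsgLead.SN.top_iff.1 ?_, h1⟩
      rw [← map_top_mk']
      exact (CfsgLead.SN.top_iff.2 hK.1).map _

end Cfsg.Agent.S1277
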