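import Cfsg.Statements.S1278
import Cfsg.Agent.H1.PLay3

set_option autoImplicit false
open Cfsg

namespace Cfsg.Agent.S1278

/-- Let K ≠ L be 2-components of the finite group X. Then ⁅K, L⁆ ≤ O(K) ⊓ O(L), and if K is quasisimple then ⁅K, L⁆ = 1. -/
theorem result {X : Type*} [Group X] [Finite X] (K L : Subgroup X) (hK : Cfsg.IsPComponent 2 K) (hL : Cfsg.IsPComponent 2 L) (hne : K ≠ L) : ⁅K, L⁆ ≤ ((Cfsg.oddCore ↥K).map K.subtype) ⊓ ((Cfsg.oddCore ↥L).map L.subtype) ∧ (Cfsg.IsQuasisimple ↥K → ⁅K, L⁆ = ⊥) := by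
  open Subgroup CfsgH1 CfsgFT CfsgH2 in
  haveI : Fact (Nat.Prime 2) := ⟨Nat.prime_two⟩
  rw [isPComponent_iff] at hK hL
  have h1 := (hK.eq_or_comm hL).resolve_left hne
  have h2 : ⁅K, L⁆ ≤ Opi {2}ᶜ K := by
    rw [Opi_eq_of_sn hK.sn]
    exact le_inf h1 (comm_le_left (hL.le_pLayerOf.trans hK.pLayerOf_le_norm))
  have h3 : ⁅K, L⁆ ≤ Opi {2}ᶜ L := by
    rw [Opi_eq_of_sn hL.sn]
    exact le_inf h1 (comm_le_right (hK.le_pLayerOf.trans hL.pLayerOf_le_norm))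
  rw [← Opi_compl_singleton_eq, ← Opi_compl_singleton_eq]
  refine ⟨le_inf h2 h3, fun hq => CfsgLead.commutator_eq_bot_of_perfect hK.pq.perf ?_⟩
  rw [commutator_comm L K]
  exact eq_bot_iff.2 ((commutator_mono h2 le_rfl).trans (hK.pq.comm_Opi hq).le)

end Cfsg.Agent.S1278
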