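import Cfsg.Statements.S1279
import Cfsg.Agent.H2.Sig2

set_option autoImplicit false
open Cfsg

namespace Cfsg.Agent.S1279
open Subgroup CfsgH2
open scoped commutatorElement

open CfsgFT

/-- Let A be a noncyclic elementary abelian p-subgroup of the finite group G such that C_G(a) is solvable for every non-identity a ∈ A. Then a ↦ O_{p'}(C_G(a)) is a solvable A-signalizer functor on G. -/
theorem result {G : Type*} [Group G] [Finite G] (p : ℕ) [Fact p.Prime] (A : Subgroup G) (hA : Cfsg.IsElementaryAbelian p A) (hA2 : p ^ 2 ≤ Nat.card ↥A) (hsolv : ∀ a ∈ A, a ≠ 1 → Group.IsSolvable ↥(Subgroup.centralizer ({a} : Set G))) : Cfsg.IsSolvableSignalizerFunctor p A (fun a => Cfsg.centralizerPPrimeCore p a) := by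
  rw [sf_iff hA]
  have e : ∀ a : G, Cfsg.centralizerPPrimeCore p a = Opi {p}ᶜ C1(a) := fun a => (Opi_compl_singleton_eq _).symm
  simp only [e]
  refine ⟨hA, fun a _ _ => Opi_le _ _, fun a _ _ => isPi_compl_singleton_iff.1 (isPi_Opi _ _),
    fun a ha _ => nO _ (ea_norm_cent1 hA ha), fun a ha a1 b hb b1 => ?_,
    fun a ha a1 => solv_of_le (hsolv a ha a1) (Opi_le _ _)⟩
  have h1 := Opi_cent_le (p := p) (hsolv b hb b1) (R := zpowers a)
    ((ea_pgroup hA).to_le ((zpowers_le (G := G)).2 ha))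
    ((zpowers_le (G := G)).2 (cent_le_cent1 hb (ea_comm hA ha)))
  rw [cent_zpowers] at h1
  refine le_trans ?_ h1
  have h2 := Opi_inf_le (π := {p}ᶜ) (inf_le_right : C1(b) ⊓ C1(a) ≤ C1(a))
  exact le_trans (le_inf inf_le_left (le_inf inf_le_right (inf_le_left.trans (Opi_le _ _)))) h2


end Cfsg.Agent.S1279
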