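import Cfsg.Statements.S1286
import Cfsg.Agent.H2.Sig2

set_option autoImplicit false
open Cfsg

namespace Cfsg.Agent.S1286
open Subgroup CfsgH2
open scoped commutatorElement

open CfsgFT

abbrev P5 := Equiv.Perm (Fin 5)
def a : P5 := Equiv.swap 0 1
def b : P5 := Equiv.swap 2 3
def x : P5 := Equiv.swap 2 3 * Equiv.swap 3 4
def y : P5 := Equiv.swap 0 1 * Equiv.swap 1 4

def A4 : Subgroup P5 where
  carrier := {g | g = 1 ∨ g = a ∨ g = b ∨ g = a * b}
  one_mem' := Or.inl rfl
  mul_mem' := by
    rintro _ _ (rfl | rfl | rfl | rfl) (rfl | rfl | rfl | rfl) <;> simp only [Set.mem_ofPred_eq] <;> decide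
  inv_mem' := by
    rintro _ (rfl | rfl | rfl | rfl) <;> simp only [Set.mem_ofPred_eq] <;> decide

def C3 (z : P5) (h : z * z * z = 1) : Subgroup P5 where
  carrier := {g | g = 1 ∨ g = z ∨ g = z * z}
  one_mem' := Or.inl rfl
  mul_mem' := by
    rintro _ _ (h1 | h1 | h1) (h2 | h2 | h2) <;> rw [h1, h2] <;> simp [← mul_assoc, h]
  inv_mem' := by
    rintro _ (h1 | h1 | h1) <;> rw [h1]
    · simp
    · right; right; rw [inv_eq_iff_mul_eq_one, ← mul_assoc, h]
    · right; left; rw [inv_eq_iff_mul_eq_one, h]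

theorem hx : x * x * x = 1 := by decide
theorem hy : y * y * y = 1 := by decide

theorem C3_pg (z : P5) (h : z * z * z = 1) : IsPGroup 3 (C3 z h) := by
  rintro ⟨g, hg⟩
  refine ⟨1, Subtype.ext ?_⟩
  have h3 : z ^ 3 = 1 := by rw [← h]; simp [pow_succ]
  rcases hg with h1 | h1 | h1 <;> simp only [pow_one, SubgroupClass.coe_pow, OneMemClass.coe_one, h1]
  · simp
  · exact h3
  · rw [← pow_two, ← pow_mul, mul_comm, pow_mul, h3, one_pow]

def th (g : P5) : Subgroup P5 := if g = a then C3 x hx else if g = b then C3 y hy else ⊥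

theorem th_a : th a = C3 x hx := by simp [th]
theorem th_b : th b = C3 y hy := by
  have : b ≠ a := by decide
  simp [th, this]
theorem th_ab : th (a * b) = ⊥ := by
  have h1 : a * b ≠ a := by decide
  have h2 : a * b ≠ b := by decide
  simp [th, h1, h2]

theorem th_pg (g : P5) : IsPGroup 3 (th g) := by
  by_cases h1 : g = a
  · rw [h1, th_a]; exact C3_pg _ _
  by_cases h2 : g = b
  · rw [h2, th_b]; exact C3_pg _ _
  have : th g = ⊥ := by simp [th, h1, h2]
  rw [this]; exact IsPGroup.of_bot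

/-- There exist a finite group X, an elementary abelian subgroup A of order 4 and a solvable A-signalizer functor θ on X for the prime 2 which is not complete. -/
theorem result : ∃ (X : Type) (_ : Group X) (_ : Finite X) (A : Subgroup X) (θ : X → Subgroup X), Cfsg.IsElementaryAbelian 2 A ∧ Nat.card ↥A = 4 ∧ Cfsg.IsSolvableSignalizerFunctor 2 A θ ∧ ¬ Cfsg.IsCompleteSignalizerFunctor 2 A θ := by
  haveI : Fact (Nat.Prime 3) := ⟨Nat.prime_three⟩
  have mA : ∀ g, g ∈ A4 ↔ g = 1 ∨ g = a ∨ g = b ∨ g = a * b := fun g => Iff.rfl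
  have mC : ∀ z h g, g ∈ C3 z h ↔ g = 1 ∨ g = z ∨ g = z * z := fun z h g => Iff.rfl
  refine ⟨P5, inferInstance, inferInstance, A4, th, ⟨comm_iff.2 ?_, ?_⟩, ?_, ⟨⟨?_, ?_, ?_, ?_⟩, ?_⟩, ?_⟩
  · rintro _ (rfl | rfl | rfl | rfl) <;> rw [mem_cent] <;> rintro _ (rfl | rfl | rfl | rfl) <;> decide
  · rintro _ (rfl | rfl | rfl | rfl) <;> decide
  · have : (A4 : Set P5) = ({1, a, b, a * b} : Finset P5) := by
      ext g; simp [mA]
    rw [show Nat.card A4 = Nat.card (A4 : Set P5) from rfl, this, Nat.card_coe_set_eq, Set.ncard_coe_finset]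
    decide
  · rintro _ (rfl | rfl | rfl | rfl) h1
    · exact absurd rfl h1
    · rw [th_a]; rintro _ (rfl | rfl | rfl) <;> rw [mem_cent1] <;> decide
    · rw [th_b]; rintro _ (rfl | rfl | rfl) <;> rw [mem_cent1] <;> decide
    · rw [th_ab]; exact bot_le
  · intro g _ _
    exact isPi_compl_singleton_iff.1 (isPi_compl_of_isPGroup (th_pg g) (by decide))
  · rintro _ (rfl | rfl | rfl | rfl) h1
    · exact absurd rfl h1
    · rw [th_a]; rintro _ (rfl | rfl | rfl | rfl) _ (rfl | rfl | rfl) <;> rw [mC] <;> decide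
    · rw [th_b]; rintro _ (rfl | rfl | rfl | rfl) _ (rfl | rfl | rfl) <;> rw [mC] <;> decide
    · rw [th_ab]; intro g _ z hz; rw [mem_bot] at hz ⊢; simp [hz]
  · rintro _ (rfl | rfl | rfl | rfl) h1
    · exact absurd rfl h1
    · rintro _ (rfl | rfl | rfl | rfl) h2
      · exact absurd rfl h2
      · exact inf_le_left
      all_goals
        rw [th_a]
        rintro _ ⟨rfl | rfl | rfl, h3⟩
        · exact one_mem _
        all_goals exact absurd (mem_cent1.1 h3) (by decide)
    · rintro _ (rfl | rfl | rfl | rfl) h2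
      · exact absurd rfl h2
      rotate_left
      · exact inf_le_left
      all_goals
        rw [th_b]
        rintro _ ⟨rfl | rfl | rfl, h3⟩
        · exact one_mem _
        all_goals exact absurd (mem_cent1.1 h3) (by decide)
    · rw [th_ab]; intro g _ _; simp
  · intro g _ _
    exact solvable_of_pgroup (th_pg g)
  · rintro ⟨-, X, -, h1, h2⟩
    have hxX : x ∈ X := by
      have := h2 a (Or.inr (Or.inl rfl)) (by decide)
      rw [th_a] at this
      exact (this.ge (Or.inr (Or.inl rfl))).1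
    have hyX : y ∈ X := by
      have := h2 b (Or.inr (Or.inr (Or.inl rfl))) (by decide)
      rw [th_b] at this
      exact (this.ge (Or.inr (Or.inl rfl))).1
    have hw : x * x * y * x * y ∈ X :=
      X.mul_mem (X.mul_mem (X.mul_mem (X.mul_mem hxX hxX) hyX) hxX) hyX
    apply h1
    have : orderOf (x * x * y * x * y) = 2 := orderOf_eq_prime (by decide) (by decide)
    rw [← this]
    exact X.orderOf_dvd_natCard hw


end Cfsg.Agent.S1286
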