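import Cfsg.Statements.S1287
import Cfsg.Agent.H2.Sig2

set_option autoImplicit false
open scoped Pointwise
open Cfsg

namespace Cfsg.Agent.S1287
open Subgroup CfsgH2
open scoped commutatorElement

open CfsgFT

/-- Let A be a noncyclic elementary abelian p-subgroup of a finite group H normalizing a subgroup K of order prime to p, and X, Y ≤ K subgroups normalized by A with C_K(a) = C_X(a) C_Y(a) (as sets) for every non-identity a ∈ A, where X is also normalized by C_K(A). Then K = XY as sets. -/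
theorem result {H : Type*} [Group H] [Finite H] (p : ℕ) [Fact p.Prime] (A K X Y : Subgroup H) (hA : Cfsg.IsElementaryAbelian p A) (hA2 : p ^ 2 ≤ Nat.card ↥A) (hK : ¬ p ∣ Nat.card ↥K) (hAK : A ≤ Subgroup.normalizer (K : Set H)) (hX : X ≤ K) (hY : Y ≤ K) (hAX : A ≤ Subgroup.normalizer (X : Set H)) (hAY : A ≤ Subgroup.normalizer (Y : Set H)) (hCX : K ⊓ Subgroup.centralizer (A : Set H) ≤ Subgroup.normalizer (X : Set H)) (hfac : ∀ a ∈ A, a ≠ 1 → ((K ⊓ Subgroup.centralizer {a} : Subgroup H) : Set H) = ((X ⊓ Subgroup.centralizer {a} : Subgroup H) : Set H) * ((Y ⊓ Subgroup.centralizer {a} : Subgroup H) : Set H)) : (K : Set H) = (X : Set H) * (Y : Set H) := by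
  have key := fac hA (ne_bot_of_pow_le hA2) hK hAK hX hY hAX hAY hCX fun B hB x hx => by
    obtain ⟨a, ha, a1⟩ := exists_ne_one_of_ne_bot (ne_bot_of_pow_le (k := 0) (hB.pow_le hA2))
    have h1 : x ∈ ((K ⊓ C1(a) : Subgroup H) : Set H) := ⟨hx.1, cent_le_cent1 ha hx.2⟩
    rw [hfac a (hB.1 ha) a1] at h1
    obtain ⟨u, hu, v, hv, rfl⟩ := h1
    obtain ⟨u', hu', v', hv', e⟩ := CfsgH1.exists_centralizer_mul (hB.1.trans hAX) (hB.1.trans hAY)
      (coprime_mono (ea_cop hA hK) hB.1 (inf_le_left.trans hX)) (Or.inl (ea_solv (CfsgH2.ea_mono hA hB.1)))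
      hu.1 hv.1 hx.2
    exact ⟨u', hu', v', hv', e⟩
  ext x
  constructor
  · intro hx
    obtain ⟨u, hu, v, hv, rfl⟩ := key x hx
    exact ⟨u, hu, v, hv, rfl⟩
  · rintro ⟨u, hu, v, hv, rfl⟩
    exact K.mul_mem (hX hu) (hY hv)


end Cfsg.Agent.S1287
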