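import Cfsg.Statements.S1288
import Cfsg.Agent.H2.Sig2

set_option autoImplicit false
open Cfsg

namespace Cfsg.Agent.S1288
open Subgroup CfsgH2
open scoped commutatorElement

open CfsgFT

/-- Let A be a noncyclic elementary abelian p-subgroup of a finite group H normalizing a solvable subgroup K of order prime to p, q a prime dividing |K|, and U ≤ K a subgroup of order prime to q such that ⁅U, C_K(B)⁆ has order prime to q for every subgroup B of index p in A. Then U ≤ O_{q'}(K). -/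
theorem result {H : Type*} [Group H] [Finite H] (p : ℕ) [Fact p.Prime] (A K : Subgroup H) (hA : Cfsg.IsElementaryAbelian p A) (hA2 : p ^ 2 ≤ Nat.card ↥A) (hK : ¬ p ∣ Nat.card ↥K) (hKs : Group.IsSolvable ↥K) (hAK : A ≤ Subgroup.normalizer (K : Set H)) (q : ℕ) [Fact q.Prime] (hqK : q ∣ Nat.card ↥K) (U : Subgroup H) (hU : U ≤ K) (hUq : ¬ q ∣ Nat.card ↥U) (hcomm : ∀ B : Subgroup H, B ≤ A → B.relIndex A = p → ¬ q ∣ Nat.card ↥⁅U, K ⊓ Subgroup.centralizer (B : Set H)⁆) : U ≤ (Cfsg.pPrimeCore q ↥K).map K.subtype := by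
  rw [← Opi_compl_singleton_eq]
  have hO : K ≤ N(Opi {q}ᶜ K) := le_normalizer_Opi _ _
  have hUq' := isPi_compl_singleton_iff.2 hUq
  have h1 : Opp q K ≤ unq (Opi {q}ᶜ K) C(quo (Opi {q}ᶜ K) U) := by
    refine le_of_hyp hA (ne_bot_of_pow_le hA2) (le_norm_Opp hAK) (ndvd_of_le hK (Opp_le _ _))
      fun B hB => ?_
    have h0 : Opp q K ⊓ C(B) ≤ N(Opi {q}ᶜ K) := (inf_le_left.trans (Opp_le _ _)).trans hO
    rw [← quo_le_iff h0, quo_le_cent_iff h0 (hU.trans hO), ← Opi_Opp]
    refine npc_le_Opi (npc_Opp K) ?_ ((commutator_mono inf_le_left le_rfl).trans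
      (comm_le_left (hU.trans (le_norm_Opp_self _ _))))
    rw [Subgroup.commutator_comm]
    exact (isPi_compl_singleton_iff.2 (hcomm B hB.1 hB.2)).mono
      (commutator_mono le_rfl (inf_le_inf_right _ (Opp_le _ _)))
  rw [← quo_le_iff ((Opp_le _ _).trans hO), quo_Opi_Opp] at h1
  have h2 := (le_inf (quo_mono hU) (cent_symm h1)).trans
    (inf_cent_Op_le (solvable_quo hKs _) (Opi_quo_Opi _ _))
  rw [← quo_eq_bot_iff (hU.trans hO)]
  exact ((isPi_Opi _ _).mono h2).eq_bot (hUq'.quo _)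


end Cfsg.Agent.S1288
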