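import Cfsg.Statements.S1292
import Cfsg.Agent.H1.PLay3

set_option autoImplicit false
open Cfsg

namespace Cfsg.Agent.S1292

/-- Let G be a finite group such that F*(C_G(t)) = O_2(C_G(t)) for every involution t. Then F*(N_G(T)) = O_2(N_G(T)) for every nontrivial 2-subgroup T of G. -/
theorem result {G : Type*} [Group G] [Finite G] (h : ∀ t : G, orderOf t = 2 → Cfsg.generalizedFittingSubgroup ↥(Subgroup.centralizer ({t} : Set G)) = Cfsg.pCore 2 ↥(Subgroup.centralizer ({t} : Set G))) (T : Subgroup G) (hT : IsPGroup 2 ↥T) (hT1 : T ≠ ⊥) : Cfsg.generalizedFittingSubgroup ↥(Subgroup.normalizer (T : Set G)) = Cfsg.pCore 2 ↥(Subgroup.normalizer (T : Set G)) := by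
  open Subgroup CfsgH1 CfsgFT CfsgH2 in
  haveI : Fact (Nat.Prime 2) := ⟨Nat.prime_two⟩
  obtain ⟨z, hz, ho⟩ := exists_orderOf_eq_prime Nat.prime_two (dvd_card_of_isPGroup
    (hT.to_le inf_le_left) (inf_cent_ne_bot_of_pgroup hT hT (le_norm_of_le le_rfl) hT1))
  obtain ⟨h1, h2⟩ := fstar_eq_Op_iff.1 (h z ho)
  have hle : T ≤ C1(z) := le_cent1_iff.2 hz.2
  obtain ⟨h3, h4⟩ := local_of_pLayerOf_bot h2 hT hle
  have e : C1(z) ⊓ C(T) = ⊤ ⊓ C(T) := by
    rw [top_inf_eq, inf_eq_right.2 (cent_le_cent1 hz.1)]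
  have hT' : IsPi {2}ᶜᶜ T := isPi_compl_compl.2 (isPi_singleton_iff.2 hT)
  rw [← pLayerOf_cent_eq hT hle, e, pLayerOf_cent_eq hT le_top, top_inf_eq] at h3
  rw [Opi_norm_eq_cent hT' hle, e, ← Opi_norm_eq_cent hT' le_top, top_inf_eq, h1] at h4
  exact fstar_eq_Op_iff.2 ⟨le_bot_iff.1 h4, h3⟩

end Cfsg.Agent.S1292
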