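import Cfsg.Statements.S1297
import Cfsg.Agent.H1.PLay3

set_option autoImplicit false
open Cfsg

namespace Cfsg.Agent.S1297

/-- Let G be finite. Suppose that for every involution x, writing C = C_G(x), every component K of C / O(C) has K / Z(K) locally balanced. Then G is balanced. -/
theorem result {G : Type*} [Group G] [Finite G] (h : ∀ x : G, orderOf x = 2 → ∀ K : Subgroup (↥(Subgroup.centralizer ({x} : Set G)) ⧸ Cfsg.oddCore ↥(Subgroup.centralizer ({x} : Set G))), Cfsg.IsComponent K → Cfsg.IsLocallyBalanced (↥K ⧸ Subgroup.center ↥K)) : Cfsg.IsBalanced G := by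
  open Subgroup CfsgH1 CfsgFT CfsgH2 in
  haveI : Fact (Nat.Prime 2) := ⟨Nat.prime_two⟩
  have key : ∀ x y : G, orderOf x = 2 → orderOf y = 2 → x * y = y * x →
      centralizerPPrimeCore 2 x ⊓ C1(y) ≤ centralizerPPrimeCore 2 y ⊓ C1(x) := by
    intro x y hx hy hxy
    have h1 := delta_le_of_locB (M := C1(y)) (elem_zpowers (mem_cent1'.2 hxy) hx) le_rfl
      fun K hK => locB_of_quot (CfsgLead.qs_perfect hK.2) fun H hH A _ h3 => by
        obtain ⟨a, ha, rfl⟩ := exists_zpowers_of_card_prime (X := A) (h3 ▸ Nat.prime_two)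
        have h4 := signalizerDelta_le (p := 2) (mem_zpowers a) ha
        rw [← cpc_eq, h y hy K hK H hH a (by rw [← Nat.card_zpowers, h3, pow_one])] at h4
        exact le_bot_iff.1 h4
    rw [cpc_eq, cpc_eq]
    refine le_inf (le_trans (inf_le_inf_right _ (le_signalizerDelta fun a ha h2 => ?_)) h1)
      (inf_le_left.trans (Opi_le _ _))
    rw [← cent_zpowers a, eq_zpowers_of_card_prime (by rw [Nat.card_zpowers, hx]; exact Nat.prime_two)
      ha h2, cent_zpowers]
  exact fun x y hx hy hxy => le_antisymm (key x y hx hy hxy) (key y x hy hx hxy.symm)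

end Cfsg.Agent.S1297
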