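import Cfsg.Statements.S1300
import Cfsg.Agent.H1.PLay3

set_option autoImplicit false
open Cfsg

namespace Cfsg.Agent.S1300

/-- For a finite group G, balance in the sense of commuting involutions is the same as 1-balance for the prime 2. -/
theorem result {G : Type*} [Group G] [Finite G] : Cfsg.IsBalanced G ↔ Cfsg.IsKBalanced 2 1 G := by
  open Subgroup CfsgH1 CfsgFT CfsgH2 in
  haveI : Fact (Nat.Prime 2) := ⟨Nat.prime_two⟩
  constructor
  · intro h A _ hc b hb hab
    obtain ⟨a, ha, rfl⟩ := exists_zpowers_of_card_prime (X := A) (hc ▸ Nat.prime_two)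
    have h4 := signalizerDelta_le (p := 2) (mem_zpowers a) ha
    rw [← cpc_eq] at h4
    refine (inf_le_inf_right _ h4).trans ?_
    rw [h a b (by rw [← Nat.card_zpowers, hc, pow_one]) hb (hab a (mem_zpowers a))]
    exact inf_le_left
  · intro h
    have key : ∀ x y : G, orderOf x = 2 → orderOf y = 2 → x * y = y * x →
        centralizerPPrimeCore 2 x ⊓ C1(y) ≤ centralizerPPrimeCore 2 y ⊓ C1(x) := by
      intro x y hx hy hxy
      have he := elem_zpowers (mem_cent1'.2 hxy) hx
      have h1 := h _ he.ea he.card y hy fun a ha => mem_cent1'.1 (he.le ha)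
      refine le_inf (le_trans (inf_le_inf_right _ (le_signalizerDelta fun a ha h2 => ?_)) h1)
        (inf_le_left.trans (cpc_eq (p := 2) x ▸ Opi_le _ _))
      rw [← cent_zpowers a, eq_zpowers_of_card_prime
        (by rw [Nat.card_zpowers, hx]; exact Nat.prime_two) ha h2, cent_zpowers, cpc_eq]
    exact fun x y hx hy hxy => le_antisymm (key x y hx hy hxy) (key y x hy hx hxy.symm)

end Cfsg.Agent.S1300
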