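import Cfsg.Statements.S1303
import Cfsg.Agent.H2.Diag
import Cfsg.Agent.H3.Burnside
import Cfsg.Agent.H1.Solv

set_option autoImplicit false
open Cfsg

namespace Cfsg.Agent.S1303

/-- The group X = SL(2, 3): it is 2-constrained, O_{2'}(X) = 1, its centre A = Z(X) contains every involution of X = C_X(A), and X has a subgroup of order 3 (normalized by A) not contained in O_{2'}(X). -/
theorem result : Cfsg.IsPConstrained 2 (Matrix.SpecialLinearGroup (Fin 2) (ZMod 3)) ∧ Cfsg.pPrimeCore 2 (Matrix.SpecialLinearGroup (Fin 2) (ZMod 3)) = ⊥ ∧ (∀ t : Matrix.SpecialLinearGroup (Fin 2) (ZMod 3), orderOf t = 2 → t ∈ Subgroup.center (Matrix.SpecialLinearGroup (Fin 2) (ZMod 3))) ∧ ∃ Q : Subgroup (Matrix.SpecialLinearGroup (Fin 2) (ZMod 3)), Nat.card ↥Q = 3 ∧ ¬ (Q ≤ Cfsg.pPrimeCore 2 (Matrix.SpecialLinearGroup (Fin 2) (ZMod 3))) := by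
  open Subgroup CfsgH1 CfsgH2 CfsgH3 in
    have c := card_sl23
    have k : pPrimeCore 2 (Matrix.SpecialLinearGroup (Fin 2) (ZMod 3)) = ⊥ := by
      have o : ∀ x ∈ pPrimeCore 2 (Matrix.SpecialLinearGroup (Fin 2) (ZMod 3)), x ^ 3 = 1 := fun x hx =>
        orderOf_dvd_iff_pow_eq_one.1 (Nat.Coprime.dvd_of_dvd_mul_left (k := orderOf x) (m := 2 ^ 3)
          (Nat.Coprime.pow_right _ (Nat.Coprime.coprime_dvd_left (Subgroup.orderOf_dvd_natCard _ hx) (coprime_card_pPrimeCore 2 _)))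
          ((_root_.orderOf_dvd_natCard x).trans (by rw [c])))
      have d : ∀ x : Matrix.SpecialLinearGroup (Fin 2) (ZMod 3), x ^ 3 = 1 → (x * (slc * x * slc⁻¹)⁻¹) ^ 3 = 1 → x = 1 := by
        decide +kernel
      exact eq_bot_iff.2 fun x hx => d x (o x hx) (o _ (mul_mem hx (inv_mem (Normal.conj_mem inferInstance x hx _))))
    have d : ∀ t : Matrix.SpecialLinearGroup (Fin 2) (ZMod 3), t * t = 1 → t = 1 ∨ t = -1 := by decide +kernel
    refine ⟨IsPSolvable.isPConstrained ?_, k, fun t ht => ?_, ?_⟩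
    · haveI := isSolvable_of_card_dvd_pow_mul_pow (G := Matrix.SpecialLinearGroup (Fin 2) (ZMod 3)) Nat.prime_two Nat.prime_three
        (a := 3) (b := 1) (by rw [c]; decide)
      exact isPSolvable_of_isSolvable
    · rcases d t (mul_self_of_orderOf_two ht) with rfl | rfl
      · exact one_mem _
      · exact mem_center_iff.2 fun g => by simp
    · haveI : Fact (Nat.Prime 3) := ⟨Nat.prime_three⟩
      obtain ⟨x, hx⟩ := exists_prime_orderOf_dvd_card' (G := Matrix.SpecialLinearGroup (Fin 2) (ZMod 3)) 3 (by rw [c]; decide)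
      refine ⟨zpowers x, by rw [Nat.card_zpowers, hx], fun h => ?_⟩
      rw [k, zpowers_le, mem_bot] at h
      rw [h, orderOf_one] at hx
      exact absurd hx (by decide)

end Cfsg.Agent.S1303
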