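import Cfsg.Statements.S1305
import Cfsg.Agent.H9.Pump

set_option autoImplicit false
open Cfsg

namespace Cfsg.Agent.S1305

/-- Let G be a finite group of component type with the B-property and no nontrivial normal subgroup of odd order. Let a be an involution and K a component of C_G(a) such that (a) |K| is maximal among the orders of components of centralizers of involutions of G, (b) subject to (a) the 2-rank of the centralizer of K in C_G(a) is as large as possible, and (c) K has 2-rank at least 2. If B is an elementary abelian 2-subgroup of that centralizer of the largest possible order, then K is a component of C_G(b) for every non-identity b ∈ B. -/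
theorem result {G : Type*} [Group G] [Finite G] (hO : Cfsg.oddCore G = ⊥) (hB : Cfsg.HasBProperty G) (hct : Cfsg.IsComponentType G) (a : G) (ha : orderOf a = 2) (K : Subgroup G) (hKa : K ≤ Subgroup.centralizer ({a} : Set G)) (hK : Cfsg.IsComponent (K.subgroupOf (Subgroup.centralizer ({a} : Set G)))) (hmax : ∀ y : G, orderOf y = 2 → ∀ K' : Subgroup G, K' ≤ Subgroup.centralizer ({y} : Set G) → Cfsg.IsComponent (K'.subgroupOf (Subgroup.centralizer ({y} : Set G))) → Nat.card ↥K' ≤ Nat.card ↥K ∧ (Nat.card ↥K' = Nat.card ↥K → ∀ k : ℕ, Cfsg.PRankLE 2 k ↥(Subgroup.centralizer ({a} : Set G) ⊓ Subgroup.centralizer (K : Set G)) → Cfsg.PRankLE 2 k ↥(Subgroup.centralizer ({y} : Set G) ⊓ Subgroup.centralizer (K' : Set G)))) (hrk : ¬ Cfsg.PRankLE 2 1 ↥K) (B : Subgroup G) (hBle : B ≤ Subgroup.centralizer ({a} : Set G) ⊓ Subgroup.centralizer (K : Set G)) (hBel : Cfsg.IsElementaryAbelian 2 B) (hBmax : ∀ B' : Subgroup G, B' ≤ Subgroup.centralizer ({a} : Set G) ⊓ Subgroup.centralizer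 (K : Set G) → Cfsg.IsElementaryAbelian 2 B' → Nat.card ↥B' ≤ Nat.card ↥B) (b : G) (hb : b ∈ B) (hb1 : b ≠ 1) : K ≤ Subgroup.centralizer ({b} : Set G) ∧ Cfsg.IsComponent (K.subgroupOf (Subgroup.centralizer ({b} : Set G))) := by
  open Subgroup CfsgH1 CfsgH2 CfsgFT CfsgH9 CfsgLead in
    obtain ⟨s, q⟩ := (isComponent_subgroupOf_iff hKa).1 hK
    have ob := orderOf_eq_of_mem_ea hBel hb hb1
    have lK : K ≤ C1(b) := le_cent1_iff.2 (hBle hb).2
    have ab : a ∈ C1(b) := mem_cent1_symm (hBle hb).1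
    have s2 : SN K (C1(b) ⊓ C1(a)) := s.mono (le_inf lK hKa) inf_le_right
    have l : K ≤ layerOf C1(b) := (qs_le_pLayer ha ab s2 q).trans (pLayerOf_le_iff.2 fun L hL => le_layerOf hL.sn (hL.pq.qs (by
      have := hB b ob
      rw [hO, Subgroup.map_commutator, ← Opi_compl_singleton_eq] at this
      rw [commutator_comm]
      exact le_bot_iff.1 ((commutator_mono hL.le_pLayerOf (Opi_le_Opi_of_sn hL.sn)).trans this))))
    refine ⟨lK, (isComponent_subgroupOf_iff lK).2 ⟨?_, q⟩⟩
    obtain ⟨D, h1, h2, c⟩ := pumpup ha (le_normalizer ab) s2 q l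
    obtain ⟨m1, m2⟩ := hmax b ob D h1.le ((isComponent_subgroupOf_iff h1.le).2 ⟨h1, h2⟩)
    obtain c | ⟨c, -⟩ | ⟨c1, c2, c3⟩ := c
    · exact c ▸ h1
    · exact absurd (CfsgH2.card_lt_of_lt c) (not_lt.2 m1)
    exfalso
    obtain ⟨π, p1, -, -, k⟩ := exists_diag_hom ha h2 c2
    have eK := k K c3 q
    have inj : Function.Injective π := by
      have := (Nat.bijective_iff_surjective_and_card π.rangeRestrict).2 ⟨π.rangeRestrict_surjective,
        le_antisymm (eK ▸ m1) (Nat.card_le_card_of_surjective _ π.rangeRestrict_surjective)⟩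
      exact fun x y e => this.1 (Subtype.ext e)
    have cD : Nat.card D = Nat.card K := by rw [eK]; exact Nat.card_congr (MonoidHom.ofInjective inj).toEquiv
    obtain ⟨n, hn⟩ := (ea_isPGroup hBel).exists_card_eq
    have r := rk_le_iff.2 (m2 cD n (rk_le_iff.1 (by
      obtain ⟨E, hE⟩ := exists_elem_rk (p := 2) (C1(a) ⊓ C(K))
      have := hBmax E hE.le hE.ea
      rwa [hE.card, hn, Nat.pow_le_pow_iff_right one_lt_two] at this)))
    have a2 := mul_self_of_orderOf_two ha
    have ca : ∀ x ∈ B, a * x = x * a := fun x hx => mem_cent1.1 (hBle hx).1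
    have aB : a ∈ B := by
      have c : zpowers a ≤ C(B) := zpowers_le.2 fun x hx => (ca x hx).symm
      exact (CfsgH2.eq_of_le_of_card_le le_sup_left (hBmax _ (sup_le hBle (zpowers_le.2 ⟨self_mem_cent1 a, le_cent1_iff.1 hKa⟩))
        (ea_sup hBel (ea_zpowers (by rw [sq, a2])) c))).ge (mem_sup_right (mem_zpowers a))
    have mK : ∀ d ∈ D, d * (a * d * a⁻¹) ∈ K := fun d hd => by rw [eK, ← p1 ⟨d, hd⟩]; exact ⟨_, rfl⟩
    have i2 : N(D).relIndex B = 2 := relIndex_eq_two_iff.2 ⟨a, aB, fun x hx => by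
      rw [← ca x hx, mem_norm_iff_cj, mem_norm_iff_cj, ← cj_cj]
      rcases cj_eq_or_of_cent_diag h1 h2 c2 (le_normalizer ab) mK (c3.le.trans inf_le_left)
        (le_normalizer (cent_le_cent1 hb (ea_le_centralizer hBel hx))) (cent_le_norm K (hBle hx).2) with e | e <;> rw [e]
      · exact .inr ⟨rfl, c1⟩
      · exact .inl ⟨cj_cj_inv2 a2 D, c1⟩⟩
    have cB : B ⊓ N(D) ≤ C(D) := fun x hx => cent_of_cent_diag h2 c2 hx.2 (by
      rw [mem_norm_iff_cj, cj_cj, ← ca x hx.1, ← cj_cj, cj_eq_of_norm hx.2]) fun d hd => cent_le_cent1 (mK d hd) (hBle hx.1).2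
    have cB2 : B ⊓ N(D) ≤ C(cj a D) := fun x hx => by
      rw [← cj_centralizer, mem_cj, mul_assoc, ← ca x hx.1, inv_mul_cancel_left]; exact cB hx
    obtain ⟨U, hU⟩ := le_rk_iff.1 (show 2 ≤ rk 2 (cj a D) by
      rw [rk_cj, ← rk_top_subgroup, ← rk_map_of_injective inj, ← MonoidHom.range_eq_map, ← eK]
      exact not_pRankLE_iff.1 hrk)
    have cU : U ≤ C(B ⊓ N(D)) := cent_symm (cB2.trans (cent_anti hU.le))
    have e := ea_sup (ea_mono hBel inf_le_left) hU.ea cU
    have d : B ⊓ N(D) ⊓ U = ⊥ := eq_bot_iff.2 fun z hz => by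
      have m := mem_cj.1 (hU.le hz.2)
      rw [mul_assoc, ← ca z hz.1.1, inv_mul_cancel_left] at m
      have : π ⟨z, m⟩ = 1 := by
        rw [p1]; show z * (a * z * a⁻¹) = 1
        rw [ca z hz.1.1, mul_inv_cancel_right, ← sq, hBel.2 z hz.1.1]
      exact congrArg Subtype.val ((injective_iff_map_eq_one π).1 inj _ this)
    have c4 := card_of_compl (le_norm_of_cent cU) d rfl
    have c5 := CfsgH2.card_mul_relIndex (inf_le_left : B ⊓ N(D) ≤ B)
    rw [inf_relIndex_left, i2, hn] at c5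
    have c6 := (card_le_pow_rk e (sup_le (le_inf (inf_le_left.trans ((ea_le_centralizer hBel).trans (cent_le_cent1 hb))) cB)
      (hU.le.trans (le_inf (CfsgH9.sn_cj h1 (le_normalizer ab)).le (cent_symm (cent_of_comm_eq_bot c2)))))).trans
      (Nat.pow_le_pow_right two_pos r)
    rw [c4, hU.card, ← c5] at c6
    have : 0 < Nat.card (B ⊓ N(D) : Subgroup G) := Nat.card_pos
    omega

end Cfsg.Agent.S1305
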