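import Cfsg.Statements.S1306
import Cfsg.Agent.H2.FStar

set_option autoImplicit false
open Cfsg

namespace Cfsg.Agent.S1306

/-- Let G be finite, x an involution and L ≤ C_G(x) a component of C_G(x). Suppose L is a component of C_G(y) for every involution y ∈ C_G(L), and ⁅L, g L g⁻¹⁆ ≠ 1 whenever g L g⁻¹ ≠ L. Then L is a standard subgroup of G. -/
theorem result {G : Type*} [Group G] [Finite G] (x : G) (hx : orderOf x = 2) (L : Subgroup G) (hLx : L ≤ Subgroup.centralizer ({x} : Set G)) (hL : Cfsg.IsComponent (L.subgroupOf (Subgroup.centralizer ({x} : Set G)))) (hne : ∀ y : G, orderOf y = 2 → y ∈ Subgroup.centralizer (L : Set G) → L ≤ Subgroup.centralizer ({y} : Set G) ∧ Cfsg.IsComponent (L.subgroupOf (Subgroup.centralizer ({y} : Set G)))) (hnc : ∀ g : G, L.map (MulAut.conj g).toMonoidHom ≠ L → ⁅L, L.map (MulAut.conj g).toMonoidHom⁆ ≠ ⊥) : Cfsg.IsStandardSubgroup L := by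
  open Subgroup CfsgH1 CfsgH2 CfsgFT CfsgLead in
    have q := ((isComponent_subgroupOf_iff hLx).1 hL).2
    have k : ∀ g y : G, orderOf y = 2 → y ∈ C(L) → y ∈ cj g C(L) → g ∈ N(L) := fun g y o h1 h2 => by
      have a := (isComponent_subgroupOf_iff (hne y o h1).1).1 (hne y o h1).2
      have o' : orderOf (g⁻¹ * y * g) = 2 := by simpa [o] using orderOf_conj' g⁻¹ y
      have b := ((isComponent_subgroupOf_iff (hne _ o' (mem_cj.1 h2)).1).1 (hne _ o' (mem_cj.1 h2)).2).1.map
        (MulAut.conj g).toMonoidHom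
      rw [cj_def, cj_def, cj_centralizer_singleton, show g * (g⁻¹ * y * g) * g⁻¹ = y by group] at b
      rw [← cj_eq_iff_mem_normalizer]
      by_contra ne
      rcases qs_eq_or_commute q (isQuasisimple_of_equiv (cjEquiv g L) q) a.1 b with e | e
      · exact ne e.symm
      · exact hnc g ne e
    have m : x ∈ C(L) := le_cent1_iff.1 hLx
    refine ⟨q, ⟨even_iff_two_dvd.2 (hx ▸ Subgroup.orderOf_dvd_natCard _ m), fun g hg => ?_⟩, hnc,
      le_antisymm (CfsgH2.normalizer_le_normalizer_centralizer L) fun g hg => k g x hx m ((cj_eq_of_norm hg).ge m)⟩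
    by_contra e
    obtain ⟨y, hy, o⟩ := exists_orderOf_eq_prime Nat.prime_two (even_iff_two_dvd.1 (Nat.not_odd_iff_even.1 e))
    exact hg (CfsgH2.normalizer_le_normalizer_centralizer L (k g y o hy.1 hy.2))

end Cfsg.Agent.S1306
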