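import Cfsg.Statements.S1307
import Cfsg.Agent.H2.FStar
import Cfsg.Agent.H2.Q8b
import Cfsg.Agent.H9.Conn

set_option autoImplicit false
open Cfsg

namespace Cfsg.Agent.S1307

/-- Let G be finite, x an involution and L ≤ C_G(x) a component of C_G(x) of even order and 2-rank 1, such that L is a component of C_G(y) for every involution y ∈ C_G(L). Then some involution of L is a classical involution of G. -/
theorem result {G : Type*} [Group G] [Finite G] (x : G) (hx : orderOf x = 2) (L : Subgroup G) (hLx : L ≤ Subgroup.centralizer ({x} : Set G)) (hL : Cfsg.IsComponent (L.subgroupOf (Subgroup.centralizer ({x} : Set G)))) (heven : Even (Nat.card ↥L)) (hrk : Cfsg.PRankLE 2 1 ↥L) (hne : ∀ y : G, orderOf y = 2 → y ∈ Subgroup.centralizer (L : Set G) → L ≤ Subgroup.centralizer ({y} : Set G) ∧ Cfsg.IsComponent (L.subgroupOf (Subgroup.centralizer ({y} : Set G)))) : ∃ t ∈ L, Cfsg.IsClassicalInvolution t := by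
  open Subgroup CfsgH1 CfsgH2 CfsgFT CfsgLead CfsgH9 in
    have q := ((isComponent_subgroupOf_iff hLx).1 hL).2
    obtain ⟨p1, -, p3⟩ := isQuasisimple_iff.1 q
    obtain ⟨S⟩ : Nonempty (Sylow 2 L) := inferInstance
    have s := IsSylowIn.of_sylow_top S
    have u : UniqInv (S : Subgroup L) := uniqInv_of_no_klein S.2 fun E _ k => by
      have := hrk E (klein_iff.1 k).1.1 (klein_iff.1 k).1.2
      rw [(klein_iff.1 k).2] at this
      omega
    obtain ⟨t, o⟩ := exists_prime_orderOf_dvd_card' (G := L) 2 (even_iff_two_dvd.1 heven)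
    have ne : pPrimeCore 2 L ≠ ⊤ := fun e => by
      have := coprime_card_pPrimeCore 2 L
      rw [e, card_top] at this
      exact Nat.not_odd_iff_even.2 heven (Nat.coprime_two_right.1 this)
    have z : t ∈ center L := by
      have h1 : ⁅zpowers t, (⊤ : Subgroup L)⁆ ≤ center L := commutator_le.2 fun a ha g _ => by
        rcases (mem_zpowers_of_mul_self (mul_self_of_orderOf_two o)).1 ha with rfl | rfl
        · simp
        · exact (p3 _ inferInstance).resolve_left ne (brauer_suzuki s u o g)
      have := commutator_eq_bot_of_perfect (U := zpowers t) (K := ⊤) p1 (comm_eq_bot (h1.trans fun a ha b _ => mem_center_iff.1 ha b))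
      exact mem_center_iff.2 fun g => (cent_of_comm_eq_bot this (mem_top g) t (mem_zpowers t)).symm
    have o' : orderOf (t : G) = 2 := by rw [Subgroup.orderOf_coe, o]
    have h := hne t o' fun a ha => congrArg Subtype.val (mem_center_iff.1 z ⟨a, ha⟩)
    refine ⟨t, t.2, o', L, h.1, t.2, h.2.1, S, (cyclic_or_quat' S.2 u).resolve_left fun c => ?_⟩
    obtain ⟨H, hH⟩ := exists_index_two_of_hasNPC (hasNPC_of_cyclic_two s c) (by rwa [card_top])
    haveI := normal_of_index_eq_two hH
    have e : ⁅(⊤ : Subgroup L), (⊤ : Subgroup L)⁆ = ⊤ := p1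
    have : _root_.commutator (⊤ : Subgroup L) ≤ H := (Normal.quotient_commutative_iff_commutator_le).1
      (isCyclic_of_prime_card (p := 2) hH).isMulCommutative
    rw [commutator_eq_subgroupOf, e, subgroupOf_self, top_le_iff] at this
    rw [this, index_top] at hH
    omega

end Cfsg.Agent.S1307
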