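import Cfsg.Statements.S1313
import Cfsg.Agent.Lead.GenFitting

set_option autoImplicit false
open Cfsg

namespace Cfsg.Agent.S1313

theorem hol {X : Type*} [Group X] [Finite X] :
    Nat.card X * Nat.card (MulAut X) ≤ Nat.factorial (Nat.card X) := by
  classical
  have := Fintype.ofFinite X
  let f : X × MulAut X → Equiv.Perm X := fun p => p.2.toEquiv.trans (Equiv.mulLeft p.1)
  have hf : Function.Injective f := by
    rintro ⟨x, φ⟩ ⟨y, ψ⟩ h
    have h1 : ∀ z, x * φ z = y * ψ z := fun z => congrArg (fun e : Equiv.Perm X => e z) h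
    have h2 : x = y := by simpa using h1 1
    subst h2
    refine Prod.ext rfl ?_
    ext z
    exact mul_left_cancel (h1 z)
  have h3 := Nat.card_le_card_of_injective f hf
  rwa [Nat.card_prod, Nat.card_perm] at h3


/-- For a finite group H, |H| ≤ |F*(H)|!. -/
theorem result {H : Type*} [Group H] [Finite H] : Nat.card H ≤ Nat.factorial (Nat.card ↥(Cfsg.generalizedFittingSubgroup H)) := by
  have hN := CfsgLead.genFitting_normal H
  set F := generalizedFittingSubgroup H with hF
  let φ : H →* MulAut F := MulAut.conjNormal
  have hker : φ.ker ≤ F := by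
    refine le_trans ?_ (CfsgLead.centralizer_genFitting_le H)
    intro x hx y hy
    have := congrArg (fun e : MulAut F => ((e ⟨y, hy⟩ : F) : H)) (MonoidHom.mem_ker.1 hx)
    simp [φ] at this
    rw [mul_inv_eq_iff_eq_mul] at this
    exact this.symm
  have h1 : Nat.card H = Nat.card φ.ker * Nat.card φ.range := by
    rw [← Subgroup.card_mul_index φ.ker, Subgroup.index_ker]
  have : Finite (MulAut F) := Finite.of_injective (fun e : MulAut F => (e : F → F)) DFunLike.coe_injective
  rw [h1]
  refine le_trans (Nat.mul_le_mul (Subgroup.card_le_of_le hker) (Subgroup.card_le_card_group _)) hol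

end Cfsg.Agent.S1313
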