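import Cfsg.Statements.S1316
import Cfsg.Agent.Lead.GenFitting

set_option autoImplicit false
open Cfsg

namespace Cfsg.Agent.S1316

/-- For a finite group X, E(X) equals the intersection of the derived series of F*(X) (its last term). -/
theorem result {X : Type*} [Group X] [Finite X] : (⨅ n : ℕ, (derivedSeries ↥(Cfsg.generalizedFittingSubgroup X) n).map (Cfsg.generalizedFittingSubgroup X).subtype) = Cfsg.layer X := by
  have hE := CfsgLead.layer_normal X
  set F := generalizedFittingSubgroup X with hF
  apply le_antisymm
  · let f : F →* X ⧸ layer X := (QuotientGroup.mk' (layer X)).comp F.subtype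
    have h1 : f.range = (fittingSubgroup X).map (QuotientGroup.mk' (layer X)) := by
      rw [MonoidHom.range_comp, Subgroup.range_subtype, hF, generalizedFittingSubgroup,
        Subgroup.map_sup, QuotientGroup.map_mk'_self, bot_sup_eq]
    have h2 : Group.IsNilpotent f.range := by
      rw [h1]; exact CfsgH1.isNilpotent_map (CfsgH1.isNilpotent_fitting X) _
    obtain ⟨n, hn⟩ := (inferInstance : Group.IsSolvable f.range).solvable
    refine (iInf_le _ n).trans ?_
    have h3 := map_derivedSeries_le_derivedSeries f.rangeRestrict n
    rw [hn, le_bot_iff, Subgroup.map_eq_bot_iff] at h3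
    rintro _ ⟨y, hy, rfl⟩
    have h4 : f y = 1 := congrArg Subtype.val (MonoidHom.mem_ker.1 (h3 hy))
    exact (QuotientGroup.eq_one_iff _).1 h4
  · refine le_iInf fun n => ?_
    induction n with
    | zero =>
      rw [derivedSeries_zero, ← MonoidHom.range_eq_map, Subgroup.range_subtype]
      exact CfsgLead.layer_le_genFitting
    | succ n ih =>
      rw [derivedSeries_succ, Subgroup.map_commutator, ← CfsgLead.layer_perfect X]
      exact Subgroup.commutator_mono ih ih

end Cfsg.Agent.S1316
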