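import Cfsg.Statements.S1317
import Cfsg.Agent.Lead.GenFitting

set_option autoImplicit false
open Cfsg

namespace Cfsg.Agent.S1317

/-- For a finite group X, the centre of the layer E(X) is F(X) ∩ E(X). -/
theorem result {X : Type*} [Group X] [Finite X] : (Subgroup.center ↥(Cfsg.layer X)).map (Cfsg.layer X).subtype = Cfsg.fittingSubgroup X ⊓ Cfsg.layer X := by
  have hE := CfsgLead.layer_normal X
  apply le_antisymm
  · refine le_inf ?_ (Subgroup.map_subtype_le _)
    have : ((Subgroup.center ↥(Cfsg.layer X)).map (Cfsg.layer X).subtype).Normal := inferInstance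
    exact CfsgH1.le_fitting (CfsgH1.isNilpotent_map CfsgH1.isNilpotent_of_isMulCommutative _)
  · rw [CfsgLead.map_center_subtype]
    refine le_inf inf_le_right (inf_le_left.trans ?_)
    rw [Subgroup.le_centralizer_iff]
    exact Subgroup.commutator_eq_bot_iff_le_centralizer.1 (CfsgLead.layer_commute_fitting X)

end Cfsg.Agent.S1317
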