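import Cfsg.Statements.S1322
import Cfsg.Agent.H9.Pump

set_option autoImplicit false
open Cfsg

namespace Cfsg.Agent.S1322

/-- Let G be finite with L_{2'}(G) = E(G), t an involution and L ≤ C_G(t) a component of C_G(t). Then there is a component D of G with: L = D; or L < D and D = ⁅D, ⟨t⟩⁆; or tDt⁻¹ ≠ D and L is the layer of C_{D ⊔ tDt⁻¹}(t). -/
theorem result {G : Type*} [Group G] [Finite G] (hL2 : Cfsg.pLayer 2 G = Cfsg.layer G) (t : G) (ht : orderOf t = 2) (L : Subgroup G) (hLt : L ≤ Subgroup.centralizer ({t} : Set G)) (hL : Cfsg.IsComponent (L.subgroupOf (Subgroup.centralizer ({t} : Set G)))) : ∃ D : Subgroup G, Cfsg.IsComponent D ∧ (L = D ∨ (L < D ∧ D = ⁅D, Subgroup.zpowers t⁆) ∨ (D.map (MulAut.conj t).toMonoidHom ≠ D ∧ L = (Cfsg.layer ↥((D ⊔ D.map (MulAut.conj t).toMonoidHom) ⊓ Subgroup.centralizer ({t} : Set G))).map ((D ⊔ D.map (MulAut.conj t).toMonoidHom) ⊓ Subgroup.centralizer ({t} : Set G)).subtype))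 := by
  open Subgroup CfsgH1 CfsgH2 CfsgFT CfsgH9 CfsgLead in
    obtain ⟨s, q⟩ := (isComponent_subgroupOf_iff hLt).1 hL
    rw [← top_inf_eq C1(t)] at s
    have l := qs_le_pLayer ht (mem_top t) s q
    rw [pLayerOf_top, hL2, ← layerOf_top] at l
    obtain ⟨D, a, b, c⟩ := pumpup ht (le_norm_top ⊤ (mem_top t)) s q l
    refine ⟨D, ⟨SN.top_iff.1 a, b⟩, c.imp_right (Or.imp_right fun ⟨c1, c2, c3⟩ => ⟨c1, ?_⟩)⟩
    obtain ⟨π, -, e, -, k⟩ := exists_diag_hom ht b c2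
    exact (k L c3 q).trans e

end Cfsg.Agent.S1322
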