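import Cfsg.Statements.S1323
import Cfsg.Agent.Lead.Component
import Cfsg.Agent.H2.SylowIn

set_option autoImplicit false
open Cfsg

namespace Cfsg.Agent.S1323

open Subgroup Equiv Equiv.Perm Finset CfsgLead CfsgH2 Pointwise MulAction
variable {Ω : Type*} [Fintype Ω] [DecidableEq Ω]
local notation "A" s => MonoidHom.range (alternatingGroup.ofSubtype s)

theorem mem {s : Finset Ω} {g : alternatingGroup Ω} : g ∈ (A s) ↔ g.1.support ⊆ s := alternatingGroup.mem_range_ofSubtype_iff _ _

theorem mv {s : Finset Ω} (h : 4 ≤ #s) {x : Ω} (hx : x ∈ s) (w : Ω) (n : w ≠ x) : ∃ c ∈ (A s), c.1 x ≠ x ∧ c.1 w = w := by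
  obtain ⟨y, hy, z, hz, e⟩ := one_lt_card.1 (show 1 < #((s.erase x).erase w) by grind [pred_card_le_card_erase])
  simp only [mem_erase] at hy hz
  have t := isThreeCycle_swap_mul_swap_same (Ne.symm hy.2.1) (Ne.symm hz.2.1) e
  refine ⟨⟨_, t.mem_alternatingGroup⟩, mem.2 ((support_mul_le _ _).trans (by simp [support_swap, Ne.symm, insert_subset_iff, *])), ?_, ?_⟩
  all_goals simp [swap_apply_def]; grind

theorem cent {s : Finset Ω} (h : 4 ≤ #s) : centralizer ((A s) : Set (alternatingGroup Ω)) = (A sᶜ) := by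
  ext g
  refine ⟨fun e => mem.2 fun x hx => mem_compl.2 fun k => ?_, fun e c hc => Subtype.ext (Disjoint.commute (disjoint_iff_disjoint_support.2
    (disjoint_compl_right.mono (mem.1 hc) (mem.1 e))))⟩
  obtain ⟨c, c1, c2, c3⟩ := mv h k _ (mem_support.1 hx)
  exact c2 (g.1.injective ((DFunLike.congr_fun (congrArg Subtype.val (e c c1)) x).symm.trans c3))

theorem std {s : Finset Ω} (h : #s = 4) (h5 : 5 ≤ #sᶜ) : IsStandardSubgroup (A sᶜ) := by
  have c : centralizer ((A sᶜ) : Set (alternatingGroup Ω)) = (A s) := by rw [cent (by omega), compl_compl]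
  have k : 5 ≤ Nat.card ↥sᶜ := by rwa [Nat.card_eq_fintype_card, Fintype.card_coe]
  have m := fun (s : Finset Ω) (g : alternatingGroup Ω) => alternatingGroup.conj_smul_range_ofSubtype s g
  haveI := alternatingGroup.isSimpleGroup k
  refine ⟨isQuasisimple_of_equiv (MonoidHom.ofInjective alternatingGroup.ofSubtype_injective) (isQuasisimple_iff.2 ⟨commutator_alternatingGroup_eq_top k, inferInstance,
    fun N hN => hN.eq_bot_or_eq_top.symm.imp_right fun e => e.le.trans bot_le⟩), c ▸ ⟨?_, fun g hg => ?_⟩, fun g _ e => ?_,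
    le_antisymm (CfsgH2.normalizer_le_normalizer_centralizer _) ((CfsgH2.normalizer_le_normalizer_centralizer _).trans (by rw [c, cent h.ge]))⟩
  · haveI : Nontrivial s := Fintype.one_lt_card_iff_nontrivial.1 (by simp [h])
    rw [← Nat.card_congr (MonoidHom.ofInjective alternatingGroup.ofSubtype_injective).toEquiv, nat_card_alternatingGroup, Nat.card_eq_fintype_card, Fintype.card_coe, h]
    decide
  · rw [← Nat.not_even_iff_odd, even_iff_two_dvd]
    intro e
    obtain ⟨⟨t, t1, t2⟩, ht⟩ := exists_prime_orderOf_dvd_card' 2 e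
    have o : orderOf t.1 = 2 := (orderOf_coe t).trans ((orderOf_mk _ _).symm.trans ht)
    have : 4 ≤ #t.1.support := by
      by_contra! q
      interval_cases r : #t.1.support
      · simp [card_support_eq_zero.1 r] at o
      · exact card_support_ne_one _ r
      · simpa [(card_support_eq_two.1 r).sign_eq] using mem_alternatingGroup.1 t.2
      · simp [(card_support_eq_three_iff.1 r).orderOf] at o
    have e : g • s = s := (eq_of_subset_of_card_le (mem.1 ((m s g).le t2)) (by simp [h, this])).symm.trans (eq_of_subset_of_card_le (mem.1 t1) (by omega))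
    exact hg (mem_normalizer_iff_map_conj_eq.2 ((m s g).trans (by rw [e])))
  · rw [commutator_comm, commutator_eq_bot_iff_le_centralizer, c] at e
    refine (card_le_card (show g • sᶜ ⊆ s from fun x hx => ?_)).not_gt (by simp; omega)
    obtain ⟨w, hw⟩ := Fintype.exists_ne_of_one_lt_card (by have := card_le_univ s; omega) x
    obtain ⟨c, c1, c2, -⟩ := mv (by simp; omega) hx w hw
    exact mem.1 (e ((m _ g).ge c1)) (mem_support.2 c2)

/-- For n ≥ 9, the subgroup of the alternating group on Fin n fixing each of the points 0, 1, 2, 3 is a standard subgroup. -/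
theorem result (n : ℕ) (h4 : 4 ≤ n) (hn : 9 ≤ n) : Cfsg.IsStandardSubgroup (⨅ i : Fin 4, MulAction.stabilizer ↥(alternatingGroup (Fin n)) (Fin.castLE h4 i : Fin n)) := by
  convert std (s := univ.map ⟨_, Fin.castLE_injective h4⟩) (by simp) (by simp [card_compl]; omega)
  ext g
  simp only [mem, mem_iInf, mem_stabilizer_iff, subset_compl_comm (s := g.1.support)]
  simp [Finset.subset_iff, Subgroup.smul_def]

end Cfsg.Agent.S1323
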