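import Cfsg.Statements.S1324
import Cfsg.Agent.H1.Generation
import Cfsg.Agent.H2.PGroup

set_option autoImplicit false
open Cfsg

namespace Cfsg.Agent.S1324

/-- Let A be a noncyclic elementary abelian p-subgroup of a finite group H normalizing a subgroup X of order prime to p. Then X is generated by the subgroups X ∩ C_H(B), B ranging over the subgroups of A of index at most p. -/
theorem result {H : Type*} [Group H] [Finite H] (p : ℕ) [Fact p.Prime] (A X : Subgroup H) (hA : Cfsg.IsElementaryAbelian p A) (hA2 : p ^ 2 ≤ Nat.card ↥A) (hX : ¬ p ∣ Nat.card ↥X) (hAX : A ≤ Subgroup.normalizer (X : Set H)) : X = ⨆ B : {B : Subgroup H // B ≤ A ∧ B.relIndex A ≤ p}, X ⊓ Subgroup.centralizer ((B : Subgroup H) : Set H) := by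
  haveI := hA.1
  have hAp : IsPGroup p A := CfsgH1.isPGroup_of_forall_pow_eq_one hA.2
  refine le_antisymm ?_ (iSup_le fun B => inf_le_left)
  refine CfsgH1.le_of_cocyclic hAX (CfsgH1.IsPGroup.coprime_card_of_coprime hAp
    ((Nat.Prime.coprime_iff_not_dvd Fact.out).mpr hX).symm) fun B hB ⟨a, ha, hs⟩ => ?_
  refine le_iSup_of_le ⟨B, hB, ?_⟩ le_rfl
  by_cases haB : a ∈ B
  · rw [sup_eq_left.mpr (Subgroup.zpowers_le.mpr haB)] at hs
    rw [hs, Subgroup.relIndex_self]
    exact (Fact.out : p.Prime).one_lt.le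
  · rw [← hs, CfsgH2.relIndex_sup_zpowers (p := p) ?_ haB (by rw [hA.2 a ha]; exact one_mem _)]
    refine Subgroup.centralizer_le_normalizer _ fun b hb => ?_
    exact setLike_mul_comm (hB hb) ha

end Cfsg.Agent.S1324
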