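import Cfsg.Statements.S1327
import Cfsg.Agent.H1.PLay3

set_option autoImplicit false
open Cfsg

namespace Cfsg.Agent.S1327

/-- A finite group X is p-constrained if and only if its p-layer L_{p'}(X) is trivial (equivalently X / O_{p'}(X) has trivial layer). -/
theorem result {X : Type*} [Group X] [Finite X] (p : ℕ) [Fact p.Prime] : Cfsg.IsPConstrained p X ↔ Cfsg.pLayer p X = ⊥ := by
  open Subgroup CfsgH1 CfsgFT CfsgH2 in
  let f := QuotientGroup.mk' (pPrimeCore p X)
  have key : ∀ P : Sylow p ↥(pPrimePCore p X),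
      C((P : Subgroup (pPrimePCore p X)).map (pPrimePCore p X).subtype) ≤ pPrimePCore p X ↔
      pLayer p X = ⊥ := by
    intro P
    have hP := IsSylowIn.of_sylow_map P
    set Q := (P : Subgroup (pPrimePCore p X)).map (pPrimePCore p X).subtype
    have e1 : (pPrimePCore p X).map f = pCore p _ :=
      map_comap_eq_self_of_surjective (QuotientGroup.mk'_surjective _) _
    have e2 : Q.map f = pCore p _ := by
      have := hP.map f
      rw [e1] at this
      exact this.eq_of_isPGroup (isPGroup_pCore _ _)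
    have e3 := map_inf_cent (isPi_ker_core ⊤) hP.pgroup (le_norm_top _)
    rw [top_inf_eq, map_top_mk', top_inf_eq, e2] at e3
    change _ ≤ comap _ _ ↔ _
    rw [← map_le_iff_le_comap, e3, ← CfsgLead.genFitting_eq_pCore_iff, fstar_eq_Op_iff_top,
      pPrimeCore_quotient_pPrimeCore, ← pLayerOf_top, ← map_top_mk', ← pLayerOf_map (isPi_ker_core ⊤),
      Subgroup.map_eq_bot_iff, QuotientGroup.ker_mk', ← pLayerOf_top, pLayerOf_eq_bot_iff,
      pLayerOf_le_iff]
    exact ⟨fun h K hK => hK.pq.not_le (isPi_Opi _ ⊤) ((h.2 K hK).trans Opi_compl_top'.ge), fun h => ⟨rfl, fun K hK => (h K hK).elim⟩⟩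
  exact ⟨fun h => (key default).1 (h _), fun h P => (key P).2 h⟩

end Cfsg.Agent.S1327
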