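import Cfsg.Statements.S1328
import Cfsg.Agent.H9.Pump

set_option autoImplicit false
open Cfsg

namespace Cfsg.Agent.S1328

/-- Let G be finite, H ≤ G with O(H) = 1, t an involution of G normalizing H, and Y a nontrivial subgroup of O(C_H(t)). Then some component E of H is normalized by t and by Y and centralized by neither t nor Y. -/
theorem result {G : Type*} [Group G] [Finite G] (H : Subgroup G) (hO : Cfsg.oddCore ↥H = ⊥) (t : G) (ht : orderOf t = 2) (htH : t ∈ Subgroup.normalizer (H : Set G)) (Y : Subgroup G) (hY1 : Y ≠ ⊥) (hY : Y ≤ (Cfsg.oddCore ↥(H ⊓ Subgroup.centralizer ({t} : Set G))).map (H ⊓ Subgroup.centralizer ({t} : Set G)).subtype) : ∃ E : Subgroup ↥H, Cfsg.IsComponent E ∧ (E.map H.subtype).map (MulAut.conj t).toMonoidHom = E.map H.subtype ∧ Y ≤ Subgroup.normalizer ((E.map H.subtype : Subgroup G) : Set G) ∧ ¬ (t ∈ Subgroup.centralizer ((E.map H.subtype : Subgroup G) : Set G)) ∧ ¬ (Y ≤ Subgroup.centralizer ((E.map H.subtype : Subgroup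 G) : Set G)) := by
  open Subgroup CfsgH1 CfsgH2 CfsgFT CfsgH9 CfsgLead in
    have z : zpowers t ≤ N(H) := zpowers_le.2 htH
    have pz := pgroup_zpowers ht
    have n : H ⊔ zpowers t ≤ N(H) := sup_le le_normalizer z
    have s : SN H (H ⊔ zpowers t) := SN.of_normal le_sup_left n
    have hO' : Opi {2}ᶜ H = ⊥ := by rw [Opi_compl_singleton_eq]; exact (Subgroup.map_eq_bot_iff _).2 (hO.le.trans bot_le)
    have li : ∀ K ≤ H ⊔ zpowers t, resIn 2 K = K → K ≤ H := fun K l e => by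
      rw [← e]; exact le_of_res_sup pz z ((resIn_le K).trans (sup_comm H _ ▸ l))
    have O : Opi {2}ᶜ (H ⊔ zpowers t) = ⊥ := le_bot_iff.1 (hO' ▸ le_Opi (li _ (Opi_le _ _) (resIn_eq_self_of_not_dvd
      (isPi_compl_singleton_iff.1 (isPi_Opi _ _)))) (le_sup_left.trans (le_normalizer_Opi _ _)) (isPi_Opi _ _))
    have tm : t ∈ H ⊔ zpowers t := mem_sup_right (mem_zpowers t)
    have hY' : Y ≤ Opi {2}ᶜ ((H ⊔ zpowers t) ⊓ C1(t)) := hY.trans ((Opi_compl_singleton_eq _).ge.trans
      (Opi_le_Opi_of_sn (s.inf _)))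
    have hY2 := hY'.trans (Opi_cent1_eq tm pz).le
    obtain ⟨K, a, b, c⟩ : ∃ K, SN K (H ⊔ zpowers t) ∧ IsQuasisimple K ∧ ¬ Y ≤ C(K) := by
      by_contra e
      push Not at e
      exact hY1 (((isPi_Opi _ _).mono (le_Op_of_cent O (hY'.trans ((Opi_le _ _).trans inf_le_left)) (le_cent_layerOf e)
        (hY2.trans (core_cent_Op pz le_sup_right)))).eq_bot ((isPi_Opi _ _).mono hY'))
    have e : ⁅K, zpowers t⁆ = K := by_contra fun ne => c (hY'.trans (core_cent_comp O a b tm ht ne))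
    have lK := li K a.le (resIn_of_perfect (qs_perfect b))
    refine ⟨K.subgroupOf H, (isComponent_subgroupOf_iff lK).2 ⟨a.mono lK le_sup_left, b⟩, ?_⟩
    rw [map_subgroupOf_eq_of_le lK]
    refine ⟨cj_eq_of_norm (e ▸ normalizer_commutator_ge_right K _ (mem_zpowers t)), hY2.trans (le_sup_left.trans
      ((pc_of_qs b a O).local_le_norm pz le_sup_right)), fun m => qs_ne_bot b ?_, c⟩
    rw [← e]
    exact comm_eq_bot (cent_symm (zpowers_le.2 m))

end Cfsg.Agent.S1328
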