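import Cfsg.Statements.S1329
import Cfsg.Agent.H9.Gold
import Cfsg.Agent.H1.GAut

set_option autoImplicit false
open Cfsg

namespace Cfsg.Agent.S1329

/-- Let A be an abelian 2-subgroup of the finite group G, B ≤ A, and Y a subgroup of odd order normalized by A with ⁅Y, A⁆ = Y. Then Y ∩ C_G(B) is generated by the subgroups Y ∩ C_G(B) ∩ ⁅Y ∩ C_G(B₀), A⁆, B₀ ranging over the subgroups of B with B / B₀ cyclic. -/
theorem result {G : Type*} [Group G] [Finite G] (A B Y : Subgroup G) (hA2 : IsPGroup 2 ↥A) (hAc : IsMulCommutative ↥A) (hB : B ≤ A) (hYodd : Odd (Nat.card ↥Y)) (hAY : A ≤ Subgroup.normalizer (Y : Set G)) (hYA : ⁅Y, A⁆ = Y) : Y ⊓ Subgroup.centralizer (B : Set G) = ⨆ B₀ : {B₀ : Subgroup G // B₀ ≤ B ∧ ∀ [(B₀.subgroupOf B).Normal], IsCyclic (↥B ⧸ B₀.subgroupOf B)}, Y ⊓ Subgroup.centralizer (B : Set G) ⊓ ⁅Y ⊓ Subgroup.centralizer ((B₀ : Subgroup G) : Set G), A⁆ := by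
  open Subgroup CfsgH1 CfsgH2 CfsgFT CfsgH9 in
    obtain ⟨k, hk⟩ := hA2.exists_card_eq
    have cA := comm_iff.1 hAc
    refine le_antisymm (GH.main ⟨cA, hB, by rw [hk]; exact Nat.Coprime.pow_left _ hYodd.coprime_two_left, solv_of_odd hYodd, hAY, hYA,
      iSup_le fun _ => inf_le_left, fun B₀ l b hb e => ?_⟩) (iSup_le fun _ => inf_le_left)
    refine le_iSup (fun B₀ : {B₀ : Subgroup G // B₀ ≤ B ∧ ∀ [(B₀.subgroupOf B).Normal], IsCyclic (↥B ⧸ B₀.subgroupOf B)} =>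
      Y ⊓ C(B) ⊓ ⁅Y ⊓ C((B₀ : Subgroup G)), A⁆) ⟨B₀, l, @fun _ => ?_⟩
    have n : B ≤ N(B₀) := le_norm_of_comm (cent_mono cA hB hB) l
    haveI : IsCyclic (quo B₀ B) := by
      rw [← e, quo_sup_self (zpowers_le.2 (n hb))]
      exact cyclic_quo inferInstance _
    exact isCyclic_of_surjective _ (quotEquivQuo n).symm.surjective

end Cfsg.Agent.S1329
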