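import Cfsg.Statements.S1330
import Cfsg.Agent.H9.Sep

set_option autoImplicit false
open Cfsg

namespace Cfsg.Agent.S1330

/-- Let A₁, A₂ be core-separated four-subgroups of the finite group G and A = A₁A₂. For a ∈ G put O_a = O(C_G(a)) and θ a = ⋂_{i=1,2} ( ⁅O_a, A_i⁆ · (O_a ∩ O(C_G(A_i))) ). Then θ is an A-signalizer functor for the prime 2. -/
theorem result {G : Type*} [Group G] [Finite G] (A₁ A₂ : Subgroup G) (hcs : Cfsg.IsCoreSeparated A₁ A₂) : Cfsg.IsSignalizerFunctor 2 (A₁ ⊔ A₂) (fun a => (⁅Cfsg.centralizerPPrimeCore 2 a, A₁⁆ ⊔ (Cfsg.centralizerPPrimeCore 2 a ⊓ ((Cfsg.oddCore ↥(Subgroup.centralizer ((A₁ : Subgroup G) : Set G))).map (Subgroup.centralizer ((A₁ : Subgroup G) : Set G)).subtype))) ⊓ (⁅Cfsg.centralizerPPrimeCore 2 a, A₂⁆ ⊔ (Cfsg.centralizerPPrimeCore 2 a ⊓ ((Cfsg.oddCore ↥(Subgroup.centralizer ((A₂ : Subgroup G) : Set G))).map (Subgroup.centralizer ((A₂ : Subgroup G)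 : Set G)).subtype)))) := by
  open Subgroup CfsgH1 CfsgH2 CfsgFT CfsgH9 CfsgLead in
    have h := CSep.of hcs
    have e : ∀ (B : Subgroup G) (a : G), (⁅Cfsg.centralizerPPrimeCore 2 a, B⁆ ⊔ (Cfsg.centralizerPPrimeCore 2 a ⊓ ((Cfsg.oddCore ↥(Subgroup.centralizer ((B : Subgroup G) : Set G))).map (Subgroup.centralizer ((B : Subgroup G) : Set G)).subtype))) = CSep.th B a := fun B a => by
      rw [cpc_eq, CSep.th, Opi_compl_singleton_eq C(B)]
    simp only [e]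
    have l : ∀ a ∈ A₁ ⊔ A₂, CSep.th A₁ a ⊓ CSep.th A₂ a ≤ Opi {2}ᶜ C1(a) := fun a ha => inf_le_left.trans (h.th_le ha)
    refine ⟨fun a ha _ => (l a ha).trans (Opi_le _ _), fun a ha _ => isPi_compl_singleton_iff.1 ((isPi_Opi _ _).mono (l a ha)),
      fun a ha _ b hb x hx => CfsgH2.conj_mem_of_mem_normalizer (CfsgLead.le_normalizer_inf (h.th_norm ha)
        ((sup_comm _ _).le.trans (h.symm.th_norm (sup_comm A₁ A₂ ▸ ha))) hb) hx, fun a ha a1 b hb b1 => h.bal ha a1 hb b1⟩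

end Cfsg.Agent.S1330
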