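import Cfsg.Statements.S1331
import Cfsg.Agent.H9.Conn

set_option autoImplicit false
open Cfsg

namespace Cfsg.Agent.S1331

/-- Let θ be a solvable A-signalizer functor on the finite group G for the prime p, A elementary abelian of rank at least 3, X a member of the family of θ, and B ≤ A with |B| ≥ p². Then X is generated by the subgroups X ∩ ⋂_{d ∈ D, d ≠ 1} θ d, D ranging over the subgroups of index p in B. -/
theorem result {G : Type*} [Group G] [Finite G] (p : ℕ) [Fact p.Prime] (A : Subgroup G) (hA : Cfsg.IsElementaryAbelian p A) (hA3 : p ^ 3 ≤ Nat.card ↥A) (θ : G → Subgroup G) (hθ : Cfsg.IsSolvableSignalizerFunctor p A θ) (X : Subgroup G) (hX : X ∈ Cfsg.signalizerFamily p A θ) (B : Subgroup G) (hB : B ≤ A) (hB2 : p ^ 2 ≤ Nat.card ↥B) : X = ⨆ D : {D : Subgroup G // D ≤ B ∧ D.relIndex B = p}, X ⊓ Cfsg.signalizerInf (D : Subgroup G) θ := by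
  open Subgroup CfsgH1 CfsgH2 CfsgH9 CfsgFT in
    have hp : p.Prime := Fact.out
    have eB := ea_mono hA hB
    haveI := eB.1
    refine le_antisymm (le_of_cocyclic (A := B) (fun b hb => CfsgH2.mem_normalizer_of_conj_mem (hX.2.2.1 b (hB hb))) ?_
      fun D hD ⟨a, ha, e⟩ => ?_) (iSup_le fun _ => inf_le_left)
    · obtain ⟨k, hk⟩ := (ea_isPGroup eB).exists_card_eq
      rw [hk]
      exact Nat.Coprime.pow_left _ ((Nat.Prime.coprime_iff_not_dvd hp).2 hX.2.1)
    obtain ⟨D', h1, h2, h3⟩ : ∃ D' ≤ D, D' ≤ B ∧ D'.relIndex B = p := by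
      by_cases m : a ∈ D
      · have : D = B := by rw [← e, sup_eq_left.2 (zpowers_le.2 m)]
        obtain ⟨M, -, a, b, -⟩ := exists_relIndex_prime (ea_isPGroup eB) (Q := ⊥) (bot_lt_iff_ne_bot.2 fun e => by
          rw [e, card_bot] at hB2; exact absurd hB2 (not_le.2 (Nat.one_lt_pow two_ne_zero hp.one_lt)))
        exact ⟨M, this ▸ a, a, b⟩
      · refine ⟨D, le_rfl, hD, relIndex_eq_of_card hD ?_⟩
        rw [← e, card_sup_zpowers ((centralizer_le_normalizer _) fun d hd => (ea_iff.1 eB).1 d (hD hd) a ha) m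
          (p := p) (by rw [eB.2 a ha]; exact one_mem _)]
    refine le_trans ?_ (le_iSup (fun D : {D : Subgroup G // D ≤ B ∧ D.relIndex B = p} => X ⊓ signalizerInf (D : Subgroup G) θ) ⟨D', h2, h3⟩)
    exact le_inf inf_le_left (le_iInf fun d => fun x hx => hX.2.2.2 d.1 (hB (h2 d.2.1)) d.2.2
      ⟨hx.1, mem_centralizer_singleton_iff.2 (hx.2 _ (h1 d.2.1)).symm⟩)

end Cfsg.Agent.S1331
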