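import Cfsg.Statements.S1336
import Cfsg.Agent.H9.Conn

set_option autoImplicit false
open Cfsg

namespace Cfsg.Agent.S1336

/-- Let G be finite and p prime. Then G has a proper subgroup H with p ∣ |H| and p ∤ |H ∩ gHg⁻¹| for every g ∉ H (a strongly p-embedded subgroup) if and only if G is not 1-connected for p. -/
theorem result {G : Type*} [Group G] [Finite G] (p : ℕ) [Fact p.Prime] : (∃ H : Subgroup G, H ≠ ⊤ ∧ p ∣ Nat.card ↥H ∧ ∀ g : G, g ∉ H → ¬ p ∣ Nat.card ↥(H ⊓ H.map (MulAut.conj g).toMonoidHom)) ↔ ¬ Cfsg.IsKConnected p 1 G := by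
  open Subgroup CfsgH1 CfsgH2 CfsgH9 CfsgFT in
    have hp : p.Prime := Fact.out
    have cv : ∀ (A : Subgroup G) g, EV p 1 A → EV p 1 (cj g A) := fun A g h => ⟨ea_cj h.1 g, by rw [card_cj]; exact h.2⟩
    have nb : ∀ A : Subgroup G, EV p 1 A → A ≠ ⊥ := fun A h e => by
      have := h.2; rw [e, card_bot, pow_one] at this; exact absurd hp.one_lt (not_lt.2 this)
    rw [kconn_iff]
    constructor
    · rintro ⟨H, h⟩ hc
      have h := spe_iff_inf.2 h
      obtain ⟨U, hU⟩ := le_rk_iff.1 (one_le_rk_iff.2 h.dvd)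
      obtain ⟨g, -, hg⟩ := SetLike.exists_of_lt (lt_top_iff_ne_top.2 h.ne)
      exact hg (h.mem_of_cj_le (by rw [hU.card, pow_one]) hU.le ((hc U _ (Elem.ev hU) (cv U g (Elem.ev hU))).le
        (fun A a l => (centralizer_le_normalizer _).trans (h.norm_le' (ea_isPGroup a.1) (nb A a) l)) hU.le))
    · intro h
      obtain ⟨S, hS⟩ := IsSylowIn.exists_sylowIn p (⊤ : Subgroup G)
      have ne : S ≠ ⊥ := fun e => h fun A B a _ => by
        obtain ⟨x, -, l⟩ := hS.exists_cj_le (ea_isPGroup a.1) le_top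
        exact absurd (cj_eq_bot_iff.1 (le_bot_iff.1 (e ▸ l))) (nb A a)
      obtain ⟨z, hz, z1, zp, zc⟩ := exists_central_of_ne_bot hS.pgroup le_rfl le_normalizer ne
      have vz : EV p 1 (zpowers z) := ⟨ea_zpowers zp, by rw [Nat.card_zpowers, orderOf_eq_prime zp z1, pow_one]⟩
      have k := vcn_iff cv (fun A a => ea_isPGroup a.1) hS vz (zpowers_le.2 hz)
        (fun A l a => vcn_of_cent a vz (zpowers_le.2 (centralizer_le l zc)))
        (Γ := ⨆ Q : {Q : Subgroup G // Q ≤ S ∧ Q ≠ ⊥}, N((Q : Subgroup G)))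
        (fun Q l ⟨A, a, b⟩ => le_iSup (fun Q : {Q : Subgroup G // Q ≤ S ∧ Q ≠ ⊥} => N((Q : Subgroup G)))
          ⟨Q, l, fun e => nb A b (le_bot_iff.1 (e ▸ a))⟩)
        (fun H hH => iSup_le fun Q => hH _ Q.2.1 (by
          obtain ⟨y, hy, y1, yp, -⟩ := exists_central_of_ne_bot (hS.pgroup.to_le Q.2.1) le_rfl le_normalizer Q.2.2
          exact ⟨_, zpowers_le.2 hy, ea_zpowers yp, by rw [Nat.card_zpowers, orderOf_eq_prime yp y1, pow_one]⟩))
      have n : ∀ Q ≤ S, Q ≠ ⊥ → N(Q) ≤ _ := fun Q a b =>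
        le_iSup (fun Q : {Q : Subgroup G // Q ≤ S ∧ Q ≠ ⊥} => N((Q : Subgroup G))) ⟨Q, a, b⟩
      exact ⟨_, spe_iff_inf.1 (spe_of_norm (fun e => h (k.2 e)) (hS.mono (le_normalizer.trans (n S le_rfl ne)) le_top) ne n)⟩

end Cfsg.Agent.S1336
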