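import Cfsg.Statements.S1337
import Cfsg.Agent.H9.Conn

set_option autoImplicit false
open Cfsg

namespace Cfsg.Agent.S1337

/-- Let P be a finite p-group of p-rank greater than 2. Then P has a normal elementary abelian subgroup U of order p², and for every elementary abelian X ≤ P with |X| ≥ p²: X is joined to U by a chain of pairwise commuting elementary abelian subgroups of order ≥ p² if and only if C_P(X) has p-rank greater than 2. -/
theorem result {P : Type*} [Group P] [Finite P] (p : ℕ) [Fact p.Prime] (hP : IsPGroup p P) (hrk : ¬ Cfsg.PRankLE p 2 P) : ∃ U : Subgroup P, U.Normal ∧ Cfsg.IsElementaryAbelian p U ∧ Nat.card ↥U = p ^ 2 ∧ ∀ X : Subgroup P, Cfsg.IsElementaryAbelian p X → p ^ 2 ≤ Nat.card ↥X → (Relation.ReflTransGen (fun A B : Subgroup P => Cfsg.IsElementaryAbelian p A ∧ p ^ 2 ≤ Nat.card ↥A ∧ Cfsg.IsElementaryAbelian p B ∧ p ^ 2 ≤ Nat.card ↥B ∧ ∀ a ∈ A, ∀ b ∈ B, a * b = b * a) X U ↔ ¬ Cfsg.PRankLE p 2 ↥(Subgroup.centralizer (X : Set P))) := by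
  open Subgroup CfsgH1 CfsgH2 CfsgH9 CfsgFT in
    have r : 3 ≤ rk p (⊤ : Subgroup P) := by rw [← rk_top_le_iff] at hrk; omega
    obtain ⟨U, n, e, c⟩ := exists_normal_e2 hP r
    refine ⟨U, n, e, c, fun X a b => ?_⟩
    rw [ecn_iff, not_pRankLE_iff]
    refine ⟨fun h => ?_, fun h => ecn_normal (hP.to_subgroup ⊤) (by rw [normalizer_eq_top]) e c ⟨a, b⟩ (by rwa [top_inf_eq])⟩
    clear a b
    induction h using Relation.ReflTransGen.head_induction_on with
    | refl => exact three_le_normal hP r e c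
    | head h _ ih => exact three_le_of_adj h ih

end Cfsg.Agent.S1337
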