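import Cfsg.Statements.S1338
import Cfsg.Agent.H9.Conn
import Cfsg.Agent.S0122

set_option autoImplicit false
open Cfsg

namespace Cfsg.Agent.S1338

/-- A finite 3-group of 3-rank at least 4 is 2-connected for the prime 3: its commuting graph on elementary abelian subgroups of order ≥ 9 is connected. -/
theorem result {P : Type*} [Group P] [Finite P] (hP : IsPGroup 3 P) (hrk : ¬ Cfsg.PRankLE 3 3 P) : Cfsg.IsKConnected 3 2 P := by
  open Subgroup CfsgH1 CfsgH2 CfsgH9 CfsgFT in
    haveI : Fact (Nat.Prime 3) := ⟨Nat.prime_three⟩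
    have r : 4 ≤ rk 3 (⊤ : Subgroup P) := by rw [← rk_top_le_iff] at hrk; omega
    obtain ⟨E, hE⟩ := le_rk_iff.1 r
    obtain ⟨A, n, a, c⟩ := Cfsg.Agent.S0122.result (by decide) hP E hE.ea hE.card
    exact kconn_of_big hP a (by rw [c]; decide)

end Cfsg.Agent.S1338
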