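import Cfsg.Statements.S1339
import Cfsg.Agent.H5.Tv1
import Cfsg.Agent.Lead.GenFitting

set_option autoImplicit false
open Cfsg

namespace Cfsg.Agent.S1339

open CfsgH5 Module Subgroup

/-- Let F be a field with 2 elements, n ≥ 3, and t ∈ SL(n, F) a transvection (t = 1 + E_{ij}, i ≠ j). Then the generalized Fitting subgroup of C(t) is O_2(C(t)). -/
theorem result {F : Type*} [Field F] [Fintype F] [DecidableEq F] (hF : Fintype.card F = 2) (n : ℕ) (hn : 3 ≤ n) (i j : Fin n) (hij : i ≠ j) (t : Matrix.SpecialLinearGroup (Fin n) F) (ht : (t : Matrix (Fin n) (Fin n) F) = Matrix.transvection i j 1) : Cfsg.generalizedFittingSubgroup ↥(Subgroup.centralizer ({t} : Set (Matrix.SpecialLinearGroup (Fin n) F))) = Cfsg.pCore 2 ↥(Subgroup.centralizer ({t} : Set (Matrix.SpecialLinearGroup (Fin n) F))) := by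
  have h2 : ∀ c : F, c = 0 ∨ c = 1 := fun c => by
    by_cases e : c = 0
    · exact .inl e
    · simpa [hF] using Or.inr (FiniteField.pow_card_sub_one_eq_one c e)
  obtain ⟨hc, h3, h4⟩ := tv_cent h2 (slHom _ F) slHom_inj (slHom_et hij ht) (et_aux hij 1) (et_data (i := i)).1 (et_data (j := j)).2
  refine (CfsgLead.genFitting_eq_pCore_iff 2).2 fun g hg => h3 g ?_
  have := mem_map_of_mem (slHom _ F) (h4 (le_top.trans (sl_two_range h2).ge) g hg)
  rw [MonoidHom.map_zpowers, slHom_et hij ht] at this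
  exact zpowers_le_of_mem (tr_mem_Qs (et_aux hij 1) (et_aux hij 1)) this

end Cfsg.Agent.S1339
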