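import Cfsg.Statements.S1340
import Cfsg.Agent.H5.El4
import Cfsg.Agent.H5.SpMat
import Cfsg.Agent.Lead.Component
import Cfsg.Agent.H1.Cores

set_option autoImplicit false
open Cfsg

namespace Cfsg.Agent.S1340

open CfsgH5 Module

/-- Let F be a finite field of odd order and n ≥ 3 with (n, |F|) ≠ (3, 3). Then GL(n, F) has a non-central involution t such that C(t) / O(C(t)) has a component. -/
theorem result {F : Type*} [Field F] [Fintype F] [DecidableEq F] (hF : Odd (Fintype.card F)) (n : ℕ) (hn : 3 ≤ n) (h33 : ¬ (n = 3 ∧ Fintype.card F = 3)) : ∃ t : Matrix.GeneralLinearGroup (Fin n) F, orderOf t = 2 ∧ t ∉ Subgroup.center (Matrix.GeneralLinearGroup (Fin n) F) ∧ Cfsg.HasComponent (↥(Subgroup.centralizer ({t} : Set (Matrix.GeneralLinearGroup (Fin n) F))) ⧸ Cfsg.oddCore ↥(Subgroup.centralizer ({t} : Set (Matrix.GeneralLinearGroup (Fin n) F)))) := by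
  have h2 := two_ne_zero_of_odd hF
  obtain ⟨m, rfl⟩ : ∃ m, n = 1 + m := ⟨n - 1, by omega⟩
  haveI : Nontrivial (Fin m) := Fin.nontrivial_iff_two_le.2 (by omega)
  obtain ⟨φ⟩ := exists_split (F := F) (V := Fin (1 + m) → F) (a := 1) (b := m) (by simp)
  have h1 : (-1 : Fˣ) ≠ 1 := fun e => h2 (by
    have := congrArg Units.val e
    simp at this; linear_combination -this)
  have h3 : 3 ≤ Fintype.card (Fin m) ∨ ∃ a : F, a ≠ 0 ∧ a ^ 2 ≠ 1 := by
    by_cases e : m = 2
    · have := Fintype.one_lt_card (α := F)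
      obtain ⟨k, hk⟩ := hF
      exact .inr (exists_sq_ne_one (by omega))
    · exact .inl (by simp; omega)
  have h4 : Cfsg.IsQuasisimple (Matrix.SpecialLinearGroup (Fin m) F) := ⟨⟨commutator_SL h3⟩, isSimple_PSL h3⟩
  obtain ⟨t, ht⟩ := (glEquiv _ F).surjective (pH φ (scE _ (-1), scE _ 1))
  have h5 : ∀ x, glEquiv _ F x ∈ (pH φ).range ↔ x ∈ Subgroup.centralizer {t} := fun x => by
    rw [Subgroup.mem_centralizer_singleton_iff, ← (glEquiv _ F).injective.eq_iff, map_mul, map_mul, ht]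
    refine ⟨?_, fun h => exists_pH h1 h⟩
    rintro ⟨y, e⟩
    rw [← e, ← map_mul, ← map_mul]
    exact congrArg _ (Prod.ext (scE_comm _ _).symm (scE_comm _ _).symm)
  refine ⟨t, ?_, fun h => ?_, ?_⟩
  · haveI := Fact.mk Nat.prime_two
    rw [← (glEquiv _ F).orderOf_eq, ht]
    refine orderOf_eq_prime (by rw [← map_pow]; simp [← map_pow]; exact map_one _) fun e => h1 ?_
    exact scE_inj (by simp) ((pH_eq_scE.1 (e.trans (map_one _).symm)).1)
  · haveI : Nonempty (Fin (1 + m)) := ⟨⟨0, by omega⟩⟩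
    obtain ⟨c, hc⟩ := Matrix.GeneralLinearGroup.mem_center_iff_val_mem_range_scalar.1 h
    obtain ⟨l, hl⟩ := (sc_iff (glEquiv_apply t)).1 ⟨c, by rw [← hc]; simp [Matrix.smul_one_eq_diagonal]⟩
    have := pH_eq_scE.1 (ht.symm.trans hl)
    exact h1 ((scE_inj (by simp) this.1).trans (scE_inj (by simp; omega) this.2).symm)
  let ψ : Matrix.SpecialLinearGroup (Fin m) F →* Subgroup.centralizer {t} := ((glEquiv _ F).symm.toMonoidHom.comp
    ((pH φ).comp ((MonoidHom.inr _ _).comp (slHom _ F)))).codRestrict _ fun y => (h5 _).1 (by simp)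
  have h6 : ∀ y, glEquiv _ F (ψ y) = pH φ (1, slHom _ F y) := fun y => by simp [ψ]
  have h7 : ψ.range.Normal := ⟨by
    rintro _ ⟨y, rfl⟩ ⟨c, hc⟩
    obtain ⟨⟨a, b⟩, e⟩ := (h5 c).2 hc
    obtain ⟨y', h⟩ := exists_slHom ((inferInstance : (LinearEquiv.det).ker.Normal).conj_mem _ (slHom_mem y) b)
    exact ⟨y', Subtype.ext ((glEquiv _ F).injective (by
      simp only [h6, h, Subgroup.coe_mul, Subgroup.coe_inv, map_mul, map_inv, ← e]
      rw [← map_inv, ← map_mul, ← map_mul]; simp))⟩⟩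
  have h8 : Function.Injective ψ := fun x y e => slHom_inj (congrArg Prod.snd (pH_inj (φ := φ)
    ((h6 x).symm.trans (e ▸ h6 y))))
  refine ⟨ψ.range.map (QuotientGroup.mk' _), (h7.map _ (QuotientGroup.mk'_surjective _)).isSubnormal,
    (CfsgLead.qs_map _ (CfsgLead.isQuasisimple_of_equiv (MonoidHom.ofInjective h8) h4)).resolve_left fun e => ?_⟩
  rw [Subgroup.map_eq_bot_iff, QuotientGroup.ker_mk'] at e
  haveI := Fact.mk Nat.prime_two
  refine CfsgH1.not_dvd_card_pPrimeCore 2 _ (Dvd.dvd.trans ?_ (Subgroup.card_dvd_of_le e))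
  rw [← Nat.card_congr (MonoidHom.ofInjective h8).toEquiv]
  exact ((Nat.Odd.sub_odd hF.pow odd_one).two_dvd.mul_left _).trans (dvd_card_SL le_rfl (by omega))

end Cfsg.Agent.S1340
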