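import Cfsg.Statements.S1343
import Cfsg.Agent.H1.PLay3

set_option autoImplicit false
open Cfsg

namespace Cfsg.Agent.S1343

/-- Let X be finite. Then L*_{2'}(X) = L_{2'}(X) ⊔ F for some subgroup F of odd order normalized by a Sylow 2-subgroup of X. -/
theorem result {X : Type*} [Group X] [Finite X] : ∃ F : Subgroup X, Odd (Nat.card ↥F) ∧ (∃ S : Sylow 2 X, (S : Subgroup X) ≤ Subgroup.normalizer (F : Set X)) ∧ Cfsg.extendedTwoLayer X = Cfsg.pLayer 2 X ⊔ F := by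
  open Subgroup CfsgH1 CfsgFT CfsgH2 in
  haveI : Fact (Nat.Prime 2) := ⟨Nat.prime_two⟩
  have hL : ∀ Y : Subgroup X, Y ≤ N(pLayer 2 X ⊔ pPrimePCore 2 X) := fun Y => by
    refine le_normalizer_sup ?_ (by rw [normalizer_eq_top]; exact le_top)
    rw [← pLayerOf_top]; exact le_norm_pLayerOf (le_norm_top Y)
  obtain ⟨S⟩ : Nonempty (Sylow 2 X) := inferInstance
  have hT := (IsSylowIn.of_sylow_top S).inf_of_normalizer' le_top (hL ⊤)
  have hO : ∀ Y : Subgroup X, Y ≤ N(oddCore X) := fun Y => by rw [normalizer_eq_top]; exact le_top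
  refine ⟨oddCore X ⊔ Opi {2}ᶜ C((S : Subgroup X) ⊓ (pLayer 2 X ⊔ pPrimePCore 2 X)), ?_, ⟨S, ?_⟩, ?_⟩
  · refine Nat.coprime_two_right.1 (isPi_compl_singleton_iff_coprime.1 (IsPi.sup ?_ (isPi_Opi _ _) (hO _)))
    exact (isPi_Opi _ ⊤).mono Opi_compl_top'.ge
  · exact le_normalizer_sup (hO _) (le_normalizer_Opi_of _ (le_normalizer_centralizer
      (le_normalizer_inf (le_norm_of_le le_rfl) (hL _))))
  · rw [extendedTwoLayer_eq hT, sup_assoc]

end Cfsg.Agent.S1343
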