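import Cfsg.Statements.S1344
import Cfsg.Agent.H1.PLay3

set_option autoImplicit false
open Cfsg

namespace Cfsg.Agent.S1344

/-- Let K be a 2-component of the finite group X. Then K ≤ L*_{2'}(X) and K is normal in L*_{2'}(X). -/
theorem result {X : Type*} [Group X] [Finite X] (K : Subgroup X) (hK : Cfsg.IsPComponent 2 K) : K ≤ Cfsg.extendedTwoLayer X ∧ (K.subgroupOf (Cfsg.extendedTwoLayer X)).Normal := by
  open Subgroup CfsgH1 CfsgFT CfsgH2 in
  haveI : Fact (Nat.Prime 2) := ⟨Nat.prime_two⟩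
  have h := isPComponent_iff.1 hK
  obtain ⟨T, hT⟩ := IsSylowIn.exists_sylowIn (p := 2) (pLayer 2 X ⊔ pPrimePCore 2 X)
  rw [extendedTwoLayer_eq hT, ← pLayerOf_top]
  refine ⟨h.le_pLayerOf.trans (le_sup_left.trans le_sup_left), normal_subgroupOf
    (sup_le (sup_le h.pLayerOf_le_norm ?_) ?_)⟩
  · exact Opi_compl_top'.ge.trans h.Opi_le_norm
  · rw [← top_inf_eq C(T), ← Opi_norm_eq_cent (isPi_compl_compl.2 (isPi_singleton_iff.2 hT.pgroup)) le_top]
    exact le_sup_left.trans (h.local_le_norm hT.pgroup le_top)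

end Cfsg.Agent.S1344
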