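import Cfsg.Statements.S1754
import Cfsg.Agent.H9.Pump

set_option autoImplicit false
open Cfsg

namespace Cfsg.Agent.S1754

/-- Let A be a standard subgroup of the finite group G (A quasisimple, C_G(A) tightly embedded of even order, A commuting elementwise with no other conjugate of itself, and N_G(A) = N_G(C_G(A))), and let t be an involution of G centralizing A. Then the centralizer of t lies in the normalizer of A; in particular A, viewed inside C_G(t), is a component of C_G(t). -/
theorem result {G : Type*} [Group G] [Finite G]
    (A : Subgroup G) (hA : Cfsg.IsStandardSubgroup A) (t : G) (ht : orderOf t = 2) (htA : t ∈ Subgroup.centralizer (A : Set G)) :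
    Subgroup.centralizer ({t} : Set G) ≤ Subgroup.normalizer (A : Set G) ∧
      Cfsg.IsComponent (A.subgroupOf (Subgroup.centralizer ({t} : Set G))) := by
  open Subgroup CfsgH1 CfsgH2 CfsgFT CfsgH9 CfsgLead in
    have k : C1(t) ≤ N(A) := fun g hg => by
      rw [hA.2.2.2]
      by_contra e
      refine Nat.not_even_iff_odd.2 (hA.2.1.2 g e) (even_iff_two_dvd.2 (ht ▸ Subgroup.orderOf_dvd_natCard _ ⟨htA, ?_⟩))
      have := conj_mem_cj g htA
      rwa [mem_cent1'.1 hg, mul_inv_cancel_right] at this
    have l : A ≤ C1(t) := le_cent1_iff.2 htA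
    exact ⟨k, (isComponent_subgroupOf_iff l).2 ⟨SN.of_normal l k, hA.1⟩⟩

end Cfsg.Agent.S1754
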