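import Cfsg.Statements.S1347
import Cfsg.Agent.H9.Pump
import Cfsg.Agent.S1754

set_option autoImplicit false
open Cfsg

namespace Cfsg.Agent.S1347

/-- Let A be a standard subgroup of the finite group G with O(G) = 1, and t an involution of C_G(A). Then (i) A is normal in G; or (ii) there is a non-abelian simple subgroup X ≅ A with X and tXt⁻¹ commuting, meeting trivially and generating E(G), and C_G(A) = ⟨t⟩; or (iii) A ≤ E(G) and E(G) is non-abelian simple. -/
theorem result {G : Type*} [Group G] [Finite G] (A : Subgroup G) (hA : Cfsg.IsStandardSubgroup A) (hO : Cfsg.oddCore G = ⊥) (t : G) (ht : orderOf t = 2) (htA : t ∈ Subgroup.centralizer (A : Set G)) : A.Normal ∨ (∃ X : Subgroup G, IsSimpleGroup ↥X ∧ ¬ IsMulCommutative ↥X ∧ Nonempty (↥X ≃* ↥A) ∧ (∀ a ∈ X, ∀ b ∈ X.map (MulAut.conj t).toMonoidHom, a * b = b * a) ∧ X ⊓ X.map (MulAut.conj t).toMonoidHom = ⊥ ∧ X ⊔ X.map (MulAut.conj t).toMonoidHom = Cfsg.layer G ∧ Subgroup.centralizer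 (A : Set G) = Subgroup.zpowers t) ∨ (A ≤ Cfsg.layer G ∧ IsSimpleGroup ↥(Cfsg.layer G) ∧ ¬ IsMulCommutative ↥(Cfsg.layer G)) := by
  open Subgroup CfsgH1 CfsgH2 CfsgFT CfsgH9 CfsgLead in
    have l : A ≤ C1(t) := le_cent1_iff.2 htA
    obtain ⟨s, q⟩ := (isComponent_subgroupOf_iff l).1 (Cfsg.Agent.S1754.result A hA t ht htA).2
    rw [← top_inf_eq C1(t)] at s
    have O : Opi {2}ᶜ (⊤ : Subgroup G) = ⊥ := Opi_compl_top'.trans hO
    have l2 := qs_le_pLayer ht (mem_top t) s q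
    rw [pLayerOf_eq_layerOf O] at l2
    have nT : ∀ g : G, g ∈ N((⊤ : Subgroup G)) := fun g => le_norm_top ⊤ (mem_top g)
    have key : ∀ U, A ≤ U → SN U ⊤ → U ≤ layerOf ⊤ → ¬ U ≤ N(A) → U = layerOf ⊤ ∧ C(U) = ⊥ := fun U h1 h2 h3 h4 => by
      have o : ¬ 2 ∣ Nat.card C(U) := fun d => by
        obtain ⟨y, hy, oy⟩ := exists_orderOf_eq_prime Nat.prime_two d
        exact h4 ((le_cent1_iff.2 hy).trans (Cfsg.Agent.S1754.result A hA y oy (cent_anti h1 hy)).1)
      have e : U = layerOf ⊤ := le_antisymm h3 (layerOf_le_iff.2 fun K a b => (qs_le_or_commute b ⊤ U a h2).resolve_right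
        fun c => o ((two_dvd_of_qs b).trans (card_dvd_of_le (cent_of_comm_eq_bot c))))
      refine ⟨e, le_bot_iff.1 (O ▸ le_Opi le_top (CfsgLead.le_normalizer_centralizer ?_) (isPi_compl_singleton_iff.2 o))⟩
      rw [e]; exact le_normalizer_layerOf ⊤
    have sim : ∀ D : Subgroup G, IsQuasisimple D → Z(D) = ⊥ → IsSimpleGroup D ∧ ¬ IsMulCommutative D := fun D q z => by
      have c : center D = ⊥ := (Subgroup.map_eq_bot_iff_of_injective _ D.subtype_injective).1 ((CfsgLead.map_center_subtype D).trans z)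
      obtain ⟨-, h1, h2⟩ := isQuasisimple_iff.1 q
      exact ⟨⟨fun N n => (h2 N n).symm.imp_left fun h => le_bot_iff.1 (c ▸ h)⟩,
        fun m => qs_commutator_ne_bot q (comm_eq_bot (comm_iff.1 m))⟩
    obtain ⟨D, a, b, c | ⟨c, -⟩ | ⟨c1, c2, c3⟩⟩ := pumpup ht (nT t) s q l2
    · subst c
      exact .inl (normalizer_eq_top_iff.1 (eq_top_iff.2 fun g _ => cj_eq_iff_mem_normalizer.1 (by_contra fun ne =>
        hA.2.2.1 g ne ((qs_eq_or_commute q (qs_cj q g) a (CfsgH9.sn_cj a (nT g))).resolve_left (Ne.symm ne)))))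
    · obtain ⟨e1, e2⟩ := key D c.le a (le_layerOf a b) fun n => (qs_normal b c.le n).elim c.ne fun e =>
        qs_commutator_ne_bot q (le_bot_iff.1 (e ▸ commutator_mono le_rfl c.le))
      rw [← layerOf_top, ← e1]
      exact .inr (.inr ⟨c.le, sim D b (by rw [e2, inf_bot_eq])⟩)
    obtain ⟨π, p1, -, -, k⟩ := exists_diag_hom ht b c2
    have eA := k A c3 q
    have mA : ∀ d ∈ D, d * (t * d * t⁻¹) ∈ A := fun d hd => by rw [eA, ← p1 ⟨d, hd⟩]; exact ⟨_, rfl⟩
    have lA : A ≤ D ⊔ cj t D := c3.le.trans inf_le_left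
    have lU : D ⊔ cj t D ≤ layerOf ⊤ := sup_le (le_layerOf a b) (le_layerOf (CfsgH9.sn_cj a (nT t)) (qs_cj b t))
    have cD := cent_of_comm_eq_bot c2
    have t2 := mul_self_of_orderOf_two ht
    obtain ⟨e1, e2⟩ := key _ lA ((SN.of_normal lU (CfsgLead.le_normalizer_sup (layerOf_le_normalizer a)
      (layerOf_le_normalizer (CfsgH9.sn_cj a (nT t))))).trans (layerOf_sn ⊤)) lU fun n => by
        have l3 : D ≤ A := by
          rw [← qs_perfect b]
          refine commutator_le.2 fun x hx y hy => ?_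
          have := mul_mem (CfsgH2.conj_mem_of_mem_normalizer (n (mem_sup_left hx)) (mA y hy)) (inv_mem (mA y hy))
          rwa [show x * (y * (t * y * t⁻¹)) * x⁻¹ * (y * (t * y * t⁻¹))⁻¹ = x * y * (t * y * t⁻¹ * x⁻¹) * (t * y * t⁻¹)⁻¹ * y⁻¹ by group,
            cD (inv_mem hx) _ (conj_mem_cj t hy), show x * y * (x⁻¹ * (t * y * t⁻¹)) * (t * y * t⁻¹)⁻¹ * y⁻¹ = x * y * x⁻¹ * y⁻¹ by
              group] at this
        exact c1 (cj_eq_of_cent (cent_anti l3 htA))
    have z : Z(D) = ⊥ := le_bot_iff.1 (e2 ▸ le_cent_sup inf_le_right (inf_le_left.trans cD))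
    have z2 : D ⊓ cj t D = ⊥ := le_bot_iff.1 (z ▸ inf_le_inf_left _ (cent_symm cD))
    have inj : Function.Injective π := (injective_iff_map_eq_one π).2 fun d hd => by
      rw [p1, mul_eq_one_iff_eq_inv] at hd
      exact Subtype.ext (mem_bot.1 (z2 ▸ mem_inf.2 ⟨d.2, by rw [hd]; exact inv_mem (conj_mem_cj t d.2)⟩))
    have c0 : ∀ g ∈ C(A), cj g D = D → g = 1 := fun g hg e => by
      have m : ∀ d ∈ D, g ∈ C1(d * (t * d * t⁻¹)) := fun d hd => cent_le_cent1 (mA d hd) hg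
      have n2 : cj g (cj t D) = cj t D := (cj_eq_or_of_cent_diag (L := A) (CfsgH9.sn_cj a (nT t)) (qs_cj b t) (by
        rw [cj_cj_inv2 t2, commutator_comm, c2]) (nT t) (fun d hd => by
          have := mA _ ((cj_cj_inv2 t2 D).le (conj_mem_cj t hd))
          rwa [show t * (t * d * t⁻¹) * t⁻¹ = (t * t) * d * (t * t)⁻¹ by group, t2, one_mul, inv_one, mul_one,
            ← cD ((cj_cj_inv2 t2 D).le (conj_mem_cj t hd)) d hd] at this)
        (by rwa [cj_cj_inv2 t2, sup_comm]) (nT g) (cent_le_norm A hg)).resolve_right fun e' => c1 (by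
          rw [cj_cj_inv2 t2] at e'; exact (cj_inj g).1 (e'.trans e.symm))
      have m1 := cent_of_cent_diag b c2 (mem_norm_iff_cj.2 e) (mem_norm_iff_cj.2 n2) m
      refine mem_bot.1 (e2 ▸ (cent_sup _ _).ge ⟨m1, fun y hy => ?_⟩)
      have hy' := mem_cj.1 hy
      have e3 := mem_cent1.1 (m _ hy')
      rw [show t * (t⁻¹ * y * t) * t⁻¹ = y by group, mul_assoc, ← mul_assoc g, ← m1 _ hy', mul_assoc _ g] at e3
      exact mul_left_cancel e3
    refine .inr (.inl ⟨D, (sim D b z).1, (sim D b z).2, ⟨(MonoidHom.ofInjective inj).trans (MulEquiv.subgroupCongr eA.symm)⟩,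
      fun x hx y hy => (cD hx y hy).symm, z2, e1.trans layerOf_top, le_antisymm (fun g hg => ?_) (zpowers_le.2 htA)⟩)
    rcases cj_eq_or_of_cent_diag a b c2 (nT t) mA lA (nT g) (cent_le_norm A hg) with e | e
    · rw [c0 g hg e]; exact one_mem _
    · have := c0 (t * g) (mul_mem htA hg) (by rw [← cj_cj, e, cj_cj_inv2 t2])
      rw [eq_inv_of_mul_eq_one_right this]
      exact inv_mem (mem_zpowers t)

end Cfsg.Agent.S1347
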