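import Cfsg.Statements.S1348
import Cfsg.Agent.S1306
import Cfsg.Agent.H5.El4
import Cfsg.Agent.H5.SpMat
import Cfsg.Agent.Lead.Component

set_option autoImplicit false
open Cfsg

namespace Cfsg.Agent.S1348

open CfsgH5 Matrix Subgroup

/-- Let F be a finite field of odd order, n ≥ 7 odd, and t ∈ SL(n, F) the diagonal matrix with entries −1, …, −1, 1. Then E(C(t)) is a standard subgroup of SL(n, F). -/
theorem result {F : Type*} [Field F] [Fintype F] [DecidableEq F] (hF : Odd (Fintype.card F)) (n : ℕ) (hn : 7 ≤ n) (hodd : Odd n) (t : Matrix.SpecialLinearGroup (Fin n) F) (ht : (t : Matrix (Fin n) (Fin n) F) = Matrix.diagonal (fun i : Fin n => if (i : ℕ) + 1 = n then (1 : F) else -1)) : Cfsg.IsStandardSubgroup ((Cfsg.layer ↥(Subgroup.centralizer ({t} : Set (Matrix.SpecialLinearGroup (Fin n) F)))).map (Subgroup.centralizer ({t} : Set (Matrix.SpecialLinearGroup (Fin n) F))).subtype) := by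
  have h2 := two_ne_zero_of_odd hF
  obtain ⟨m, rfl⟩ : ∃ m, n = m + 1 := ⟨n - 1, by omega⟩
  have ev : Even m := by simpa [Nat.odd_add_one] using hodd
  haveI : Nontrivial (Fin m) := Fin.nontrivial_iff_two_le.2 (by omega)
  have cm : ∀ a b : SpecialLinearGroup (Fin (m + 1)) F, a * b = b * a → a.1 * b.1 = b.1 * a.1 := fun a b h => congrArg Subtype.val h
  haveI := Fact.mk Nat.prime_two
  have h3 : 3 ≤ Fintype.card (Fin m) ∨ ∃ a : F, a ≠ 0 ∧ a ^ 2 ≠ 1 := .inl (by simp; omega)
  let E := reindexAlgEquiv F F (finSumFinEquiv : Fin m ⊕ Fin 1 ≃ Fin (m + 1))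
  have dE : ∀ A, (E A).det = A.det := fun A => det_reindexAlgEquiv _ _ _ _
  let ψ : SpecialLinearGroup (Fin m) F →* SpecialLinearGroup (Fin (m + 1)) F := MonoidHom.mk' (fun A => ⟨E (fromBlocks A.1 0 0 1), by simp [dE]⟩)
    fun A B => Subtype.ext (show E _ = E _ * E _ by simp [← map_mul, fromBlocks_multiply])
  have hψ : ∀ A, (ψ A).1 = E (fromBlocks A.1 0 0 1) := fun _ => rfl
  have inj : Function.Injective ψ := fun A B h => Subtype.ext (fromBlocks_inj.1 (E.injective (congrArg Subtype.val h))).1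
  obtain ⟨u, hu⟩ : ∃ u : SpecialLinearGroup (Fin m) F, u.1 = -1 := ⟨⟨-1, by simp [det_neg, ev]⟩, rfl⟩
  have u1 : u ≠ 1 := fun h => h2 (by
    have := congrArg (fun g : SpecialLinearGroup (Fin m) F => g.1 ⟨0, by omega⟩ ⟨0, by omega⟩) h
    simp [hu] at this; linear_combination -this)
  obtain rfl : t = ψ u := Subtype.ext (ht.trans (by
    ext i j
    obtain ⟨i, rfl⟩ := finSumFinEquiv.surjective i
    obtain ⟨j, rfl⟩ := finSumFinEquiv.surjective j
    simp only [hψ, E, reindexAlgEquiv_apply, reindex_apply, submatrix_apply, Equiv.symm_apply_apply, diagonal_apply, Equiv.apply_eq_iff_eq]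
    rcases i with i | i <;> rcases j with j | j
    · simp [hu, one_apply, i.2.ne]; split_ifs <;> simp
    · simp
    · simp
    · simp [Subsingleton.elim i 0, Subsingleton.elim j 0]))
  have blk : ∀ c ∈ centralizer {ψ u}, ∃ A D, c.1 = E (fromBlocks A 0 0 D) := fun c hc => by
    obtain ⟨M, e⟩ := E.surjective c.1
    have := cm _ _ (mem_centralizer_singleton_iff.1 hc)
    rw [← fromBlocks_toBlocks M] at e
    simp only [SpecialLinearGroup.coe_mul, hψ, ← e, ← map_mul, E.injective.eq_iff, fromBlocks_multiply, fromBlocks_inj, hu] at this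
    have z : ∀ {a b : Type} (X : Matrix a b F), X = -X → X = 0 := fun X h => by
      ext i j; have := congrFun (congrFun h i) j; rw [Matrix.neg_apply] at this
      exact (mul_eq_zero.1 (by linear_combination this)).resolve_left h2
    exact ⟨_, _, by rw [← e, z M.toBlocks₁₂ (by simpa using this.2.1), z M.toBlocks₂₁ (by simpa using this.2.2.1.symm)]⟩
  have one : ∀ D : Matrix (Fin 1) (Fin 1) F, D 0 0 = 1 → D = 1 := fun D h => by ext i j; rw [Subsingleton.elim i 0, Subsingleton.elim j 0]; simpa using h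
  let δ : centralizer {ψ u} →* F :=
    { toFun := fun c => (E.symm c.1.1).toBlocks₂₂ 0 0
      map_one' := by simp [← fromBlocks_one]
      map_mul' := fun a b => by
        obtain ⟨A, D, e⟩ := blk _ a.2
        obtain ⟨A', D', e'⟩ := blk _ b.2
        simp [e, e', ← map_mul, fromBlocks_multiply, mul_apply] }
  have ce : ∀ A, ψ A ∈ centralizer {ψ u} := fun A => mem_centralizer_singleton_iff.2 (by rw [← map_mul, ← map_mul]; congr 1; ext; simp [hu])
  have k : δ.toHomUnits.ker.map (Subgroup.subtype _) = ψ.range := by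
    ext g
    constructor
    · rintro ⟨c, hc, rfl⟩
      obtain ⟨A, D, e⟩ := blk _ c.2
      have d := c.1.2
      obtain rfl := one D (by simpa [δ, e, Units.ext_iff] using hc)
      rw [e, dE] at d
      exact ⟨⟨A, by simpa using d⟩, Subtype.ext e.symm⟩
    · rintro ⟨A, rfl⟩
      exact ⟨⟨_, ce A⟩, by simp [δ, hψ, Units.ext_iff], rfl⟩
  have cp : IsComponent δ.toHomUnits.ker := ⟨(MonoidHom.normal_ker _).isSubnormal, CfsgLead.isQuasisimple_of_equiv
    (((MonoidHom.ofInjective inj).trans (.subgroupCongr k.symm)).trans (equivMapOfInjective _ _ Subtype.val_injective).symm)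
      ⟨⟨commutator_SL h3⟩, isSimple_PSL h3⟩⟩
  have ly : layer (centralizer {ψ u}) = δ.toHomUnits.ker := le_antisymm (sSup_le fun K hK x hx =>
    Abelianization.commutator_subset_ker (δ.toHomUnits.comp K.subtype) (show (⟨x, hx⟩ : K) ∈ _ from hK.2.1.1 ▸ mem_top _)) (le_sSup cp)
  have sc : ∀ y ∈ centralizer (ψ.range : Set (SpecialLinearGroup (Fin (m + 1)) F)), ∃ c D, y.1 = E (fromBlocks (scalar _ c) 0 0 D) := fun y hy => by
    obtain ⟨A, D, e⟩ := blk y (mem_centralizer_singleton_iff.2 (hy _ ⟨u, rfl⟩).symm)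
    obtain ⟨c, rfl⟩ := mem_range_scalar_of_commute_transvectionStruct (M := A) fun s => by
      obtain ⟨r, hr⟩ : ∃ r : SpecialLinearGroup (Fin m) F, r.1 = s.toMatrix := ⟨⟨_, s.det⟩, rfl⟩
      have := cm _ _ (hy _ ⟨r, rfl⟩)
      simp only [hψ, hr, e, ← map_mul, E.injective.eq_iff, fromBlocks_multiply, fromBlocks_inj] at this
      simpa [commute_iff_eq] using this.1
    exact ⟨c, D, e⟩
  have cp' : IsComponent (ψ.range.subgroupOf (centralizer {ψ u})) := by
    rwa [← k, subgroupOf, comap_map_eq_self_of_injective Subtype.val_injective]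
  have le : ψ.range ≤ centralizer {ψ u} := by rintro _ ⟨A, rfl⟩; exact ce A
  rw [ly, k]
  refine S1306.result (ψ u) ((orderOf_injective ψ inj u).trans (orderOf_eq_prime (Subtype.ext (by simp [hu])) u1)) _ le cp' (fun y o hy => ?_) fun g _ h => u1 ?_
  · obtain ⟨c, D, e⟩ := sc y hy
    have a : y.1 * y.1 = 1 := congrArg Subtype.val ((sq y).symm.trans (o ▸ pow_orderOf_eq_one y))
    have d := y.2
    rw [e, ← map_mul, ← map_one E, E.injective.eq_iff, fromBlocks_multiply,
      ← fromBlocks_one, fromBlocks_inj] at a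
    have c2 : c * c = 1 := by simpa using congrFun (congrFun a.1 ⟨0, by omega⟩) ⟨0, by omega⟩
    rw [e, dE] at d
    rcases mul_self_eq_one_iff.1 c2 with rfl | rfl
    · obtain rfl := one D (by simpa using d)
      simp [show y = 1 from Subtype.ext (by simpa using e)] at o
    · obtain rfl := one D (by simpa [ev, det_neg] using d)
      rw [show y = ψ u from Subtype.ext (by rw [e, hψ, hu, map_neg, map_one])]
      exact ⟨le, cp'⟩
  · rw [commutator_comm, commutator_eq_bot_iff_le_centralizer] at h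
    refine (eq_bot_iff_forall _).1 (show commutator _ = ⊥ from ?_) u (commutator_SL h3 ▸ mem_top u)
    rw [_root_.commutator_def, commutator_eq_bot_iff_le_centralizer]
    intro a _ b _
    obtain ⟨c, D, e⟩ := sc _ (h (mem_map_of_mem _ ⟨a, rfl⟩))
    obtain ⟨c', D', e'⟩ := sc _ (h (mem_map_of_mem _ ⟨b, rfl⟩))
    refine inj ((MulAut.conj g).injective (Subtype.ext ?_))
    simp only [map_mul]
    change ((MulAut.conj g).toMonoidHom (ψ b)).1 * ((MulAut.conj g).toMonoidHom (ψ a)).1 = ((MulAut.conj g).toMonoidHom (ψ a)).1 * ((MulAut.conj g).toMonoidHom (ψ b)).1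
    rw [e, e']
    simp only [← map_mul, fromBlocks_multiply]
    rw [mul_comm c' c, show D' * D = D * D' by ext i j; rw [Subsingleton.elim i 0, Subsingleton.elim j 0]; simp [mul_apply, mul_comm]]
    simp

end Cfsg.Agent.S1348
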