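import Cfsg.Statements.S1405
import Cfsg.Agent.FT.S10a

set_option autoImplicit false
open Cfsg

namespace Cfsg.Agent.S1405

/-- Let G be a minimal simple group of odd order and M a maximal subgroup, α(M) the set of primes p with M of p-rank at least 3, and M_α = O_{α(M)}(M). Then M_α is a Hall α(M)-subgroup of M and of G, M_α ≤ M_σ, the quotient M/M_α has no elementary abelian subgroup of order p ^ 3 for any prime p, and the image of M' in M/M_α is nilpotent. -/
theorem result {G : Type*} [Group G] [Finite G] (hG : Cfsg.IsMinSimpleOddOrder G)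
    (M : Subgroup G) (hM : IsCoatom M) :
    Cfsg.IsPiHallOf (Cfsg.alpha M) (Cfsg.alphaCore M) M ∧ Cfsg.IsPiHall (Cfsg.alpha M) (Cfsg.alphaCore M) ∧
      Cfsg.alphaCore M ≤ Cfsg.sigmaCore M ∧ Cfsg.RankLE 2 (↥M ⧸ Cfsg.piCore (Cfsg.alpha M) ↥M) ∧
      Group.IsNilpotent ↥((commutator ↥M).map (QuotientGroup.mk' (Cfsg.piCore (Cfsg.alpha M) ↥M))) := by
  haveI := Fact.mk hG
  have hn : M ≤ Subgroup.normalizer (CfsgFT.Ma M : Set G) := CfsgFT.le_normalizer_Opi _ _
  have he : Cfsg.piCore (Cfsg.alpha M) ↥M = (CfsgFT.Ma M).subgroupOf M :=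
    (CfsgFT.subgroupOf_map_subtype_self _).symm
  haveI := CfsgFT.normal_subgroupOf hn
  let e : (↥M ⧸ Cfsg.piCore (Cfsg.alpha M) ↥M) ≃* CfsgFT.quo (CfsgFT.Ma M) M :=
    (QuotientGroup.quotientMulEquivOfEq he).trans (CfsgFT.quotEquivQuo hn)
  refine ⟨(CfsgFT.hall_Ma hM).of, CfsgFT.hall_top_iff.1 (CfsgFT.hall_Ma_top hM), CfsgFT.Ma_le_Ms hM, ?_, ?_⟩
  · intro p hp A hA hA'
    have h1 := CfsgFT.rank_le_iff.1 (CfsgFT.rank_quo_Ma hM) p hp (A.map e.toMonoidHom) inferInstance (by
      rintro _ ⟨a, ha, rfl⟩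
      rw [← map_pow, hA' a ha, map_one])
    rwa [Subgroup.card_map_of_injective e.injective] at h1
  · have h1 := CfsgFT.nil_der_quo_Ma hM
    rw [CfsgFT.quo_comm hn hn, ← CfsgFT.map_commutator_top] at h1
    have h2 : Group.IsNilpotent (commutator (CfsgFT.quo (CfsgFT.Ma M) M)) :=
      nilpotent_of_mulEquiv (Subgroup.equivMapOfInjective _ _ (Subgroup.subtype_injective _)).symm
    have h3 : (commutator ↥M).map (QuotientGroup.mk' (Cfsg.piCore (Cfsg.alpha M) ↥M)) =
        (commutator (CfsgFT.quo (CfsgFT.Ma M) M)).map e.symm.toMonoidHom := by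
      rw [commutator_def, commutator_def, Subgroup.map_commutator, Subgroup.map_commutator,
        Subgroup.map_top_of_surjective _ (QuotientGroup.mk'_surjective _),
        Subgroup.map_top_of_surjective _ e.symm.surjective]
    rw [h3]
    exact nilpotent_of_mulEquiv (Subgroup.equivMapOfInjective _ _ e.symm.injective)

end Cfsg.Agent.S1405
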