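import Cfsg.Statements.S1409
import Cfsg.Agent.FT.S10a

set_option autoImplicit false
open Cfsg

namespace Cfsg.Agent.S1409

/-- Let G be a minimal simple group of odd order, M a maximal subgroup, p a prime not in σ(M), and X a subgroup of order p with N_G(X) ≤ M. Then M has p-rank exactly 2, p is not an ideal prime for G, and X is contained in some elementary abelian subgroup of G of order p ^ 2. -/
theorem result {G : Type*} [Group G] [Finite G] (hG : Cfsg.IsMinSimpleOddOrder G)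
    (M : Subgroup G) (hM : IsCoatom M) (p : ℕ) [Fact p.Prime] (hp : p ∉ Cfsg.sigma M) (X : Subgroup G) (hX : Nat.card X = p)
    (hNX : Subgroup.normalizer (X : Set G) ≤ M) :
    (Cfsg.PRankLE p 2 M ∧ ¬ Cfsg.PRankLE p 1 M) ∧ ¬ Cfsg.IsIdealPrime p G ∧
      ∃ A : Subgroup G, Cfsg.IsElementaryAbelian p A ∧ Nat.card A = p ^ 2 ∧ X ≤ A := by
  haveI := Fact.mk hG
  have hXp : IsPGroup p X := IsPGroup.of_card (n := 1) (by rw [hX, pow_one])
  have hr := CfsgFT.rk_eq_two_of_norm_le hM hp hXp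
    (CfsgFT.ne_bot_of_dvd_card (Fact.out : p.Prime) hX.symm.dvd) hNX
  obtain ⟨A, hA, hXA⟩ := CfsgFT.exists_elem_two_ge' hr.ge (Subgroup.le_normalizer.trans hNX) hX
  exact ⟨⟨CfsgFT.rk_le_iff.1 hr.le, CfsgFT.not_pRankLE_iff.2 hr.ge⟩,
    CfsgFT.not_ideal_of_not_sigma hM hp hr.ge, A, hA.ea, hA.card, hXA⟩

end Cfsg.Agent.S1409
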