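import Cfsg.Statements.S1412
import Cfsg.Agent.FT.S10b

set_option autoImplicit false
open Cfsg

namespace Cfsg.Agent.S1412

/-- Let G be a minimal simple group of odd order, p a prime and P a Sylow p-subgroup of G with no elementary abelian subgroup of order p ^ 3. Then either P is abelian, or P is generated by two elementwise-commuting subgroups P₁, P₂ with P₁ nonabelian of order p ^ 3 and exponent p, P₂ cyclic, and the elements of P₂ of order dividing p generating exactly the centre of P₁. -/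
theorem result {G : Type*} [Group G] [Finite G] (hG : Cfsg.IsMinSimpleOddOrder G) (p : ℕ) [Fact p.Prime] (P : Sylow p G) (hr : Cfsg.PRankLE p 2 (P : Subgroup G)) :
    IsMulCommutative (P : Subgroup G) ∨ ∃ P₁ P₂ : Subgroup G, P₁ ⊔ P₂ = (P : Subgroup G) ∧ (∀ a ∈ P₁, ∀ b ∈ P₂, a * b = b * a) ∧
        ¬ IsMulCommutative P₁ ∧ Nat.card P₁ = p ^ 3 ∧ Monoid.exponent P₁ = p ∧ IsCyclic P₂ ∧
        Subgroup.closure {x : G | x ∈ P₂ ∧ x ^ p = 1} = P₁ ⊓ Subgroup.centralizer (P₁ : Set G) := by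
  haveI := Fact.mk hG
  have hP := CfsgH2.IsSylowIn.of_sylow_top P
  by_cases hc : (P : Subgroup G) ≤ Subgroup.centralizer ((P : Subgroup G) : Set G)
  · exact Or.inl (CfsgFT.comm_iff.2 hc)
  obtain ⟨-, S, Y, h1, h2, h3, h4, h5, h6, h7⟩ := CfsgFT.sylow_rank2_cprod hP (CfsgFT.rk_le_iff.2 hr) hc
  refine Or.inr ⟨S, Y, h1, fun a ha b hb => CfsgFT.mem_cent.1 (h2 hb) a ha,
    fun h => h3 (CfsgFT.comm_iff.1 h), h4, ?_, h6, h7.trans (CfsgFT.card_der_of_cube h4 h3).2⟩
  have hd : Monoid.exponent S ∣ p :=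
    Monoid.exponent_dvd_of_forall_pow_eq_one fun x => Subtype.ext (h5 x x.2)
  refine ((Nat.dvd_prime (Fact.out : p.Prime)).1 hd).resolve_left fun h => h3 fun x hx => ?_
  have := Monoid.pow_exponent_eq_one (⟨x, hx⟩ : S)
  rw [h, pow_one] at this
  obtain rfl : x = 1 := congrArg Subtype.val this
  exact Subgroup.one_mem _

end Cfsg.Agent.S1412
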