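import Cfsg.Statements.S1414
import Cfsg.Agent.FT.S10b

set_option autoImplicit false
open Cfsg

namespace Cfsg.Agent.S1414

/-- Let G be a minimal simple group of odd order, M a maximal subgroup, β(M) the set of ideal primes in α(M), and M_β = O_{β(M)}(M). Then M_β is a Hall β(M)-subgroup of M and of G; M' and M_σ each have a nilpotent Hall β(M)'-subgroup; and for each prime p dividing the order of M with p ∉ β(M), both M' and M_σ have normal p-complements and every prime dividing the index of O_{p'}(M) in M is at most p. -/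
theorem result {G : Type*} [Group G] [Finite G] (hG : Cfsg.IsMinSimpleOddOrder G)
    (M : Subgroup G) (hM : IsCoatom M) :
    Cfsg.IsPiHallOf (Cfsg.beta M) (Cfsg.piCoreOf (Cfsg.beta M) M) M ∧ Cfsg.IsPiHall (Cfsg.beta M) (Cfsg.piCoreOf (Cfsg.beta M) M) ∧
      (∃ H : Subgroup G, Cfsg.IsPiHallOf {q | q.Prime ∧ q ∉ Cfsg.beta M} H ⁅M, M⁆ ∧ Group.IsNilpotent H) ∧
      (∃ H : Subgroup G, Cfsg.IsPiHallOf {q | q.Prime ∧ q ∉ Cfsg.beta M} H (Cfsg.sigmaCore M) ∧ Group.IsNilpotent H) ∧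
      ∀ p : ℕ, p.Prime → p ∣ Nat.card M → p ∉ Cfsg.beta M →
        Cfsg.HasNormalPComplement p ↥⁅M, M⁆ ∧ Cfsg.HasNormalPComplement p ↥(Cfsg.sigmaCore M) ∧
        ∀ q : ℕ, q.Prime → q ∣ (Cfsg.pPrimeCore p ↥M).index → q ≤ p := by
  haveI := Fact.mk hG
  have key : ∀ K : Subgroup G, K ≤ ⁅M, M⁆ → ∃ H : Subgroup G,
      Cfsg.IsPiHallOf {q | q.Prime ∧ q ∉ Cfsg.beta M} H K ∧ Group.IsNilpotent H := fun K hK => by
    obtain ⟨H, hH⟩ := CfsgFT.exists_hall (CfsgFT.mSol (CfsgFT.ne_top_of_le hM.1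
      (hK.trans (CfsgFT.der_le M)))) (Cfsg.beta M)ᶜ
    exact ⟨H, (hH.congr (σ := {q | q.Prime ∧ q ∉ Cfsg.beta M}) fun q hq _ => ⟨fun h => ⟨hq, h⟩, fun h => h.2⟩).of,
      CfsgFT.nil_of_beta' hM hH.isPi (hH.le.trans hK)⟩
  refine ⟨(CfsgFT.hall_Mb hM).of, CfsgFT.hall_top_iff.1 (CfsgFT.hall_Mb_top hM), key _ le_rfl,
    key _ (CfsgFT.Ms_le_der hM), fun p hp hd h => ?_⟩
  haveI := Fact.mk hp
  refine ⟨CfsgFT.npc_der_of_not_beta hM h le_rfl, CfsgFT.npc_der_of_not_beta hM h (CfsgFT.Ms_le_der hM),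
    fun q hq hd => (CfsgFT.concl_of_not_beta hM h).max q hq ?_⟩
  rwa [CfsgFT.Opi_compl_singleton_eq, Subgroup.relIndex, CfsgFT.subgroupOf_map_subtype_self]

end Cfsg.Agent.S1414
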