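import Cfsg.Statements.S1427
import Cfsg.Agent.FT.S15k

set_option autoImplicit false
open Cfsg

namespace Cfsg.Agent.S1427

/-- Let G be a minimal simple group of odd order, M a maximal subgroup, E a complement to M_σ in M, and S a nontrivial cyclic Sylow subgroup of E (for some prime). Then M_σ ∩ C_G(x) = M_σ ∩ C_G(S) for every non-identity x ∈ S. -/
theorem result {G : Type*} [Group G] [Finite G] (hG : Cfsg.IsMinSimpleOddOrder G)
    (M : Subgroup G) (hM : IsCoatom M) (E : Subgroup G) (hE : Cfsg.IsComplIn E (Cfsg.sigmaCore M) M) (p : ℕ) [Fact p.Prime] (S : Sylow p E) (hS1 : (S : Subgroup E) ≠ ⊥) (hSc : IsCyclic (S : Subgroup E)) :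
    ∀ x ∈ (S : Subgroup E).map E.subtype, x ≠ 1 →
        Cfsg.sigmaCore M ⊓ Subgroup.centralizer ({x} : Set G) = Cfsg.sigmaCore M ⊓ Subgroup.centralizer (((S : Subgroup E).map E.subtype : Subgroup G) : Set G) := by
  open Subgroup CfsgH1 CfsgFT CfsgH2 in
  have := Fact.mk hG
  have hE' := sc_of_compl hM hE
  have hS := IsSylowIn.of_sylow_map S
  have hb : (S : Subgroup E).map E.subtype ≠ ⊥ := fun e =>
    hS1 ((map_eq_bot_iff_of_injective _ E.subtype_injective).1 e)
  have d := (dvd_card_of_isPGroup hS.pgroup hb).trans (card_dvd_of_le hS.le)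
  have hns := hE'.isPi p Fact.out d
  have hr : rk p M ≤ 1 := by
    rw [← sc_rk hE' hns, ← rk_sylow hS]
    exact rk_le_one_of_isCyclic (isCyclic_map' hSc _)
  have ht : p ∈ tau1 M ∨ p ∈ tau3 M := by
    rcases tau_cases' hM hE' Fact.out d with h | h | h
    · exact Or.inl h
    · have := tau2_rk h; omega
    · exact Or.inr h
  exact fun x hx x1 => (primAct_tau13 hM ht hS.pgroup (hS.le.trans hE'.le)).cent1 hx x1

end Cfsg.Agent.S1427
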