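import Cfsg.Statements.S1437
import Cfsg.Agent.FT.S16k

set_option autoImplicit false
open Cfsg

namespace Cfsg.Agent.S1437

/-- Let G be a minimal simple group of odd order and M a maximal subgroup with standard factorisation M = K U M_σ such that M_F ≠ M_σ; put K* = M_σ ∩ C_G(K), p = #K, q = #K*. Then U = 1 and M_σ = M'; p and q are prime, q divides #M_F and q ∈ β(M); M_σ has a Sylow q-subgroup Q normal in M and contained in M_F; every complement D of Q in M_σ is nilpotent, and Q₀ = Q ∩ C_G(D) is normal in M; Q₀ < Q with #Q = #Q₀ · q ^ p, every element of Q has its q-th power and all its commutators with Q in Q₀, and every subgroup strictly between Q₀ and Q fails to be normal in M. -/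
theorem result {G : Type*} [Group G] [Finite G] (hG : Cfsg.IsMinSimpleOddOrder G)
    (M : Subgroup G) (hM : IsCoatom M) (K U : Subgroup G) (hKU : Cfsg.IsSigmaDecomposition M K U) (hne : Cfsg.fittingHallOf M ≠ Cfsg.sigmaCore M) :
    U = ⊥ ∧ Cfsg.sigmaCore M = ⁅M, M⁆ ∧ (Nat.card K).Prime ∧ (Nat.card ↥(Cfsg.sigmaCore M ⊓ Subgroup.centralizer (K : Set G))).Prime ∧
      Nat.card ↥(Cfsg.sigmaCore M ⊓ Subgroup.centralizer (K : Set G)) ∣ Nat.card (Cfsg.fittingHallOf M) ∧ Nat.card ↥(Cfsg.sigmaCore M ⊓ Subgroup.centralizer (K : Set G)) ∈ Cfsg.beta M ∧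
      ∃ Q : Subgroup G, Q ≤ Cfsg.fittingHallOf M ∧ M ≤ Subgroup.normalizer (Q : Set G) ∧ IsPGroup (Nat.card ↥(Cfsg.sigmaCore M ⊓ Subgroup.centralizer (K : Set G))) Q ∧
        ¬ Nat.card ↥(Cfsg.sigmaCore M ⊓ Subgroup.centralizer (K : Set G)) ∣ Q.relIndex (Cfsg.sigmaCore M) ∧
        ∀ D : Subgroup G, Cfsg.IsComplIn Q D (Cfsg.sigmaCore M) →
          Group.IsNilpotent D ∧ M ≤ Subgroup.normalizer ((Q ⊓ Subgroup.centralizer (D : Set G) : Subgroup G) : Set G) ∧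
          Q ⊓ Subgroup.centralizer (D : Set G) < Q ∧
          Nat.card Q = Nat.card ↥(Q ⊓ Subgroup.centralizer (D : Set G)) * Nat.card ↥(Cfsg.sigmaCore M ⊓ Subgroup.centralizer (K : Set G)) ^ Nat.card K ∧
          (∀ a ∈ Q, ∀ b ∈ Q, a ^ Nat.card ↥(Cfsg.sigmaCore M ⊓ Subgroup.centralizer (K : Set G)) ∈ Q ⊓ Subgroup.centralizer (D : Set G) ∧
            a * b * a⁻¹ * b⁻¹ ∈ Q ⊓ Subgroup.centralizer (D : Set G)) ∧
          ∀ N : Subgroup G, Q ⊓ Subgroup.centralizer (D : Set G) < N → N < Q → ¬ M ≤ Subgroup.normalizer (N : Set G) := by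
  open Subgroup CfsgH1 CfsgFT CfsgH2 in
  have := Fact.mk hG
  have kd := (kd_iff hM).1 hKU
  have hn : ¬ Group.IsNilpotent (Ms M) := fun e => hne (Ms_eq_MF hM e)
  have P1 : IsP1 M := by_contra fun e => hn (nil_of_not_P1 hM e)
  have pt := kd.pt (hall_kappa_ne_bot kd.hK (P1.nonempty hM))
  obtain ⟨q, Q, hq, h⟩ := pt.exists_NN hn
  have := Fact.mk hq
  have c : Nat.card ↥(sigmaCore M ⊓ C(K)) = q := h.card
  rw [c]
  have lQ := h.sylow.le
  have nQ := (Ms_le M).trans h.n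
  refine ⟨kd.P1_iff.1 P1, (der_eq_of_P1 hM P1).symm, h.primeK, hq,
    dvd_of_card_le h.card (h.le.trans h.le_MF), h.beta, Q, h.le_MF, h.n, h.sylow.pgroup,
    h.sylow.not_dvd, fun D hD => ?_⟩
  have hD' : Hall {q}ᶜ D (Ms M) := by
    have := (compl_iff (hD.2.1.trans nQ)).1 hD
    exact h.sylow.hall.compl (hD.2.1.trans nQ) this.1 this.2
  obtain ⟨E, hE, nE⟩ := exists_inv_hall (pt.le.trans (le_normalizer_Opi _ _))
    (sc_cop (pt.hall_of_P1 P1)) (MsSol hM) {q}ᶜ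
  have f := h.fq hn hE nE
  have n0 : M ≤ N(Q ⊓ C(E)) := by
    have := f.n1; have := f.n2; have := f.n3
    rw [← pt.sup_of_P1 P1, ← h.sylow.hall.sup_eq hE]
    exact sup_le (sup_le f.norm0 (by nrm)) (by nrm)
  have e : Q ⊓ C(D) = Q ⊓ C(E) := by
    obtain ⟨g, hg, rfl⟩ := hE.exists_cj_eq (MsSol hM) hD'
    rw [← cj_centralizer, ← cj_eq_of_norm (n0 (Ms_le M hg)), cj_inf, cj_eq_of_norm (nQ hg)]
  have eK : Q ⊓ C(K) = Ks M K := le_antisymm (inf_le_inf_right _ lQ) (le_inf h.le inf_le_right)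
  rw [e]
  refine ⟨h.nil_of hD'.le hD'.isPi, n0, lt_of_le_of_ne inf_le_left fun e => f.nc (e ▸ inf_le_right),
    by rw [← h.card, ← eK]; exact f.card_eq, fun a ha b hb =>
    ⟨f.pow_mem h.sylow.pgroup ha, f.der_le0 (commutator_mem_commutator ha hb)⟩,
    fun N h1 h2 n => h2.ne (f.eq_of_lt h1 h2.le ((hE.le.trans (Ms_le M)).trans n) (pt.le.trans n))⟩

end Cfsg.Agent.S1437
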