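import Cfsg.Statements.S1438
import Cfsg.Agent.FT.S15a

set_option autoImplicit false
open Cfsg

namespace Cfsg.Agent.S1438

open CfsgFT CfsgH2

/-- Let G be a minimal simple group of odd order, M a maximal subgroup and H a nontrivial subgroup of M_σ whose order is coprime to its index in M_σ. Then M ∩ C_G(H) is generated by M_σ ∩ C_G(H) together with a cyclic subgroup X all of whose prime divisors lie in τ₂(M); and if x ∈ H and gxg⁻¹ ∈ H then nxn⁻¹ = gxg⁻¹ for some n ∈ M ∩ N_G(H). -/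
theorem result {G : Type*} [Group G] [Finite G] (hG : Cfsg.IsMinSimpleOddOrder G)
    (M : Subgroup G) (hM : IsCoatom M) (H : Subgroup G) (hH : H ≤ Cfsg.sigmaCore M) (hH1 : H ≠ ⊥)
    (hHall : (Nat.card H).Coprime (H.relIndex (Cfsg.sigmaCore M))) :
    (∃ X : Subgroup G, IsCyclic X ∧ (∀ p : ℕ, p.Prime → p ∣ Nat.card X → p ∈ Cfsg.tau2 M) ∧
        M ⊓ Subgroup.centralizer (H : Set G) = (Cfsg.sigmaCore M ⊓ Subgroup.centralizer (H : Set G)) ⊔ X) ∧
      ∀ x ∈ H, ∀ g : G, g * x * g⁻¹ ∈ H → ∃ n ∈ M ⊓ Subgroup.normalizer (H : Set G), n * x * n⁻¹ = g * x * g⁻¹ := by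
  haveI := Fact.mk hG
  have h := Hall.of_coprime hH hHall
  refine ⟨?_, fun x hx g hg => hall_tame hM h hx hg⟩
  obtain ⟨X, hX⟩ := exists_hall (leSol hM (inf_le_left : M ⊓ C(H) ≤ M)) (sigma M)ᶜ
  have t := tau2_of_cent_hall hM h hH1 (hX.le.trans inf_le_left) hX.isPi (hX.le.trans inf_le_right)
  refine ⟨X, tau2_cyclic hM t (hX.le.trans inf_le_left)
    (ne_bot_of_le hH1 (le_inf hH (cent_symm (hX.le.trans inf_le_right)))), t, ?_⟩
  have := ((hall_Ms hM).normal_inf (le_normalizer_Opi _ _) (inf_le_left : M ⊓ C(H) ≤ M)).sup_eq hX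
  rw [← inf_assoc, inf_eq_left.2 (Ms_le M)] at this
  exact this.symm

end Cfsg.Agent.S1438
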