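import Cfsg.Statements.S1458
import Cfsg.Agent.H9.Stab

set_option autoImplicit false
open Cfsg

namespace Cfsg.Agent.S1458

/-- Let G be a solvable group of odd order, p a prime and S a Sylow p-subgroup of G. Then the subgroup generated by the centre of the Thompson subgroup of S and O_{p'}(G) is normal in G. -/
theorem result {G : Type*} [Group G] [Finite G] [Group.IsSolvable G] (hodd : Odd (Nat.card G)) (p : ℕ) [Fact p.Prime] (S : Sylow p G) :
    (Cfsg.centerThompsonOf p (S : Subgroup G) ⊔ Cfsg.pPrimeCore p G).Normal := by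
  open CfsgH9 Subgroup in
  rw [← CfsgH1.comap_map_mk']
  refine Normal.comap ?_ _
  by_cases hp : p = 2
  · subst hp
    have : (S : Subgroup G) = ⊥ := (CfsgH2.IsSylowIn.of_sylow_top S).eq_bot_iff.2 (by
      rw [card_top, ← even_iff_two_dvd]; exact Nat.not_even_iff_odd.2 hodd)
    rw [eq_bot_iff.2 (ZJ_le.trans this.le), Subgroup.map_bot]; infer_instance
  exact sup_normalizer_ZJ hp (pst_of_odd hp (odd_card_quotient hodd _))
    (centralizer_pCore_quotient_le CfsgH1.isPSolvable_of_isSolvable) S (isStronglyClosed_self _) (Or.inr rfl)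

end Cfsg.Agent.S1458
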