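import Cfsg.Statements.S1463
import Cfsg.Agent.H9.Dickson2

set_option autoImplicit false
open scoped MatrixGroups
open Cfsg

namespace Cfsg.Agent.S1463

/-- Let F be a field of odd characteristic p and H a finite subgroup of odd order of GL(2, F) that leaves no 1-dimensional subspace of F² invariant. Then p does not divide the order of H. -/
theorem result {F : Type*} [Field F] (p : ℕ) [Fact p.Prime] [CharP F p] (hp : p ≠ 2)
    (H : Subgroup (GL (Fin 2) F)) [Finite H] (hodd : Odd (Nat.card H))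
    (hirr : ∀ v : Fin 2 → F, v ≠ 0 → ∃ g ∈ H, (g : Matrix (Fin 2) (Fin 2) F).mulVec v ∉ Submodule.span F {v}) :
    ¬ p ∣ Nat.card H := by
  open CfsgH9 Matrix in
  intro hd
  obtain ⟨⟨u, hu⟩, ho⟩ := exists_prime_orderOf_dvd_card' p hd
  have h1 : u ^ p ^ 1 = 1 := by
    have := pow_orderOf_eq_one (⟨u, hu⟩ : H)
    rw [ho] at this
    rw [pow_one]; exact congrArg Subtype.val this
  have h2 := trace_of_pow p (x := u.1) (k := 1) (by rw [← Units.val_pow_eq_pow_val, h1]; rfl)
  let u' : SL(2, F) := ⟨u.1, h2.2⟩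
  have tu : tr u' = 2 := by rw [trace_fin_two] at h2; exact h2.1
  have hu1 : u' ≠ 1 := fun e => by
    have : (⟨u, hu⟩ : H) = 1 := Subtype.ext (Units.ext (congrArg Subtype.val e))
    rw [this, orderOf_one] at ho
    exact (Fact.out : p.Prime).one_lt.ne ho
  obtain ⟨c, hc⟩ := exists_conjSL_Tm tu hu1
  have hc' : u = c * SpecialLinearGroup.toGL (Tm 1) * c⁻¹ := by rw [← toGL_conjSL, hc]; exact Units.ext rfl
  obtain ⟨g, hg, hv⟩ := hirr (c.1.mulVec (Pi.single 0 1)) (fun e => by
    have := congrArg (c⁻¹.1.mulVec) e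
    rw [mulVec_mulVec, Units.inv_mul, one_mulVec, mulVec_zero] at this
    simpa using congrFun this 0)
  obtain ⟨g, rfl⟩ : ∃ g', g = c * g' * c⁻¹ := ⟨c⁻¹ * g * c, by group⟩
  have hg0 : g 1 0 ≠ 0 := fun e => hv (by
    rw [Submodule.mem_span_singleton]
    refine ⟨g 0 0, ?_⟩
    rw [mulVec_mulVec, ← Units.val_mul, inv_mul_cancel_right, Units.val_mul, ← mulVec_mulVec, ← mulVec_smul]
    congr 1
    ext i
    fin_cases i <;> simp [e])
  let L := H.comap (SpecialLinearGroup.toGL.comp (conjSL c))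
  have hinj : Function.Injective (SpecialLinearGroup.toGL.comp (conjSL c)) :=
    SpecialLinearGroup.toGL_injective.comp (conjSL_injective c)
  have : Finite L := Finite.of_injective (fun x => (⟨_, x.2⟩ : H)) fun x y e =>
      Subtype.ext (hinj (congrArg Subtype.val e))
  have hT : Tm 1 ∈ L := by
    change SpecialLinearGroup.toGL (conjSL c (Tm 1)) ∈ H
    rw [toGL_conjSL, ← hc']; exact hu
  have hw : conjSL g (Tm 1) ∈ L := by
    change SpecialLinearGroup.toGL (conjSL c _) ∈ H
    rw [toGL_conjSL, toGL_conjSL]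
    convert H.mul_mem (H.mul_mem hg hu) (H.inv_mem hg) using 1
    rw [hc']; group
  obtain ⟨δ, hδ⟩ := dickson_emb p hp L hT hw (fun e => hg0 (by
    have e1 : (conjSL g (Tm 1)).1 * g.1 = g.1 * (Tm (1 : F)).1 := by
      change g.1 * (Tm (1 : F)).1 * g⁻¹.1 * g.1 = _
      rw [mul_assoc, Units.inv_mul, mul_one]
    have t := eq_Tm_of_tr ((tr_conjSL g _).trans (by simp [tr]; norm_num)) e
    rw [t] at e1
    have := congrFun (congrFun e1 1) 1
    simpa [Matrix.mul_apply, Fin.sum_univ_two] using this))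
  have h3 := hδ (-1)
  have h4 : slp p F (-1) = -1 := by apply sl2_ext <;> simp [slp]
  rw [h4, mul_neg, mul_one, neg_mul, mul_inv_cancel] at h3
  have h5 : orderOf (⟨_, h3⟩ : H) = 2 := by
    rw [← Subgroup.orderOf_coe, orderOf_injective _ hinj]
    exact orderOf_eq_prime (by simp) (neg_one_ne_one_sl2 p hp)
  have := orderOf_dvd_natCard (⟨_, h3⟩ : H)
  rw [h5] at this
  exact (Nat.not_even_iff_odd.2 hodd) (even_iff_two_dvd.2 this)

end Cfsg.Agent.S1463
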