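import Cfsg.Statements.S1473
import Cfsg.Agent.H1.CN

set_option autoImplicit false
open Cfsg

namespace Cfsg.Agent.S1473

universe u in
open Subgroup CfsgH1 CfsgFT CfsgH2 in
theorem aux {X : Type*} [Group X] (n : ℕ) : ∀ (G : Type u) [Group G] [Finite G], Nat.card G = n → IsCNGroup G →
    ∀ f : G →* X, Function.Surjective f → Group.IsSolvable f.ker → IsCNGroup X := by
  induction n using Nat.strong_induction_on with
  | _ n ih =>
  intro G _ _ c h f hf hs
  rcases eq_or_ne f.ker ⊥ with e | e
  · exact cn_quot h f hf (p := 2) (e ▸ IsPGroup.of_bot)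
  obtain ⟨V, p, hp, _, v1, v2, -, v3, -⟩ := exists_minNormal_elementary f.ker hs e
  haveI := Fact.mk hp
  refine ih _ (c ▸ card_quotient_lt v1) (G ⧸ V) rfl (cn_quot h _ (QuotientGroup.mk'_surjective V)
    (by rwa [QuotientGroup.ker_mk'])) (QuotientGroup.lift V f v2) (fun x => (hf x).elim fun g hg => ⟨g, hg⟩) ?_
  rw [QuotientGroup.ker_lift]
  exact Group.isSolvable_of_surjective ((QuotientGroup.mk' V).subgroupMap_surjective _)

/-- Let G be a finite group in which the centralizer of every non-identity element is nilpotent, and H a solvable normal subgroup of G. Then in G/H the centralizer of every non-identity element is nilpotent. -/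
theorem result {G : Type*} [Group G] [Finite G] (hCN : Cfsg.IsCNGroup G) (H : Subgroup G) [H.Normal] (hH : Group.IsSolvable H) :
    Cfsg.IsCNGroup (G ⧸ H) := by
  open Subgroup CfsgH1 CfsgFT CfsgH2 in
  exact aux _ G rfl hCN _ (QuotientGroup.mk'_surjective H) (by rwa [QuotientGroup.ker_mk'])

end Cfsg.Agent.S1473
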