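import Cfsg.Statements.S1474
import Cfsg.Agent.H1.CN

set_option autoImplicit false
open Cfsg

namespace Cfsg.Agent.S1474

/-- Let G be a finite group in which every non-identity element has nilpotent centralizer, not itself nilpotent, and having a nontrivial normal Sylow p-subgroup for some prime p. Let H be the largest normal nilpotent Hall subgroup of G. Then H is a nontrivial proper normal subgroup with a complement E that is a Frobenius complement in G (no non-identity element of E centralizes a non-identity element of H), and G/H is nilpotent. -/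
theorem result {G : Type*} [Group G] [Finite G] (hCN : Cfsg.IsCNGroup G) (hnn : ¬ Group.IsNilpotent G) (p : ℕ) [Fact p.Prime] (P : Sylow p G)
    (hP1 : (P : Subgroup G) ≠ ⊥) (hPn : (P : Subgroup G).Normal) :
    Cfsg.fittingHall G ≠ ⊥ ∧ Cfsg.fittingHall G ≠ ⊤ ∧
      (∃ E : Subgroup G, Subgroup.IsComplement' (Cfsg.fittingHall G) E ∧ Cfsg.IsFrobeniusComplement E ∧
        ∀ e ∈ E, e ≠ 1 → Cfsg.fittingHall G ⊓ Subgroup.centralizer ({e} : Set G) = ⊥) ∧
      Group.IsNilpotent (G ⧸ Cfsg.fittingHall G) := by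
  open Subgroup CfsgH1 CfsgFT CfsgH2 in
  obtain ⟨H, h1, h2, h3⟩ := exists_max_nil P.2.isNilpotent
  haveI : H.Normal := by
    by_cases hp : IsPrimePow (Nat.card H)
    · obtain ⟨r, k, hr, -, e⟩ := (isPrimePow_nat_iff _).1 hp
      obtain rfl := (Nat.prime_dvd_prime_iff_eq Fact.out hr).1 ((Fact.out : p.Prime).dvd_of_dvd_pow
        (e ▸ (dvd_card_of_isPGroup P.2 hP1).trans (card_dvd_of_le h1)))
      rwa [(IsSylowIn.of_sylow_top P).eq_of_le (.of_card e.symm) h1 le_top]
    · exact normal_of_top_le fun g _ => mem_norm_iff_cj.2 (cn_ti hCN h2 h3 hp g fun e => hP1 (eq_bot_iff.2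
        ((le_inf h1 ((cj_eq_of_normal g P.1).ge.trans (cj_mono g h1))).trans e.le)))
  have h0 : H ≠ ⊥ := fun e => hP1 (eq_bot_iff.2 (h1.trans e.le))
  obtain ⟨k1, E, k2, k3, k4, k5, -⟩ := cn_frob hCN hnn h0 h2 h3
  obtain rfl : fittingHall G = H := h3 _ CfsgPF.fittingHall_spec.1 (le_sSup ⟨this, h2, cn_hall hCN h2 h3⟩)
  exact ⟨h0, k1, ⟨E, k2, k3, k4⟩, Group.nilpotent_of_mulEquiv k2.symm.QuotientMulEquiv.symm⟩

end Cfsg.Agent.S1474
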