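import Cfsg.Statements.S1475
import Cfsg.Agent.H1.CN

set_option autoImplicit false
open Cfsg

namespace Cfsg.Agent.S1475

/-- Let G be a finite solvable group such that the order of every element is a prime power (1 included). Then at most two distinct primes divide the order of G. -/
theorem result {G : Type*} [Group G] [Finite G] [Group.IsSolvable G] (h : ∀ g : G, IsPrimePow (orderOf g) ∨ g = 1) :
    (Nat.card G).primeFactors.card ≤ 2 := by
  open Subgroup CfsgH1 CfsgFT CfsgH2 in
  rcases subsingleton_or_nontrivial G with _ | _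
  · simp
  have k : ∀ x y : G, (orderOf x).Prime → (orderOf y).Prime → orderOf x ≠ orderOf y → x * y ≠ y * x := fun x y hx hy n e => by
    have o := (show Commute x y from e).orderOf_mul_eq_mul_orderOf_of_coprime ((Nat.coprime_primes hx hy).2 n)
    rcases h (x * y) with a | a
    · obtain ⟨r, -, u⟩ := isPrimePow_iff_unique_prime_dvd.1 a
      exact n ((u _ ⟨hx, o ▸ Dvd.intro _ rfl⟩).trans (u _ ⟨hy, o ▸ Dvd.intro_left _ rfl⟩).symm)
    · rw [a, orderOf_one] at o; exact hx.ne_one (Nat.eq_one_of_mul_eq_one_right o.symm)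
  obtain ⟨V, p, hp, _, v1, -, v2, -⟩ := exists_minNormal_of_isSolvable (G := G)
  haveI := Fact.mk hp
  obtain ⟨R, hR⟩ := CfsgFT.exists_hall (M := (⊤ : Subgroup G)) inferInstance {p}ᶜ
  have F := fc_of_norm v1 le_normalizer_of_normal ((sep_of (π := {p}) fun x y hx hy a b => k x y hx hy
    fun e => b (e ▸ a)).fpf (isPi_singleton_iff.2 v2) hR.isPi)
  have : ((Nat.card G).primeFactors.erase p).card ≤ 1 := Finset.card_le_one.2 fun a ha b hb => by_contra fun n => by
    have d : ∀ a ∈ (Nat.card G).primeFactors.erase p, ∃ x : R, orderOf x = a := fun a ha => by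
      simp only [Finset.mem_erase, Nat.mem_primeFactors] at ha
      haveI := Fact.mk ha.2.1
      exact exists_prime_orderOf_dvd_card' a (hR.dvd_card ha.2.1 ha.1 (by simpa using ha.2.2.1))
    have pr := fun a (ha : a ∈ (Nat.card G).primeFactors.erase p) => Nat.prime_of_mem_primeFactors (Finset.mem_of_mem_erase ha)
    obtain ⟨x, rfl⟩ := d a ha
    obtain ⟨y, rfl⟩ := d b hb
    have q : ∀ x y : R, (orderOf x).Prime → (orderOf y).Prime → orderOf x ≠ orderOf y → ¬ (Odd (Nat.card R) ∨ orderOf x = 2) :=
      fun x y a b c e => k x y (by simpa) (by simpa) (by simpa) (congrArg Subtype.val (F.comm_primes a b e))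
    rcases Nat.even_or_odd (Nat.card R) with e | o
    · obtain ⟨z, hz⟩ := exists_prime_orderOf_dvd_card' 2 e.two_dvd
      rcases eq_or_ne (orderOf x) 2 with c | c
      · exact q x y (pr _ ha) (pr _ hb) n (.inr c)
      · exact q z x (hz ▸ Nat.prime_two) (pr _ ha) (hz ▸ c.symm) (.inr hz)
    · exact q x y (pr _ ha) (pr _ hb) n (.inl o)
  have := Finset.pred_card_le_card_erase (s := (Nat.card G).primeFactors) (a := p)
  omega

end Cfsg.Agent.S1475
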