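import Cfsg.Statements.S1476
import Cfsg.Agent.H1.CN

set_option autoImplicit false
open Cfsg

namespace Cfsg.Agent.S1476

/-- Let G be a finite solvable group in which every non-identity element has nilpotent centralizer. Then either G is nilpotent; or G has a normal subgroup K with a Frobenius complement E (K E = G, K ∩ E = 1, E meets its conjugates by outside elements trivially) such that E is cyclic or E is generated by two elementwise-commuting subgroups, one cyclic of odd order and one isomorphic to a generalized quaternion group; or G is a three-step group with respect to some prime p. -/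
theorem result {G : Type*} [Group G] [Finite G] [Group.IsSolvable G] (hCN : Cfsg.IsCNGroup G) :
    Group.IsNilpotent G ∨
      (∃ K E : Subgroup G, K.Normal ∧ Subgroup.IsComplement' K E ∧ Cfsg.IsFrobeniusComplement E ∧
        (IsCyclic E ∨ ∃ C Q : Subgroup G, C ⊔ Q = E ∧ (∀ a ∈ C, ∀ b ∈ Q, a * b = b * a) ∧ IsCyclic C ∧ Odd (Nat.card C) ∧
          ∃ n : ℕ, Nonempty (↥Q ≃* QuaternionGroup (2 ^ n)))) ∨
      ∃ p : ℕ, p.Prime ∧ Cfsg.IsThreeStepGroup p G := by
  open Subgroup CfsgH1 CfsgFT CfsgH2 in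
  refine or_iff_not_imp_left.2 fun hnn => ?_
  have F0 : fittingOf (⊤ : Subgroup G) ≠ ⊥ := fit_ne_bot inferInstance fun e => hnn (isNilpotent_of_top' (e ▸ inferInstance))
  haveI := normal_of_top_le (le_normalizer_fit (⊤ : Subgroup G))
  have fr : ∀ (H : Subgroup G) [H.Normal], H ≠ ⊥ → Group.IsNilpotent H → (∀ L : Subgroup G, Group.IsNilpotent L → H ≤ L → L = H) →
      ∃ K E : Subgroup G, K.Normal ∧ Subgroup.IsComplement' K E ∧ Cfsg.IsFrobeniusComplement E ∧
        (IsCyclic E ∨ ∃ C Q : Subgroup G, C ⊔ Q = E ∧ (∀ a ∈ C, ∀ b ∈ Q, a * b = b * a) ∧ IsCyclic C ∧ Odd (Nat.card C) ∧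
          ∃ n : ℕ, Nonempty (↥Q ≃* QuaternionGroup (2 ^ n))) := fun H _ h0 h2 h3 => by
    obtain ⟨-, E, k2, k3, -, k5, k6⟩ := cn_frob hCN hnn h0 h2 h3
    refine ⟨H, E, ‹_›, k2, k3, k6.nil.imp_right fun ⟨C, Q, c1, c2, c3, c4, n, ⟨e⟩⟩ => ⟨C.map E.subtype, Q.map E.subtype,
      by rw [← Subgroup.map_sup, c1, ← MonoidHom.range_eq_map, range_subtype], fun a ha b hb =>
      (map_le_cent _ c2 ha b hb).symm, isCyclic_map' c3 _, by rwa [card_map_of_injective E.subtype_injective], n,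
      ⟨(Q.equivMapOfInjective _ E.subtype_injective).symm.trans e⟩⟩⟩
  by_cases hp : IsPrimePow (Nat.card (fittingOf (⊤ : Subgroup G)))
  swap
  · obtain ⟨H, h1, h2, h3⟩ := exists_max_nil (fit_nilpotent (⊤ : Subgroup G))
    have hp' : ¬ IsPrimePow (Nat.card H) := fun a => hp (a.dvd (card_dvd_of_le h1) (mt card_eq_one.1 F0))
    haveI := normal_of_top_le fun g _ => mem_norm_iff_cj.2 (cn_ti hCN h2 h3 hp' g fun e => F0 (eq_bot_iff.2
        ((le_inf h1 ((cj_eq_of_normal g _).ge.trans (cj_mono g h1))).trans e.le)))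
    exact .inl (fr H (fun e => F0 (eq_bot_iff.2 (h1.trans e.le))) h2 h3)
  obtain ⟨p, k, hp, -, e⟩ := (isPrimePow_nat_iff _).1 hp
  haveI := Fact.mk hp
  have pF : IsPGroup p (fittingOf (⊤ : Subgroup G)) := .of_card e.symm
  have c : ∀ y ∈ C(fittingOf (⊤ : Subgroup G)), IsPiNum {p}ᶜ (orderOf y) → y = 1 := fun y a b => orderOf_eq_one_iff.1
    (((isPi_singleton_iff.2 pF).orderOf (inf_centralizer_fit_le inferInstance ⟨mem_top y, a⟩)).eq_one b)
  have s : CfsgH1.Sep {p} G := sep_of fun x y hx hy a b d => by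
    have pS := (isPGroup_zpowers_of_orderOf (k := 1) (a.trans (pow_one p).symm)).to_sup_of_normal_right pF
    have py : IsPi {p}ᶜ (zpowers y) := isPi_zpowers.2 fun q hq d => (Nat.prime_dvd_prime_iff_eq hq hy).1 d ▸ b
    exact hy.ne_one (orderOf_eq_one_iff.2 (c y (cent_anti le_sup_right (cn2 hCN pS.isNilpotent (mem_sup_left (mem_zpowers x))
      (mt orderOf_eq_one_iff.2 hx.ne_one) (zpowers_le.2 (mem_cent1.2 d)) (coprime_pgroup_p' pS py).symm (mem_zpowers y)))
      (isPi_zpowers.1 py)))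
  obtain ⟨A, a1, a2, a3⟩ := sep_struct s (eq_bot_iff.2 fun y hy => c y (le_centralizer_of_normalize le_normalizer_of_normal
    le_normalizer_of_normal ((inf_comm _ _).trans ((isPi_singleton_iff.2 pF).inf_eq_bot (isPiNum_card_piCore _ _))) hy)
    (IsPi.orderOf (isPiNum_card_piCore _ _) hy))
  have l : fittingOf ⊤ ≤ piCore {p} G := le_piCore (isPi_singleton_iff.2 pF)
  have pH : IsPi {p} (piCore {p} G) := isPiNum_card_piCore _ _
  have H0 : piCore {p} G ≠ ⊥ := fun e => F0 (eq_bot_iff.2 (l.trans e.le))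
  rcases eq_or_ne (piCore {p} G ⊔ A) ⊤ with a4 | a4
  · refine .inl (fr _ H0 (isPi_singleton_iff.1 pH).isNilpotent fun L h1 h2 => le_antisymm ?_ h2)
    rw [← Opi_sup_Opi_compl h1 {p}]
    refine sup_le ((a4 ▸ Hall.of_sup le_normalizer_of_normal pH a1).le_of_normal le_normalizer_of_normal (isPi_Opi _ _) le_top)
      fun y hy => c y (commute_of_nilpotent h1 (Opi_le _ _) (l.trans h2) ((isPi_Opi _ _).coprime' (isPi_singleton_iff.2 pF)) hy)
        ((isPi_Opi _ _).orderOf hy) ▸ one_mem _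
  obtain ⟨b1, b2, b3, b4, -⟩ := a3.resolve_left a4
  rw [piCore_singleton hp] at *
  refine .inr ⟨p, hp, H0, A, b1, b2, b3, isPi_compl_singleton_iff_coprime.1 a1, a2, a4,
    (IsPiNum.singleton_iff hp index_ne_zero_of_finite).1 b4, s.fpf pH a1, fun x hx a ha n k => hx ?_⟩
  rcases s x with o | o
  · refine mem_sup_left ((QuotientGroup.eq_one_iff x).1 (mem_bot.1 (((s.quot _ (QuotientGroup.mk'_surjective (pCore p G))).fpf
      (isPi_zpowers.2 (o.of_dvd (orderOf_map_dvd (QuotientGroup.mk' _) x))) (a1.map (QuotientGroup.mk' _)) _ (mem_map_of_mem (QuotientGroup.mk' _) ha) fun e => n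
      ((pH.inf_eq_bot a1).le ⟨(QuotientGroup.eq_one_iff a).1 e, ha⟩)).le ⟨mem_zpowers _, mem_cent1'.2 ?_⟩)))
    rw [← mul_inv_eq_one, mul_inv_rev, ← mul_assoc]
    exact (QuotientGroup.eq_one_iff _).2 k
  · exact le_of_isPi_of_idx (isPi_zpowers.2 o) le_top le_normalizer_of_normal (by simpa using b4) (mem_zpowers x)

end Cfsg.Agent.S1476
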