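import Cfsg.Statements.S1488
import Cfsg.Agent.H3.CliffordCorr

set_option autoImplicit false
open Cfsg

namespace Cfsg.Agent.S1488
open CfsgH3

/-- Let A be a normal subgroup of the finite group G contained in the subgroup H, let θ be a function on H and θ₁ a function on the image of H in G ⧸ A whose composite with the projection is θ. Then the function induced from θ₁ to G ⧸ A, composed with the projection G → G ⧸ A, equals the function induced from θ to G. -/
theorem result {G : Type*} [Group G] [Fintype G] (A H : Subgroup G) [A.Normal] (hAH : A ≤ H) [Fintype (G ⧸ A)] [Fintype ↥(H.map (QuotientGroup.mk' A))] (θ : H → ℂ) (θ₁ : ↥(H.map (QuotientGroup.mk' A)) → ℂ) (hθ : ∀ x : H, θ₁ ⟨QuotientGroup.mk' A x, Subgroup.mem_map_of_mem _ x.2⟩ = θ x) (g : G) : Cfsg.indFun (H.map (QuotientGroup.mk' A)) θ₁ (QuotientGroup.mk' A g) = Cfsg.indFun H θ g := by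
  classical
  have := Fintype.ofFinite A
  have e0 : ∀ y : G, extendByZero (H.map (QuotientGroup.mk' A)) θ₁ (QuotientGroup.mk' A y) =
      extendByZero H θ y := by
    intro y
    by_cases hy : y ∈ H
    · rw [ext0_of_mem _ _ hy, ext0_of_mem _ _ (Subgroup.mem_map_of_mem _ hy), ← hθ]
    · rw [ext0_of_not_mem _ _ hy, ext0_of_not_mem]
      rintro ⟨z, hz, e⟩
      apply hy
      have : z⁻¹ * y ∈ A := QuotientGroup.eq.mp e
      simpa using H.mul_mem hz (hAH this)
  rw [indFun_apply, indFun_apply, sum_cosets A]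
  have e1 : ∀ (q : G ⧸ A) (a : A), extendByZero H θ ((q.out * a)⁻¹ * g * (q.out * a)) =
      extendByZero (H.map (QuotientGroup.mk' A)) θ₁ (q⁻¹ * QuotientGroup.mk' A g * q) := by
    intro q a
    rw [← e0]
    simp [(QuotientGroup.eq_one_iff (a : G)).mpr a.2]
  simp only [e1, Finset.sum_const, Finset.card_univ, nsmul_eq_mul, ← Finset.mul_sum]
  have e2 : Nat.card H = Nat.card A * Nat.card (H.map (QuotientGroup.mk' A)) := by
    have h1 := (A.subgroupOf H).card_mul_index
    rw [Nat.card_congr (Subgroup.subgroupOfEquivOfLe hAH).toEquiv] at h1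
    rw [← h1]
    congr 1
    rw [← Subgroup.relIndex_ker, QuotientGroup.ker_mk']; rfl
  rw [e2, ← Nat.card_eq_fintype_card]
  have := card_ne_zero_complex A
  push_cast
  field_simp

end Cfsg.Agent.S1488
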