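import Cfsg.Statements.S1493
import Cfsg.Agent.H3.PF1

set_option autoImplicit false
open Cfsg

namespace Cfsg.Agent.S1493
open CfsgH3

/-- Let G be a finite group of order a * b with a and b coprime, let k be coprime to a, and let χ be a character of G. Then there is a character χ' of G such that χ'(g) = χ(g ^ k) whenever the order of g divides a and χ'(g) = χ(g) whenever the order of g is coprime to a; moreover χ' is irreducible if χ is. -/
theorem result {G : Type*} [Group G] [Finite G] (a b k : ℕ) (hab : Nat.card G = a * b) (hcop : Nat.Coprime a b) (hk : Nat.Coprime k a) (χ : G → ℂ) (hχ : Cfsg.IsCharacter G χ) : ∃ χ' : G → ℂ, Cfsg.IsCharacter G χ' ∧ (Cfsg.IsIrrCharacter G χ → Cfsg.IsIrrCharacter G χ') ∧ (∀ g : G, orderOf g ∣ a → χ' g = χ (g ^ k)) ∧ (∀ g : G, Nat.Coprime (orderOf g) a → χ' g = χ g) := by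
  have h0 : a * b ≠ 0 := hab ▸ Nat.card_pos.ne'
  obtain ⟨σ, h1, h2⟩ := exists_ringEquiv_pow_fix (left_ne_zero_of_mul h0) (right_ne_zero_of_mul h0) hcop hk
  refine ⟨fun g => σ.toRingHom (χ g), hχ.map_ringHom _, fun h => h.map_ringHom _, fun g hg => ?_, fun g hg => ?_⟩
  · exact hχ.isGen.map_eq_apply_pow (fun z hz => h1 z (pow_eq_one_of_dvd hz hg))
  · have := hχ.isGen.map_eq_apply_pow (σ := σ.toRingHom) (k := 1) (g := g) (fun z hz => by
      rw [pow_one]; exact h2 z (pow_eq_one_of_dvd hz (hg.dvd_of_dvd_mul_left (hab ▸ orderOf_dvd_natCard g))))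
    rwa [pow_one] at this

end Cfsg.Agent.S1493
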