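import Cfsg.Statements.S1497
import Cfsg.Agent.H3.Dade

set_option autoImplicit false
open Cfsg

namespace Cfsg.Agent.S1497
open CfsgH3

/-- Let A be a nonempty subset of the finite group G not containing 1 and L a subgroup. Then A is a TI-subset whose normaliser is L if and only if the Dade hypothesis holds for A, L and the constant choice H(a) = ⊥. -/
theorem result {G : Type*} [Group G] [Finite G] (A : Set G) (hA : A.Nonempty) (h1 : (1 : G) ∉ A) (L : Subgroup G) : (Cfsg.IsTISubset A ∧ Subgroup.normalizer A = L) ↔ Cfsg.DadeHypothesis A L (fun _ => ⊥) := by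
  constructor
  · rintro ⟨hTI, rfl⟩
    have key : ∀ a ∈ A, ∀ g : G, g * a * g⁻¹ ∈ A → g ∈ Subgroup.normalizer A := fun a ha g hg =>
      by_contra fun h => h1 (hTI g h a ha hg ▸ ha)
    refine ⟨h1, fun a ha => key a ha a (by simpa using ha), fun x hx a ha =>
      (Subgroup.mem_set_normalizer_iff.mp hx a).mp ha, fun a ha g hg => ⟨g, key a ha g hg, rfl⟩,
      fun a _ => bot_le, fun a _ c _ u hu => by rw [Subgroup.mem_bot.mp hu]; simp,
      fun a _ => bot_inf_eq _, fun a ha => ?_, fun _ _ _ _ => by simp⟩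
    rw [bot_sup_eq, inf_eq_right]
    intro c hc
    exact key a ha c (by rw [Subgroup.mem_centralizer_singleton_iff.mp hc]; simpa using ha)
  · intro h
    have key : ∀ a ∈ A, ∀ g : G, g * a * g⁻¹ ∈ A → g ∈ L := fun a ha g hg => by
      obtain ⟨x, hx, e⟩ := h.fusion a ha g hg
      have h2 := h.sup_eq a ha
      rw [bot_sup_eq, inf_eq_right] at h2
      have : x⁻¹ * g ∈ L := h2 (Subgroup.mem_centralizer_singleton_iff.mpr (by
        calc x⁻¹ * g * a = x⁻¹ * (g * a * g⁻¹) * g := by group
          _ = _ := by rw [← e]; group))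
      simpa using L.mul_mem hx this
    have h3 : Subgroup.normalizer A = L := by
      refine le_antisymm (fun g hg => ?_) (fun x hx => Subgroup.mem_set_normalizer_iff.mpr
        (fun a => ⟨h.conj_mem x hx a, fun ha => ?_⟩))
      · obtain ⟨a, ha⟩ := hA
        exact key a ha g ((Subgroup.mem_set_normalizer_iff.mp hg a).mp ha)
      · simpa [mul_assoc] using h.conj_mem x⁻¹ (L.inv_mem hx) _ ha
    exact ⟨fun g hg x hx hx' => absurd (h3 ▸ key x hx g hx') hg, h3⟩

end Cfsg.Agent.S1497
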