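import Cfsg.Statements.S1498
import Cfsg.Agent.H3.Dade

set_option autoImplicit false
open Cfsg

namespace Cfsg.Agent.S1498
open CfsgH3

/-- Under the Dade hypothesis for (A, L, H): for a ∈ A and x ∈ L, the subgroup attached to x * a * x⁻¹ is the conjugate of H a by x. -/
theorem result {G : Type*} [Group G] [Finite G] (A : Set G) (L : Subgroup G) (H : G → Subgroup G) (hD : Cfsg.DadeHypothesis A L H) (a : G) (ha : a ∈ A) (x : G) (hx : x ∈ L) : H (x * a * x⁻¹) = (H a).map (MulAut.conj x).toMonoidHom := by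
  have D := hD.dade
  have ha' : (⟨a, hD.subset ha⟩ : L) ∈ {a : L | (a : G) ∈ A} := ha
  have hb' : (⟨x * a * x⁻¹, hD.subset (hD.conj_mem x hx a ha)⟩ : L) ∈ {a : L | (a : G) ∈ A} :=
    hD.conj_mem x hx a ha
  ext u
  constructor
  · intro hu
    exact ⟨x⁻¹ * u * x⁻¹⁻¹, D.conj_mem_H hb' ha' hu (by simp [mul_assoc]), by simp [mul_assoc]⟩
  · rintro ⟨v, hv, rfl⟩
    exact D.conj_mem_H ha' hb' hv rfl

end Cfsg.Agent.S1498
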