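import Cfsg.Statements.S1499
import Cfsg.Agent.H3.Dade

set_option autoImplicit false
open Cfsg

namespace Cfsg.Agent.S1499
open CfsgH3

/-- Under the Dade hypothesis for (A, L, H), let a, b ∈ A. If an element of the coset a·H(a) is conjugate in G to an element of b·H(b), then a and b are conjugate by an element of L. Moreover the set normaliser of the coset a·H(a) is the centraliser of a. -/
theorem result {G : Type*} [Group G] [Finite G] (A : Set G) (L : Subgroup G) (H : G → Subgroup G) (hD : Cfsg.DadeHypothesis A L H) (a b : G) (ha : a ∈ A) (hb : b ∈ A) : ((∃ u ∈ H a, ∃ v ∈ H b, ∃ g : G, g * (a * u) * g⁻¹ = b * v) → ∃ x ∈ L, x * a * x⁻¹ = b) ∧ Subgroup.normalizer ((fun u : G => a * u) '' (H a : Set G)) = Subgroup.centralizer ({a} : Set G) := by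
  have D := hD.dade
  have ha' : (⟨a, hD.subset ha⟩ : L) ∈ {a : L | (a : G) ∈ A} := ha
  have hb' : (⟨b, hD.subset hb⟩ : L) ∈ {a : L | (a : G) ∈ A} := hb
  refine ⟨fun ⟨u, hu, v, hv, g, e⟩ => ?_, le_antisymm (fun x hx => ?_) (fun x hx => ?_)⟩
  · obtain ⟨x, hx⟩ := isConj_iff.mp (D.isConj_of_eq ha' hb' hu hv e)
    exact ⟨x, x.2, congrArg Subtype.val hx⟩
  · obtain ⟨u, hu, e⟩ := (Subgroup.mem_set_normalizer_iff.mp hx (a * 1)).mp ⟨1, (H a).one_mem, rfl⟩
    have := D.key ha' ha' (H a).one_mem hu e.symm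
    exact Subgroup.mem_centralizer_singleton_iff.mpr (mul_inv_eq_iff_eq_mul.mp this)
  · have key : ∀ x ∈ Subgroup.centralizer ({a} : Set G), ∀ y ∈ (fun u : G => a * u) '' (H a : Set G),
        x * y * x⁻¹ ∈ (fun u : G => a * u) '' (H a : Set G) := by
      rintro x hx _ ⟨u, hu, rfl⟩
      refine ⟨_, hD.conj_mem_H a ha x hx u hu, ?_⟩
      simp only [← mul_assoc, Subgroup.mem_centralizer_singleton_iff.mp hx]
    refine Subgroup.mem_set_normalizer_iff.mpr (fun y => ⟨key x hx y, fun hy => ?_⟩)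
    simpa [mul_assoc] using key x⁻¹ (Subgroup.inv_mem _ hx) _ hy

end Cfsg.Agent.S1499
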