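import Cfsg.Statements.S1502
import Cfsg.Agent.H3.PF3b

set_option autoImplicit false
open Cfsg

namespace Cfsg.Agent.S1502
open CfsgH3

/-- Let W₁, W₂ be nontrivial subgroups of the finite group G generating a cyclic subgroup W = W₁ ⊔ W₂ of odd order that is the normaliser of every nonempty set of its elements outside W₁ ∪ W₂. Then there is a family attaching to each linear character ω of W an irreducible character of G up to sign, orthonormal, sending the trivial character to the principal character, with χ ω = ω on W outside W₁ ∪ W₂, and such that inducing (1 − φ)(1 − ψ) to G gives 1 − χ φ − χ ψ + χ (φψ) whenever φ ≠ 1 is trivial on W₂ and ψ ≠ 1 is trivial on W₁. -/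
theorem result {G : Type*} [Group G] [Fintype G] (W₁ W₂ : Subgroup G) (hW : Cfsg.IsSelfNormalizingCyclic W₁ W₂) (hodd : Odd (Nat.card ↥(W₁ ⊔ W₂))) : ∃ χ : (↥(W₁ ⊔ W₂) →* ℂˣ) → (G → ℂ), Cfsg.IsCyclicTIFamily W₁ W₂ χ := by
  have := Fintype.ofFinite W₁
  have := Fintype.ofFinite W₂
  have C := hW.cycTI hodd
  obtain ⟨η, E⟩ := C.exists_eta
  have hc := hW.2.2.2.1
  have hd := hW.2.2.1
  refine ⟨fun ω => η (hatL ω) (hatR ω), fun ω => E.dirr _ _, fun ω ω' => ?_, E.one, fun ω w h1 h2 => ?_,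
    fun φ ψ _ _ h1 h2 => ?_⟩
  · rw [E.ip]
    refine if_congr ?_ rfl rfl
    rw [← Prod.mk.injEq, ← hatEquiv_apply hc hd, ← hatEquiv_apply hc hd]
    simp
  · obtain ⟨w, rfl⟩ := (pairEquiv hc hd).surjective w
    rw [← om_hat hc hd]
    exact E.eq_on C _ _ ((pairHom_mem_V hc hd w).mpr ⟨h1, h2⟩)
  · rw [indFun_sup hc hd, al_hat hc hd (hatR_eq_one.mpr h1) (hatL_eq_one.mpr h2), E.ind_eq, E.one]
    ext g
    simp [hatL_mul, hatR_mul, hatR_eq_one.mpr h1, hatL_eq_one.mpr h2]

end Cfsg.Agent.S1502
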