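import Cfsg.Statements.S1504
import Cfsg.Agent.H3.PF3b

set_option autoImplicit false
open Cfsg

namespace Cfsg.Agent.S1504
open CfsgH3

/-- Let W₁, W₂ be subgroups of a finite group with W₁ ⊓ W₂ = ⊥ whose elements commute, and W = W₁ ⊔ W₂. For linear characters φ, ψ of W with φ trivial on W₂ and ψ trivial on W₁, the function (1 − φ)(1 − ψ) vanishes on W₁ ∪ W₂; and the family of these functions, indexed by pairs (φ, ψ) with φ ≠ 1 ≠ ψ, is linearly independent over ℂ. -/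
theorem result {G : Type*} [Group G] [Finite G] (W₁ W₂ : Subgroup G) (hdisj : W₁ ⊓ W₂ = ⊥) (hcomm : ∀ a ∈ W₁, ∀ b ∈ W₂, a * b = b * a) : (∀ φ ψ : ↥(W₁ ⊔ W₂) →* ℂˣ, (∀ w : ↥(W₁ ⊔ W₂), (w : G) ∈ W₂ → φ w = 1) → (∀ w : ↥(W₁ ⊔ W₂), (w : G) ∈ W₁ → ψ w = 1) → ∀ w : ↥(W₁ ⊔ W₂), ((w : G) ∈ W₁ ∨ (w : G) ∈ W₂) → (1 - (φ w : ℂ) - (ψ w : ℂ) + (φ w : ℂ) * (ψ w : ℂ)) = 0) ∧ LinearIndependent ℂ (fun p : {p : (↥(W₁ ⊔ W₂) →* ℂˣ) × (↥(W₁ ⊔ W₂) →* ℂˣ) // p.1 ≠ 1 ∧ p.2 ≠ 1 ∧ (∀ w : ↥(W₁ ⊔ W₂), (w : G) ∈ W₂ → p.1 w = 1) ∧ (∀ w : ↥(W₁ ⊔ W₂), (w : G) ∈ W₁ → p.2 w = 1)} => fun w : ↥(W₁ ⊔ W₂) => 1 - (p.1.1 w : ℂ) - (p.1.2 w : ℂ) + (p.1.1 w : ℂ) * (p.1.2 w : ℂ)) := by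
  have := Fintype.ofFinite W₁
  have := Fintype.ofFinite W₂
  refine ⟨fun φ ψ h1 h2 w hw => ?_, ?_⟩
  · rcases hw with hw | hw
    · simp [h2 w hw]
    · simp [h1 w hw]
  rw [linearIndependent_iff']
  intro s g hg p hp
  have inj : ∀ a b : Hat ↥(W₁ ⊔ W₂), a = b ↔ hatL a = hatL b ∧ hatR a = hatR b := fun a b => by
    rw [← (hatEquiv hcomm hdisj).injective.eq_iff, hatEquiv_apply, hatEquiv_apply, Prod.mk.injEq]
  have h1 : ∑ q ∈ s, g q • al (hatL q.1.1) (hatR q.1.2) = 0 := by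
    ext w
    have := congrFun hg (pairEquiv hcomm hdisj w)
    simp only [Finset.sum_apply, Pi.smul_apply] at this ⊢
    refine Eq.trans (Finset.sum_congr rfl (fun q _ => ?_)) this
    rw [← al_hat hcomm hdisj (hatR_eq_one.mpr q.2.2.2.1) (hatL_eq_one.mpr q.2.2.2.2)]
  have h2 := congrArg (classInner · (om (hatL p.1.1) (hatR p.1.2))) h1
  have b1 : hatL p.1.1 ≠ 1 := fun h => p.2.1 ((inj _ _).mpr ⟨h, hatR_eq_one.mpr p.2.2.2.1⟩)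
  have b3 : hatR p.1.2 ≠ 1 := fun h => p.2.2.1 ((inj _ _).mpr ⟨hatL_eq_one.mpr p.2.2.2.2, h⟩)
  simp only [ip_sum_left, ip_smul_left, al, ip_add_left, ip_sub_left, ip_om, b1.symm, b3.symm, ip_zero_left,
    false_and, and_false, if_false] at h2
  rw [Finset.sum_eq_single p (fun q _ hq => ?_) (fun h => absurd hp h)] at h2
  · simpa using h2
  · rw [if_neg]
    · simp
    · rintro ⟨e1, e2⟩
      refine hq (Subtype.ext (Prod.ext ((inj _ _).mpr ⟨e1, ?_⟩) ((inj _ _).mpr ⟨?_, e2⟩)))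
      · rw [hatR_eq_one.mpr q.2.2.2.1, hatR_eq_one.mpr p.2.2.2.1]
      · rw [hatL_eq_one.mpr q.2.2.2.2, hatL_eq_one.mpr p.2.2.2.2]

end Cfsg.Agent.S1504
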