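import Cfsg.Statements.S1505
import Cfsg.Agent.H4.Coh
import Cfsg.Agent.H3.PF3b

set_option autoImplicit false
open Cfsg

namespace Cfsg.Agent.S1505

open CfsgH4 CfsgH3

attribute [-instance] CfsgH3.decEqHat

open Classical in
/-- Let W₁, W₂ ≤ G form a self-normalising cyclic subgroup W = W₁ ⊔ W₂. For nontrivial linear characters φ, φ' of W trivial on W₂ and ψ, ψ' trivial on W₁, put α = (1 − φ)(1 − ψ) and α' = (1 − φ')(1 − ψ'). Then the function induced from α to G has inner product 1 with the principal character, and the inner product of the functions induced from α and α' is 1 + a + b + ab where a = 1 if φ = φ' (else 0) and b = 1 if ψ = ψ' (else 0). -/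
theorem result {G : Type*} [Group G] [Fintype G] (W₁ W₂ : Subgroup G) (hW : Cfsg.IsSelfNormalizingCyclic W₁ W₂) (φ φ' ψ ψ' : ↥(W₁ ⊔ W₂) →* ℂˣ) (hφ : φ ≠ 1) (hφ' : φ' ≠ 1) (hψ : ψ ≠ 1) (hψ' : ψ' ≠ 1) (hφ₂ : ∀ w : ↥(W₁ ⊔ W₂), (w : G) ∈ W₂ → φ w = 1 ∧ φ' w = 1) (hψ₁ : ∀ w : ↥(W₁ ⊔ W₂), (w : G) ∈ W₁ → ψ w = 1 ∧ ψ' w = 1) : Cfsg.classInner (Cfsg.indFun (W₁ ⊔ W₂) (fun w => 1 - (φ w : ℂ) - (ψ w : ℂ) + (φ w : ℂ) * (ψ w : ℂ))) (fun _ => 1) = 1 ∧ Cfsg.classInner (Cfsg.indFun (W₁ ⊔ W₂) (fun w => 1 - (φ w : ℂ) - (ψ w : ℂ) + (φ w : ℂ) * (ψ w : ℂ))) (Cfsg.indFun (W₁ ⊔ W₂) (fun w => 1 - (φ' w : ℂ) - (ψ' w : ℂ) + (φ' w : ℂ) * (ψ' w : ℂ))) = 1 + (if φ = φ' then 1 else 0) + (if ψ = ψ' then 1 else 0) + (if φ = φ' then 1 else 0) * (if ψ = ψ' then 1 else 0) := by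
  have := Fintype.ofFinite W₁
  have := Fintype.ofFinite W₂
  have hc := hW.2.2.2.1
  have hd := hW.2.2.1
  have r1 := hatR_eq_one.mpr (fun w hw => (hφ₂ w hw).1)
  have r2 := hatR_eq_one.mpr (fun w hw => (hφ₂ w hw).2)
  have l1 := hatL_eq_one.mpr (fun w hw => (hψ₁ w hw).1)
  have l2 := hatL_eq_one.mpr (fun w hw => (hψ₁ w hw).2)
  have inj : ∀ a b : Hat ↥(W₁ ⊔ W₂), hatL a = hatL b → hatR a = hatR b → a = b := fun a b x y =>
    (hatEquiv hc hd).injective (Prod.ext x y)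
  have a1 : hatL φ ≠ 1 := fun e => hφ (inj _ _ e r1)
  have a2 : hatL φ' ≠ 1 := fun e => hφ' (inj _ _ e r2)
  have a3 : hatR ψ ≠ 1 := fun e => hψ (inj _ _ l1 e)
  have a4 : hatR ψ' ≠ 1 := fun e => hψ' (inj _ _ l2 e)
  have b1 : φ = φ' ↔ hatL φ = hatL φ' := ⟨congrArg _, fun e => inj _ _ e (r1.trans r2.symm)⟩
  have b2 : ψ = ψ' ↔ hatR ψ = hatR ψ' := ⟨congrArg _, fun e => inj _ _ (l1.trans l2.symm) e⟩
  have cf : ∀ α : W₁ × W₂ → ℂ, IsClassFunction _ α := fun α a b => by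
    rw [show b * a = a * b from Prod.ext (comm_of_cyclic hW.cyc1 _ _) (comm_of_cyclic hW.cyc2 _ _),
      mul_inv_cancel_right]
  rw [indFun_sup hc hd, indFun_sup hc hd, al_hat hc hd r1 l1, al_hat hc hd r2 l2,
    ip_ind_left (pairHom_inj hc hd) _ isIrr_one.classFun,
    hW.tiOn.ip_ind (pairHom_inj hc hd) (al_supp _ _) (cf _) (al_supp _ _), ← CfsgH3.om_one]
  simp only [al, ip_add_left, ip_add_right, ip_sub_left, ip_sub_right, ip_om]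
  by_cases x : hatL φ = hatL φ' <;> by_cases y : hatR ψ = hatR ψ' <;>
    simp [a1, a2, a3, a4, a1.symm, a2.symm, a3.symm, a4.symm, x, y, b1, b2]

end Cfsg.Agent.S1505
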