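import Cfsg.Statements.S1506
import Cfsg.Agent.H3.PF3b

set_option autoImplicit false
open Cfsg

namespace Cfsg.Agent.S1506
open CfsgH3

/-- Let W₁, W₂ ≤ G form a self-normalising cyclic subgroup W = W₁ ⊔ W₂ and χ an orthonormal family of irreducible characters of G up to sign, indexed by the linear characters ω of W, with χ_1 = 1, χ_ω = ω on W outside W₁ ∪ W₂, and the induction identity for (1 − φ)(1 − ψ). Let θ be a class function of G vanishing at every element of W outside W₁ ∪ W₂. For linear characters φ, φ' of W trivial on W₂ and ψ, ψ' trivial on W₁, the inner products a(ω) = ⟨θ, χ ω⟩ satisfy a(φψ) + a(φ'ψ') = a(φψ') + a(φ'ψ). -/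
theorem result {G : Type*} [Group G] [Fintype G] (W₁ W₂ : Subgroup G) (hW : Cfsg.IsSelfNormalizingCyclic W₁ W₂) (χ : (↥(W₁ ⊔ W₂) →* ℂˣ) → (G → ℂ)) (hχ : Cfsg.IsCyclicTIFamily W₁ W₂ χ) (θ : G → ℂ) (hθ : Cfsg.IsClassFunction G θ) (hθV : ∀ w : ↥(W₁ ⊔ W₂), (w : G) ∉ W₁ → (w : G) ∉ W₂ → θ w = 0) (φ φ' ψ ψ' : ↥(W₁ ⊔ W₂) →* ℂˣ) (hφ₂ : ∀ w : ↥(W₁ ⊔ W₂), (w : G) ∈ W₂ → φ w = 1 ∧ φ' w = 1) (hψ₁ : ∀ w : ↥(W₁ ⊔ W₂), (w : G) ∈ W₁ → ψ w = 1 ∧ ψ' w = 1) : Cfsg.classInner θ (χ (φ * ψ)) + Cfsg.classInner θ (χ (φ' * ψ')) = Cfsg.classInner θ (χ (φ * ψ')) + Cfsg.classInner θ (χ (φ' * ψ)) := by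
  have := Fintype.ofFinite W₁
  have := Fintype.ofFinite W₂
  have hc := hW.2.2.2.1
  have hd := hW.2.2.1
  have E := hχ.isEta hc hd
  set η := fun φ ψ => χ ((hatEquiv hc hd).symm (φ, ψ))
  have key : ∀ φ ψ, classInner θ (η 1 1) - classInner θ (η φ 1) - classInner θ (η 1 ψ) +
      classInner θ (η φ ψ) = 0 := fun φ ψ => by
    rw [← ip_sub_right, ← ip_sub_right, ← ip_add_right, ← E.ind_eq, ip_ind_right (pairHom_inj hc hd) _ hθ,
      ip_congr_left (γ := 0) (fun w hw => ?_), ip_zero_left]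
    have := (pairHom_mem_V hc hd w).mp (by_contra fun h' => hw (al_supp _ _ _ h'))
    exact hθV (pairEquiv hc hd w) this.1 this.2
  have e : ∀ ω, χ ω = η (hatL ω) (hatR ω) := chi_eq_eta hc hd χ
  simp only [e, hatL_mul, hatR_mul, hatR_eq_one.mpr (fun w hw => (hφ₂ w hw).1),
    hatR_eq_one.mpr (fun w hw => (hφ₂ w hw).2), hatL_eq_one.mpr (fun w hw => (hψ₁ w hw).1),
    hatL_eq_one.mpr (fun w hw => (hψ₁ w hw).2), hat_mul_one, hat_one_mul]
  linear_combination key (hatL φ) (hatR ψ) + key (hatL φ') (hatR ψ') - key (hatL φ) (hatR ψ') -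
    key (hatL φ') (hatR ψ)

end Cfsg.Agent.S1506
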