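import Cfsg.Statements.S1507
import Cfsg.Agent.H3.PF3b

set_option autoImplicit false
open Cfsg

namespace Cfsg.Agent.S1507
open CfsgH3

open Classical in
/-- Let W₁, W₂ ≤ G form a self-normalising cyclic subgroup W = W₁ ⊔ W₂ of odd order with Nat.card W₁ < Nat.card W₂, and χ an orthonormal family of irreducible characters of G up to sign, indexed by the linear characters ω of W, with χ_1 = 1, χ_ω = ω on W outside W₁ ∪ W₂, and the induction identity for (1 − φ)(1 − ψ). Let θ be a class function of G vanishing on W outside W₁ ∪ W₂, and suppose fewer than 2 · Nat.card W₁ linear characters ω of W have ⟨θ, χ ω⟩ ≠ 0. Then one of: all ⟨θ, χ ω⟩ vanish; or there are ψ₀ and a with ⟨θ, χ ω⟩ = a when ω ψ₀⁻¹ is trivial on W₂ and 0 otherwise; or there are φ₀ and a with ⟨θ, χ ω⟩ = a when ω φ₀⁻¹ is trivial on W₁ and 0 otherwise. -/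
theorem result {G : Type*} [Group G] [Fintype G] (W₁ W₂ : Subgroup G) (hW : Cfsg.IsSelfNormalizingCyclic W₁ W₂) (hodd : Odd (Nat.card ↥(W₁ ⊔ W₂))) (χ : (↥(W₁ ⊔ W₂) →* ℂˣ) → (G → ℂ)) (hχ : Cfsg.IsCyclicTIFamily W₁ W₂ χ) (hlt : Nat.card W₁ < Nat.card W₂) (θ : G → ℂ) (hθ : Cfsg.IsClassFunction G θ) (hθV : ∀ w : ↥(W₁ ⊔ W₂), (w : G) ∉ W₁ → (w : G) ∉ W₂ → θ w = 0) (hfew : Nat.card {ω : ↥(W₁ ⊔ W₂) →* ℂˣ // Cfsg.classInner θ (χ ω) ≠ 0} < 2 * Nat.card W₁) : (∀ ω, Cfsg.classInner θ (χ ω) = 0) ∨ (∃ (ψ₀ : ↥(W₁ ⊔ W₂) →* ℂˣ) (a : ℂ), ∀ ω, Cfsg.classInner θ (χ ω) = if (∀ w : ↥(W₁ ⊔ W₂), (w : G) ∈ W₂ → (ω * ψ₀⁻¹) w = 1) then a else 0) ∨ (∃ (φ₀ : ↥(W₁ ⊔ W₂) →* ℂˣ) (a : ℂ), ∀ ω, Cfsg.classInner θ (χ ω) = if (∀ w : ↥(W₁ ⊔ W₂), (w : G) ∈ W₁ → (ω * φ₀⁻¹) w = 1) then a else 0) := by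
  have := Fintype.ofFinite W₁
  have := Fintype.ofFinite W₂
  have hc := hW.2.2.2.1
  have hd := hW.2.2.1
  have E := hχ.isEta hc hd
  have C := hW.cycTI hodd
  have e := chi_eq_eta hc hd χ
  have := E.small C hθ (fun w hw => hθV (pairEquiv hc hd w) ((pairHom_mem_V hc hd w).mp hw).1
    ((pairHom_mem_V hc hd w).mp hw).2) (by
      rw [min_eq_left hlt.le]
      convert hfew using 1
      rw [← Fintype.card_subtype, ← Nat.card_eq_fintype_card]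
      exact Nat.card_congr ((hatEquiv hc hd).symm.toEquiv.subtypeEquiv (fun _ => Iff.rfl)))
  rcases this with h | ⟨a, t, h⟩ | ⟨a, t, h⟩
  · exact Or.inl (fun ω => by rw [e]; exact h _ _)
  · refine Or.inr (Or.inl ⟨(hatEquiv hc hd).symm (1, a), t, fun ω => ?_⟩)
    have e2 := (hatEquiv hc hd).apply_symm_apply (1, a)
    rw [hatEquiv_apply, Prod.mk.injEq] at e2
    rw [e, h]
    refine if_congr ?_ rfl rfl
    rw [← hatR_eq_one, hatR_mul, show hatR ((hatEquiv hc hd).symm (1, a))⁻¹ = (hatR ((hatEquiv hc hd).symm (1, a)))⁻¹ from rfl, e2.2, hat_mul_inv_eq_one]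
  · refine Or.inr (Or.inr ⟨(hatEquiv hc hd).symm (a, 1), t, fun ω => ?_⟩)
    have e2 := (hatEquiv hc hd).apply_symm_apply (a, 1)
    rw [hatEquiv_apply, Prod.mk.injEq] at e2
    rw [e, h]
    refine if_congr ?_ rfl rfl
    rw [← hatL_eq_one, hatL_mul, show hatL ((hatEquiv hc hd).symm (a, 1))⁻¹ = (hatL ((hatEquiv hc hd).symm (a, 1)))⁻¹ from rfl, e2.1, hat_mul_inv_eq_one]

end Cfsg.Agent.S1507
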