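import Cfsg.Statements.S1511
import Cfsg.Agent.H3.PF4b

set_option autoImplicit false
open Cfsg

namespace Cfsg.Agent.S1511
open CfsgH3

/-- Let L be a finite group with K normal with complement W₁ ≠ 1 a cyclic Hall subgroup, and W₂ ≠ 1 a cyclic subgroup of K equal to C_K(x) for every non-identity x ∈ W₁, with W₁W₂ of odd order. Then there are a map μ from the linear characters of W = W₁ ⊔ W₂ to irreducible characters of L, injective, and a sign δ(ω) ∈ {1, −1} depending only on the values of ω on W₂, such that: for ω, ω' agreeing on W₂, the function induced to L from ω − ω' equals δ(ω) • (μ ω − μ ω'); μ ω x = δ(ω) ω x for x ∈ W outside W₂; every irreducible character of L not of the form μ ω vanishes on W outside W₂; and μ ω 1 − δ(ω) is an integer multiple of Nat.card W₁. -/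
theorem result {L : Type*} [Group L] [Fintype L] (K W₁ W₂ : Subgroup L) [hK : K.Normal] (hKW₁ : K ⊓ W₁ = ⊥) (hKW₁' : K ⊔ W₁ = ⊤) (hW₁ : W₁ ≠ ⊥) (hW₁c : IsCyclic W₁) (hHall : Nat.Coprime (Nat.card W₁) W₁.index) (hW₂ : W₂ ≠ ⊥) (hW₂c : IsCyclic W₂) (hW₂K : W₂ ≤ K) (hC : ∀ x ∈ W₁, x ≠ 1 → K ⊓ Subgroup.centralizer ({x} : Set L) = W₂) (hodd : Odd (Nat.card ↥(W₁ ⊔ W₂))) : ∃ (μ : (↥(W₁ ⊔ W₂) →* ℂˣ) → (L → ℂ)) (δ : (↥(W₁ ⊔ W₂) →* ℂˣ) → ℂ), Function.Injective μ ∧ (∀ ω, Cfsg.IsIrrCharacter L (μ ω)) ∧ (∀ ω, δ ω = 1 ∨ δ ω = -1) ∧ (∀ ω ω' : ↥(W₁ ⊔ W₂) →* ℂˣ, (∀ w : ↥(W₁ ⊔ W₂), (w : L) ∈ W₂ → ω w = ω' w) → δ ω = δ ω' ∧ Cfsg.indFun (W₁ ⊔ W₂) (fun w => (ω w : ℂ) - (ω' w : ℂ)) = δ ω • (μ ω - μ ω')) ∧ (∀ ω, ∀ w : ↥(W₁ ⊔ W₂), (w : L) ∉ W₂ → μ ω w = δ ω * (ω w : ℂ)) ∧ (∀ θ : L → ℂ, Cfsg.IsIrrCharacter L θ → (∀ ω, θ ≠ μ ω) → ∀ w : ↥(W₁ ⊔ W₂), (w : L) ∉ W₂ → θ w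 = 0) ∧ (∀ ω, ∃ n : ℤ, μ ω 1 - δ ω = n * (Nat.card W₁ : ℂ)) := by
  have P := primeTI_pair' hKW₁ hKW₁' hW₁ hW₁c hHall hW₂ hW₂c hW₂K hC hodd
  have := Fintype.ofFinite W₁
  have := Fintype.ofFinite W₂
  obtain ⟨μ, δ, M⟩ := P.exists_mu
  have h := comm_of_cent hC
  have hd : W₁ ⊓ W₂ = ⊥ := P.cycTI.selfNorm.2.2.1
  have key : ∀ w : ↥(W₁ ⊔ W₂), (w : L) ∉ W₂ → ∃ z : W₁ × W₂, z.1 ≠ 1 ∧ w = pairEquiv h hd z := by
    intro w hw
    obtain ⟨z, rfl⟩ := (pairEquiv h hd).surjective w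
    exact ⟨z, fun e => hw (by simp [e]), rfl⟩
  refine ⟨fun ω => μ (hatL ω) (hatR ω), fun ω => δ (hatR ω), fun a b e => ?_, fun ω => M.irr _ _,
    fun ω => ?_, fun ω ω' e => ?_, fun ω w hw => ?_, fun θ hθ hne w hw => ?_, fun ω => ?_⟩
  · exact (hatEquiv h hd).injective (Prod.ext (M.inj e).1 (M.inj e).2)
  · rcases M.sign (hatR ω) with e | e <;> simp [e]
  · have e' : hatR ω = hatR ω' := MonoidHom.ext (fun x => e _ x.2)
    refine ⟨by simp only [e'], ?_⟩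
    rw [indFun_sup h hd]
    simp only [← om_hat, e']
    have := congrArg₂ (· - ·) (M.ind_sub (hatL ω) (hatR ω')) (M.ind_sub (hatL ω') (hatR ω'))
    simp only [← ind_sub P.inj, sub_sub_sub_cancel_right] at this
    rw [smul_sub, ← this]; rfl
  · obtain ⟨z, hz, rfl⟩ := key w hw
    rw [← om_hat]; exact M.eq_on P _ _ hz
  · obtain ⟨z, hz, rfl⟩ := key w hw
    refine M.vanish P hθ.classFun (fun i j => hθ.inner_of_ne (M.irr i j) ?_) hz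
    obtain ⟨ω, e⟩ := (hatEquiv h hd).surjective (i, j)
    rw [hatEquiv_apply, Prod.mk.injEq] at e
    rw [← e.1, ← e.2]; exact hne ω
  · obtain ⟨n, hn⟩ := M.deg_mod P (hatL ω) (hatR ω)
    exact ⟨n, by simp only [hn]; ring⟩

end Cfsg.Agent.S1511
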