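import Cfsg.Statements.S1513
import Cfsg.Agent.H3.PF4b

set_option autoImplicit false
open Cfsg

namespace Cfsg.Agent.S1513
open CfsgH3

/-- Let L be a finite group with K normal with complement W₁ ≠ 1 a cyclic Hall subgroup, and W₂ ≠ 1 a cyclic subgroup of K equal to C_K(x) for every non-identity x ∈ W₁, with W₁W₂ of odd order. For an irreducible character θ of K: if θ is not fixed under conjugation by some element of W₁, then the function induced from θ to L is an irreducible character of L; and the irreducible characters of K fixed by all of W₁ are exactly Nat.card W₂ in number, each inducing to the sum of Nat.card W₁ pairwise distinct irreducible characters of L. -/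
theorem result {L : Type*} [Group L] [Fintype L] (K W₁ W₂ : Subgroup L) [hK : K.Normal] (hKW₁ : K ⊓ W₁ = ⊥) (hKW₁' : K ⊔ W₁ = ⊤) (hW₁ : W₁ ≠ ⊥) (hW₁c : IsCyclic W₁) (hHall : Nat.Coprime (Nat.card W₁) W₁.index) (hW₂ : W₂ ≠ ⊥) (hW₂c : IsCyclic W₂) (hW₂K : W₂ ≤ K) (hC : ∀ x ∈ W₁, x ≠ 1 → K ⊓ Subgroup.centralizer ({x} : Set L) = W₂) (hodd : Odd (Nat.card ↥(W₁ ⊔ W₂))) : (∀ θ : K → ℂ, Cfsg.IsIrrCharacter K θ → (∃ x ∈ W₁, (fun k : K => θ ⟨x * k * x⁻¹, hK.conj_mem (k : L) k.2 x⟩) ≠ θ) → Cfsg.IsIrrCharacter L (Cfsg.indFun K θ)) ∧ Nat.card {θ : Cfsg.IrrCharacter K // ∀ x ∈ W₁, (fun k : K => (θ : K → ℂ) ⟨x * k * x⁻¹, hK.conj_mem (k : L) k.2 x⟩) = θ} = Nat.card W₂ ∧ (∀ θ : K → ℂ, Cfsg.IsIrrCharacter K θ → (∀ x ∈ W₁, (fun k : K => θ ⟨x * k * x⁻¹, hK.conj_mem (k : L) k.2 x⟩) = θ) → ∃ C : Finset (L → ℂ), C.card = Nat.card W₁ ∧ (∀ μ ∈ C, Cfsg.IsIrrCharacter L μ) ∧ Cfsg.indFun K θ = ∑ μ ∈ C, μ) := by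
  classical
  have P := primeTI_pair' hKW₁ hKW₁' hW₁ hW₁c hHall hW₂ hW₂c hW₂K hC hodd
  have := Fintype.ofFinite W₁
  have := Fintype.ofFinite W₂
  obtain ⟨μ, δ, M⟩ := P.exists_mu
  have : Nontrivial W₁ := Finite.one_lt_card_iff_nontrivial.mp P.nt1
  obtain ⟨x₀, hx₀⟩ := exists_ne (1 : W₁)
  have key : ∀ θ : K → ℂ, IsIrrCharacter K θ → (∀ x ∈ W₁, cj x θ = θ) →
      ∃ j, θ = fun k : K => μ 1 j k := fun θ hθ h =>
    M.exists_of_fixed P hθ hx₀ (by simpa using h x₀ x₀.2)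
  refine ⟨fun θ hθ ⟨x, hx, hne⟩ => M.irr_ind P hθ (fun j e => hne ?_), ?_, fun θ hθ h => ?_⟩
  · subst e; exact cj_res (M.irr 1 j).classFun x
  · rw [← card_hat (comm_of_cyclic P.cyc2), ← Nat.card_eq_fintype_card]
    refine (Nat.card_eq_of_bijective (fun j : Hat W₂ =>
      (⟨⟨_, M.res_irr P j⟩, fun x _ => cj_res (M.irr 1 j).classFun x⟩ : {θ : Cfsg.IrrCharacter K // ∀ x ∈ W₁, (fun k : K => (θ : K → ℂ) ⟨x * k * x⁻¹, hK.conj_mem (k : L) k.2 x⟩) = θ})) ⟨fun a b e => M.res_inj P (congrArg (fun z => z.1.1) e), fun θ => ?_⟩).symm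
    obtain ⟨j, hj⟩ := key θ.1.1 θ.1.2 θ.2
    exact ⟨j, Subtype.ext (Subtype.ext hj.symm)⟩
  · obtain ⟨j, rfl⟩ := key θ hθ h
    have hi : Function.Injective (fun i => μ i j) := fun a b e => (M.inj e).1
    refine ⟨Finset.univ.image (fun i => μ i j), ?_, ?_, ?_⟩
    · rw [Finset.card_image_of_injective _ hi, Finset.card_univ, card_hat (comm_of_cyclic P.cyc1)]
    · simp only [Finset.mem_image]
      rintro _ ⟨i, -, rfl⟩; exact M.irr _ _
    · rw [Finset.sum_image (fun a _ b _ e => hi e), M.ind_res P]; rfl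

end Cfsg.Agent.S1513
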