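import Cfsg.Statements.S1514
import Cfsg.Agent.H3.PF5c

set_option autoImplicit false
open Cfsg

namespace Cfsg.Agent.S1514
open CfsgH3

/-- Let S be a nonempty set of irreducible characters of the finite group L, closed under complex conjugation and containing no real-valued member, and τ a linear isometry on the integer combinations of S vanishing at 1, with values virtual characters of G vanishing at 1. Then there is a choice R making (S, τ, R) a coherence system. -/
theorem result {L : Type*} [Group L] [Fintype L] {G : Type*} [Group G] [Fintype G] (S : Set (L → ℂ)) (hS : S.Nonempty) (hirr : ∀ χ ∈ S, Cfsg.IsIrrCharacter L χ) (hconj : ∀ χ ∈ S, Cfsg.conjFun χ ∈ S ∧ Cfsg.conjFun χ ≠ χ) (τ : (L → ℂ) → (G → ℂ)) (hτ : Cfsg.IsLinearIsometryOn (Cfsg.zspanOn S {1}ᶜ) τ) (hτ1 : ∀ α ∈ Cfsg.zspanOn S {1}ᶜ, τ α 1 = 0) : ∃ R : (L → ℂ) → Finset (G → ℂ), Cfsg.IsCoherenceSystem S τ R := by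
  classical
  obtain ⟨τ', I, e⟩ := exists_isoOn (fun χ h => (hirr χ h).isGen.exists_deg) hτ hτ1
  obtain ⟨R, C⟩ := irr_subcoh I hirr (fun χ h => (hconj χ h).1) (fun χ h => (hconj χ h).2)
  refine ⟨R, hS, C.char, C.conj_mem, C.conj_ne, hτ, hτ1, C.orth, fun χ h a ha b hb => ?_,
    fun χ h a ha => ((C.ons χ h).dirr a ha).isGen, fun χ h => ?_, fun χ h φ h' a b => C.disj χ h φ h' ?_ ?_⟩
  · split_ifs with e
    · rw [e, ((C.ons χ h).dirr b hb).ip_self]
    · exact (C.ons χ h).orth a ha b hb e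
  · rw [← C.sum_eq χ h, e _ (sub_mem (Submodule.subset_span h) (Submodule.subset_span (C.conj_mem χ h))) (C.sub_conj_one h)]
  · rintro rfl; exact C.ne_zero h (inner_self_eq_zero.mp a)
  · rintro rfl; exact C.ne_zero h' (inner_self_eq_zero.mp b)

end Cfsg.Agent.S1514
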