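import Cfsg.Statements.S1518
import Cfsg.Agent.H3.PF5c

set_option autoImplicit false
open Cfsg

namespace Cfsg.Agent.S1518
open CfsgH3

/-- Under the Dade hypothesis for (A, L, H): if χ is an irreducible character of L vanishing at every non-identity element of L outside A, then the Dade image of χ − conj χ equals μ − conj μ for some irreducible character μ of G. -/
theorem result {G : Type*} [Group G] [Fintype G] (A : Set G) (L : Subgroup G) [Fintype L] (H : G → Subgroup G) (hD : Cfsg.DadeHypothesis A L H) (χ : L → ℂ) (hχ : Cfsg.IsIrrCharacter L χ) (hsupp : ∀ x : L, x ≠ 1 → (x : G) ∉ A → χ x = 0) : ∃ μ : G → ℂ, Cfsg.IsIrrCharacter G μ ∧ Cfsg.dadeIsometry A L H (χ - Cfsg.conjFun χ) = μ - Cfsg.conjFun μ := by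
  rw [dadeIsometry_eq]
  by_cases h : conjFun χ = χ
  · exact ⟨fun _ => 1, isIrr_one, by rw [h, sub_self, map_zero]; ext; simp⟩
  have I := hD.dade.isoOn (S := {χ, conjFun χ}) (by
    rintro _ (rfl | rfl); exacts [hχ.isGen, hχ.isGen.conj_char]) (by
    rintro _ (rfl | rfl) l a b <;> simp [hsupp l a b])
  obtain ⟨a, b, ha, hb, -, e1, e2⟩ := I.exists_pair (by simp) (by simp) hχ h
  refine exists_irr_sub_conj (e1 ▸ ha.isGen.add hb.isGen) (e1 ▸ e2) (hD.dade.apply_one _) ?_
  rw [← dade_conjFun, ← map_neg, conjFun_sub, conjFun_conjFun, neg_sub]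

end Cfsg.Agent.S1518
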