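import Cfsg.Statements.S1523
import Cfsg.Agent.H3.PF6c

set_option autoImplicit false
open Cfsg

namespace Cfsg.Agent.S1523
open CfsgH3

/-- Let G be a finite group, p a prime, P a Sylow p-subgroup whose underlying set is a TI-subset of G, with L the set normaliser of P of odd order. Let Z ≠ ⊥ be a subgroup of P, normal in L and central in P, such that the centralisers in L of any two non-identity elements of Z have the same order. If ψ is an irreducible character of G taking the same value at all non-identity elements of Z, then for z ∈ Z, z ≠ 1, the value ψ z is an integer n with Nat.card P dividing ψ(1) − n (as integers, ψ 1 being the degree). -/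
theorem result {G : Type*} [Group G] [Finite G] (p : ℕ) [Fact p.Prime] (P : Sylow p G) (hTI : Cfsg.IsTISubset ((P : Subgroup G) : Set G)) (hodd : Odd (Nat.card (Subgroup.normalizer ((P : Subgroup G) : Set G)))) (Z : Subgroup G) (hZ1 : Z ≠ ⊥) (hZP : Z ≤ P) (hZn : ∀ x ∈ Subgroup.normalizer ((P : Subgroup G) : Set G), ∀ z ∈ Z, x * z * x⁻¹ ∈ Z) (hZc : ∀ z ∈ Z, ∀ y ∈ (P : Subgroup G), z * y = y * z) (hCL : ∀ z ∈ Z, ∀ z' ∈ Z, z ≠ 1 → z' ≠ 1 → Nat.card ↥(Subgroup.normalizer ((P : Subgroup G) : Set G) ⊓ Subgroup.centralizer ({z} : Set G)) = Nat.card ↥(Subgroup.normalizer ((P : Subgroup G) : Set G) ⊓ Subgroup.centralizer ({z'} : Set G))) (ψ : G → ℂ) (hψ : Cfsg.IsIrrCharacter G ψ) (hconst : ∀ z ∈ Z, ∀ z' ∈ Z, z ≠ 1 → z' ≠ 1 → ψ z = ψ z') (z : G) (hz : z ∈ Z) (hz1 : z ≠ 1) : ∃ n d : ℤ, ψ z = n ∧ ψ 1 = d ∧ (Nat.card (P : Subgroup G) : ℤ) ∣ d - n := by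
  have := Fintype.ofFinite G
  let L := Subgroup.normalizer ((P : Subgroup G) : Set G)
  have hZL : Z ≤ L := hZP.trans Subgroup.le_normalizer
  have : (Z.subgroupOf L).Normal := ⟨fun a ha g => hZn g g.2 a ha⟩
  obtain ⟨n, hn⟩ := dvd_sub_of_TI_sylow (H := (P : Subgroup G).subgroupOf L) L.subtype_injective
    (fun a ha b hb g e => by
      by_contra h
      exact ha.2 (Subtype.ext (hTI g (by simpa [L] using h) a ha.1 (by rw [show g * a * g⁻¹ = b from e]; exact hb.1))))
    hodd Fact.out P.2.comap_subtype (fun h => P.not_dvd_index (h.trans (Subgroup.relIndex_dvd_index_of_le Subgroup.le_normalizer)))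
    (Z := Z.subgroupOf L) (Subgroup.comap_mono hZP) (fun a ha b hb => Subtype.ext (hZc a ha b hb)) hψ.isDirr
    (fun a ha b hb a1 b1 => hconst a ha b hb (fun e => a1 (Subtype.ext e)) (fun e => b1 (Subtype.ext e)))
    (z := ⟨z, hZL hz⟩) hz (fun e => hz1 (congrArg Subtype.val e))
  obtain ⟨m, hm⟩ := exists_int_of_const hψ.isGen hconst hz hz1
  obtain ⟨d, hd⟩ := hψ.isGen.exists_deg
  rw [Nat.card_congr (Subgroup.subgroupOfEquivOfLe Subgroup.le_normalizer).toEquiv, hd, show L.subtype _ = z from rfl, hm] at hn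
  exact ⟨m, d, hm, hd, n, by rw [mul_comm]; exact_mod_cast hn⟩

end Cfsg.Agent.S1523
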