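import Cfsg.Statements.S1525
import Cfsg.Agent.H3.Dade

set_option autoImplicit false
open Cfsg

namespace Cfsg.Agent.S1525
open CfsgH3

/-- Under the Dade hypothesis for (A, L, H), let χ be a class function of G and let ψ be a function on L whose value at each a ∈ A is the average of χ over the coset a·H(a). Then (1/|G|) Σ |χ g|² over the elements g of G conjugate into some coset a·H(a) with a ∈ A is at least (1/|L|) Σ_{a ∈ A ∩ L} |ψ a|². -/
theorem result {G : Type*} [Group G] [Fintype G] (A : Set G) (L : Subgroup G) [Fintype L] (H : G → Subgroup G) (hD : Cfsg.DadeHypothesis A L H) (χ : G → ℂ) (hχ : Cfsg.IsClassFunction G χ) (ψ : L → ℂ) (hψ : ∀ a : L, (a : G) ∈ A → ψ a = (Nat.card (H a) : ℂ)⁻¹ * ∑ᶠ u ∈ (H a : Set G), χ (a * u)) : (Nat.card L : ℝ)⁻¹ * ∑ᶠ a ∈ {a : L | (a : G) ∈ A}, ‖ψ a‖ ^ 2 ≤ (Nat.card G : ℝ)⁻¹ * ∑ᶠ g ∈ {g : G | ∃ a ∈ A, ∃ u ∈ H a, ∃ x : G, x * g * x⁻¹ = a * u}, ‖χ g‖ ^ 2 := by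
  classical
  have h := hD.dade.norm_adj_le hχ
  rw [CfsgH3.inner_self_eq, CfsgH3.inner_self_eq, Complex.ofReal_re, Complex.ofReal_re] at h
  convert h using 2
  · rw [finsum_mem_def, finsum_eq_sum_of_fintype]
    refine Finset.sum_congr rfl (fun a _ => ?_)
    by_cases ha : (a : G) ∈ A
    · rw [Set.indicator_of_mem (show a ∈ {a : L | (a : G) ∈ A} from ha), hψ a ha, ← finsum_set_coe_eq_finsum_mem]
      congr 2
      exact (if_pos ha).symm
    · rw [Set.indicator_of_notMem (show a ∉ {a : L | (a : G) ∈ A} from ha), dadeAdj_of_not_mem _ (show a ∉ {a : L | (a : G) ∈ A} from ha)]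
      simp
  · rw [finsum_mem_def, finsum_eq_sum_of_fintype]
    refine Finset.sum_congr rfl (fun g _ => ?_)
    have : g ∈ {g : G | ∃ a ∈ A, ∃ u ∈ H a, ∃ x : G, x * g * x⁻¹ = a * u} ↔
        g ∈ dadeSupp L.subtype {a : L | (a : G) ∈ A} (fun a => H a) :=
      ⟨fun ⟨a, ha, h⟩ => ⟨⟨a, hD.subset ha⟩, ha, h⟩, fun ⟨a, ha, h⟩ => ⟨a, ha, h⟩⟩
    by_cases hg : g ∈ dadeSupp L.subtype {a : L | (a : G) ∈ A} (fun a => H a)
    · rw [Set.indicator_of_mem hg, Set.indicator_of_mem (this.mpr hg)]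
    · rw [Set.indicator_of_notMem hg, Set.indicator_of_notMem (fun h => hg (this.mp h))]
      simp

end Cfsg.Agent.S1525
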