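import Cfsg.Statements.S1526
import Cfsg.Agent.FT.PF7
import Cfsg.Agent.H3.PF6d
import Cfsg.Agent.H1.Frob

set_option autoImplicit false
open Cfsg

namespace Cfsg.Agent.S1526

open CfsgH3

/-- Let G be a finite group of odd order and (L i, H i), i in a finite index type with at least two elements, pairs of subgroups with H i a nontrivial proper normal subgroup of L i such that every non-identity element of H i has its centraliser within L i contained in H i (L i is a Frobenius group with kernel H i), the orders of the H i pairwise coprime, and the underlying set of each H i a TI-subset of G with normaliser L i. If every non-identity element of G is conjugate to an element of some H i, we reach a contradiction. -/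
theorem result {G : Type*} [Group G] [Finite G] (hodd : Odd (Nat.card G)) {ι : Type*} [Fintype ι] (hι : 2 ≤ Fintype.card ι) (L H : ι → Subgroup G) (hHL : ∀ i, H i < L i) (hH1 : ∀ i, H i ≠ ⊥) (hHn : ∀ i, ∀ x ∈ L i, ∀ h ∈ H i, x * h * x⁻¹ ∈ H i) (hfrob : ∀ i, ∀ h ∈ H i, h ≠ 1 → L i ⊓ Subgroup.centralizer ({h} : Set G) ≤ H i) (hcop : ∀ i j, i ≠ j → Nat.Coprime (Nat.card (H i)) (Nat.card (H j))) (hTI : ∀ i, Cfsg.IsTISubset (H i : Set G) ∧ Subgroup.normalizer (H i : Set G) = L i) (hcover : ∀ g : G, g ≠ 1 → ∃ i, ∃ x : G, x * g * x⁻¹ ∈ H i) : False := by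
  classical
  have := Fintype.ofFinite G
  have hn : ∀ i, ((H i).subgroupOf (L i)).Normal := fun i => ⟨fun a ha g => hHn i g g.2 a ha⟩
  have hF : ∀ i, ∀ x ∈ L i, x ∉ H i → ∀ k ∈ H i, Commute k x → k = 1 := fun i x hx hx' k hk c => by
    by_contra k1
    exact hx' (hfrob i k hk k1 ⟨hx, Subgroup.mem_centralizer_singleton_iff.2 c.symm.eq⟩)
  have hF' : ∀ i, ∀ x, x ∉ (H i).subgroupOf (L i) → ∀ k ∈ (H i).subgroupOf (L i), Commute k x → k = 1 :=
    fun i x hx k hk c => Subtype.ext (hF i x x.2 hx k hk (congrArg Subtype.val c))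
  have hT : ∀ i g, ∀ x ∈ H i, x ≠ 1 → g * x * g⁻¹ ∈ H i → g ∈ L i := fun i g x hx x1 h => by
    by_contra hg
    exact x1 ((hTI i).1 g (by rwa [(hTI i).2]) x hx h)
  have K1 : ∀ i, (H i).subgroupOf (L i) ≠ ⊥ := fun i e => hH1 i (by
    rwa [Subgroup.subgroupOf_eq_bot, disjoint_iff, inf_of_le_left (hHL i).le] at e)
  have hnil : ∀ i, Group.IsNilpotent ((H i).subgroupOf (L i)) := fun i => by
    obtain ⟨m, hm⟩ := frob_index_dvd (hF' i)
    obtain ⟨R, hR⟩ := Subgroup.exists_right_complement'_of_coprime (N := (H i).subgroupOf (L i))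
      (by rw [hm]; simp)
    refine CfsgH1.nilpotent_of_fpf' (R := R) (by rw [Subgroup.normalizer_eq_top]; exact le_top) ?_ ?_
    · rintro rfl
      exact (hHL i).ne (le_antisymm (hHL i).le (Subgroup.subgroupOf_eq_top.1 (by simpa using hR.sup_eq_top)))
    · intro x hx x1
      refine eq_bot_iff.2 (fun k hk => hF' i x (fun m => x1 ?_) k hk.1
        (Subgroup.mem_centralizer_singleton_iff.1 hk.2))
      exact (Subgroup.disjoint_def.1 hR.disjoint) m hx
  refine no_partition hodd hι L H hHL hH1 hn hF hcop hT hcover (fun i => ?_) (fun i => ?_)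
  · have := (Subgroup.nontrivial_iff_ne_bot _).2 (K1 i)
    exact (Group.IsSolvable.commutator_lt_top_of_nontrivial _).ne
  · have TI : TIOn (L i).subtype (sh ((H i).subgroupOf (L i))) := fun a ha b hb g e => by
      rw [Subgroup.range_subtype]
      exact hT i g a ha.1 (fun e => ha.2 (Subtype.ext e)) (by
        rw [show g * (a : G) * g⁻¹ = b from e]; exact hb.1)
    have D := TI.dade Subtype.val_injective (fun m => m.2 rfl) sh_conj
    refine (sibley_frob (L i).subtype_injective TI (hodd.of_dvd_nat (L i).card_subgroup_dvd_card)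
      (frobQ_bot.2 (fun a ha a1 x e => by_contra fun hx => a1 (hF' i x hx a ha e.symm)))).congr
      (fun α ha h1 => (D.eq_ind (classFun_of_span (fun χ hχ => (indD_char hχ).classFun) ha) (fun x hx => by
        by_cases e : x = 1
        · rw [e, h1]
        · exact eq_zero_of_span (fun χ hχ => indD_out hχ (fun m => hx ⟨m, e⟩)) ha) (fun _ _ _ => rfl)).symm)

end Cfsg.Agent.S1526
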