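import Cfsg.Statements.S1527
import Cfsg.Agent.FT.PF7

set_option autoImplicit false
open Cfsg

namespace Cfsg.Agent.S1527

open CfsgH3

/-- Let G be a finite group and H i (i in a finite index type) subgroups of pairwise coprime orders, each of whose underlying sets is a TI-subset of G, such that every non-identity element of G is conjugate to an element of some H i. Then Nat.card G − 1 = Σ_i [G : N_G(H i)] · (Nat.card (H i) − 1). -/
theorem result {G : Type*} [Group G] [Finite G] {ι : Type*} [Fintype ι] (H : ι → Subgroup G) (hcop : ∀ i j, i ≠ j → Nat.Coprime (Nat.card (H i)) (Nat.card (H j))) (hTI : ∀ i, Cfsg.IsTISubset (H i : Set G)) (hcover : ∀ g : G, g ≠ 1 → ∃ i, ∃ x : G, x * g * x⁻¹ ∈ H i) : Nat.card G - 1 = ∑ i, (Subgroup.normalizer (H i : Set G)).index * (Nat.card (H i) - 1) := by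
  classical
  have := Fintype.ofFinite G
  set L : ι → Subgroup G := fun i => Subgroup.normalizer (H i : Set G) with hL
  have hn : ∀ i, ((H i).subgroupOf (L i)).Normal := fun i => Subgroup.normal_in_normalizer
  set K : ∀ i, Subgroup (L i) := fun i => (H i).subgroupOf (L i) with hK
  have D : ∀ i, Dade (L i).subtype (sh (K i)) (fun _ => ⊥) := fun i =>
    TIOn.dade Subtype.val_injective (fun a ha b hb g e => by
      rw [Subgroup.range_subtype]
      by_contra hg
      exact ha.2 (Subtype.ext (hTI i g hg a ha.1 (by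
        rw [show g * (a : G) * g⁻¹ = b from e]; exact hb.1)))) (fun m => m.2 rfl) sh_conj
  set S : ι → Set G := fun i => dadeSupp (L i).subtype (sh (K i)) (fun _ => ⊥) with hS
  have hs : ∀ i g, g ∈ S i ↔ g ≠ 1 ∧ ∃ x : G, x * g * x⁻¹ ∈ H i := fun i g => by
    constructor
    · rintro ⟨a, ha, u, hu, x, e⟩
      rw [Subgroup.mem_bot.1 hu, mul_one] at e
      refine ⟨fun e1 => ha.2 (Subtype.ext ?_), x, e ▸ ha.1⟩
      simpa [e1] using e.symm
    · rintro ⟨h1, x, hx⟩
      refine ⟨⟨_, Subgroup.le_normalizer hx⟩, ⟨hx, fun e => h1 ?_⟩, 1, Subgroup.one_mem _, x, by simp⟩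
      have e2 : x * g * x⁻¹ = 1 := congrArg Subtype.val e
      have : g = x⁻¹ * (x * g * x⁻¹) * x := by group
      rw [this, e2]; group
  have c1 : ∀ i, (S i).ncard = (L i).index * (Nat.card (H i) - 1) := fun i => by
    have h := (D i).card_supp
    have e1 : (sh (K i)).ncard = Nat.card (H i) - 1 := by
      rw [← Nat.card_congr (Subgroup.subgroupOfEquivOfLe (Subgroup.le_normalizer (H := H i))).toEquiv,
        show sh (K i) = (K i : Set (L i)) \ {1} from rfl, Set.ncard_diff_singleton_of_mem (K i).one_mem]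
      rfl
    have e2 := (L i).card_mul_index
    have p1 : (0 : ℝ) < Nat.card (L i) := by exact_mod_cast Nat.card_pos
    have p2 : (0 : ℝ) < Nat.card G := by exact_mod_cast Nat.card_pos
    rw [e1, div_eq_div_iff p2.ne' p1.ne', ← e2, Nat.cast_mul] at h
    have : ((S i).ncard : ℝ) = (L i).index * ((Nat.card (H i) - 1 : ℕ) : ℝ) :=
      mul_right_cancel₀ p1.ne' (by rw [h]; ring)
    exact_mod_cast this
  have e : ({1}ᶜ : Set G) = ⋃ i, S i := by
    ext g
    simp only [Set.mem_compl_iff, Set.mem_singleton_iff, Set.mem_iUnion, hs]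
    exact ⟨fun h => (hcover g h).imp fun i hi => ⟨h, hi⟩, fun ⟨i, hi⟩ => hi.1⟩
  have c2 : ({1}ᶜ : Set G).ncard = Nat.card G - 1 := by
    rw [Set.ncard_compl]; simp
  rw [← c2, e, Set.ncard_iUnion_of_finite (fun i => Set.toFinite _), finsum_eq_sum_of_fintype]
  · exact Finset.sum_congr rfl (fun i _ => c1 i)
  · intro i k hik
    rw [Function.onFun, Set.disjoint_left]
    intro g h1 h2
    obtain ⟨g1, x, hx⟩ := (hs i g).1 h1
    obtain ⟨-, y, hy⟩ := (hs k g).1 h2
    have a := orderOf_dvd_card_of_mem hx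
    have b := orderOf_dvd_card_of_mem hy
    rw [show x * g * x⁻¹ = MulAut.conj x g from rfl, MulEquiv.orderOf_eq] at a
    rw [show y * g * y⁻¹ = MulAut.conj y g from rfl, MulEquiv.orderOf_eq] at b
    exact g1 (orderOf_eq_one_iff.1 (Nat.eq_one_of_dvd_coprimes (hcop i k hik) a b))

end Cfsg.Agent.S1527
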