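import Cfsg.Statements.S1528
import Cfsg.Agent.FT.PF7

set_option autoImplicit false
open Cfsg

namespace Cfsg.Agent.S1528

open CfsgH3

/-- Let N be a normal subgroup of the finite group G such that every element of G commuting with a non-identity element of N lies in N. If χ is an irreducible character of G with χ n ≠ χ 1 for some n ∈ N, then χ is the function induced from some irreducible character of N. -/
theorem result {G : Type*} [Group G] [Fintype G] (N : Subgroup G) [N.Normal] (hC : ∀ n ∈ N, n ≠ 1 → Subgroup.centralizer ({n} : Set G) ≤ N) (χ : G → ℂ) (hχ : Cfsg.IsIrrCharacter G χ) (hker : ∃ n ∈ N, χ n ≠ χ 1) : ∃ φ : N → ℂ, Cfsg.IsIrrCharacter N φ ∧ χ = Cfsg.indFun N φ := by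
  classical
  obtain ⟨θ, hθ, h⟩ := hχ.exists_res_constituent N
  have h1 : θ ≠ fun _ => 1 := by
    rintro rfl
    obtain ⟨n, hn, e⟩ := hker
    exact e (ker_of_ip_res_one hχ h n hn)
  have hi := irr_indFun_of_inertia_le hθ (frob_inertia_le (fun x hx k hk c => by
    by_contra k1
    exact hx (hC k hk k1 (Subgroup.mem_centralizer_singleton_iff.2 c.symm.eq))) hθ h1)
  refine ⟨θ, hθ, hχ.eq_of_inner_ne_zero hi ?_⟩
  rwa [inner_indFun_right N θ hχ.isChar.classFun]

end Cfsg.Agent.S1528
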