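import Cfsg.Statements.S1529
import Cfsg.Agent.H3.PF5c

set_option autoImplicit false
open Cfsg

namespace Cfsg.Agent.S1529
open CfsgH3

/-- Let N be a subgroup of the finite group G, S a set of irreducible characters of N with at least two members, and τ₁ a linear isometry on the integer combinations of S with virtual-character values such that τ₁ α vanishes at 1 whenever α ∈ ℤ[S] does. Then there is ε ∈ {1, −1} such that ε • τ₁ χ is an irreducible character of G for every χ ∈ S, and distinct members of S give distinct characters. -/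
theorem result {G : Type*} [Group G] [Fintype G] (N : Subgroup G) [Fintype N] (S : Set (N → ℂ)) (hirr : ∀ χ ∈ S, Cfsg.IsIrrCharacter N χ) (htwo : ∃ χ ∈ S, ∃ ψ ∈ S, χ ≠ ψ) (τ₁ : (N → ℂ) → (G → ℂ)) (hτ₁ : Cfsg.IsLinearIsometryOn (Cfsg.zspan S) τ₁) (h0 : ∀ α ∈ Cfsg.zspan S, α 1 = 0 → τ₁ α 1 = 0) : ∃ ε : ℂ, (ε = 1 ∨ ε = -1) ∧ (∀ χ ∈ S, Cfsg.IsIrrCharacter G (ε • τ₁ χ)) ∧ (∀ χ ∈ S, ∀ ψ ∈ S, τ₁ χ = τ₁ ψ → χ = ψ) := by
  obtain ⟨ν, h, e⟩ := cohWith_of_isLin (τ₀ := τ₁) (fun χ h => (hirr χ h).isGen.exists_deg) hτ₁ (fun _ _ => rfl)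
    (τ := (exists_linear_of_iso _ τ₁ hτ₁.2.2.1).choose) (fun α ha _ => (exists_linear_of_iso _ τ₁ hτ₁.2.2.1).choose_spec α ha)
  obtain ⟨τ, I, e'⟩ := exists_isoOn (τ₀ := τ₁) (fun χ h => (hirr χ h).isGen.exists_deg)
    ⟨fun a ha b hb => hτ₁.1 a ha.1 b hb.1, fun a ha => hτ₁.2.1 a ha.1, fun a ha b hb => hτ₁.2.2.1 a ha.1 b hb.1,
      fun a ha => hτ₁.2.2.2 a ha.1⟩ (fun a ha => h0 a ha.1 (mem_zspanOn.mp ha).2)
  obtain ⟨ν, h, e⟩ := cohWith_of_isLin (τ₀ := τ₁) (fun χ h => (hirr χ h).isGen.exists_deg) hτ₁ (fun _ _ => rfl) e'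
  obtain ⟨ε, h1, h2⟩ := h.exists_sign I
  refine ⟨ε, h1, fun χ hχ => e χ (Submodule.subset_span hχ) ▸ h2 χ hχ (hirr χ hχ), fun χ hχ ψ hψ e1 => ?_⟩
  refine (hirr χ hχ).eq_of_inner_ne_zero (hirr ψ hψ) ?_
  rw [← h.iso χ hχ ψ hψ, e χ (Submodule.subset_span hχ), e ψ (Submodule.subset_span hψ), e1,
    ← e ψ (Submodule.subset_span hψ), h.iso ψ hψ ψ hψ, (hirr ψ hψ).inner_self]
  exact one_ne_zero

end Cfsg.Agent.S1529
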