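import Cfsg.Statements.S1530
import Cfsg.Agent.H3.PF6b

set_option autoImplicit false
open Cfsg

namespace Cfsg.Agent.S1530
open CfsgH3

/-- Let N be a subgroup of the finite group G and S₀ a finite set of irreducible characters of N, χ an irreducible character of N not in S₀, with degrees ξ 1 = d ξ. Let τ be a linear isometry on the integer combinations of S₀ ∪ {χ} vanishing at 1, with values virtual characters of G vanishing at 1, such that (S₀, N minus 1, τ) is coherent. If some ψ ∈ S₀ has d ψ dividing d χ and 2 · d ψ · d χ < Σ_{ξ ∈ S₀} (d ξ)², then (S₀ ∪ {χ}, N minus 1, τ) is coherent. -/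
theorem result {G : Type*} [Group G] [Fintype G] (N : Subgroup G) [Fintype N] (S₀ : Finset (N → ℂ)) (χ : N → ℂ) (hirr : ∀ ξ ∈ S₀, Cfsg.IsIrrCharacter N ξ) (hχ : Cfsg.IsIrrCharacter N χ) (hχS : χ ∉ S₀) (d : (N → ℂ) → ℕ) (hd : ∀ ξ ∈ insert χ S₀, ξ 1 = (d ξ : ℂ)) (τ : (N → ℂ) → (G → ℂ)) (hτ : Cfsg.IsLinearIsometryOn (Cfsg.zspanOn (↑(insert χ S₀) : Set (N → ℂ)) {1}ᶜ) τ) (hτ1 : ∀ α ∈ Cfsg.zspanOn (↑(insert χ S₀) : Set (N → ℂ)) {1}ᶜ, τ α 1 = 0) (hcoh : Cfsg.IsCoherent (↑S₀ : Set (N → ℂ)) {1}ᶜ τ) (ψ : N → ℂ) (hψ : ψ ∈ S₀) (hdvd : d ψ ∣ d χ) (hlt : 2 * d ψ * d χ < ∑ ξ ∈ S₀, d ξ ^ 2) : Cfsg.IsCoherent (↑(insert χ S₀) : Set (N → ℂ)) {1}ᶜ τ := by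
  have hi : ∀ ξ ∈ (↑(insert χ S₀) : Set (N → ℂ)), IsIrrCharacter N ξ := by
    simpa [hχ] using hirr
  obtain ⟨τ', I, e⟩ := exists_isoOn (fun χ h => (hi χ h).isGen.exists_deg) hτ hτ1
  have hS : (↑S₀ : Set (N → ℂ)) ⊆ ↑(insert χ S₀) := by simp
  obtain ⟨a, ha⟩ := hdvd
  refine Coh.isCoherent ((irr_extend I hi hS (hcoh.coh (fun χ h => (hirr χ h).isGen.exists_deg)
    (fun α h => e α (Submodule.span_mono hS h))) hψ (by simp) hχS (a := a) ?_ ?_).mono (by simp)) e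
    (exists_ne_zero_of_two (by simp) (hS hψ) hχ (hirr ψ hψ) (fun e => hχS (e ▸ hψ)))
  · rw [hd χ (by simp), hd ψ (hS hψ), ha]; push_cast; ring
  · rw [hd χ (by simp), hd ψ (hS hψ), Finset.sum_congr rfl (fun ξ h => by rw [hd ξ (hS h), (hirr ξ h).inner_self])]
    simp only [Complex.natCast_re, Complex.one_re, div_one]
    rw [mul_right_comm]; exact_mod_cast hlt

end Cfsg.Agent.S1530
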