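import Cfsg.Statements.S1531
import Cfsg.Agent.H3.PF6b

set_option autoImplicit false
open Cfsg

namespace Cfsg.Agent.S1531
open CfsgH3

/-- Let N be a subgroup of the finite group G, S a set of irreducible characters of N, and α a linear isometry on the integer combinations of S vanishing at 1 with values virtual characters of G vanishing at 1. Let X, Y ⊆ S be disjoint, each with at least two members, and σ, τ linear isometries on ℤ[X], ℤ[Y] into virtual characters agreeing with α on the members vanishing at 1. Then ⟨σ χ, τ η⟩ = 0 for χ ∈ X, η ∈ Y; and if for some χ₀ ∈ X, η₀ ∈ Y with degrees c = χ₀ 1, e = η₀ 1 one has α (c • η₀ − e • χ₀) = c • τ η₀ − e • σ χ₀, then (X ∪ Y, N minus 1, α) is coherent. -/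
theorem result {G : Type*} [Group G] [Fintype G] (N : Subgroup G) [Fintype N] (S X Y : Set (N → ℂ)) (hirr : ∀ ξ ∈ S, Cfsg.IsIrrCharacter N ξ) (hXS : X ⊆ S) (hYS : Y ⊆ S) (hXY : Disjoint X Y) (hX2 : ∃ a ∈ X, ∃ b ∈ X, a ≠ b) (hY2 : ∃ a ∈ Y, ∃ b ∈ Y, a ≠ b) (α : (N → ℂ) → (G → ℂ)) (hα : Cfsg.IsLinearIsometryOn (Cfsg.zspanOn S {1}ᶜ) α) (hα1 : ∀ θ ∈ Cfsg.zspanOn S {1}ᶜ, α θ 1 = 0) (σ τ : (N → ℂ) → (G → ℂ)) (hσ : Cfsg.IsLinearIsometryOn (Cfsg.zspan X) σ) (hσα : ∀ θ ∈ Cfsg.zspanOn X {1}ᶜ, σ θ = α θ) (hτ : Cfsg.IsLinearIsometryOn (Cfsg.zspan Y) τ) (hτα : ∀ θ ∈ Cfsg.zspanOn Y {1}ᶜ, τ θ = α θ) : (∀ χ ∈ X, ∀ η ∈ Y, Cfsg.classInner (σ χ) (τ η) = 0) ∧ ((∃ χ₀ ∈ X, ∃ η₀ ∈ Y, α (χ₀ 1 • η₀ - η₀ 1 • χ₀) = χ₀ 1 • τ η₀ - η₀ 1 • σ χ₀) → Cfsg.IsCoherent (X ∪ Y) {1}ᶜ α) := by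
  obtain ⟨τ', I, e⟩ := exists_isoOn (fun χ h => (hirr χ h).isGen.exists_deg) hα hα1
  obtain ⟨ν₁, h₁, e₁⟩ := cohWith_of_isLin (fun χ h => (hirr χ (hXS h)).isGen.exists_deg) hσ hσα
    (fun α h => e α (Submodule.span_mono hXS h))
  obtain ⟨ν₂, h₂, e₂⟩ := cohWith_of_isLin (fun χ h => (hirr χ (hYS h)).isGen.exists_deg) hτ hτα
    (fun α h => e α (Submodule.span_mono hYS h))
  have ho : ∀ a ∈ X, ∀ b ∈ Y, classInner a b = 0 := fun a ha b hb =>
    (hirr a (hXS ha)).inner_of_ne (hirr b (hYS hb)) (fun e => Set.disjoint_left.mp hXY ha (e ▸ hb))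
  have key := coh_orth_of_irr I hirr hXS hYS hXY hX2 hY2 h₁ h₂
  refine ⟨fun a ha b hb => ?_, fun ⟨a, ha, b, hb, h⟩ => ?_⟩
  · rw [← e₁ a (Submodule.subset_span ha), ← e₂ b (Submodule.subset_span hb), key a ha b hb]
  · obtain ⟨x, hx, y, hy, hxy⟩ := hX2
    obtain ⟨m, hm0, hm⟩ := (hirr a (hXS ha)).exists_deg
    obtain ⟨n, hn0, hn⟩ := (hirr b (hYS hb)).exists_deg
    obtain ⟨ν, h3, -⟩ := coh_union h₁ h₂ hXY ho key (Submodule.smul_mem _ (b 1) (Submodule.subset_span ha))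
      (Submodule.smul_mem _ (a 1) (Submodule.subset_span hb)) (by simp [mul_comm]) (by simp [hm, hn, hm0.ne', hn0.ne'])
      (by rw [← neg_sub, map_neg, e _ (by
            rw [hm, hn]
            exact sub_mem (nat_smul_mem _ (Submodule.subset_span (hYS hb))) (nat_smul_mem _ (Submodule.subset_span (hXS ha))))
            (by simp [mul_comm]), h, map_smul, map_smul, e₁ a (Submodule.subset_span ha),
            e₂ b (Submodule.subset_span hb), neg_sub])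
    exact Coh.isCoherent ⟨ν, h3⟩ (fun α h => e α (Submodule.span_mono (Set.union_subset hXS hYS) h))
      (exists_ne_zero_of_two (Or.inl hx) (Or.inl hy) (hirr x (hXS hx)) (hirr y (hXS hy)) hxy)

end Cfsg.Agent.S1531
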