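import Cfsg.Statements.S1532
import Cfsg.Agent.H4.Coh

set_option autoImplicit false
open Cfsg

namespace Cfsg.Agent.S1532

open CfsgH4 CfsgH3

/-- Let G be a finite group, p an odd prime and P a Sylow p-subgroup that is non-abelian, whose underlying set is a TI-subset of G, with P properly contained in its set normaliser N and C_G(x) ≤ P for every non-identity x ∈ P. Let Z be a nontrivial subgroup of the centre of P normalised by N. Then the set of irreducible characters χ of N with χ z ≠ χ 1 for some z ∈ Z is coherent for the map induced by induction from N to G. -/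
theorem result {G : Type*} [Group G] [Fintype G] (p : ℕ) [Fact p.Prime] (hp : p ≠ 2) (P : Sylow p G) (hna : ¬ IsMulCommutative (P : Subgroup G)) (hTI : Cfsg.IsTISubset ((P : Subgroup G) : Set G)) (hlt : (P : Subgroup G) < Subgroup.normalizer ((P : Subgroup G) : Set G)) (hC : ∀ k ∈ (P : Subgroup G), k ≠ 1 → Subgroup.centralizer ({k} : Set G) ≤ (P : Subgroup G)) [Fintype ↥(Subgroup.normalizer ((P : Subgroup G) : Set G))] (Z : Subgroup G) (hZ1 : Z ≠ ⊥) (hZP : ∀ z ∈ Z, z ∈ (P : Subgroup G) ∧ ∀ y ∈ (P : Subgroup G), z * y = y * z) (hZn : ∀ x ∈ Subgroup.normalizer ((P : Subgroup G) : Set G), ∀ z ∈ Z, x * z * x⁻¹ ∈ Z) : Cfsg.IsCoherent {χ : ↥(Subgroup.normalizer ((P : Subgroup G) : Set G)) → ℂ | Cfsg.IsIrrCharacter ↥(Subgroup.normalizer ((P : Subgroup G) : Set G)) χ ∧ ∃ z : ↥(Subgroup.normalizer ((P : Subgroup G) : Set G)), (z : G) ∈ Z ∧ χ z ≠ χ 1} {1}ᶜ (fun α => Cfsg.indFun (Subgroup.normalizer ((P : Subgroup G) : Set G)) α) := by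
  have hp' : p.Prime := Fact.out
  have hP := P.isPGroup'
  generalize (P : Subgroup G) = K at *
  generalize hN : Subgroup.normalizer (K : Set G) = N at *
  have : (K.subgroupOf N).Normal := Subgroup.normal_subgroupOf_of_le_normalizer hN.ge
  have : (Z.subgroupOf N).Normal := ⟨fun z hz x => hZn x x.2 z hz⟩
  have hf : FrobQ (K.subgroupOf N) (K.subgroupOf N) ⊥ := frobQ_of_hC fun k hk h1 y hy =>
      hC k hk (fun e => h1 (Subtype.ext e)) (Subgroup.mem_centralizer_singleton_iff.2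
        (congrArg Subtype.val (Subgroup.mem_centralizer_singleton_iff.1 hy)))
  have hZ : Z.subgroupOf N ≤ K.subgroupOf N := fun z hz => (hZP z hz).1
  have hirr : ∀ χ ∈ indD (K.subgroupOf N) (Z.subgroupOf N) ⊥, IsIrrCharacter N χ :=
    fun _ h => (hf.mono hZ).irr hZ h
  have hS : {χ : N → ℂ | IsIrrCharacter N χ ∧ ∃ k : N, (k : G) ∈ Z ∧ χ k ≠ χ 1} =
    indD (K.subgroupOf N) (Z.subgroupOf N) ⊥ := Set.ext fun _ => (mem_indD_of_irr hZ hirr).symm
  have h1 : Z.subgroupOf N ≠ ⊥ := fun e => hZ1 (by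
    rwa [Subgroup.subgroupOf_eq_bot, disjoint_iff, inf_of_le_left fun z hz => hlt.le (hZP z hz).1] at e)
  have hT : TIOn N.subtype {h | h ∈ K.subgroupOf N ∧ h ≠ 1} := fun a ha b hb g e => by
    by_contra h
    exact ha.2 (Subtype.ext (hTI g (by simpa [hN] using h) a ha.1
      (by rw [show g * a * g⁻¹ = b from e]; exact hb.1)))
  have hK : IsPGroup p (K.subgroupOf N) := hP.comap_of_injective _ N.subtype_injective
  obtain ⟨m, hm⟩ := hK.exists_card_eq
  have ho : Odd (K.subgroupOf N).index := Nat.not_even_iff_odd.1 fun e => hna ⟨⟨fun x y =>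
    Subtype.ext (congrArg (fun z : N => (z : G)) (Subgroup.commutator_eq_bot_iff_le_centralizer.1
      (le_bot_iff.1 (frob_comm hf e)) (show ⟨y, hlt.le y.2⟩ ∈ K.subgroupOf N from y.2) ⟨x, hlt.le x.2⟩ x.2))⟩⟩
  have hodd : Odd (Nat.card N) := by
    rw [← (K.subgroupOf N).index_mul_card, hm]
    exact ho.mul (hp'.odd_of_ne_two hp).pow
  have m0 : m ≠ 0 := by
    rintro rfl
    exact h1 (le_bot_iff.1 (hZ.trans (Subgroup.eq_bot_of_card_eq _ hm).le))
  rw [hS]
  obtain ⟨χ, hχ⟩ := indD_nonempty (K := K.subgroupOf N) (bot_lt_iff_ne_bot.mpr h1) hZ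
  exact ((irr_cohSys ((TIOn.isoOn N.subtype_injective hT).mono (Finset.coe_subset.2 (indD_mono hZ le_rfl)))
    hirr (indD_cc _ _)).irr_pgroup hp' hp hK (fun h => hp'.one_lt.ne' (Nat.eq_one_of_dvd_coprimes
      (frob_coprime hf) h (hm ▸ dvd_pow_self p m0))) hZ (fun z hz k hk => Subtype.ext ((hZP z hz).2 k hk))
      hirr).isCoherent (fun _ _ _ => rfl) (exists_ne_zero_of_two hχ (indD_cc _ _ χ hχ) (hirr χ hχ)
      (hirr _ (indD_cc _ _ χ hχ)) (indD_conj_ne hodd hχ).symm)

end Cfsg.Agent.S1532
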