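import Cfsg.Statements.S1534
import Cfsg.Agent.H4.Coh

set_option autoImplicit false
open Cfsg

namespace Cfsg.Agent.S1534

open CfsgH4 CfsgH3

/-- Let G be a finite group and K a nontrivial nilpotent subgroup whose underlying set is a TI-subset of G, properly contained in its set normaliser N, with C_G(k) ≤ K for every non-identity k ∈ K; let e be the index of K in N and S the set of irreducible characters χ of N with χ k ≠ χ 1 for some k ∈ K. Then one of: S has exactly one member, Nat.card K = e + 1 and K is an elementary abelian p-group for some prime p; or K is a Sylow 2-subgroup of G (Nat.card K is the largest power of 2 dividing Nat.card G) and [K : [K,K]] < 4e²; or (S, N minus 1, induction to G) is coherent. -/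
theorem result {G : Type*} [Group G] [Fintype G] (K : Subgroup G) (hK1 : K ≠ ⊥) (hnil : Group.IsNilpotent K) (hTI : Cfsg.IsTISubset (K : Set G)) (hlt : K < Subgroup.normalizer (K : Set G)) (hC : ∀ k ∈ K, k ≠ 1 → Subgroup.centralizer ({k} : Set G) ≤ K) [Fintype ↥(Subgroup.normalizer (K : Set G))] : (Nat.card {χ : ↥(Subgroup.normalizer (K : Set G)) → ℂ // Cfsg.IsIrrCharacter ↥(Subgroup.normalizer (K : Set G)) χ ∧ ∃ k : ↥(Subgroup.normalizer (K : Set G)), (k : G) ∈ K ∧ χ k ≠ χ 1} = 1 ∧ Nat.card K = (K.subgroupOf (Subgroup.normalizer (K : Set G))).index + 1 ∧ ∃ p : ℕ, p.Prime ∧ Cfsg.IsElementaryAbelian p K) ∨ (Nat.card K = 2 ^ (Nat.card G).factorization 2 ∧ (⁅K, K⁆.subgroupOf K).index < 4 * (K.subgroupOf (Subgroup.normalizer (K : Set G))).index ^ 2) ∨ Cfsg.IsCoherent {χ : ↥(Subgroup.normalizer (K : Set G)) → ℂ | Cfsg.IsIrrCharacter ↥(Subgroup.normalizer (K : Set G)) χ ∧ ∃ k : ↥(Subgroup.normalizer (K : Set G)), (k : G) ∈ K ∧ χ k ≠ χ 1} {1}ᶜ (fun α => Cfsg.indFun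 (Subgroup.normalizer (K : Set G)) α) := by
  generalize hN : Subgroup.normalizer (K : Set G) = N at *
  have : (K.subgroupOf N).Normal := Subgroup.normal_subgroupOf_of_le_normalizer hN.ge
  have hf : FrobQ (K.subgroupOf N) (K.subgroupOf N) ⊥ := frobQ_of_hC fun k hk h1 y hy =>
      hC k hk (fun e => h1 (Subtype.ext e)) (Subgroup.mem_centralizer_singleton_iff.2
        (congrArg Subtype.val (Subgroup.mem_centralizer_singleton_iff.1 hy)))
  have hc : Nat.card (K.subgroupOf N) = Nat.card K := Nat.card_congr (Subgroup.subgroupOfEquivOfLe hlt.le).toEquiv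
  have hS : {χ : N → ℂ | IsIrrCharacter N χ ∧ ∃ k : N, (k : G) ∈ K ∧ χ k ≠ χ 1} =
    indD (K.subgroupOf N) (K.subgroupOf N) ⊥ := frob_indD hf
  have h1 : K.subgroupOf N ≠ ⊥ := fun e => hK1 (by
    rwa [Subgroup.subgroupOf_eq_bot, disjoint_iff, inf_of_le_left hlt.le] at e)
  have h2 : K.subgroupOf N ≠ ⊤ := fun e => hlt.not_ge (Subgroup.subgroupOf_eq_top.1 e)
  by_cases he : Nat.card (K.subgroupOf N) = (K.subgroupOf N).index + 1
  · obtain ⟨p, hp, a, b⟩ := frob_elemAb hf he
    refine Or.inl ⟨?_, hc ▸ he, p, hp, ⟨⟨fun x y => Subtype.ext (congrArg (fun z => z.1.1)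
      (a.1.1 ⟨⟨x, hlt.le x.2⟩, x.2⟩ ⟨⟨y, hlt.le y.2⟩, y.2⟩))⟩⟩, fun x hx =>
      congrArg Subtype.val (b ⟨x, hlt.le hx⟩ hx)⟩
    change Nat.card ({χ : N → ℂ | IsIrrCharacter N χ ∧ ∃ k : N, (k : G) ∈ K ∧ χ k ≠ χ 1} : Set _) = 1
    rw [hS, Nat.card_coe_set_eq, Set.ncard_coe_finset, frob_card_one hf he]
  have hT : TIOn N.subtype {h | h ∈ K.subgroupOf N ∧ h ≠ 1} := fun a ha b hb g e => by
    by_contra h
    exact ha.2 (Subtype.ext (hTI g (by simpa [hN] using h) a ha.1
      (by rw [show g * a * g⁻¹ = b from e]; exact hb.1)))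
  have C := frob_cohSys hf (TIOn.isoOn N.subtype_injective hT)
  right
  by_cases hn : Coh (indD (K.subgroupOf N) (K.subgroupOf N) ⊥) (indL N.subtype_injective)
  · rw [hS]
    exact Or.inr (hn.isCoherent (fun _ _ _ => rfl) (frob_two hf h1 h2 he))
  left
  obtain ⟨p, m, hp, hm⟩ := feit_pgroup hf C h2 hn
  have := frob_nilpotent hf h2
  have ho : Odd (K.subgroupOf N).index := Nat.not_even_iff_odd.1 fun e => hn (C.abelian (frob_comm hf e))
  obtain rfl : p = 2 := by
    by_contra hp2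
    refine hn (sibley_frob N.subtype_injective hT ?_ hf)
    rw [← (K.subgroupOf N).index_mul_card, hm]
    exact ho.mul (hp.odd_of_ne_two hp2).pow
  have hi := not_dvd_index_of_TI N.subtype_injective hT hp (IsPGroup.of_card hm) ho.not_two_dvd_nat h1
  rw [Subgroup.map_subgroupOf_eq_of_le hlt.le] at hi
  constructor
  · rw [← K.index_mul_card, ← hc, hm, Nat.factorization_mul Subgroup.index_ne_zero_of_finite (by positivity),
      hp.factorization_pow]
    simp [Nat.factorization_eq_zero_of_not_dvd hi]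
  have h3 := C.index_le inferInstance bot_le nilpotent_quot_bot hn
  rw [sup_bot_eq] at h3
  obtain ⟨k, -, h4⟩ := (Nat.dvd_prime_pow hp).1 (hm ▸ Subgroup.relIndex_dvd_card
    ⁅K.subgroupOf N, K.subgroupOf N⁆ (K.subgroupOf N))
  have h5 := Subgroup.relIndex_map_map_of_injective ⁅K.subgroupOf N, K.subgroupOf N⁆ (K.subgroupOf N)
    N.subtype_injective
  rw [Subgroup.map_commutator, Subgroup.map_subgroupOf_eq_of_le hlt.le] at h5
  change ⁅K, K⁆.relIndex K < _
  rw [h5, h4]
  rw [h4] at h3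
  have h6 := mt Subgroup.index_eq_one.1 h2
  generalize (K.subgroupOf N).index = e at *
  have h7 : 2 ^ k ≠ 4 * e ^ 2 := fun h => h6 (Nat.eq_one_of_dvd_coprimes
    (Nat.Coprime.pow_left k (Nat.coprime_two_left.2 ho)) (Dvd.intro (4 * e) (by rw [h]; ring)) dvd_rfl)
  have h8 : 2 ^ k ≠ 4 * e ^ 2 + 1 := fun h => by
    rcases k with _ | k
    · have := ho.pos; nlinarith
    · rw [pow_succ] at h; omega
  omega

end Cfsg.Agent.S1534
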