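import Cfsg.Statements.S1535
import Cfsg.Agent.H4.Coh

set_option autoImplicit false
open Cfsg

namespace Cfsg.Agent.S1535

open CfsgH4 CfsgH3

/-- Let N be a finite group with a proper nontrivial normal subgroup H such that every element commuting with a non-identity element of H lies in H (N is a Frobenius group with kernel H); let e be the index of H and suppose Nat.card H ≠ e + 1. Let S be the set of irreducible characters χ of N with χ h ≠ χ 1 for some h ∈ H, and τ a linear isometry on the integer combinations of S vanishing at 1, with values virtual characters of a finite group G vanishing at 1. Then (S, N minus 1, τ) is coherent, or there is a prime p with Nat.card H a power of p, H non-abelian and [H : [H,H]] ≤ 4e² + 1. -/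
theorem result {N : Type*} [Group N] [Fintype N] {G : Type*} [Group G] [Fintype G] (H : Subgroup N) [H.Normal] (hH1 : H ≠ ⊥) (hH2 : H ≠ ⊤) (hC : ∀ h ∈ H, h ≠ 1 → Subgroup.centralizer ({h} : Set N) ≤ H) (he : Nat.card H ≠ H.index + 1) (τ : (N → ℂ) → (G → ℂ)) (hτ : Cfsg.IsLinearIsometryOn (Cfsg.zspanOn {χ : N → ℂ | Cfsg.IsIrrCharacter N χ ∧ ∃ h ∈ H, χ h ≠ χ 1} {1}ᶜ) τ) (hτ1 : ∀ α ∈ Cfsg.zspanOn {χ : N → ℂ | Cfsg.IsIrrCharacter N χ ∧ ∃ h ∈ H, χ h ≠ χ 1} {1}ᶜ, τ α 1 = 0) : Cfsg.IsCoherent {χ : N → ℂ | Cfsg.IsIrrCharacter N χ ∧ ∃ h ∈ H, χ h ≠ χ 1} {1}ᶜ τ ∨ ∃ p : ℕ, p.Prime ∧ (∃ m : ℕ, Nat.card H = p ^ m) ∧ ¬ IsMulCommutative H ∧ (⁅H, H⁆.subgroupOf H).index ≤ 4 * H.index ^ 2 + 1 := by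
  have hf := frobQ_of_hC hC
  rw [frob_indD hf] at hτ hτ1 ⊢
  obtain ⟨τ', I, e⟩ := exists_isoOn (fun χ h => (hf.irr le_rfl h).isGen.exists_deg) hτ hτ1
  have C := frob_cohSys hf I
  by_cases hn : Coh (indD H H ⊥) τ'
  · exact Or.inl (hn.isCoherent e (frob_two hf hH1 hH2 he))
  obtain ⟨p, m, hp, hm⟩ := feit_pgroup hf C hH2 hn
  have := frob_nilpotent hf hH2
  refine Or.inr ⟨p, hp, ⟨m, hm⟩, fun h => hn (C.abelian (Subgroup.commutator_eq_bot_iff_le_centralizer.2
    fun a ha b hb => congrArg Subtype.val (h.1.1 ⟨b, hb⟩ ⟨a, ha⟩)).le), ?_⟩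
  have := C.index_le inferInstance bot_le nilpotent_quot_bot hn
  rwa [sup_bot_eq] at this

end Cfsg.Agent.S1535
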