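import Cfsg.Statements.S1536
import Cfsg.Agent.H4.Coh

set_option autoImplicit false
open Cfsg

namespace Cfsg.Agent.S1536

open CfsgH4 CfsgH3

/-- Let H be a normal subgroup of the finite group M whose order is coprime to its index. For x ∈ M: some non-principal irreducible character of H is unchanged under h ↦ θ(x h x⁻¹) if and only if some non-identity element of H commutes with x. -/
theorem result {M : Type*} [Group M] [Finite M] (H : Subgroup M) [hN : H.Normal] (hHall : Nat.Coprime (Nat.card H) H.index) (x : M) : (∃ θ : H → ℂ, Cfsg.IsIrrCharacter H θ ∧ θ ≠ (fun _ => 1) ∧ (fun h : H => θ ⟨x * h * x⁻¹, hN.conj_mem h h.2 x⟩) = θ) ↔ ∃ h ∈ H, h ≠ 1 ∧ x * h = h * x := by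
  constructor
  · rintro ⟨θ, a, b, c⟩
    by_contra hn
    push Not at hn
    refine b (eq_one_of_cj_eq (y := x) (fun h hh k hk e => ?_) a c)
    have hx : Nat.Coprime (orderOf x) (Nat.card H) := Nat.coprime_of_dvd fun r hr h1 h2 => by
      obtain ⟨n, hn'⟩ := h1
      have h0 := orderOf_pos x
      have h3 : orderOf (x ^ n) = r := by
        rw [orderOf_pow' _ (by rintro rfl; omega), hn', Nat.gcd_mul_left_left,
          Nat.mul_div_cancel _ (Nat.pos_of_ne_zero (by rintro rfl; omega))]
      refine hn (x ^ n) (mem_of_coprime_index (h3 ▸ hHall.coprime_dvd_left h2)) (fun e => ?_)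
        (Commute.self_pow x n)
      rw [e, orderOf_one] at h3
      exact hr.one_lt.ne h3
    obtain ⟨y, hy, c, hc, e1, e2⟩ := exists_conj_cent_coset (fun u hu => hN.conj_mem u hu x) hx hk
    have c1 : c = 1 := by_contra fun c1 => hn c hc c1 e1.symm
    rw [c1, one_mul] at e2
    by_contra h1
    refine hn (y * h * y⁻¹) (H.mul_mem (H.mul_mem hy hh) (H.inv_mem hy)) (by simpa using h1) ?_
    rw [← e2]
    calc _ = y * (k * x * h) * y⁻¹ := by group
      _ = _ := by rw [e]; group
  · rintro ⟨h, hh, h1, e⟩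
    have key := S0173.result (MulAut.conjNormal x : MulAut H)
    have : Nontrivial {C : ConjClasses H //
        ConjClasses.map (MulAut.conjNormal x : MulAut H).toMonoidHom C = C} :=
      ⟨⟨ConjClasses.mk 1, congrArg ConjClasses.mk (map_one _)⟩, ⟨ConjClasses.mk ⟨h, hh⟩,
        congrArg ConjClasses.mk (Subtype.ext (show x * h * x⁻¹ = h by rw [e]; group))⟩, fun e => h1
        (congrArg Subtype.val (isConj_one_right.1 (ConjClasses.mk_eq_mk_iff_isConj.1
          (congrArg Subtype.val e))))⟩
    have := Finite.one_lt_card_iff_nontrivial.1 (key ▸ Finite.one_lt_card_iff_nontrivial.2 this)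
    obtain ⟨θ, hθ⟩ := exists_ne (α := {χ : IrrCharacter H // χ.1 ∘ (MulAut.conjNormal x : MulAut H) = χ.1})
      ⟨⟨_, isIrr_one⟩, rfl⟩
    exact ⟨θ.1.1, θ.1.2, fun e => hθ (Subtype.ext (Subtype.ext e)), θ.2⟩

end Cfsg.Agent.S1536
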