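import Cfsg.Statements.S1546
import Cfsg.Agent.H4.Coh

set_option autoImplicit false
open Cfsg

namespace Cfsg.Agent.S1546

open CfsgH4 CfsgH3

/-- Let p and q be odd primes and N = (p ^ q − 1) / (p − 1) = 1 + p + ⋯ + p^(q−1). Then N is odd; if p ≡ 1 (mod q) then q ∣ N; and if p is not ≡ 1 (mod q) then N is coprime to p − 1 and every divisor of N is ≡ 1 (mod q). -/
theorem result (p q : ℕ) (hp : p.Prime) (hq : q.Prime) (hp2 : p ≠ 2) (hq2 : q ≠ 2) : Odd ((p ^ q - 1) / (p - 1)) ∧ (p % q = 1 → q ∣ (p ^ q - 1) / (p - 1)) ∧ (p % q ≠ 1 → Nat.Coprime ((p ^ q - 1) / (p - 1)) (p - 1) ∧ ∀ x : ℕ, x ∣ (p ^ q - 1) / (p - 1) → x % q = 1) := by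
  have h1 : (p ^ q - 1) / (p - 1) = ∑ i ∈ Finset.range q, p ^ i := (Nat.geomSum_eq hp.two_le q).symm
  have h2 : (p - 1) * ∑ i ∈ Finset.range q, p ^ i = p ^ q - 1 := by
    rw [← h1, Nat.mul_div_cancel' (Nat.sub_one_dvd_pow_sub_one p q)]
  rw [h1]
  have key : ∀ r : ℕ, p ≡ 1 [MOD r] → ∑ i ∈ Finset.range q, p ^ i ≡ q [MOD r] := fun r h => by
    have := Nat.ModEq.sum (s := Finset.range q) (f := fun i => p ^ i) (g := fun _ => 1) fun i _ => by
      simpa using h.pow i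
    simpa using this
  have hq1 : 1 % q = 1 := Nat.mod_eq_of_lt hq.one_lt
  have cop : p % q ≠ 1 → ∀ r, r.Prime → r ∣ ∑ i ∈ Finset.range q, p ^ i → ¬ r ∣ p - 1 := fun h r hr a b => by
    have c := ((Nat.modEq_iff_dvd' hp.one_le).2 b).symm
    have d := (Nat.prime_dvd_prime_iff_eq hr hq).1
      ((Nat.modEq_zero_iff_dvd.1 ((key r c).symm.trans (Nat.modEq_zero_iff_dvd.2 a))))
    exact h (Eq.trans (d ▸ c : p ≡ 1 [MOD q]) hq1)
  refine ⟨Nat.odd_iff.2 (Eq.trans (key 2 (Nat.odd_iff.1 (hp.odd_of_ne_two hp2)))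
    (Nat.odd_iff.1 (hq.odd_of_ne_two hq2))), fun h => Nat.modEq_zero_iff_dvd.1
      ((key q (h.trans hq1.symm)).trans (by simp [Nat.ModEq])), fun h =>
      ⟨Nat.coprime_of_dvd (cop h), fun x hx => ?_⟩⟩
  have x0 : x ≠ 0 := by
    rintro rfl
    rw [Nat.eq_zero_of_zero_dvd hx] at h2
    have := Nat.one_lt_pow hq.ne_zero hp.one_lt
    omega
  induction x using Nat.recOnMul with
  | zero => exact absurd rfl x0
  | one => exact hq1
  | prime r hr =>
    have := Fact.mk hr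
    have a : (p : ZMod r) ^ q = 1 := by
      have : ((p ^ q : ℕ) : ZMod r) = (1 : ℕ) := (ZMod.natCast_eq_natCast_iff _ _ _).2
        ((Nat.modEq_iff_dvd' (Nat.one_le_pow _ _ hp.pos)).2 (h2 ▸ hx.mul_left _)).symm
      simpa using this
    have b : (p : ZMod r) ≠ 1 := fun e => cop h r hr hx ((Nat.modEq_iff_dvd' hp.one_le).1
      ((ZMod.natCast_eq_natCast_iff _ _ _).1 (by simpa using e.symm)))
    have := Fact.mk hq
    have c := ZMod.orderOf_dvd_card_sub_one (a := (p : ZMod r)) (by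
      rintro e; rw [e, zero_pow hq.ne_zero] at a; exact zero_ne_one a)
    rw [orderOf_eq_prime a b] at c
    exact Eq.trans ((Nat.modEq_iff_dvd' hr.one_le).2 c).symm hq1
  | mul a b ha hb =>
    rw [Nat.mul_mod, ha (dvd_of_mul_right_dvd hx) (left_ne_zero_of_mul x0),
      hb (dvd_of_mul_left_dvd hx) (right_ne_zero_of_mul x0), hq1]

end Cfsg.Agent.S1546
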