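import Cfsg.Statements.S1551
import Cfsg.Agent.H7.Mi

set_option autoImplicit false
open scoped Pointwise
open Cfsg

namespace Cfsg.Agent.S1551

open CfsgH7 MulAction
open scoped Pointwise symmDiff
set_option maxRecDepth 100000
set_option Elab.async false


/-- Structure of a sextet stabiliser: it induces every permutation of the six tetrads, the subgroup fixing each tetrad setwise has order 192, and there is a normal subgroup of order 64 consisting of elements squaring to the identity. -/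
theorem result (S : Finset (Finset Cfsg.GolayPt)) (hS : S ∈ Cfsg.sextets) : (∀ e : Equiv.Perm ↥S, ∃ g ∈ MulAction.stabilizer Cfsg.M24 S, ∀ t : ↥S, (g : Equiv.Perm Cfsg.GolayPt) • (t : Finset Cfsg.GolayPt) = ((e t : ↥S) : Finset Cfsg.GolayPt)) ∧ Nat.card {g : ↥(MulAction.stabilizer Cfsg.M24 S) // ∀ t ∈ S, ((g : Cfsg.M24) : Equiv.Perm Cfsg.GolayPt) • t = t} = 192 ∧ ∃ N : Subgroup ↥(MulAction.stabilizer Cfsg.M24 S), N.Normal ∧ Nat.card N = 64 ∧ ∀ x ∈ N, x * x = 1 := by
  obtain ⟨g, rfl⟩ := trS hS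
  have hK := (packSx.refull [(3, [(0x2d84c0a8ed456097c974b80c49b871, 0x3d9c81a80d58a144c98f896e40d666)]),(8, [(0x79d82458b3bbaa46803092e261aa89, 0x7c9a181ca8bb97530813b122c1d12a)]),(9, [(0x250c0ac8a90c5ec5dc483cdca1c1b6, 0x50276349c26942c592083d6371a5f4)]),(6, [(0x9809482dd77945262928b362119aa7, 0x81c34bb0b37c4cb92928009d51b496), (0x682b434a22516eb63d283cdc11c096, 0x682b434a22516eb63d283cdc11c096)]),(4, [(0xb5eaf3b1c0a44525a928998a11b490, 0xb5eaf3b1c0a44525a928998a11b490)])] (by decide +kernel)).hfix [0x24028, 0x41900, 0x108600, 0x2800c0, 0x412010, 0x800007] [(0, [(0xd8c93c8b050dac5be889d624702e2, 0xd8c93c8b050dac5be889d624702e2)]),(3, [(0x92743a23648db25bd4ca99d02dc40, 0x140f4ab224515a85a5f299876706e0)]),(1, [(0xd8d4ab1c44960b93d483ce2d1dc40, 0x15a7432cad54492625e83d5d0186e0)]),(4, [(0xbb4c93ae2453ac893e8c9d4b018820, 0xbb4c93ae2453ac893e8c9d4b018820), (0xbc0ea332364b892451ebaccad18820, 0xbc0ea332364b892451ebaccad18820)])] 192 (by decide +kernel)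
  have hN := packSx.sub_chain [(4, [(0x92af9c9cda460c5a54839876282e2, 0x92af9c9cda460c5a54839876282e2), (0x34ca3b0a448ed2451eb9d63070457, 0x34ca3b0a448ed2451eb9d63070457)]),(3, [(0x5aaf9a0b0a0dab6255239a2470457, 0x5aaf9a0b0a0dab6255239a2470457), (0xdaaa9b070495b2451eb399c4882e2, 0xdaaa9b070495b2451eb399c4882e2)]),(0, [(0x158ca3a2304b9ab651f29d4a41dc01, 0x158ca3a2304b9ab651f29d4a41dc01), (0xd8ef32e30a39a89254cacca4182e2, 0xd8ef32e30a39a89254cacca4182e2)])] 64 (by decide +kernel)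
  have e : ∀ u : M24, u ∈ cj g (Hfix [0x24028, 0x41900, 0x108600, 0x2800c0, 0x412010, 0x800007]) ↔ ∀ t ∈ (g : P24) • sx (toFs 0x800007), u • t = t := by
    intro u
    rw [mem_cj, mem_Hfix]
    constructor
    · intro h t ht
      obtain ⟨t, rfl⟩ := exM g t
      rw [memM, mem_sx_iff (by norm_num) (by decide +kernel)] at ht
      obtain ⟨i, hi, rfl⟩ := ht
      have := h (part (syn 0x800007) i) (by revert i; decide +kernel)
      rw [mul_assoc, mulM_smul, mulM_smul, Subgroup.coe_inv, inv_smul_eq_iff] at this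
      exact this
    · intro h m hm
      rw [mul_assoc, mulM_smul, mulM_smul, Subgroup.coe_inv, inv_smul_eq_iff]
      refine h _ ((memM _ _ _).mpr ((mem_sx_iff (by norm_num) (by decide +kernel)).mpr ?_))
      obtain ⟨i, hi, rfl⟩ : ∃ i < 24, part (syn 0x800007) i = m := by revert m; decide +kernel
      exact ⟨i, hi, rfl⟩
  have c : Nat.card ↥(stabilizer M24 ((g : P24) • sx (toFs 0x800007)) ⊓ cj g (Hfix [0x24028, 0x41900, 0x108600, 0x2800c0, 0x412010, 0x800007])) = 192 := by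
    rw [stabM_smul, ← cj_inf, card_cj, hK.card]
  refine ⟨induced_all (fun _ h => h) e ?_, (card_subtype_eq (G := M24) fun u => (e u).symm).trans c, ?_⟩
  · rw [c, stabM_smul, card_cj, packSx.card, cardM, s0_mem.1]; rfl
  · rw [stabM_smul]
    refine ⟨_, normal_cj g (packSx.normal hN.2 (by decide +kernel)), ?_, fun x hx => Subtype.ext ?_⟩
    · rw [card_subOf (cj_mono _ hN.1), card_cj, hN.2.card]
    · exact (pow_two _).symm.trans (pow_cj g (hN.2.sq 2 (by decide +kernel)) x hx)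

end Cfsg.Agent.S1551
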