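import Cfsg.Statements.S1552
import Cfsg.Agent.H7.M24e

set_option autoImplicit false
open scoped Pointwise
open Cfsg

namespace Cfsg.Agent.S1552

open CfsgH7 MulAction
set_option maxRecDepth 100000


/-- A sextet stabiliser has four orbits on the 1771 sextets, of sizes 1, 90, 240, 1440; and the stabiliser is a maximal proper subgroup. -/
theorem result (S : Finset (Finset Cfsg.GolayPt)) (hS : S ∈ Cfsg.sextets) : ∃ X₁ ∈ Cfsg.sextets, ∃ X₂ ∈ Cfsg.sextets, ∃ X₃ ∈ Cfsg.sextets, (MulAction.orbit ↥(MulAction.stabilizer Cfsg.M24 S) X₁).ncard = 90 ∧ (MulAction.orbit ↥(MulAction.stabilizer Cfsg.M24 S) X₂).ncard = 240 ∧ (MulAction.orbit ↥(MulAction.stabilizer Cfsg.M24 S) X₃).ncard = 1440 ∧ Cfsg.sextets = {S} ∪ MulAction.orbit ↥(MulAction.stabilizer Cfsg.M24 S) X₁ ∪ MulAction.orbit ↥(MulAction.stabilizer Cfsg.M24 S) X₂ ∪ MulAction.orbit ↥(MulAction.stabilizer Cfsg.M24 S) X₃ ∧ IsCoatom (MulAction.stabilizer Cfsg.M24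 S) := by
  obtain ⟨g, rfl⟩ := trS hS
  rw [stabM_smul]
  obtain ⟨X₁, h1, X₂, h2, X₃, h3, a, b, c, d⟩ := orbs13 packSx Dsx sextets_keys 2000 9 0x800007
    0x800602 0x800086 0x820048 (n₁ := 90) (n₂ := 240) (n₃ := 1440) (by decide +kernel)
    (by decide +kernel) g (smul_sextets g)
  exact ⟨X₁, h1, X₂, h2, X₃, h3, a, b, c, d, isCoatom_cj g
    (coatom_of Dsx s0_valid (S := Ssx) 2000 (R := Rsx) (by rw [Coded.coatomChk, Wsx_eq]; decide +kernel))⟩

end Cfsg.Agent.S1552
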