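import Cfsg.Statements.S1553
import Cfsg.Agent.H7.Mg

set_option autoImplicit false
open scoped Pointwise
open Cfsg

namespace Cfsg.Agent.S1553

open CfsgH7 MulAction
open scoped Pointwise symmDiff
set_option maxRecDepth 100000
set_option Elab.async false


/-- The stabiliser of an octad in the group of the length-24 code induces on the octad exactly its alternating group. -/
theorem result (o : Finset Cfsg.GolayPt) (ho : o ∈ Cfsg.octads) : {e : Equiv.Perm ↥o | ∃ g : Equiv.Perm Cfsg.GolayPt, g ∈ Cfsg.M24 ∧ ∃ h : (∀ x, g x ∈ o ↔ x ∈ o), g.subtypePerm h = e} = (alternatingGroup ↥o : Set (Equiv.Perm ↥o)) := by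
  obtain ⟨g, rfl⟩ := trO ho
  have h := ((packOct.refull [(0, [(0x7224451c2ca9693b40cd5bc6905e22, 0x12ded6542a35d103cc96925d428223)]),(1, [(0x90cc4584dadd504c8ef9add41c4a0, 0x749e43a84c41614335734d4361c6e0)]),(2, [(0x8cd884adcfa0e563c2aa218ad15c20, 0x1312fb36ea8449592274598a770c20)]),(3, [(0x19d6d4ce2cadd487d250358a470820, 0x719ea9262858e90ab66cb1ca4b8820)]),(5, [(0x8b57621ae76153094e8a7d5c818820, 0x8d0c952eec396cfaa1a4849d318820)]),(14, [(0x8cd2b699d4adeca811f23a0ac18820, 0x735f0b22eb4c664a32a63c8aa18820)]),(17, []),(23, []),(4, [(0xba64d4562f83a87312d362caa18820, 0xba64d4562f83a87312d362caa18820), (0xbc92655a2c3b9706cea47d0a818820, 0xbc92655a2c3b9706cea47d0a818820), (0xbbd8459e29b39559b606920b418820, 0xbbd8459e29b39559b606920b418820), (0xb99b28523343aaa4b16f258a718820, 0xb99b28523343aaa4b16f258a718820)])] (by decide +kernel)).fixM 8 0x82402f 16 (by decide +kernel))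
  haveI : Finite M24 := inferInstance
  ext e
  rw [SetLike.mem_coe, induced_alt (G := M24) (H := stabilizer M24 ((g : P24) • toFs 0x82402f))
    (K := fixM ((g : P24) • toFs 0x82402f)) (fun _ h => h) (fun _ => Iff.rfl) (by
      rw [stabM_smul, fixM_smul, ← cj_inf, card_cj, card_cj, h.card, packOct.card, cardM,
        card_toFs (by norm_num)]; decide +kernel)]
  constructor
  · rintro ⟨u, hu, h1, rfl⟩
    refine ⟨⟨u, hu⟩, ?_, fun t => rfl⟩
    ext x
    obtain ⟨y, rfl⟩ := exists_smul' u x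
    exact (memM u y _).trans (h1 y).symm
  · rintro ⟨u, hu, h1⟩
    refine ⟨u, u.2, fun x => ?_, Equiv.ext fun t => Subtype.ext (h1 t)⟩
    have := memM (u : P24) x ((g : P24) • toFs 0x82402f)
    rwa [mem_stabM.mp hu] at this

end Cfsg.Agent.S1553
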