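import Cfsg.Statements.S1554
import Cfsg.Agent.H7.Mi

set_option autoImplicit false
open scoped Pointwise
open Cfsg

namespace Cfsg.Agent.S1554

open CfsgH7 MulAction
open scoped Pointwise symmDiff
set_option maxRecDepth 100000
set_option Elab.async false


/-- An octad stabiliser is a split extension: the joint stabiliser of the octad and a point outside it is a complement to the pointwise stabiliser of the octad, and is isomorphic to the alternating group of degree 8. -/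
theorem result (o : Finset Cfsg.GolayPt) (ho : o ∈ Cfsg.octads) (p : Cfsg.GolayPt) (hp : p ∉ o) : (Cfsg.M24 ⊓ fixingSubgroup (Equiv.Perm Cfsg.GolayPt) (o : Set Cfsg.GolayPt)) ⊓ (Cfsg.M24 ⊓ MulAction.stabilizer (Equiv.Perm Cfsg.GolayPt) o ⊓ MulAction.stabilizer (Equiv.Perm Cfsg.GolayPt) p) = ⊥ ∧ (Cfsg.M24 ⊓ fixingSubgroup (Equiv.Perm Cfsg.GolayPt) (o : Set Cfsg.GolayPt)) ⊔ (Cfsg.M24 ⊓ MulAction.stabilizer (Equiv.Perm Cfsg.GolayPt) o ⊓ MulAction.stabilizer (Equiv.Perm Cfsg.GolayPt) p) = (Cfsg.M24 ⊓ MulAction.stabilizer (Equiv.Perm Cfsg.GolayPt) o) ∧ Nonempty (↥(Cfsg.M24 ⊓ MulAction.stabilizer (Equiv.Perm Cfsg.GolayPt) o ⊓ MulAction.stabilizer (Equiv.Perm Cfsg.GolayPt) p) ≃* alternatingGroup (Fin 8)) := by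
  obtain ⟨g, rfl, rfl⟩ := trOq ho hp
  have h := (packOct.stabL Dpt (c := 0x4) (by decide +kernel) 21 2 16 [(0, [(0x14127a3c66996ab936ca4302403af1, 0xa5b37ac1690946622a7a41c48dca3)]),(1, [(0xbda68abcad93a0a4b17439a2418440, 0xbda68abcad93a0a4b17439a2418440)]),(3, [(0x199ab9a63053aa8a3e4c3d844b9420, 0x199ab9a63053aa8a3e4c3d844b9420)]),(5, [(0x899f6954a93899442d509b5c41dc20, 0x1524c3cee8a94cd5260b7da241b820)]),(2, [(0x12cc7552f54b9f6621b3940a41c420, 0x8b21241c466b92bb4deaa54a41dc20)]),(6, [(0x8bcd6925d5a5d674326d540a418820, 0x7520f4cee6b450a69e4b654a418820)])] 20160 (by decide +kernel))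
  have h1 : fixM (toFs 0x82402f) ⊓ (stabilizer M24 (toFs 0x82402f) ⊓ stabilizer M24 (dec 4)) = ⊥ := by
    rw [← inf_assoc, inf_of_le_left (fixM_le _)]
    exact (packE.stabL Dpt (c := 4) (by decide +kernel) 20 2 16 [] 1 (by decide +kernel)).eq_bot
  rw [fixing_eq, stab24_eq, map_inf_stab, fixM_smul, stabM_smul, stabM_smul, ← cj_inf,
    ← Subgroup.map_inf _ _ _ M24.subtype_injective, ← Subgroup.map_sup, ← cj_inf, h1]
  refine ⟨by simp [cj_eq_smul], ?_, ?_⟩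
  · congr 1
    refine sup_eq_of_card (cj_mono _ (fixM_le _)) (cj_mono _ inf_le_left) (by
      rw [← cj_inf, h1]; simp [cj_eq_smul]) ?_
    rw [card_cj, card_cj, card_cj, packOct.card, packE.card]
    exact (congrArg (16 * ·) h.card).ge
  · obtain ⟨e⟩ := equiv_cj g ((h.rebase (S' := [0x9a686a5c7a02ca5c9ecac2e41c445, 0x71a08a9c4ba014c4cdb67cae428c31]) (L' := [(0, [(0x14127a3c66996ab936ca4302403af1, 0xa5b37ac1690946622a7a41c48dca3)]),(1, [(0xbda68abcad93a0a4b17439a2418440, 0xbda68abcad93a0a4b17439a2418440)]),(3, [(0x199ab9a63053aa8a3e4c3d844b9420, 0x199ab9a63053aa8a3e4c3d844b9420)]),(5, [(0x899f6954a93899442d509b5c41dc20, 0x1524c3cee8a94cd5260b7da241b820)]),(2, [(0x12cc7552f54b9f6621b3940a41c420, 0x8b21241c466b92bb4deaa54a41dc20)]),(6, [(0x8bcd6925d5a5d674326d540a418820, 0x7520f4cee6b450a69e4b654a418820)])]) (P := [(0, 1), (1, 1), (2, 1), (2, 5), (5, 5), (0, 6), (2, 7), (7, 1), (8, 1), (0,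 0), (0, 5), (7, 0), (0, 2), (7, 14), (11, 1), (2, 12), (0, 0), (0, 3), (18, 5), (12, 0), (0, 2), (3, 18), (0, 0), (0, 3), (11, 0), (0, 2), (12, 13), (0, 29), (8, 1), (25, 26), (12, 1), (0, 0), (0, 4), (5, 34), (0, 21), (22, 35), (0, 0), (0, 3), (21, 1), (26, 1), (7, 8), (8, 2), (9, 42), (0, 14), (0, 27), (19, 20), (1, 1), (0, 7), (30, 36), (33, 1), (0, 18), (25, 39), (0, 12), (35, 8), (0, 14), (22, 30), (31, 1), (15, 17), (1, 1), (0, 18)]) (k := 62) (by decide +kernel)).iso (pack_alt 8 ⟨nat_lit 8, nat_lit 3, nat_lit 7⟩ (by decide) (S := [0xae23b8, 0x621cbd]) (L := [(0, [(0x730f51, 0x756e44)]),(1, [(0xad6338, 0x33ad58)]),(2, [(0x5deb08, 0xd1abc8)]),(3, [(0xd63e88, 0x7f5888)]),(4, [(0xf35688, 0xf66688)]),(5, [(0xbf4688, 0xd7c688)])]) (M := 20160) (by decide) (P := [(0, 0), (0, 3), (3, 4), (0, 4), (0, 6), (3, 0), (0, 2), (2, 8), (0, 9), (0, 11), (8, 11), (0, 0), (0, 3), (7, 1), (7, 8), (0,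 2), (11, 12), (0, 8), (0, 14), (7, 1), (4, 6), (0, 0), (0, 3), (7, 0), (0, 2), (26, 7), (24, 16), (0, 0), (0, 3), (22, 28), (0, 0), (0, 3), (25, 0), (0, 2), (18, 19), (0, 0), (0, 3), (30, 27), (36, 9), (1, 1), (0, 6), (16, 17), (5, 1), (2, 1), (0, 8), (45, 39), (21, 31), (1, 1), (0, 7), (28, 3), (0, 14), (16, 10), (0, 16)]) (k := 55) (by decide +kernel))
    ⟨nat_lit 32, nat_lit 5, nat_lit 31⟩ (by decide) (P := [(0, 1), (1, 1), (2, 1), (2, 5), (5, 6), (0, 6), (0, 7), (3, 4), (4, 2), (0, 6), (0, 0), (0, 5), (3, 4), (4, 2), (15, 15), (0, 16), (2, 16), (0, 0), (0, 3), (5, 16), (0, 0), (0, 3), (8, 14), (0, 0), (0, 3), (26, 19), (17, 27), (0, 0), (0, 3), (18, 1), (25, 24), (0, 32), (29, 1), (22, 1), (25, 1), (5, 22), (0, 0), (0, 3), (38, 40), (40, 1), (29, 1), (27, 0), (0, 2), (13, 36), (43, 1), (0, 33), (0, 5), (27, 25), (23, 35), (1, 1), (7, 13), (1, 1), (43, 28), (17, 11)]) (k := 56) (L :=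 [(0, [(0xe67b8debfe1a29234e2cb02077adaa4d4a413837, 0xce3bfdebdc03cd59522d58930520f664ca4b8c2e)]),(1, [(0xfef19ef3da7227253cabb09a9ab207350640c6e0, 0xfe77af639d0bd66ad04995daa84d9641e242b860)]),(2, [(0xfe77eeeb1c1218d81ca658e92b2a6faa624bb820, 0xff378eebd91aced4b0b340a957a8d69422475c20)]),(3, [(0xffb1ceeb3bbb646628b69ba0f4d4f45a06488820, 0xffb7cc6b3dbc1487d46d63ad33c9664d22428820)]),(5, [(0xffb9beeb388d668b40ab4b9ea91da6652e418820, 0xffb7de6b382cec6aaef26b927831f45222418820)]),(6, [(0xffbbbceb988bcd6925d5a5d674326d540a418820, 0xffbb9e6b787520f4cee6b450a69e4b654a418820)])]) (by decide +kernel))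
    exact ⟨(mapEquivM _).symm.trans e⟩

end Cfsg.Agent.S1554
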