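import Cfsg.Statements.S1556
import Cfsg.Agent.H7.M24f

set_option autoImplicit false
open scoped Pointwise
open Cfsg

namespace Cfsg.Agent.S1556

open CfsgH7 MulAction
open scoped Pointwise symmDiff
set_option maxRecDepth 100000


/-- Two octads meeting a fixed octad in equally many points are in the same orbit of its stabiliser. -/
theorem result (o o' o'' : Finset Cfsg.GolayPt) (ho : o ∈ Cfsg.octads) (ho' : o' ∈ Cfsg.octads) (ho'' : o'' ∈ Cfsg.octads) (h : (o ∩ o').card = (o ∩ o'').card) : ∃ g : Equiv.Perm Cfsg.GolayPt, g ∈ Cfsg.M24 ∧ g • o = o ∧ g • o' = o'' := by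
  obtain ⟨g, rfl⟩ := trO ho
  obtain ⟨m, hm, rfl⟩ := exists_maskM g o'
  obtain ⟨m', hm', rfl⟩ := exists_maskM g o''
  rw [octM, toFs_mem_octads hm] at ho'
  rw [octM, toFs_mem_octads hm'] at ho''
  rw [interM, interM, cardM, cardM, card_inter_toFs (by norm_num), card_inter_toFs (by norm_num)] at h
  obtain ⟨u, hu, h1, h2⟩ := conj_Hfix g (labF_cw [0x82402f]
    [0xbbd54ad8ab38a134b1a891226181c1, 0x1a66ca9c125dd106be8625a2a289c1] 1000
    [0x6920d0, 0x0, 0x49f002, 0x0, 0xc75001, 0x0, 0x0, 0x0, 0x82402f] isOct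
    (fun m => pc24 (0x82402f &ₙ m)) (by decide +kernel) (isOct_isCode ho') (isOct_isCode ho'') ho' ho'' h)
  exact ⟨u, hu, h1 _ (by simp), h2⟩

end Cfsg.Agent.S1556
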