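import Cfsg.Statements.S1559
import Cfsg.Agent.H7.M24e

set_option autoImplicit false
open scoped Pointwise
open Cfsg

namespace Cfsg.Agent.S1559

open CfsgH7 MulAction
set_option maxRecDepth 100000


/-- A trio stabiliser has five orbits on the 3795 trios, of sizes 1, 42, 56, 1008, 2688; and the stabiliser is a maximal proper subgroup. -/
theorem result (T : Finset (Finset Cfsg.GolayPt)) (hT : T ∈ Cfsg.trios) : ∃ X₁ ∈ Cfsg.trios, ∃ X₂ ∈ Cfsg.trios, ∃ X₃ ∈ Cfsg.trios, ∃ X₄ ∈ Cfsg.trios, (MulAction.orbit ↥(MulAction.stabilizer Cfsg.M24 T) X₁).ncard = 42 ∧ (MulAction.orbit ↥(MulAction.stabilizer Cfsg.M24 T) X₂).ncard = 56 ∧ (MulAction.orbit ↥(MulAction.stabilizer Cfsg.M24 T) X₃).ncard = 1008 ∧ (MulAction.orbit ↥(MulAction.stabilizer Cfsg.M24 T) X₄).ncard = 2688 ∧ Cfsg.trios = {T} ∪ MulAction.orbit ↥(MulAction.stabilizer Cfsg.M24 T) X₁ ∪ MulAction.orbit ↥(MulAction.stabilizer Cfsg.M24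 T) X₂ ∪ MulAction.orbit ↥(MulAction.stabilizer Cfsg.M24 T) X₃ ∪ MulAction.orbit ↥(MulAction.stabilizer Cfsg.M24 T) X₄ ∧ IsCoatom (MulAction.stabilizer Cfsg.M24 T) := by
  obtain ⟨g, rfl⟩ := trT hT
  rw [stabM_smul]
  obtain ⟨X₁, h1, X₂, h2, X₃, h3, X₄, h4, a, b, c, d, e⟩ := orbs14 packTr Dtr trios_keys 4000 11
    0x527c082402f 0x7898100046e3 0x3da1000046e3 0x3da10000149f 0xf684000149f (n₁ := 42) (n₂ := 56)
    (n₃ := 1008) (n₄ := 2688) (by decide +kernel) (by decide +kernel) g (smul_trios g)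
  exact ⟨X₁, h1, X₂, h2, X₃, h3, X₄, h4, a, b, c, d, e, isCoatom_cj g
    (coatom_of Dtr t0_valid (S := Str) 4000 (R := Rtr) (by rw [Coded.coatomChk, Wtr_eq]; decide +kernel))⟩

end Cfsg.Agent.S1559
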