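import Cfsg.Statements.S1560
import Cfsg.Agent.H7.M24f

set_option autoImplicit false
open scoped Pointwise
open Cfsg

namespace Cfsg.Agent.S1560

open CfsgH7 MulAction
open scoped Pointwise symmDiff
set_option maxRecDepth 100000


/-- Intersection numbers of dodecads: a dodecad meets every other dodecad in 0, 4, 6 or 8 points, meeting 495 of them in 4 points, 1584 in 6 points and 495 in 8 points. -/
theorem result (d : Finset Cfsg.GolayPt) (hd : d ∈ Cfsg.dodecads) : (∀ d' ∈ Cfsg.dodecads, d' ≠ d → (d ∩ d').card = 0 ∨ (d ∩ d').card = 4 ∨ (d ∩ d').card = 6 ∨ (d ∩ d').card = 8) ∧ {d' : Finset Cfsg.GolayPt | d' ∈ Cfsg.dodecads ∧ (d ∩ d').card = 4}.ncard = 495 ∧ {d' : Finset Cfsg.GolayPt | d' ∈ Cfsg.dodecads ∧ (d ∩ d').card = 6}.ncard = 1584 ∧ {d' : Finset Cfsg.GolayPt | d' ∈ Cfsg.dodecads ∧ (d ∩ d').card = 8}.ncard = 495 := by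
  refine ⟨fun d' hd' hne => ?_, ?_⟩
  · have h := card_symmDiff' d d'
    have h1 := Cw_card (Cw_symmDiff hd.1 hd'.1)
    have h2 := hd.2
    have h3 := hd'.2
    have h4 : (d ∆ d').card ≠ 0 := fun h => hne (symmDiff_eq_bot.mp (Finset.card_eq_zero.mp h)).symm
    omega
  obtain ⟨g, rfl⟩ := trD hd
  have key : ∀ n, {o : Finset GolayPt | o ∈ dodecads ∧ ((g : P24) • toFs 0x5335f ∩ o).card = n}.ncard =
      cnt (fun k => force (cw k) fun m => (pc24 m =ₙ 12) &&ₙ (pc24 (0x5335f &ₙ m) =ₙ n)) 4096 := by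
    intro n
    rw [← ncard_dod (fun o => (toFs 0x5335f ∩ o).card = n) _ fun m hm => by
      rw [card_inter_toFs (by norm_num), n_beq, n_and]]
    exact ncard_transport (g : P24) fun x => by simp only [dodM, interM, cardM]
  simp only [key]
  decide +kernel

end Cfsg.Agent.S1560
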