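import Cfsg.Statements.S1561
import Cfsg.Agent.H7.M24f

set_option autoImplicit false
open scoped Pointwise
open Cfsg

namespace Cfsg.Agent.S1561

open CfsgH7 MulAction
open scoped Pointwise symmDiff
set_option maxRecDepth 100000


/-- Two dodecads meeting a fixed dodecad in equally many points lie in one orbit of its stabiliser. -/
theorem result (d d' d'' : Finset Cfsg.GolayPt) (hd : d ∈ Cfsg.dodecads) (hd' : d' ∈ Cfsg.dodecads) (hd'' : d'' ∈ Cfsg.dodecads) (h : (d ∩ d').card = (d ∩ d'').card) : ∃ g : Equiv.Perm Cfsg.GolayPt, g ∈ Cfsg.M24 ∧ g • d = d ∧ g • d' = d'' := by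
  obtain ⟨g, rfl⟩ := trD hd
  obtain ⟨m, hm, rfl⟩ := exists_maskM g d'
  obtain ⟨m', hm', rfl⟩ := exists_maskM g d''
  rw [dodM, toFs_mem_dodecads hm] at hd'
  rw [dodM, toFs_mem_dodecads hm'] at hd''
  rw [interM, interM, cardM, cardM, card_inter_toFs (by norm_num), card_inter_toFs (by norm_num)] at h
  obtain ⟨u, hu, h1, h2⟩ := conj_Hfix g (labF_cw [0x5335f]
    [0x596917b5c9aa9843dc6198ad041812, 0x7d8f1bb26d5ba4151449aa28021870] 3000
    [0xfacca0, 0x0, 0x0, 0x0, 0xff9022, 0x0, 0x7dd00d, 0x0, 0xaf101f, 0x0, 0x0, 0x0, 0x5335f] isDod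
    (fun m => pc24 (0x5335f &ₙ m)) (by decide +kernel) (isDod_isCode hd') (isDod_isCode hd'') hd' hd'' h)
  exact ⟨u, hu, h1 _ (by simp), h2⟩

end Cfsg.Agent.S1561
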