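import Cfsg.Statements.S1562
import Cfsg.Agent.H7.M24f

set_option autoImplicit false
open scoped Pointwise
open Cfsg

namespace Cfsg.Agent.S1562

open CfsgH7 MulAction
open scoped Pointwise symmDiff
set_option maxRecDepth 100000


/-- Orbits of a triad stabiliser on the triads disjoint from it: the 210 triads inside a common octad with it form one orbit and the remaining 1120 another. -/
theorem result (T : Finset Cfsg.GolayPt) (hT : T.card = 3) : {U : Finset Cfsg.GolayPt | U.card = 3 ∧ Disjoint T U ∧ (∃ o ∈ Cfsg.octads, T ∪ U ⊆ o)}.ncard = 210 ∧ {U : Finset Cfsg.GolayPt | U.card = 3 ∧ Disjoint T U ∧ ¬ (∃ o ∈ Cfsg.octads, T ∪ U ⊆ o)}.ncard = 1120 ∧ ∀ U U' : Finset Cfsg.GolayPt, U.card = 3 → U'.card = 3 → Disjoint T U → Disjoint T U' → ((∃ o ∈ Cfsg.octads, T ∪ U ⊆ o) ↔ (∃ o ∈ Cfsg.octads, T ∪ U' ⊆ o)) → ∃ g : Equiv.Perm Cfsg.GolayPt, g ∈ Cfsg.M24 ∧ g • T = T ∧ g • U = U' := by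
  obtain ⟨g, rfl⟩ := trP3 hT
  have k0 : ∀ m < 2 ^ 24, (toFs m).card = 3 → ((∃ o ∈ octads, toFs 0x800003 ∪ toFs m ⊆ o) ↔
      inO (0x800003 ||| m) = true) := by
    intro m hm h3
    rw [← toFs_or, inO_iff (or_lt (by norm_num) hm)]
    rw [← card_toFs (or_lt (by norm_num) hm), toFs_or]
    refine (Finset.card_union_le _ _).trans ?_
    rw [h3, card_toFs (by norm_num)]
    decide +kernel
  have k1 : ∀ x : Finset GolayPt, (∃ o ∈ octads, (g : P24) • toFs 0x800003 ∪ (g : P24) • x ⊆ o) ↔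
      ∃ o ∈ octads, toFs 0x800003 ∪ x ⊆ o := by
    intro x
    rw [exists_octM g]
    simp only [unionM, subsetM]
  refine ⟨?_, ?_, fun U U' hU hU' hd hd' h => ?_⟩
  · rw [ncard_transport (g : P24) (Q := fun U => U.card = 3 ∧ Disjoint (toFs 0x800003) U ∧
      ∃ o ∈ octads, toFs 0x800003 ∪ U ⊆ o) fun x => by rw [k1, cardM, disjM],
      ncard_small _ (fun m => (pc24 m =ₙ 3) &&ₙ (0x800003 &ₙ m =ₙ 0) &&ₙ inO (0x800003 |ₙ m))
        (fun s hs => hs.1.le) fun m hm => ?_]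
    · decide +kernel
    · simp only [band_eq, Bool.and_eq_true, n_beq, n_and, n_or, ← card_toFs hm]
      refine and_congr_right fun h3 => ?_
      rw [k0 m hm h3, toFs_disjoint_iff (by norm_num)]
  · rw [ncard_transport (g : P24) (Q := fun U => U.card = 3 ∧ Disjoint (toFs 0x800003) U ∧
      ¬ ∃ o ∈ octads, toFs 0x800003 ∪ U ⊆ o) fun x => by rw [k1, cardM, disjM],
      ncard_small _ (fun m => (pc24 m =ₙ 3) &&ₙ (0x800003 &ₙ m =ₙ 0) &&ₙ bnot (inO (0x800003 |ₙ m)))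
        (fun s hs => hs.1.le) fun m hm => ?_]
    · decide +kernel
    · simp only [band_eq, Bool.and_eq_true, n_beq, n_and, n_or, ← card_toFs hm]
      refine and_congr_right fun h3 => ?_
      rw [k0 m hm h3, toFs_disjoint_iff (by norm_num)]
      simp
  obtain ⟨m, hm, rfl⟩ := exists_maskM g U
  obtain ⟨m', hm', rfl⟩ := exists_maskM g U'
  rw [cardM] at hU hU'
  rw [k1, k1, k0 m hm hU, k0 m' hm' hU', ← Bool.eq_iff_iff] at h
  rw [card_toFs hm] at hU
  rw [card_toFs hm'] at hU'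
  rw [disjM, toFs_disjoint_iff (by norm_num)] at hd hd'
  obtain ⟨u, hu, h1, h2⟩ := conj_Hfix g (labF_sm [0x800003]
    [0xb89453459049c8f92eb340dd6a3401, 0xbdb0a984498cf2a29964adc889417] 3000
    [0xb000, 0x7000] (fun m => (pc24 m =ₙ 3) &&ₙ (0x800003 &ₙ m =ₙ 0))
    (fun m => Act.b2n (inO (0x800003 |ₙ m))) (by decide +kernel) hm hm' hU.le hU'.le
    (by simp [hU, hd]) (by simp [hU', hd']) (by simp only [n_or, h]))
  exact ⟨u, hu, h1 _ (by simp), h2⟩

end Cfsg.Agent.S1562
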