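import Cfsg.Statements.S1564
import Cfsg.Agent.H7.M24e

set_option autoImplicit false
open scoped Pointwise
open Cfsg

namespace Cfsg.Agent.S1564

open CfsgH7 MulAction
set_option maxRecDepth 100000


/-- The stabiliser of a set of three points (setwise) is a maximal proper subgroup of the group of the length-24 code. -/
theorem result (s : Finset Cfsg.GolayPt) (hs : s.card = 3) : IsCoatom (MulAction.stabilizer Cfsg.M24 s) := by
  obtain ⟨g, rfl⟩ := trP3 hs
  rw [stabM_smul]
  exact isCoatom_cj g (coatom_of Dsm trip_valid (S := Strip) 3000 (R := Rtrip)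
    (by rw [Coded.coatomChk, W3_eq]; decide +kernel))

end Cfsg.Agent.S1564
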