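import Cfsg.Statements.S1565
import Cfsg.Agent.H7.M24e

set_option autoImplicit false
open scoped Pointwise
open Cfsg

namespace Cfsg.Agent.S1565

open CfsgH7 MulAction
set_option maxRecDepth 100000


/-- The stabiliser of an octad is a maximal proper subgroup of the group of the length-24 code. -/
theorem result (o : Finset Cfsg.GolayPt) (ho : o ∈ Cfsg.octads) : IsCoatom (MulAction.stabilizer Cfsg.M24 o) := by
  obtain ⟨g, rfl⟩ := trO ho
  rw [stabM_smul]
  exact isCoatom_cj g (coatom_of Dcw (c := 0x82402f) (by decide +kernel) (S := Soct) 1000 (R := Roct)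
    (by rw [Coded.coatomChk, Woct_eq]; decide +kernel))

end Cfsg.Agent.S1565
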