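import Cfsg.Statements.S1568
import Cfsg.Agent.H7.Le1

set_option autoImplicit false
open Cfsg

namespace Cfsg.Agent.S1568

open CfsgH7 MulAction
open scoped Pointwise symmDiff
set_option maxRecDepth 100000
set_option Elab.async false

theorem stat_ind (P : ℤ → Prop) [DecidablePred P] {x : V24} (hx : sqNorm x = 48) :
    stat (fun _ z => if P (z - 8) then 1 else 0) x = (Finset.univ.filter fun i => P (x i)).card := by
  rw [stat, Finset.card_filter]
  refine Finset.sum_congr rfl fun i _ => ?_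
  have := abs_le_of_sqNorm (x := x) (by omega) i
  rw [Int.toNat_of_nonneg (by omega), add_sub_cancel_right]

theorem cens (P : ℤ → Prop) [DecidablePred P] (ls : List ℕ) (h : ls.Nodup ∧ ∀ l ∈ ls, l < 25)
    (Q : V24 → Prop) (hQ : ∀ x, Q x ↔ (Finset.univ.filter fun i => P (x i)).card ∈ ls) :
    {x : V24 | x ∈ leechLattice ∧ sqNorm x = 48 ∧ Q x}.ncard =
      cL 48 25 (fun _ z => if P (z - 8) then 1 else 0) ls := by
  rw [← ncard_leech 48 25 _ ls (fun _ => 1) (by norm_num)
    ⟨h.1, h.2, fun _ _ _ _ _ => by split_ifs <;> omega, by norm_num⟩]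
  congr 1; ext x
  exact and_congr_right fun _ => and_congr_right fun hx => by rw [stat_ind P hx, hQ]

theorem le24 (s : Finset GolayPt) : s.card ≤ 24 := (Finset.card_le_univ s).trans_eq card_pt

/-- Shape census of the lattice vectors of sum of squares 48 (customary norm 6): the four families (2^12, 0^12), (±3^3, ±1^21), (±4, ±2^8, 0^15) and (±5, ±1^23) have 5275648, 8290304, 3108864 and 98304 members. -/
theorem result : {x : Cfsg.GolayPt → ℤ | x ∈ Cfsg.leechLattice ∧ Cfsg.sqNorm x = 48 ∧ ∀ i, x i = 0 ∨ x i = 2 ∨ x i = -2}.ncard = 5275648 ∧ {x : Cfsg.GolayPt → ℤ | x ∈ Cfsg.leechLattice ∧ Cfsg.sqNorm x = 48 ∧ ∃ i j k, i ≠ j ∧ j ≠ k ∧ i ≠ k ∧ |x i| = 3 ∧ |x j| = 3 ∧ |x k| = 3}.ncard = 8290304 ∧ {x : Cfsg.GolayPt → ℤ | x ∈ Cfsg.leechLattice ∧ Cfsg.sqNorm x = 48 ∧ ∃ i, |x i| = 4}.ncard = 3108864 ∧ {x : Cfsg.GolayPt → ℤ | x ∈ Cfsg.leechLattice ∧ Cfsg.sqNorm x = 48 ∧ ∃ i, |x i| = 5}.ncard = 98304 := by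
  refine ⟨(cens (fun z => ¬(z = 0 ∨ z = 2 ∨ z = -2)) [0] (by simp) _ fun x => ?_).trans (by decide +kernel),
    (cens (fun z => |z| = 3) (List.range' 3 22) (by decide) _ fun x => ?_).trans (by decide +kernel),
    (cens (fun z => |z| = 4) (List.range' 1 24) (by decide) _ fun x => ?_).trans (by decide +kernel),
    (cens (fun z => |z| = 5) (List.range' 1 24) (by decide) _ fun x => ?_).trans (by decide +kernel)⟩
  · simp only [List.mem_singleton, Finset.card_eq_zero, Finset.filter_eq_empty_iff, Finset.mem_univ,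
      true_imp_iff, not_not]
  · have := le24 (Finset.univ.filter fun i => |x i| = 3)
    rw [List.mem_range'_1, and_iff_left (by omega), Nat.succ_le_iff, Finset.two_lt_card_iff]
    simp only [Finset.mem_filter, Finset.mem_univ, true_and]
    exact ⟨fun ⟨i, j, k, a, b, c, d, e, f⟩ => ⟨i, j, k, d, e, f, a, c, b⟩,
      fun ⟨i, j, k, d, e, f, a, c, b⟩ => ⟨i, j, k, a, b, c, d, e, f⟩⟩
  · have := le24 (Finset.univ.filter fun i => |x i| = 4)
    rw [List.mem_range'_1, and_iff_left (by omega), Nat.succ_le_iff, Finset.card_pos]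
    simp [Finset.Nonempty]
  · have := le24 (Finset.univ.filter fun i => |x i| = 5)
    rw [List.mem_range'_1, and_iff_left (by omega), Nat.succ_le_iff, Finset.card_pos]
    simp [Finset.Nonempty]

end Cfsg.Agent.S1568
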