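import Cfsg.Statements.S1569
import Cfsg.Agent.H7.Le5

set_option autoImplicit false
open scoped Pointwise
open Cfsg

namespace Cfsg.Agent.S1569

open CfsgH7 MulAction
open scoped Pointwise symmDiff
set_option maxRecDepth 100000
set_option Elab.async false


/-- The cross through a lattice vector of customary norm 8 has exactly 48 members. -/
theorem result (x : Cfsg.GolayPt → ℤ) (hx : x ∈ Cfsg.leechLattice) (hxn : Cfsg.sqNorm x = 64) : (Cfsg.cross x).ncard = 48 := by
  rw [← Le.mainL.2 ⟨x, hx⟩ hxn, ← Set.ncard_image_of_injective _ Subtype.val_injective]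
  congr 1
  ext y
  refine ⟨fun ⟨a, b, z, c, d⟩ => ⟨⟨y, a⟩, ⟨b.trans hxn, ⟨z, c⟩, Subtype.ext (d.trans ?_)⟩, rfl⟩, ?_⟩
  · simp [two_smul]
  · rintro ⟨y, ⟨a, z, b⟩, rfl⟩
    exact ⟨y.2, a.trans hxn.symm, z, z.2, (congrArg Subtype.val b).trans (by simp [two_smul])⟩

end Cfsg.Agent.S1569
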