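import Cfsg.Statements.S1571
import Cfsg.Agent.H7.Le2
import Cfsg.Agent.H7.M24

set_option autoImplicit false
open scoped Pointwise
open Cfsg

namespace Cfsg.Agent.S1571

open CfsgH7 MulAction
open scoped Pointwise symmDiff
set_option maxRecDepth 100000
set_option Elab.async false


/-- The stabiliser of the standard cross in the automorphism group of the lattice is the monomial group of the code: each of its elements acts as a signed permutation with permutation part in the code's group and sign set a codeword, and it has order 4096 · 244823040. -/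
theorem result : (∀ g : ↥Cfsg.Co0, (∀ v : ↥Cfsg.leechLattice, (v : Cfsg.GolayPt → ℤ) ∈ Cfsg.stdCross → ((g • v : ↥Cfsg.leechLattice) : Cfsg.GolayPt → ℤ) ∈ Cfsg.stdCross) → ∃ f ∈ Cfsg.golayMonomialMaps, ∀ v : ↥Cfsg.leechLattice, ((g • v : ↥Cfsg.leechLattice) : Cfsg.GolayPt → ℤ) = f (v : Cfsg.GolayPt → ℤ)) ∧ Nat.card {g : ↥Cfsg.Co0 // (∀ v : ↥Cfsg.leechLattice, (v : Cfsg.GolayPt → ℤ) ∈ Cfsg.stdCross → ((g • v : ↥Cfsg.leechLattice) : Cfsg.GolayPt → ℤ) ∈ Cfsg.stdCross)} = 4096 * 244823040 := by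
  have key : ∀ g : Co0, (∀ v : LL, (v : V24) ∈ stdCross → ((g • v : LL) : V24) ∈ stdCross) →
      ∃ σ c, g = mon σ c := fun g h => exists_mon_of_cross (h (e8 none) ⟨none, 8, Or.inl rfl, rfl⟩)
  refine ⟨fun g h => ?_, ?_⟩
  · obtain ⟨σ, c, rfl⟩ := key g h
    exact ⟨_, ⟨σ, σ.2, c, c.2, rfl⟩, mon_smul σ c⟩
  · rw [← card_Cw, ← card_M24, ← Nat.card_prod]
    refine (Nat.card_eq_of_bijective (fun p : Cw × M24 => ⟨mon p.2 p.1, fun v => mon_cross _ _⟩)
      ⟨fun p q e => ?_, fun g => ?_⟩).symm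
    · have := mon_inj (Subtype.mk.inj e)
      exact Prod.ext this.2 this.1
    · obtain ⟨σ, c, e⟩ := key g g.2
      exact ⟨(c, σ), Subtype.ext e.symm⟩

end Cfsg.Agent.S1571
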