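import Cfsg.Statements.S1573
import Cfsg.Agent.H7.Le6

set_option autoImplicit false
open Cfsg

namespace Cfsg.Agent.S1573

open CfsgH7 MulAction
open scoped Pointwise symmDiff
set_option maxRecDepth 100000
set_option Elab.async false


/-- Census of minimal vectors by inner product with a fixed minimal vector: 4600 have customary inner product −2, 47104 have −1, and 93150 are orthogonal. -/
theorem result (v : Cfsg.GolayPt → ℤ) (hv : v ∈ Cfsg.leechLattice) (hvn : Cfsg.sqNorm v = 32) : {w : Cfsg.GolayPt → ℤ | w ∈ Cfsg.leechLattice ∧ Cfsg.sqNorm w = 32 ∧ Cfsg.dotInt v w = -16}.ncard = 4600 ∧ {w : Cfsg.GolayPt → ℤ | w ∈ Cfsg.leechLattice ∧ Cfsg.sqNorm w = 32 ∧ Cfsg.dotInt v w = -8}.ncard = 47104 ∧ {w : Cfsg.GolayPt → ℤ | w ∈ Cfsg.leechLattice ∧ Cfsg.sqNorm w = 32 ∧ Cfsg.dotInt v w = 0}.ncard = 93150 := by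
  obtain ⟨g, e⟩ := Le.trU (v := ⟨v, hv⟩) hvn
  have key : ∀ k, {w : V24 | w ∈ leechLattice ∧ sqNorm w = 32 ∧ dotInt v w = k}.ncard =
      (Le.Xd Le.lU k).ncard := fun k => by
    rw [← ncard_LL fun w => sqNorm w = 32 ∧ dotInt v w = k, ← Le.Xd_card g, e]; rfl
  rw [key, key, key]
  exact ⟨(Le.Xd_neg _ 16).trans Le.nU16, Le.nU8, Le.nU0⟩

end Cfsg.Agent.S1573
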