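import Cfsg.Statements.S1574
import Cfsg.Agent.H7.Le5

set_option autoImplicit false
open Cfsg

namespace Cfsg.Agent.S1574

open CfsgH7 MulAction
open scoped Pointwise symmDiff
set_option maxRecDepth 100000
set_option Elab.async false


/-- The stabiliser of a minimal vector is transitive on the minimal vectors of customary inner product −2 with it. -/
theorem result (v w w' : ↥Cfsg.leechLattice) (hv : Cfsg.sqNorm (v : Cfsg.GolayPt → ℤ) = 32) (hw : Cfsg.sqNorm (w : Cfsg.GolayPt → ℤ) = 32) (hw' : Cfsg.sqNorm (w' : Cfsg.GolayPt → ℤ) = 32) (hd : Cfsg.dotInt (v : Cfsg.GolayPt → ℤ) (w : Cfsg.GolayPt → ℤ) = -16) (hd' : Cfsg.dotInt (v : Cfsg.GolayPt → ℤ) (w' : Cfsg.GolayPt → ℤ) = -16) : ∃ g : ↥Cfsg.Co0, g • v = v ∧ g • w = w' := by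
  obtain ⟨g, a, b⟩ := Le.trUQ (w := -w) hv (by rw [Le.nm_neg]; exact hw) (by rw [Le.dt_neg, show Le.dt v w = -16 from hd]; rfl)
  obtain ⟨k, c, d⟩ := Le.trUQ (w := -w') hv (by rw [Le.nm_neg]; exact hw') (by rw [Le.dt_neg, show Le.dt v w' = -16 from hd']; rfl)
  refine ⟨k * g⁻¹, by rw [mul_smul, ← a, inv_smul_smul, c, a], neg_injective ?_⟩
  rw [← smul_neg, ← b, mul_smul, inv_smul_smul, d]

end Cfsg.Agent.S1574
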