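import Cfsg.Statements.S1577
import Cfsg.Agent.H7.Le6
import Cfsg.Agent.H7.Iso2
import Cfsg.Agent.S2091

set_option autoImplicit false
open Cfsg

namespace Cfsg.Agent.S1577

open CfsgH7 MulAction
open scoped Pointwise symmDiff
set_option maxRecDepth 100000
set_option Elab.async false

open Le
variable {G Ω : Type*} [Group G] [MulAction G Ω]
def tsm : List ℕ := [0x4204240420204242040242402026402020402020464020402040202420202420202420045, 0x2420202420202420204020402046402020402020462020424204024240202404240240045, 0x2042402420202042402402404204202420202042040240264020204020204624242042404242404240240055, 0x42042404242404240242426402020402020462042040240202024202402404204204240202024204240200055, 0x204202402402024202404602020604204020240420402042040240424042060202060204042404204202424040402420202404240204020402024202424020242020424200089, 0x24240202420204242024202040204020424042020242040404242024024042404020602020602404240420402402040240420204024060202064042024202042042024020089, 0x424240260624242606404024042042040204020420420402402420402040240204020402404204204202424040402420202404240204020402024202424020242020424202404204202424040402420202404200a7,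 0x2404202024204040424202402404202424020242020424202420204020402042404202024204040424202402402404204020402042040204024204204024024020402040240240420404606242426062042424000a7, 0x20204024024242404602020624260202064240242046242464242620242420420204040202406260646062604240420420242404040242020240404204202424040402420202404242024042020404204042042402404024040202404202400bd, 0x42024042020404204042042402404024040202404202424042020242040404242024024040420202420404042420240240424062606460626042020404020240242420262424642426402420424602020624260202064042424204204020200bd]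
theorem okm : lall (okW Co2.A.tb.n) tsm = true := by decide +kernel
theorem qm0 : lall (fun r => (Co2.A.tb.rw tsm).oneL [r]) PrU62.R0 = true := by decide +kernel
theorem qm1 : lall (fun r => (Co2.A.tb.rw tsm).oneL [r]) PrU62.K1.T.rels = true := by decide +kernel
theorem qm2 : lall (fun r => (Co2.A.tb.rw tsm).oneL [r]) PrU62.K2.T.rels = true := by decide +kernel
theorem qm3 : lall (fun r => (Co2.A.tb.rw tsm).oneL [r]) PrU62.K3.T.rels = true := by decide +kernel
theorem qm4 : lall (fun r => (Co2.A.tb.rw tsm).oneL [r]) PrU62.K4.T.rels = true := by decide +kernel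
theorem relm (W : WT Co2.A.tb G Ω) : ∀ r ∈ PrU62.R4, ev8 (W.gs tsm) r = 1 := rels_append (rels_append (rels_append (rels_append (((W.rw tsm okm).orc rfl).rels qm0) (((W.rw tsm okm).orc rfl).rels qm1)) (((W.rw tsm okm).orc rfl).rels qm2)) (((W.rw tsm okm).orc rfl).rels qm3)) (((W.rw tsm okm).orc rfl).rels qm4)
theorem gx [Finite G] (W : WT Co2.A.tb G Ω) : 9196830720 ≤ Nat.card (cl (W.gs tsm) 10) := W.card_ge okm 9 [(1, 891, [0x20001, 0x40001, 0x60001]), (42, 42, [0x711240005, 0x912080005]), (2, 40, [0x59120840007, 0x90074000007]), (1068, 4, [0x319519552142000c, 0x17938609378462000e]), (8, 3, [0x703795342408261000f]), (3, 32, [0x917860006, 0x7531121460009, 0x5902831864000a, 0x7315152142146000d]), (4, 2, [0x7300311260009]), (5, 2, [0x530060342171124000f]), (6, 2, [0x571906008114000c]), (7, 2, [0x579029311704912085160840017])] (by decide +kernel)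
theorem fb : Co2.B.tb.fixes tsm [0] = true := by decide +kernel
theorem eg : Co2.Aok.W.gen = Co2.Bok.W.gen := rfl
theorem key (c : Co0) (a b : LL) : Nonempty (↥(St a ⊓ St b) ≃* ↥(St (c • a) ⊓ St (c • b))) :=
  ⟨((MulAut.conj c).subgroupMap _).trans (MulEquiv.subgroupCongr (by
    ext g
    refine (Subgroup.mem_map_equiv (f := MulAut.conj c)).trans ?_
    simp [mul_smul, inv_smul_eq_iff]))⟩

/-- The joint stabiliser of two minimal vectors of customary inner product −2 is isomorphic to PSU(6, 2). -/
theorem result (v w : ↥Cfsg.leechLattice) (hv : Cfsg.sqNorm (v : Cfsg.GolayPt → ℤ) = 32) (hw : Cfsg.sqNorm (w : Cfsg.GolayPt → ℤ) = 32) (hd : Cfsg.dotInt (v : Cfsg.GolayPt → ℤ) (w : Cfsg.GolayPt → ℤ) = -16) (F : Type) [Field F] [Fintype F] (hF : Fintype.card F = 4) : Nonempty (↥(MulAction.stabilizer ↥Cfsg.Co0 v ⊓ MulAction.stabilizer ↥Cfsg.Co0 w) ≃* Cfsg.PSU 6 F 2) := by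
  obtain ⟨g, g1, g2⟩ := trUQ (w := -w) hv ((nm_neg w).trans hw) (by rw [dt_neg, show dt v w = -16 from hd]; rfl)
  obtain ⟨e1⟩ := key g lU lQ
  rw [g1, g2, St_neg] at e1
  obtain ⟨a, W, e, t⟩ := Le.full2
  have : Finite (Fx [cU]) := Nat.finite_of_card_ne_zero (by rw [a]; norm_num)
  have eg' : W.gen = Co2.Bok.W.gen := (congrArg WT0.gen e).trans eg
  obtain ⟨b, _, _, V, s⟩ := U62.full hF
  obtain ⟨e2⟩ := iso_top PrU62.p4 (relm W) (S2091.rel V) (gx W) (S2091.gt V s) b
  have le : cl (W.gs tsm) 10 ≤ MulAction.stabilizer (Fx [cU]) lQ := cl_le fun i hi => by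
    have a : i < tsm.length := hi
    rw [WT.gs, List.getD_eq_getElem _ _ a]
    show evW W.gen _ ∈ _
    rw [eg']
    exact Co2.Bok.W.fixes_spec fb _ (List.getElem_mem a) 0 (by simp)
  have c := card_orbit_mul (St lU) lQ
  rw [orb4600, nU16, ← Fx_U, a, Fx_U] at c
  have f : Finite ↥(St lU ⊓ St lQ) := Nat.finite_of_card_ne_zero fun h => by rw [h] at c; omega
  have e3 : (cl (W.gs tsm) 10).map (Fx [cU]).subtype = St lU ⊓ St lQ := by
    refine Subgroup.eq_of_le_of_card_ge ?_ ?_
    · rintro _ ⟨a, b, rfl⟩
      exact ⟨Fx_U.le a.2, le b⟩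
    · rw [Subgroup.card_map_of_injective (Subgroup.subtype_injective _)]
      exact le_trans (Nat.le_of_mul_le_mul_left (c.le.trans (by norm_num)) (by norm_num : 0 < 4600)) (gx W)
  exact ⟨(e1.symm.trans ((MulEquiv.subgroupCongr e3.symm).trans (Subgroup.equivMapOfInjective _ _ (Subgroup.subtype_injective _)).symm)).trans e2⟩

end Cfsg.Agent.S1577
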