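import Cfsg.Statements.S1582
import Cfsg.Agent.H7.Le6
import Cfsg.Agent.H7.Iso2
import Cfsg.Agent.S2090

set_option autoImplicit false
open Cfsg

namespace Cfsg.Agent.S1582

open CfsgH7 MulAction
open scoped Pointwise symmDiff
set_option maxRecDepth 100000
set_option Elab.async false

open Le
variable {G Ω : Type*} [Group G] [MulAction G Ω]
def tsm : List ℕ := [0x40420240202064262462460242064024240402404262404262060402026020003e, 0x424204020402024020204204040242040402020620204060200032, 0x4202026426246464206420204602602060402026020002c, 0x2062020406020620640202460246464262462020240002c, 0x4242026426246204264262462460242064024062404262404204042020604020260200045, 0x206202040602024040240426240426042046024206426426246240264262462024240045]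
theorem okm : lall (okW McL.A.tb.n) tsm = true := by decide +kernel
theorem qm0 : lall (fun r => (McL.A.tb.rw tsm).oneL [r]) PrU43.R0 = true := by decide +kernel
theorem qm1 : lall (fun r => (McL.A.tb.rw tsm).oneL [r]) PrU43.K1.T.rels = true := by decide +kernel
theorem qm2 : lall (fun r => (McL.A.tb.rw tsm).oneL [r]) PrU43.K2.T.rels = true := by decide +kernel
theorem relm (W : WT McL.A.tb G Ω) : ∀ r ∈ PrU43.R2, ev8 (W.gs tsm) r = 1 := rels_append (rels_append (((W.rw tsm okm).orc rfl).rels qm0) (((W.rw tsm okm).orc rfl).rels qm1)) (((W.rw tsm okm).orc rfl).rels qm2)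
theorem gx [Finite G] (W : WT McL.A.tb G Ω) : 3265920 ≤ Nat.card (cl (W.gs tsm) 6) := W.card_ge okm 6 [(6, 112, [0x1, 0x20001]), (126, 30, [0x33530004, 0x35020004]), (131, 2, [0x2421420006]), (1, 27, [0x1300210006, 0x21130006, 0x353511240008]), (2, 6, [0x514040005, 0x3033120006]), (3, 3, [0x5113035003312000d])] (by decide +kernel)
theorem st [Finite G] (W : WT McL.A.tb G Ω) (t : cl W.gen 16 = ⊤) (a : Nat.card G = 898128000) : cl (W.gs tsm) 6 = MulAction.stabilizer G (W.pt 0) := by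
  refine Subgroup.eq_of_le_of_card_ge (W.gs_le (by decide +kernel)) (le_trans ?_ (gx W))
  have c := card_orbit_mul (⊤ : Subgroup G) (W.pt 0)
  rw [Subgroup.card_top, a, CfsgH7.orbit_top, W.orbit_top le_rfl t (S := [0x1, 0x20001, 0x40001, 0x60001]) (b := 0) (by decide +kernel), W.ncard_X, top_inf_eq, show McL.A.tb.N = 275 from rfl] at c
  omega
theorem key (c : Co0) (a b d : LL) : Nonempty (↥(St a ⊓ St b ⊓ St d) ≃* ↥(St (c • a) ⊓ St (c • b) ⊓ St (c • d))) :=
  ⟨((MulAut.conj c).subgroupMap _).trans (MulEquiv.subgroupCongr (by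
    ext g
    refine (Subgroup.mem_map_equiv (f := MulAut.conj c)).trans ?_
    simp [mul_smul, inv_smul_eq_iff]))⟩

/-- The point stabiliser in the rank-3 action of the McLaughlin group on 275 points is isomorphic to PSU(4, 3). -/
theorem result (u v x : ↥Cfsg.leechLattice) (hu : Cfsg.sqNorm (u : Cfsg.GolayPt → ℤ) = 48) (hv : Cfsg.sqNorm (v : Cfsg.GolayPt → ℤ) = 32 ∧ Cfsg.sqNorm ((u - v) : Cfsg.GolayPt → ℤ) = 32) (hx : x ∈ {x : ↥Cfsg.leechLattice | Cfsg.sqNorm (x : Cfsg.GolayPt → ℤ) = 32 ∧ Cfsg.sqNorm ((u - x) : Cfsg.GolayPt → ℤ) = 32 ∧ Cfsg.dotInt (v : Cfsg.GolayPt → ℤ) (x : Cfsg.GolayPt → ℤ) = 16}) (F : Type) [Field F] [Fintype F] (hF : Fintype.card F = 9) : Nonempty (↥(MulAction.stabilizer ↥Cfsg.Co0 u ⊓ MulAction.stabilizer ↥Cfsg.Co0 v ⊓ MulAction.stabilizer ↥Cfsg.Co0 x) ≃* Cfsg.PSU 4 F 3) := by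
  obtain ⟨g, g1, g2⟩ := trMc hu hv.1 (by have := (Le.sub_iff hu hv.1).mp hv.2; omega)
  have hx' : x ∈ Y2 u v 24 16 := (Le.mem_mc hu).mp hx
  have m : g⁻¹ • x ∈ X275 := mem275.mpr ⟨(nm_smul _ _).trans hx'.1, by rw [← dt_smul g, g1, smul_inv_smul]; exact hx'.2.1, by rw [← dt_smul g, g2, smul_inv_smul]; exact hx'.2.2⟩
  rw [← orb275] at m
  obtain ⟨⟨k, k1, k2⟩, k3⟩ := m
  have k1 : k • -lV = -lV := by rw [← St_neg] at k1; exact k1
  have k2 : k • lU = lU := k2
  have k3 : k • McL.Aok.W.pt 0 = g⁻¹ • x := k3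
  obtain ⟨e1⟩ := key (g * k) (-lV) lU (McL.Aok.W.pt 0)
  rw [mul_smul, mul_smul, mul_smul, k1, k2, k3, g1, g2, smul_inv_smul, St_neg, ← Fx_VU] at e1
  obtain ⟨a, W, e, t⟩ := Le.fullM
  rw [← e] at t e1
  have : Finite (Fx [cV, cU]) := Nat.finite_of_card_ne_zero (by rw [a]; norm_num)
  obtain ⟨b, _, _, V, s⟩ := U43.full hF
  obtain ⟨e2⟩ := iso_top PrU43.p2 (relm W) (S2090.rel V) (gx W) (S2090.gt V s) b
  have e3 : (cl (W.gs tsm) 6).map (Fx [cV, cU]).subtype = Fx [cV, cU] ⊓ St (W.pt 0) := by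
    rw [st W t a]
    ext g
    exact ⟨fun ⟨a, b, c⟩ => c ▸ ⟨a.2, b⟩, fun h => ⟨⟨g, h.1⟩, h.2, rfl⟩⟩
  exact ⟨(e1.symm.trans ((MulEquiv.subgroupCongr e3.symm).trans (Subgroup.equivMapOfInjective _ _ (Subgroup.subtype_injective _)).symm)).trans e2⟩

end Cfsg.Agent.S1582
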