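import Cfsg.Statements.S1591
import Cfsg.Agent.H1.TG

set_option autoImplicit false
open Cfsg

namespace Cfsg.Agent.S1591

/-- Any two words of the length-12 ternary code have dot product zero. -/
theorem result (x y : Cfsg.ArrayPt → ZMod 3) (hx : x ∈ Cfsg.ternaryGolayCode) (hy : y ∈ Cfsg.ternaryGolayCode) : ∑ p, x p * y p = 0 := by
  open CfsgH1.Code in
  have h := self0 _ (add_mem hx hy)
  have k : ∀ a b : ZMod 3, (a + b) * (a + b) = a * a + b * b - a * b := by decide
  simp only [Pi.add_apply, k, Finset.sum_sub_distrib, Finset.sum_add_distrib, self0 x hx, self0 y hy] at h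
  simpa using h

end Cfsg.Agent.S1591
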