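import Cfsg.Statements.S1592
import Cfsg.Agent.H1.TG
import Cfsg.Agent.H7.St1

set_option autoImplicit false
open Cfsg

namespace Cfsg.Agent.S1592

/-- The supports of the weight-6 words of the length-12 ternary code form a Steiner system S(5, 6, 12) with 132 blocks. -/
theorem result : Cfsg.IsSteinerSystem 5 6 {h : Finset Cfsg.ArrayPt | ∃ x ∈ Cfsg.ternaryGolayCode, Cfsg.ternarySupport x = h ∧ h.card = 6} ∧ {h : Finset Cfsg.ArrayPt | ∃ x ∈ Cfsg.ternaryGolayCode, Cfsg.ternarySupport x = h ∧ h.card = 6}.ncard = 132 := by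
  open CfsgH1.Code in
  refine ⟨steiner, ?_⟩
  have := CfsgH7.nb_lam steiner 5 ∅ rfl
  rw [CfsgH7.nb_empty, show Fintype.card ArrayPt = 12 by simp] at this
  rw [Finset.card_empty, show Nat.descFactorial (6 - 0) 5 = 720 from rfl,
    show Nat.descFactorial (12 - 0) 5 = 95040 from rfl] at this
  exact Nat.eq_of_mul_eq_mul_right (by norm_num : 0 < 720) (this.trans (by norm_num))

end Cfsg.Agent.S1592
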