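import Cfsg.Statements.S1596
import Cfsg.Agent.H7.Mk

set_option autoImplicit false
open scoped Pointwise
open Cfsg

namespace Cfsg.Agent.S1596

open CfsgH7 MulAction
open scoped Pointwise symmDiff
set_option maxRecDepth 100000
set_option Elab.async false


/-- A quartet of a dodecad is determined by any two of its triples: two disjoint triples uniting to a hexad extend to exactly one quartet. -/
theorem result (d : Finset Cfsg.GolayPt) (hd : d ∈ Cfsg.dodecads) (t u : Finset Cfsg.GolayPt) (ht : t.card = 3) (hu : u.card = 3) (htu : Disjoint t u) (hh : t ∪ u ∈ Cfsg.hexadsOn d) : ∃! Q : Finset (Finset Cfsg.GolayPt), Q ∈ Cfsg.quartets d ∧ t ∈ Q ∧ u ∈ Q := by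
  obtain ⟨g, rfl, rfl⟩ := trD3 hd ht (Finset.subset_union_left.trans (hex_sub hh))
  obtain ⟨u, rfl⟩ := exM g u
  rw [unionM, hexM] at hh
  rw [cardM] at hu
  obtain ⟨k, hk, h1, h2, h3⟩ := quart_t0 hu hh
  have h4 := (qM k _ _).mpr q0_mem
  rw [mem_stabM.mp hk] at h4
  refine ⟨(g : P24) • (k : P24) • qdec q0, ⟨(qM g _ _).mpr h4, (memM _ _ _).mpr h1, (memM _ _ _).mpr h2⟩, fun Q hQ => ?_⟩
  obtain ⟨Q, rfl⟩ := exM g Q
  rw [qM, memM, memM] at hQ
  rw [h3 Q hQ.1 hQ.2.1 hQ.2.2]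

end Cfsg.Agent.S1596
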