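import Cfsg.Statements.S1598
import Cfsg.Agent.H7.Mk

set_option autoImplicit false
open scoped Pointwise
open Cfsg

namespace Cfsg.Agent.S1598

open CfsgH7 MulAction
open scoped Pointwise symmDiff
set_option maxRecDepth 100000
set_option Elab.async false


/-- A quartet stabiliser inside the dodecad stabiliser has order 432, a normal subgroup of order 9 with quotient GL(2, 3), and is transitive on the dodecad. -/
theorem result (d : Finset Cfsg.GolayPt) (hd : d ∈ Cfsg.dodecads) (Q : Finset (Finset Cfsg.GolayPt)) (hQ : Q ∈ Cfsg.quartets d) : Nat.card ↥(MulAction.stabilizer Cfsg.M24 d ⊓ MulAction.stabilizer Cfsg.M24 Q) = 432 ∧ (∃ (N : Subgroup ↥(MulAction.stabilizer Cfsg.M24 d ⊓ MulAction.stabilizer Cfsg.M24 Q)) (_ : N.Normal), Nat.card N = 9 ∧ Nonempty (↥(MulAction.stabilizer Cfsg.M24 d ⊓ MulAction.stabilizer Cfsg.M24 Q) ⧸ N ≃* GL (Fin 2) (ZMod 3))) ∧ ∀ p ∈ d, ∀ q ∈ d, ∃ g ∈ (MulAction.stabilizer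 Cfsg.M24 d ⊓ MulAction.stabilizer Cfsg.M24 Q), ((g : ↥Cfsg.M24) : Equiv.Perm Cfsg.GolayPt) p = q := by
  obtain ⟨g, rfl, rfl⟩ := trQ hd hQ
  rw [stabM_smul, stabM_smul, ← cj_inf]
  have hN := packQ.sub_chain [(3, [(0xbda27721f0aa9b25cccc28e8448041, 0xbd9e5532b08cda85b872a24e430402)]),(0, [(0xbda6f3a1c4516125d12ca9a2d18402, 0xbd8eaab0ada44885bd32999d018041)])] 9 (by decide +kernel)
  refine ⟨by rw [card_cj, packQ.card], ?_, fun x hx y hy => ?_⟩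
  · obtain ⟨hn, ⟨q⟩⟩ := quot_cj g ((packQ.rebase (S' := [0xb5df4a89cc3a901596008927268d26, 0x5d8ef984a4a39a0ba922a9a301a24c]) (L' := [(0, [(0xbdab12a5c2a3c035cd86520e193490, 0xbdaaf50e807444959e462a2616408d)]),(1, [(0xb5d51299c499e035d189aa1ed90440, 0xb5cea78e8d2c4895d50674a7060440)]),(4, [(0xb5dd4799509d4895c5833c8ad40820, 0xb5dd4799509d4895c5833c8ad40820), (0xbaeae9c1522d18db4464399e848820, 0xbaeae9c1522d18db4464399e848820)]),(3, [(0xb5eae2a62d7d20359e465226460820, 0xb5eae2a62d7d20359e465226460820)])]) (P := [(1, 1), (1, 0), (0, 2), (3, 4), (0, 6), (2, 6), (0, 0), (0, 3), (5, 1), (4, 10), (0, 10), (7, 1), (0, 12), (4, 3), (0, 0), (0, 3), (11, 6), (8, 18), (0, 0), (0, 3), (17, 5), (0, 2), (13, 1), (24, 20), (0, 4), (9, 23), (0, 18), (18, 25), (0, 20)]) (k := 31) (by decide +kernel)).quot (packG23.rebase (S' := [0xa2159f, 0x6a5f88]) (L' := [(0, [(0x58ca1f, 0x19c3ea)]),(2, [(0xd7a8c8,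 0xbf3508), (0x6a5f88, 0x6a5f88)])]) (P := [(0, 1), (0, 2), (0, 4), (0, 4), (4, 6), (6, 2)]) (k := 8) (by decide +kernel))
      ⟨nat_lit 32, nat_lit 5, nat_lit 31⟩ (by decide) (P := [(0, 2), (1, 1), (0, 4), (0, 4), (5, 1), (4, 0), (0, 2), (0, 7), (0, 0), (0, 4), (3, 0), (0, 2), (11, 13), (10, 0), (0, 2), (3, 16), (16, 1), (0, 0), (0, 13), (20, 17), (8, 9), (2, 1), (2, 1), (16, 9), (5, 13), (10, 1)]) (k := 28) (L := [(0, [(0xe6f5ff7738b5df1a22622d42c5b872524e033490, 0xe6f5ff7738b5dd38a280aa84c59cd228de14c1a4)]),(1, [(0xc73beceb7f5d8ea2b2a99c468bb9b2a41e620440, 0xc73beceb7f5da277a1c62a932bd20ca926368440)]),(3, [(0xefbfcd6f19badd4290ec7d510b292d88e7230820, 0xefbfcd6f19badd4290ec7d510b292d88e7230820), (0xd7b3cee37f5deb478d4c2ba49b1e068926868820, 0xc7b7ccffbab2eb42b4e99b870bc584521e690820)]),(4, [(0xefbfcd6f19bae957b6289ba44b1cd0524ac18820, 0xefbfcd6f19bae957b6289ba44b1cd0524ac18820)])])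 hN.2 (by decide +kernel)).2
    exact ⟨_, hn, by rw [card_subOf (cj_mono _ hN.1), card_cj, hN.2.card], ⟨q.trans Subgroup.topEquiv⟩⟩
  · obtain ⟨x, rfl⟩ := exM g x
    obtain ⟨y, rfl⟩ := exM g y
    rw [memM] at hx hy
    obtain ⟨u, hu, rfl⟩ := reach_pt packQ.mem 0 _ (by decide +kernel) hx
    obtain ⟨v, hv, rfl⟩ := reach_pt packQ.mem 0 _ (by decide +kernel) hy
    refine ⟨g * (v * u⁻¹) * g⁻¹, conj_mem_cj.mpr (mul_mem hv (inv_mem hu)), ?_⟩
    simp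

end Cfsg.Agent.S1598
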