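import Cfsg.Statements.S1600
import Cfsg.Agent.H7.Mg

set_option autoImplicit false
open scoped Pointwise
open Cfsg

namespace Cfsg.Agent.S1600

open CfsgH7 MulAction
open scoped Pointwise symmDiff
set_option maxRecDepth 100000
set_option Elab.async false


/-- The pointwise stabiliser of three points of a dodecad inside the dodecad stabiliser (order 72) is transitive on the complementary dodecad. -/
theorem result (d : Finset Cfsg.GolayPt) (hd : d ∈ Cfsg.dodecads) (p q r : Cfsg.GolayPt) (hp : p ∈ d) (hq : q ∈ d) (hr : r ∈ d) (hpq : p ≠ q) (hpr : p ≠ r) (hqr : q ≠ r) : Nat.card ↥(MulAction.stabilizer Cfsg.M24 d ⊓ MulAction.stabilizer Cfsg.M24 p ⊓ MulAction.stabilizer Cfsg.M24 q ⊓ MulAction.stabilizer Cfsg.M24 r) = 72 ∧ ∀ x ∉ d, ∀ y ∉ d, ∃ g ∈ (MulAction.stabilizer Cfsg.M24 d ⊓ MulAction.stabilizer Cfsg.M24 p ⊓ MulAction.stabilizer Cfsg.M24 q ⊓ MulAction.stabilizer Cfsg.M24 r), ((g : ↥Cfsg.M24)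 : Equiv.Perm Cfsg.GolayPt) x = y := by
  obtain ⟨g, rfl, rfl, rfl, rfl⟩ := trDppp hd hp hq hr hpq hpr hqr
  have h := (pack10.stabL Dpt (c := 0x2) (by decide +kernel) 15 2 10 [(3, [(0x3c66fa8d697150455a4cb9a8d80820, 0x3aa65aa6c3a3c888ae0db99cc90820)]),(4, [(0x75576518ac3dd28a3e449b63018820, 0x752cb3a4a455cd0acdac7ca2818820), (0x2bd47b11c65c5929d209aa2ed18820, 0x2ccea5b1c9b448d7d506a42f218820)])] 72 (by decide +kernel))
  rw [stabM_smul, stabM_smul, stabM_smul, stabM_smul, ← cj_inf, ← cj_inf, ← cj_inf, card_cj]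
  refine ⟨h.card, fun x hx y hy => ?_⟩
  obtain ⟨x, rfl⟩ := exM g x
  obtain ⟨y, rfl⟩ := exM g y
  rw [memM, ← Finset.mem_compl, ← toFs_compl] at hx hy
  obtain ⟨u, hu, rfl⟩ := reach_pt h.mem 23 _ (by decide +kernel) hx
  obtain ⟨v, hv, rfl⟩ := reach_pt h.mem 23 _ (by decide +kernel) hy
  refine ⟨g * (v * u⁻¹) * g⁻¹, conj_mem_cj.mpr (mul_mem hv (inv_mem hu)), ?_⟩
  simp

end Cfsg.Agent.S1600
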