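import Cfsg.Statements.S1602
import Cfsg.Agent.H7.Mi

set_option autoImplicit false
open scoped Pointwise
open Cfsg

namespace Cfsg.Agent.S1602

open CfsgH7 MulAction
open scoped Pointwise symmDiff
set_option maxRecDepth 100000
set_option Elab.async false


/-- In the 12-point action of the smallest Mathieu group the setwise stabiliser of a pair is isomorphic to the symmetric group of degree 5. -/
theorem result (d : Finset Cfsg.GolayPt) (hd : d ∈ Cfsg.dodecads) (p q q' : Cfsg.GolayPt) (hp : p ∈ d) (hq : q ∉ d) (hq' : q' ∉ d) (hqq' : q ≠ q') : Nonempty (↥(MulAction.stabilizer Cfsg.M24 d ⊓ MulAction.stabilizer Cfsg.M24 p ⊓ MulAction.stabilizer Cfsg.M24 ({q, q'} : Finset Cfsg.GolayPt)) ≃* Equiv.Perm (Fin 5)) := by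
  obtain ⟨g, rfl, rfl, rfl, rfl⟩ := trDpqq hd hp hq hq' hqq'
  rw [pairM, stabM_smul, stabM_smul, stabM_smul, ← cj_inf, ← cj_inf,
    ← toFs_pair (by norm_num) (by norm_num)]
  exact equiv_cj g (((pack11.stabL Dsm (c := 0x800020) (by decide +kernel) 71 9 66 [(2, [(0xbce34b36b03ba4352d21788a461900, 0xbce34b36b03ba4352d21788a461900)]),(1, [(0x2a8f3a32a9b3da48b8c8586e390a00, 0x2be33a0d61729b23da08aa6ec208c0)]),(4, [(0x2bd47b11c65c5929d209aa2ed18820, 0x2ccea5b1c9b448d7d506a42f218820)])] 120 (by decide +kernel)).rebase (S' := [0x2d9eb50dc99d4923c422a42ed61900, 0xbd4eea3142b448d7cc30598a392500]) (L' := [(2, [(0xbce34b36b03ba4352d21788a461900, 0xbce34b36b03ba4352d21788a461900)]),(1, [(0x2a8f3a32a9b3da48b8c8586e390a00, 0x2be33a0d61729b23da08aa6ec208c0)]),(4, [(0x2bd47b11c65c5929d209aa2ed18820, 0x2ccea5b1c9b448d7d506a42f218820)])]) (P := [(0, 0), (0, 3), (3, 3), (3, 4), (2, 1), (0, 3), (6, 8), (0, 9), (2, 5), (0, 0),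 (0, 3), (9, 10), (0, 2), (13, 1), (9, 3)]) (k := 17) (by decide +kernel)).iso_top (pack_perm 5 ⟨nat_lit 5, nat_lit 3, nat_lit 7⟩ (by decide) (S := [0x3222, 0x85a]) (L := [(0, [(0x3881, 0x3881)]),(1, [(0x4298, 0x4298)]),(2, [(0x3508, 0x28c8)]),(3, [(0x3888, 0x3888)])]) (M := 120) (by decide) (P := [(0, 0), (0, 3), (2, 4), (0, 5), (5, 5), (0, 2), (0, 8), (5, 6), (0, 2), (0, 0), (0, 8), (6, 1), (3, 11)]) (k := 15) (by decide +kernel))
    ⟨nat_lit 29, nat_lit 5, nat_lit 31⟩ (by decide) (P := [(0, 0), (0, 3), (2, 3), (0, 5), (0, 6), (0, 7), (0, 7), (6, 1), (6, 0), (0, 2), (8, 11), (0, 3), (0, 8), (3, 12)]) (k := 16) (L := [(1, [(0x19deb982da349caa9539a33be02586e4620c0, 0x19deb982da349caa9539a33be02586e4620c0)]),(2, [(0x1bcf31abc5eea0d669d4923d910508ac6a420, 0x1ae6379ba9d37b2c8ad06489c495c0ad91820)]),(4, [(0x18e6f3a2ccea5b1c9b448d7d506a42f218820, 0x1bd633c2bd47b11c65c5929d209aa2ed18820)])]) (by decide +kernel))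

end Cfsg.Agent.S1602
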