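import Cfsg.Statements.S1604
import Cfsg.Agent.H7.M24f

set_option autoImplicit false
open scoped Pointwise
open Cfsg

namespace Cfsg.Agent.S1604

open CfsgH7 MulAction
open scoped Pointwise symmDiff
set_option maxRecDepth 100000


/-- A hexad stabiliser in the two-point stabiliser has orbits of sizes 1, 16, 60 on the 77 hexads: the 16 hexads disjoint from it and the 60 meeting it in two points. -/
theorem result (p q : Cfsg.GolayPt) (hpq : p ≠ q) (o o' o'' : Finset Cfsg.GolayPt) (ho : o ∈ Cfsg.octads) (ho' : o' ∈ Cfsg.octads) (ho'' : o'' ∈ Cfsg.octads) (hp : p ∈ o ∧ p ∈ o' ∧ p ∈ o'') (hq : q ∈ o ∧ q ∈ o' ∧ q ∈ o'') (h : (o ∩ o').card = (o ∩ o'').card) : {x : Finset Cfsg.GolayPt | x ∈ Cfsg.octads ∧ p ∈ x ∧ q ∈ x ∧ (o ∩ x).card = 2}.ncard = 16 ∧ {x : Finset Cfsg.GolayPt | x ∈ Cfsg.octads ∧ p ∈ x ∧ q ∈ x ∧ (o ∩ x).card = 4}.ncard = 60 ∧ ∃ g : Equiv.Perm Cfsg.GolayPt, g ∈ Cfsg.M24 ∧ g p = p ∧ g q = q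 ∧ g • o = o ∧ g • o' = o'' := by
  obtain ⟨g, rfl, rfl⟩ := trp2 hpq
  obtain ⟨m, hm, rfl⟩ := exists_maskM g o
  rw [octM, toFs_mem_octads hm] at ho
  have hp1 := hp.1
  have hq1 := hq.1
  rw [memM, dec_mem_toFs (by norm_num)] at hp1 hq1
  obtain ⟨g', h1, h2⟩ := mul_Hfix g (labF_cw [1 <<< 23, 1 <<< 0]
    [0xb982fb565142ce37259311285541a0, 0xba5c47b0f691542a2263586356c0c0] 1000
    [0xc75001] (fun m => isOct m &&ₙ tb m 23 &&ₙ tb m 0)
    (fun _ => 0) (by decide +kernel) (m := 0x82402f) (by decide +kernel) (isOct_isCode ho)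
    (by decide +kernel) (by simp only [band_eq, tb_eq, ho, hp1, hq1]; rfl) rfl)
  rw [← h2, ← fix_pt' (by norm_num) (h1 (1 <<< 23) (by simp))] at hp
  rw [← h2, ← fix_pt' (by norm_num) (h1 (1 <<< 0) (by simp))] at hq
  rw [← h2] at h
  rw [← h2, ← fix_pt' (by norm_num) (h1 (1 <<< 23) (by simp)), ← fix_pt' (by norm_num) (h1 (1 <<< 0) (by simp))]
  clear h1 h2 hp1 hq1 ho hm hpq m g
  have key : ∀ n, {o : Finset GolayPt | o ∈ octads ∧ (g' : P24) • dec 23 ∈ o ∧ (g' : P24) • dec 0 ∈ o ∧ ((g' : P24) • toFs 0x82402f ∩ o).card = n}.ncard =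
      cnt (fun k => force (cw k) fun m => (pc24 m =ₙ 8) &&ₙ (tb m 23 &&ₙ tb m 0 &&ₙ (pc24 (0x82402f &ₙ m) =ₙ n))) 4096 := by
    intro n
    rw [← ncard_oct (fun o => dec 23 ∈ o ∧ dec 0 ∈ o ∧ (toFs 0x82402f ∩ o).card = n) _ fun m hm => by
      rw [card_inter_toFs (by norm_num), dec_mem_toFs (by norm_num), dec_mem_toFs (by norm_num)]
      simp only [band_eq, Bool.and_eq_true, tb_eq, n_beq, n_and]]
    exact ncard_transport (g' : P24) fun x => by simp only [octM, interM, cardM, memM]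
  refine ⟨by rw [key]; decide +kernel, by rw [key]; decide +kernel, ?_⟩
  obtain ⟨m, hm, rfl⟩ := exists_maskM g' o'
  obtain ⟨m', hm', rfl⟩ := exists_maskM g' o''
  rw [octM, toFs_mem_octads hm] at ho'
  rw [octM, toFs_mem_octads hm'] at ho''
  simp only [memM, dec_mem_toFs (show 23 < 24 by norm_num), dec_mem_toFs (show 0 < 24 by norm_num)] at hp hq
  rw [interM, interM, cardM, cardM, card_inter_toFs (by norm_num), card_inter_toFs (by norm_num)] at h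
  obtain ⟨u, hu, h1, h2⟩ := conj_Hfix g' (labF_cw [1 <<< 23, 1 <<< 0, 0x82402f]
    [0xbbdaa9a6355ba07b188c4503219440, 0xba249654307c6d451a676904b71460] 1000
    [0x0, 0x0, 0xb0a051, 0x0, 0xc75001, 0x0, 0x0, 0x0, 0x82402f] (fun m => isOct m &&ₙ tb m 23 &&ₙ tb m 0)
    (fun m => pc24 (0x82402f &ₙ m)) (by decide +kernel) (isOct_isCode ho') (isOct_isCode ho'')
    (by simp only [band_eq, tb_eq, ho', hp, hq]; rfl) (by simp only [band_eq, tb_eq, ho'', hp, hq]; rfl) h)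
  exact ⟨u, hu, fix_pt (by norm_num) (h1 _ (by simp)), fix_pt (by norm_num) (h1 _ (by simp)), h1 _ (by simp), h2⟩

end Cfsg.Agent.S1604
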