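import Cfsg.Statements.S1605
import Cfsg.Agent.H7.M24f

set_option autoImplicit false
open scoped Pointwise
open Cfsg

namespace Cfsg.Agent.S1605

open CfsgH7 MulAction
open scoped Pointwise symmDiff
set_option maxRecDepth 100000


/-- The two-point stabiliser acts on the 176 octads through the first point avoiding the second with rank 3 and subdegrees 1, 70, 105 (intersections 8, 2, 4). -/
theorem result (p q : Cfsg.GolayPt) (hpq : p ≠ q) : {x : Finset Cfsg.GolayPt | (x ∈ Cfsg.octads ∧ p ∈ x ∧ q ∉ x)}.ncard = 176 ∧ (∀ o o' : Finset Cfsg.GolayPt, (o ∈ Cfsg.octads ∧ p ∈ o ∧ q ∉ o) → (o' ∈ Cfsg.octads ∧ p ∈ o' ∧ q ∉ o') → ∃ g : Equiv.Perm Cfsg.GolayPt, g ∈ Cfsg.M24 ∧ g p = p ∧ g q = q ∧ g • o = o') ∧ ∀ o : Finset Cfsg.GolayPt, (o ∈ Cfsg.octads ∧ p ∈ o ∧ q ∉ o) → {x : Finset Cfsg.GolayPt | (x ∈ Cfsg.octads ∧ p ∈ x ∧ q ∉ x) ∧ (o ∩ x).card = 2}.ncard = 70 ∧ {x : Finset Cfsg.GolayPt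 | (x ∈ Cfsg.octads ∧ p ∈ x ∧ q ∉ x) ∧ (o ∩ x).card = 4}.ncard = 105 ∧ ∀ o' o'' : Finset Cfsg.GolayPt, (o' ∈ Cfsg.octads ∧ p ∈ o' ∧ q ∉ o') → (o'' ∈ Cfsg.octads ∧ p ∈ o'' ∧ q ∉ o'') → (o ∩ o').card = (o ∩ o'').card → ∃ g : Equiv.Perm Cfsg.GolayPt, g ∈ Cfsg.M24 ∧ g p = p ∧ g q = q ∧ g • o = o ∧ g • o' = o'' := by
  obtain ⟨g, rfl, rfl⟩ := trp2 hpq
  have k0 : ∀ (g : M24) (o : Finset GolayPt), (o ∈ octads ∧ (g : P24) • dec 23 ∈ o ∧ (g : P24) • dec 0 ∉ o) →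
      ∃ m < 2 ^ 24, (g : P24) • toFs m = o ∧ isCode m = true ∧ (isOct m &&ₙ tb m 23 &&ₙ bnot (tb m 0)) = true := by
    intro g o ho
    obtain ⟨m, hm, rfl⟩ := exists_maskM g o
    rw [octM, toFs_mem_octads hm, memM, memM, dec_mem_toFs (by norm_num), dec_mem_toFs (by norm_num)] at ho
    exact ⟨m, hm, rfl, isOct_isCode ho.1, by simp only [band_eq, tb_eq, ho, bnot_eq]; rfl⟩
  have k1 := fun m m' => labF_cw [1 <<< 23, 1 <<< 0]
    [0xb95346c6b3111567187243d613c180, 0xbac769a886695228564e644347a0e0] 1000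
    [0xd4b004] (fun m => isOct m &&ₙ tb m 23 &&ₙ bnot (tb m 0)) (fun _ => 0) (by decide +kernel)
    (m := m) (m' := m')
  refine ⟨?_, fun o o' ho ho' => ?_, fun o ho => ?_⟩
  · rw [ncard_transport (g : P24) (Q := fun o => o ∈ octads ∧ dec 23 ∈ o ∧ dec 0 ∉ o) fun x => by
      simp only [octM, memM], ncard_oct _ (fun m => tb m 23 &&ₙ bnot (tb m 0)) fun m hm => by
        rw [dec_mem_toFs (by norm_num), dec_mem_toFs (by norm_num)]
        simp only [band_eq, Bool.and_eq_true, tb_eq, bnot_eq, Bool.not_eq_true', Bool.not_eq_true]]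
    decide +kernel
  · obtain ⟨m, hm, rfl, a, b⟩ := k0 g o ho
    obtain ⟨m', hm', rfl, a', b'⟩ := k0 g o' ho'
    obtain ⟨u, hu, h1, h2⟩ := conj_Hfix g (k1 m m' a a' b b' rfl)
    exact ⟨u, hu, fix_pt (by norm_num) (h1 _ (by simp)), fix_pt (by norm_num) (h1 _ (by simp)), h2⟩
  obtain ⟨m, hm, rfl, a, b⟩ := k0 g o ho
  obtain ⟨g', h1, h2⟩ := mul_Hfix g (k1 0xd4b004 m (by decide +kernel) a (by decide +kernel) b rfl)
  rw [← h2, ← fix_pt' (by norm_num) (h1 (1 <<< 23) (by simp)), ← fix_pt' (by norm_num) (h1 (1 <<< 0) (by simp))]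
  clear h1 h2 a b ho hm hpq m g
  have key : ∀ n, {o : Finset GolayPt | (o ∈ octads ∧ (g' : P24) • dec 23 ∈ o ∧ (g' : P24) • dec 0 ∉ o) ∧ ((g' : P24) • toFs 0xd4b004 ∩ o).card = n}.ncard =
      cnt (fun k => force (cw k) fun m => (pc24 m =ₙ 8) &&ₙ (tb m 23 &&ₙ bnot (tb m 0) &&ₙ (pc24 (0xd4b004 &ₙ m) =ₙ n))) 4096 := by
    intro n
    rw [← ncard_oct (fun o => dec 23 ∈ o ∧ dec 0 ∉ o ∧ (toFs 0xd4b004 ∩ o).card = n) _ fun m hm => by
      rw [card_inter_toFs (by norm_num), dec_mem_toFs (by norm_num), dec_mem_toFs (by norm_num)]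
      simp only [band_eq, Bool.and_eq_true, tb_eq, n_beq, n_and, bnot_eq, Bool.not_eq_true', Bool.not_eq_true]]
    exact ncard_transport (g' : P24) fun x => by simp only [octM, interM, cardM, memM, and_assoc]
  refine ⟨by rw [key]; decide +kernel, by rw [key]; decide +kernel, fun o' o'' ho' ho'' h => ?_⟩
  obtain ⟨m, hm, rfl, a, b⟩ := k0 g' o' ho'
  obtain ⟨m', hm', rfl, a', b'⟩ := k0 g' o'' ho''
  rw [interM, interM, cardM, cardM, card_inter_toFs (by norm_num), card_inter_toFs (by norm_num)] at h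
  obtain ⟨u, hu, h1, h2⟩ := conj_Hfix g' (labF_cw [1 <<< 23, 1 <<< 0, 0xd4b004]
    [0xbb0362d269155b21c4ce391505bd00, 0xbb46c30913b15f423a075d5414ca20] 1000
    [0x0, 0x0, 0xcb004a, 0x0, 0x9d4006, 0x0, 0x0, 0x0, 0xd4b004] (fun m => isOct m &&ₙ tb m 23 &&ₙ bnot (tb m 0))
    (fun m => pc24 (0xd4b004 &ₙ m)) (by decide +kernel) a a' b b' h)
  exact ⟨u, hu, fix_pt (by norm_num) (h1 _ (by simp)), fix_pt (by norm_num) (h1 _ (by simp)), h1 _ (by simp), h2⟩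

end Cfsg.Agent.S1605
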