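import Cfsg.Statements.S1606
import Cfsg.Agent.H7.Mk

set_option autoImplicit false
open scoped Pointwise
open Cfsg

namespace Cfsg.Agent.S1606

open CfsgH7 MulAction
open scoped Pointwise symmDiff
set_option maxRecDepth 100000
set_option Elab.async false

theorem core {K : Subgroup M24} (hle : K ≤ stabilizer M24 (dec 23) ⊓ stabilizer M24 (dec 0)) :
    Nat.card K ≠ 7920 ∧ Nat.card K ≠ 2112 := by
  have r1 := elM_rep (t := 0xba58f5d1c4b42a569a33905433a040) (by decide +kernel)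
  have r2 := elM_rep (t := 0xbd0d16c089b38459acec1a2af92820) (by decide +kernel)
  have o1 := r1.orderOf_prime 11 (by norm_num) (by decide +kernel)
  have o2 := r2.orderOf_prime 5 (by norm_num) (by decide +kernel)
  have n1 := ((pack22.refull [(1, [(0xb942b7990c8d6ce6ce12a28871a440, 0xbb5c7521e99b170a185124ac5186a0)]),(2, [(0xbb88c45226ace0a10ec929dab93c20, 0xba5f270e2d158b423113340f552c20)]),(8, [(0xb9e9278ec6612ae8ad055261368820, 0xbc5b5251659b06f51cc9b410e90820)]),(19, [(0xbc1e5a30e4755ab90e284aa7630820, 0xb91d32ad36abdb2618e888e9050820), (0xba63074ab424d4c5b6c828cef30820, 0xba63074ab424d4c5b6c828cef30820)]),(11, [(0xbb8cd9b143824ab912c8a9e9178820, 0xba4e59ac8f1da92645c8355aa80820)])] (by decide +kernel)).normL r1 o1 [0xbdab49ca307b9ac5a928398a418820, 0xba58f5d1c4b42a569a33905433a040, 0xbc4b66be034918aa85cba08c794d00, 0xbb949ad88788ca660a0d7a032a2e60, 0xbc0d16247271d412a095b4c547b560, 0xb902e2c4f4848c254c6c4ad0fb55a0, 0xb8c5053a4f2502832ce58b6764b2a0,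 0xb9d04342961bc530b64a7556989580, 0xbca63091e93d90b15686831b1728a0, 0xbd16710ed19266d431e1216ae81940, 0xbbdb241d2ea4575996c21a990204c0] [(1, [(0xbc66354a8481da2616c17d4ce4a160, 0xba4d1acacf391ab0cc6271550a3100)]),(2, [(0xbd0d16c089b38459acec1a2af92820, 0xbbcb658e9223a6850a064d5913b420)])] 55 (by decide +kernel))
  have n2 := ((pack22.refull [(2, [(0xba206b28b17c9c99d2a71046b611a0, 0xbcd2a5ba157b423249964522229cc0)]),(10, [(0xbb646240757b9534d90ba1cac08a20, 0xbaa07654327bac443569350b388860)]),(11, [(0xb907532ecf6a67242a21a40ee28980, 0xbc6876b126811e1929cb2cc76a8900)]),(19, [(0xbd1d6486111d4e85aa6c698a478a40, 0xbd1d6486111d4e85aa6c698a478a40), (0xbc670ab6d4426435a9cf098a4608e0, 0xbc670ab6d4426435a9cf098a4608e0)]),(13, [(0xbc90c98e09a85c75aa2fa1486b09a0, 0xb8de79d931434345aa15610c5909c0)])] (by decide +kernel)).normL r2 o2 [0xbdab49ca307b9ac5a928398a418820, 0xbd0d16c089b38459acec1a2af92820, 0xbc504125e7a39556cc65930d682c20, 0xb918f51ec38b96613655815144cc20,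 0xbbcb658e9223a6850a064d5913b420] [(2, [(0xbd0d16c089b38459acec1a2af92820, 0xbbcb658e9223a6850a064d5913b420)]),(1, [(0xb921651a2ca06696aeb241c6f289c0, 0xbd12f6a2352057054d8734876289c0)]),(4, [(0xbbd8459e29b39559b606920b418820, 0xbbd8459e29b39559b606920b418820)])] 20 (by decide +kernel))
  have m1 := pack22.good.mem r1 (by decide +kernel)
  have key : 11 ∣ Nat.card K → ∃ K' ≤ stabilizer M24 (dec 23) ⊓ stabilizer M24 (dec 0), elM 0xba58f5d1c4b42a569a33905433a040 ∈ K' ∧ Nat.card K' = Nat.card K := fun h => by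
    obtain ⟨c, hc, h1⟩ := exists_cj_mem hle (by norm_num) m1 o1 h (by rw [pack22.card]; norm_num)
    exact ⟨_, (cj_mono c hle).trans (cj_of_mem hc).le, h1, card_cj _ _⟩
  refine ⟨fun h => ?_, fun h => ?_⟩
  · obtain ⟨K', h1, h2, h3⟩ := key (by rw [h]; norm_num)
    rw [h] at h3
    have l1 := le_of_card_inf h1 ((syl_full h1 (by norm_num) h2 o1 n1.card h3 55 (by decide +kernel)).trans n1.card.symm)
    have l2 := le_of_card_inf h1 ((syl_full h1 (by norm_num) (l1 (n1.good.mem r2 (by decide +kernel))) o2 n2.card h3 20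
      (by decide +kernel)).trans n2.card.symm)
    have := pack22.eq_of_slp h1 (T := Fmt.gens [(1, [(0xbc66354a8481da2616c17d4ce4a160, 0xba4d1acacf391ab0cc6271550a3100)]),(2, [(0xbd0d16c089b38459acec1a2af92820, 0xbbcb658e9223a6850a064d5913b420)])] ++ Fmt.gens [(2, [(0xbd0d16c089b38459acec1a2af92820, 0xbbcb658e9223a6850a064d5913b420)]),(1, [(0xb921651a2ca06696aeb241c6f289c0, 0xbd12f6a2352057054d8734876289c0)]),(4, [(0xbbd8459e29b39559b606920b418820, 0xbbd8459e29b39559b606920b418820)])]) (fun t ht => by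
      rcases List.mem_append.mp ht with ht | ht
      · obtain ⟨g, hg, r⟩ := n1.mem t ht
        exact ⟨g, l1 hg, r⟩
      · obtain ⟨g, hg, r⟩ := n2.mem t ht
        exact ⟨g, l2 hg, r⟩) [(1, 3), (1, 5), (0, 3), (0, 7), (6, 9), (0, 6), (0, 9), (10, 8), (0, 0), (0, 3), (14, 7), (12, 1), (0, 0), (0, 4), (15, 8), (0, 20), (16, 17), (0, 2), (19, 18), (18, 2), (24, 23), (7, 23), (18, 1), (0, 0), (0, 15), (29, 12), (0, 0), (0, 3), (24, 30), (8, 34), (0, 2), (17, 31), (0, 0), (0, 3), (20, 39), (39, 1), (0, 0), (0, 4), (10, 19), (0, 0), (0, 3), (33, 10), (0, 8), (23, 16), (3, 1), (2, 1), (18, 39), (0, 29), (7, 53), (35, 1), (2, 1), (0, 7)] 57 (by decide +kernel)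
    rw [this, pack22.card] at h3
    cases h3
  · obtain ⟨K', h1, h2, h3⟩ := key (by rw [h]; norm_num)
    rw [h] at h3
    exact absurd (syl_full h1 (by norm_num) h2 o1 n1.card h3 0 (by decide +kernel)) Nat.card_pos.ne'

/-- The stabiliser of two points in the group of the length-24 code has no subgroups of index 56 or 210. -/
theorem result (p q : Cfsg.GolayPt) (hpq : p ≠ q) (H : Subgroup ↥(MulAction.stabilizer Cfsg.M24 p ⊓ MulAction.stabilizer Cfsg.M24 q)) : H.index ≠ 56 ∧ H.index ≠ 210 := by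
  obtain ⟨g, rfl, rfl⟩ := trp2 hpq
  have e : stabilizer M24 ((g : P24) • dec 23) ⊓ stabilizer M24 ((g : P24) • dec 0) =
      cj g (stabilizer M24 (dec 23) ⊓ stabilizer M24 (dec 0)) := by rw [stabM_smul, stabM_smul, cj_inf]
  have h := core (K := cj g⁻¹ (H.map (Subgroup.subtype _)))
    ((cj_mono _ ((Subgroup.map_subtype_le _).trans e.le)).trans (cj_inv_cj _ _).le)
  rw [card_cj] at h
  have c := (congrArg (fun X : Subgroup M24 => Nat.card X) e).trans ((card_cj _ _).trans pack22.card)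
  exact ⟨fun hi => h.1 (card_of_index H hi c), fun hi => h.2 (card_of_index H hi c)⟩

end Cfsg.Agent.S1606
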