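import Cfsg.Statements.S1608
import Cfsg.Agent.H7.M24f

set_option autoImplicit false
open scoped Pointwise
open Cfsg

namespace Cfsg.Agent.S1608

open CfsgH7 MulAction
open scoped Pointwise symmDiff
set_option maxRecDepth 100000


/-- The point stabiliser acts on the 506 octads avoiding the point with rank 4 and subdegrees 1, 15, 210, 280, the suborbits being given by intersection size with the fixed octad. -/
theorem result (x : Cfsg.GolayPt) (o : Finset Cfsg.GolayPt) (ho : o ∈ Cfsg.octads) (hx : x ∉ o) : {o' : Finset Cfsg.GolayPt | o' ∈ Cfsg.octads ∧ x ∉ o' ∧ (o ∩ o').card = 0}.ncard = 15 ∧ {o' : Finset Cfsg.GolayPt | o' ∈ Cfsg.octads ∧ x ∉ o' ∧ (o ∩ o').card = 4}.ncard = 210 ∧ {o' : Finset Cfsg.GolayPt | o' ∈ Cfsg.octads ∧ x ∉ o' ∧ (o ∩ o').card = 2}.ncard = 280 ∧ ∀ o' o'' : Finset Cfsg.GolayPt, o' ∈ Cfsg.octads → o'' ∈ Cfsg.octads → x ∉ o' → x ∉ o'' → (o ∩ o').card = (o ∩ o'').card → ∃ g : Equiv.Perm Cfsg.GolayPt, g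 ∈ Cfsg.M24 ∧ g x = x ∧ g • o = o ∧ g • o' = o'' := by
  obtain ⟨g, rfl, rfl⟩ := trOq ho hx
  have key : ∀ n, {o : Finset GolayPt | o ∈ octads ∧ (g : P24) • dec 4 ∉ o ∧ ((g : P24) • toFs 0x82402f ∩ o).card = n}.ncard =
      cnt (fun k => force (cw k) fun m => (pc24 m =ₙ 8) &&ₙ (bnot (tb m 4) &&ₙ (pc24 (0x82402f &ₙ m) =ₙ n))) 4096 := by
    intro n
    rw [← ncard_oct (fun o => dec 4 ∉ o ∧ (toFs 0x82402f ∩ o).card = n) _ fun m hm => by
      rw [card_inter_toFs (by norm_num), dec_mem_toFs (by norm_num)]; simp]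
    exact ncard_transport (g : P24) fun x => by simp only [octM, interM, cardM, memM]
  refine ⟨by rw [key]; decide +kernel, by rw [key]; decide +kernel, by rw [key]; decide +kernel,
    fun o' o'' ho' ho'' hx' hx'' h => ?_⟩
  obtain ⟨m, hm, rfl⟩ := exists_maskM g o'
  obtain ⟨m', hm', rfl⟩ := exists_maskM g o''
  rw [octM, toFs_mem_octads hm] at ho'
  rw [octM, toFs_mem_octads hm'] at ho''
  rw [memM, dec_mem_toFs (by norm_num)] at hx' hx''
  rw [interM, interM, cardM, cardM, card_inter_toFs (by norm_num), card_inter_toFs (by norm_num)] at h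
  obtain ⟨u, hu, h1, h2⟩ := conj_Hfix g (labF_cw [1 <<< 4, 0x82402f]
    [0xade7ad8504ba486d26c32804196f1, 0x2195834534dd5434acb3be240b865] 1000
    [0x3da100, 0x0, 0x49f002, 0x0, 0xc75001, 0x0, 0x0, 0x0, 0x82402f] (fun m => isOct m &&ₙ bnot (tb m 4))
    (fun m => pc24 (0x82402f &ₙ m)) (by decide +kernel) (isOct_isCode ho') (isOct_isCode ho'')
    (by simp [ho', hx']) (by simp [ho'', hx'']) h)
  exact ⟨u, hu, fix_pt (by norm_num) (h1 _ (by simp)), h1 _ (by simp), h2⟩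

end Cfsg.Agent.S1608
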