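import Cfsg.Statements.S1609
import Cfsg.Agent.H7.Mk

set_option autoImplicit false
open scoped Pointwise
open Cfsg

namespace Cfsg.Agent.S1609

open CfsgH7 MulAction
open scoped Pointwise symmDiff
set_option maxRecDepth 100000
set_option Elab.async false

theorem core0 {K : Subgroup M24} (hle : K ≤ stabilizer M24 (dec 23)) (hx : elM 0xbb8b47a660904f659aad1b23022848 ∈ K) (hK : Nat.card K = 40320) :
    K = stabilizer M24 (dec 23) ⊓ stabilizer M24 (toFs 0x100800) ∨ K = stabilizer M24 (dec 23) ⊓ stabilizer M24 (toFs 0xc05446) := by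
  classical
  have r1 := elM_rep (t := 0xbb8b47a660904f659aad1b23022848) (by decide +kernel)
  have o1 := r1.orderOf_prime 7 (by norm_num) (by decide +kernel)
  have n1 := ((pack23.refull [(0, [(0xbc0f38812f2b54c5d46271896a0648, 0xb9143a067681dcc5b620a99e54a052)]),(8, [(0xbd6568304a33691411d3485e559c60, 0xbd2cd455932a5d21c0eb13c8a0c4c0)]),(13, [(0xb9ed35b42e2d2ac80cc89115113d20, 0xbd5aea1c8b1424c99428b25e650e20)]),(7, [(0xb91d5b2cc59a9a20a6888c0e37c980, 0xbce89788e61d5a1939482c61623160)]),(3, [(0xbdaa5149cc4c5b020de83868b54cc0, 0xbdaa5149cc4c5b020de83868b54cc0), (0xbd64b2582c80daf34d283d1ca2c440, 0xbcac65544f615b0a11283ac7370620)]),(4, [(0xbcac48d594125b3798a8385d01ad40, 0xbd65065a64595b1105c83a9341bcc0)])] (by decide +kernel)).normL r1 o1 [0xbdab49ca307b9ac5a928398a418820, 0xbb8b47a660904f659aad1b23022848, 0xb8634955e84886e5b0a725a608194d, 0xb8a744964daa8815da23839e8030c7, 0xba9f4ac52729a025ba640064d45983, 0xb9a542cea38b00a585f0409276bac4, 0xbb1348bca49d90658a406aaa3385d0]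 [(0, [(0xbb0eb43469209e1a3a152981192ad3, 0xb850b00c896aa56a0a13a98ef8b985)]),(1, [(0xbbab44cde42886c5864d82a27458c0, 0xb8ab4924a78d90c59a63205f06b940)])] 42 (by decide +kernel))
  have l1 := le_of_card_inf hle ((syl_full hle (by norm_num) hx o1 n1.card hK 42 (by decide +kernel)).trans n1.card.symm)
  have hm : ∀ t ∈ Fmt.gens [(0, [(0xbb0eb43469209e1a3a152981192ad3, 0xb850b00c896aa56a0a13a98ef8b985)]),(1, [(0xbbab44cde42886c5864d82a27458c0, 0xb8ab4924a78d90c59a63205f06b940)])], ∃ g ∈ K, AM.Rep g t := fun t ht => let ⟨g, hg, r⟩ := n1.mem t ht; ⟨g, l1 hg, r⟩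
  let s : Finset GolayPt := Finset.univ.filter fun p => ∃ u ∈ K, (u : P24) • dec 11 = p
  have hs : ∀ u ∈ K, ∀ p, p ∈ s → (u : P24) • p ∈ s := fun u hu p hp => by
    obtain ⟨v, hv, rfl⟩ := (Finset.mem_filter.mp hp).2
    exact Finset.mem_filter.mpr ⟨Finset.mem_univ _, u * v, mul_mem hu hv, rfl⟩
  have hst : ∀ u ∈ K, (u : P24) • s = s := fun u hu =>
    Finset.eq_of_subset_of_card_le (fun x hx => by
      obtain ⟨y, hy, rfl⟩ := Finset.mem_smul_finset.mp hx
      exact hs u hu y hy) (cardM _ _).ge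
  have k : ∀ i j, ((Nat.succ i ≤ₙ 24) &&ₙ (Dpt.orb (Fmt.gens [(0, [(0xbb0eb43469209e1a3a152981192ad3, 0xb850b00c896aa56a0a13a98ef8b985)]),(1, [(0xbbab44cde42886c5864d82a27458c0, 0xb8ab4924a78d90c59a63205f06b940)])]) 30 i &ₙ j =ₙ j)) = true →
      ∀ x ∈ toFs j, (x ∈ s ↔ dec i ∈ s) := fun i j hc x hx => by
    obtain ⟨a, ha, rfl⟩ := reach_pt hm i j hc hx
    rw [← memM (a : P24) (dec i), hst a ha]
  have h0 : dec 23 ∉ s := fun h => by
    obtain ⟨v, hv, e⟩ := (Finset.mem_filter.mp h).2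
    rw [← mem_stabM.mp (hle hv), eqM] at e
    exact absurd e (by decide +kernel)
  have h1 : dec 11 ∈ s := Finset.mem_filter.mpr ⟨Finset.mem_univ _, 1, one_mem _, rfl⟩
  have k1 := k 11 0x100800 (by decide +kernel)
  have k2 := k 1 0x405446 (by decide +kernel)
  have k3 := k 0 0x2fa3b9 (by decide +kernel)
  have e : ∀ m : ℕ, (∀ x : GolayPt, (x = dec 23 ∧ x ∉ toFs m) ∨ (x ∈ toFs 0x100800 ∧ x ∈ toFs m) ∨ (x ∈ toFs 0x405446 ∧ (x ∈ toFs m ↔ dec 1 ∈ toFs m)) ∨
      (x ∈ toFs 0x2fa3b9 ∧ (x ∈ toFs m ↔ dec 0 ∈ toFs m))) → (dec 1 ∈ s ↔ dec 1 ∈ toFs m) → (dec 0 ∈ s ↔ dec 0 ∈ toFs m) → s = toFs m := by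
    intro m h a b
    ext x
    rcases h x with ⟨rfl, h⟩ | ⟨h, h'⟩ | ⟨h, h'⟩ | ⟨h, h'⟩
    · exact iff_of_false h0 h
    · exact iff_of_true ((k1 x h).mpr h1) h'
    · rw [k2 x h, h', a]
    · rw [k3 x h, h', b]
  have pO := (pack23.stabL Dcw (c := 0xc05446) (by decide +kernel) 258 9 253 [(0, [(0xb8910290ef9592a985a303a2ba30d5, 0xbb8035bcb481922231b58867245947)]),(1, [(0xbda69796925862642875208f06b980, 0xbd911ac1a4988617aa8b2b247499c0)]),(2, [(0xb8a2822e951da6e7a9b04b24729820, 0xbba11696a85b126928f4208737d820)]),(3, [(0xbb907935e59aa3681aa45b28348820, 0xbb1257cdab8da463b875a2a0820820)]),(4, [(0xbb1f3a4232ab916218ed4a8ab18820, 0xbb1f3a4232ab916218ed4a8ab18820), (0xb99b28523343aaa4b16f258a718820, 0xb99b28523343aaa4b16f258a718820)])] 40320 (by decide +kernel))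
  have fo : (∀ u ∈ K, (u : P24) • toFs 0xc05446 = toFs 0xc05446) → _ := fun h => Or.inr (b := K = stabilizer M24 (dec 23) ⊓ stabilizer M24 (toFs 0xc05446))
    (a := K = stabilizer M24 (dec 23) ⊓ stabilizer M24 (toFs 0x100800))
    (Subgroup.eq_of_le_of_card_ge (le_inf hle h) (pO.card.trans hK.symm).le)
  by_cases h2 : dec 1 ∈ s <;> by_cases h3 : dec 0 ∈ s
  · have e1 := e 0x7fffff (by decide +kernel) (iff_of_true h2 (by decide +kernel)) (iff_of_true h3 (by decide +kernel))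
    have h4 := card_orbit_mul K (dec 11)
    have h5 : orbit K (dec 11) = (s : Set GolayPt) := by
      ext p
      simp only [s, Finset.coe_filter, Finset.mem_univ, true_and, Set.mem_setOf_eq]
      exact ⟨fun ⟨u, hu⟩ => ⟨u, u.2, hu⟩, fun ⟨u, hu, h⟩ => ⟨⟨u, hu⟩, h⟩⟩
    rw [h5, Set.ncard_coe_finset, e1, card_toFs (by norm_num), hK, show pc24 0x7fffff = 23 by decide +kernel] at h4
    omega
  · have e1 := e 0x505c46 (by decide +kernel) (iff_of_true h2 (by decide +kernel)) (iff_of_false h3 (by decide +kernel))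
    refine fo fun u hu => octad_eq_of_inter ((octM u _).mpr (oct_of (by decide +kernel))) (oct_of (by decide +kernel)) ?_
    have h4 : (u : P24) • toFs 0xc05446 ⊆ toFs 0xc05446 ∪ toFs 0x100800 := by
      have h5 : toFs 0xc05446 ∪ toFs 0x100800 = insert (dec 23) s := by rw [e1]; decide +kernel
      have h6 : (u : P24) • insert (dec 23) s = insert (dec 23) s := by
        rw [Finset.smul_finset_insert, hst u hu, mem_stabM.mp (hle hu)]
      rw [h5, ← h6, subsetM, ← h5]
      exact Finset.subset_union_left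
    have h5 := Finset.card_le_card (Finset.inter_subset_right (s₁ := (u : P24) • toFs 0xc05446) (s₂ := toFs 0x100800))
    have h6 := Finset.card_union_le ((u : P24) • toFs 0xc05446 ∩ toFs 0xc05446) ((u : P24) • toFs 0xc05446 ∩ toFs 0x100800)
    rw [← Finset.inter_union_distrib_left, Finset.inter_eq_left.mpr h4, cardM] at h6
    have h7 : (toFs 0xc05446).card = 8 := by decide +kernel
    have h8 : (toFs 0x100800).card = 2 := by decide +kernel
    omega
  · have e1 := e 0x3fabb9 (by decide +kernel) (iff_of_false h2 (by decide +kernel)) (iff_of_true h3 (by decide +kernel))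
    refine fo fun u hu => ?_
    rw [show toFs 0xc05446 = sᶜ by rw [e1]; decide +kernel, ← complM, hst u hu]
  · have e1 := e 0x100800 (by decide +kernel) (iff_of_false h2 (by decide +kernel)) (iff_of_false h3 (by decide +kernel))
    exact Or.inl (Subgroup.eq_of_le_of_card_ge (le_inf hle fun u hu => e1 ▸ hst u hu) ((pack23.stabL Dsm (c := 0x100800) (by decide +kernel) 258 9 253 [(0, [(0xba6340d98d954ee595f0408c01aa64, 0xbc9d40bea84b21158ac76954019a64)]),(1, [(0xb846bac9ed2ce11a28c74a19671040, 0xb926b7498d88e05a28e6425e2a86c0)]),(2, [(0xba0cb20a0e69ecaa54af8b2531a420, 0xbb54b214f1441e6a3056755331c820)]),(3, [(0xbd9cb1a8d0455a9a498f2c4e498820, 0xbd9cb1a8d0455a9a498f2c4e498820)]),(4, [(0xbd6cb22627638cfa224a834b318820, 0xbd6cb22627638cfa224a834b318820)])] 40320 (by decide +kernel)).card.trans hK.symm).le)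

/-- Subgroups of index 253 in the Mathieu group of degree 23 are exactly the duad stabilisers and the heptad stabilisers. -/
theorem result (x : Cfsg.GolayPt) (H : Subgroup ↥(MulAction.stabilizer Cfsg.M24 x)) (hH : H.index = 253) : (∃ s : Finset Cfsg.GolayPt, s.card = 2 ∧ x ∉ s ∧ H = (MulAction.stabilizer Cfsg.M24 s).subgroupOf (MulAction.stabilizer Cfsg.M24 x)) ∨ ∃ o ∈ Cfsg.octads, x ∈ o ∧ H = (MulAction.stabilizer Cfsg.M24 o).subgroupOf (MulAction.stabilizer Cfsg.M24 x) := by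
  obtain ⟨g, rfl⟩ := trp1 x
  have c := (congrArg (fun X : Subgroup M24 => Nat.card X) (stabM_smul g (dec 23))).trans ((card_cj _ _).trans pack23.card)
  have h1 := card_of_index H hH (m := 40320) c
  have hle : cj g⁻¹ (H.map (Subgroup.subtype _)) ≤ stabilizer M24 (dec 23) :=
    (cj_mono _ ((Subgroup.map_subtype_le _).trans (stabM_smul _ _).le)).trans (cj_inv_cj _ _).le
  have r1 := elM_rep (t := 0xbb8b47a660904f659aad1b23022848) (by decide +kernel)
  obtain ⟨k, hk, h2⟩ := exists_cj_mem hle (p := 7) (by norm_num) (pack23.good.mem r1 (by decide +kernel))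
    (r1.orderOf_prime 7 (by norm_num) (by decide +kernel)) (by rw [card_cj, h1]; norm_num) (by rw [pack23.card]; norm_num)
  have fin : ∀ s : Finset GolayPt, cj k (cj g⁻¹ (H.map (Subgroup.subtype _))) = stabilizer M24 (dec 23) ⊓ stabilizer M24 s →
      H = (stabilizer M24 (((g * k⁻¹ : M24) : P24) • s)).subgroupOf (stabilizer M24 ((g : P24) • dec 23)) := fun s e => by
    have e2 := congrArg (fun X => cj g (cj k⁻¹ X)) e
    simp only [cj_inv_cj, cj_cj_inv, cj_inf, cj_of_mem (inv_mem hk)] at e2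
    rw [← stabM_smul, ← stabM_smul, ← stabM_smul, ← mulM_smul] at e2
    rw [← Subgroup.inf_subgroupOf_left, ← e2]
    exact (Subgroup.comap_map_eq_self_of_injective (Subgroup.subtype_injective _) H).symm
  have e0 : (g : P24) • dec 23 = ((g * k⁻¹ : M24) : P24) • dec 23 := by rw [mulM_smul, mem_stabM.mp (inv_mem hk)]
  rcases core0 ((cj_mono k hle).trans (cj_of_mem hk).le) h2 (by rw [card_cj, card_cj, h1]) with h | h
  · exact Or.inl ⟨_, by rw [cardM]; decide +kernel, by rw [e0, memM]; decide +kernel, fin _ h⟩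
  · exact Or.inr ⟨_, (octM _ _).mpr (oct_of (by decide +kernel)), by rw [e0, memM]; decide +kernel, fin _ h⟩

end Cfsg.Agent.S1609
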