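import Cfsg.Statements.S1612
import Cfsg.Agent.TT.T4

set_option autoImplicit false
open Cfsg

namespace Cfsg.Agent.S1612

open CfsgTT Subgroup

/-- In a 3-transposition group (no solvable normal subgroup, perfect derived group), the normaliser of a commuting set of transpositions of maximum size contains a Sylow 2-subgroup and is doubly transitive on the set. -/
theorem result {G : Type*} [Group G] [Finite G] (hsol : ∀ N : Subgroup G, N.Normal → Group.IsSolvable ↥N → N = ⊥) (hperf : ⁅commutator G, commutator G⁆ = commutator G) {D : Set G} (hD : Cfsg.IsThreeTranspositionClass D) {E : Set G} (hE : E ⊆ D) (hc : ∀ a ∈ E, ∀ b ∈ E, Commute a b) (hmax : ∀ E' : Set G, E' ⊆ D → (∀ a ∈ E', ∀ b ∈ E', Commute a b) → E'.ncard ≤ E.ncard) : (∃ P : Sylow 2 G, (P : Subgroup G) ≤ Subgroup.normalizer E) ∧ ∀ a ∈ E, ∀ b ∈ E, ∀ c ∈ E, ∀ d ∈ E, a ≠ b → c ≠ d → ∃ g ∈ Subgroup.normalizer E, g * a * g⁻¹ = c ∧ g * b *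 g⁻¹ = d := by
  have h := ts_iff.1 hD.1
  have cl := cls_cl hD
  constructor
  · obtain ⟨T, hT⟩ := ((h.mono hE).pg2 hc).exists_le_sylow
    have e : E = {d | d ∈ D ∧ d ∈ T} := Set.eq_of_subset_of_ncard_le
      (fun a ha => ⟨hE ha, hT (subset_closure ha)⟩) (hmax _ (fun _ k => k.1) (h.comm_syl T.2))
    refine ⟨T, fun g hg => mem_norm_set fun s hs => ?_⟩
    rw [e] at hs ⊢
    exact ⟨cl _ _ hs.1, (T : Subgroup G).mul_mem ((T : Subgroup G).mul_mem hg hs.2) ((T : Subgroup G).inv_mem hg)⟩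
  intro a ha b hb c hc' d hd ab cd
  have p := (tc_of hD ⟨a, hE ha, b, hE hb, ab⟩).pr_of_fischer hsol hperf ⟨a, hE ha, b, hE hb, ab, hc a ha b hb⟩
  obtain ⟨g1, e1⟩ := p.conj a (hE ha) c (hE hc')
  obtain ⟨g2, k2, e2⟩ := p.trans_D (hE hc') (y := g1 * b * g1⁻¹) (y' := d)
    (e1 ▸ (Dd_conj cl g1).2 ⟨hE hb, ab.symm, hc a ha b hb⟩) ⟨hE hd, cd.symm, hc c hc' d hd⟩
  have f1 : (g2 * g1) * a * (g2 * g1)⁻¹ = c := by rw [← conj_conj, e1, conj_eq_iff_comm.2 (Kd_comm k2)]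
  have f2 : (g2 * g1) * b * (g2 * g1)⁻¹ = d := by rw [← conj_conj, e2]
  obtain ⟨u, hu, k⟩ := max_conj h cl (E := (fun x => (g2 * g1) * x * (g2 * g1)⁻¹) '' E) (E' := E)
    (by rintro _ ⟨x, hx, rfl⟩; exact cl _ _ (hE hx)) hE
    (by rintro _ ⟨x, hx, rfl⟩ _ ⟨y, hy, rfl⟩; exact (comm_conj_iff _).2 (hc x hx y hy)) hc hmax
    (H := centralizer {c} ⊓ centralizer {d})
    (by
      rintro _ ⟨x, hx, rfl⟩
      exact ⟨mem_centralizer_singleton_iff.2 (f1 ▸ (comm_conj_iff _).2 (hc x hx a ha)),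
        mem_centralizer_singleton_iff.2 (f2 ▸ (comm_conj_iff _).2 (hc x hx b hb))⟩)
    fun x hx => ⟨mem_centralizer_singleton_iff.2 (hc x hx c hc'), mem_centralizer_singleton_iff.2 (hc x hx d hd)⟩
  refine ⟨u * (g2 * g1), mem_norm_set fun s hs => ?_, ?_, ?_⟩
  · rw [← conj_conj]; exact k _ ⟨s, hs, rfl⟩
  · rw [← conj_conj, f1, conj_eq_iff_comm]; exact mem_centralizer_singleton_iff.1 hu.1
  · rw [← conj_conj, f2, conj_eq_iff_comm]; exact mem_centralizer_singleton_iff.1 hu.2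

end Cfsg.Agent.S1612
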