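import Cfsg.Statements.S1618
import Cfsg.Agent.S5560
import Cfsg.Agent.H1.Cores

set_option autoImplicit false
open Cfsg

namespace Cfsg.Agent.S1618

/-- A group generated by a class of involutions whose pairwise products (of distinct members) have p-power order for a fixed odd prime p has nilpotent derived subgroup. -/
theorem result {G : Type*} [Group G] [Finite G] (p : ℕ) (hp : p.Prime) (hodd : p ≠ 2) {D : Set G} (hinv : ∀ d ∈ D, orderOf d = 2) (hconj : ∃ d ∈ D, D = conjugatesOf d) (hgen : Subgroup.closure D = ⊤) (hprod : ∀ x ∈ D, ∀ y ∈ D, x ≠ y → ∃ k : ℕ, orderOf (x * y) = p ^ k) : Group.IsNilpotent ↥(commutator G) := by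
  obtain ⟨d, hd, rfl⟩ := hconj
  have h := S5560.result hp hodd d (hinv d hd) fun a ha b hb => by
    by_cases e : a = b
    · exact ⟨0, by rw [← e, ← sq, ← hinv a ha, pow_orderOf_eq_one, orderOf_one, pow_zero]⟩
    · exact hprod a ha b hb e
  haveI := Fact.mk hp
  have k : ∀ g : G, (g : G ⧸ pCore p G) ∈ Subgroup.zpowers (d : G ⧸ pCore p G) := fun g => by
    refine (show (⊤ : Subgroup G) ≤ (Subgroup.zpowers (d : G ⧸ pCore p G)).comap (QuotientGroup.mk' _) from
      hgen ▸ (Subgroup.closure_le _).2 fun a ha => ?_) (Subgroup.mem_top g)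
    have := (QuotientGroup.eq_one_iff _).2 (h a ha d hd)
    rw [QuotientGroup.mk_mul, mul_eq_one_iff_eq_inv] at this
    exact show (a : G ⧸ pCore p G) ∈ _ from this ▸ inv_mem (Subgroup.mem_zpowers _)
  have l : commutator G ≤ pCore p G := by
    rw [commutator_def, Subgroup.commutator_le]
    intro a _ b _
    obtain ⟨i, hi⟩ := k a
    obtain ⟨j, hj⟩ := k b
    rw [← QuotientGroup.eq_one_iff, ← QuotientGroup.mk'_apply, map_commutatorElement, commutatorElement_eq_one_iff_commute,
      QuotientGroup.mk'_apply, QuotientGroup.mk'_apply, ← hi, ← hj]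
    exact Commute.zpow_zpow_self _ _ _
  exact ((CfsgH1.isPGroup_pCore p G).to_le l).isNilpotent

end Cfsg.Agent.S1618
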