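import Cfsg.Statements.S1620
import Cfsg.Agent.H7.J2.E

set_option autoImplicit false
open Quaternion
open Cfsg

namespace Cfsg.Agent.S1620

open CfsgH7 MulAction
open scoped Pointwise symmDiff
set_option maxRecDepth 100000
set_option Elab.async false

open CfsgH7.Ico

/-- The Hall–Janko group is simple and non-abelian. -/
theorem result : IsSimpleGroup Cfsg.Spor.J2 ∧ ∃ a b : Cfsg.Spor.J2, a * b ≠ b * a := by
  refine ⟨simpleJ, jj 0, jj 169, fun h => ?_⟩
  have := ((repS.1.mul repS.2.1).eq_iff (repS.2.1.mul repS.1)).mp h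
  revert this
  decide +kernel

end Cfsg.Agent.S1620
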