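import Cfsg.Statements.S1621
import Cfsg.Agent.H7.J2.E

set_option autoImplicit false
open Quaternion
open Cfsg

namespace Cfsg.Agent.S1621

open CfsgH7 MulAction
open scoped Pointwise symmDiff
set_option maxRecDepth 100000
set_option Elab.async false

open CfsgH7.Ico Quaternion Cfsg.Spor

/-- The icosian Leech lattice has 37800 minimal vectors giving 315 distinct reflections. -/
theorem result : {r : Fin 3 → ℍ[ℝ] | r ∈ Cfsg.Spor.icoLeech ∧ Cfsg.Spor.qip r r = 4}.ncard = 37800 ∧ {f : Equiv.Perm ↥Cfsg.Spor.icoLeech | Cfsg.Spor.IsIcoReflection f}.ncard = 315 := by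
  have cu := cU
  simp only [band_eq, Bool.and_eq_true, lall_iff, beq_iff, n_beq, decide_eq_true_eq] at cu
  constructor
  · have : {r : Fin 3 → ℍ[ℝ] | r ∈ icoLeech ∧ qip r r = 4} =
        (fun p : ℕ × ℕ => e (dq p.1) • RR p.2) '' ((N1.toFinset ×ˢ Finset.range 315 : Finset _) : Set _) := by
      ext r
      simp only [Set.mem_setOf_eq, Set.mem_image, Finset.mem_coe, Finset.mem_product,
        List.mem_toFinset, Finset.mem_range]
      constructor
      · rintro ⟨h1, h2⟩
        obtain ⟨j, hj, u, hu, h3, rfl⟩ := min_PV h1 h2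
        obtain ⟨y, hy, rfl⟩ := exU1 hu h3
        obtain ⟨m, hm, rfl⟩ := List.mem_map.mp hy
        exact ⟨(m, j), ⟨hm, hj⟩, rfl⟩
      · rintro ⟨⟨m, j⟩, ⟨hm, hj⟩, rfl⟩
        refine ⟨L_smul (e_mem _) (R_spec hj).2.1, ?_⟩
        rw [qip_smul, qip_smul', (R_spec hj).2.2, ← four, ← mul_assoc, ← Quaternion.coe_commutes,
          mul_assoc, Quaternion.self_mul_star, nrm_one (cu.1 m hm).1]
        simp
    rw [this, Set.ncard_image_of_injOn, Set.ncard_coe_finset, Finset.card_product,
      List.toFinset_card_of_nodup cu.2.1, cu.2.2, Finset.card_range]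
    rintro ⟨m, i⟩ h1 ⟨n, j⟩ h2 h
    simp only [Finset.mem_coe, Finset.mem_product, List.mem_toFinset, Finset.mem_range] at h1 h2 h
    obtain rfl : i = j := FF_inj h1.2 h2.2 (eq_FF h2.2 (nrm_one (cu.1 n h2.1).1) fun x => by
      rw [← h, refl_unit (nrm_one (cu.1 m h1.1).1), FF_apply h1.2])
    have h0 : RR i ≠ 0 := fun h0 => by
      have hr := (R_spec h1.2).2.2
      rw [h0, qip3, ← four] at hr
      have : (0 : ℝ) = 4 := Quaternion.coe_injective (by simpa using hr)
      norm_num at this
    have h3 := e_inj (smul_left_injective _ h0 h)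
    rw [← (cu.1 m h1.1).2, ← (cu.1 n h2.1).2, h3]
  · have : {f | IsIcoReflection f} = FF '' (Finset.range 315 : Set ℕ) := by
      ext f
      simp only [Set.mem_setOf_eq, refl_iff, Set.mem_image, Finset.mem_coe, Finset.mem_range, eq_comm]
    rw [this, Set.ncard_image_of_injOn, Set.ncard_coe_finset, Finset.card_range]
    exact fun i hi j hj h => FF_inj (by simpa using hi) (by simpa using hj) h

end Cfsg.Agent.S1621
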