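import Cfsg.Statements.S1622
import Cfsg.Agent.H7.J2.E

set_option autoImplicit false
open Quaternion
open Cfsg

namespace Cfsg.Agent.S1622

open CfsgH7 MulAction
open scoped Pointwise symmDiff
set_option maxRecDepth 100000
set_option Elab.async false

open CfsgH7.Ico

/-- The reflection group is transitive on its 315 reflections by conjugation. -/
theorem result (f f' : Equiv.Perm ↥Cfsg.Spor.icoLeech) (hf : Cfsg.Spor.IsIcoReflection f) (hf' : Cfsg.Spor.IsIcoReflection f') : ∃ g ∈ Cfsg.Spor.twoJ2, g * f * g⁻¹ = f' := by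
  obtain ⟨i, hi, rfl⟩ := refl_iff.mp hf
  obtain ⟨j, hj, rfl⟩ := refl_iff.mp hf'
  obtain ⟨a, -, ha⟩ := orb_all hi
  obtain ⟨b, -, hb⟩ := orb_all hj
  have h : (b * a⁻¹) • AJ.pt i = AJ.pt j := by rw [← ha, ← hb, mul_smul, inv_smul_smul]
  obtain ⟨g, hg⟩ := QuotientGroup.mk_surjective (b * a⁻¹)
  rw [← hg] at h
  exact ⟨g, g.2, congrArg Subtype.val h⟩

end Cfsg.Agent.S1622
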