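import Cfsg.Statements.S1629
import Cfsg.Agent.H5.W2

set_option autoImplicit false
open scoped MatrixGroups
open Cfsg

namespace Cfsg.Agent.S1629

open CfsgH5
theorem orth3 {V : Type*} [AddCommGroup V] [Module (ZMod 2) V] [FiniteDimensional (ZMod 2) V]
    {S : Form (orthParam (ZMod 2)) V} (hS : S.Nondeg) (hd : 5 ≤ Module.finrank (ZMod 2) V)
    {G : Type*} [Group G] {φ : G →* (V ≃ₗ[ZMod 2] V)} (hφ : Function.Injective φ)
    (hK : φ.range = S.isom) {D : Set G} (hD : ∀ g, g ∈ D ↔ Module.finrank (ZMod 2) (mov (φ g)) = 1) :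
    Cfsg.IsThreeTranspositionClass D := by
  have h1 : ∀ a : ZMod 2, a ≠ 0 → a = 1 := by decide
  haveI : Nontrivial V := Module.nontrivial_of_finrank_pos (R := ZMod 2) (by omega)
  refine isThreeTransp_of hφ hK hD (fun d hd h => ?_) (fun d hd e he h h' => ?_) ?_
    (fun d hd e he h h' => ?_) fun L hL => hS.isom_le_of_rf' (Or.inr (by omega)) fun x hx =>
      hL _ (Form.rf_mem x) (hS.finrank_mov_rf hx)
  · obtain ⟨z, -, -, rfl⟩ := hS.eq_rf_of_mov hd h
    exact Form.rf_mul_self z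
  · obtain ⟨x, -, hx, rfl⟩ := hS.eq_rf_of_mov hd h
    obtain ⟨y, -, hy, rfl⟩ := hS.eq_rf_of_mov he h'
    by_cases h0 : S.B x y = 0
    · exact Or.inl (Form.rf_comm h0)
    · right
      rw [Form.conj_rf hd, Form.conj_rf he, ← Form.rf_neg, Form.rf_apply, Form.rf_apply, h1 _ hx,
        h1 _ hy, S.orth_symm x y, h1 _ h0]
      simp
  · obtain ⟨x, hx⟩ := hS.exists_Q_ne
    exact ⟨_, Form.rf_mem x, hS.finrank_mov_rf hx⟩
  · obtain ⟨x, -, hx, rfl⟩ := hS.eq_rf_of_mov hd h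
    obtain ⟨y, -, hy, rfl⟩ := hS.eq_rf_of_mov he h'
    obtain ⟨g, hg, h3⟩ := hS.exists_conj_rf (x := x) (y := y) one_ne_zero (by simp [h1 _ hx, h1 _ hy])
    exact ⟨g, hg, h3.symm⟩

/-- The orthogonal transvections of the plus-type orthogonal group in dimension 2m ≥ 6 over the field with two elements form a generating conjugacy class of 3-transpositions. -/
theorem result (m : ℕ) (hm : 3 ≤ m) : Cfsg.IsThreeTranspositionClass {g : ↥(Cfsg.isometryGroup (ZMod 2) (Cfsg.quadFormPlus m (ZMod 2))) | (((g : GL (Fin m ⊕ Fin m) (ZMod 2)) : Matrix (Fin m ⊕ Fin m) (Fin m ⊕ Fin m) (ZMod 2)) - 1).rank = 1} := by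
  exact orth3 (plusForm_nondeg m) (by rw [finrank_sp]; omega) (oHom_inj _)
    (range_oHom (plusForm_Q m)) fun g => by rw [← rank_sub_one (oHom_apply _ g)]; rfl

end Cfsg.Agent.S1629
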