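import Cfsg.Statements.S1631
import Cfsg.Agent.H5.W2

set_option autoImplicit false
open scoped MatrixGroups
open Cfsg

namespace Cfsg.Agent.S1631

open CfsgH5

/-- The unitary transvections of SU(n, 2), n ≥ 4, form a generating conjugacy class of 3-transpositions. -/
theorem result (F : Type) [Field F] [Fintype F] [DecidableEq F] (hF : Fintype.card F = 4) (n : ℕ) (hn : 4 ≤ n) : Cfsg.IsThreeTranspositionClass {g : ↥(Cfsg.SU n F 2) | (((g : Matrix.SpecialLinearGroup (Fin n) F) : Matrix (Fin n) (Fin n) F) - 1).rank = 1} := by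
  have hF' : Fintype.card F = 2 ^ 2 := hF
  have hS := uForm_nondeg hF' n
  have hne := frobQ_ne hF'
  have h2 : (2 : F) = 0 := two_eq_zero_of_not_odd (by rw [hF]; decide)
  have hσ : ∀ x, frobQ hF' x = x ^ 2 := frobQ_apply hF'
  have hc1 : ∀ c : F, c + frobQ hF' c = 0 → c ≠ 0 → c = 1 := fun c h h0 => by
    rw [hσ] at h
    exact mul_left_cancel₀ h0 (by linear_combination h - c * h2)
  have hN : ∀ a : F, a ≠ 0 → a * frobQ hF' a = 1 := fun a h0 => by
    have := FiniteField.pow_card_sub_one_eq_one a h0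
    rw [hF] at this
    rw [hσ, ← this]; ring
  have hd : Module.finrank F (Fin n → F) = n := by simp
  have hu : ∀ v hv c hc, v ≠ 0 → c ≠ 0 →
      Module.finrank F (mov ((uForm hF' n).utv (v := v) hv (c := c) hc)) = 1 :=
    fun v hv c hc h0 h1 => hS.finrank_mov_one h0 h1 (Form.utv_apply hv hc)
  refine isThreeTransp_of (suHom_inj n) (range_suHom hF' n)
    (fun g => by rw [← rank_sub_one (suHom_apply _ g)]; rfl) (fun d hd h => ?_)
    (fun d hd e he h h' => ?_) ?_
    (fun d hd' e he h h' => hS.unit_transv_conj hne (by omega) hd' he h h') fun L hL => ?_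
  · obtain ⟨v, hv, c, hc, -, -, rfl⟩ := hS.unit_eq_utv hd h
    refine LinearEquiv.ext fun x => ?_
    simp only [LinearEquiv.mul_apply, Form.utv_apply, Form.add_left, Form.smul_left, hv, mul_zero,
      add_zero, add_assoc, add_self_two h2]
    rfl
  · obtain ⟨v, hv, c, hc, -, hc0, rfl⟩ := hS.unit_eq_utv hd h
    obtain ⟨w, hw, c', hc', -, hc0', rfl⟩ := hS.unit_eq_utv he h'
    obtain rfl := hc1 c hc hc0
    obtain rfl := hc1 c' hc' hc0'
    by_cases h0 : (uForm hF' n).B v w = 0
    · left
      refine LinearEquiv.ext fun x => ?_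
      simp only [LinearEquiv.mul_apply, Form.utv_apply, Form.add_left, Form.smul_left, h0,
        Form.perp_symm h0, mul_zero, add_zero]
      abel
    · right
      rw [Form.conj_utv _ _ hd.1, Form.conj_utv _ _ he.1]
      refine Form.utv_congr _ _ _ _ (a := (uForm hF' n).B v w) ?_ (by rw [hN _ h0, one_mul])
      rw [Form.utv_apply, Form.utv_apply, one_mul, one_mul, smul_add, smul_smul,
        Form.unit_herm _ v w, hN _ h0, one_smul, add_comm]
  · obtain ⟨e, f, h⟩ := hS.unit_exists_hyp hne (by omega)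
    have hc : (1 : F) + frobQ hF' 1 = 0 := by rw [map_one]; linear_combination h2
    exact ⟨_, Form.EG_le_su (Form.utv_mem_EG h.ee hc), hu _ _ _ _ h.ne_left one_ne_zero⟩
  · rw [← hS.unit_EG hne (by omega)]
    refine hS.unit_EG_le_of_four hne (by omega) fun v hv c hc => ?_
    by_cases h0 : v = 0 ∨ c = 0
    · have : (uForm hF' n).utv hv hc = 1 := LinearEquiv.ext fun x => by
        rw [Form.utv_apply]; rcases h0 with h | h <;> simp [h]
      rw [this]; exact one_mem _
    · push Not at h0
      exact hL _ (Form.EG_le_su (Form.utv_mem_EG hv hc)) (hu _ _ _ _ h0.1 h0.2)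

end Cfsg.Agent.S1631
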