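import Cfsg.Statements.S1635
import Cfsg.Agent.H7.Mj

set_option autoImplicit false
open Cfsg

namespace Cfsg.Agent.S1635

open CfsgH7 MulAction
open scoped Pointwise symmDiff
set_option maxRecDepth 100000
set_option Elab.async false


/-- Coset leaders of the length-24 code: a coset contains a unique word of weight ≤ 3, or else exactly six words of weight 4 and none lighter. -/
theorem result (w : Cfsg.GolayPt → ZMod 2) : ({v : Cfsg.GolayPt → ZMod 2 | hammingNorm v ≤ 4 ∧ w - v ∈ Cfsg.golayCode}.ncard = 1 ∧ ∃ v : Cfsg.GolayPt → ZMod 2, hammingNorm v ≤ 3 ∧ w - v ∈ Cfsg.golayCode) ∨ ({v : Cfsg.GolayPt → ZMod 2 | hammingNorm v ≤ 4 ∧ w - v ∈ Cfsg.golayCode}.ncard = 6 ∧ ∀ v : Cfsg.GolayPt → ZMod 2, w - v ∈ Cfsg.golayCode → hammingNorm v ≤ 4 → hammingNorm v = 4) := by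
  have e : {v : GolayPt → ZMod 2 | hammingNorm v ≤ 4 ∧ w - v ∈ golayCode}.ncard =
      {s : Finset GolayPt | s.card ≤ 4 ∧ support₂ w ∆ s ∈ Cw}.ncard := by
    rw [← ncard_supp]; simp only [hammingNorm_eq, ← support_mem_Cw, supp_sub]
  obtain ⟨l, h1, h2⟩ := exists_lead (support₂ w)
  have k : ∀ s, support₂ w ∆ s ∈ Cw ↔ s ∆ l ∈ Cw := fun s =>
    ⟨fun h => by have := Cw_symmDiff h h2; rwa [symmDiff_comm (support₂ w), symmDiff_assoc, symmDiff_symmDiff_cancel_left] at this,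
     fun h => by have := Cw_symmDiff h2 h; rwa [symmDiff_comm s, symmDiff_assoc, symmDiff_symmDiff_cancel_left] at this⟩
  rw [e]
  by_cases h3 : l.card ≤ 3
  · left
    obtain ⟨v, rfl⟩ := exists_supp l
    refine ⟨Set.ncard_eq_one.mpr ⟨support₂ v, Set.eq_singleton_iff_unique_mem.mpr ⟨⟨h1, h2⟩, fun s hs => ?_⟩⟩,
      v, by rwa [hammingNorm_eq], by rwa [← support_mem_Cw, supp_sub]⟩
    exact eq_of_symmDiff_card ((k s).mp hs.2) (lt_of_le_of_lt (card_symmDiff_le' _ _) (by have := hs.1; omega))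
  · right
    have h4 : l.card = 4 := by omega
    have k2 : ∀ s : Finset GolayPt, s ∆ l ∈ Cw → s.card ≤ 4 → s.card = 4 := fun s hs h => by
      by_contra h5
      rw [eq_of_symmDiff_card hs (lt_of_le_of_lt (card_symmDiff_le' _ _) (by omega))] at h5
      exact h5 h4
    refine ⟨?_, fun v hv h => ?_⟩
    · rw [← card_sx h4, ← Set.ncard_coe_finset]
      congr 1
      ext s
      rw [Finset.mem_coe, mem_sx, Set.mem_setOf_eq, k]
      exact ⟨fun h => ⟨k2 s h.2 h.1, h.2⟩, fun h => ⟨h.1.le, h.2⟩⟩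
    · rw [hammingNorm_eq] at h ⊢
      rw [← support_mem_Cw, supp_sub, k] at hv
      exact k2 _ hv h

end Cfsg.Agent.S1635
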