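import Cfsg.Statements.S1636
import Cfsg.Agent.H7.Mj

set_option autoImplicit false
open Cfsg

namespace Cfsg.Agent.S1636

open CfsgH7 MulAction
open scoped Pointwise symmDiff
set_option maxRecDepth 100000
set_option Elab.async false

theorem nrm (w : GolayPt → ZMod 2) : hammingNorm (fun x : ZMod 23 => w (some x)) = ((support₂ w).erase none).card := by
  rw [hammingNorm, ← Finset.card_image_of_injective _ (Option.some_injective _)]
  congr 1
  ext x
  cases x <;> simp [support₂]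

theorem er (s : Finset GolayPt) : s.card ≤ (s.erase none).card + 1 := by
  have := Finset.pred_card_le_card_erase (s := s) (a := none)
  omega

theorem mn {w : GolayPt → ZMod 2} (hw : w ∈ golayCode) (h : hammingNorm (fun x : ZMod 23 => w (some x)) < 7) : w = 0 := by
  have := er (support₂ w)
  rw [nrm] at h
  refine support_inj ((Finset.card_eq_zero.mp ?_).trans supp_zero.symm)
  have := Cw_card (support_mem_Cw.mpr hw)
  omega

theorem cn (P : ℕ → Prop) [DecidablePred P] : {u : ZMod 23 → ZMod 2 | u ∈ {u : ZMod 23 → ZMod 2 | ∃ w ∈ golayCode, ∀ x : ZMod 23, u x = w (some x)} ∧ P (hammingNorm u)}.ncard =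
    cnt (fun k => force (cw k) fun m => decide (P (pc24 (m &&& 0x7fffff)))) 4096 := by
  rw [← ncard_Cw (fun s => P (s.erase none).card) _ fun m hm => by
    rw [decide_eq_true_eq, ← card_inter_toFs (isCode_lt hm), show toFs 0x7fffff = Finset.univ.erase none by decide +kernel,
      Finset.inter_erase, Finset.inter_univ], ← ncard_supp fun s => s ∈ Cw ∧ P (s.erase none).card,
    ← Set.ncard_image_of_injOn (f := fun (w : GolayPt → ZMod 2) (x : ZMod 23) => w (some x))]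
  · congr 1
    ext u
    constructor
    · rintro ⟨⟨w, hw, e⟩, h⟩
      obtain rfl : u = fun x => w (some x) := funext e
      exact ⟨w, ⟨support_mem_Cw.mpr hw, nrm w ▸ h⟩, rfl⟩
    · rintro ⟨w, ⟨h1, h2⟩, rfl⟩
      exact ⟨⟨w, support_mem_Cw.mp h1, fun _ => rfl⟩, (nrm w).symm ▸ h2⟩
  · intro a ha b hb e
    refine sub_eq_zero.mp (mn (sub_mem (support_mem_Cw.mp ha.1) (support_mem_Cw.mp hb.1)) ?_)
    have : (fun x : ZMod 23 => (a - b) (some x)) = 0 := funext fun x => sub_eq_zero.mpr (congrFun e x)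
    rw [this, hammingNorm_zero]; decide

/-- The punctured length-23 code has weight distribution 0^1 7^253 8^506 11^1288 12^1288 15^506 16^253 23^1. -/
theorem result : {u : ZMod 23 → ZMod 2 | ∃ w ∈ Cfsg.golayCode, ∀ x : ZMod 23, u x = w (some x)}.ncard = 4096 ∧ {u : ZMod 23 → ZMod 2 | u ∈ {u : ZMod 23 → ZMod 2 | ∃ w ∈ Cfsg.golayCode, ∀ x : ZMod 23, u x = w (some x)} ∧ hammingNorm u = 7}.ncard = 253 ∧ {u : ZMod 23 → ZMod 2 | u ∈ {u : ZMod 23 → ZMod 2 | ∃ w ∈ Cfsg.golayCode, ∀ x : ZMod 23, u x = w (some x)} ∧ hammingNorm u = 8}.ncard = 506 ∧ {u : ZMod 23 → ZMod 2 | u ∈ {u : ZMod 23 → ZMod 2 | ∃ w ∈ Cfsg.golayCode, ∀ x : ZMod 23, u x = w (some x)} ∧ hammingNorm u = 11}.ncard = 1288 ∧ {u : ZMod 23 → ZMod 2 | u ∈ {u : ZMod 23 → ZMod 2 | ∃ w ∈ Cfsg.golayCode, ∀ x : ZMod 23, u x = w (some x)} ∧ hammingNorm u = 12}.ncard = 1288 ∧ {u : ZMod 23 → ZMod 2 | u ∈ {u : ZMod 23 → ZMod 2 | ∃ w ∈ Cfsg.golayCode, ∀ x : ZMod 23, u x = w (some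 x)} ∧ hammingNorm u = 15}.ncard = 506 ∧ {u : ZMod 23 → ZMod 2 | u ∈ {u : ZMod 23 → ZMod 2 | ∃ w ∈ Cfsg.golayCode, ∀ x : ZMod 23, u x = w (some x)} ∧ hammingNorm u = 16}.ncard = 253 ∧ ∀ u ∈ {u : ZMod 23 → ZMod 2 | ∃ w ∈ Cfsg.golayCode, ∀ x : ZMod 23, u x = w (some x)}, u ≠ 0 → 7 ≤ hammingNorm u := by
  refine ⟨?_, (cn (· = 7)).trans ?_, (cn (· = 8)).trans ?_, (cn (· = 11)).trans ?_, (cn (· = 12)).trans ?_,
    (cn (· = 15)).trans ?_, (cn (· = 16)).trans ?_, ?_⟩
  · have := cn fun _ => True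
    simp only [and_true, Set.setOf_mem_eq] at this
    rw [this]; decide +kernel
  iterate 6 decide +kernel
  rintro u ⟨w, hw, e⟩ h
  obtain rfl : u = fun x => w (some x) := funext e
  by_contra h'
  rw [mn hw (not_le.mp h')] at h
  exact h rfl

end Cfsg.Agent.S1636
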