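import Cfsg.Statements.S1637
import Cfsg.Agent.H7.Mj

set_option autoImplicit false
open Cfsg

namespace Cfsg.Agent.S1637

open CfsgH7 MulAction
open scoped Pointwise symmDiff
set_option maxRecDepth 100000
set_option Elab.async false

theorem nrm (w : GolayPt → ZMod 2) : hammingNorm (fun x : ZMod 23 => w (some x)) = ((support₂ w).erase none).card := by
  rw [hammingNorm, ← Finset.card_image_of_injective _ (Option.some_injective _)]
  congr 1
  ext x
  cases x <;> simp [support₂]

theorem er (s : Finset GolayPt) : s.card ≤ (s.erase none).card + 1 := by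
  have := Finset.pred_card_le_card_erase (s := s) (a := none)
  omega

theorem mn {w : GolayPt → ZMod 2} (hw : w ∈ golayCode) (h : hammingNorm (fun x : ZMod 23 => w (some x)) < 7) : w = 0 := by
  have := er (support₂ w)
  rw [nrm] at h
  refine support_inj ((Finset.card_eq_zero.mp ?_).trans supp_zero.symm)
  have := Cw_card (support_mem_Cw.mpr hw)
  omega

theorem hd (a b : ZMod 23 → ZMod 2) : hammingDist a b = hammingNorm (a - b) := by
  simp [hammingDist, hammingNorm, sub_eq_zero]

/-- The punctured length-23 code is a perfect 3-error-correcting code: each word of length 23 is within distance 3 of exactly one codeword. -/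
theorem result (u : ZMod 23 → ZMod 2) : ∃! c : ZMod 23 → ZMod 2, c ∈ {u : ZMod 23 → ZMod 2 | ∃ w ∈ Cfsg.golayCode, ∀ x : ZMod 23, u x = w (some x)} ∧ hammingDist u c ≤ 3 := by
  let w : GolayPt → ZMod 2 := fun p => p.elim 0 u
  obtain ⟨l, h1, h2⟩ : ∃ l : Finset GolayPt, (l.erase none).card ≤ 3 ∧ support₂ w ∆ l ∈ Cw := by
    obtain ⟨l, h1, h2⟩ := exists_lead (support₂ w)
    by_cases h3 : l.card ≤ 3
    · exact ⟨l, (Finset.card_erase_le).trans h3, h2⟩
    · obtain ⟨t, ht, h4⟩ := exists_mem_sx (show l.card = 4 by omega) none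
      rw [mem_sx] at ht
      refine ⟨t, by rw [Finset.card_erase_of_mem h4, ht.1], ?_⟩
      have := Cw_symmDiff h2 ht.2
      rwa [symmDiff_comm t, symmDiff_assoc, symmDiff_symmDiff_cancel_left] at this
  obtain ⟨v, rfl⟩ := exists_supp l
  rw [← supp_sub, support_mem_Cw] at h2
  have h3 : hammingDist u (fun x => (w - v) (some x)) ≤ 3 := by
    rw [hd]
    rw [← nrm] at h1
    convert h1 using 2
    ext x; simp [w]
  refine ⟨fun x => (w - v) (some x), ⟨⟨_, h2, fun _ => rfl⟩, h3⟩, ?_⟩
  rintro c ⟨⟨w', hw', e⟩, h4⟩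
  obtain rfl : c = fun x => w' (some x) := funext e
  have := hammingDist_triangle_left (fun x => w' (some x)) (fun x => (w - v) (some x)) u
  have h5 := mn (sub_mem hw' h2) (lt_of_le_of_lt (le_of_eq (hd (fun x : ZMod 23 => w' (some x)) (fun x => (w - v) (some x))).symm) (by omega))
  rw [sub_eq_zero.mp h5]

end Cfsg.Agent.S1637
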