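import Cfsg.Statements.S1638
import Cfsg.Agent.H7.M24f

set_option autoImplicit false
open scoped Pointwise
open Cfsg

namespace Cfsg.Agent.S1638

open CfsgH7 MulAction
open scoped Pointwise symmDiff
set_option maxRecDepth 100000


/-- Fix two points p ≠ q and a pair s of two further points. Among the pairs avoiding p, q and disjoint from s, exactly 30 lie in an octad together with p, q and s and exactly 160 do not; and any two pairs other than s that meet s in equally many points and agree on that octad property are carried to one another by an element of the group of the length-24 code fixing p, q and s. -/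
theorem result (p q : Cfsg.GolayPt) (hpq : p ≠ q) (s : Finset Cfsg.GolayPt) (hs : (s.card = 2 ∧ p ∉ s ∧ q ∉ s)) : {t : Finset Cfsg.GolayPt | (t.card = 2 ∧ p ∉ t ∧ q ∉ t) ∧ Disjoint s t ∧ (∃ o ∈ Cfsg.octads, p ∈ o ∧ q ∈ o ∧ s ∪ t ⊆ o)}.ncard = 30 ∧ {t : Finset Cfsg.GolayPt | (t.card = 2 ∧ p ∉ t ∧ q ∉ t) ∧ Disjoint s t ∧ ¬ (∃ o ∈ Cfsg.octads, p ∈ o ∧ q ∈ o ∧ s ∪ t ⊆ o)}.ncard = 160 ∧ ∀ t t' : Finset Cfsg.GolayPt, (t.card = 2 ∧ p ∉ t ∧ q ∉ t) → (t'.card = 2 ∧ p ∉ t' ∧ q ∉ t') → t ≠ s → t' ≠ s → (s ∩ t).card = (s ∩ t').card → ((∃ o ∈ Cfsg.octads, p ∈ o ∧ q ∈ o ∧ s ∪ t ⊆ o) ↔ (∃ o ∈ Cfsg.octads, p ∈ o ∧ q ∈ o ∧ s ∪ t' ⊆ o)) → ∃ g : Equiv.Perm Cfsg.GolayPt, g ∈ Cfsg.M24 ∧ g p = p ∧ g q = q ∧ g • s = s ∧ g • t = t' := by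
  obtain ⟨a, b, hab, rfl⟩ := Finset.card_eq_two.mp hs.1
  simp only [Finset.mem_insert, Finset.mem_singleton, not_or] at hs
  obtain ⟨g, rfl, rfl, rfl, rfl⟩ : ∃ g : M24, (g : P24) • dec 23 = p ∧ (g : P24) • dec 0 = q ∧
    (g : P24) • dec 1 = a ∧ (g : P24) • dec 2 = b := tr4 hpq hs.2.1.1 hs.2.2.1 hs.2.1.2 hs.2.2.2 hab
  have e6 : ({dec 1, dec 2} : Finset GolayPt) = toFs 6 := by decide +kernel
  rw [pairM, e6]
  have k0 : ∀ m < 2 ^ 24, (toFs m).card = 2 → ((∃ o ∈ octads, dec 23 ∈ o ∧ dec 0 ∈ o ∧ toFs 6 ∪ toFs m ⊆ o) ↔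
      inO (0x800007 ||| m) = true) := by
    intro m hm h3
    rw [← inO_iff (or_lt (by norm_num) hm)]
    · have : toFs 0x800007 = insert (dec 23) (insert (dec 0) (toFs 6)) := by decide +kernel
      rw [toFs_or, this]
      simp only [Finset.insert_union, Finset.insert_subset_iff]
    rw [← card_toFs (or_lt (by norm_num) hm), toFs_or]
    refine (Finset.card_union_le _ _).trans ?_
    rw [h3, card_toFs (by norm_num)]
    decide +kernel
  have k1 : ∀ x : Finset GolayPt, (∃ o ∈ octads, (g : P24) • dec 23 ∈ o ∧ (g : P24) • dec 0 ∈ o ∧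
      (g : P24) • toFs 6 ∪ (g : P24) • x ⊆ o) ↔
      ∃ o ∈ octads, dec 23 ∈ o ∧ dec 0 ∈ o ∧ toFs 6 ∪ x ⊆ o := by
    intro x
    rw [exists_octM g]
    simp only [unionM, subsetM, memM]
  refine ⟨?_, ?_, fun U U' hU hU' hd hd' hi h => ?_⟩
  · rw [ncard_transport (g : P24) (Q := fun U => (U.card = 2 ∧ dec 23 ∉ U ∧ dec 0 ∉ U) ∧ Disjoint (toFs 6) U ∧
      ∃ o ∈ octads, dec 23 ∈ o ∧ dec 0 ∈ o ∧ toFs 6 ∪ U ⊆ o) fun x => by rw [k1, cardM, disjM, memM, memM],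
      ncard_small _ (fun m => ((pc24 m =ₙ 2) &&ₙ bnot (tb m 23) &&ₙ bnot (tb m 0)) &&ₙ (6 &ₙ m =ₙ 0) &&ₙ inO (0x800007 |ₙ m))
        (fun s hs => by have := hs.1.1; omega) fun m hm => ?_]
    · decide +kernel
    · simp only [band_eq, Bool.and_eq_true, n_beq, n_and, n_or, ← card_toFs hm, tb_eq, bnot_eq,
        Bool.not_eq_true', dec_mem_toFs (show 23 < 24 by norm_num), dec_mem_toFs (show 0 < 24 by norm_num),
        Bool.not_eq_true]
      refine and_congr_right fun h3 => ?_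
      rw [k0 m hm h3.1, toFs_disjoint_iff (by norm_num)]
  · rw [ncard_transport (g : P24) (Q := fun U => (U.card = 2 ∧ dec 23 ∉ U ∧ dec 0 ∉ U) ∧ Disjoint (toFs 6) U ∧
      ¬ ∃ o ∈ octads, dec 23 ∈ o ∧ dec 0 ∈ o ∧ toFs 6 ∪ U ⊆ o) fun x => by rw [k1, cardM, disjM, memM, memM],
      ncard_small _ (fun m => ((pc24 m =ₙ 2) &&ₙ bnot (tb m 23) &&ₙ bnot (tb m 0)) &&ₙ (6 &ₙ m =ₙ 0) &&ₙ bnot (inO (0x800007 |ₙ m)))
        (fun s hs => by have := hs.1.1; omega) fun m hm => ?_]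
    · decide +kernel
    · simp only [band_eq, Bool.and_eq_true, n_beq, n_and, n_or, ← card_toFs hm, tb_eq, bnot_eq,
        Bool.not_eq_true', dec_mem_toFs (show 23 < 24 by norm_num), dec_mem_toFs (show 0 < 24 by norm_num),
        Bool.not_eq_true]
      refine and_congr_right fun h3 => ?_
      rw [k0 m hm h3.1, toFs_disjoint_iff (by norm_num), Bool.not_eq_true]
  obtain ⟨m, hm, rfl⟩ := exists_maskM g U
  obtain ⟨m', hm', rfl⟩ := exists_maskM g U'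
  rw [cardM, memM, memM, dec_mem_toFs (by norm_num), dec_mem_toFs (by norm_num)] at hU hU'
  rw [k1, k1, k0 m hm hU.1, k0 m' hm' hU'.1, ← Bool.eq_iff_iff] at h
  rw [card_toFs hm] at hU
  rw [card_toFs hm'] at hU'
  rw [interM, interM, cardM, cardM, card_inter_toFs (by norm_num), card_inter_toFs (by norm_num)] at hi
  rw [Ne, eqM, toFs_eq_iff hm (by norm_num)] at hd
  rw [Ne, eqM, toFs_eq_iff hm' (by norm_num)] at hd'
  obtain ⟨u, hu, h1, h2⟩ := conj_Hfix g (labF_sm [1 <<< 23, 1 <<< 0, 6]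
    [0xba2b13bdac1c169a15ca99ad220440, 0xbd1b3b2e2f3954c454d28106970820] 3000
    [0x3000, 0x12000, 0x0, 0x400002] (fun m => (pc24 m =ₙ 2) &&ₙ bnot (tb m 23) &&ₙ bnot (tb m 0) &&ₙ bnot (m =ₙ 6))
    (fun m => 2 *ₙ pc24 (6 &ₙ m) +ₙ Act.b2n (inO (0x800007 |ₙ m))) (by decide +kernel) hm hm'
    (by omega) (by omega) (by simp only [band_eq, tb_eq, hU, bnot_eq]; simp [hd])
    (by simp only [band_eq, tb_eq, hU', bnot_eq]; simp [hd']) (by simp only [n_or, h, n_and, hi]))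
  exact ⟨u, hu, fix_pt (by norm_num) (h1 _ (by simp)), fix_pt (by norm_num) (h1 _ (by simp)), h1 _ (by simp), h2⟩

end Cfsg.Agent.S1638
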