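import Cfsg.Statements.S1639
import Cfsg.Agent.H7.M24f

set_option autoImplicit false
open scoped Pointwise
open Cfsg

namespace Cfsg.Agent.S1639

open CfsgH7 MulAction
open scoped Pointwise symmDiff
set_option maxRecDepth 100000


/-- The point stabiliser acts on the 1288 dodecads through the point with rank 4 and subdegrees 1, 165, 330, 792, distinguished by intersection 4, 8, 6 with the fixed dodecad. -/
theorem result (x : Cfsg.GolayPt) (d : Finset Cfsg.GolayPt) (hd : d ∈ Cfsg.dodecads) (hx : x ∈ d) : {d' : Finset Cfsg.GolayPt | d' ∈ Cfsg.dodecads ∧ x ∈ d' ∧ (d ∩ d').card = 4}.ncard = 165 ∧ {d' : Finset Cfsg.GolayPt | d' ∈ Cfsg.dodecads ∧ x ∈ d' ∧ (d ∩ d').card = 8}.ncard = 330 ∧ {d' : Finset Cfsg.GolayPt | d' ∈ Cfsg.dodecads ∧ x ∈ d' ∧ (d ∩ d').card = 6}.ncard = 792 ∧ ∀ d' d'' : Finset Cfsg.GolayPt, d' ∈ Cfsg.dodecads → d'' ∈ Cfsg.dodecads → x ∈ d' → x ∈ d'' → (d ∩ d').card = (d ∩ d'').card → ∃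 g : Equiv.Perm Cfsg.GolayPt, g ∈ Cfsg.M24 ∧ g x = x ∧ g • d = d ∧ g • d' = d'' := by
  obtain ⟨g, rfl, rfl⟩ := trDp hd hx
  have key : ∀ n, {o : Finset GolayPt | o ∈ dodecads ∧ (g : P24) • dec 0 ∈ o ∧ ((g : P24) • toFs 0x5335f ∩ o).card = n}.ncard =
      cnt (fun k => force (cw k) fun m => (pc24 m =ₙ 12) &&ₙ (tb m 0 &&ₙ (pc24 (0x5335f &ₙ m) =ₙ n))) 4096 := by
    intro n
    rw [← ncard_dod (fun o => dec 0 ∈ o ∧ (toFs 0x5335f ∩ o).card = n) _ fun m hm => by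
      rw [card_inter_toFs (by norm_num), dec_mem_toFs (by norm_num)]; simp]
    exact ncard_transport (g : P24) fun x => by simp only [dodM, interM, cardM, memM]
  refine ⟨by rw [key]; decide +kernel, by rw [key]; decide +kernel, by rw [key]; decide +kernel,
    fun o' o'' ho' ho'' hx' hx'' h => ?_⟩
  obtain ⟨m, hm, rfl⟩ := exists_maskM g o'
  obtain ⟨m', hm', rfl⟩ := exists_maskM g o''
  rw [dodM, toFs_mem_dodecads hm] at ho'
  rw [dodM, toFs_mem_dodecads hm'] at ho''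
  rw [memM, dec_mem_toFs (by norm_num)] at hx' hx''
  rw [interM, interM, cardM, cardM, card_inter_toFs (by norm_num), card_inter_toFs (by norm_num)] at h
  obtain ⟨u, hu, h1, h2⟩ := conj_Hfix g (labF_cw [1 <<< 0, 0x5335f]
    [0x995d5bc1648bc4da2866b20f260520, 0x72ea5b9ad23a8888bd899b6820c060] 3000
    [0x0, 0x0, 0x0, 0x0, 0xf3c069, 0x0, 0x7dd00d, 0x0, 0xaf101f, 0x0, 0x0, 0x0, 0x5335f] (fun m => isDod m &&ₙ tb m 0)
    (fun m => pc24 (0x5335f &ₙ m)) (by decide +kernel) (isDod_isCode ho') (isDod_isCode ho'')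
    (by simp [ho', ← hx']) (by simp [ho'', ← hx'']) h)
  exact ⟨u, hu, fix_pt (by norm_num) (h1 _ (by simp)), h1 _ (by simp), h2⟩

end Cfsg.Agent.S1639
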