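import Cfsg.Statements.S1642
import Cfsg.Agent.H7.Le6

set_option autoImplicit false
open Cfsg

namespace Cfsg.Agent.S1642

open CfsgH7 MulAction
open scoped Pointwise symmDiff
set_option maxRecDepth 100000
set_option Elab.async false


/-- Some involution of the Higman–Sims group acts without fixed points on its 100 points. -/
theorem result (v w : ↥Cfsg.leechLattice) (hv : Cfsg.sqNorm (v : Cfsg.GolayPt → ℤ) = 48) (hw : Cfsg.sqNorm (w : Cfsg.GolayPt → ℤ) = 48) (hvw : Cfsg.dotInt (v : Cfsg.GolayPt → ℤ) (w : Cfsg.GolayPt → ℤ) = -32) : ∃ g : ↥Cfsg.Co0, g • v = v ∧ g • w = w ∧ orderOf g = 2 ∧ ∀ x ∈ {x : ↥Cfsg.leechLattice | Cfsg.sqNorm (x : Cfsg.GolayPt → ℤ) = 32 ∧ Cfsg.dotInt (v : Cfsg.GolayPt → ℤ) (x : Cfsg.GolayPt → ℤ) = 24 ∧ Cfsg.dotInt (w : Cfsg.GolayPt → ℤ) (x : Cfsg.GolayPt → ℤ) = -24}, g • x ≠ x := by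
  obtain ⟨g, rfl, rfl⟩ := Le.trHS hv hw hvw
  obtain ⟨W, hW, -⟩ := Le.fullH.2
  have o := W.orderOf_prime (a := .w 0x60001) (p := 2) (q := 0) (by norm_num) (by decide +kernel)
  have m := Le.fH (Le.Fx_VP.le (W.E (.w 0x60001)).2)
  refine ⟨g * (W.E (.w 0x60001) : Co0) * g⁻¹, Le.cj_tr m.1, Le.cj_tr m.2, ?_, fun x hx => ?_⟩
  · rw [orderOf_conj', Subgroup.orderOf_coe, o]
  · obtain ⟨x, rfl⟩ := MulAction.surjective g x
    have hx : x ∈ Le.Y2 Le.lV Le.lY 24 (-24) := (Le.Y2_smul g).mp hx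
    rw [Le.Y100, Le.X100_eq, ← hW] at hx
    obtain ⟨p, hp, rfl⟩ := hx
    rw [conj_smul_smul]
    have : all (fun p => HS.A.tb.moves (.w 0x60001) p) 100 = true := by decide +kernel
    exact fun e => W.smul_ne ((all_iff _ _).mp this p hp) (MulAction.injective g e)

end Cfsg.Agent.S1642
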