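import Cfsg.Statements.S1643
import Cfsg.Agent.H7.Mj

set_option autoImplicit false
open scoped Pointwise
open Cfsg

namespace Cfsg.Agent.S1643

open CfsgH7 MulAction
open scoped Pointwise symmDiff
set_option maxRecDepth 100000
set_option Elab.async false

theorem ra : A24.Rep (Equiv.optionCongr (Equiv.addRight (1 : ZMod 23))) 0xb82d5a4e5183dcd62d4941cc520c41 := by unfold Act.Rep; decide +kernel
theorem rp : A24.Rep projInv 0x5883388a1c8f5140b46cd317aed7 := by unfold Act.Rep; decide +kernel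
def u2 : (ZMod 23)ˣ := ⟨2, 12, by decide, by decide⟩
theorem ru : A24.Rep (Equiv.optionCongr (Units.mulLeft u2)) 0xbd6717b56939461b52507314831040 := by unfold Act.Rep; decide +kernel

theorem clo_eq (S : List ℕ) (hS : lall inM24 S = true) : A24.clo S = (AM.clo S).map M24.subtype :=
  (Act.clo_sub (valid24 hS)).symm

theorem so (K : Subgroup M24) : (K.map M24.subtype).subgroupOf M24 = K :=
  Subgroup.comap_map_eq_self_of_injective M24.subtype_injective K

theorem sq (u : (ZMod 23)ˣ) (h : IsSquare u) : ∃ k : ℕ, u = u2 ^ k := by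
  obtain ⟨r, rfl⟩ := h
  obtain ⟨k, -, hk⟩ := (show ∀ x : ZMod 23, x ≠ 0 → ∃ k < 11, x * x = 2 ^ k by decide +kernel) r (fun h => by have := r.val_inv; rw [h, zero_mul] at this; exact absurd this (by decide))
  exact ⟨k, Units.ext (by simpa [u2] using hk)⟩

theorem pw (k : ℕ) : (Equiv.optionCongr (Units.mulLeft (u2 ^ k)) : P24) =
    (show P24 from Equiv.optionCongr (Units.mulLeft u2)) ^ k := by
  induction k with
  | zero => ext x; cases x <;> simp
  | succ k ih => rw [pow_succ, pow_succ, ← ih]; ext x; cases x <;> simp [mul_assoc]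

theorem cl (X : Set P24) (S : List ℕ) (h1 : ∀ x ∈ X, ∃ t ∈ S, A24.Rep x t) (h2 : ∀ t ∈ S, ∃ x ∈ X, A24.Rep x t) :
    Subgroup.closure (X ∪ {g : P24 | ∃ u : (ZMod 23)ˣ, IsSquare u ∧ g = Equiv.optionCongr (Units.mulLeft u)}) =
      A24.clo (0xbd6717b56939461b52507314831040 :: S) := by
  apply le_antisymm
  · rw [Subgroup.closure_le]
    rintro g (hg | ⟨u, hu, rfl⟩)
    · obtain ⟨t, ht, r⟩ := h1 g hg
      exact Act.mem_clo (List.mem_cons_of_mem _ ht) r
    · obtain ⟨k, rfl⟩ := sq u hu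
      rw [pw]
      exact pow_mem (Act.mem_clo List.mem_cons_self ru) k
  · refine Act.clo_le' fun t ht => ?_
    rcases List.mem_cons.mp ht with rfl | ht
    · exact ⟨_, Subgroup.subset_closure (Or.inr ⟨u2, ⟨⟨5, 14, by decide, by decide⟩, by decide⟩, rfl⟩), ru⟩
    · obtain ⟨x, hx, r⟩ := h2 t ht
      exact ⟨x, Subgroup.subset_closure (Or.inl hx), r⟩

theorem pH : Pack AM (AM.clo [0xbd6717b56939461b52507314831040, 0xb82d5a4e5183dcd62d4941cc520c41]) [0xbd6717b56939461b52507314831040, 0xb82d5a4e5183dcd62d4941cc520c41] [(0, [(0xbbaa564c6a8850fb19b422e424c007, 0xbaea8915e2659333406d02a87891c1)]),(1, [(0xbbcf671aad2d1849ac7250a290c100, 0xbd22e5a0a2b4e0d51c81ac9ec49860)])] 253 := (Pack.of_clo (A := AM) (S' := [0xbd6717b56939461b52507314831040, 0xb82d5a4e5183dcd62d4941cc520c41]) (L' := [(0, [(0xbbaa564c6a8850fb19b422e424c007, 0xbaea8915e2659333406d02a87891c1)]),(1, [(0xbbcf671aad2d1849ac7250a290c100, 0xbd22e5a0a2b4e0d51c81ac9ec49860)])])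 (M' := 253) (P := [(0, 0), (0, 3), (2, 3), (3, 1), (4, 1), (3, 1), (4, 1), (5, 1), (6, 7), (7, 1), (8, 1), (9, 1), (10, 1), (11, 1), (12, 1), (7, 1)]) (k := 18) (validM (by decide +kernel)) (by decide +kernel))
theorem pL : Pack AM (AM.clo [0xbd6717b56939461b52507314831040, 0xb82d5a4e5183dcd62d4941cc520c41, 0x5883388a1c8f5140b46cd317aed7]) [0xbd6717b56939461b52507314831040, 0xb82d5a4e5183dcd62d4941cc520c41, 0x5883388a1c8f5140b46cd317aed7] [(0, [(0x5827113eae3492d241013d0a3b2aec, 0x8e26aba8a94180b89a93bcab24d16)]),(1, [(0x144d61a6703de8b44825aa88d63dc0, 0x750ed8aad01048361a4b7d5059dd20)]),(2, [(0x5a46f43245142e6a448a71e6db5420, 0x68c4b2c54ea1c92ba2d333209abc20)])] 6072 := (Pack.of_clo (A := AM) (S' := [0xbd6717b56939461b52507314831040, 0xb82d5a4e5183dcd62d4941cc520c41, 0x5883388a1c8f5140b46cd317aed7]) (L' := [(0, [(0x5827113eae3492d241013d0a3b2aec, 0x8e26aba8a94180b89a93bcab24d16)]),(1, [(0x144d61a6703de8b44825aa88d63dc0,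 0x750ed8aad01048361a4b7d5059dd20)]),(2, [(0x5a46f43245142e6a448a71e6db5420, 0x68c4b2c54ea1c92ba2d333209abc20)])]) (M' := 6072) (P := [(0, 0), (0, 3), (2, 3), (3, 1), (4, 1), (3, 1), (4, 1), (0, 0), (0, 11), (11, 10), (1, 8), (11, 1), (0, 0), (0, 4), (0, 15), (13, 1), (7, 1), (0, 9), (16, 16), (5, 18), (18, 1), (7, 1), (3, 1), (9, 10), (10, 1), (11, 1)]) (k := 29) (validM (by decide +kernel)) (by decide +kernel))

theorem mx {K : Subgroup M24} (h1 : AM.clo [0xbd6717b56939461b52507314831040, 0xb82d5a4e5183dcd62d4941cc520c41] ≤ K) (h2 : K ≤ stabilizer M24 (dec 23)) :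
    K = AM.clo [0xbd6717b56939461b52507314831040, 0xb82d5a4e5183dcd62d4941cc520c41] ∨ K = stabilizer M24 (dec 23) := by
  have r1 := elM_rep (t := 0xb82d5a4e5183dcd62d4941cc520c41) (by decide +kernel)
  have r2 := elM_rep (t := 0xbd6717b56939461b52507314831040) (by decide +kernel)
  have o1 := r1.orderOf_prime 23 (by norm_num) (by decide +kernel)
  have o2 := r2.orderOf_prime 11 (by norm_num) (by decide +kernel)
  have n1 := (pack23.refull [(0, [(0xbade548034910f3aa8cd1591163a03, 0xb997063c81a8903b2a656a68e01e32)]),(1, [(0xbc8aa64daf345614560e38864a26c0, 0xb8543959c9822336d04b3bea429980)]),(2, [(0xbc904a29e71192c9b6c58d5c35c020, 0xba4d35d8e28954c1c9b58391423c20)]),(3, [(0xbda8e7a0ed2d4925c46c5267030820, 0xbd9d52b1449d20859cd288ded48820)]),(4, [(0xbcc8cb2a265b8f47c9096c0b518820, 0xbcc8cb2a265b8f47c9096c0b518820), (0xbd5f04a1c6b166c911ab5522718820, 0xbbec66acb4ac52c41e72241ca18820)]),(5, [(0xbc12ba18ad946c79b11553dc418820,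 0xbb5135bdd63160aa1ea964a2418820)])] (by decide +kernel)).normL r1 o1 [0xbdab49ca307b9ac5a928398a418820, 0xb82d5a4e5183dcd62d4941cc520c41, 0xb8416ad2728c1ee6b16a4a0e629062, 0xb8820b56939460f7358b5250731483, 0xb8c4105ab49ca307b9ac5a928398a4, 0xb9062082d5a4e5183dcd62d4941cc5, 0xb948310416ad2728c1ee6b16a4a0e6, 0xb98a418820b56939460f7358b52507, 0xb9cc520c4105ab49ca307b9ac5a928, 0xba0e629062082d5a4e5183dcd62d49, 0xba5073148310416ad2728c1ee6b16a, 0xba928398a418820b56939460f7358b, 0xbad4941cc520c4105ab49ca307b9ac, 0xbb16a4a0e629062082d5a4e5183dcd, 0xbb58b525073148310416ad2728c1ee, 0xbb9ac5a928398a418820b56939460f, 0xbbdcd62d4941cc520c4105ab49ca30, 0xbc1ee6b16a4a0e629062082d5a4e51, 0xbc60f7358b525073148310416ad272, 0xbca307b9ac5a928398a418820b5693, 0xbce5183dcd62d4941cc520c4105ab4, 0xbd2728c1ee6b16a4a0e629062082d5, 0xbd6939460f7358b525073148310416] [(0, [(0xbbaa564c6a8850fb19b422e424c007, 0xbaea8915e2659333406d02a87891c1)]),(1,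 [(0xbbcf671aad2d1849ac7250a290c100, 0xbd22e5a0a2b4e0d51c81ac9ec49860)])] 253 (by decide +kernel)
  have n2 := (pack23.refull [(1, [(0xb90660096faa1d029d8a6a661946d4, 0xb85e028c4c834e98a0ce55176ac893)]),(2, [(0xbd90e4be0ca9666101436d2275c824, 0xbd9e6688b1950f01a675231c042c2a)]),(4, [(0xba0c3541358adb2980b4b308f3882e, 0xb9e085b1f2201a674e361d525a082a)]),(8, [(0xbc5a092cc84b270abe8329ec47082a, 0xb95696cecc50eae901f0344e440834)]),(16, [(0xbaeac8c1476bdc534c6895a8400829, 0xb9aa551e72735f4b440882d8448823), (0xbd4cf50274824b25c4e8758646882c, 0xb9ad08b14fa1c605cdc84d5a428832)]),(9, [(0xbb64f89d505b003a4ca8aa4c470836, 0xb80eb55670a0ece7c4c8915246082d)])] (by decide +kernel)).normL r2 o2 [0xbdab49ca307b9ac5a928398a418820, 0xbd6717b56939461b52507314831040, 0xbcdeb38ed2728c2ac5a92869062080, 0xbbcf671aad2d1849ac7250a290c100, 0xb9dd52b263544287d8cda117212600, 0xbb8b3505e6a2c503d5838a2cd24920, 0xb954fa08ec8d88974c265c2a343640, 0xbaa87891c15d5122bc4cb266680da0,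 0xbd22e5a0a2b4e0d51c81ac9ec49860, 0xbc565b4144abd23a39029b4e1930c0, 0xbaecaaa68899e468960478dc268580] [(1, [(0xbd5d68b0e49ad10a2a46285e968860, 0xbd2cb7a66c2d4727288d8a0f0088c0)]),(2, [(0xbae75734e2a3d8354606b24b222020, 0xb9e8fa914974e4db2cc28a0a364020)])] 55 (by decide +kernel)
  have hd := Subgroup.card_dvd_of_le h2
  rw [pack23.card] at hd
  have m1 := Act.mem_clo (S := [0xbd6717b56939461b52507314831040, 0xb82d5a4e5183dcd62d4941cc520c41]) (by simp) r1
  have m2 := Act.mem_clo (S := [0xbd6717b56939461b52507314831040, 0xb82d5a4e5183dcd62d4941cc520c41]) (by simp) r2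
  obtain ⟨a, ha, ea⟩ := sylow_count (by norm_num) (h1 m1) o1 fun h => absurd (h.trans hd) (by norm_num)
  obtain ⟨b, hb, eb⟩ := sylow_count (by norm_num) (h1 m2) o2 fun h => absurd (h.trans hd) (by norm_num)
  have e1 := n1.eq_of_le pH (by decide +kernel)
  have e2 : K ⊓ Subgroup.normalizer (Subgroup.zpowers (elM 0xb82d5a4e5183dcd62d4941cc520c41) : Set M24) = AM.clo [0xbd6717b56939461b52507314831040, 0xb82d5a4e5183dcd62d4941cc520c41] :=
    le_antisymm (e1 ▸ inf_le_inf_right _ h2) (le_inf h1 (e1 ▸ inf_le_right))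
  rw [e2, pH.card] at ea
  have d1 := Subgroup.card_dvd_of_le (inf_le_inf_right (Subgroup.normalizer (Subgroup.zpowers (elM 0xbd6717b56939461b52507314831040) : Set M24)) h2)
  rw [n2.card] at d1
  have d2 := Subgroup.card_dvd_of_le (Subgroup.zpowers_le.mpr (show elM 0xbd6717b56939461b52507314831040 ∈ K ⊓ Subgroup.normalizer (Subgroup.zpowers (elM 0xbd6717b56939461b52507314831040) : Set M24)
    from ⟨h1 m2, Subgroup.le_normalizer (Subgroup.mem_zpowers _)⟩))
  rw [Nat.card_zpowers, o2] at d2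
  generalize Nat.card ↥(K ⊓ _) = c at eb d1 d2
  have hc : c = 11 ∨ c = 55 := (show ∀ c < 56, c ∣ 55 → 11 ∣ c → c = 11 ∨ c = 55 by decide +kernel) c
    (Nat.lt_succ_of_le (Nat.le_of_dvd (by norm_num) d1)) d1 d2
  rw [← ea] at hd eb
  have hd' : a ∣ 40320 := Nat.dvd_of_mul_dvd_mul_right (k := 253) (by norm_num) hd
  have := (all_iff _ _).mp (show all (fun a => bnot (40320 %ₙ a =ₙ 0) ||ₙ bnot (a %ₙ 23 =ₙ 1) ||ₙ (a =ₙ 1) ||ₙ (a =ₙ 40320) ||ₙ
    (bnot (a %ₙ 11 =ₙ 1) &&ₙ bnot (a %ₙ 11 =ₙ 5))) 40321 = true by decide +kernel) a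
    (Nat.lt_succ_of_le (Nat.le_of_dvd (by norm_num) hd'))
  simp only [bor_eq, band_eq, bnot_eq, Bool.or_eq_true, Bool.and_eq_true, Bool.not_eq_true', n_beq_false, n_beq, n_mod] at this
  rcases this with h | h | rfl | rfl | h
  · exact absurd (Nat.mod_eq_zero_of_dvd hd') h
  · exact absurd ha h
  · exact Or.inl (Subgroup.eq_of_le_of_card_ge h1 (by rw [← ea, pH.card])).symm
  · exact Or.inr (Subgroup.eq_of_le_of_card_ge h2 (by rw [← ea, pack23.card]))
  · clear hd hd' d1 d2 ea e1 e2 n1 n2 o1 o2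
    rcases hc with rfl | rfl <;> omega

/-- PSL(2, 23) = ⟨t ↦ t+1, t ↦ u t (u square), t ↦ −1/t⟩ is maximal of order 6072 in the group of the length-24 code, and its point stabiliser 23:11 (order 253) is maximal in the Mathieu group of degree 23. -/
theorem result : (Subgroup.closure ({Equiv.optionCongr (Equiv.addRight (1 : ZMod 23)), Cfsg.projInv} ∪ {g : Equiv.Perm Cfsg.GolayPt | ∃ u : (ZMod 23)ˣ, IsSquare u ∧ g = Equiv.optionCongr (Units.mulLeft u)}) ≤ Cfsg.M24 ∧ Nat.card ↥(Subgroup.closure ({Equiv.optionCongr (Equiv.addRight (1 : ZMod 23)), Cfsg.projInv} ∪ {g : Equiv.Perm Cfsg.GolayPt | ∃ u : (ZMod 23)ˣ, IsSquare u ∧ g = Equiv.optionCongr (Units.mulLeft u)})) = 6072 ∧ IsCoatom ((Subgroup.closure ({Equiv.optionCongr (Equiv.addRight (1 : ZMod 23)), Cfsg.projInv} ∪ {g : Equiv.Perm Cfsg.GolayPt | ∃ u : (ZMod 23)ˣ, IsSquare u ∧ g = Equiv.optionCongr (Units.mulLeft u)})).subgroupOf Cfsg.M24)) ∧ (Subgroup.closure ({Equiv.optionCongr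 (Equiv.addRight (1 : ZMod 23))} ∪ {g : Equiv.Perm Cfsg.GolayPt | ∃ u : (ZMod 23)ˣ, IsSquare u ∧ g = Equiv.optionCongr (Units.mulLeft u)}) ≤ Cfsg.M24 ⊓ MulAction.stabilizer (Equiv.Perm Cfsg.GolayPt) (none : Cfsg.GolayPt) ∧ Nat.card ↥(Subgroup.closure ({Equiv.optionCongr (Equiv.addRight (1 : ZMod 23))} ∪ {g : Equiv.Perm Cfsg.GolayPt | ∃ u : (ZMod 23)ˣ, IsSquare u ∧ g = Equiv.optionCongr (Units.mulLeft u)})) = 253 ∧ IsCoatom (((Subgroup.closure ({Equiv.optionCongr (Equiv.addRight (1 : ZMod 23))} ∪ {g : Equiv.Perm Cfsg.GolayPt | ∃ u : (ZMod 23)ˣ, IsSquare u ∧ g = Equiv.optionCongr (Units.mulLeft u)})).subgroupOf Cfsg.M24).subgroupOf (MulAction.stabilizer Cfsg.M24 (none : Cfsg.GolayPt)))) := by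
  rw [cl _ [0xb82d5a4e5183dcd62d4941cc520c41, 0x5883388a1c8f5140b46cd317aed7] (by rintro _ (rfl | rfl); exacts [⟨_, by simp, ra⟩, ⟨_, by simp, rp⟩])
      (by simp only [List.mem_cons, List.not_mem_nil, or_false]; rintro _ (rfl | rfl); exacts [⟨_, by simp, ra⟩, ⟨_, by simp, rp⟩]),
    cl _ [0xb82d5a4e5183dcd62d4941cc520c41] (by rintro _ rfl; exact ⟨_, by simp, ra⟩)
      (by simp only [List.mem_cons, List.not_mem_nil, or_false]; rintro _ rfl; exact ⟨_, by simp, ra⟩),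
    clo_eq _ (by decide +kernel), clo_eq _ (by decide +kernel), card_mapM, card_mapM, pH.card, pL.card,
    so, so]
  have hle : AM.clo [0xbd6717b56939461b52507314831040, 0xb82d5a4e5183dcd62d4941cc520c41] ≤ stabilizer M24 (dec 23) := pack23.le_of_sift pH (by decide +kernel)
  have hl2 : AM.clo [0xbd6717b56939461b52507314831040, 0xb82d5a4e5183dcd62d4941cc520c41] ≤ AM.clo [0xbd6717b56939461b52507314831040, 0xb82d5a4e5183dcd62d4941cc520c41, 0x5883388a1c8f5140b46cd317aed7] := Act.clo_mono (by simp)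
  refine ⟨⟨Subgroup.map_subtype_le _, rfl, fun h => ?_, fun K hK => ?_⟩, ?_, rfl, fun h => ?_, fun K hK => ?_⟩
  · have := pL.card
    rw [h, card_topM] at this
    cases this
  · rcases mx (K := K ⊓ stabilizer M24 (dec 23)) (le_inf (hl2.trans hK.le) hle) inf_le_right with h | h
    · have h1 := card_orbit_mul K (dec 23)
      rw [h, pH.card] at h1
      have h2 : (orbit K (dec 23)).ncard ≤ 24 := (Set.ncard_le_card _).trans (by rw [Nat.card_eq_fintype_card, card_pt])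
      exact absurd (Subgroup.eq_of_le_of_card_ge hK.le (by rw [pL.card]; omega)) hK.ne
    · refine packM.eq_of_slp le_top (T := S23 ++ [0x5883388a1c8f5140b46cd317aed7]) (fun t ht => ?_) [(0, 1), (1, 1), (2, 1), (3, 1), (4, 1), (5, 1), (6, 1), (7, 1), (8, 1), (9, 1), (0, 0), (0, 13), (12, 15), (0, 14), (0, 17), (15, 0), (0, 2), (5, 0), (0, 2), (20, 22), (22, 1), (2, 10), (10, 1), (4, 1), (12, 1), (0, 0), (0, 6), (8, 9), (9, 1), (10, 1), (11, 1), (12, 1), (13, 1), (14, 1), (5, 8), (37, 37), (0, 37), (2, 38), (40, 1), (0, 0), (0, 4), (17, 0), (0, 2), (8, 16), (9, 1), (0, 0), (0, 4), (49, 48), (0, 50), (30, 50), (15, 1), (0, 0), (0, 4), (6, 32), (0, 0), (0, 3), (10, 1), (59, 57), (0, 60), (12, 59), (0, 0), (0, 3), (5, 51), (51, 1), (0, 0), (0, 4), (20, 1), (20, 11), (0, 0), (0, 3), (35, 73), (0, 0), (0, 74), (61, 62), (55, 1), (0, 0), (0, 4), (7, 59), (21, 1), (0, 0), (0, 4), (11, 47), (12, 1), (0, 0), (0, 4), (15, 0), (0,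 2), (40, 88), (0, 0), (0, 32), (35, 1), (63, 0), (0, 2), (36, 47), (0, 0), (0, 3), (9, 27), (27, 1), (28, 1), (12, 1), (0, 0), (0, 6), (103, 45), (0, 46), (2, 107), (0, 0), (0, 3), (72, 34), (89, 1), (0, 0), (0, 4), (64, 84), (0, 0), (0, 3), (79, 1), (28, 19), (14, 1), (0, 0), (0, 4), (32, 0), (0, 2), (63, 122), (0, 19), (0, 20), (3, 125), (0, 0), (0, 3), (64, 0), (0, 2), (95, 1), (43, 45), (61, 1), (30, 1), (0, 0), (0, 5), (0, 124), (88, 1), (50, 119), (1, 1), (0, 46), (5, 44), (1, 1), (7, 56), (56, 1), (2, 1), (24, 25), (1, 1), (125, 119), (0, 81), (47, 64), (1, 1), (30, 9), (1, 1), (0, 8)] 157 (by decide +kernel)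
      rcases List.mem_append.mp ht with ht | ht
      · obtain ⟨g, hg, r⟩ := pack23.mem t ht
        exact ⟨g, (h.ge hg).1, r⟩
      · obtain ⟨g, hg, r⟩ := pL.mem t (List.mem_cons_of_mem _ (List.mem_cons_of_mem _ ht))
        exact ⟨g, hK.le hg, r⟩
  · exact (Subgroup.map_mono hle).trans (stab24_eq _).ge
  · have := (card_subOf hle).trans pH.card
    rw [show (AM.clo [0xbd6717b56939461b52507314831040, 0xb82d5a4e5183dcd62d4941cc520c41]).subgroupOf (stabilizer M24 (dec 23)) = ⊤ from h, Subgroup.card_top, pack23.card] at this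
    cases this
  · rcases mx (K := K.map (stabilizer M24 (dec 23)).subtype) (fun g hg => ⟨⟨g, hle hg⟩, hK.le hg, rfl⟩)
      (Subgroup.map_subtype_le _) with h | h
    · exact absurd (fun g hg => h.le ⟨g, hg, rfl⟩) hK.not_ge
    · exact eq_top_iff.mpr fun g _ => by
        obtain ⟨x, hx, e⟩ := h.ge g.2
        exact (Subtype.ext e : x = g) ▸ hx

end Cfsg.Agent.S1643
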