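import Cfsg.Statements.S1681
import Cfsg.Agent.H7.Suz.W
import Cfsg.Agent.H7.AuQ
import Cfsg.Agent.H7.Ce5

set_option autoImplicit false
open Cfsg

namespace Cfsg.Agent.S1681

open CfsgH7 MulAction
open scoped Pointwise symmDiff
set_option maxRecDepth 100000
set_option Elab.async false

variable {G Ω : Type*} [Group G] [MulAction G Ω]
def Dzl1 : Lev := ⟨247, 0x18d0200082040180c9050c07020024660800006c87000040000005014100202c841042c00220b7800926298240018500e6806248c04004052204382c00c0408802e804010405c0c3161820fc2119420601308b00043858a58c2030000020e1000008146252801e0b22b102108600001cecb4020000440020442003a9ca0080000fc820100000300601c6080c21802128007000e148444125c02004520435688041288922120101404505600038018007c082000a844001a3080d280b524205e49034640dec8010480050490d0000200600832000013022002428404c60586f, 0, 1, 416, [0x4103240006, 0x103563010008]⟩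
theorem Dzv1 : Suz.W.tb.lev 8 Dzl1 = true := by decide +kernel
def Dzl2 : Lev := ⟨211, 0x400000000000000000000000000000002000000090600000000000080804208c0000000200000000000000000000400000000410600000020000004001089000000108000000000000000000000002010000008000002000200000048000000000000000000000800000000008800000000000400000000000001080040000108000004c000001004016000002801020200010005056000000100000002000a00000000000120024040048400046001ac000000004040010000000600000000001000000400004400486f, 0, 1, 100, [0x14010301041000b, 0x63025302362000b, 0x63053235036000b]⟩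
theorem Dzv2 : Suz.W.tb.lev 8 Dzl2 = true := by decide +kernel
def Dzl3 : Lev := ⟨19, 0x250bd1ef71c326742082b3589d5f9101b742ef91683648826d5470e6181e8a02002eb430945408447658c01d2ffa4299086c1d841984b83a4810c4420c1001377005001402c2031c68c41e005ae0b041cc8360e62ac4a20052dcc851ffc81a040405298d8469a10491487462093f0b42120bed53fc3ac09c9b82cc400569013c70359f69f9f509711800e0039a745c473e01240600329a18330291095102920528122290c0141801000001ff859a6fc8051863b41a0ff05cf042c5348c0df20b660998e213198fa59489b0d08de30ed1116c4adc84c41548d0120910080000, 0, 0, 672, [0x1, 0x30001, 0x103563010008]⟩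
theorem Dzv3 : Suz.W.tb.lev 8 Dzl3 = true := by decide +kernel
def Dzl4 : Lev := ⟨8, 0x2000000000000000000000000000000000000000000000000000000000000000000000000000000000000000000000000000000000000200000000000000000000000000000000000000000040000000000000000000000000000000000000000000000000000000000200000000000000000000000000000000000000000000000000000000000000000000000000000000000000000000000000000008000000000000000000804000000000000000000000000000000000000000000000000000000000000000000000000000000020000100, 0, 0, 9, [0x536305630635323000f, 0x10365301030103653010013]⟩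
theorem Dzv4 : Suz.W.tb.lev 8 Dzl4 = true := by decide +kernel
def Dz : List Lev := [Dzl1, Dzl2, Dzl3, Dzl4]
theorem Dzs : (Suz.W.tb.stat 0x10423010143010123010323014103230143103231023410143201323013023010410323014102323201030055 Dz [4] &&ₙ (Suz.W.tb.N *ₙ Tb.dsz Dz =ₙ 448345497600) &&ₙ (Nat.succ 4 ≤ₙ Suz.W.tb.N) &&ₙ (1 ≤ₙ 448345497600)) = true := by decide +kernel
theorem Dzc [Finite G] (W : WT Suz.W.tb G Ω) {C : ℕ} (hC : C ≤ Suz.W.tb.n) (top : cl W.gen C = ⊤) (hM : Nat.card G = 448345497600) (tr : W.X ⊆ MulAction.orbit G (W.pt 0)) : Nat.card (Subgroup.centralizer {W.ev 0x10423010143010123010323014103230143103231023410143201323013023010410323014102323201030055}) ≤ 9797760 :=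
  W.cent_le hC top (W.cm_top hM tr (D := Dz) ⟨Dzv1, Dzv2, Dzv3, Dzv4⟩ Dzs) (by decide +kernel)
def ts : List ℕ := [Tb.lt 0, Tb.lt 1, Tb.lt 2, Tb.lt 3, Tb.lt 5, Tb.lt 6]
theorem ok : lall (okW Suz.W.tb.n) ts = true := by decide +kernel
theorem gq [Finite G] (W : WT Suz.W.tb G Ω) : 19595520 ≤ Nat.card (cl (W.gs ts) 6) := W.card_ge ok 8 [(0, 162, [0x50001, 0x30001, 0x1, 0x40001, 0x10001]), (1, 56, [0x40001, 0x10001, 0x30001, 0x1]), (9, 10, [0x1, 0x323010005, 0x2304342340009]), (14, 9, [0x323010005, 0x2304342340009]), (5, 4, [0x1010324301230000d]), (2, 2, [0x3230432340000a]), (4, 3, [0x30103210323103210320013])] (by decide +kernel)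

/-- In the presented sporadic Suzuki group (generators a, …, g), the subgroup generated by the images of a, b, c, d, f, g has index 22880. -/
theorem result : (((Subgroup.closure ({Cfsg.Spor.Suz.a, Cfsg.Spor.Suz.b, Cfsg.Spor.Suz.c, Cfsg.Spor.Suz.d, Cfsg.Spor.Suz.f, Cfsg.Spor.Suz.g} : Set (FreeGroup Cfsg.Spor.Suz.Gen))).map (PresentedGroup.mk (Cfsg.Spor.coxRelators Cfsg.Spor.Suz.edges ∪ {r | r ∈ Cfsg.Spor.Suz.extra})))).index = 22880 := by
  have : Finite Spor.Suz := Nat.finite_of_card_ne_zero (by rw [Suz.card]; norm_num)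
  have h := Suz.P.wt_ok Suz.invOk _ Suz.cb.2.2 (C := 7) (by decide +kernel) Suz.card Suz.rk
  have e := Suz.P.map_closure (s := {Spor.Suz.a, Spor.Suz.b, Spor.Suz.c, Spor.Suz.d, Spor.Suz.f, Spor.Suz.g}) (l := [Spor.Suz.a, Spor.Suz.b, Spor.Suz.c, Spor.Suz.d, Spor.Suz.f, Spor.Suz.g]) (by simp) (HL := [0, 1, 2, 3, 5, 6]) (by decide +kernel)
  have a := Suz.W.wt.inv_le (ts := ts) (C := 6) 0x10231023201032301030013 (Dzc Suz.W.wt h.1.1 h.1.2 h.2.1 h.2.2) (by decide +kernel)
  have b : Suz.W.toWG.clL [0, 1, 2, 3, 5, 6] = cl (Suz.W.wt.gs ts) 6 := le_antisymm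
    (Suz.W.clL_le ok [0x1, 0x10001, 0x20001, 0x30001, 0x40001, 0x50001] (by decide +kernel)) (cl_le fun i hi => by
      have k : ∀ j ∈ [0, 1, 2, 3, 5, 6], Suz.W.wt.ev (Tb.lt j) ∈ Suz.W.toWG.clL [0, 1, 2, 3, 5, 6] := fun j hj => by
        rw [show Suz.W.wt.ev (Tb.lt j) = Suz.W.wt.gen j from evW_lt _ (by simp at hj; omega)]
        exact Subgroup.subset_closure ⟨j, hj, rfl⟩
      interval_cases i
      exacts [k 0 (by simp), k 1 (by simp), k 2 (by simp), k 3 (by simp), k 5 (by simp), k 6 (by simp)])
  have c := (cl (Suz.W.wt.gs ts) 6).index_mul_card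
  rw [le_antisymm a (gq _), Suz.card] at c
  rw [e.trans b]
  exact Nat.eq_of_mul_eq_mul_right (by norm_num) (c.trans (by norm_num))

end Cfsg.Agent.S1681
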