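import Cfsg.Statements.S1685
import Cfsg.Agent.H7.Fi22.W
import Cfsg.Agent.H7.Pres2

set_option autoImplicit false
open Cfsg

namespace Cfsg.Agent.S1685

open CfsgH7 MulAction
open scoped Pointwise symmDiff
set_option maxRecDepth 100000


/-- In the presented Fischer group Fi₂₂ (generators a, …, i), the subgroup generated by the images of b, c, d, e, f, g, h, i has index 14080. -/
theorem result : (((Subgroup.closure ({Cfsg.Spor.Fi22.b, Cfsg.Spor.Fi22.c, Cfsg.Spor.Fi22.d, Cfsg.Spor.Fi22.e, Cfsg.Spor.Fi22.f, Cfsg.Spor.Fi22.g, Cfsg.Spor.Fi22.h, Cfsg.Spor.Fi22.i} : Set (FreeGroup Cfsg.Spor.Fi22.Gen))).map (PresentedGroup.mk (Cfsg.Spor.coxRelators Cfsg.Spor.Fi22.edges ∪ {r | r ∈ Cfsg.Spor.Fi22.extra})))).index = 14080 := by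
  have e := Fi22.P.map_closure (s := {Spor.Fi22.b, Spor.Fi22.c, Spor.Fi22.d, Spor.Fi22.e, Spor.Fi22.f, Spor.Fi22.g, Spor.Fi22.h, Spor.Fi22.i}) (l := [Spor.Fi22.b, Spor.Fi22.c, Spor.Fi22.d, Spor.Fi22.e, Spor.Fi22.f, Spor.Fi22.g, Spor.Fi22.h, Spor.Fi22.i]) (by simp) (HL := List.range 8) (by decide +kernel)
  rw [e, clL_range, Fi22.P.cl_eq (by decide)]
  exact (index_eq_of_bd (Fi22.A.cl_top _ Fi22.P.code_lt) Fi22.b8
    (Fi22.E9.enum _ _ _ Fi22.r9 (ev8_mem_cl (by decide +kernel))).1 Fi22.card (by norm_num) (by norm_num)).1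

end Cfsg.Agent.S1685
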