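import Cfsg.Statements.S1717
import Cfsg.Agent.H5.Tv1

set_option autoImplicit false
open Cfsg

namespace Cfsg.Agent.S1717

open CfsgH5 Module Subgroup

/-- Let G be a finite group with an involution z whose centraliser C is isomorphic to the centraliser of a transvection of SL(5, 2). Then a Sylow 2-subgroup of C, viewed in G, is a Sylow 2-subgroup of G (its index in G is odd). -/
theorem result {G : Type*} [Group G] [Finite G] (s : Matrix.SpecialLinearGroup (Fin 5) (ZMod 2)) (hs : (s : Matrix (Fin 5) (Fin 5) (ZMod 2)) = Matrix.transvection 0 1 1) (z : G) (hz : orderOf z = 2) (e : (Subgroup.centralizer ({z} : Set G)) ≃* Subgroup.centralizer ({s} : Set (Matrix.SpecialLinearGroup (Fin 5) (ZMod 2)))) (T : Sylow 2 (Subgroup.centralizer ({z} : Set G))) : ¬ 2 ∣ ((T : Subgroup (Subgroup.centralizer ({z} : Set G))).map (Subgroup.subtype (Subgroup.centralizer ({z} : Set G)))).index := by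
  have h01 : (0 : Fin 5) ≠ 1 := by simp
  obtain ⟨-, -, h4⟩ := tv_cent (F := ZMod 2) (by decide) (slHom (Fin 5) _) slHom_inj (slHom_et h01 hs) (et_aux h01 1)
    (et_data (i := 0)).1
    (et_data (j := 0)).2
  have hs2 : orderOf s = 2 := by
    rw [← orderOf_injective _ slHom_inj, slHom_et h01 hs]
    exact (es_Qs (by decide) (et_aux h01 1) (et_data (i := 0)).1 (et_data (j := 0)).2).ord
  have a1 : ∀ x : centralizer {z}, x ∈ centralizer (T : Set _) → x ≠ 1 → (e x).1 = s := fun x hx h1 => by
    have := h4 (le_top.trans (sl_two_range (by decide)).ge) (e x) fun y hy => by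
      obtain ⟨y, rfl⟩ := e.surjective y
      rw [← map_mul, ← map_mul, hx y (((CfsgH1.isPGroup_pCore 2 _).comap_of_injective e.toMonoidHom
        e.injective).le_sylow_of_normal T hy)]
    rw [mem_zpowers_iff_mem_range_orderOf, hs2] at this
    simp only [Finset.mem_image, Finset.mem_range] at this
    obtain ⟨j, hj, e'⟩ := this
    interval_cases j
    · exact absurd (e.map_eq_one_iff.1 (Subtype.ext (by simpa using e'.symm))) h1
    · simpa using e'.symm
  let z' : centralizer {z} := ⟨z, mem_centralizer_singleton_iff.2 rfl⟩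
  have z1 : z ≠ 1 := fun h => by simp [h] at hz
  have z2 : ∀ y, y * z' = z' * y := fun y => Subtype.ext (mem_centralizer_singleton_iff.1 y.2)
  have z3 : z' ∈ T := by
    have : (zpowers z').Normal := ⟨fun a ha g => by
      rwa [(show Commute g a by obtain ⟨k, rfl⟩ := ha; exact Commute.zpow_right (z2 g) k).eq, mul_inv_cancel_right]⟩
    exact (IsPGroup.of_card (n := 1) (by rw [Nat.card_zpowers, orderOf_mk, hz, pow_one])).le_sylow_of_normal T
      (mem_zpowers z')
  set P := (T : Subgroup (centralizer {z})).map (centralizer {z}).subtype with hP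
  have hp : IsPGroup 2 P := T.2.map _
  intro h
  obtain ⟨S, hS⟩ := hp.exists_le_sylow
  have a2 : P.subgroupOf S ≠ ⊤ := fun e' => S.not_dvd_index (le_antisymm hS (subgroupOf_eq_top.1 e') ▸ h)
  have := S.2.isNilpotent
  obtain ⟨g, hg, hg'⟩ := SetLike.exists_of_lt (Group.normalizerCondition_of_isNilpotent _ (lt_top_iff_ne_top.2 a2))
  have n1 : ∀ x ∈ P, (g : G) * x * (g : G)⁻¹ ∈ P ∧ (g : G)⁻¹ * x * g ∈ P := fun x hx =>
    ⟨(mem_normalizer_iff.1 hg ⟨x, hS hx⟩).1 hx, (mem_normalizer_iff''.1 hg ⟨x, hS hx⟩).1 hx⟩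
  obtain ⟨y, hy, ey⟩ := (n1 z ⟨z', z3, rfl⟩).1
  replace ey : (y : G) = g * z * (g : G)⁻¹ := ey
  have a3 : y = z' := e.injective (Subtype.ext ((a1 y (fun t ht => by
    obtain ⟨u, -, eu⟩ := (n1 t ⟨t, ht, rfl⟩).2
    have := mem_centralizer_singleton_iff.1 u.2
    rw [show (u : G) = _ from eu] at this
    refine Subtype.ext ?_
    push_cast
    rw [ey]
    calc _ = g * ((g : G)⁻¹ * t * g * z) * (g : G)⁻¹ := by group
      _ = _ := by rw [this]; group) fun h => z1 (by simpa [h] using ey.symm)).trans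
    (a1 z' (fun t _ => z2 t) fun h => z1 (congrArg Subtype.val h)).symm))
  have a4 : (g : G) ∈ centralizer {z} :=
    mem_centralizer_singleton_iff.2 (mul_inv_eq_iff_eq_mul.1 (by rw [← ey, a3]))
  have a5 := T.is_maximal' (S.2.comap_subtype (K := centralizer {z})) (map_le_iff_le_comap.1 hS)
  exact hg' ⟨⟨g, a4⟩, a5.le g.2, rfl⟩

end Cfsg.Agent.S1717
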