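import Cfsg.Statements.S1753

set_option autoImplicit false
universe u
open Cfsg

namespace Cfsg.Agent.S1753

open Subgroup

/-- Let K be any property of groups. (1) If G is a minimal counterexample relative to K — a finite non-abelian simple group not satisfying K such that every finite non-abelian simple group of smaller order satisfies K — then every proper subgroup of G is a K-group (all its non-abelian simple sections satisfy K), since such sections have smaller order than G. (2) Consequently (induction on the order), if every finite non-abelian simple group all of whose proper subgroups are K-groups satisfies K, then every finite non-abelian simple group satisfies K. -/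
theorem result (K : ∀ (X : Type u) [Group X], Prop) :
    (∀ (G : Type u) [Group G], Cfsg.IsMinCounterexampleWith K G → Cfsg.IsKProperWith K G) ∧
      ((∀ (X : Type u) [Group X] [Finite X], IsSimpleGroup X → ¬ IsMulCommutative X → Cfsg.IsKProperWith K X → K X) →
        ∀ (G : Type u) [Group G] [Finite G], IsSimpleGroup G → ¬ IsMulCommutative G → K G) := by
  have h : ∀ (G : Type u) [Group G] [Finite G], (∀ (X : Type u) [Group X] [Finite X],
      IsSimpleGroup X → ¬ IsMulCommutative X → Nat.card X < Nat.card G → K X) → IsKProperWith K G := fun G _ _ h H hH L N _ h1 h2 =>
    h _ h1 h2 (((Nat.card_le_card_of_surjective _ QuotientGroup.mk_surjective).trans (card_le_card_group L)).trans_lt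
      (lt_of_le_of_ne (card_le_card_group H) fun e => hH (eq_top_of_card_eq H e)))
  refine ⟨fun G _ ⟨_, _, _, _, h1⟩ => h G h1, fun h1 G _ _ => ?_⟩
  induction hn : Nat.card G using Nat.strong_induction_on generalizing G with
  | _ n ih => exact fun h2 h3 => h1 G h2 h3 (h G fun X _ _ h4 h5 h6 => ih _ (hn ▸ h6) X _ inferInstance rfl h4 h5)

end Cfsg.Agent.S1753
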