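import Cfsg.Statements.S1755
import Cfsg.Agent.H1.Fitting
import Cfsg.Agent.H1.Basic
import Cfsg.Agent.H1.Cores
import Cfsg.Agent.Lead.GenFitting
import Cfsg.Agent.H2.PGroup

set_option autoImplicit false
open Cfsg

namespace Cfsg.Agent.S1755

open Subgroup CfsgH1 CfsgLead
theorem uq {X : Type*} [Group X] [Finite X] (h : IsCyclic X) {a b : X} (ha : orderOf a = 2) (hb : orderOf b = 2) : a = b := by
  classical
  have := Fintype.ofFinite X
  have := IsCyclic.card_orderOf_eq_totient (α := X) (d := 2) (ha ▸ orderOf_dvd_card)
  exact Finset.card_le_one.1 this.le a (by simpa) b (by simpa)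

/-- Let G be a finite group and let z be an involution of G such that Q, the generalized Fitting subgroup of the centralizer C of z, is a 2-group of symplectic type (every characteristic abelian subgroup of Q is cyclic). Let B be a characteristic abelian subgroup of Q, viewed as a subgroup of G. Then for every g in G, the conjugate of B by g either equals B or meets B trivially. -/
theorem result {G : Type*} [Group G] [Finite G] (z : G) (hz : orderOf z = 2) (hQ : Cfsg.IsOfSymplecticType ↥(Cfsg.generalizedFittingSubgroup ↥(Subgroup.centralizer ({z} : Set G))))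
    (B : Subgroup ↥(Cfsg.generalizedFittingSubgroup ↥(Subgroup.centralizer ({z} : Set G)))) (hBc : B.Characteristic) (hBa : IsMulCommutative ↥B) (g : G) :
    ((B.map (Cfsg.generalizedFittingSubgroup ↥(Subgroup.centralizer ({z} : Set G))).subtype).map (Subgroup.centralizer ({z} : Set G)).subtype).map (MulAut.conj g).toMonoidHom =
        (B.map (Cfsg.generalizedFittingSubgroup ↥(Subgroup.centralizer ({z} : Set G))).subtype).map (Subgroup.centralizer ({z} : Set G)).subtype ∨
      ((B.map (Cfsg.generalizedFittingSubgroup ↥(Subgroup.centralizer ({z} : Set G))).subtype).map (Subgroup.centralizer ({z} : Set G)).subtype).map (MulAut.conj g).toMonoidHom ⊓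
        (B.map (Cfsg.generalizedFittingSubgroup ↥(Subgroup.centralizer ({z} : Set G))).subtype).map (Subgroup.centralizer ({z} : Set G)).subtype = ⊥ := by
  have hz' : (⟨z, mem_centralizer_singleton_iff.2 rfl⟩ : centralizer {z}) ∈ center _ :=
    mem_center_iff.2 fun x => Subtype.ext (mem_centralizer_singleton_iff.1 x.2)
  have key : ∀ w ∈ (B.map (generalizedFittingSubgroup (centralizer ({z} : Set G))).subtype).map (centralizer {z}).subtype,
      orderOf w = 2 → w = z := by
    rintro _ ⟨_, ⟨w, hw, rfl⟩, rfl⟩ h
    have := uq (hQ.2 (B ⊔ center _) inferInstance (CfsgH2.isMulCommutative_sup hBa inferInstance (center_le_centralizer _)))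
      (a := ⟨w, mem_sup_left hw⟩) (b := ⟨⟨_, fitting_le_genFitting (center_le_fitting hz')⟩,
        mem_sup_right (mem_center_iff.2 fun x => Subtype.ext (mem_center_iff.1 hz' x))⟩)
      (by simpa [← orderOf_coe] using h) (by simpa [← orderOf_coe] using hz)
    exact congrArg (fun x => x.1.1.1) this
  have := genFitting_normal (centralizer ({z} : Set G))
  have hn := le_normalizer_map (H := B.map (generalizedFittingSubgroup (centralizer ({z} : Set G))).subtype) (centralizer {z}).subtype
  have hp := ((hQ.1.to_subgroup B).map (generalizedFittingSubgroup (centralizer ({z} : Set G))).subtype).map (centralizer {z}).subtype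
  rw [normalizer_eq_top, ← MonoidHom.range_eq_map, range_subtype] at hn
  generalize (B.map (generalizedFittingSubgroup (centralizer ({z} : Set G))).subtype).map (centralizer {z}).subtype = A at *
  refine or_iff_not_imp_right.2 fun h => conj_smul_eq_iff_mem_normalizer.2 (hn ?_)
  have : Fact (Nat.Prime 2) := ⟨Nat.prime_two⟩
  obtain ⟨⟨_, ⟨w, hw, rfl⟩, h1⟩, h2⟩ := exists_prime_orderOf_dvd_card' 2 ((hp.to_le (inf_le_right (a := A.map (MulAut.conj g).toMonoidHom))).card_eq_or_dvd.resolve_left
    (mt card_eq_one.1 h))
  rw [← orderOf_coe] at h2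
  have h3 := key _ h1 h2
  rw [key w hw ((MulEquiv.orderOf_eq (MulAut.conj g) w).symm.trans h2)] at h3
  exact mem_centralizer_singleton_iff.2 (mul_inv_eq_iff_eq_mul.1 h3)

end Cfsg.Agent.S1755
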