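import Cfsg.Statements.S1756
import Cfsg.Agent.H2.Extra2

set_option autoImplicit false
open Cfsg

namespace Cfsg.Agent.S1756
open Subgroup CfsgH2
open scoped commutatorElement

/-- Let Q be an extraspecial 2-subgroup of the finite group G (special with centre of order 2) and t an involution of G normalizing Q such that the centralizer of t in Q has index at most 2 in Q. Then t lies in the product of Q with the centralizer of Q. -/
theorem result {G : Type*} [Group G] [Finite G] (Q : Subgroup G)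
    (hQ : Cfsg.IsExtraspecial 2 ↥Q) (t : G) (ht : orderOf t = 2) (htN : t ∈ Subgroup.normalizer (Q : Set G))
    (hi : (Subgroup.centralizer ({t} : Set G) ⊓ Q).relIndex Q ≤ 2) :
    t ∈ Q ⊔ Subgroup.centralizer (Q : Set G) := by
  obtain ⟨z, hz, hn⟩ := ES.of_isExtraspecial hQ
  have ht2 : t * t = 1 := by rw [← pow_two, ← ht]; exact pow_orderOf_eq_one t
  obtain ⟨P, hP⟩ : ∃ P : Subgroup G, P = centralizer {t} ⊓ Q := ⟨_, rfl⟩
  rw [← hP] at hi
  have hPQ : P ≤ Q := hP ▸ inf_le_right
  have hPt : ∀ x ∈ P, Commute x t := fun x hx => mem_centralizer_singleton_iff'.1 (hP ▸ hx).1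
  have htz : Commute z t := by
    have h1 : t * z * t⁻¹ ∈ zpowers z := by
      rw [← hz.inf_cent]
      exact conj_mem_of_mem_normalizer (le_normalizer_inf' le_rfl (normalizer_le_normalizer_centralizer Q) htN)
        (hz.inf_cent ▸ mem_zpowers z)
    rcases (mem_zpowers_two hz.ord).1 h1 with h2 | h2
    · exact absurd (by simpa using h2) hz.z_ne_one
    · exact (mul_inv_eq_iff_eq_mul.1 h2).symm
  have hzP : z ∈ P := hP ▸ ⟨mem_centralizer_singleton_iff'.2 htz, hz.mem⟩
  refine hz.inner' hn fun y hy => ?_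
  by_cases hyP : y ∈ P
  · rw [comm_eq_one_of_commute (hPt y hyP).symm]; exact one_mem _
  have hi2 : P.relIndex Q = 2 := by
    have h1 := relIndex_ne_zero P Q
    have h2 : P.relIndex Q ≠ 1 := fun h => hyP (relIndex_eq_one.1 h hy)
    omega
  have hs := sup_zpowers_eq_of_relIndex_prime hi2 hPQ hy hyP
  have hty := conj_mem_of_mem_normalizer htN hy
  obtain ⟨v, hv⟩ : ∃ v, v = t * y * t⁻¹ * y⁻¹ := ⟨_, rfl⟩
  rw [← hv]
  have hvQ : v ∈ Q := hv ▸ mul_mem hty (inv_mem hy)
  have e1 : t * y * t⁻¹ = v * y := by rw [hv]; group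
  have h1 : ∀ x ∈ P, Commute v x := by
    intro x hx
    have h2 := hz.conj_mem hzP hPQ (inv_mem hy) hx
    have h3 := (hPt _ h2).eq
    have h4 := (hPt _ hx).eq
    show v * x = x * v
    calc v * x = t * y * t⁻¹ * (y⁻¹ * x * y⁻¹⁻¹ * t) * t⁻¹ * y⁻¹ := by rw [hv]; group
      _ = (t * x) * y * t⁻¹ * y⁻¹ := by rw [h3]; group
      _ = x * v := by rw [← h4, hv]; group
  have h2 : Commute v y := by
    have h3 : Commute (y ^ 2) t := commute_of_mem_zpowers htz (hz.pow y hy)
    have h4 : (v * y) ^ 2 = y ^ 2 := by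
      rw [← e1, conj_pow, ← h3.eq]; group
    have h5 : t * v * t⁻¹ = v⁻¹ := by
      have : t⁻¹ = t := inv_eq_of_mul_eq_one_right ht2
      rw [hv, this]
      calc t * (t * y * t * y⁻¹) * t = (t * t) * y * t * y⁻¹ * t := by group
        _ = _ := by rw [ht2]; simp [mul_assoc, this]
    have hvP : v ∈ P := by
      by_contra h6
      have h7 : v * y ∈ P := (mul_mem_iff_of_index_two (H := P.subgroupOf Q) hi2 (a := ⟨v, hvQ⟩)
        (b := ⟨y, hy⟩)).2 (by simp [mem_subgroupOf, h6, hyP])
      apply hyP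
      have h8 := (hPt _ h7).eq
      rw [← e1] at h8
      have h9 : t * y * t⁻¹ = y := by
        calc t * y * t⁻¹ = t⁻¹ * (t * (t * y * t⁻¹)) := by group
          _ = y := by rw [← h8]; group
      rw [hP]
      exact ⟨mem_centralizer_singleton_iff'.2 (mul_inv_eq_iff_eq_mul.1 h9).symm, hy⟩
    have h6 : v ^ 2 = 1 := by
      rw [← (hPt v hvP).eq, mul_inv_cancel_right] at h5
      rw [pow_two]; nth_rewrite 1 [h5]; simp
    rcases hz.comm_cases hvQ hy with h7 | h7
    · exact h7
    · rw [hz.mul_sq hvQ hy h7, h6, one_mul] at h4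
      exact absurd (by simpa using h4) hz.z_ne_one
  refine hz.nondeg v hvQ fun x hx => ?_
  rw [← hs] at hx
  obtain ⟨m, hm, k, rfl⟩ := (mem_sup_zpowers (hz.le_normalizer hzP hPQ hy)).1 hx
  exact (h1 m hm).mul_right (h2.zpow_right k)


end Cfsg.Agent.S1756
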