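import Cfsg.Statements.S1757
import Cfsg.Agent.H1.Coprime
import Cfsg.Agent.H2.SylowIn

set_option autoImplicit false
open Cfsg

namespace Cfsg.Agent.S1757

open Subgroup CfsgH1

/-- Let p be a prime and A, B p-subgroups of the finite group G, each of which meets every conjugate of itself other than itself trivially. Suppose the order of A is at most that of B, A and B intersect trivially, and B normalizes A. Then A and B commute elementwise. -/
theorem result {G : Type*} [Group G] [Finite G] (p : ℕ) [Fact p.Prime] (A B : Subgroup G)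
    (hA : IsPGroup p ↥A) (hB : IsPGroup p ↥B)
    (hAti : ∀ g : G, A.map (MulAut.conj g).toMonoidHom = A ∨ A.map (MulAut.conj g).toMonoidHom ⊓ A = ⊥)
    (hBti : ∀ g : G, B.map (MulAut.conj g).toMonoidHom = B ∨ B.map (MulAut.conj g).toMonoidHom ⊓ B = ⊥)
    (hle : Nat.card ↥A ≤ Nat.card ↥B) (hAB : A ⊓ B = ⊥) (hN : B ≤ Subgroup.normalizer (A : Set G)) : ⁅A, B⁆ = ⊥ := by
  by_cases h : A ≤ normalizer (B : Set G)
  · exact eq_bot_iff.2 (hAB ▸ le_inf (commutator_le_left_of_le_normalizer hN) (commutator_le_right_of_le_normalizer h))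
  have h1 : (A ⊔ B) ⊓ normalizer (B : Set G) < A ⊔ B := lt_of_le_of_ne inf_le_left fun e => h (le_sup_left.trans (inf_eq_left.1 e))
  obtain ⟨x, hx, hx'⟩ := SetLike.exists_of_lt (CfsgH2.lt_inf_normalizer (hA.to_sup_of_normal_left' hB hN) h1)
  have h2 : B ≤ (A ⊔ B) ⊓ normalizer (B : Set G) := le_inf le_sup_right le_normalizer
  have h3 := conj_smul_le_of_mem_normalizer h2 hx.2
  have h4 := card_sup_of_disjoint (h3.trans inf_le_right) (disjoint_iff.2 ((inf_comm _ _).trans ((hBti x).resolve_left
    fun e => hx' ⟨hx.1, conj_smul_eq_iff_mem_normalizer.1 e⟩)))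
  have h5 := (card_le_of_le (sup_le h2 h3)).trans_lt (card_lt_of_lt h1)
  rw [h4, card_conj_smul, card_sup_of_disjoint hN (disjoint_iff.2 hAB)] at h5
  exact absurd (Nat.mul_le_mul_right _ hle) h5.not_ge

end Cfsg.Agent.S1757
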