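import Cfsg.Statements.S1774
import Cfsg.Agent.H2.Sympl

set_option autoImplicit false
open Cfsg

namespace Cfsg.Agent.S1774
open Subgroup CfsgH2
open scoped commutatorElement

open CfsgFT

/-- Let G be a finite group and let z be an involution of G such that Q, the generalized Fitting subgroup of the centralizer C of z, is a 2-group of symplectic type (every characteristic abelian subgroup of Q is cyclic); suppose every element of Q has order dividing 4. Let g ∈ G with z' = g z g⁻¹ ≠ z and z' ∈ Q. Then z lies in the conjugate g Q g⁻¹, and the subgroup X generated by Q and g Q g⁻¹ induces every automorphism of the four-group generated by z and z': for any two distinct non-identity elements u, v of that four-group there is x ∈ X with x z x⁻¹ = u and x z' x⁻¹ = v. -/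
theorem result {G : Type*} [Group G] [Finite G] (z : G) (hz : orderOf z = 2) (hQ : Cfsg.IsOfSymplecticType ↥(Cfsg.generalizedFittingSubgroup ↥(Subgroup.centralizer ({z} : Set G))))
    (h4 : ∀ q ∈ (Cfsg.generalizedFittingSubgroup ↥(Subgroup.centralizer ({z} : Set G))).map (Subgroup.centralizer ({z} : Set G)).subtype, q ^ 4 = 1) (g : G) (hne : g * z * g⁻¹ ≠ z) (hin : g * z * g⁻¹ ∈ (Cfsg.generalizedFittingSubgroup ↥(Subgroup.centralizer ({z} : Set G))).map (Subgroup.centralizer ({z} : Set G)).subtype) :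
    z ∈ ((Cfsg.generalizedFittingSubgroup ↥(Subgroup.centralizer ({z} : Set G))).map (Subgroup.centralizer ({z} : Set G)).subtype).map (MulAut.conj g).toMonoidHom ∧
      ∀ u ∈ Subgroup.closure ({z, g * z * g⁻¹} : Set G), ∀ v ∈ Subgroup.closure ({z, g * z * g⁻¹} : Set G),
        u ≠ 1 → v ≠ 1 → u ≠ v →
          ∃ x ∈ (Cfsg.generalizedFittingSubgroup ↥(Subgroup.centralizer ({z} : Set G))).map (Subgroup.centralizer ({z} : Set G)).subtype ⊔ ((Cfsg.generalizedFittingSubgroup ↥(Subgroup.centralizer ({z} : Set G))).map (Subgroup.centralizer ({z} : Set G)).subtype).map (MulAut.conj g).toMonoidHom, x * z * x⁻¹ = u ∧ x * (g * z * g⁻¹) * x⁻¹ = v := by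
  have hzC : z ∈ centralizer ({z} : Set G) := mem_centralizer_singleton_iff'.2 (Commute.refl z)
  have hzc : (⟨z, hzC⟩ : centralizer ({z} : Set G)) ∈ center (centralizer ({z} : Set G)) :=
    mem_center_iff.2 fun x => Subtype.ext (mem_centralizer_singleton_iff.1 x.2)
  have hzF := CfsgLead.fitting_le_genFitting (CfsgH1.center_le_fitting hzc)
  have h1 := pes_of_sympl hQ.1 hQ.2 (z := ⟨_, hzF⟩) (by
      rw [← hz, ← Subgroup.orderOf_coe, ← Subgroup.orderOf_coe])
    (mem_center_iff.2 fun x => Subtype.ext (mem_center_iff.1 hzc x))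
    fun x => Subtype.ext (Subtype.ext (h4 _ ⟨x, x.2, rfl⟩))
  have h2 := h1.map ((centralizer ({z} : Set G)).subtype.comp
    (generalizedFittingSubgroup (centralizer ({z} : Set G))).subtype) (ne_one_of_orderOf_two hz)
  rw [← map_map, ← MonoidHom.range_eq_map, range_subtype] at h2
  have h3 := hQ.2 _ inferInstance (inferInstance : IsMulCommutative (center _))
  change z ∈ cj g (CfsgLead.fstarOf _) ∧ ∀ u ∈ _, ∀ v ∈ _, _ → _ → _ →
    ∃ x ∈ CfsgLead.fstarOf _ ⊔ cj g (CfsgLead.fstarOf _), _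
  change g * z * g⁻¹ ∈ CfsgLead.fstarOf _ at hin
  change PES 2 (CfsgLead.fstarOf _) z at h2
  have hN : centralizer {z} ≤ normalizer (CfsgLead.fstarOf (centralizer ({z} : Set G)) : Set G) :=
    le_normalizer.trans (CfsgLead.normalizer_le_normalizer_fstarOf _)
  have hC : centralizer (CfsgLead.fstarOf (centralizer ({z} : Set G)) : Set G) ≤ CfsgLead.fstarOf _ :=
    fun x hx => CfsgLead.inf_centralizer_fstarOf_le _ ⟨mem_centralizer_singleton_iff.2 (hx z h2.mem).symm, hx⟩
  have hu : UniqInv (centralizer (CfsgLead.fstarOf (centralizer ({z} : Set G)) : Set G)) := by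
    intro x hx y hy x2 y2
    obtain ⟨x, hx', rfl⟩ := hC hx
    obtain ⟨y, hy', rfl⟩ := hC hy
    have := uniqInv_of_isCyclic h3 ⟨x, hx'⟩ (mem_center_iff.2 fun w => Subtype.ext (Subtype.ext
      (hx _ ⟨w, w.2, rfl⟩))) ⟨y, hy'⟩ (mem_center_iff.2 fun w => Subtype.ext (Subtype.ext
      (hy _ ⟨w, w.2, rfl⟩))) (by rw [← x2, ← Subgroup.orderOf_coe, ← Subgroup.orderOf_coe]; rfl)
      (by rw [← y2, ← Subgroup.orderOf_coe, ← Subgroup.orderOf_coe]; rfl)
    exact congrArg (fun w => ((w : centralizer ({z} : Set G)) : G)) (congrArg Subtype.val this)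
  have ho := eq_o2c_of_fstar h2.isPGroup
  generalize CfsgLead.fstarOf (centralizer ({z} : Set G)) = Q at hin h2 hN hC hu ho
  have key : ∀ {Q : Subgroup G} {z a : G}, PES 2 Q z → UniqInv (centralizer (Q : Set G)) → a ∈ Q →
      orderOf a = 2 → a ≠ z → ∃ q ∈ Q, q * a * q⁻¹ = a * z := fun {Q z a} h hu ha a2 hne => by
    by_contra hn
    push Not at hn
    refine hne (hu a (mem_centralizer_iff'.2 fun x hx => ?_) z (h.zle_cent (mem_zpowers z)) a2 h.ord)
    by_contra hc
    exact hn x hx (h.conj_eq hx ha fun e => hc e.symm)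
  have hP : PES 2 (cj g Q) (g * z * g⁻¹) := h2.map (MulAut.conj g).toMonoidHom (by simpa using h2.z_ne_one)
  obtain ⟨q, hq, eq⟩ := key h2 hu hin hP.ord hne
  have hzP : z ∈ cj g Q := by
    by_cases e : ∃ i ∈ centralizer (Q : Set G), i ^ 2 = z
    · obtain ⟨i, hi, i2⟩ := e
      exact h2.sym_four hC hN hu hi i2 hin hq eq
    push Not at e
    have h5 : LX Q z := ⟨⟨h2, fun x hx a => (mem_zpowers_two hz).2 ((em _).imp_right fun x1 =>
      hu x (mem_centralizer_iff'.2 a) z (h2.zle_cent (mem_zpowers z)) (orderOf_eq_prime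
        ((h2.sq_cases hx).resolve_right (e x (mem_centralizer_iff'.2 a))) x1) hz)⟩,
      fun e => ((mem_zpowers_two hz).1 (e ▸ hin)).elim hP.z_ne_one hne, hC, hN⟩
    subst ho
    rw [cj_o2c]
    exact h5.sym_o2c hin
  obtain ⟨y, hy, ey⟩ := key hP (by rw [← cj_centralizer]; exact hu.cj g) hzP hz hne.symm
  exact ⟨hzP, fun u hu v hv => s3_on_klein h2.zz hP.zz (h2.cent _ hin) (mem_sup_left hq) (mem_sup_right hy)
    (mul_inv_eq_iff_eq_mul.2 (h2.cent q hq).symm.eq) eq (mul_inv_eq_iff_eq_mul.2 (hP.cent y hy).symm.eq) ey hu hv⟩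


end Cfsg.Agent.S1774
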