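import Cfsg.Statements.S1775
import Cfsg.Agent.H9.Sep

set_option autoImplicit false
open Cfsg

namespace Cfsg.Agent.S1775

open Subgroup CfsgH1 CfsgH2 CfsgFT CfsgH9 CfsgLead in
theorem aux {X : Type*} [Group X] [Finite X] (hB : HasBProperty (X ⧸ oddCore X)) {x : X} (hx : orderOf x = 2) {J : Subgroup X}
    (hJ : CfsgH1.PC 2 J C1(x)) : SN (J.map (QuotientGroup.mk' (oddCore X))) C1(QuotientGroup.mk' (oddCore X) x) ∧
      IsQuasisimple (J.map (QuotientGroup.mk' (oddCore X))) := by
  haveI : Fact (Nat.Prime 2) := ⟨Nat.prime_two⟩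
  have px : IsPGroup 2 (zpowers x) := IsPGroup.of_card (n := 1) (by rw [Nat.card_zpowers, hx]; rfl)
  have e := CfsgH1.map_inf_cent (f := QuotientGroup.mk' (oddCore X)) (isPi_ker_core (p := 2) ⊤) px (le_top.trans (normalizer_eq_top _).ge)
  rw [top_inf_eq, map_top_mk', top_inf_eq, MonoidHom.map_zpowers, cent_zpowers, cent_zpowers] at e
  have h := hJ.map_of_ker (f := QuotientGroup.mk' (oddCore X)) (isPi_ker_core (p := 2) _)
  rw [e] at h
  have o : orderOf (QuotientGroup.mk' (oddCore X) x) = 2 := orderOf_two_of (by rw [← map_mul, ← sq, (orderOf_dvd_iff_pow_eq_one (n := 2)).1 hx.dvd, map_one])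
    fun e => (isPi_compl_singleton_iff.1 ((isPi_Opi {2}ᶜ ⊤).mono (Opi_compl_top' (p := 2) (G := X)).ge))
      (hx.symm.dvd.trans ((oddCore X).orderOf_dvd_natCard ((QuotientGroup.eq_one_iff x).1 e)))
  have b := hB _ o
  have b2 : oddCore (X ⧸ oddCore X) = ⊥ := (Opi_compl_top' (p := 2)).symm.trans Opi_top_quot_core
  rw [b2, Subgroup.map_commutator, ← Opi_compl_singleton_eq] at b
  refine ⟨h.1, h.2.qs (eq_bot_iff.2 (le_trans ?_ b))⟩
  rw [commutator_comm]
  exact commutator_mono h.le_pLayerOf (Opi_le_Opi_of_sn h.1)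


/-- Let G be a finite group whose generalized Fitting subgroup is a non-abelian simple group and in which every proper section (every quotient H/N of a proper subgroup H, or of G by a nontrivial normal subgroup) has the B-property. Let x, y be commuting involutions, let D be the intersection of the 2-layer of C_G(x) with C_G(y), and let J be a 2-component of D. Write Q for the quotient of C_G(y) by its largest normal odd-order subgroup. Then (i) the image of J in Q is a component of the centralizer in Q of the image of x; and (ii) for every J-invariant subgroup E of odd order of C_G(x) ∩ C_G(y), the commutator subgroup [J, E] lies in the largest normal odd-order subgroup of C_G(y). -/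
theorem result {G : Type*} [Group G] [Finite G]
    (hF : IsSimpleGroup ↥(Cfsg.generalizedFittingSubgroup G)) (hF' : ¬ IsMulCommutative ↥(Cfsg.generalizedFittingSubgroup G))
    (hsec : ∀ (H : Subgroup G) (N : Subgroup ↥H) [N.Normal], (H ≠ ⊤ ∨ N ≠ ⊥) → Cfsg.HasBProperty (↥H ⧸ N))
    (x y : G) (hx : orderOf x = 2) (hy : orderOf y = 2) (hxy : x * y = y * x)
    (J : Subgroup ↥((Cfsg.pLayer 2 ↥(Subgroup.centralizer ({x} : Set G))).map (Subgroup.centralizer ({x} : Set G)).subtype ⊓ Subgroup.centralizer ({y} : Set G)))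
    (hJ : Cfsg.IsPComponent 2 J) :
    Cfsg.IsComponent
        ((((J.map (Subgroup.subtype _)).subgroupOf (Subgroup.centralizer ({y} : Set G))).map (QuotientGroup.mk' (Cfsg.oddCore ↥(Subgroup.centralizer ({y} : Set G))))).subgroupOf
          (Subgroup.centralizer ({(QuotientGroup.mk' (Cfsg.oddCore ↥(Subgroup.centralizer ({y} : Set G))) ⟨x, Subgroup.mem_centralizer_singleton_iff.mpr hxy⟩ : ↥(Subgroup.centralizer ({y} : Set G)) ⧸ Cfsg.oddCore ↥(Subgroup.centralizer ({y} : Set G)))} : Set _))) ∧
      ∀ E : Subgroup G, E ≤ Subgroup.centralizer ({x} : Set G) ⊓ Subgroup.centralizer ({y} : Set G) → Odd (Nat.card ↥E) →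
        (∀ j ∈ J.map (Subgroup.subtype _), ∀ e ∈ E, j * e * j⁻¹ ∈ E) →
          ⁅J.map (Subgroup.subtype _), E⁆ ≤ (Cfsg.oddCore ↥(Subgroup.centralizer ({y} : Set G))).map (Subgroup.centralizer ({y} : Set G)).subtype := by
  open Subgroup CfsgH1 CfsgH2 CfsgFT CfsgH9 CfsgLead in
    haveI : Fact (Nat.Prime 2) := ⟨Nat.prime_two⟩
    have ne : C1(y) ≠ ⊤ := fun e => by
      have c : ∀ g : G, g * y = y * g := fun g => mem_centralizer_singleton_iff.1 (e ▸ mem_top g)
      have m : y ∈ generalizedFittingSubgroup G := centralizer_genFitting_le G fun g _ => c g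
      rcases hF.eq_bot_or_eq_top_of_normal (center ↥(generalizedFittingSubgroup G)) inferInstance with h | h
      · have : (⟨y, m⟩ : generalizedFittingSubgroup G) ∈ center _ := mem_center_iff.2 fun g => Subtype.ext (c g)
        rw [h, mem_bot] at this
        have : y = 1 := congrArg Subtype.val this
        rw [this, orderOf_one] at hy; omega
      · exact hF' ⟨⟨fun a b => (mem_center_iff.1 (h ▸ mem_top b) a)⟩⟩
    have hB := hsec C1(y) (oddCore _) (.inl ne)
    have s : SN (pLayerOf 2 C1(x) ⊓ C1(y)) (C1(x) ⊓ C1(y)) := (pLayerOf_sn _).inf _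
    have h1 := (isPComponent_map_iff.1 hJ).trans s
    have h2 := (PC.subgroupOf_iff h1.le inf_le_right).2 h1
    have e : (C1(x) ⊓ C1(y)).subgroupOf C1(y) = C1((⟨x, Subgroup.mem_centralizer_singleton_iff.mpr hxy⟩ : C1(y))) := by
      ext g
      simp only [mem_subgroupOf, mem_inf, mem_centralizer_singleton_iff, Subtype.ext_iff, coe_mul]
      exact ⟨fun h => h.1, fun h => ⟨h, mem_centralizer_singleton_iff.1 g.2⟩⟩
    rw [e] at h2
    obtain ⟨a1, a2⟩ := aux hB (by rw [← hx]; exact (orderOf_mk _ _)) h2
    refine ⟨(isComponent_subgroupOf_iff a1.le).2 ⟨a1, a2⟩, fun E hE o n => ?_⟩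
    have l : J.map (Subgroup.subtype _) ≤ C1(y) := h1.le.trans inf_le_right
    have n' : J.map (Subgroup.subtype _) ≤ N(E) := fun j hj => CfsgH2.mem_normalizer_of_conj_mem (n j hj)
    have lE : E ≤ C1(y) := hE.trans inf_le_right
    have n2 := map_le_norm (QuotientGroup.mk' (oddCore C1(y))) (subgroupOf_le_norm C1(y) n')
    have l2 : (E.subgroupOf C1(y)).map (QuotientGroup.mk' (oddCore C1(y))) ≤ _ := (map_mono (e ▸ subgroupOf_mono _ hE)).trans
      ((map_centralizer_le_centralizer_image _ _).trans (by rw [Set.image_singleton]))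
    have sv : Group.IsSolvable ((E.subgroupOf C1(y)).map (QuotientGroup.mk' (oddCore C1(y)))) := by
      haveI := solv_of_odd o
      haveI : Group.IsSolvable (E.subgroupOf C1(y)) := solvable_of_surjective (f := (subgroupOfEquivOfLe lE).symm.toMonoidHom) (subgroupOfEquivOfLe lE).symm.surjective
      exact solvable_of_surjective (MonoidHom.subgroupMap_surjective _ _)
    have := (qs_le_or_commute a2 _ _ (a1.mono le_sup_right (sup_le l2 a1.le)) (SN.of_normal le_sup_left (sup_le le_normalizer n2))).resolve_left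
      (qs_not_le_solvable a2 sv)
    rw [← Subgroup.map_commutator, Subgroup.map_eq_bot_iff, QuotientGroup.ker_mk'] at this
    refine le_trans (le_of_eq ?_) (map_mono this)
    rw [Subgroup.map_commutator, map_subgroupOf_eq_of_le l, map_subgroupOf_eq_of_le lE]

end Cfsg.Agent.S1775
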