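import Cfsg.Statements.S1780

set_option autoImplicit false
open Cfsg

namespace Cfsg.Agent.S1780

/-- Let A be a finite abelian 2-group and t an automorphism of A whose order is a power of 2. If every element of A fixed by t² is fixed by t, then t fixes every element of A. -/
theorem result {A : Type*} [CommGroup A] [Finite A]
    (hA : IsPGroup 2 A) (t : MulAut A) (ht : ∃ k : ℕ, orderOf t = 2 ^ k) (hC : ∀ a : A, t (t a) = a → t a = a) :
    ∀ a : A, t a = a := by
  obtain ⟨k, hk⟩ := ht
  have h1 : ∀ (j : ℕ) c, c * c = 1 → (fun c => t c * c)^[2 ^ j] c = (t ^ 2 ^ j) c * c := fun j => by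
    induction j with
    | zero => simp
    | succ j ih =>
      intro c hc
      rw [pow_succ, mul_two, Function.iterate_add_apply, ih c hc, ih _ (by rw [mul_mul_mul_comm, ← map_mul, hc]; simp), map_mul,
        pow_add, MulAut.mul_apply, mul_assoc, ← mul_assoc _ _ c, ← map_mul, hc]; simp
  have h2 : ∀ (n : ℕ) a c, t a = a * c → c * c = 1 → (fun c => t c * c)^[n] c = 1 → c = 1 := fun n => by
    induction n with
    | zero => exact fun _ _ _ _ h => h
    | succ n ih =>
      intro a c h hc h3
      have := ih c (t c * c) (by rw [mul_left_comm, hc, mul_one]) (by rw [mul_mul_mul_comm, ← map_mul, hc]; simp) h3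
      have := hC a (by rw [h, map_mul, h, mul_assoc, mul_comm c, this, mul_one])
      rwa [h, mul_eq_left] at this
  have h3 : ∀ (j : ℕ) a, a ^ 2 ^ j = 1 → t a = a := fun j => by
    induction j with
    | zero => intro a h; rw [pow_zero, pow_one] at h; simp [h]
    | succ j ih =>
      intro a h
      have hc : a⁻¹ * t a * (a⁻¹ * t a) = 1 := by
        rw [mul_mul_mul_comm, ← map_mul, ih (a * a) (by rw [← sq, ← pow_mul, ← pow_succ', h])]; group
      exact (inv_mul_eq_one.1 (h2 (2 ^ k) a _ (by simp) hc (by rw [h1 k _ hc, ← hk, pow_orderOf_eq_one]; exact hc))).symm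
  exact fun a => let ⟨j, hj⟩ := hA a; h3 j a hj

end Cfsg.Agent.S1780
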