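import Cfsg.Statements.S1781
import Cfsg.Agent.S1757
import Cfsg.Agent.S1780
import Cfsg.Agent.H2.PGroup

set_option autoImplicit false
open Cfsg

namespace Cfsg.Agent.S1781

open Subgroup CfsgH2

/-- Let A be an abelian 2-subgroup of the finite group G such that every conjugate of A equals A or meets A trivially, and let g ∈ G with g A g⁻¹ ≠ A. Then either the subgroup of those elements of A that normalize g A g⁻¹ is an elementary abelian 2-group, or A and g A g⁻¹ commute elementwise. -/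
theorem result {G : Type*} [Group G] [Finite G] (A : Subgroup G)
    (hA2 : IsPGroup 2 ↥A) (hAa : IsMulCommutative ↥A)
    (hti : ∀ h : G, A.map (MulAut.conj h).toMonoidHom = A ∨ A.map (MulAut.conj h).toMonoidHom ⊓ A = ⊥)
    (g : G) (hg : A.map (MulAut.conj g).toMonoidHom ≠ A) :
    Cfsg.IsElementaryAbelian 2 (A ⊓ Subgroup.normalizer ((A.map (MulAut.conj g).toMonoidHom : Subgroup G) : Set G)) ∨
      ⁅A, A.map (MulAut.conj g).toMonoidHom⁆ = ⊥ := by
  simp only [cj_def] at hg hti ⊢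
  refine or_iff_not_imp_left.2 fun h => ?_
  obtain ⟨t, ht, hn, t2⟩ : ∃ t ∈ A, t ∈ normalizer (cj g A : Set G) ∧ t ^ 2 ≠ 1 := by
    by_contra! e; exact h ⟨isMulCommutative_of_le hAa inf_le_left, fun a ha => e a ha.1 ha.2⟩
  have nm : ∀ x ∈ A, x ≠ 1 → ∀ g, g * x = x * g → g ∈ normalizer (A : Set G) := fun x hx h g e =>
    cj_eq_iff_mem_normalizer.1 ((hti g).resolve_right fun e' => h (e'.le ⟨by simpa [e] using conj_mem_cj g hx, hx⟩))
  have hd := (hti g).resolve_left hg
  have : IsMulCommutative (cj g A) := by rw [← cj_def]; infer_instance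
  letI : CommGroup (cj g A) := { (inferInstance : Group (cj g A)) with mul_comm := mul_comm' }
  have : Fact (Nat.Prime 2) := ⟨Nat.prime_two⟩
  obtain ⟨k, hk⟩ := hA2 ⟨t, ht⟩
  have key := S1780.result (IsPGroup_cj hA2 g) ((cj g A).normalizerMonoidHom ⟨t, hn⟩) (by
    obtain ⟨j, -, e⟩ := (Nat.dvd_prime_pow Nat.prime_two).1 (orderOf_dvd_of_pow_eq_one (x := (cj g A).normalizerMonoidHom ⟨t, hn⟩) (n := 2 ^ k) (by
      rw [← map_pow, show (⟨t, hn⟩ : normalizer _) ^ 2 ^ k = 1 from Subtype.ext (by simpa using congrArg Subtype.val hk), map_one]))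
    exact ⟨j, e⟩) fun b hb => Subtype.ext (by
      have e : t * (t * b * t⁻¹) * t⁻¹ = b := congrArg Subtype.val hb
      have := nm _ (pow_mem ht 2) t2 b (by rw [sq]; nth_rewrite 1 [← e]; simp [mul_assoc])
      exact mul_inv_eq_one.1 (hd.le ⟨mul_mem (conj_mem_of_mem_normalizer hn b.2) (Subgroup.inv_mem _ b.2), by
        simpa [mul_assoc] using mul_mem ht (conj_mem_of_mem_normalizer this (inv_mem ht))⟩))
  refine S1757.result 2 A _ hA2 (IsPGroup_cj hA2 g) hti (fun x => ?_) (card_cj g A).ge (inf_comm A _ ▸ hd) fun b hb =>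
    nm t ht (fun e => t2 (by simp [e])) b (mul_inv_eq_iff_eq_mul.1 (congrArg Subtype.val (key ⟨b, hb⟩))).symm
  simpa only [cj_def, cj_cj, cj_inf, cj_bot, mul_assoc, mul_inv_cancel_left] using (hti (g⁻¹ * x * g)).imp (congrArg (cj g)) (congrArg (cj g))

end Cfsg.Agent.S1781
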