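import Cfsg.Statements.S1783
import Cfsg.Agent.H3.Ti1
import Cfsg.Agent.H1.Coprime
import Cfsg.Agent.H1.Cores
import Cfsg.Agent.Lead.GenFitting
import Cfsg.Agent.H2.BG4

set_option autoImplicit false
open Cfsg

namespace Cfsg.Agent.S1783

open Subgroup CfsgH2
theorem conj_comm {X : Type*} [Group X] [Finite X] {A P : Subgroup X} (hP : IsPGroup 2 P) (hAa : IsMulCommutative A)
    (hti : ∀ h : X, cj h A = A ∨ cj h A ⊓ A = ⊥) {a : X} (ha : a ∈ A) (a2 : a * a ≠ 1) (g h : X) (h1 : cj g A ≤ P) (h2 : cj h A ≤ P) :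
    cj g A ≤ centralizer (cj h A : Set X) := by
  rcases eq_or_ne (cj g A) (cj h A) with e | e
  · rw [e, ← cj_centralizer]; exact cj_mono h (le_centralizer A)
  refine commutator_eq_bot_iff_le_centralizer.1 (CfsgPm.ti_comm (Set.range (cj · A)) ?_ ?_ ?_ ?_ P hP _ ⟨g, rfl⟩ _ ⟨h, rfl⟩ h1 h2 e)
  · rintro g _ ⟨h, rfl⟩; exact ⟨g * h, (cj_cj g h A).symm⟩
  · rintro _ ⟨h, rfl⟩; exact ⟨_, conj_mem_cj h ha, fun e => a2 (by simpa [mul_assoc] using congrArg (fun x => h⁻¹ * x * h) e)⟩
  · rintro _ ⟨g, rfl⟩ _ ⟨h, rfl⟩; simp [card_cj]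
  · rintro _ ⟨g, rfl⟩ _ ⟨h, rfl⟩
    simpa [cj_cj, cj_inf, cj_bot] using (hti (h⁻¹ * g)).imp (congrArg (cj h)) (congrArg (cj h))

/-- Let X be a finite group whose generalized Fitting subgroup equals its largest normal 2-subgroup Q, and let A be an abelian 2-subgroup of X such that every conjugate of A equals A or meets A trivially. Let B be the subgroup generated by the squares of the elements of A. Then B lies in Q, and if B is not an elementary abelian 2-group then the normal closure of B in X is commutative. -/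
theorem result {X : Type*} [Group X] [Finite X]
    (hX : Cfsg.generalizedFittingSubgroup X = Cfsg.pCore 2 X) (A : Subgroup X) (hA2 : IsPGroup 2 ↥A) (hAa : IsMulCommutative ↥A)
    (hti : ∀ h : X, A.map (MulAut.conj h).toMonoidHom = A ∨ A.map (MulAut.conj h).toMonoidHom ⊓ A = ⊥) :
    Subgroup.closure ((fun a : X => a ^ 2) '' (A : Set X)) ≤ Cfsg.pCore 2 X ∧
      (¬ Cfsg.IsElementaryAbelian 2 (Subgroup.closure ((fun a : X => a ^ 2) '' (A : Set X))) →
        IsMulCommutative ↥(Subgroup.normalClosure ((fun a : X => a ^ 2) '' (A : Set X)))) := by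
  have hQ := CfsgH1.isPGroup_pCore 2 X
  have h1 : closure ((fun a : X => a ^ 2) '' (A : Set X)) ≤ pCore 2 X := by
    rw [closure_le]
    rintro _ ⟨a, ha, rfl⟩
    rcases eq_or_ne (a * a) 1 with a2 | a2
    · simp [sq, a2]
    let π := QuotientGroup.mk' ((frattini (pCore 2 X)).map (pCore 2 X).subtype)
    have : ((pCore 2 X).map π).Normal := Normal.map inferInstance π (QuotientGroup.mk'_surjective _)
    refine CfsgH1.le_pCore (N := (centralizer ((pCore 2 X).map π : Set _)).comap π) (isPGroup_of_forall_coprime fun Y hY hc => ?_) ?_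
    · obtain ⟨k, hk⟩ := IsPGroup.iff_card.1 (hQ.to_subgroup (frattini _))
      have := CfsgH1.le_centralizer_of_commutator_le_frattini (K := pCore 2 X) le_normalizer_of_normal (hk ▸ hc.pow_right k)
        (commutator_le.2 fun q hq y hy => (QuotientGroup.eq_one_iff _).1 (by
          exact (map_commutatorElement π q y).trans (commutatorElement_eq_one_iff_mul_comm.2 (hY hy _ ⟨q, hq, rfl⟩))))
      exact (CfsgH1.disjoint_of_isPGroup_of_coprime hQ hc).symm.eq_bot_of_le ((le_centralizer_iff.1 this).trans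
        ((CfsgLead.genFitting_eq_pCore_iff 2).1 hX))
    rintro _ ⟨q, hq, rfl⟩
    have hP := hQ.to_sup_of_normal_left hA2
    have e := conj_comm hP hAa hti ha a2 q 1 (cj_le_iff.2 fun x hx => mul_mem (mul_mem (mem_sup_left hq) (mem_sup_right hx))
      (inv_mem (mem_sup_left hq))) (by simp [cj_one]) (conj_mem_cj q ha) a (by simpa [cj_one] using ha)
    have e1 : q * a * q⁻¹ * a⁻¹ ∈ pCore 2 X := by
      simpa [mul_assoc] using mul_mem hq ((inferInstance : (pCore 2 X).Normal).conj_mem _ (inv_mem hq) a)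
    have e2 : q * a ^ 2 = (q * a * q⁻¹ * a⁻¹) ^ 2 * (a ^ 2 * q) := by
      rw [(Commute.symm e).inv_right.mul_pow]; simp [mul_assoc, sq]
    rw [← map_mul, ← map_mul, e2, map_mul π (_ ^ 2), show π _ = 1 from (QuotientGroup.eq_one_iff _).2 (pow_mem_map_frattini hQ e1), one_mul]
  refine ⟨h1, fun h => ?_⟩
  have hB : closure ((fun a : X => a ^ 2) '' (A : Set X)) ≤ A := (closure_le _).2 (by rintro _ ⟨a, ha, rfl⟩; exact pow_mem ha 2)
  have hc := isMulCommutative_of_le hAa hB
  obtain ⟨b, hb, b2⟩ : ∃ b ∈ closure ((fun a : X => a ^ 2) '' (A : Set X)), b * b ≠ 1 := by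
    by_contra! e; exact h ⟨hc, fun b hb => (sq b).trans (e b hb)⟩
  have key := conj_comm hQ hc (fun g => (hti g).imp (fun e => cj_eq_iff_mem_normalizer.2 (mem_normalizer_of_cj_le (by
      rw [cj, MonoidHom.map_closure, closure_le]
      rintro _ ⟨_, ⟨a, ha, rfl⟩, rfl⟩
      exact subset_closure ⟨_, e.le (conj_mem_cj g ha), by simp⟩))) fun e =>
    eq_bot_iff.2 ((inf_le_inf (cj_mono g hB) hB).trans e.le)) hb b2
  refine isMulCommutative_closure fun x hx y hy => ?_
  obtain ⟨u, hu, h⟩ := Group.mem_conjugatesOfSet_iff.1 hx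
  obtain ⟨v, hv, h'⟩ := Group.mem_conjugatesOfSet_iff.1 hy
  obtain ⟨g, rfl⟩ := isConj_iff.1 h
  obtain ⟨k, rfl⟩ := isConj_iff.1 h'
  exact key k g (cj_eq_of_normal k (pCore 2 X) ▸ cj_mono k h1) (cj_eq_of_normal g (pCore 2 X) ▸ cj_mono g h1)
    (conj_mem_cj k (subset_closure hv)) _ (conj_mem_cj g (subset_closure hu))

end Cfsg.Agent.S1783
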