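import Cfsg.Statements.S1784
import Cfsg.Agent.H2.Large

set_option autoImplicit false
open Cfsg

namespace Cfsg.Agent.S1784
open Subgroup CfsgH2
open scoped commutatorElement

/-- Let G be a finite group and let z be an involution of G such that Q, the generalized Fitting subgroup of the centralizer C of z, is a 2-group of symplectic type (every characteristic abelian subgroup of Q is cyclic); suppose Q is extraspecial, and view Q inside G. Let α be an involution of C that is not in Q, and let Q₀ be the subgroup of those q ∈ Q whose commutator with α lies in the subgroup generated by z. Then (a) the subgroup generated by the commutators α q α⁻¹ q⁻¹, q ∈ Q, equals the centre of Q₀; and (b) if Q₀ is not contained in the product of the centralizer of α in Q with the subgroup generated by z, then some element of Q conjugates α to α z. -/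
theorem result {G : Type*} [Group G] [Finite G] (z : G) (hz : orderOf z = 2) (hQ : Cfsg.IsOfSymplecticType ↥(Cfsg.generalizedFittingSubgroup ↥(Subgroup.centralizer ({z} : Set G)))) (hE : Cfsg.IsExtraspecial 2 ↥(Cfsg.generalizedFittingSubgroup ↥(Subgroup.centralizer ({z} : Set G))))
    (α : G) (hα : orderOf α = 2) (hαC : α ∈ Subgroup.centralizer ({z} : Set G)) (hαQ : α ∉ (Cfsg.generalizedFittingSubgroup ↥(Subgroup.centralizer ({z} : Set G))).map (Subgroup.centralizer ({z} : Set G)).subtype)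
    (Q₀ : Subgroup G) (hQ₀ : ∀ q : G, q ∈ Q₀ ↔ (q ∈ (Cfsg.generalizedFittingSubgroup ↥(Subgroup.centralizer ({z} : Set G))).map (Subgroup.centralizer ({z} : Set G)).subtype ∧ α * q * α⁻¹ * q⁻¹ ∈ Subgroup.zpowers z)) :
    Subgroup.closure ((fun q : G => α * q * α⁻¹ * q⁻¹) '' ((Cfsg.generalizedFittingSubgroup ↥(Subgroup.centralizer ({z} : Set G))).map (Subgroup.centralizer ({z} : Set G)).subtype : Set G)) = (Subgroup.center ↥Q₀).map Q₀.subtype ∧
      (¬ Q₀ ≤ ((Cfsg.generalizedFittingSubgroup ↥(Subgroup.centralizer ({z} : Set G))).map (Subgroup.centralizer ({z} : Set G)).subtype ⊓ Subgroup.centralizer ({α} : Set G)) ⊔ Subgroup.zpowers z →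
        ∃ q ∈ (Cfsg.generalizedFittingSubgroup ↥(Subgroup.centralizer ({z} : Set G))).map (Subgroup.centralizer ({z} : Set G)).subtype, q * α * q⁻¹ = α * z) := by
  have h := LX.of_fstar hz (isExtraspecial_of_equiv (equivMapOfInjective _ _ (subtype_injective _)) hE)
  change α ∉ CfsgLead.fstarOf _ at hαQ
  change ∀ q : G, q ∈ Q₀ ↔ (q ∈ CfsgLead.fstarOf (centralizer {z}) ∧ _) at hQ₀
  change Subgroup.closure (_ '' (CfsgLead.fstarOf (centralizer {z}) : Set G)) = _ ∧
    (¬ Q₀ ≤ CfsgLead.fstarOf (centralizer {z}) ⊓ _ ⊔ _ → ∃ q ∈ CfsgLead.fstarOf (centralizer {z}), _)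
  generalize CfsgLead.fstarOf (centralizer {z}) = Q at h hαQ hQ₀ ⊢
  have hαz : Commute α z := mem_centralizer_singleton_iff'.1 hαC
  have hαi := inv_eq_of_orderOf_two hα
  have hαα := mul_self_of_orderOf_two hα
  constructor
  · obtain ⟨M, hM⟩ : ∃ M, M = Subgroup.closure ((fun q : G => α * q * α⁻¹ * q⁻¹) '' (Q : Set G)) := ⟨_, rfl⟩
    rw [← hM]
    have hgen : ∀ q ∈ Q, α * q * α⁻¹ * q⁻¹ ∈ M := fun q hq => hM ▸ subset_closure ⟨q, hq, rfl⟩
    have hle : ∀ K : Subgroup G, (∀ q ∈ Q, α * q * α⁻¹ * q⁻¹ ∈ K) → M ≤ K := fun K hK => by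
      rw [hM, closure_le]; rintro _ ⟨q, hq, rfl⟩; exact hK q hq
    have hMQ : M ≤ Q := hle Q fun q hq => mul_mem (h.conj_mem' hαz hq) (inv_mem hq)
    have hn : Q ≤ normalizer (M : Set G) := fun x hx => mem_normalizer_of_cj_le (by
      rw [cj_le_iff_le_cj_inv]
      refine hle _ fun q hq => mem_cj.2 ?_
      have : x⁻¹⁻¹ * (α * q * α⁻¹ * q⁻¹) * x⁻¹ = (α * x * α⁻¹ * x⁻¹)⁻¹ * (α * (x * q) * α⁻¹ * (x * q)⁻¹) := by
        group
      rw [this]
      exact mul_mem (inv_mem (hgen x hx)) (hgen _ (mul_mem hx hq)))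
    have hzM : z ∈ M := h.mem_of_normal hMQ hn fun e => hαQ (h.cle (mem_centralizer_iff'.2 fun q hq =>
      commute_of_comm_eq_one (mem_bot.1 (e ▸ hgen q hq))))
    have key : ∀ q ∈ Q, ∀ r ∈ Q, q * (α * r * α⁻¹ * r⁻¹) * q⁻¹ * (α * r * α⁻¹ * r⁻¹)⁻¹ =
        (α * q * α⁻¹ * q⁻¹) * r * (α * q * α⁻¹ * q⁻¹)⁻¹ * r⁻¹ := by
      intro q hq r hr
      have hq' := h.conj_mem' hαz hq
      have hr' := h.conj_mem' hαz hr
      rw [h.comm_mul_right hr' (inv_mem hr) hq, h.comm_mul_left hq' (inv_mem hq) hr]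
      have e1 := h.comm_zpow_right hq hr (-1)
      have e2 := h.comm_zpow_left hq hr (-1)
      rw [zpow_neg_one] at e1 e2
      rw [e1, e2]
      congr 1
      have e3 := (commute_of_mem_zpowers hαz.symm (h.comm _ hq' r hr)).eq
      calc q * (α * r * α⁻¹) * q⁻¹ * (α * r * α⁻¹)⁻¹
          = α * (α⁻¹ * q * α * r * (α⁻¹ * q * α)⁻¹ * r⁻¹) * α⁻¹ := by group
        _ = α * (α * q * α⁻¹ * r * (α * q * α⁻¹)⁻¹ * r⁻¹) * α⁻¹ := by rw [hαi]
        _ = _ := by rw [← e3]; group
    have h1 : Q₀ = Q ⊓ centralizer (M : Set G) := by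
      ext q
      rw [hQ₀, mem_inf]
      refine and_congr_right fun hq => ⟨fun h2 => ?_, fun h2 => h.nondeg _ (hMQ (hgen q hq)) fun r hr => ?_⟩
      · have : M ≤ centralizer {q} := hle _ fun r hr => mem_centralizer_singleton_iff'.2
          (commute_of_comm_eq_one (by rw [key q hq r hr]; exact comm_eq_one_of_commute (h.zcomm h2 hr))).symm
        exact mem_centralizer_iff'.2 fun m hm => (mem_centralizer_singleton_iff'.1 (this hm)).symm
      · exact commute_of_comm_eq_one (by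
          rw [← key q hq r hr]; exact comm_eq_one_of_commute (mem_centralizer_iff'.1 h2 _ (hgen r hr)))
    have h2 : M ≤ Q₀ := hle _ fun q hq => (hQ₀ _).2 ⟨hMQ (hgen q hq), by
      have : α * (α * q * α⁻¹ * q⁻¹) * α⁻¹ * (α * q * α⁻¹ * q⁻¹)⁻¹ = ((α * q * α⁻¹ * q⁻¹) ^ 2)⁻¹ := by
        rw [hαi, pow_two]
        simp only [mul_inv_rev, hαi, inv_inv, ← mul_assoc, hαα, one_mul]
      rw [this]
      exact inv_mem (h.pow _ (hMQ (hgen q hq)))⟩
    rw [map_center_eq_inf]
    refine le_antisymm (le_inf h2 (h1 ▸ le_centralizer_iff.1 inf_le_right)) ?_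
    rw [← h.cent_cent hzM hMQ, ← h1]
    exact inf_le_inf_right _ (h1 ▸ inf_le_left)
  · intro h1
    obtain ⟨q, hq, h2⟩ := SetLike.not_le_iff_exists.1 h1
    obtain ⟨h3, h4⟩ := (hQ₀ q).1 hq
    refine ⟨q, h3, ?_⟩
    rcases (mem_zpowers_two hz).1 h4 with e | e
    · exact (h2 (mem_sup_left ⟨h3, mem_centralizer_singleton_iff'.2 (commute_of_comm_eq_one e).symm⟩)).elim
    · rw [← e, hαi, ← mul_assoc, ← mul_assoc, ← mul_assoc, hαα, one_mul]


end Cfsg.Agent.S1784
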