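import Cfsg.Statements.S1892
import Cfsg.Agent.H1.Solv
import Cfsg.Agent.H1.BG6
import Cfsg.Agent.FT.S10b

set_option autoImplicit false
open Cfsg

namespace Cfsg.Agent.S1892

/-- Let S be a finite p-solvable group with no nontrivial normal subgroup of order prime to p, A a p-subgroup of S, and Q a nontrivial A-invariant subgroup of order prime to p with [A, Q] = Q. Then the commutator [O_p(S), A, Q] is nontrivial. -/
theorem result {S : Type*} [Group S] [Finite S] {p : ℕ} [Fact p.Prime]
    (hS : Cfsg.IsPSolvable p S) (hred : Cfsg.pPrimeCore p S = ⊥)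
    (A Q : Subgroup S) (hA : IsPGroup p A) (hQ : ¬ p ∣ Nat.card Q) (hQ1 : Q ≠ ⊥)
    (hinv : ∀ a ∈ A, ∀ x ∈ Q, a * x * a⁻¹ ∈ Q) (hAQ : ⁅A, Q⁆ = Q) :
    ⁅⁅Cfsg.pCore p S, A⁆, Q⁆ ≠ ⊥ := by
  open Subgroup CfsgH1 CfsgH2 CfsgFT in
  intro h
  set U := pCore p S
  have hU : IsPGroup p U := CfsgH1.isPGroup_pCore p S
  have nA : A ≤ normalizer (Q : Set S) := fun a ha => CfsgH2.mem_normalizer_of_conj_mem (hinv a ha)
  have co : (Nat.card Q).Coprime p := ((Nat.Prime.coprime_iff_not_dvd Fact.out).2 hQ).symm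
  have cU := (IsPGroup.coprime_card_of_coprime hU co).symm
  set W := ⁅U, Q⁆
  have WU : W ≤ U := commutator_le_left _ _
  have aW : A ≤ normalizer (W : Set S) := le_normalizer_commutator' le_normalizer_of_normal nA
  have qW : Q ≤ normalizer (W : Set S) := normalizer_commutator_ge_right _ _
  have e : ⁅W, Q⁆ = W := commutator_commutator_eq le_normalizer_of_normal cU
  have h1 : ⁅W, A⁆ ≤ ⁅W, W⁆ := (le_inf (comm_le_left aW) ((commutator_mono WU le_rfl).trans (cent_of_comm_eq_bot h))).trans
    (inf_centralizer_le_commutator qW (coprime_of_le_right cU WU) e)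
  have w := le_normalizer_commutator' (A := W) le_normalizer le_normalizer
  have a := le_normalizer_commutator' aW aW
  have q := le_normalizer_commutator' qW qW
  have h2 : ⁅W, Q⁆ ≤ ⁅W, W⁆ := by
    rw [← quo_le_cent_iff w q, ← hAQ, quo_comm a q]
    exact cent_symm ((commutator_mono (cent_symm ((quo_le_cent_iff w a).2 h1)) le_rfl).trans
      (comm_le_left (le_normalizer_centralizer' (quo_le_norm qW))))
  have W0 : W = ⊥ := by
    by_contra h0
    have := (hU.to_le WU).isNilpotent
    exact (der_lt inferInstance h0).not_ge (e.ge.trans h2)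
  exact hQ1 ((disjoint_of_isPGroup_of_coprime hU co).eq_bot_of_ge
    ((cent_symm (cent_of_comm_eq_bot W0)).trans (IsPSolvable.centralizer_pCore_le hS hred)))

end Cfsg.Agent.S1892
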