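import Cfsg.Statements.S1893
import Cfsg.Agent.H9.NPC
import Cfsg.Agent.H9.PStab2
import Cfsg.Agent.H1.Hall
import Cfsg.Agent.FT.Hall
import Cfsg.Agent.H2.BG4

set_option autoImplicit false
open Cfsg

namespace Cfsg.Agent.S1893

open Subgroup CfsgH1 CfsgH2 CfsgFT CfsgH9 in
theorem star {G : Type*} [Group G] [Finite G] [Group.IsSolvable G] {q : ℕ} [hq : Fact q.Prime] (h2 : q ≠ 2) (h3 : q ≠ 3)
    {X : Subgroup G} (hX : IsPGroup q X) (h : ⁅⁅fittingSubgroup G, X⁆, X⁆ = ⊥) : X ≤ fittingSubgroup G := by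
  have hs : PSt q G := pst_of_not_sec h2 (not_sec_qd_of_not_sec_sl2 fun k =>
    h3 (eq_three_of_isPSolvable_sl2 h2 (k.isPSolvable isPSolvable_of_isSolvable)))
  have h4 : ∀ K ≤ fittingSubgroup G, ⁅⁅K, X⁆, X⁆ = ⊥ := fun K hK =>
    le_bot_iff.1 (h ▸ commutator_mono (commutator_mono hK le_rfl) le_rfl)
  set F' := fittingSubgroup G ⊓ pPrimeCore q G
  have cF : (Nat.card F').Coprime q := (coprime_card_pPrimeCore q G).coprime_dvd_left (card_dvd_of_le inf_le_right)
  have hF : pCore q G ⊔ F' = fittingSubgroup G := by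
    rw [← inf_sup_eq_of_le_normalizer (pCore_le_fitting q) le_normalizer_of_normal,
      inf_eq_left.2 (fitting_le_pCore_sup_pPrimeCore q)]
  set L := opm q C(pCore q G) ⊓ C(F')
  have hXL : X ≤ L := le_inf (map_le_iff_le_comap.1 (IsPStableOn.le (hs _ (CfsgH1.isPGroup_pCore q G)) (h4 _ (pCore_le_fitting q))))
    (le_centralizer_iff.1 (le_centralizer_of_commutator_commutator_eq_bot le_normalizer_of_normal
      (IsPGroup.coprime_card_of_coprime hX cF) (h4 _ inf_le_left)))
  obtain ⟨T, hT, hXT⟩ := IsSylowIn.exists_le hX hXL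
  have h5 : L ≤ N(T) := le_of_forall_sylowIn_le fun r _ _ => by
    by_cases hr : r = q
    · subst hr; exact ⟨T, hT, le_normalizer⟩
    obtain ⟨R, hR⟩ := IsSylowIn.exists_sylowIn r L
    have co := coprime_of_pgroup_ne hR.2 hr
    have k1 : R ≤ C(pCore q G) := by
      rw [← QuotientGroup.ker_mk' C(pCore q G), ← Subgroup.map_eq_bot_iff]
      exact eq_bot_of_le_of_coprime (CfsgH1.isPGroup_pCore q _) (map_le_iff_le_comap.2 (hR.1.trans inf_le_left))
        (co.coprime_dvd_left (card_map_dvd _ _))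
    have k2 : R ≤ fittingSubgroup G := le_trans (by
      rw [← hF, le_centralizer_iff, sup_le_iff]
      exact ⟨le_centralizer_iff.1 k1, le_centralizer_iff.1 (hR.1.trans inf_le_right)⟩) centralizer_fitting_le
    have k3 : R ≤ F' := le_inf k2 ((le_pCore_of_le_fitting hR.2 k2).trans (pCore_le_pPrimeCore_of_ne hr))
    exact ⟨R, hR, (k3.trans (le_centralizer_iff.1 (hT.1.trans inf_le_right))).trans (centralizer_le_normalizer _)⟩
  have : T.Normal := normalizer_eq_top_iff.1 (top_le_iff.1 fun g _ => by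
    obtain ⟨n, hn, hg⟩ := hT.frattini (g := g) (le_normalizer_of_normal (mem_top g))
    simpa using mul_mem (inv_mem (h5 hn)) hg)
  exact hXT.trans ((CfsgH1.le_pCore hT.2).trans (pCore_le_fitting q))

/-- Let S be a finite solvable group, π a set of primes containing neither 2 nor 3, H a Hall π-subgroup of S, and A a self-centralizing normal subgroup of the Fitting subgroup F(H). Then C_S(A) = A × D for a normal subgroup D of C_S(A) whose order has no prime divisor in π. -/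
theorem result {S : Type*} [Group S] [Finite S] [Group.IsSolvable S]
    (π : Set ℕ) (h2 : 2 ∉ π) (h3 : 3 ∉ π) (H : Subgroup S) (hH : Cfsg.IsPiHall π H)
    (A : Subgroup S) (hA : Cfsg.IsSCN ((Cfsg.fittingSubgroup H).map H.subtype) A) :
    ∃ D : Subgroup S, D ≤ Subgroup.centralizer (A : Set S) ∧
      (∀ c ∈ Subgroup.centralizer (A : Set S), ∀ d ∈ D, c * d * c⁻¹ ∈ D) ∧
      A ⊓ D = ⊥ ∧ A ⊔ D = Subgroup.centralizer (A : Set S) ∧
      ∀ q : ℕ, q.Prime → q ∣ Nat.card D → q ∉ π := by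
  open Subgroup CfsgH1 CfsgH2 CfsgFT CfsgH9 in
    obtain ⟨a1, a2, a3⟩ := hA
    set Fh := (fittingSubgroup H).map H.subtype
    have hAH : A ≤ H := a1.trans (map_subtype_le _)
    have hAC : A ≤ C(A) := a3.ge.trans inf_le_right
    have pH := (isPiHall_iff.1 hH).1
    let f := QuotientGroup.mk' (piCore πᶜ S)
    have hf := QuotientGroup.mk'_surjective (piCore πᶜ S)
    have dis : ∀ K : Subgroup S, IsPiNum π (Nat.card K) → ∀ x ∈ K, f x = 1 → x = 1 := fun K hK x hx e =>
      mem_bot.1 (inf_eq_bot_of_coprime' (hK.coprime (isPiNum_card_piCore πᶜ S)) ▸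
        (⟨hx, (QuotientGroup.eq_one_iff x).1 e⟩ : x ∈ K ⊓ piCore πᶜ S))
    have hFH : fittingSubgroup (S ⧸ piCore πᶜ S) ≤ H.map f := by
      rw [fitting_eq_iSup_pCore]
      refine iSup_le fun r => ?_
      haveI := Fact.mk r.2
      by_cases hr : (r : ℕ) ∈ π
      · exact IsPiHall.le_of_normal (IsPiHall.map hH f hf) (IsPiNum.of_isPGroup (CfsgH1.isPGroup_pCore _ _) hr)
      · exact ((le_piCore (IsPiNum.of_isPGroup (π := πᶜ) (CfsgH1.isPGroup_pCore _ _) hr)).trans
          (piCore_quotient_piCore πᶜ S).le).trans bot_le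
    have hK : H ⊓ (fittingSubgroup _).comap f ≤ Fh := le_map_fitting inf_le_left
      (le_inf le_normalizer le_normalizer_of_normal |>.trans inf_normalizer_le_normalizer_inf) (by
        have := isNilpotent_fitting (S ⧸ piCore πᶜ S)
        exact Group.nilpotent_of_mulEquiv (MonoidHom.ofInjective (f := (f.comp (Subgroup.subtype _)).codRestrict
          (fittingSubgroup _) fun x : ↥(H ⊓ (fittingSubgroup _).comap f) => x.2.2) ((injective_iff_map_eq_one _).2
            fun x hx => Subtype.ext (dis H pH x x.2.1 (congrArg Subtype.val hx)))).symm)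
    have n1 : fittingSubgroup _ ≤ N(A.map f) := fun y hy => by
      obtain ⟨x, hx, rfl⟩ := hFH hy
      exact le_normalizer_map f ⟨x, a2 (hK ⟨hx, hy⟩), rfl⟩
    have n2 : fittingSubgroup _ ⊓ C(A.map f) ≤ A.map f := fun y hy => by
      obtain ⟨x, hx, rfl⟩ := hFH hy.1
      refine ⟨x, a3.le ⟨hK ⟨hx, hy.1⟩, fun a ha => commutatorElement_eq_one_iff_mul_comm.1 (dis H pH _ ?_ ?_)⟩, rfl⟩
      · exact mul_mem (mul_mem (mul_mem (hAH ha) hx) (inv_mem (hAH ha))) (inv_mem hx)
      · rw [map_commutatorElement, commutatorElement_eq_one_iff_mul_comm]; exact hy.2 _ ⟨a, ha, rfl⟩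
    have key : ∀ (q : ℕ) [Fact q.Prime], q ∈ π → ∀ X ≤ C(A), IsPGroup q X → X ≤ A := by
      intro q _ hq X hX hp
      have c1 : X.map f ≤ C(A.map f) := by
        rintro _ ⟨x, hx, rfl⟩ _ ⟨a, ha, rfl⟩
        rw [← map_mul, ← map_mul, hX hx a ha]
      have c2 : ⁅fittingSubgroup _, X.map f⁆ ≤ A.map f := le_trans (le_inf (commutator_le_left _ _)
        (commutator_le_centralizer_of_centralizes n1 c1)) n2
      have c3 := star (fun e => h2 (e ▸ hq)) (fun e => h3 (e ▸ hq)) (hp.map f) (commutator_eq_bot_of_le_centralizer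
        (c2.trans (le_centralizer_iff.1 c1)))
      intro x hx
      obtain ⟨a, ha, e⟩ := n2 ⟨c3 ⟨x, hx, rfl⟩, c1 ⟨x, hx, rfl⟩⟩
      have := dis (A ⊔ X) (IsPiNum.card_sup (hX.trans (centralizer_le_normalizer _)) (pH.of_dvd (card_dvd_of_le hAH))
        (IsPiNum.of_isPGroup hp hq)) (a⁻¹ * x) (mul_mem (mem_sup_left (inv_mem ha)) (mem_sup_right hx))
        (by rw [map_mul, map_inv, e, inv_mul_cancel])
      rwa [← inv_mul_eq_one.1 this]
    have hi : IsPiNum πᶜ (A.subgroupOf C(A)).index := fun q hq hd hπ => by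
      haveI := Fact.mk hq
      obtain ⟨T, hT⟩ := IsSylowIn.exists_sylowIn q C(A)
      exact hT.not_dvd_of_le (key q hπ T hT.1 hT.2) hAC hd
    have : (A.subgroupOf C(A)).Normal := (normal_subgroupOf_iff_le_normalizer hAC).2 (centralizer_le_normalizer _)
    obtain ⟨D, hD⟩ := exists_right_complement'_of_coprime (N := A.subgroupOf C(A)) (IsPiNum.coprime (by
      rw [card_subgroupOf_of_le hAC]; exact pH.of_dvd (card_dvd_of_le hAH)) hi)
    refine ⟨D.map (Subgroup.subtype _), map_subtype_le _, ?_, ?_, ?_, fun q hq hd => hi q hq ?_⟩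
    · rintro c hc _ ⟨d, hd, rfl⟩
      obtain ⟨⟨a, e⟩, rfl⟩ : ∃ x : ↥(A.subgroupOf C(A)) × D, (x.1.1 * x.2.1 : C(A)).1 = c :=
        (hD.2 ⟨c, hc⟩).imp fun x k => congrArg Subtype.val k
      refine ⟨e * d * e⁻¹, mul_mem (mul_mem e.2 hd) (inv_mem e.2), ?_⟩
      have := (e.1 * d * e.1⁻¹).2 _ a.2
      simp only [coe_mul, InvMemClass.coe_inv, coe_subtype] at this ⊢
      rw [mul_inv_rev, show a.1.1 * e.1.1 * d.1 * (e.1.1⁻¹ * a.1.1⁻¹) = a.1.1 * (e.1.1 * d.1 * e.1.1⁻¹) * a.1.1⁻¹ by group,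
        this, mul_inv_cancel_right]
    · rw [eq_bot_iff]
      rintro _ ⟨ha, d, hd, rfl⟩
      rw [show d = 1 from mem_bot.1 (hD.disjoint.le_bot ⟨ha, hd⟩)]; exact one_mem _
    · have := congrArg (map (Subgroup.subtype _)) hD.sup_eq_top
      rwa [Subgroup.map_sup, map_subgroupOf_eq_of_le hAC, ← MonoidHom.range_eq_map, range_subtype] at this
    · rwa [card_map_subtype, ← hD.symm.index_eq_card] at hd

end Cfsg.Agent.S1893
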