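import Cfsg.Statements.S1894
import Cfsg.Agent.H2.PGroup
import Cfsg.Agent.H1.Basic

set_option autoImplicit false
open Cfsg

namespace Cfsg.Agent.S1894

/-- Let P be a finite p-group, A a normal subgroup of P and B an abelian subgroup of A that is normal in P. Then some subgroup C of A containing B is normal in P and is self-centralizing and normal in A (C ∈ SCN(A)). -/
theorem result {P : Type*} [Group P] [Finite P] {p : ℕ} [Fact p.Prime] (hP : IsPGroup p P)
    (A : Subgroup P) [A.Normal] (B : Subgroup P) [B.Normal] (hBA : B ≤ A) (hB : IsMulCommutative B) :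
    ∃ C : Subgroup P, C.Normal ∧ B ≤ C ∧ Cfsg.IsSCN A C := by
  open Subgroup CfsgH1 CfsgH2 in
  obtain ⟨C, h0, ⟨h1, h2, h3⟩, hm⟩ := exists_maximal_subgroup (Φ := fun C : Subgroup P => C.Normal ∧ C ≤ A ∧ IsMulCommutative C)
    (A := B) ⟨inferInstance, hBA, hB⟩
  refine ⟨C, h1, h0, h2, le_normalizer_of_normal, le_antisymm ?_ (le_inf h2 (isMulCommutative_iff_le_centralizer.1 h3))⟩
  by_contra h
  obtain ⟨x, ⟨a, b⟩, c, -, d⟩ := exists_central_mod (V := ⊤) (hP.to_subgroup ⊤) le_top le_normalizer_of_normal h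
  exact c ((hm (C ⊔ zpowers x) ⟨normalizer_eq_top_iff.1 (top_le_iff.1 (le_normalizer_sup_zpowers le_normalizer_of_normal d)),
    sup_le h2 (zpowers_le.2 a), isMulCommutative_sup_zpowers h3 b⟩ le_sup_left).le (mem_sup_right (mem_zpowers x)))

end Cfsg.Agent.S1894
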