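import Cfsg.Statements.S1895
import Cfsg.Agent.H9.Rk2
import Cfsg.Agent.H9.PStab2

set_option autoImplicit false
open Cfsg

namespace Cfsg.Agent.S1895

/-- Let p be an odd prime and G a finite p-solvable group with no elementary abelian subgroup of order p³. Then every chief factor H/K of G (H, K normal in G with no normal subgroup of G strictly between them) whose order is a power of p has order p or p². -/
theorem result {G : Type*} [Group G] [Finite G] {p : ℕ} [Fact p.Prime] (hp : p ≠ 2)
    (hG : Cfsg.IsPSolvable p G) (hr : Cfsg.PRankLE p 2 G)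
    (H K : Subgroup G) [H.Normal] [K.Normal] (hKH : K < H) (hpow : ∃ n : ℕ, K.relIndex H = p ^ n)
    (hchief : ∀ L : Subgroup G, L.Normal → K ≤ L → L ≤ H → L = K ∨ L = H) :
    K.relIndex H = p ∨ K.relIndex H = p ^ 2 := by
  open Subgroup CfsgH1 CfsgH2 CfsgFT CfsgH9 in
    have hp' : p.Prime := Fact.out
    obtain ⟨n, hn⟩ := hpow
    have h1 : Gd p (pPrimeCore p G) := gd_bot.step fun d => not_dvd_card_pPrimeCore p G
      ((dvd_pow_self p three_ne_zero).trans (by simpa using d))
    obtain ⟨S⟩ := (Sylow.nonempty : Nonempty (Sylow p G))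
    have hs := QuotientGroup.mk'_surjective (pPrimeCore p G)
    have h2 : rk p (⊤ : Subgroup (G ⧸ pPrimeCore p G)) ≤ 2 := by
      rw [← rk_sylow (IsSylowIn.of_sylow_top (S.mapSurjective hs))]
      have inj : Function.Injective ((QuotientGroup.mk' (pPrimeCore p G)).comp (S : Subgroup G).subtype) :=
        (injective_iff_map_eq_one _).2 fun x hx => Subtype.ext (mem_bot.1
          ((disjoint_of_isPGroup_of_coprime S.isPGroup' (coprime_card_pPrimeCore p G)).le_bot
            ⟨x.2, (QuotientGroup.eq_one_iff _).1 hx⟩))
      have := rk_map_of_injective (p := p) inj ⊤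
      rw [← map_map, ← MonoidHom.range_eq_map, range_subtype, rk_top_subgroup] at this
      exact this.le.trans ((rk_mono le_top).trans (rk_top_le_iff.2 hr))
    have h3 : Gd p (⊤ : Subgroup G) := h1.lift (by
      rw [map_top_of_surjective _ hs]; exact gd_top hp (centralizer_pCore_quotient_le hG) h2)
    have h4 := h3 H K n hKH.le hchief hn (by simpa using hKH.not_ge)
    have h5 : n ≠ 0 := fun e => hKH.not_ge (relIndex_eq_one.1 (by rw [hn, e, pow_zero]))
    rw [hn]
    obtain rfl | rfl : n = 1 ∨ n = 2 := by omega
    · exact Or.inl (pow_one p)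
    · exact Or.inr rfl

end Cfsg.Agent.S1895
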