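import Cfsg.Statements.S1898
import Cfsg.Agent.FS.Loc6

set_option autoImplicit false
open Cfsg

namespace Cfsg.Agent.S1898

open CfsgH9 CfsgFS

/-- Let X be a finite 2-group whose derived subgroup is elementary abelian and central. Then the subgroup generated by the elements of order dividing 4 has exponent dividing 4, and every automorphism of X fixing each element of order dividing 4 has 2-power order. -/
theorem result {X : Type*} [Group X] [Finite X] (hX : IsPGroup 2 X)
    (hel : Cfsg.IsElementaryAbelian 2 (commutator X)) (hcen : commutator X ≤ Subgroup.center X) :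
    (∀ x ∈ Subgroup.closure {g : X | g ^ 4 = 1}, x ^ 4 = 1) ∧
      ∀ φ : MulAut X, (∀ g : X, g ^ 4 = 1 → φ g = g) → ∃ k : ℕ, φ ^ (2 ^ k) = 1 := by
  have h2 : ⁅(⊤ : Subgroup X), (⊤ : Subgroup X)⁆ ≤ Subgroup.centralizer ((⊤ : Subgroup X) : Set X) := fun x hx y _ =>
    Subgroup.mem_center_iff.1 (hcen hx) y
  have h1 : ∀ x ∈ (⊤ : Subgroup X), x ^ 2 ∈ Subgroup.centralizer ((⊤ : Subgroup X) : Set X) := fun x _ y _ => by
    have c := Subgroup.commutator_mem_commutator (Subgroup.mem_top x) (Subgroup.mem_top y)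
    have := hel.2 _ c
    rw [← CfsgH2.commutatorElement_pow_left' (h2 c x trivial).symm, commutatorElement_eq_one_iff_mul_comm] at this
    exact this.symm
  refine ⟨fun x hx => ((Subgroup.closure_le (smSub h1 h2)).2 (fun y hy => ⟨trivial, hy⟩) hx).2, fun φ hφ => ?_⟩
  obtain ⟨k, m, hm, e⟩ := Nat.exists_eq_pow_mul_and_not_dvd (orderOf_pos φ).ne' 2 (by decide)
  refine ⟨k, aut_eq_one_of_small hX ?_ fun x hx => ?_⟩
  · rw [orderOf_pow' _ (by positivity), e, Nat.gcd_mul_right_left, Nat.mul_div_cancel_left _ (by positivity)]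
    exact (Nat.Prime.coprime_iff_not_dvd Nat.prime_two).2 hm |>.symm
  · exact pow_mem (show φ ∈ MulAction.stabilizer (MulAut X) x from hφ x hx) _

end Cfsg.Agent.S1898
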