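import Cfsg.Statements.S1899
import Cfsg.Agent.H2.PGroup

set_option autoImplicit false
open Cfsg

namespace Cfsg.Agent.S1899

/-- Let a dihedral group of order 2n, n odd and n > 1, act on a finite abelian 2-group A through automorphisms d and t with d^n = 1, t² = 1 and t d t⁻¹ = d⁻¹, and suppose that d fixes only the identity. Then A is the internal direct product of C_A(t) and its image under d. -/
theorem result {A : Type*} [CommGroup A] [Finite A] (hA : IsPGroup 2 A)
    {n : ℕ} (hn : Odd n) (hn1 : 1 < n) (d t : MulAut A) (hd : d ^ n = 1) (ht : t ^ 2 = 1) (hdt : t * d * t⁻¹ = d⁻¹)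
    (hfix : ∀ a : A, d a = a → a = 1) :
    (MulEquiv.toMonoidHom t).eqLocus (MonoidHom.id A) ⊓ ((MulEquiv.toMonoidHom t).eqLocus (MonoidHom.id A)).map d.toMonoidHom = ⊥ ∧
      (MulEquiv.toMonoidHom t).eqLocus (MonoidHom.id A) ⊔ ((MulEquiv.toMonoidHom t).eqLocus (MonoidHom.id A)).map d.toMonoidHom = ⊤ := by
  open Subgroup in
  have h2 : ∀ a, d (d a) = a → a = 1 := fun a h => hfix a (by
    obtain ⟨k, rfl⟩ := hn
    have : ∀ j : ℕ, (d ^ (2 * j)) a = a := fun j => by
      induction j with
      | zero => rfl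
      | succ j ih => rw [mul_add, mul_one, pow_add, pow_two, MulAut.mul_apply, MulAut.mul_apply, h, ih]
    rw [← this k, ← MulAut.mul_apply, ← pow_succ', hd, this]; rfl)
  have tt : ∀ a, t (t a) = a := fun a => by rw [← MulAut.mul_apply, ← pow_two, ht]; rfl
  have td : ∀ a, t (d a) = d⁻¹ (t a) := fun a => by rw [← hdt]; simp
  have td' : ∀ a, t (d⁻¹ a) = d (t a) := fun a => by
    apply d.symm.injective
    have := td (d⁻¹ a)
    simp only [MulAut.apply_inv_self] at this
    simpa using this.symm
  have mC : ∀ a, a * t a ∈ (MulEquiv.toMonoidHom t).eqLocus (MonoidHom.id A) := fun a => by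
    show t (a * t a) = a * t a
    rw [map_mul, tt, mul_comm]
  constructor
  · refine eq_bot_iff.2 ?_
    rintro _ ⟨h, c, hc, rfl⟩
    have h : t (d c) = d c := h
    have hc : t c = c := hc
    rw [td, hc] at h
    rw [h2 c (by rw [← h]; simp), map_one]
    exact one_mem _
  · refine eq_top_iff.2 fun b _ => ?_
    obtain ⟨a, rfl⟩ := Finite.surjective_of_injective (f := fun a => d (d a) * a⁻¹) (fun x y e => by
      have : d (d (x * y⁻¹)) = x * y⁻¹ := by
        simp only at e
        rw [map_mul, map_mul, map_inv, map_inv, mul_inv_eq_iff_eq_mul.1 e]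
        simp [mul_comm, mul_assoc, mul_left_comm]
      exact mul_inv_eq_one.1 (h2 _ this)) b
    have e : d (d a) * a⁻¹ = (a * t a)⁻¹ * d (d a * t (d a)) := by
      rw [td, map_mul]; simp [mul_comm, mul_assoc]
    simp only [e]
    exact mul_mem (mem_sup_left (inv_mem (mC a))) (mem_sup_right ⟨_, mC (d a), rfl⟩)

end Cfsg.Agent.S1899
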