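import Cfsg.Statements.S1900
import Cfsg.Agent.H9.KInf
import Cfsg.Agent.H9.Uni
import Cfsg.Agent.H1.Wielandt

set_option autoImplicit false
open Cfsg

namespace Cfsg.Agent.S1900

open Subgroup CfsgH1 CfsgH2 CfsgH9 CfsgFT in
theorem aux {S : Type*} [Group S] [Finite S] {P D C₁ C₂ X₁ X₂ : Subgroup S} [P.Normal] (hs : Group.IsSolvable P) (hD : D = ⁅C₁, C₂⁆ ∨ D = ⁅C₂, C₁⁆)
    (h1 : C₁ = P ⊓ centralizer X₁) (h2 : C₂ = P ⊓ centralizer X₂) (h3 : C₁ ⊓ C₂ = ⊥) (hP : P ≤ normalizer (D : Set S))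
    (hX : X₁ ≤ centralizer X₂) (co : (Nat.card X₁).Coprime (Nat.card P)) (hg : D ≤ (D ⊓ C₁) ⊔ (D ⊓ C₂)) :
    D ≤ ⁅D, P⁆ ⊔ ⁅D, X₁⁆ ∧ ⁅D, X₁⁆ ≤ ⁅D, P⁆ ⊔ (D ⊓ C₂) := by
  have hD : D = ⁅C₂, C₁⁆ := hD.elim (fun h => h.trans (commutator_comm _ _)) id
  have l1 : C₁ ≤ P := h1 ▸ inf_le_left
  have l2 : C₂ ≤ P := h2 ▸ inf_le_left
  have DP : D ≤ P := hD ▸ (commutator_mono l2 l1).trans (der_le P)
  have x1 : X₁ ≤ normalizer (C₁ : Set S) := le_norm_of_cent' (h1 ▸ inf_le_right)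
  have x2 : X₁ ≤ normalizer (C₂ : Set S) :=
    h2 ▸ le_normalizer_inf' le_normalizer_of_normal (le_normalizer_centralizer' (le_norm_of_cent hX))
  have xD : X₁ ≤ normalizer (D : Set S) := hD ▸ le_normalizer_commutator' x2 x1
  have xE : X₁ ≤ normalizer ((⁅D, P⁆ : Subgroup S) : Set S) := le_normalizer_commutator' xD le_normalizer_of_normal
  have n : ∀ W, ⁅D, P⁆ ≤ W → W ≤ D → P ≤ normalizer (W : Set S) := fun W a b =>
    le_norm_of_comm_le ((commutator_mono b le_rfl).trans a)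
  have E := comm_le_left hP
  constructor
  · have n1 := n _ le_sup_left (sup_le E (comm_le_left xD))
    have e : ⁅X₁, C₂⁆ = C₂ := (commutator_comm _ _).trans (comm_eq_of_inf_cent_eq_bot x2 (coprime_of_le_right co l2)
      (isSolvable_of_le hs l2) (le_bot_iff.1 ((le_inf (h1 ▸ inf_le_inf_right _ l2) inf_le_left).trans h3.le)))
    have := three_subgroups_mod (A := X₁) (B := C₂) (C := C₁) (le_normalizer_sup' xE (normalizer_commutator_ge_right _ _))
      (l2.trans n1) (l1.trans n1) (hD ▸ le_sup_right) (by rw [comm_eq_bot (A := C₁) (B := X₁) (h1 ▸ inf_le_right), commutator_bot_left]; exact bot_le)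
    rwa [e, ← hD] at this
  · have n1 := n (⁅D, P⁆ ⊔ (D ⊓ C₂)) le_sup_left (sup_le E inf_le_left)
    refine (commutator_mono hg le_rfl).trans (comm_sup_left_le ?_ ?_ (inf_le_left.trans (DP.trans n1)) (inf_le_left.trans (DP.trans n1)))
    · rw [comm_eq_bot (inf_le_right.trans (h1 ▸ inf_le_right))]; exact bot_le
    · exact (comm_le_left (le_normalizer_inf' xD x2)).trans le_sup_right

/-- Let S = PQ be a finite group with P a normal Sylow p-subgroup and Q elementary abelian of order q², q a prime different from p. If exactly two subgroups X₁, X₂ of order q in Q have a nontrivial centralizer in P, then P is the internal direct product of C_P(X₁) and C_P(X₂): they commute elementwise, meet trivially and generate P. -/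
theorem result {S : Type*} [Group S] [Finite S] {p q : ℕ} [Fact p.Prime] [Fact q.Prime] (hpq : p ≠ q)
    (P : Sylow p S) [(P : Subgroup S).Normal] (Q : Subgroup S) (hQ : Cfsg.IsElementaryAbelian q Q) (hQc : Nat.card Q = q ^ 2)
    (hS : (P : Subgroup S) ⊔ Q = ⊤)
    (X₁ X₂ : Subgroup S) (h₁ : X₁ ≤ Q) (h₂ : X₂ ≤ Q) (h₁₂ : X₁ ≠ X₂) (hc₁ : Nat.card X₁ = q) (hc₂ : Nat.card X₂ = q)
    (hf₁ : (P : Subgroup S) ⊓ Subgroup.centralizer (X₁ : Set S) ≠ ⊥)
    (hf₂ : (P : Subgroup S) ⊓ Subgroup.centralizer (X₂ : Set S) ≠ ⊥)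
    (honly : ∀ X : Subgroup S, X ≤ Q → Nat.card X = q →
      (P : Subgroup S) ⊓ Subgroup.centralizer (X : Set S) ≠ ⊥ → X = X₁ ∨ X = X₂) :
    ⁅(P : Subgroup S) ⊓ Subgroup.centralizer (X₁ : Set S), (P : Subgroup S) ⊓ Subgroup.centralizer (X₂ : Set S)⁆ = ⊥ ∧
      ((P : Subgroup S) ⊓ Subgroup.centralizer (X₁ : Set S)) ⊓ ((P : Subgroup S) ⊓ Subgroup.centralizer (X₂ : Set S)) = ⊥ ∧
      ((P : Subgroup S) ⊓ Subgroup.centralizer (X₁ : Set S)) ⊔ ((P : Subgroup S) ⊓ Subgroup.centralizer (X₂ : Set S)) = P := by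
  open Subgroup CfsgH1 CfsgH2 CfsgH9 CfsgFT in
  have hq : q.Prime := Fact.out
  haveI := hQ.1
  have cQ := comm_iff.1 hQ.1
  have co : (Nat.card Q).Coprime (Nat.card (P : Subgroup S)) := by
    obtain ⟨k, hk⟩ := P.isPGroup'.exists_card_eq
    rw [hk, hQc]; exact ((Nat.coprime_primes hq Fact.out).2 hpq.symm).pow _ _
  have nc : ¬ IsCyclic Q := fun h => by
    have := card_le_of_cyclic_ea hQ h
    have := hq.one_lt
    rw [hQc] at *; nlinarith
  have cz : ∀ a ∈ Q, a ≠ 1 → Nat.card (zpowers a) = q := fun a ha h => (Nat.card_zpowers a).trans (orderOf_eq_prime (hQ.2 a ha) h)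
  set C₁ := (P : Subgroup S) ⊓ centralizer (X₁ : Set S) with e1
  set C₂ := (P : Subgroup S) ⊓ centralizer (X₂ : Set S) with e2
  have gen : ∀ D ≤ (P : Subgroup S), Q ≤ normalizer (D : Set S) → D ≤ (D ⊓ C₁) ⊔ (D ⊓ C₂) := fun D a b =>
    le_of_noncyclic nc b (coprime_of_le_right co a) fun x hx x1 => by
      by_cases h : (P : Subgroup S) ⊓ centralizer (zpowers x : Set S) = ⊥
      · rw [cent_zpowers] at h; exact ((inf_le_inf_right _ a).trans h.le).trans bot_le
      rw [← cent_zpowers]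
      rcases honly _ (zpowers_le.2 hx) (cz x hx x1) h with rfl | rfl
      exacts [le_sup_of_le_left (le_inf inf_le_left (inf_le_inf_right _ a)), le_sup_of_le_right (le_inf inf_le_left (inf_le_inf_right _ a))]
  have d12 : X₁ ⊓ X₂ = ⊥ := by
    rcases (Nat.dvd_prime hq).1 (hc₁ ▸ card_dvd_of_le (inf_le_left : X₁ ⊓ X₂ ≤ X₁)) with h | h
    · exact card_eq_one.1 h
    · exact (h₁₂ ((CfsgH1.eq_of_le_of_card_le inf_le_left (by rw [h, hc₁])).symm.trans
        (CfsgH1.eq_of_le_of_card_le inf_le_right (by rw [h, hc₂])))).elim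
  have s12 : X₁ ⊔ X₂ = Q := CfsgH1.eq_of_le_of_card_le (sup_le h₁ h₂) (by
    rw [card_of_compl (h₂.trans (le_norm_of_comm cQ h₁)) d12 rfl, hc₁, hc₂, hQc, pow_two])
  have h3 : C₁ ⊓ C₂ = ⊥ := by
    by_contra h
    obtain ⟨a, ha, a1⟩ := (bot_or_exists_ne_one X₁).resolve_left fun h => hq.one_lt.ne (by rw [← hc₁, h, card_bot])
    obtain ⟨b, hb, b1⟩ := (bot_or_exists_ne_one X₂).resolve_left fun h => hq.one_lt.ne (by rw [← hc₂, h, card_bot])
    have m := mul_mem (h₁ ha) (h₂ hb)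
    have k1 : a * b ∉ X₁ := fun h => b1 (d12.le ⟨by simpa using mul_mem (inv_mem ha) h, hb⟩)
    have k2 : a * b ∉ X₂ := fun h => a1 (d12.le ⟨ha, by simpa using mul_mem h (inv_mem hb)⟩)
    rcases honly _ (zpowers_le.2 m) (cz _ m fun e => k1 (e ▸ one_mem _)) (fun e => h (le_bot_iff.1 (le_trans (le_inf
      (inf_le_left.trans inf_le_left) ((le_cent_sup (inf_le_left.trans inf_le_right) (inf_le_right.trans inf_le_right)).trans
        (cent_anti (s12 ▸ zpowers_le.2 m)))) e.le))) with h | h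
    exacts [k1 (h ▸ mem_zpowers _), k2 (h ▸ mem_zpowers _)]
  have h4 : C₁ ⊔ C₂ = P := le_antisymm (sup_le inf_le_left inf_le_left)
    ((gen P le_rfl le_normalizer_of_normal).trans (sup_le_sup inf_le_right inf_le_right))
  refine ⟨?_, h3, h4⟩
  set D := ⁅C₁, C₂⁆ with hD
  have nP : (P : Subgroup S) ≤ normalizer (D : Set S) := h4 ▸ sup_le (normalizer_commutator_ge_left _ _) (normalizer_commutator_ge_right _ _)
  have DP : D ≤ P := (commutator_mono inf_le_left inf_le_left).trans (der_le _)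
  have nQ : ∀ X ≤ Q, Q ≤ normalizer (((P : Subgroup S) ⊓ centralizer (X : Set S) : Subgroup S) : Set S) := fun X h =>
    le_normalizer_inf' le_normalizer_of_normal (le_normalizer_centralizer' (le_norm_of_comm cQ h))
  have g := gen D DP (le_normalizer_commutator' (nQ _ h₁) (nQ _ h₂))
  haveI := P.isPGroup'.isNilpotent
  obtain ⟨a1, a2⟩ := aux inferInstance (.inl hD) e1 e2 h3 nP (cent_mono cQ h₁ h₂) (coprime_of_le_left co h₁) g
  obtain ⟨b1, -⟩ := aux inferInstance (.inr hD) e2 e1 (inf_comm C₁ C₂ ▸ h3) nP (cent_mono cQ h₂ h₁) (coprime_of_le_left co h₂) (sup_comm (D ⊓ C₁) _ ▸ g)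
  have n : D ≤ normalizer ((⁅D, (P : Subgroup S)⁆ : Subgroup S) : Set S) := normalizer_commutator_ge_left _ _
  have c : ⁅D, X₂⁆ ≤ ⁅D, (P : Subgroup S)⁆ := (commutator_mono (a1.trans (sup_le le_sup_left a2)) le_rfl).trans (comm_sup_left_le
    (comm_le_left (le_normalizer_commutator' (h₂.trans (le_normalizer_commutator' (nQ _ h₁) (nQ _ h₂))) le_normalizer_of_normal))
    (by rw [comm_eq_bot (inf_le_right.trans inf_le_right)]; exact bot_le) le_normalizer (inf_le_left.trans n))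
  by_contra h0
  exact (comm_lt_of_pg P.isPGroup' DP le_rfl nP h0).not_ge (b1.trans (sup_le le_rfl c))

end Cfsg.Agent.S1900
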