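import Cfsg.Statements.S1901
import Cfsg.Agent.H1.Solv
import Cfsg.Agent.H1.BG6
import Cfsg.Agent.FT.Quo

set_option autoImplicit false
open Cfsg

namespace Cfsg.Agent.S1901

open Subgroup CfsgH1 CfsgH2 CfsgFT in
theorem aux.{u} {p : ℕ} [Fact p.Prime] (n : ℕ) : ∀ (G : Type u) [Group G] [Finite G], Nat.card G = n → IsPSolvable p G →
    ∀ Q A P : Subgroup G, (Nat.card Q).Coprime p → IsPGroup p A → IsSylowIn p P ⊤ → A ≤ normalizer (Q : Set G) →
    Q ≤ normalizer (P : Set G) → ⁅Q, A⁆ = ⊥ := by
  induction n using Nat.strong_induction_on with | _ n ih => ?_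
  intro G _ _ hn hG Q A P hQ hA hP h1 h2
  rcases subsingleton_or_nontrivial G with _ | _
  · exact Subsingleton.elim _ _
  obtain ⟨M, _, m1, -, m2⟩ := IsPSolvable.exists_normal_le hG ⊤ top_ne_bot
  have := ih _ (hn ▸ card_quotient_lt m1) (G ⧸ M) rfl (IsPSolvable.quotient hG M) (Q.map (QuotientGroup.mk' M))
    (A.map (QuotientGroup.mk' M)) (P.map (QuotientGroup.mk' M)) (hQ.coprime_dvd_left (card_map_dvd _ _)) (hA.map _)
    (by simpa [map_top_of_surjective _ (QuotientGroup.mk'_surjective M)] using hP.map (QuotientGroup.mk' M))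
    (map_le_normalizer _ h1) (map_le_normalizer _ h2)
  rw [← Subgroup.map_commutator, Subgroup.map_eq_bot_iff, QuotientGroup.ker_mk'] at this
  have l := comm_le_left h1
  have c := hQ.coprime_dvd_left (card_dvd_of_le l)
  rcases m2 with m2 | m2
  · have h3 : P ≤ centralizer (⁅Q, A⁆ : Subgroup G) := cent_of_comm_eq_bot (le_bot_iff.1 (disjoint_of_isPGroup_of_coprime hP.pgroup m2
      (comm_le_left (l.trans h2)) ((commutator_mono le_rfl this).trans (commutator_le_right _ _))))
    have n1 : A ≤ normalizer ((⁅Q, A⁆ : Subgroup G) : Set G) := normalizer_commutator_ge_right _ _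
    obtain ⟨g, hg, e⟩ := (hP.mono (h3.trans (centralizer_le_normalizer _)) le_top).exists_cj_le hA n1
    have : A ≤ centralizer (⁅Q, A⁆ : Subgroup G) := fun a ha => by
      have := CfsgH2.conj_mem_of_mem_normalizer (le_normalizer_centralizer' le_rfl (inv_mem hg)) (h3 (e (conj_mem_cj g ha)))
      simpa [mul_assoc] using this
    rw [← commutator_commutator_eq h1 (IsPGroup.coprime_card_of_coprime hA hQ)]
    exact comm_eq_bot (cent_symm this)
  · exact (disjoint_of_isPGroup_of_coprime m2 c).eq_bot_of_ge this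

/-- Let G be a finite p-solvable group and Q a subgroup of order prime to p such that p divides the index of C_G(Q) in N_G(Q). Then Q normalizes no Sylow p-subgroup of G. -/
theorem result {G : Type*} [Group G] [Finite G] {p : ℕ} [Fact p.Prime]
    (hG : Cfsg.IsPSolvable p G) (Q : Subgroup G) (hQ : ¬ p ∣ Nat.card Q)
    (hA : p ∣ (Subgroup.centralizer (Q : Set G)).relIndex (Subgroup.normalizer (Q : Set G)))
    (P : Sylow p G) : ¬ Q ≤ Subgroup.normalizer ((P : Subgroup G) : Set G) := by
  open Subgroup CfsgH1 CfsgH2 CfsgFT in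
  intro h
  obtain ⟨A, hA'⟩ := IsSylowIn.exists_sylowIn p (normalizer (Q : Set G))
  have := aux _ G rfl hG Q A P ((Nat.Prime.coprime_iff_not_dvd Fact.out).2 hQ).symm hA'.pgroup (.of_sylow_top P) hA'.le h
  exact hA'.not_dvd (hA.trans (relIndex_dvd_of_le_left _ (cent_symm (cent_of_comm_eq_bot this))))

end Cfsg.Agent.S1901
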