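import Cfsg.Statements.S1905
import Cfsg.Agent.H2.StrEmb

set_option autoImplicit false
open Cfsg

namespace Cfsg.Agent.S1905

/-- Let M be a subgroup of even order of a finite group S such that M contains the centralizer in S of each of its involutions and the normal core of M in S has odd order. Then all involutions of S are conjugate. If moreover N_S(X) ≤ M for a Sylow 2-subgroup X of M and I is an involution in the centre of X, then all involutions of M are conjugate in M and M = M₀ C_M(I) for some subgroup M₀ of M of odd order. -/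
theorem result {S : Type*} [Group S] [Finite S] (M : Subgroup S) (hM : Even (Nat.card M))
    (hC : ∀ i ∈ M, orderOf i = 2 → Subgroup.centralizer ({i} : Set S) ≤ M) (hcore : Odd (Nat.card M.normalCore)) :
    (∀ x y : S, orderOf x = 2 → orderOf y = 2 → IsConj x y) ∧
      ∀ (X : Sylow 2 M) (I : M), I ∈ (Subgroup.center ↥(X : Subgroup ↥M)).map (X : Subgroup ↥M).subtype → orderOf I = 2 →
        Subgroup.normalizer (((X : Subgroup M).map M.subtype : Subgroup S) : Set S) ≤ M →
        (∀ x y : M, orderOf x = 2 → orderOf y = 2 → IsConj x y) ∧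
          ∃ M₀ : Subgroup M, Odd (Nat.card M₀) ∧
            ∀ m : M, ∃ a ∈ M₀, ∃ c ∈ Subgroup.centralizer ({I} : Set M), m = a * c := by
  open Subgroup CfsgH2 in
    obtain ⟨i, hi, oi⟩ := exists_invol_of_even hM
    have odd : ∀ x ∈ M, orderOf x = 2 → ∀ u, orderOf u = 2 → u ∉ M → IsConj x u := fun x hx ox u ou hu =>
      isConj_of_odd (mul_self_of_orderOf_two ox) (mul_self_of_orderOf_two ou) (Nat.not_even_iff_odd.1 fun e => by
        obtain ⟨h1, h2, h3⟩ := exists_central_invol (mul_self_of_orderOf_two ox) (mul_self_of_orderOf_two ou) e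
        exact hu (hC _ (hC x hx ox (mem_centralizer_singleton_iff.2 h2)) h1 (mem_centralizer_singleton_iff.2 h3.symm)))
    obtain ⟨u, ou, hu⟩ : ∃ u, orderOf u = 2 ∧ u ∉ M := by
      by_contra! h
      exact Nat.not_even_iff_odd.2 hcore (even_card_of_invol (t := i) (fun g => h _ ((orderOf_conj' g i).trans oi)) oi)
    have c : ∀ x, orderOf x = 2 → IsConj x u := fun x ox => by
      by_cases h : x ∈ M
      · exact odd x h ox u ou hu
      · exact (odd i hi oi x ox h).symm.trans (odd i hi oi u ou hu)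
    refine ⟨fun x y ox oy => (c x ox).trans (c y oy).symm, fun X I hI oI hN => ?_⟩
    have hX := IsSylowIn.of_sylow_map X
    obtain ⟨I', hI', rfl⟩ := hI
    have oI' : orderOf ((I' : M) : S) = 2 := (orderOf_coe _).trans oI
    have cI : ∀ x ∈ (X : Subgroup M).map M.subtype, x * ((I' : M) : S) = ((I' : M) : S) * x := by
      rintro _ ⟨x, hx, rfl⟩
      exact congrArg (fun y : (X : Subgroup M) => ((y : M) : S)) (mem_center_iff.1 hI' ⟨x, hx⟩)
    have key : ∀ t g : S, orderOf t = 2 → t ∈ (X : Subgroup M).map M.subtype → g * t * g⁻¹ ∈ M → g ∈ M := fun t g ot ht hg => by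
      have h1 : g * ((I' : M) : S) * g⁻¹ ∈ M := hC _ hg ((orderOf_conj' g t).trans ot) (by
        rw [← cj_centralizer_singleton]; exact conj_mem_cj g (mem_centralizer_singleton_iff.2 (cI t ht).symm))
      have h2 : cj g ((X : Subgroup M).map M.subtype) ≤ M := le_trans (by
        rw [← cj_centralizer_singleton]; exact cj_mono g fun x hx => mem_centralizer_singleton_iff.2 (cI x hx))
        (hC _ h1 ((orderOf_conj' g _).trans oI'))
      obtain ⟨m, hm, l⟩ := hX.exists_cj_le (IsPGroup_cj hX.pgroup g) h2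
      rw [cj_cj] at l
      simpa using M.mul_mem (M.inv_mem hm) (hN (mem_normalizer_of_cj_le l))
    have se : IsStronglyEmbedded M := se_iff.2 ⟨fun e => hu (e ▸ mem_top u), hM, fun t g ot ht hg => by
      obtain ⟨m, hm, l⟩ := hX.exists_cj_le (isPGroup_zpowers_of_orderOf (k := 1) (ot.trans (pow_one 2).symm)) (zpowers_le.2 ht)
      have := key (m * t * m⁻¹) (g * m⁻¹) ((orderOf_conj' m t).trans ot) (cj_le_iff.1 l _ (mem_zpowers t)) (by simpa [mul_assoc] using hg)
      simpa using M.mul_mem this hm⟩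
    have tr : ∀ x y : M, orderOf x = 2 → orderOf y = 2 → ∃ d : M, (d : S) ∈ cj u M ∧ d * x * d⁻¹ = y := fun x y ox oy => by
      obtain ⟨d, hd, -, e⟩ := se_transitive se ou hu ((orderOf_coe x).trans ox) x.2 ((orderOf_coe y).trans oy) y.2
      exact ⟨⟨d, hd.1⟩, hd.2, Subtype.ext e⟩
    refine ⟨fun x y ox oy => let ⟨d, _, e⟩ := tr x y ox oy; isConj_iff.2 ⟨d, e⟩, (cj u M).subgroupOf M, odd_card_iff.2 fun t ht o => ?_, fun m => ?_⟩
    · exact hu (inv_mem_iff.1 (se_mem se ((orderOf_coe t).trans o) t.2 (by rw [inv_inv]; exact mem_cj.1 ht)))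
    · obtain ⟨d, hd, e⟩ := tr _ (m * I' * m⁻¹) oI ((orderOf_conj' m _).trans oI)
      refine ⟨d, hd, d⁻¹ * m, mem_centralizer_singleton_iff.2 ?_, by group⟩
      calc d⁻¹ * m * I' = d⁻¹ * (m * I' * m⁻¹) * m := by group
        _ = _ := by rw [← e]; simp [mul_assoc]

end Cfsg.Agent.S1905
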