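import Cfsg.Statements.S1907
import Cfsg.Agent.H9.SC
import Cfsg.Agent.H1.Solv

set_option autoImplicit false
open Cfsg

namespace Cfsg.Agent.S1907

/-- Let P be a Sylow p-subgroup of a finite group G, H = P ∩ O_{p',p}(G), N = N_G(H) and D = O_{p'}(G). (a) If y is an element of p-power order of N and d ∈ D with d⁻¹ y d ∈ N, then d = d₁ d₂ with d₁ ∈ C_D(y) and d₂ ∈ C_D(H). (b) Two elements of P that are conjugate in G are conjugate in N. -/
theorem result {G : Type*} [Group G] [Finite G] {p : ℕ} [Fact p.Prime] (P : Sylow p G) :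
    (∀ y ∈ Subgroup.normalizer (((P : Subgroup G) ⊓ Cfsg.pPrimePCore p G : Subgroup G) : Set G), (∃ k : ℕ, orderOf y = p ^ k) →
      ∀ d ∈ Cfsg.pPrimeCore p G, d⁻¹ * y * d ∈ Subgroup.normalizer (((P : Subgroup G) ⊓ Cfsg.pPrimePCore p G : Subgroup G) : Set G) →
        ∃ d₁ ∈ Cfsg.pPrimeCore p G ⊓ Subgroup.centralizer ({y} : Set G),
          ∃ d₂ ∈ Cfsg.pPrimeCore p G ⊓ Subgroup.centralizer (((P : Subgroup G) ⊓ Cfsg.pPrimePCore p G : Subgroup G) : Set G), d = d₁ * d₂) ∧
    ∀ x y : G, x ∈ (P : Subgroup G) → y ∈ (P : Subgroup G) → IsConj x y →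
      ∃ n ∈ Subgroup.normalizer (((P : Subgroup G) ⊓ Cfsg.pPrimePCore p G : Subgroup G) : Set G), n * x * n⁻¹ = y := by
  open Subgroup CfsgH2 CfsgH9 CfsgFT in
  have hT := IsSylowIn.sylow_inf_normal P (pPrimePCore p G)
  set H := (P : Subgroup G) ⊓ pPrimePCore p G
  have cop := CfsgH1.coprime_card_pPrimeCore p G
  refine ⟨fun y y1 ⟨k, y2⟩ d d1 d2 => ?_, fun x y hx hy h => ?_⟩
  · have z := isPGroup_zpowers_of_orderOf y2
    have l : pPrimeCore p G ⊓ normalizer (H : Set G) ≤ centralizer (H : Set G) := le_centralizer_iff_bot.2 (eq_bot_iff.2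
      ((CfsgH1.disjoint_of_isPGroup_of_coprime hT.pgroup cop).le_bot.trans' (le_inf ((commutator_comm _ _).le.trans
      (commutator_le_of_normalizer inf_le_right)) ((commutator_mono inf_le_left le_rfl).trans (commutator_le_of_normalizer
      le_normalizer_of_normal)))))
    have n : zpowers y ≤ normalizer ((pPrimeCore p G ⊓ normalizer (H : Set G) : Subgroup G) : Set G) :=
      le_normalizer_inf' le_normalizer_of_normal ((zpowers_le.2 y1).trans le_normalizer)
    have s : IsSylowIn p (zpowers y) (pPrimeCore p G ⊓ normalizer (H : Set G) ⊔ zpowers y) := ⟨le_sup_right, z, by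
      rw [relIndex_sup_norm' n]
      exact fun t => (Fact.out : p.Prime).coprime_iff_not_dvd.1 cop.symm (t.trans ((relIndex_dvd_card _ _).trans
        (card_dvd_of_le inf_le_left)))⟩
    obtain ⟨c, c1, c2⟩ := s.exists_cj_le (IsPGroup_cj z d⁻¹) (by
      rw [cj_zpowers, zpowers_le, show d⁻¹ * y * d⁻¹⁻¹ = d⁻¹ * (y * d * y⁻¹) * y by group]
      exact mul_mem (mem_sup_left ⟨(pPrimeCore p G).mul_mem (inv_mem d1) (Normal.conj_mem inferInstance d d1 y), by
        simpa [mul_assoc] using mul_mem d2 (inv_mem y1)⟩) (mem_sup_right (mem_zpowers y)))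
    rw [sup_comm] at c1
    obtain ⟨u, u1, v, v1, rfl⟩ := (mem_sup_of_normalizer' n).1 c1
    rw [← cj_cj, cj_le_iff_le_cj_inv, cj_eq_of_mem (inv_mem u1), cj_cj, cj_zpowers, zpowers_le] at c2
    have m := (pPrimeCore p G).mul_mem v1.1 (inv_mem d1)
    refine ⟨(v * d⁻¹)⁻¹, ⟨(pPrimeCore p G).inv_mem m, (centralizer {y}).inv_mem (mem_centralizer_singleton_iff.2 (mul_inv_eq_iff_eq_mul.1 (mul_inv_eq_one.1
      (mem_bot.1 ((CfsgH1.disjoint_of_isPGroup_of_coprime z cop).le_bot ⟨(zpowers y).mul_mem c2 (inv_mem (mem_zpowers y)), ?_⟩)))))⟩,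
      v, ⟨v1.1, l v1⟩, by group⟩
    simpa [mul_assoc] using mul_mem m (Normal.conj_mem inferInstance _ (inv_mem m) y)
  · obtain ⟨g, rfl⟩ := isConj_iff.1 h
    refine (ctrl_of_sup cop (.of_sylow_top P) (le_normalizer_inf' le_normalizer le_normalizer_of_normal) le_top
      le_normalizer_of_normal le_top ?_).elt x hx g trivial hy
    refine (sylow_frattini_sup hT le_top le_normalizer_of_normal).ge.trans (sup_le ?_ (inf_le_right.trans le_sup_right))
    exact (CfsgH1.sylowIn_sup_pPrimeCore hT).ge.trans (sup_le (le_normalizer.trans le_sup_right) le_sup_left)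

end Cfsg.Agent.S1907
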