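import Cfsg.Statements.S1908
import Cfsg.Agent.H2.CPi

set_option autoImplicit false
open Cfsg

namespace Cfsg.Agent.S1908
open Subgroup CfsgH2
open scoped commutatorElement

open CfsgFT CfsgH1

/-- Let π be a set of primes and G a finite π-separable group: G has a chain of normal subgroups from 1 to G in which each successive index is divisible only by primes in π or only by primes outside π. Then G has a Hall π-subgroup, any two Hall π-subgroups of G are conjugate, and every subgroup of G whose order is divisible only by primes in π lies in some Hall π-subgroup. -/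
theorem result {G : Type*} [Group G] [Finite G] (π : Set ℕ)
    (hsep : ∃ (n : ℕ) (H : Fin (n + 1) → Subgroup G), H 0 = ⊥ ∧ H (Fin.last n) = ⊤ ∧ Monotone H ∧ (∀ i, (H i).Normal) ∧
      ∀ i : Fin n, (∀ q : ℕ, q.Prime → q ∣ (H i.castSucc).relIndex (H i.succ) → q ∈ π) ∨
        (∀ q : ℕ, q.Prime → q ∣ (H i.castSucc).relIndex (H i.succ) → q ∉ π)) :
    (∃ K : Subgroup G, Cfsg.IsPiHall π K) ∧
      (∀ K L : Subgroup G, Cfsg.IsPiHall π K → Cfsg.IsPiHall π L → ∃ g : G, L = K.map (MulAut.conj g).toMonoidHom) ∧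
      ∀ U : Subgroup G, (∀ q : ℕ, q.Prime → q ∣ Nat.card U → q ∈ π) → ∃ K : Subgroup G, Cfsg.IsPiHall π K ∧ U ≤ K := by
  obtain ⟨n, H, h0, h1, h2, h3, h4⟩ := hsep
  have hD : DP π (⊤ : Subgroup G) := by
    refine dp_of_series n ⊤ (fun i => if h : i < n + 1 then H ⟨i, h⟩ else ⊤) (by simpa using h0)
      (by simp only [Nat.lt_succ_self, dif_pos]; exact h1) (fun i hi => ?_) (fun i hi => ?_) (fun i hi => ?_)
    · simp only [show i < n + 1 by omega, show i + 1 < n + 1 by omega, dif_pos]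
      exact h2 (Fin.mk_le_mk.2 (Nat.le_succ i))
    · simp only [show i < n + 1 by omega, dif_pos]
      haveI := h3 ⟨i, by omega⟩
      exact ⟨le_top, le_normalizer_of_normal⟩
    · simp only [show i < n + 1 by omega, show i + 1 < n + 1 by omega, dif_pos]
      exact h4 ⟨i, hi⟩
  refine ⟨?_, fun K L hK hL => ?_, fun U hU => ?_⟩
  · obtain ⟨K, hK, -⟩ := hD
    exact ⟨K, hall_top_iff.1 hK⟩
  · obtain ⟨g, -, e⟩ := hD.conj (hall_top_iff.2 hK) (hall_top_iff.2 hL)
    exact ⟨g, e.symm⟩
  · obtain ⟨K, hK, h⟩ := hD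
    obtain ⟨g, -, e⟩ := h U le_top hU
    exact ⟨cj g⁻¹ K, hall_top_iff.1 (hK.cj_mem (mem_top _)), cj_le_iff_le_cj_inv.1 e⟩


end Cfsg.Agent.S1908
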