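import Cfsg.Statements.S1922
import Cfsg.Agent.H2.StrEmb
import Cfsg.Agent.H9.Conn

set_option autoImplicit false
open Cfsg

namespace Cfsg.Agent.S1922

/-- Let z be an involution of a finite group G and H a proper subgroup such that z lies in gHg⁻¹ exactly when g ∈ H. Then the following are equivalent: (1) for every conjugate t ≠ z of z commuting with z, the product zt lies in gHg⁻¹ exactly when g ∈ H; (2) z lies in the centre of some Sylow 2-subgroup of G, and for every conjugate t ≠ z of z commuting with z, the centralizer of zt is contained in H. -/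
theorem result {G : Type*} [Group G] [Finite G] (z : G) (hz : orderOf z = 2) (H : Subgroup G) (hH : H ≠ ⊤)
    (h0 : ∀ g : G, z ∈ H.map (MulAut.conj g).toMonoidHom ↔ g ∈ H) :
    (∀ t : G, IsConj z t → t ≠ z → t * z = z * t → ∀ g : G, z * t ∈ H.map (MulAut.conj g).toMonoidHom ↔ g ∈ H) ↔
      ((∃ P : Sylow 2 G, z ∈ (Subgroup.center ↥(P : Subgroup G)).map (P : Subgroup G).subtype) ∧
        ∀ t : G, IsConj z t → t ≠ z → t * z = z * t → Subgroup.centralizer ({z * t} : Set G) ≤ H) := by
  open Subgroup CfsgH2 CfsgH9 in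
    have h0' : ∀ g, g * z * g⁻¹ ∈ H → g ∈ H := fun g hg => inv_mem_iff.1 ((h0 g⁻¹).1 (by rw [cj_def, mem_cj, inv_inv]; exact hg))
    have zH : z ∈ H := by simpa using (h0 1).2 H.one_mem
    have od : ∀ d, IsConj z d → orderOf d = 2 := fun d h => by
      obtain ⟨g, rfl⟩ := isConj_iff.1 h; rw [orderOf_conj', hz]
    have sq : ∀ d, IsConj z d → d * d = 1 := fun d h => mul_self_of_orderOf_two (od d h)
    have f1 : ∀ d g, IsConj z d → d ∈ H → g * d * g⁻¹ ∈ H → g ∈ H := fun d g h h1 h2 => by
      obtain ⟨k, rfl⟩ := isConj_iff.1 h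
      have := h0' (g * k) (by simpa [mul_assoc] using h2)
      simpa using H.mul_mem this (H.inv_mem (h0' k h1))
    have syl : ∀ R, IsSylowIn 2 R H → IsSylowIn 2 R ⊤ := fun R hR => by
      obtain ⟨m, hm, l⟩ := hR.exists_cj_le (isPGroup_zpowers_of_orderOf (k := 1) (hz.trans (pow_one 2).symm)) (zpowers_le.2 zH)
      have := cj_le_iff.1 l _ (mem_zpowers z)
      exact CfsgH9.sylow_of_norm_le hR fun n hn => f1 _ n (isConj_conj z m) (hR.le this) (hR.le (CfsgH2.conj_mem_of_mem_normalizer hn this))
    constructor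
    · intro h
      have f2 : ∀ d d' g, IsConj z d → IsConj z d' → d' ≠ d → d' * d = d * d' → d * d' ∈ H → g * (d * d') * g⁻¹ ∈ H → g ∈ H :=
        fun d d' g a1 a2 a3 a4 a5 a6 => by
          obtain ⟨k, rfl⟩ := isConj_iff.1 a1
          have := h (k⁻¹ * d' * k) (a2.trans (isConj_iff.2 ⟨k⁻¹, by simp⟩)) (fun e => a3 (by rw [← e]; group)) (by
            calc k⁻¹ * d' * k * z = k⁻¹ * (d' * (k * z * k⁻¹)) * k := by group
              _ = _ := by rw [a4]; group)
          have b1 := (this k⁻¹).1 (by rw [cj_def, mem_cj]; convert a5 using 1; group)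
          have b2 := (this (g * k)⁻¹).1 (by rw [cj_def, mem_cj]; convert a6 using 1; group)
          simpa using H.mul_mem (H.inv_mem b2) b1
      have f3 : ∀ d u, IsConj z d → IsConj z u → u ∉ H → (d ∈ H ∨ d * u ∈ H) → Odd (orderOf (d * u)) := fun d u a1 a2 hu a3 =>
        Nat.not_even_iff_odd.1 fun e => by
          obtain ⟨h1, h2, h3⟩ := exists_central_invol (sq d a1) (sq u a2) e
          have h4 : IsConj z ((d * u) ^ (orderOf (d * u) / 2) * d) := by
            rcases pow_mul_conj (sq d a1) (sq u a2) (orderOf (d * u) / 2 : ℕ) with ⟨-, k, e⟩ | ⟨-, k, e⟩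
            · rw [← zpow_natCast, ← e]; exact a1.trans (isConj_conj _ _)
            · rw [← zpow_natCast, ← e]; exact a2.trans (isConj_conj _ _)
          have h5 : (d * u) ^ (orderOf (d * u) / 2) ∈ H := a3.elim (fun m => f1 d _ a1 m (by rw [h2.eq]; simpa using m)) fun m => pow_mem m _
          generalize (d * u) ^ (orderOf (d * u) / 2) = v at *
          have e : d * (v * d) = v := by rw [h2.eq, ← mul_assoc, sq d a1, one_mul]
          refine hu (f2 d (v * d) u a1 h4 (fun e => ?_) (by rw [e, mul_assoc, sq d a1, mul_one]) (by rwa [e]) (by rw [e, ← h3.eq]; simpa using h5))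
          rw [mul_eq_right.1 e, orderOf_one] at h1; omega
      refine ⟨?_, fun t a1 a2 a3 c hc => (h t a1 a2 a3 c).1 (by
        rw [cj_def, mem_cj, mul_assoc, ← mem_centralizer_singleton_iff.1 hc, inv_mul_cancel_left]
        exact H.mul_mem zH (h0' t (by rw [a3]; simpa using zH)))⟩
      obtain ⟨g, hg⟩ : ∃ g, g ∉ H := by by_contra! e; exact hH (eq_top_iff.2 fun g _ => e g)
      have a1 := isConj_conj z g
      have hu : g * z * g⁻¹ ∉ H := fun e => hg (h0' g e)
      generalize g * z * g⁻¹ = u at a1 hu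
      have ui : u⁻¹ = u := inv_eq_of_mul_eq_one_right (sq u a1)
      have j0 : ∀ x, IsConj z (x * u) → IsConj z (u * x) := fun x hx => hx.trans (isConj_iff.2 ⟨u, by group⟩)
      have j1 : ∀ x, IsConj z (x * u) → IsConj z (x⁻¹ * u) := fun x hx => by
        have := inv_eq_of_mul_eq_one_right (sq _ (j0 x hx))
        rw [mul_inv_rev, ui] at this; rw [this]; exact j0 x hx
      have j2 : ∀ x ∈ H, IsConj z (x * u) → Odd (orderOf x) := fun x hx c => by
        have := f3 _ u c a1 hu (.inr (by rwa [mul_assoc, sq u a1, mul_one]))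
        rwa [mul_assoc, sq u a1, mul_one] at this
      let φ : {x // x ∈ H ∧ IsConj z (x * u)} → {d // d ∈ H ∧ IsConj z d} := fun x =>
        ⟨x.1⁻¹ * z * x.1, H.mul_mem (H.mul_mem (H.inv_mem x.2.1) zH) x.2.1, isConj_iff.2 ⟨x.1⁻¹, by simp⟩⟩
      have bij : Function.Bijective φ := by
        refine ⟨fun ⟨x, hx, cx⟩ ⟨y, hy, cy⟩ e => Subtype.ext ?_, fun ⟨d, hd, cd⟩ => ?_⟩
        · have e : x⁻¹ * z * x = y⁻¹ * z * y := congrArg Subtype.val e
          have cd : IsConj z (x⁻¹ * z * x) := isConj_iff.2 ⟨x⁻¹, by simp⟩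
          have hd : x⁻¹ * z * x ∈ H := H.mul_mem (H.mul_mem (H.inv_mem hx) zH) hx
          have hw : u * x ∉ H := fun m => hu (by simpa using H.mul_mem m (H.inv_mem hx))
          have e1 : u * y * (u * x) = y⁻¹ * x := by
            rw [← inv_eq_of_mul_eq_one_right (sq _ (j0 y cy))]; group
          have o1 := f3 _ _ (j0 y cy) (j0 x cx) hw (.inr (e1 ▸ H.mul_mem (H.inv_mem hy) hx))
          have o2 := f3 _ _ cd (j0 x cx) hw (.inl hd)
          have c1 : Commute (u * y * (u * x)) (x⁻¹ * z * x) := by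
            rw [e1]; change _ = _; conv_rhs => rw [e]
            group
          have w1 := sq _ (j0 x cx)
          have w2 := sq _ (j0 y cy)
          have w3 := sq _ cd
          suffices u * y * (u * x) = 1 by rw [e1] at this; exact (inv_mul_eq_one.1 this).symm
          generalize u * x = w at *
          generalize u * y = w' at *
          generalize x⁻¹ * z * x = d at *
          have i1 : w * (w' * w) * w⁻¹ = (w' * w)⁻¹ := by
            rw [mul_inv_rev, inv_eq_of_mul_eq_one_right w1, inv_eq_of_mul_eq_one_right w2, mul_assoc, mul_assoc, w1, mul_one]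
          have c2 : Commute (w' * w) (w * d * w⁻¹) := by
            have : Commute (w * (w' * w) * w⁻¹) (w * d * w⁻¹) := by simpa using c1.map (MulAut.conj w)
            rw [i1] at this; simpa using this.inv_left
          have c3 : Commute (w' * w) ((d * w) ^ 2) := by
            have := c1.mul_right c2
            rwa [inv_eq_of_mul_eq_one_right w1, ← mul_assoc, ← mul_assoc, mul_assoc (d * w), ← pow_two] at this
          have c4 : Commute (w' * w) (d * w) := by
            obtain ⟨k, hk⟩ := o2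
            have := c3.pow_right (k + 1)
            rwa [← pow_mul, show 2 * (k + 1) = orderOf (d * w) + 1 by omega, pow_succ, pow_orderOf_eq_one, one_mul] at this
          have c5 : Commute (w' * w) w := by
            have := c1.mul_right c4
            rwa [← mul_assoc, w3, one_mul] at this
          exact eq_one_of_inv_of_odd o1 (by rw [← i1, ← c5.eq]; group)
        · have cy : IsConj z (u * z * u⁻¹) := isConj_conj z u
          obtain ⟨k, e⟩ := exists_conj_of_odd (sq d cd) (sq _ cy) (f3 _ _ cd cy (fun m => hu (h0' u m)) (.inl hd))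
          have cw : IsConj z ((d * (u * z * u⁻¹)) ^ k * d) := by
            rcases pow_mul_conj (sq d cd) (sq _ cy) k with ⟨-, k, e⟩ | ⟨-, k, e⟩
            · rw [← e]; exact cd.trans (isConj_conj _ _)
            · rw [← e]; exact cy.trans (isConj_conj _ _)
          generalize (d * (u * z * u⁻¹)) ^ k = a at *
          have e2 : u⁻¹ * (a * d) * d * (u⁻¹ * (a * d))⁻¹ = z := by
            calc _ = u⁻¹ * (a * d * a⁻¹) * u := by group
              _ = z := by rw [e]; group
          refine ⟨⟨u⁻¹ * (a * d), f1 d _ cd hd (e2 ▸ zH), cw.trans (isConj_iff.2 ⟨u⁻¹, by group⟩)⟩, Subtype.ext ?_⟩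
          change (u⁻¹ * (a * d))⁻¹ * z * (u⁻¹ * (a * d)) = d
          rw [← e2]; group
      have oJ : ¬ 2 ∣ Nat.card {x // x ∈ H ∧ IsConj z (x * u)} := by
        classical
        haveI := Fintype.ofFinite G
        let f : Function.End {x // x ∈ H ∧ IsConj z (x * u)} := fun x => ⟨x.1⁻¹, H.inv_mem x.2.1, j1 _ x.2.2⟩
        have := Equiv.Perm.card_fixedPoints_modEq (f := f) (p := 2) (n := 1) (funext fun x => Subtype.ext (inv_inv x.1))
        rw [(Fintype.card_eq_one_iff (α := f.fixedPoints)).2 ⟨⟨⟨1, H.one_mem, by rwa [one_mul]⟩, Subtype.ext inv_one⟩, fun x => Subtype.ext (Subtype.ext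
          (eq_one_of_inv_of_odd (j2 _ x.1.2.1 x.1.2.2) (congrArg Subtype.val x.2)))⟩] at this
        rw [Nat.card_eq_fintype_card, this.dvd_iff dvd_rfl]; decide
      rw [Nat.card_eq_of_bijective φ bij] at oJ
      have cz : centralizer {z} ≤ H := fun c hc => h0' c (by rw [mem_centralizer_singleton_iff.1 hc]; simpa using zH)
      have cc : Nat.card H = Nat.card {d // d ∈ H ∧ IsConj z d} * Nat.card (centralizer ({z} : Set G)) :=
        card_eq_mul_of_fiber (fun x : H => (⟨x * z * x⁻¹, H.mul_mem (H.mul_mem x.2 zH) (H.inv_mem x.2), isConj_conj z x⟩ :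
          {d // d ∈ H ∧ IsConj z d})) fun ⟨d, hd, cd⟩ => by
          obtain ⟨k, rfl⟩ := isConj_iff.1 cd
          rw [← card_conj_eq z k]
          exact Nat.card_congr ⟨fun x => ⟨x.1, congrArg Subtype.val x.2⟩, fun x => ⟨⟨x.1, h0' _ (by rw [x.2]; exact hd)⟩, Subtype.ext x.2⟩,
            fun _ => rfl, fun _ => rfl⟩
      rw [← CfsgH2.card_mul_relIndex cz, mul_comm, Nat.mul_left_inj Nat.card_pos.ne'] at cc
      obtain ⟨R, hR, l⟩ := IsSylowIn.exists_le (isPGroup_zpowers_of_orderOf (k := 1) (hz.trans (pow_one 2).symm))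
        (zpowers_le.2 (mem_centralizer_singleton_iff.2 rfl : z ∈ centralizer {z}))
      obtain ⟨P, rfl⟩ := (syl R (hR.trans_of_not_dvd cz (cc ▸ oJ))).of_top
      exact ⟨P, ⟨z, l (mem_zpowers z)⟩, mem_center_iff.2 fun x => Subtype.ext (mem_centralizer_singleton_iff.1 (hR.le x.2)), rfl⟩
    · rintro ⟨⟨P, z', hz', rfl⟩, h⟩ t a1 a2 a3 g
      have m : (z' : G) * t ∈ H := H.mul_mem zH (h0' t (by rw [a3]; simpa using zH))
      refine ⟨fun hg => ?_, fun hg => by rw [cj_def, cj_eq_of_mem hg]; exact m⟩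
      rw [cj_def] at hg
      obtain ⟨R, hR, l⟩ := IsSylowIn.exists_le (p := 2) (IsPGroup.of_card_dvd_pow (n := 1) (G := zpowers ((z' : G) * t)) (by
        rw [Nat.card_zpowers]; refine orderOf_dvd_of_pow_eq_one ?_
        calc ((z' : G) * t) ^ 2 ^ 1 = z' * (t * z') * t := by rw [pow_one, pow_two]; group
          _ = z' * z' * (t * t) := by rw [show t * (z' : G) = z' * t from a3]; group
          _ = 1 := by rw [sq t a1, show (z' : G) * z' = 1 from sq _ (IsConj.refl _), one_mul])) (zpowers_le.2 hg)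
      have s := hR.cj g⁻¹
      rw [cj_inv_cj] at s
      obtain ⟨k, -, e⟩ := (IsSylowIn.of_sylow_top P).exists_cj_eq (syl _ s)
      have b1 : k * z' * k⁻¹ ∈ H := s.le (e ▸ conj_mem_cj k z'.2)
      have b2 : g * k * z' * (g * k)⁻¹ ∈ H := h t a1 a2 a3 (mem_centralizer_singleton_iff.2 (by
        have : (z' : G) * t ∈ cj (g * k) P := by rw [← cj_cj, e, cj_cj_inv]; exact l (mem_zpowers _)
        have := congrArg Subtype.val (mem_center_iff.1 hz' ⟨_, mem_cj.1 this⟩)
        simp only [coe_mul] at this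
        calc g * k * z' * (g * k)⁻¹ * (z' * t) = g * k * (z' * ((g * k)⁻¹ * (z' * t) * (g * k))) * (g * k)⁻¹ := by group
          _ = _ := by rw [← this]; simp [mul_assoc]))
      simpa using H.mul_mem (h0' _ b2) (H.inv_mem (h0' _ b1))

end Cfsg.Agent.S1922
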