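import Cfsg.Statements.S1924
import Cfsg.Agent.H9.Sgn
import Cfsg.Agent.H1.Fact
import Cfsg.Agent.H2.Dih
import Cfsg.Agent.H2.TwoLocal

set_option autoImplicit false
open Cfsg

namespace Cfsg.Agent.S1924

open Subgroup CfsgH2 CfsgH9 in
theorem key {G : Type*} [Group G] [Finite G] {R M : Subgroup G} (hR : IsSylowIn 2 R (pResidual 2 G)) (hM : M ≤ R) {e : G} {k : ℕ}
    (he : e ∈ pResidual 2 G) (ho : e ^ 2 ^ (k + 1) = 1) (hi : M.relIndex R = 2 ^ (k + 1)) : ∃ g, g * e ^ 2 ^ k * g⁻¹ ∈ M := by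
  obtain ⟨g, hg⟩ := exists_conj_of_index (G := pResidual 2 G) (pResidual_two_eq_top_iff.1 (by
    rw [← resIn_subgroupOf, ← resIn_top, resIn_resIn, subgroupOf_self])) (M := M.subgroupOf _) (e := ⟨e, he⟩) (k := k)
    (m := R.relIndex (pResidual 2 G)) (Subtype.ext ho) (by rw [← hi, relIndex_mul_relIndex _ _ _ hM hR.le]; rfl)
    (Nat.odd_iff.2 (by have := hR.not_dvd; omega))
  exact ⟨g, hg⟩


/-- A consequence of Thompson's transfer lemma. Let G be a finite group, L a subgroup with O²(L) = L, T a Sylow 2-subgroup of L and S a Sylow 2-subgroup of G containing T. Suppose D ≤ S is a dihedral subgroup of order at least 4 (the four-group counts) with D ∩ T = 1 and S = TD as a set of products (so |S| = |T|·|D|), and C ≤ D is cyclic of index 2 in D. If no involution of D outside C is G-conjugate to an involution of the subgroup generated by T and C, and the involution of C is not G-conjugate to any involution of T, then G has a normal subgroup K, containing every Sylow 2-subgroup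 of L as a Sylow 2-subgroup, with G = KD. -/
theorem result {G : Type*} [Group G] [Finite G] (L T S D C : Subgroup G) (hL : Cfsg.pResidual 2 ↥L = ⊤)
    (hTL : T ≤ L) (hT2 : IsPGroup 2 T) (hTsyl : ¬ 2 ∣ T.relIndex L)
    (hS2 : IsPGroup 2 S) (hSsyl : ¬ 2 ∣ S.index) (hTS : T ≤ S)
    (hDS : D ≤ S) (hDih : ∃ n : ℕ, 2 ≤ n ∧ Nonempty (↥D ≃* DihedralGroup n)) (hDT : D ⊓ T = ⊥) (hTD : T ⊔ D = S) (hTDc : Nat.card T * Nat.card D = Nat.card S)
    (hCD : C ≤ D) (hC : IsCyclic ↥C) (hCi : C.relIndex D = 2)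
    (h1 : ∀ x ∈ D, x ∉ C → orderOf x = 2 → ∀ g : G, g * x * g⁻¹ ∈ T ⊔ C → False)
    (h2 : ∀ c ∈ C, orderOf c = 2 → ∀ g : G, g * c * g⁻¹ ∈ T → False) :
    ∃ K : Subgroup G, K.Normal ∧ K ⊔ D = ⊤ ∧
      ∀ T' : Subgroup G, T' ≤ L → IsPGroup 2 T' → ¬ 2 ∣ T'.relIndex L → T' ≤ K ∧ ¬ 2 ∣ T'.relIndex K := by
  open Subgroup CfsgH1 CfsgH2 CfsgH9 in
    have hS : IsSylowIn 2 S ⊤ := ⟨le_top, hS2, by rwa [relIndex_top_right]⟩
    have hT : IsSylowIn 2 T L := ⟨hTL, hT2, hTsyl⟩
    have lK : L ≤ pResidual 2 G := by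
      have := map_pResidual (p := 2) L
      rw [hL, ← MonoidHom.range_eq_map, range_subtype] at this
      exact this.le.trans ((resIn_mono le_top).trans resIn_top.le)
    have hR : IsSylowIn 2 (S ⊓ pResidual 2 G) (pResidual 2 G) := hS.inf_of_normalizer' le_top (normalizer_eq_top _).ge
    have tR : T ≤ S ⊓ pResidual 2 G := le_inf hTS (hTL.trans lK)
    have f : Fac T D S := Fac.of_card hTS hDS (by rw [inf_comm, hDT, card_bot, mul_one, hTDc])
    have f2 := f.inf_right tR inf_le_left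
    have e0 : D ⊓ (S ⊓ pResidual 2 G) = ⊥ := by
      by_contra ne
      by_cases c : D ⊓ (S ⊓ pResidual 2 G) ≤ C
      · haveI := isCyclic_of_le c
        obtain ⟨e, he⟩ := (Subgroup.isCyclic_iff_exists_zpowers_eq_top (D ⊓ (S ⊓ pResidual 2 G))).1 inferInstance
        obtain ⟨k, hk⟩ := (hR.pgroup.to_le (inf_le_right (a := D))).exists_card_eq
        obtain ⟨k, rfl⟩ : ∃ j, k = j + 1 := ⟨k - 1, by
          rcases k with _ | k
          · exact absurd (card_eq_one.1 hk) ne
          · rfl⟩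
        have o : orderOf e = 2 ^ (k + 1) := by rw [← Nat.card_zpowers, he, hk]
        have m : e ∈ D ⊓ (S ⊓ pResidual 2 G) := he ▸ mem_zpowers e
        obtain ⟨g, hg⟩ := key hR tR m.2.2 (o ▸ pow_orderOf_eq_one e) (by
          rw [← f2.symm.relIndex inf_le_right tR, ← hk, ← inf_relIndex_right, ← inf_assoc, inf_comm T, hDT, bot_inf_eq, relIndex_bot_left])
        exact h2 _ (pow_mem (c m) _) (by
          rw [orderOf_pow' _ (by positivity), o, Nat.gcd_eq_right (pow_dvd_pow 2 k.le_succ), pow_succ, Nat.mul_div_cancel_left _ (by positivity)]) g hg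
      · obtain ⟨x, hx, hxC⟩ := SetLike.not_le_iff_exists.1 c
        obtain ⟨n, n2, ⟨φ⟩⟩ := hDih
        obtain ⟨a, b, h, oa⟩ := exists_idx2_of_dihedral φ
        have sq : ∀ i : ℤ, a ^ i * b * (a ^ i * b) = 1 := fun i => by rw [h.mul_eq]; simp
        have cc := CfsgH2.card_mul_relIndex hCD
        rw [hCi, h.card] at cc
        have ox : orderOf x = 2 := orderOf_two_of (by
          by_cases xa : x ∈ zpowers a
          · obtain ⟨u, rfl⟩ := (Subgroup.isCyclic_iff_exists_zpowers_eq_top C).1 hC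
            rw [Nat.card_zpowers] at cc
            by_cases ua : u ∈ zpowers a
            · exact absurd (CfsgH2.eq_of_le_of_card_le (zpowers_le.2 ua) (by simp only [Nat.card_zpowers]; omega) ▸ xa) hxC
            · obtain ⟨i, rfl⟩ := h.eq_of_notMem (hCD (mem_zpowers u)) ua
              rw [orderOf_two_of (sq i) (h.pow_mul_ne_one i)] at cc
              rcases (mem_zpowers_of_mul_self (mul_self_of_orderOf_two (by omega : orderOf a = 2))).1 xa with rfl | rfl
              · simp
              · exact mul_self_of_orderOf_two (by omega)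
          · obtain ⟨i, rfl⟩ := h.eq_of_notMem hx.1 xa
            exact sq i) fun e => hxC (e ▸ C.one_mem)
        have xn : x ∉ T ⊔ C := fun m => h1 x hx.1 hxC ox 1 (by simpa using m)
        have l : T ⊔ C ≤ S := sup_le hTS (hCD.trans hDS)
        have i2 : ∀ {A B : Subgroup G}, A.relIndex B ≤ 2 → x ∈ B → x ∉ A → A.relIndex B = 2 := fun {A B} a1 a2 a3 => by
          have := CfsgH2.relIndex_ne_zero A B
          have : A.relIndex B ≠ 1 := fun e => a3 (relIndex_eq_one.1 e a2)
          omega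
        have i1 : (T ⊔ C).relIndex S ≤ 2 := by
          rw [← (f.symm.mono le_rfl le_sup_left le_rfl).relIndex hDS l, ← hCi]
          exact relIndex_le_of_le_left le_sup_right (CfsgH2.relIndex_ne_zero _ _)
        obtain ⟨g, hg⟩ := key hR (M := (T ⊔ C) ⊓ (S ⊓ pResidual 2 G)) inf_le_right hx.2.2 (k := 0) (by simpa [pow_two] using mul_self_of_orderOf_two ox)
          (by rw [inf_relIndex_right]
              exact i2 ((relIndex_le_of_le_right inf_le_left (CfsgH2.relIndex_ne_zero _ _)).trans i1) hx.2 xn)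
        exact h1 x hx.1 hxC ox g (by simpa using hg.1)
    have eT : S ⊓ pResidual 2 G = T := le_antisymm (f2.le_sup.trans (by rw [e0, sup_bot_eq])) tR
    refine ⟨pResidual 2 G, inferInstance, ?_, fun T' a1 a2 a3 => ⟨a1.trans lK, (hR.of_card_le a2 (a1.trans lK) ?_).not_dvd⟩⟩
    · rw [eq_top_iff, ← hS.sup_resIn, resIn_top, ← hTD]
      exact sup_le (sup_le (le_sup_of_le_left (hTL.trans lK)) le_sup_right) le_sup_left
    · rw [eT, hT.card_eq_card ⟨a1, a2, a3⟩]

end Cfsg.Agent.S1924
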