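import Cfsg.Statements.S1939
import Cfsg.Agent.H9.SC

set_option autoImplicit false
open Cfsg

namespace Cfsg.Agent.S1939

/-- Let S be a Sylow p-subgroup of the finite group G and a an element of S that is the only G-conjugate of a lying in S. Then every power of a has the same property: for every n, the only G-conjugate of a^n lying in S is a^n. -/
theorem result {G : Type*} [Group G] [Finite G] {p : ℕ} [Fact p.Prime] (S : Sylow p G) (a : G)
    (haS : a ∈ (S : Subgroup G)) (hwc : ∀ g : G, g * a * g⁻¹ ∈ (S : Subgroup G) → g * a * g⁻¹ = a) (n : ℕ) :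
    ∀ g : G, g * a ^ n * g⁻¹ ∈ (S : Subgroup G) → g * a ^ n * g⁻¹ = a ^ n := by
  open Subgroup CfsgH2 in
  intro g hg
  have ha : a ∈ centralizer {g * a ^ n * g⁻¹} := mem_centralizer_singleton_iff.2 (mul_inv_eq_iff_eq_mul.1
    (hwc _ (mul_mem (mul_mem hg haS) (inv_mem hg)))).symm
  have hz := (S.isPGroup'.to_le (zpowers_le.2 haS))
  obtain ⟨T, t1, t2⟩ := IsSylowIn.exists_le hz (zpowers_le.2 ha)
  obtain ⟨c, c1, c2⟩ := t1.exists_cj_le (IsPGroup_cj hz g) (by
    rw [cj_zpowers, zpowers_le, mem_centralizer_singleton_iff, ← conj_pow]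
    exact (Commute.self_pow _ _).eq)
  obtain ⟨h, h1⟩ := exists_cj_le_sylow S t1.pgroup
  have e1 := hwc h (h1 (conj_mem_cj h (t2 (mem_zpowers a))))
  have e2 := hwc (h * c * g) (by
    simpa [mul_assoc] using h1 (conj_mem_cj h (c2 (conj_mem_cj c (conj_mem_cj g (mem_zpowers a))))))
  have e3 : c * (g * a * g⁻¹) * c⁻¹ = a := by
    calc _ = h⁻¹ * (h * c * g * a * (h * c * g)⁻¹) * h := by group
      _ = h⁻¹ * (h * a * h⁻¹) * h := by rw [e1, e2]
      _ = a := by group
  have e4 := congrArg (· ^ n) e3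
  simp only [conj_pow] at e4
  rwa [mem_centralizer_singleton_iff.1 c1, mul_inv_cancel_right] at e4

end Cfsg.Agent.S1939
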