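import Cfsg.Statements.S1940
import Cfsg.Agent.H9.Offender

set_option autoImplicit false
open Cfsg

namespace Cfsg.Agent.S1940

/-- Let the finite group L act by automorphisms on the finite abelian group M, and let N be an L-invariant subgroup of M such that M/N is a p-group on which L acts trivially (every l • m lies in the coset mN). If every element of M is a product of an element of N and an element fixed by a Sylow p-subgroup T of L, then every element of M is a product of an element of N and an element fixed by all of L. -/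
theorem result {L : Type*} [Group L] [Finite L] {M : Type*} [CommGroup M] [Finite M] [MulDistribMulAction L M]
    {p : ℕ} [Fact p.Prime] (N : Subgroup M) (hN : ∀ (l : L) (m : M), m ∈ N → l • m ∈ N)
    (hquot : IsPGroup p (M ⧸ N)) (htriv : ∀ (l : L) (m : M), (l • m) * m⁻¹ ∈ N) (T : Sylow p L)
    (hT : ∀ m : M, ∃ n ∈ N, ∃ c : M, (∀ t ∈ (T : Subgroup L), t • c = c) ∧ m = n * c) :
    ∀ m : M, ∃ n ∈ N, ∃ c : M, (∀ l : L, l • c = c) ∧ m = n * c := by
  open Subgroup CfsgH2 in
  intro m
  obtain ⟨n, n1, c, c1, rfl⟩ := hT m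
  obtain ⟨w, w1, w2⟩ := CfsgH9.exists_avg (L := L) c
  let U : Subgroup M := N ⊔ FixedPoints.subgroup L M
  have k : c ∈ U := by
    obtain ⟨j, hj⟩ := hquot (QuotientGroup.mk c)
    have h1 : c ^ p ^ j ∈ U := mem_sup_left ((QuotientGroup.eq_one_iff _).1 hj)
    have h2 : c ^ (MulAction.stabilizer L c).index ∈ U := by
      simpa using mul_mem (inv_mem (mem_sup_left (w2 N fun l => htriv l c) : _ ∈ U)) (mem_sup_right w1)
    have h3 : (p ^ j).Coprime (MulAction.stabilizer L c).index := Nat.Coprime.pow_left _
      ((Fact.out : p.Prime).coprime_iff_not_dvd.2 fun d => T.not_dvd_index (d.trans (index_dvd_of_le c1)))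
    have := Nat.gcd_eq_gcd_ab (p ^ j) (MulAction.stabilizer L c).index
    rw [h3, Nat.cast_one] at this
    rw [← zpow_one c, this, zpow_add, zpow_mul, zpow_mul, zpow_natCast, zpow_natCast]
    exact mul_mem (zpow_mem h1 _) (zpow_mem h2 _)
  obtain ⟨x, x1, y, y1, rfl⟩ := mem_sup.1 k
  exact ⟨n * x, mul_mem n1 x1, y, y1, (mul_assoc _ _ _).symm⟩

end Cfsg.Agent.S1940
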