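import Cfsg.Statements.S1941
import Cfsg.Agent.H2.CharP

set_option autoImplicit false
open Cfsg

namespace Cfsg.Agent.S1941

open Subgroup CfsgFT CfsgH1 CfsgH2 CfsgLead
open scoped IsMulCommutative
theorem avg {G : Type*} [Group G] [Finite G] {K U : Subgroup G} [K.Normal] [IsMulCommutative K] (hc : (Nat.card K).Coprime U.index) (α : G →* G)
    (h : ∀ g, α g * g⁻¹ ∈ K) (hU : ∀ u ∈ U, α u = u) : ∃ g : G, ∀ x : G, α x = g * x * g⁻¹ := by
  classical
  haveI := Fintype.ofFinite (G ⧸ U)
  let d : G → K := fun g => ⟨_, h g⟩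
  obtain ⟨w, hw⟩ := (powCoprime hc).surjective (∏ q : G ⧸ U, d q.out)
  refine ⟨w, fun x => ?_⟩
  have e := prod_quot_shift U d (fun s u hu => Subtype.ext (by simp [d, hU u hu])) x
  rw [Finset.prod_congr rfl (g := fun q => d x * MulAut.conjNormal x (d q.out)) fun q _ => Subtype.ext (by simp [d, mul_assoc]),
    Finset.prod_mul_distrib, ← map_prod, ← hw, Finset.prod_const, powCoprime_apply, map_pow, Finset.card_univ, ← Nat.card_eq_fintype_card,
    ← index_eq_card, ← mul_pow] at e
  have := congrArg Subtype.val ((powCoprime hc).injective e)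
  simp only [d, coe_mul, MulAut.conjNormal_apply, mul_assoc, inv_mul_cancel_left] at this
  calc α x = α x * (w * x⁻¹) * x * (w : G)⁻¹ := by group
    _ = _ := by rw [this]

/-- Let G be a finite group with no nontrivial normal subgroup of order prime to p, T a Sylow p-subgroup of G and E(G) the layer of G (the subgroup generated by its components). An automorphism of G of p-power order that fixes T and E(G) elementwise is inner. -/
theorem result {G : Type*} [Group G] [Finite G] {p : ℕ} [Fact p.Prime] (hcore : Cfsg.pPrimeCore p G = ⊥)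
    (T : Sylow p G) (α : MulAut G) (hα : ∃ j : ℕ, orderOf α = p ^ j) (hfixT : ∀ x ∈ (T : Subgroup G), α x = x)
    (hfixE : ∀ x ∈ Cfsg.layer G, α x = x) : ∃ g : G, ∀ x : G, α x = g * x * g⁻¹ := by
  haveI := genFitting_normal G
  have hF := fitting_eq_pCore_of_pPrimeCore_eq_bot p hcore
  have fx : generalizedFittingSubgroup G ≤ α.toMonoidHom.eqLocus (MonoidHom.id G) := sup_le hfixE (hF.le.trans ((pCore_le_sylow T).trans hfixT))
  haveI : IsMulCommutative C(generalizedFittingSubgroup G) := comm_iff.2 (centralizer_le (centralizer_genFitting_le G))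
  have hp : IsPGroup p C(generalizedFittingSubgroup G) := (isPGroup_pCore p G).to_le ((le_fitting inferInstance).trans hF.le)
  obtain ⟨k, hk⟩ := hp.exists_card_eq
  refine avg (K := C(generalizedFittingSubgroup G)) (hk ▸ (((Fact.out : p.Prime).coprime_iff_not_dvd.2 T.not_dvd_index).pow_left k)) α.toMonoidHom
    (fun g => mem_centralizer_iff.2 fun x hx => ?_) hfixT
  have a : α (g⁻¹ * x * g) = g⁻¹ * x * g := fx (Normal.conj_mem' inferInstance x hx g)
  have b : α x = x := fx hx
  rw [map_mul, map_mul, map_inv, b] at a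
  calc x * (α g * g⁻¹) = α g * ((α g)⁻¹ * x * α g) * g⁻¹ := by group
    _ = α g * g⁻¹ * x := by rw [a]; group

end Cfsg.Agent.S1941
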