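import Cfsg.Statements.S1946
import Cfsg.Agent.H9.SC

set_option autoImplicit false
open Cfsg

namespace Cfsg.Agent.S1946

/-- Let P be a Sylow p-subgroup of the finite group G. Then G has a normal p-complement if and only if P controls the fusion of its elements of order dividing p (dividing 4 when p = 2): whenever such an element a of P has a G-conjugate g a g⁻¹ in P, that conjugate is already x a x⁻¹ for some x in P. -/
theorem result {G : Type*} [Group G] [Finite G] {p : ℕ} [Fact p.Prime] (P : Sylow p G) :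
    Cfsg.HasNormalPComplement p G ↔
      ∀ a ∈ (P : Subgroup G), (a ^ p = 1 ∨ (p = 2 ∧ a ^ 4 = 1)) → ∀ g : G, g * a * g⁻¹ ∈ (P : Subgroup G) →
        ∃ x ∈ (P : Subgroup G), g * a * g⁻¹ = x * a * x⁻¹ := by
  open Subgroup CfsgH2 CfsgH9 in
  refine ⟨fun h a ha _ g hg => ?_, fun h => frobenius_hasNPC' P fun Q q1 _ g g1 g2 => by_contra fun k => ?_⟩
  · obtain ⟨v, v1, v2⟩ := controls_of_hasNPC (.of_sylow_top P) (hasNPC_top_iff.2 h) (mem_top g)
    exact ⟨v, v1, (v2 a ha hg).symm⟩
  obtain ⟨D, d1, d2, d3, d4⟩ := exists_small (A := zpowers g) (by rwa [Nat.card_zpowers]) Q (P.isPGroup'.to_le q1)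
    (zpowers_le.2 g1) fun t => k (t (mem_zpowers g))
  obtain ⟨n, hn⟩ := exists_iter_bot P.isPGroup'
  have : ∀ i, D ≤ iterCommutator P P i := fun i => by
    induction i with
    | zero => exact d1.trans q1
    | succ i ih =>
      refine d3.ge.trans ((commutator_comm _ _).le.trans (commutator_le.2 fun x hx a ha => ?_))
      obtain ⟨y, y1, y2⟩ := h a (q1 (d1 ha)) (sm_iff.2 (d4 a ha)) x (q1 (CfsgH2.conj_mem_of_mem_normalizer
        (zpowers_le.2 g1 hx) (d1 ha)))
      rw [commutatorElement_def, y2, iter_succ, commutator_comm]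
      exact commutator_mem_commutator y1 (ih ha)
  exact d2 (eq_bot_iff.2 (hn ▸ this n))

end Cfsg.Agent.S1946
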