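import Cfsg.Statements.S1947
import Cfsg.Agent.H9.SC

set_option autoImplicit false
open Cfsg

namespace Cfsg.Agent.S1947

/-- Let G be a finite group and p a prime. If every element of G of order dividing p (dividing 4 when p = 2) lies in some fixed term Z_n(G) of the upper central series, then G has a normal p-complement. -/
theorem result {G : Type*} [Group G] [Finite G] {p : ℕ} [Fact p.Prime] (n : ℕ)
    (h : ∀ a : G, (a ^ p = 1 ∨ (p = 2 ∧ a ^ 4 = 1)) → a ∈ Subgroup.upperCentralSeries G n) : Cfsg.HasNormalPComplement p G := by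
  open Subgroup CfsgH2 CfsgH9 in
  obtain ⟨P⟩ : Nonempty (Sylow p G) := inferInstance
  refine frobenius_hasNPC' P fun Q q1 _ g g1 g2 => by_contra fun k => ?_
  obtain ⟨D, -, d2, d3, d4⟩ := exists_small (A := zpowers g) (by rwa [Nat.card_zpowers]) Q (P.isPGroup'.to_le q1)
    (zpowers_le.2 g1) fun t => k (t (mem_zpowers g))
  have : ∀ i, D ≤ Subgroup.upperCentralSeries G i → D = ⊥ := fun i => by
    induction i with
    | zero => exact fun l => eq_bot_iff.2 l
    | succ i ih => exact fun l => ih (d3.ge.trans (commutator_le.2 fun x hx a _ => Subgroup.mem_upperCentralSeries_succ_iff.1 (l hx) a))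
  exact d2 (this n fun x hx => h x (sm_iff.2 (d4 x hx)))

end Cfsg.Agent.S1947
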