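import Cfsg.Statements.S1948
import Cfsg.Agent.H9.SC
import Cfsg.Agent.H9.KS1

set_option autoImplicit false
open Cfsg

namespace Cfsg.Agent.S1948

/-- Let S be a Sylow p-subgroup of the finite group G. Then G = N_G(S)·O_{p'}(G) if and only if G is p-constrained and N_G(S) controls fusion in S, in the sense that whenever a subgroup Q of S has a conjugate g Q g⁻¹ inside S, the element g is a product n c with n normalizing S and c centralizing Q. -/
theorem result {G : Type*} [Group G] [Finite G] {p : ℕ} [Fact p.Prime] (S : Sylow p G) :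
    Subgroup.normalizer ((S : Subgroup G) : Set G) ⊔ Cfsg.pPrimeCore p G = ⊤ ↔
      (Cfsg.IsPConstrained p G ∧
        ∀ Q : Subgroup G, Q ≤ (S : Subgroup G) → ∀ g : G, Q.map (MulAut.conj g).toMonoidHom ≤ (S : Subgroup G) →
          ∃ n ∈ Subgroup.normalizer ((S : Subgroup G) : Set G), ∃ c ∈ Subgroup.centralizer (Q : Set G), g = n * c) := by
  open Subgroup CfsgH2 CfsgH9 CfsgFT in
  have cop := CfsgH1.coprime_card_pPrimeCore p G
  refine ⟨fun h => ⟨constrained_iff.2 ?_, fun Q hQ g hg => ?_⟩, fun ⟨h1, h2⟩ => ?_⟩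
  · have f := QuotientGroup.mk'_surjective (pPrimeCore p G)
    have : ((S : Subgroup G).map (QuotientGroup.mk' (pPrimeCore p G))).Normal := normalizer_eq_top_iff.1 (eq_top_iff.2 (by
      rw [← map_top_of_surjective _ f, ← h, Subgroup.map_sup, (CfsgH1.map_mk'_eq_bot_iff _).2 le_rfl, sup_bot_eq]
      exact le_normalizer_map _))
    exact (centralizer_le (CfsgH1.le_pCore (S.isPGroup'.map _))).trans (centralizer_le_of_inf_le (S.mapSurjective f)
      (CfsgH1.pPrimeCore_quotient_pPrimeCore p G) inf_le_left)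
  · obtain ⟨m, m1, m2⟩ := ctrl_of_sup cop (.of_sylow_top S) le_normalizer le_top le_normalizer_of_normal le_top
      (h.ge.trans (sup_comm _ _).le) Q hQ g trivial hg
    refine ⟨m, m1, m⁻¹ * g, fun a ha => ?_, by group⟩
    calc _ = m⁻¹ * (m * a * m⁻¹) * g := by group
      _ = _ := by rw [m2 a ha]; group
  · have hT := IsSylowIn.sylow_inf_normal S (pPrimePCore p G)
    have l : pPrimePCore p G ≤ normalizer ((S : Subgroup G) : Set G) ⊔ pPrimeCore p G :=
      (CfsgH1.pPrimePCore_le_sylow_sup S).trans (sup_le_sup_right le_normalizer _)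
    refine eq_top_iff.2 ((sylow_frattini_sup hT le_top le_normalizer_of_normal).ge.trans (sup_le l fun g hg => ?_))
    obtain ⟨n, n1, c, c1, rfl⟩ := h2 _ inf_le_left g ((cj_eq_of_norm hg.2).le.trans inf_le_left)
    exact mul_mem (mem_sup_left n1) (l (h1 hT.toSylow (hT.toSylow_map.symm ▸ c1)))

end Cfsg.Agent.S1948
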