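import Cfsg.Statements.S1952
import Cfsg.Agent.FS.Bis3

set_option autoImplicit false
open Cfsg

namespace Cfsg.Agent.S1952

theorem exists_chi_ne'' {V : Type*} [AddCommGroup V] {p : ℕ} [Fact p.Prime] [Module (ZMod p) V] {a : V}
    (ha : a ≠ 0) : ∃ χ : V →+ ZMod p, χ a ≠ 0 := by
  by_contra hn
  push Not at hn
  exact ha ((Module.forall_dual_apply_eq_zero_iff (ZMod p) a).1 fun f => hn f.toAddMonoidHom)

theorem exists_chi_ne' {V : Type*} [AddCommGroup V] {p : ℕ} [Fact p.Prime] (h : ∀ a : V, p • a = 0) {a : V}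
    (ha : a ≠ 0) : ∃ χ : V →+ ZMod p, χ a ≠ 0 :=
  @exists_chi_ne'' V _ p _ (AddCommGroup.zmodModule h) a ha

theorem exists_chi_ne {A : Type*} [CommGroup A] {p : ℕ} [Fact p.Prime] (h : ∀ a : A, a ^ p = 1) {a : A}
    (ha : a ≠ 1) : ∃ χ : A →* Multiplicative (ZMod p), χ a ≠ 1 := by
  obtain ⟨f, hf⟩ := exists_chi_ne' (V := Additive A) (p := p) (fun x => congrArg Additive.ofMul (h x.toMul))
    (a := Additive.ofMul a) ha
  exact ⟨AddMonoidHom.toMultiplicativeRight f, hf⟩

/-- Let P be a finite p-group with a normal elementary abelian subgroup A of index p, and let x ∈ A and y ∈ P with y outside A. If the product of the p conjugates y^(-i) x y^i (i = 0, …, p−1) is not the identity, then the wreath product Z_p ≀ Z_p, realised as a Sylow p-subgroup of the symmetric group of degree p², is a homomorphic image of P. -/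
theorem result {P : Type*} [Group P] [Finite P] {p : ℕ} [Fact p.Prime] (hP : IsPGroup p P) (A : Subgroup P) [A.Normal]
    (hA : Cfsg.IsElementaryAbelian p A) (hidx : A.index = p) (x y : P) (hx : x ∈ A) (hy : y ∉ A)
    (hprod : ((List.range p).map (fun i => (y ^ i)⁻¹ * x * y ^ i)).prod ≠ 1) :
    ∃ (Q : Sylow p (Equiv.Perm (Fin (p ^ 2)))) (f : P →* ↥(Q : Subgroup (Equiv.Perm (Fin (p ^ 2))))), Function.Surjective f := by
  open Subgroup CfsgH9 in
    classical
    have hp : p.Prime := Fact.out
    have := Fintype.ofFinite (P ⧸ A)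
    have hc : ∀ a ∈ A, ∀ b ∈ A, a * b = b * a := fun a ha b hb =>
      congrArg Subtype.val (hA.1.1.1 ⟨a, ha⟩ ⟨b, hb⟩)
    letI : CommGroup A := { (inferInstance : Group A) with mul_comm := hA.1.1.1 }
    have hm : ∀ g : P, g⁻¹ * x * g ∈ A := fun g => by
      simpa using (inferInstance : A.Normal).conj_mem x hx g⁻¹
    have hne : ∏ i ∈ Finset.range p, (⟨_, hm (y ^ i)⟩ : A) ≠ 1 := by
      intro e
      apply hprod
      have := congrArg A.subtype e
      rw [Finset.prod, Finset.range_val, Multiset.range, Multiset.map_coe, Multiset.prod_coe, map_list_prod, List.map_map] at this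
      exact this
    obtain ⟨χ, hχ⟩ := exists_chi_ne (p := p) (fun a : A => Subtype.ext (hA.2 a a.2)) hne
    have hmem : ∀ (g : P) (c : P ⧸ A), ((g : P ⧸ A) * c).out⁻¹ * g * c.out ∈ A := fun g c => by
      rw [mul_assoc, ← QuotientGroup.eq, QuotientGroup.out_eq', QuotientGroup.mk_mul, QuotientGroup.out_eq']
    have hx1 : (x : P ⧸ A) = 1 := (QuotientGroup.eq_one_iff x).2 hx
    refine CfsgFS.wreath_quot hP A hidx (fun g c => χ ⟨_, hmem g c⟩) (fun g h c => ?_) (u := x) ?_ ?_
    · rw [← map_mul]
      congr 1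
      apply Subtype.ext
      simp only [coe_mul, QuotientGroup.mk_mul, mul_assoc, mul_inv_cancel_left]
    · have o : orderOf (y : P ⧸ A) = p := orderOf_eq_prime (by rw [← hidx]; exact pow_card_eq_one')
        fun e => hy ((QuotientGroup.eq_one_iff y).1 e)
      rw [map_prod] at hχ
      refine fun e => hχ (Eq.trans ?_ e)
      refine Finset.prod_bij (fun i _ => (y : P ⧸ A) ^ i) (by simp) (fun i hi j hj e => ?_) (fun c _ => ?_)
        fun i _ => ?_
      · exact pow_injOn_Iio_orderOf (by simpa [o] using hi) (by simpa [o] using hj) e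
      · have := mem_zpowers_of_prime_card (p := p) (g := (y : P ⧸ A)) (g' := c) hidx
          fun e => hp.one_lt.ne (by simpa [e] using o)
        rw [mem_zpowers_iff_mem_range_orderOf, o, Finset.mem_image] at this
        obtain ⟨i, hi, e⟩ := this
        exact ⟨i, hi, e⟩
      · congr 1
        apply Subtype.ext
        have h1 : (y ^ i)⁻¹ * ((y : P ⧸ A) ^ i).out ∈ A := by
          rw [← QuotientGroup.eq, QuotientGroup.out_eq', QuotientGroup.mk_pow]
        have h2 := hc _ h1 _ (hm (y ^ i))
        simp only [hx1, one_mul]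
        generalize ((y : P ⧸ A) ^ i).out = t at *
        generalize y ^ i = s at *
        calc s⁻¹ * x * s = (s⁻¹ * t)⁻¹ * (s⁻¹ * t * (s⁻¹ * x * s)) := by group
          _ = _ := by rw [h2]; group
    · rw [← map_one χ]
      congr 1
      apply Subtype.ext
      simp [hA.2 x hx]

end Cfsg.Agent.S1952
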