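import Cfsg.Statements.S1954
import Cfsg.Agent.H9.SC

set_option autoImplicit false
open Cfsg

namespace Cfsg.Agent.S1954

/-- Let N be a normal subgroup of the finite group G, P a Sylow p-subgroup of G, and V a subgroup of P ∩ N normal in P ∩ N such that N_N(V) controls strong fusion in P ∩ N with respect to N (whenever a subgroup A of P ∩ N has n A n⁻¹ ≤ P ∩ N for some n in N, then n = h c with h in N_N(V) and c in C_N(A)). Let W be the subgroup generated by the conjugates of V under N_G(P ∩ N). Then N_G(W) controls strong fusion in P with respect to G. -/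
theorem result {G : Type*} [Group G] [Finite G] {p : ℕ} [Fact p.Prime] (N : Subgroup G) [N.Normal] (P : Sylow p G) (V : Subgroup G)
    (hV : V ≤ (P : Subgroup G) ⊓ N) (hVn : ∀ x ∈ (P : Subgroup G) ⊓ N, V.map (MulAut.conj x).toMonoidHom = V)
    (hctrl : ∀ A : Subgroup G, A ≤ (P : Subgroup G) ⊓ N → ∀ n ∈ N, A.map (MulAut.conj n).toMonoidHom ≤ (P : Subgroup G) ⊓ N →
      ∃ h ∈ N ⊓ Subgroup.normalizer (V : Set G), ∃ c ∈ N ⊓ Subgroup.centralizer (A : Set G), n = h * c)
    (W : Subgroup G) (hW : W = Subgroup.closure (⋃ x ∈ Subgroup.normalizer (((P : Subgroup G) ⊓ N : Subgroup G) : Set G),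
      ((V.map (MulAut.conj x).toMonoidHom : Subgroup G) : Set G))) :
    ∀ A : Subgroup G, A ≤ (P : Subgroup G) → ∀ g : G, A.map (MulAut.conj g).toMonoidHom ≤ (P : Subgroup G) →
        ∃ h ∈ Subgroup.normalizer (W : Set G), ∃ c ∈ Subgroup.centralizer (A : Set G), g = h * c := by
  open Subgroup CfsgH2 CfsgH9 CfsgFT in
  have hT := IsSylowIn.sylow_inf_normal P N
  set T := (P : Subgroup G) ⊓ N
  have eW : W = sSup {U | ∃ x ∈ normalizer (T : Set G), U = cj x V} := by
    rw [hW]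
    exact le_antisymm ((closure_le _).2 (Set.iUnion₂_subset fun x hx => le_sSup (s := {U | ∃ x ∈ normalizer (T : Set G),
      U = cj x V}) ⟨x, hx, rfl⟩)) (sSup_le (by
        rintro _ ⟨x, hx, rfl⟩ y hy; exact subset_closure (Set.mem_iUnion₂.2 ⟨x, hx, hy⟩)))
  have k : W ∈ {U : Subgroup G | U ≤ T ∧ Ctrl N T (N ⊓ normalizer (U : Set G))} := by
    rw [eW]
    refine SupClosed.sSup_mem (fun U u V v => ⟨sup_le u.1 v.1, u.2.sup_norm u.1 v.2⟩) (Set.toFinite _)
      ⟨bot_le, ctrl_of_le (le_inf le_rfl (le_norm_bot _))⟩ ?_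
    rintro _ ⟨x, hx, rfl⟩
    refine ⟨(cj_mono x hV).trans (cj_eq_of_norm hx).le, fun A hA g hg c => ?_⟩
    obtain ⟨h, h1, d, d1, e⟩ := hctrl (cj x⁻¹ A) ((cj_mono _ hA).trans (cj_eq_of_norm (inv_mem hx)).le) (x⁻¹ * g * x)
      (Normal.conj_mem' inferInstance g hg x) (by
        rw [cj_def, cj_cj, mul_inv_cancel_right, ← cj_cj]; exact (cj_mono _ c).trans (cj_eq_of_norm (inv_mem hx)).le)
    refine ⟨x * h * x⁻¹, ⟨Normal.conj_mem inferInstance h h1.1 x, by rw [← cj_normalizer]; exact conj_mem_cj x h1.2⟩,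
      fun a ha => ?_⟩
    have := d1.2 _ (conj_mem_cj x⁻¹ ha)
    calc _ = x * h * (x⁻¹ * a * x⁻¹⁻¹ * d) * d⁻¹ * h⁻¹ * x⁻¹ := by group
      _ = x * (h * d) * x⁻¹ * a * (x * (h * d) * x⁻¹)⁻¹ := by rw [this]; group
      _ = _ := by rw [← e]; group
  have nW : normalizer (T : Set G) ≤ normalizer (W : Set G) := eW ▸ le_norm_ncl _ V
  have nI : ∀ n, normalizer (W : Set G) ≤ normalizer (iterCommutator W W n : Set G) := fun n x hx =>
    cj_eq_iff_mem_normalizer.1 (by rw [cj_iter, cj_eq_of_norm hx])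
  intro A hA g hg
  obtain ⟨m, m1, m2⟩ := ctrl_of_series (W := W) (.of_sylow_top P) (fun n => ⟨(iter_le le_normalizer n).trans (k.1.trans inf_le_left),
    fun a ha g hg => by
      obtain ⟨y, y1, y2⟩ := hT.frattini (le_normalizer_of_normal (mem_top g))
      have a1 := CfsgH2.conj_mem_of_mem_normalizer (nI n (nW y2)) ha
      have e : y⁻¹ * (y * g * a * (y * g)⁻¹) * y⁻¹⁻¹ = g * a * g⁻¹ := by group
      obtain ⟨v, v1, v2⟩ := k.2.elt _ (k.1 (iter_le le_normalizer n a1)) _ (inv_mem y1) (e ▸ ⟨hg, Normal.conj_mem inferInstance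
        a (k.1 (iter_le le_normalizer n ha)).2 g⟩)
      exact e ▸ v2 ▸ CfsgH2.conj_mem_of_mem_normalizer (nI n v1.2) a1⟩) A hA g trivial hg
  refine ⟨m, m1, m⁻¹ * g, fun a ha => ?_, by group⟩
  calc _ = m⁻¹ * (m * a * m⁻¹) * g := by group
    _ = _ := by rw [m2 a ha]; group

end Cfsg.Agent.S1954
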