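import Cfsg.Statements.S1958
import Cfsg.Agent.H9.SC
import Cfsg.Agent.H1.PLay3

set_option autoImplicit false
open Cfsg

namespace Cfsg.Agent.S1958

/-- Let `G` be a finite group, `p` a prime, and `x, y` commuting elements of order `p` whose centralizers `C_G(x)` and `C_G(y)` are both solvable. Then `O_{p'}(C_G(x)) ∩ C_G(y) = O_{p'}(C_G(y)) ∩ C_G(x)` (balance). -/
theorem result {G : Type*} [Group G] [Finite G]
    (p : ℕ) [Fact p.Prime] (x y : G) (hx : orderOf x = p) (hy : orderOf y = p) (hxy : x * y = y * x)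
    (hCx : Group.IsSolvable ↥(Subgroup.centralizer ({x} : Set G))) (hCy : Group.IsSolvable ↥(Subgroup.centralizer ({y} : Set G))) :
    Cfsg.centralizerPPrimeCore p x ⊓ Subgroup.centralizer {y} = Cfsg.centralizerPPrimeCore p y ⊓ Subgroup.centralizer {x} := by
  open Subgroup CfsgH2 CfsgH9 CfsgFT in
  have k : ∀ x y : G, orderOf y = p → x * y = y * x → Group.IsSolvable (centralizer ({x} : Set G)) →
      centralizerPPrimeCore p y ⊓ centralizer {x} ≤ centralizerPPrimeCore p x ⊓ centralizer {y} := fun x y hy e h => by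
    rw [CfsgH1.cpc_eq, CfsgH1.cpc_eq]
    refine le_inf ?_ (inf_le_left.trans (Opi_le _ _))
    have := Opi_cent_le h (isPGroup_zpowers_of_orderOf (hy.trans (pow_one p).symm)) (zpowers_le.2
      (mem_centralizer_singleton_iff.2 e.symm))
    rw [centralizer_zpowers] at this
    exact (le_inf inf_le_left (le_inf inf_le_right (inf_le_left.trans (Opi_le _ _)))).trans ((Opi_inf_le inf_le_right).trans this)
  exact le_antisymm (k y x hx hxy.symm hCy) (k x y hy hxy hCx)

end Cfsg.Agent.S1958
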