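import Cfsg.Statements.S1966
import Cfsg.Agent.H9.CF1

set_option autoImplicit false
open Cfsg

namespace Cfsg.Agent.S1966

/-- Let p be a prime, G a finite group with Sylow p-subgroup S and 𝓕 a conjugation family for S in G. Then the members of 𝓕 containing O_p(G) still form a conjugation family for S in G. -/
theorem result {G : Type*} [Group G] [Finite G] {p : ℕ} [Fact p.Prime] (S : Sylow p G) (𝓕 : Set (Subgroup G)) (h : Cfsg.IsConjugationFamily 𝓕 (S : Subgroup G)) : Cfsg.IsConjugationFamily {T : Subgroup G | T ∈ 𝓕 ∧ Cfsg.pCore p G ≤ T} (S : Subgroup G) := by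
  obtain ⟨h1, h2⟩ := CfsgH9.isConjugationFamily_iff.1 h
  refine CfsgH9.isConjugationFamily_iff.2 ⟨fun T h => h1 T h.1, fun A a1 g a2 a3 => ?_⟩
  have := CfsgH9.pCore_normal' p G
  have hR := CfsgH1.pCore_le_sylow S
  have k := h2 (A ⊔ pCore p G) (sup_le a1 hR) g a2 (by rw [CfsgH2.cj_sup, CfsgH2.cj_eq_of_normal g (pCore p G)]; exact sup_le a3 hR)
  clear a2 a3
  induction k with
  | one => exact .one
  | step _ k ih =>
    obtain ⟨T, t1, t2, t3⟩ := k
    rw [CfsgH2.cj_sup, CfsgH2.cj_eq_of_normal _ (pCore p G), sup_le_iff] at t2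
    exact ih.step ⟨T, ⟨t1, t2.2⟩, t2.1, t3⟩

end Cfsg.Agent.S1966
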