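import Cfsg.Statements.S1968
import Cfsg.Agent.H9.CF1

set_option autoImplicit false
open Cfsg

namespace Cfsg.Agent.S1968

/-- Let p be a prime, G a finite group with Sylow p-subgroup S and W a conjugacy functor for p on G with Z(P) ≤ W(P) for every p-subgroup P. Let A be a subgroup of Z(S) normalized by N_G(W(S)) that is not weakly closed in S with respect to G. Then there is a subgroup T of S, well placed in S with respect to W, such that: A ≤ T; N_G(W(N_S(T))) normalizes A; N_S(T) is a Sylow p-subgroup of N_G(T); A ≤ Z(N_S(T)); and A is not weakly closed in N_S(T) with respect to N_G(T), that is, some N_G(T)-conjugate of A other than A lies in N_S(T). -/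
theorem result {G : Type*} [Group G] [Finite G] {p : ℕ} [Fact p.Prime] (S : Sylow p G) (W : Subgroup G → Subgroup G) (hW : Cfsg.IsConjugacyFunctor p W) (hWZ : ∀ P : Subgroup G, IsPGroup p ↥P → P ⊓ Subgroup.centralizer (P : Set G) ≤ W P) (A : Subgroup G) (hAZ : A ≤ (S : Subgroup G) ⊓ Subgroup.centralizer ((S : Subgroup G) : Set G)) (hAN : Subgroup.normalizer ((W (S : Subgroup G) : Subgroup G) : Set G) ≤ Subgroup.normalizer ((A : Subgroup G) : Set G)) (hnwc : ¬ Cfsg.IsWeaklyClosed A (S : Subgroup G)) : ∃ T : Subgroup G, Cfsg.IsWellPlaced p W (S : Subgroup G) T ∧ A ≤ T ∧ Subgroup.normalizer ((W ((S : Subgroup G) ⊓ Subgroup.normalizer ((T : Subgroup G) : Set G)) : Subgroup G) : Set G) ≤ Subgroup.normalizer ((A : Subgroup G) : Set G) ∧ ¬ p ∣ ((S : Subgroup G) ⊓ Subgroup.normalizer ((T : Subgroup G) : Set G)).relIndex (Subgroup.normalizer ((T : Subgroup G) : Set G)) ∧ A ≤ Subgroup.centralizer (((S : Subgroup G) ⊓ Subgroup.normalizer ((T : Subgroup G) : Set G) : Subgroup G) :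 Set G) ∧ ∃ g ∈ Subgroup.normalizer ((T : Subgroup G) : Set G), A.map (MulAut.conj g).toMonoidHom ≤ (S : Subgroup G) ⊓ Subgroup.normalizer ((T : Subgroup G) : Set G) ∧ A.map (MulAut.conj g).toMonoidHom ≠ A := by
  by_contra hcon
  have hS := CfsgH2.IsSylowIn.of_sylow_top S
  have hZ : ∀ U : Subgroup G, A ≤ Subgroup.centralizer (((S : Subgroup G) ⊓ Subgroup.normalizer (U : Set G) : Subgroup G) : Set G) :=
    fun U => (hAZ.trans inf_le_right).trans (Subgroup.centralizer_le (SetLike.coe_subset_coe.2 inf_le_left))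
  have key := CfsgH9.wp_induction hS hW (fun U => A ≤ U → Subgroup.normalizer (U : Set G) ≤ Subgroup.normalizer (A : Set G))
    (fun _ => hAN) fun U h1 h2 h3 g hg => by
      by_contra k
      have l : U ≤ (S : Subgroup G) ⊓ Subgroup.normalizer (U : Set G) := le_inf h1.1 Subgroup.le_normalizer
      exact hcon ⟨U, h1, h3, h2 ((le_inf (h3.trans l) (hZ U)).trans (hWZ _ S.isPGroup'.to_inf_left)), h1.2 0, hZ U, g, hg,
        ((CfsgH2.cj_mono g h3).trans (CfsgH2.cj_eq_iff_mem_normalizer.2 hg).le).trans l,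
        fun e => k (CfsgH2.cj_eq_iff_mem_normalizer.1 e)⟩
  have hΦ := CfsgH9.fr_Wc (A₀ := A) (Subgroup.centralizer_le_normalizer _) le_rfl
  have : CfsgH9.All (CfsgH9.Wc A (Subgroup.normalizer (A : Set G))) ⊤ S :=
    CfsgH9.all_of_wp hS hW hΦ.res hΦ.mul fun U h1 g hg h2 => key U h1 h2 hg
  exact hnwc ⟨hAZ.trans inf_le_left, fun g hg => CfsgH2.cj_eq_iff_mem_normalizer.2
    (this A (hAZ.trans inf_le_left) g (Subgroup.mem_top g) hg le_rfl)⟩

end Cfsg.Agent.S1968
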