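import Cfsg.Statements.S1981
import Cfsg.Agent.H9.KInf2

set_option autoImplicit false
open Cfsg

namespace Cfsg.Agent.S1981

/-- Let P be a finite p-group generated by its abelian normal subgroups. Then both K-infinity subgroups of P equal P. -/
theorem result {P : Type*} [Group P] [Finite P] {p : ℕ} [Fact p.Prime] (hP : IsPGroup p P) (hgen : ⨆ A ∈ {A : Subgroup P | A.Normal ∧ IsMulCommutative ↥A}, A = ⊤) : Cfsg.kInfLower P = ⊤ ∧ Cfsg.kInfUpper P = ⊤ := by
  have k : ∀ n, (⊤ : Subgroup P) ≤ CfsgH9.kev ⊤ n ∧ (⊤ : Subgroup P) ≤ CfsgH9.kod ⊤ n := fun n => by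
    rw [← le_inf_iff]
    refine hgen.ge.trans (iSup₂_le fun A hA => ?_)
    have := hA.1
    have := hA.2
    exact le_inf_iff.2 (CfsgH9.le_kev_of_comm le_top (Subgroup.le_centralizer A) Subgroup.le_normalizer_of_normal n)
  rw [← CfsgH9.kL_top, ← CfsgH9.kU_top]
  exact ⟨eq_top_iff.2 (le_iSup_of_le 0 (k 0).1), eq_top_iff.2 (le_iInf fun n => (k n).2)⟩

end Cfsg.Agent.S1981
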