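import Cfsg.Statements.S1985
import Cfsg.Agent.H9.KInf2

set_option autoImplicit false
universe u
open Cfsg

namespace Cfsg.Agent.S1985

/-- Let p be an odd prime and G a finite group. Then the lower K-infinity subgroup controls weak closure of elements in G: the lower K-infinity subgroup of every p-subgroup P of G contains Z(P), and for some (equivalently, every) Sylow p-subgroup S of G, with K the lower K-infinity subgroup of S, every element of S commuting with all of N_G(K) is weakly closed in S with respect to G (every G-conjugate of it lying in S equals it). -/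
theorem result {G : Type u} [Group G] [Finite G] {p : ℕ} [Fact p.Prime] (hp : p ≠ 2) : Cfsg.ControlsWeakClosureOfElementsIn p (Cfsg.inducedFunctor (G := G) Cfsg.kInfLower) ⊤ := by
  rw [CfsgH9.ind_kL]
  have h2 := (Fact.out : p.Prime).two_le
  refine CfsgH9.wc_of_chief (CfsgH9.sfun_kL.icf) (fun _ _ => CfsgH9.zc_le_kL) (fun H T hT k => ?_) ⊤
  obtain ⟨g, g1, g2, g3⟩ := CfsgH9.isK_kL.local hT k
  exact ⟨g, g1, g2, (CfsgH9.good_of_eq_bot (n := 2) g3).mono (by omega) le_rfl⟩

end Cfsg.Agent.S1985
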