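import Cfsg.Statements.S1996
import Cfsg.Agent.H9.CF2

set_option autoImplicit false
universe u
open Cfsg

namespace Cfsg.Agent.S1996

/-- Let p be a prime, G a finite group and W₁, W₂ two isomorphism-invariant p-group functors (W assigns to every group Q a subgroup W(Q), nontrivial whenever Q is a nontrivial finite p-group, and every isomorphism from a finite p-group Q onto a group R carries W(Q) onto W(R)). Suppose that G* = N_{G*}(W₁(S*)) N_{G*}(W₂(S*)) whenever G* = K/R is a section of G with C_{G*}(O_p(G*)) ≤ O_p(G*) and S* is a Sylow p-subgroup of G*. Then the pair {W₁, W₂} controls strong fusion in G. -/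
theorem result {G : Type u} [Group G] [Finite G] {p : ℕ} [Fact p.Prime] (W₁ W₂ : ∀ (Q : Type u) [Group Q], Subgroup Q) (hW₁ : Cfsg.IsCharPFunctor.{u} p W₁) (hW₂ : Cfsg.IsCharPFunctor.{u} p W₂) (hfac : ∀ (K R : Subgroup G) [hR : (R.subgroupOf K).Normal], Subgroup.centralizer ((Cfsg.pCore p (↥K ⧸ R.subgroupOf K) : Subgroup (↥K ⧸ R.subgroupOf K)) : Set (↥K ⧸ R.subgroupOf K)) ≤ Cfsg.pCore p (↥K ⧸ R.subgroupOf K) → ∀ T : Sylow p (↥K ⧸ R.subgroupOf K), ∀ x : (↥K ⧸ R.subgroupOf K), ∃ a ∈ Subgroup.normalizer ((Cfsg.inducedFunctor (G := (↥K ⧸ R.subgroupOf K)) W₁ (T : Subgroup (↥K ⧸ R.subgroupOf K)) : Subgroup (↥K ⧸ R.subgroupOf K)) : Set (↥K ⧸ R.subgroupOf K)), ∃ b ∈ Subgroup.normalizer ((Cfsg.inducedFunctor (G := (↥K ⧸ R.subgroupOf K)) W₂ (T : Subgroup (↥K ⧸ R.subgroupOf K)) : Subgroup (↥K ⧸ R.subgroupOf K)) : Set (↥K ⧸ R.subgroupOf K)), x = a * b) : Cfsg.FamilyControlsStrongFusionIn p {Cfsg.inducedFunctor (G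 := G) W₁, Cfsg.inducedFunctor (G := G) W₂} ⊤ := by
  have h1 := CfsgH9.sfun_of_char hW₁
  have h2 := CfsgH9.sfun_of_char hW₂
  have hW : ∀ W ∈ ({CfsgH9.ind W₁, CfsgH9.ind W₂} : Set _), CfsgH9.SFun p W := by
    rintro _ (rfl | rfl); exacts [h1, h2]
  have := (CfsgH9.genS_false_iff hW).1 (CfsgH9.genS_of_sections hW (fun K R _ hc _ _ T => CfsgH9.gen_of_factor
    (.of_sylow_top T) (le_inf le_top (h1.le_normalizer T)) (le_inf le_top (h2.le_normalizer T))
    (CfsgH9.mem_loc_at.2 ⟨_, Or.inl rfl, rfl⟩) (CfsgH9.mem_loc_at.2 ⟨_, Or.inr rfl, rfl⟩)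
    (by simp only [top_inf_eq]; exact hfac K R hc T)) G CfsgH9.sec_self)
  rwa [CfsgH9.At, Set.image_pair] at this

end Cfsg.Agent.S1996
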