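import Cfsg.Statements.S1997
import Cfsg.Agent.H9.CF3

set_option autoImplicit false
universe u
open Cfsg

namespace Cfsg.Agent.S1997

/-- Let p be a prime, G a finite group with Sylow p-subgroup S, and W₁, W₂ two isomorphism-invariant p-group functors (W assigns to every group Q a subgroup W(Q), nontrivial whenever Q is a nontrivial finite p-group, and every isomorphism from a finite p-group Q onto a group R carries W(Q) onto W(R)). Suppose that G* = C_{G*}(Ω₁Z(S*)) N_{G*}(W₁(S*)) = C_{G*}(Ω₁Z(S*)) N_{G*}(W₂(S*)) = N_{G*}(W₁(S*)) N_{G*}(W₂(S*)) whenever G* = K/R is a section of G with C_{G*}(O_p(G*)) ≤ O_p(G*) and S* is a Sylow p-subgroup of G*, where Ω₁Z denotes the subgroup generated by the elements of order dividing p in the centre. Suppose also Ω₁Z(S) ≤ W₁(S) ∩ W₂(S), and let A be the normal closure of Ω₁Z(S) in N_G(W₁(S)). Then A is an elementary abelian subgroup of S,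 strongly closed in S with respect to G, and A controls strong fusion in G. -/
theorem result {G : Type u} [Group G] [Finite G] {p : ℕ} [Fact p.Prime] (S : Sylow p G) (W₁ W₂ : ∀ (Q : Type u) [Group Q], Subgroup Q) (hW₁ : Cfsg.IsCharPFunctor.{u} p W₁) (hW₂ : Cfsg.IsCharPFunctor.{u} p W₂) (hfac : ∀ (K R : Subgroup G) [hR : (R.subgroupOf K).Normal], Subgroup.centralizer ((Cfsg.pCore p (↥K ⧸ R.subgroupOf K) : Subgroup (↥K ⧸ R.subgroupOf K)) : Set (↥K ⧸ R.subgroupOf K)) ≤ Cfsg.pCore p (↥K ⧸ R.subgroupOf K) → ∀ T : Sylow p (↥K ⧸ R.subgroupOf K), (∀ x : (↥K ⧸ R.subgroupOf K), ∃ a ∈ Subgroup.centralizer ((Cfsg.omegaOne p ((T : Subgroup (↥K ⧸ R.subgroupOf K)) ⊓ Subgroup.centralizer (((T : Subgroup (↥K ⧸ R.subgroupOf K)) : Subgroup (↥K ⧸ R.subgroupOf K)) : Set (↥K ⧸ R.subgroupOf K))) : Subgroup (↥K ⧸ R.subgroupOf K)) : Set (↥K ⧸ R.subgroupOf K)), ∃ b ∈ Subgroup.normalizer ((Cfsg.inducedFunctor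 (G := (↥K ⧸ R.subgroupOf K)) W₁ (T : Subgroup (↥K ⧸ R.subgroupOf K)) : Subgroup (↥K ⧸ R.subgroupOf K)) : Set (↥K ⧸ R.subgroupOf K)), x = a * b) ∧ (∀ x : (↥K ⧸ R.subgroupOf K), ∃ a ∈ Subgroup.centralizer ((Cfsg.omegaOne p ((T : Subgroup (↥K ⧸ R.subgroupOf K)) ⊓ Subgroup.centralizer (((T : Subgroup (↥K ⧸ R.subgroupOf K)) : Subgroup (↥K ⧸ R.subgroupOf K)) : Set (↥K ⧸ R.subgroupOf K))) : Subgroup (↥K ⧸ R.subgroupOf K)) : Set (↥K ⧸ R.subgroupOf K)), ∃ b ∈ Subgroup.normalizer ((Cfsg.inducedFunctor (G := (↥K ⧸ R.subgroupOf K)) W₂ (T : Subgroup (↥K ⧸ R.subgroupOf K)) : Subgroup (↥K ⧸ R.subgroupOf K)) : Set (↥K ⧸ R.subgroupOf K)), x = a * b) ∧ (∀ x : (↥K ⧸ R.subgroupOf K), ∃ a ∈ Subgroup.normalizer ((Cfsg.inducedFunctor (G := (↥K ⧸ R.subgroupOf K)) W₁ (T : Subgroup (↥K ⧸ R.subgroupOf K)) : Subgroup (↥K ⧸ R.subgroupOf K)) : Set (↥K ⧸ R.subgroupOf K)), ∃ b ∈ Subgroup.normalizer ((Cfsg.inducedFunctor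 (G := (↥K ⧸ R.subgroupOf K)) W₂ (T : Subgroup (↥K ⧸ R.subgroupOf K)) : Subgroup (↥K ⧸ R.subgroupOf K)) : Set (↥K ⧸ R.subgroupOf K)), x = a * b)) (hZ : Cfsg.omegaOne p ((S : Subgroup G) ⊓ Subgroup.centralizer (((S : Subgroup G) : Subgroup G) : Set G)) ≤ Cfsg.inducedFunctor (G := G) W₁ (S : Subgroup G) ⊓ Cfsg.inducedFunctor (G := G) W₂ (S : Subgroup G)) (N₁ : Subgroup G) (hN₁ : N₁ = Subgroup.normalizer ((Cfsg.inducedFunctor (G := G) W₁ (S : Subgroup G) : Subgroup G) : Set G)) (A : Subgroup G) (hA : A = (Subgroup.normalClosure (((Cfsg.omegaOne p ((S : Subgroup G) ⊓ Subgroup.centralizer (((S : Subgroup G) : Subgroup G) : Set G))).subgroupOf N₁ : Subgroup ↥N₁) : Set ↥N₁)).map N₁.subtype) : A ≤ (S : Subgroup G) ∧ Cfsg.IsElementaryAbelian p A ∧ Cfsg.IsStronglyClosed A (S : Subgroup G) ∧ Cfsg.ControlsStrongFusion p A := by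
  have h1 := CfsgH9.sfun_of_char hW₁
  have h2 := CfsgH9.sfun_of_char hW₂
  have hW : ∀ W ∈ ({CfsgH9.ind W₁, CfsgH9.ind W₂} : Set _), CfsgH9.SFun p W := by
    rintro _ (rfl | rfl); exacts [h1, h2]
  have hG : CfsgH9.GenS False p _ G := CfsgH9.genS_of_sections hW (fun K R _ hc _ _ T => CfsgH9.gen_of_factor
    (.of_sylow_top T) (le_inf le_top (h1.le_normalizer T)) (le_inf le_top (h2.le_normalizer T))
    (CfsgH9.mem_loc_at.2 ⟨_, Or.inl rfl, rfl⟩) (CfsgH9.mem_loc_at.2 ⟨_, Or.inr rfl, rfl⟩)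
    (by simp only [top_inf_eq]; exact (hfac K R hc T).2.2)) G CfsgH9.sec_self
  set Z := omegaOne p ((S : Subgroup G) ⊓ Subgroup.centralizer ((S : Subgroup G) : Set G))
  set U₁ := inducedFunctor (G := G) W₁ S
  set U₂ := inducedFunctor (G := G) W₂ S
  have u1 : U₁ ≤ S := h1.le _
  have u2 : U₂ ≤ S := h2.le _
  have s1 : (S : Subgroup G) ≤ Subgroup.normalizer (U₁ : Set G) := h1.le_normalizer S
  have s2 : (S : Subgroup G) ≤ Subgroup.normalizer (U₂ : Set G) := h2.le_normalizer S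
  have f1 := fun x => (CfsgH9.qfac_of_sections CfsgH9.sfun_omega_Z h2 (fun K R _ hc T _ => (hfac K R hc T).2.1) _
    (CfsgH9.sec_subgroup (Subgroup.normalizer (U₁ : Set G)))).sub CfsgH9.sfun_omega_Z h2 (.of_sylow S s1)
    ((hZ.trans inf_le_left).trans (CfsgH9.le_pCoreOf (u1.trans s1) le_rfl (S.isPGroup'.to_le u1))) (x := x)
  have f2 := fun x => (CfsgH9.qfac_of_sections CfsgH9.sfun_omega_Z h1 (fun K R _ hc T _ => (hfac K R hc T).1) _
    (CfsgH9.sec_subgroup (Subgroup.normalizer (U₂ : Set G)))).sub CfsgH9.sfun_omega_Z h1 (.of_sylow S s2)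
    ((hZ.trans inf_le_right).trans (CfsgH9.le_pCoreOf (u2.trans s2) le_rfl (S.isPGroup'.to_le u2))) (x := x)
  set B := Subgroup.closure {y | ∃ b ∈ Subgroup.normalizer (U₁ : Set G) ⊓ Subgroup.normalizer (U₂ : Set G),
    ∃ z ∈ Z, y = b * z * b⁻¹}
  have key : ∀ N : Subgroup G, Subgroup.normalizer (U₁ : Set G) ⊓ Subgroup.normalizer (U₂ : Set G) ≤ N →
      (∀ x ∈ N, ∃ a ∈ Subgroup.centralizer (Z : Set G),
        ∃ b ∈ Subgroup.normalizer (U₁ : Set G) ⊓ Subgroup.normalizer (U₂ : Set G), x = a * b) →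
      N ≤ Subgroup.normalizer (B : Set G) := fun N k1 k2 x hx =>
    CfsgH2.mem_normalizer_of_cj_le (CfsgH9.cj_closure_le.2 (by
      rintro _ ⟨_, ⟨b, hb, z, hz, rfl⟩, rfl⟩
      obtain ⟨a, ha, c, hc, e⟩ := k2 _ (inv_mem (mul_mem hx (k1 hb)))
      refine Subgroup.subset_closure ⟨c⁻¹, inv_mem hc, z, hz, ?_⟩
      calc _ = (x * b)⁻¹⁻¹ * z * (x * b)⁻¹ := by group
        _ = c⁻¹ * a⁻¹ * (z * a) * c := by rw [e]; group
        _ = _ := by rw [ha z hz]; group))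
  have n1 := key _ inf_le_left fun x hx => (f1 x hx).imp fun a ⟨h, b, hb, e⟩ => ⟨h.2, b, hb, e⟩
  have n2 := key _ inf_le_right fun x hx => (f2 x hx).imp fun a ⟨h, b, hb, e⟩ => ⟨h.2, b, ⟨hb.2, hb.1⟩, e⟩
  have hZB : Z ≤ B := fun z hz => Subgroup.subset_closure ⟨1, one_mem _, z, hz, by group⟩
  have hZ1 : Z ≤ N₁ := hN₁ ▸ (hZ.trans inf_le_left).trans (u1.trans s1)
  have hB : B ≤ omegaOne p (U₁ ⊓ Subgroup.centralizer (U₁ : Set G)) := (Subgroup.closure_le _).2 (by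
    rintro _ ⟨b, hb, z, hz, rfl⟩
    refine CfsgH9.conj_mem_of_mem_normalizer (CfsgH9.sfun_omega_Z.normalizer_le (S.isPGroup'.to_le u1) hb.1)
      ((show Z ≤ omegaOne p (U₁ ⊓ Subgroup.centralizer (U₁ : Set G)) from (Subgroup.closure_le _).2 fun y hy =>
        Subgroup.subset_closure ⟨⟨(hZ (Subgroup.subset_closure hy)).1, Subgroup.centralizer_le u1 hy.1.2⟩, hy.2⟩) hz))
  have hBS : B ≤ S := hB.trans ((CfsgH9.sfun_omega_Z.le U₁).trans u1)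
  have e : A = B := by
    subst hN₁
    have : (B.subgroupOf (Subgroup.normalizer (U₁ : Set G))).Normal :=
      (Subgroup.normal_subgroupOf_iff_le_normalizer (hBS.trans s1)).2 n1
    refine hA ▸ le_antisymm (Subgroup.map_le_iff_le_comap.2 (Subgroup.normalClosure_le_normal
      (N := B.subgroupOf _) fun z hz => hZB hz)) ((Subgroup.closure_le _).2 ?_)
    rintro _ ⟨b, hb, z, hz, rfl⟩
    exact ⟨_, Subgroup.normalClosure_normal.conj_mem ⟨z, hZ1 hz⟩ (Subgroup.subset_normalClosure hz) ⟨b, hb.1⟩, rfl⟩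
  have c : CfsgH9.Ctrl ⊤ S (Subgroup.normalizer (B : Set G)) := hG S _ ⟨CfsgH9.fr_Rl _, False.elim⟩ fun M hM => by
    obtain ⟨_, rfl | rfl, rfl⟩ := CfsgH9.mem_loc_at.1 hM
    exacts [CfsgH9.ctrl_of_le (inf_le_right.trans n1), CfsgH9.ctrl_of_le (inf_le_right.trans n2)]
  have hE := CfsgH9.ea_omegaOne_of_comm (V := U₁ ⊓ Subgroup.centralizer (U₁ : Set G))
    ⟨⟨fun a b => Subtype.ext (b.2.2 a a.2.1)⟩⟩ p
  rw [e]
  refine ⟨hBS, ⟨⟨⟨fun a b => Subtype.ext (Subtype.ext_iff.1 (hE.1.1.1 ⟨a, hB a.2⟩ ⟨b, hB b.2⟩) :)⟩⟩,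
    fun a ha => hE.2 a (hB ha)⟩, ⟨hBS, fun x hx g hg => ?_⟩, c.controlsStrongFusion S hBS⟩
  obtain ⟨v, hv, k⟩ := c.elt x (hBS hx) g (Subgroup.mem_top g) hg
  exact k ▸ CfsgH9.conj_mem_of_mem_normalizer hv hx

end Cfsg.Agent.S1997
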