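import Cfsg.Statements.S2009
import Cfsg.Agent.H2.Large

set_option autoImplicit false
open Cfsg

namespace Cfsg.Agent.S2009

/-- Let H be a finite group and z an involution such that every proper normal subgroup of H meets the centralizer of z trivially, and suppose z lies in a Klein four-subgroup E of H all three of whose involutions are conjugate to z in H. Then H is simple. -/
theorem result {H : Type*} [Group H] [Finite H] (z : H) (hz : orderOf z = 2) (hN : ∀ N : Subgroup H, N.Normal → N ≠ ⊤ → N ⊓ Subgroup.centralizer ({z} : Set H) = ⊥) (E : Subgroup H) (hE : IsKleinFour ↥E) (hzE : z ∈ E) (hc : ∀ e ∈ E, e ≠ 1 → IsConj z e) : IsSimpleGroup H := by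
  open Subgroup CfsgH2 in
  have z1 : z ≠ 1 := fun e => by simp [e] at hz
  haveI : Nontrivial H := ⟨⟨z, 1, z1⟩⟩
  refine ⟨fun N _ => or_iff_not_imp_right.2 fun h => ?_⟩
  have k : ∀ e ∈ E, e ≠ 1 → ∀ n ∈ N, Commute n e → n = 1 := fun e he e1 n n1 c => by
    obtain ⟨g, rfl⟩ := isConj_iff.1 (hc e he e1)
    have := mem_bot.1 ((hN N ‹_› h).le ⟨Normal.conj_mem' ‹_› n n1 g, mem_centralizer_singleton_iff.2 (by
      calc _ = g⁻¹ * (n * (g * z * g⁻¹)) * g := by group
        _ = _ := by rw [c.eq]; group)⟩)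
    simpa [mul_assoc, inv_mul_eq_one] using this
  have sq : ∀ e ∈ E, e * e = 1 := fun e he => congrArg Subtype.val (IsKleinFour.mul_self (⟨e, he⟩ : E))
  obtain ⟨t, t1, t2, t3⟩ := exists_of_kleinFour hE hzE
  refine eq_bot_of_fpf (MonoidHom.FixedPointFree.odd_card_of_involutive (φ := MulAut.conjNormal z) (fun n e => Subtype.ext
    (k z hzE z1 n n.2 (mul_inv_eq_iff_eq_mul.1 (congrArg Subtype.val e)).symm)) fun n => ?_) (sq z hzE) (sq t t1)
    (le_normalizer_of_normal (mem_top _)) (le_normalizer_of_normal (mem_top _)) (k z hzE z1) (k t t1 t2)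
    (k _ (mul_mem hzE t1) fun e => t3 ((eq_inv_of_mul_eq_one_right e).trans (inv_eq_of_mul_eq_one_right (sq z hzE))))
  rw [← MulAut.mul_apply, ← map_mul, sq z hzE, map_one, MulAut.one_apply]

end Cfsg.Agent.S2009
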