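import Cfsg.Statements.S2015
import Cfsg.Agent.H9.KInf2

set_option autoImplicit false
universe u
open Cfsg

namespace Cfsg.Agent.S2015

/-- For p ≥ 5, every finite p-group P has a characteristic subgroup K containing Z(P), depending only on P, whose normalizer controls transfer wherever P is a Sylow subgroup: for every finite group G and every embedding ι of P onto a Sylow p-subgroup of G, the intersection of ι(P) with the derived subgroup of G equals its intersection with the derived subgroup of N_G(ι(K)). -/
theorem result (p : ℕ) [Fact p.Prime] (hp : 5 ≤ p) (P : Type u) [Group P] [Finite P] (hP : IsPGroup p P) : ∃ K : Subgroup P, K.Characteristic ∧ Subgroup.center P ≤ K ∧ ∀ (G : Type u) [Group G] [Finite G] (ι : P →* G), Function.Injective ι → (∃ T : Sylow p G, (T : Subgroup G) = ι.range) → ι.range ⊓ commutator G = ι.range ⊓ (commutator ↥(Subgroup.normalizer ((K.map ι : Subgroup G) : Set G))).map (Subgroup.normalizer ((K.map ι : Subgroup G) : Set G)).subtype := by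
  refine ⟨kInfLower P, Subgroup.characteristic_iff_map_eq.2 fun φ => ?_, ?_, fun G _ _ ι hι ⟨T, hT⟩ => ?_⟩
  · have := CfsgH9.map_kL (H := ⊤) (f := φ.toMonoidHom) φ.injective
    rwa [Subgroup.map_top_of_surjective _ φ.surjective, CfsgH9.kL_top] at this
  · rw [← CfsgH9.kL_top]
    exact le_trans (le_inf le_top (Subgroup.center_le_centralizer _)) CfsgH9.zc_le_kL
  · rw [← CfsgH9.kL_top, CfsgH9.map_kL hι, ← MonoidHom.range_eq_map, ← hT, Subgroup.map_subtype_commutator]
    exact (CfsgH9.genS_single_true' CfsgH9.sfun_kL T).1 (CfsgH9.isK_kL.transfer hp G)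

end Cfsg.Agent.S2015
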