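import Cfsg.Statements.S2039
import Cfsg.Agent.H3.J1b
import Cfsg.Agent.H7.Sch

set_option autoImplicit false
open Cfsg

namespace Cfsg.Agent.S2039

open CfsgPm.J1 CfsgH7 Subgroup commutatorElement
theorem ck : (∀ i j, mm (evc (le i)) (evc (le j)) = mm (evc (le j)) (evc (le i))) ∧
    (∀ i : Fin 8, i < 4 → i ≠ 0 → mm (evc 2) (evc (le i)) = mm (evc (le (i + 1))) (evc 2)) ∧
    ∀ u ∈ [((1 : Fin 8), (2 : Fin 8), (4 : Fin 8)), (2, 3, 5), (1, 5, 6), (1, 3, 7), (4, 4, 0)],
      mm (evc (le u.1)) (evc (le u.2.1)) = evc (le u.2.2) := by decide +kernel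
theorem xpE : Xp Spor.J1 21945 := fun Γ _ _ σ hσ z hz => by
  obtain ⟨X, hX⟩ := hσ.1 (ev 2)
  obtain ⟨a, h1⟩ := hσ.1 (ev (le 1))
  have cj : ∀ (u : Γ) (i : Fin 8), i < 4 → i ≠ 0 → σ u = ev (le i) → σ (X * u * X⁻¹) = ev (le (i + 1)) := fun u i l n h => by
    rw [map_mul, map_mul, map_inv, hX, h, mul_inv_eq_iff_eq_mul]
    exact eq_of (by rw [mul_val, mul_val, ck.2.1 i l n])
  have pm : ∀ {i j k}, (i, j, k) ∈ _ → ev (le i) * ev (le j) = ev (le k) := fun h => eq_of (by rw [mul_val, ck.2.2 _ h, ev_val])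
  have cen : ∀ {u v : Γ}, σ u ∈ E → σ v ∈ E → ∀ g, g * ⁅u, v⁆ * g⁻¹ = ⁅u, v⁆ := fun {u v} ⟨i, hi⟩ ⟨j, hj⟩ g => by
    rw [stem_comm hσ (z := ⁅u, v⁆) (by
      rw [MonoidHom.mem_ker, map_commutatorElement, commutatorElement_eq_one_iff_mul_comm, ← hi, ← hj]
      exact eq_of (by rw [mul_val, mul_val, ck.1])), mul_inv_cancel_right]
  have h2 := cj _ 1 (by decide) (by decide) h1
  have h3 := cj _ 2 (by decide) (by decide) h2
  have h4 := cj _ 3 (by decide) (by decide) h3
  have m1 : σ a ∈ E := ⟨_, h1.symm⟩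
  have m2 : σ _ ∈ E := ⟨_, h2.symm⟩
  have m3 : σ _ ∈ E := ⟨_, h3.symm⟩
  have m4 : σ _ ∈ E := ⟨_, h4.symm⟩
  have e1 := cen m1 m2 X
  have e2 := cen m2 m3 X
  have e3 := cen m1 m3 X
  rw [conjugate_commutatorElement] at e1 e2 e3
  generalize X * (X * (X * a * X⁻¹) * X⁻¹) * X⁻¹ = d at *
  generalize X * (X * a * X⁻¹) * X⁻¹ = c at *
  generalize X * a * X⁻¹ = b at *
  have k : ∀ u, σ u ∈ E → ⁅u, a⁆ * ⁅u, b⁆ * ⁅u, d⁆ = 1 := fun u m => by
    have : ⁅u, a * b * d⁆ = 1 := commutatorElement_eq_one_iff_mul_comm.2 (stem_comm hσ (by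
      rw [MonoidHom.mem_ker, map_mul, map_mul, h1, h2, h4, pm (i := 1) (j := 1 + 1) (k := 3 + 1) (by decide), sq]) u)
    rw [← this, ← cen m m4 (a * b), ← cen m m2 a]; simp only [commutatorElement_def]; group
  have ca : ⁅c, a⁆ = 1 := by
    have := k c m3
    rwa [e2, ← commutatorElement_inv b c, inv_mul_cancel_right] at this
  have ac : ⁅a, c⁆ = 1 := by rw [← commutatorElement_inv, ca, inv_one]
  have ba : ⁅b, a⁆ = 1 := by simpa [e3, ac] using k b m2
  have bc : ⁅b, c⁆ = 1 := by rw [e1, ← commutatorElement_inv, ba, inv_one]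
  rw [commutatorElement_eq_one_iff_mul_comm] at ac ba bc
  have := stem_pow hσ (K := E) (K' := Subgroup.closure {a, b, c}) (by
    rintro _ ⟨i, rfl⟩
    have n1 : ev (le 1) ∈ (Subgroup.closure {a, b, c}).map σ := ⟨a, subset_closure (by simp), h1⟩
    have n2 : ev (le 2) ∈ (Subgroup.closure {a, b, c}).map σ := ⟨b, subset_closure (by simp), h2⟩
    have n3 : ev (le 3) ∈ (Subgroup.closure {a, b, c}).map σ := ⟨c, subset_closure (by simp), h3⟩
    have n5 := pm (i := 2) (j := 3) (k := 5) (by simp) ▸ mul_mem n2 n3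
    fin_cases i
    exacts [one_mem _, n1, n2, n3, (pm (i := 1) (j := 2) (k := 4) (by simp) ▸ mul_mem n1 n2 :), n5, (pm (i := 1) (j := 5) (k := 6) (by simp) ▸ mul_mem n1 n5 :),
      (pm (i := 1) (j := 3) (k := 7) (by simp) ▸ mul_mem n1 n3 :)]) hz
  have i : E.index = 21945 := by have := E.card_mul_index; rw [card_E, card] at this; omega
  rwa [i, commutator_eq_bot_iff_le_centralizer.2 (by
    rw [centralizer_closure, closure_le]
    rintro _ (rfl | rfl | rfl) _ (rfl | rfl | rfl) <;> simp [ac, ba, bc]), mem_bot] at this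

/-- The Schur multiplier of the Janko group J₁ (the group generated by two explicit 7 × 7 matrices over the integers modulo 11) is trivial; here the Schur multiplier is described through stem extensions, as in the definitions: surjective homomorphisms onto the group from a finite group, whose kernel is central in that finite group and contained in that finite group's commutator subgroup. -/
theorem result : Cfsg.HasCyclicSchurMultiplier ↥Cfsg.Spor.J1 1 := by
  have x : ∀ {w n : ℕ}, ordc w n → Xp Spor.J1 (175560 / n) := fun {w n} h => by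
    have := (zpowers (ev w)).card_mul_index
    rw [Nat.card_zpowers, ord_ev h, card] at this
    rw [← this, Nat.mul_div_cancel_left _ h.1]; exact Xp.cyc _
  obtain ⟨-, -, o15, o7, o11, o19, -⟩ := os
  exact CfsgH1.hasSM_one_iff.2 (Xp.sm ((((xpE.gcd (x o15)).gcd (x o7)).gcd (x o11)).gcd (x o19)))

end Cfsg.Agent.S2039
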