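import Cfsg.Statements.S2041
import Cfsg.Agent.H7.J3.G

set_option autoImplicit false
open Cfsg

namespace Cfsg.Agent.S2041

open CfsgH7 MulAction
open scoped Pointwise symmDiff
set_option maxRecDepth 100000
set_option Elab.async false


/-- For any field with 4 elements and any element ω of it with ω² + ω + 1 = 0: the Schur multiplier of the Janko group J₃ (the group generated by explicit 9 × 9 matrices over that field built from ω, taken modulo its centre) is cyclic of order 3; here the Schur multiplier is described through stem extensions, as in the definitions: surjective homomorphisms onto the group from a finite group, whose kernel is central in that finite group and contained in that finite group's commutator subgroup. -/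
theorem result {F : Type*} [Field F] [Fintype F] (hF : Fintype.card F = 4) (ω : F) (hω : ω ^ 2 + ω + 1 = 0) : Cfsg.HasCyclicSchurMultiplier (Cfsg.Spor.J3 F ω) 3 := by
  obtain ⟨_, a, z, b, _, W, -, r, t⟩ := J3.full hF hω
  have hb := ((PrJ3.k2 r (card_of_top t b)).top t).kb (xp_card b)
  have e := QuotientGroup.ker_mk' (Subgroup.center (Spor.threeJ3 F ω))
  have : Fact (Nat.Prime 3) := ⟨by norm_num⟩
  exact hb.hasSM ⟨_, _, inferInstance, QuotientGroup.mk' _, ⟨QuotientGroup.mk'_surjective _, e.le, e.le.trans z⟩, ⟨MulEquiv.subgroupCongr e⟩⟩
    ⟨mulEquivOfPrimeCardEq a (by simp)⟩ (by simp)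

end Cfsg.Agent.S2041
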