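import Cfsg.Statements.S2044
import Cfsg.Agent.H7.Pr.C2p2
import Cfsg.Agent.H7.Pr.C2p3
import Cfsg.Agent.H7.Pr.C2p5
import Cfsg.Agent.H7.AuL
import Cfsg.Agent.H7.Iso2
import Cfsg.Agent.H7.Fus2

set_option autoImplicit false
open Cfsg

namespace Cfsg.Agent.S2044

open CfsgH7 MulAction
open scoped Pointwise symmDiff
set_option maxRecDepth 100000
set_option Elab.async false

open Le
variable {G Ω : Type*} [Group G] [MulAction G Ω]
def tsx2 : List ℕ := [0x42040402024202402420420242602020624204204020240420404262424642426202424040204020242020242020240420420242404040242020240404204202424040402420202404242024042020404204042042402404024040202404202400c0, 0x4020402420240420204040202424024204242042024242024042462642424626424240204020402024202424020242020424202404204202424040402420202404242024042020404204042042402404024040202404202400b0, 0x4640626046424024204242042040240264020204020204620420242420240424626424246264204204202424040402420202404240204020402024202424020242020424202404204202424040402420202404200a7, 0x2404202024204040424202402404202424020242020424202420204020402042404202024204040424202402402462642424626424042024242024026402020402020462042040240242402420424640626046400a7,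 0x42420402424020242024040242026462646024204240242046242464242620242420464020204020204624246264242462640064, 0x46264242462642426402020402020464024242026242464242640242042402420646264620242040420242020424204024240064, 0x242404240240242424046020206242424024204624246424262024242046402020402020464204020402402040204024020240420204042040420424024040240402024042024008e, 0x4202404202040420404204240240402404020240420204204020402042040204024640202040202046402424202624246424264024204242426020206404242420420424042420008e, 0x2420420202024202042420264626460242042402420462424642426202424204640202040202046020242020424042040204020404042424240204020402024202424020242020424200094, 0x202042040404240404204204024042404626064606264042042042024240404024202024042402040204020242024240202420204242024042042024240404024202024042008a, 0x24204040264040206062424260642426020206020402040202624246424262024242046402020402020464040460202062464626462426020206404042042042024240404024202024042402040204020242024240202420204242000b7, 0x2424020242020424202420204020402042404202024204040424202402402404046020206242646264642602020640404640202040202046402424202624246424262020402040206020206242460624242606020404620404024200b7]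
theorem okx2 : lall (okW Co2.A.tb.n) tsx2 = true := by decide +kernel
theorem qx20 : lall (fun r => (Co2.A.tb.rw tsx2).oneL [r]) PrC2p2.R0 = true := by decide +kernel
theorem qx21 : lall (fun r => (Co2.A.tb.rw tsx2).oneL [r]) PrC2p2.K1.T.rels = true := by decide +kernel
theorem qx22 : lall (fun r => (Co2.A.tb.rw tsx2).oneL [r]) PrC2p2.K2.T.rels = true := by decide +kernel
theorem qx23 : lall (fun r => (Co2.A.tb.rw tsx2).oneL [r]) PrC2p2.K3.T.rels = true := by decide +kernel
theorem qx24 : lall (fun r => (Co2.A.tb.rw tsx2).oneL [r]) PrC2p2.K4.T.rels = true := by decide +kernel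
theorem qx25 : lall (fun r => (Co2.A.tb.rw tsx2).oneL [r]) PrC2p2.K5.T.rels = true := by decide +kernel
theorem relx2 (W : WT Co2.A.tb G Ω) : ∀ r ∈ PrC2p2.R5, ev8 (W.gs tsx2) r = 1 := rels_append (rels_append (rels_append (rels_append (rels_append (((W.rw tsx2 okx2).orc rfl).rels qx20) (((W.rw tsx2 okx2).orc rfl).rels qx21)) (((W.rw tsx2 okx2).orc rfl).rels qx22)) (((W.rw tsx2 okx2).orc rfl).rels qx23)) (((W.rw tsx2 okx2).orc rfl).rels qx24)) (((W.rw tsx2 okx2).orc rfl).rels qx25)
theorem hc2 [Finite G] (W : WT Co2.A.tb G Ω) : Nat.card (cl (W.gs tsx2) 12) = 743178240 :=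
  le_antisymm (PrC2p2.p5 _ _ (relx2 W)) (W.card_ge okx2 9 [(1604, 28, [0x60001, 0x1]), (1605, 27, [0x1, 0x70290004]), (1626, 10, [0x20001, 0x853480005]), (1610, 8, [0x150840005, 0x959640005]), (2174, 4, [0x3739280006, 0x35394290007]), (1611, 3, [0x83979490007]), (1, 32, [0xa0001, 0x5a40003, 0x8a90003, 0x91a080005]), (40, 2, [0x9a80003]), (6, 2, [0x1b085a490008]), (7, 2, [0x30a18a920008]), (0, 4, [0x970716879134808a91a9a81b085a49001e])] (by decide +kernel))
theorem ix2 [Finite G] (W : WT Co2.A.tb G Ω) (a : Nat.card G = 42305421312000) : Nat.Coprime 262144 (cl (W.gs tsx2) 12).index := by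
  have := (cl (W.gs tsx2) 12).index_mul_card
  rw [hc2 W, a] at this
  rw [show (cl (W.gs tsx2) 12).index = 56925 by omega]
  norm_num
def wa : ℕ := 0x4640626046424024204242042040240264020204020204620420242420240424626424246264204204202424040402420202404240204020402024202424020242020424202404204202424040402420202404200a7
def wb : ℕ := 0x40202424626424246262420420402024042040426242464242620242420424240420602020602040424042042024240404024202024040420420242404040242020240420088
def wr : ℕ := 0x602064260240202046402420464040204040202020402040204204204024026402020402020464020402042420242040240602020624042042024240404024202024020086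
theorem kl2 [Finite G] (W : WT Co2.A.tb G Ω) (a : Nat.card G = 42305421312000) : Kl G (2 ^ 18) 1 1 := by
  have ha : W.ev wa ∈ cl (W.gs tsx2) 4 :=
    W.eqw okx2 (w := 0x20001) (v := wa) (by decide +kernel) ▸ evW_mem_cl (by decide +kernel)
  have hb : W.ev wb ∈ cl (W.gs tsx2) 4 :=
    W.eqw okx2 (w := 0x2113000008) (v := wb) (by decide +kernel) ▸ evW_mem_cl (by decide +kernel)
  have e : ∀ a b : ℕ, Co2.A.tb.eq2 a a b 0 = true → W.ev a ^ 2 = W.ev b := fun a b h => by
    rw [pow_two, W.eq2 h, W.ev_zero, mul_one]
  have n : ∀ a b : ℕ, W.ev a * W.ev 0 ≠ W.ev b * W.ev 0 → W.ev a ≠ W.ev b := fun a b h e => h (by rw [e])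
  have a1 := (e wa 0 (by decide +kernel)).trans W.ev_zero
  have a2 := (e wb 0 (by decide +kernel)).trans W.ev_zero
  have a3 := W.eq2 (a := wa) (b := wb) (c := wb) (d := wa) (by decide +kernel)
  have a4 := n wa 0 (W.not_eq2 (q := 1) (by decide +kernel))
  have a5 := n wb 0 (W.not_eq2 (q := 1) (by decide +kernel))
  have a6 := n wa wb (W.not_eq2 (q := 1) (by decide +kernel))
  have a7 := e wr wa (by decide +kernel)
  have a8 := W.eq2 (a := wr) (b := wb) (c := wb) (d := wr) (by decide +kernel)
  rw [W.ev_zero] at a4 a5
  generalize W.ev wa = x at *
  generalize W.ev wb = y at *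
  have h := PrC2p2.g5 (relx2 W) (hc2 W) ha hb fun c => Kg.klein c (Subtype.ext a1) (Subtype.ext a2)
    (Subtype.ext a3) (fun h => a4 (congrArg Subtype.val h)) (fun h => a5 (congrArg Subtype.val h))
    (fun h => a6 (congrArg Subtype.val h)) 18
  exact (Kg.nsp (Ls.cop1 (ix2 W a)) (PrC2p2.f5 (relx2 W)) h).root a7 a8
def tsx3 : List ℕ := [0x2064026242020420424020242024042042040240424240242042464020204020204640420602020602646264620402404240063, 0x26206064264020404042024202402402420462424642426202424204640202040202046242402404240204020424042040061, 0x26260240264242042024624246424260420402402602020624204204020240420402042040240426020206404040424024242040242404204202424040402420202404242024042020404204042042402404024040202404202400b4, 0x42024042020404204042042402404024040202404202424042020242040404242024024042420402424204240404046020206240420402402040240420204024024260202062042040240624246424264202402424620420626200b4, 0x262606026020240402646264620246462646420420420402402404064626462040240424204204202424040402420202404240204020402024202424020242020424202404204202424040402420202404200a3, 0x240420202420404042420240240420242402024202042420242020402040204240420202420404042420240240242404204026462646040420420402402402464626464202646264620404202062060626200a3]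
theorem okx3 : lall (okW Co2.A.tb.n) tsx3 = true := by decide +kernel
theorem qx30 : lall (fun r => (Co2.A.tb.rw tsx3).oneL [r]) PrC2p3.R0 = true := by decide +kernel
theorem qx31 : lall (fun r => (Co2.A.tb.rw tsx3).oneL [r]) PrC2p3.K1.T.rels = true := by decide +kernel
theorem qx32 : lall (fun r => (Co2.A.tb.rw tsx3).oneL [r]) PrC2p3.K2.T.rels = true := by decide +kernel
theorem relx3 (W : WT Co2.A.tb G Ω) : ∀ r ∈ PrC2p3.R2, ev8 (W.gs tsx3) r = 1 := rels_append (rels_append (((W.rw tsx3 okx3).orc rfl).rels qx30) (((W.rw tsx3 okx3).orc rfl).rels qx31)) (((W.rw tsx3 okx3).orc rfl).rels qx32)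
theorem hc3 [Finite G] (W : WT Co2.A.tb G Ω) : Nat.card (cl (W.gs tsx3) 6) = 466560 :=
  le_antisymm (PrC2p3.p2 _ _ (relx3 W)) (W.card_ge okx3 9 [(63, 5, [0x1]), (269, 4, [0x500002, 0x420002]), (502, 3, [0x510003]), (0, 108, [0x25250004, 0x30300004, 0x21210004]), (59, 6, [0x4214210006, 0x5212140006, 0x1421420006]), (7, 2, [0x1421420006]), (3, 3, [0x2152121403000a, 0x41212511000a]), (1, 2, [0x41212511000a])] (by decide +kernel))
theorem ix3 [Finite G] (W : WT Co2.A.tb G Ω) (a : Nat.card G = 42305421312000) : Nat.Coprime 729 (cl (W.gs tsx3) 6).index := by
  have := (cl (W.gs tsx3) 6).index_mul_card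
  rw [hc3 W, a] at this
  rw [show (cl (W.gs tsx3) 6).index = 90675200 by omega]
  norm_num
theorem kl3 [Finite G] (W : WT Co2.A.tb G Ω) (a : Nat.card G = 42305421312000) : Kl G 729 1 1 :=
  (PrC2p3.k2 (relx3 W) (hc3 W)).sub2 (ix3 W a)
def tsx5 : List ℕ := [0x20404260424024024024042424204204260604204024640242024204204020240420404262424642426202424240460202062646264020206404042424020402040202420242402024202042420009c, 0x40260426242424026062424260646020206242404020240420242420420402024042040426242464242620242420202404202040420404204240240402404020240420240089, 0x264246026202404240202420240424204024042040204204024024046260646062640424240204020402024202424020242020424204202404202040420404204240240402404020240420240098, 0x2642060264202420242404242020424204024240202020402040204640202040202046242420424042424042402424240204020402024202424020242020424200081]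
theorem okx5 : lall (okW Co2.A.tb.n) tsx5 = true := by decide +kernel
theorem qx50 : lall (fun r => (Co2.A.tb.rw tsx5).oneL [r]) PrC2p5.R0 = true := by decide +kernel
theorem qx51 : lall (fun r => (Co2.A.tb.rw tsx5).oneL [r]) PrC2p5.K1.T.rels = true := by decide +kernel
theorem relx5 (W : WT Co2.A.tb G Ω) : ∀ r ∈ PrC2p5.R1, ev8 (W.gs tsx5) r = 1 := rels_append (((W.rw tsx5 okx5).orc rfl).rels qx50) (((W.rw tsx5 okx5).orc rfl).rels qx51)
theorem hc5 [Finite G] (W : WT Co2.A.tb G Ω) : Nat.card (cl (W.gs tsx5) 4) = 375 :=
  le_antisymm (PrC2p5.p1 _ _ (relx5 W)) (W.card_ge okx5 9 [(9, 75, [0x1, 0x20001]), (0, 5, [0x3130004])] (by decide +kernel))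
theorem ix5 [Finite G] (W : WT Co2.A.tb G Ω) (a : Nat.card G = 42305421312000) : Nat.Coprime 125 (cl (W.gs tsx5) 4).index := by
  have := (cl (W.gs tsx5) 4).index_mul_card
  rw [hc5 W, a] at this
  rw [show (cl (W.gs tsx5) 4).index = 112814456832 by omega]
  norm_num
theorem kl5 [Finite G] (W : WT Co2.A.tb G Ω) (a : Nat.card G = 42305421312000) : Kl G 125 1 1 :=
  (PrC2p5.k1 (relx5 W) (hc5 W)).sub2 (ix5 W a)

/-- The Schur multiplier of the Conway group Co₂ (the stabiliser of a minimal vector of the rank-24 lattice) is trivial; here the Schur multiplier is described through stem extensions, as in the definitions: surjective homomorphisms onto the group from a finite group, whose kernel is central in that finite group and contained in that finite group's commutator subgroup. -/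
theorem result : Cfsg.HasCyclicSchurMultiplier ↥Cfsg.Spor.Co2 1 := by
  obtain ⟨a, W, -⟩ := full2
  have : Finite (Fx [cU]) := Nat.finite_of_card_ne_zero (by rw [a]; norm_num)
  have h := (kl2 W a).mul ((kl3 W a).mul (kl5 W a) (by norm_num)) (by norm_num)
  have h' : Kl (Fx [cU]) 42305421312000 1 1 := Kl.red (xp_cauchy (p := 7) (m := 6043631616000) (by norm_num) a)
    (Kl.red (xp_cauchy (p := 11) (m := 3845947392000) (by norm_num) a)
      (Kl.red (xp_cauchy (p := 23) (m := 1839366144000) (by norm_num) a) (h.dvd (by decide +kernel))))
  have := Finite.of_equiv _ iso2.toEquiv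
  exact CfsgH1.hasSM_one_iff.mpr ((h'.kb (xp_card a)).congr iso2).sm

end Cfsg.Agent.S2044
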