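import Cfsg.Statements.S2045
import Cfsg.Agent.H7.Pr.C3p2
import Cfsg.Agent.H7.Pr.C3p3
import Cfsg.Agent.H7.Pr.C3p5
import Cfsg.Agent.H7.AuL
import Cfsg.Agent.H7.Iso2

set_option autoImplicit false
open Cfsg

namespace Cfsg.Agent.S2045

open CfsgH7 MulAction
open scoped Pointwise symmDiff
set_option maxRecDepth 100000
set_option Elab.async false

open Le
variable {G Ω : Type*} [Group G] [MulAction G Ω]
def tsx2 : List ℕ := [0x26064060204240202420202024262464642620260606060640402024020240402024020402042620602026202060262402040204202006b, 0x20240204020426206020262020602624020402042020404202042020404606060606202624646426242020202420204240206046062006b, 0x24640262040240204024204020426246464264202040420242460262064242026060606062020424020204240242020242402020240204020424020204240242400082, 0x4242042402020424020402042020204242020242042402020424020260606060620242460262064242024040202462464642624020402420402042040262046420082, 0x4646402024024240420204626202640206404242404020242402042420260606060620204240202042402424024204020202040602620604240424040079, 0x26260642024060462402064240402404020242420402402404240424060262060402020204024204020242402020240204020424020204240242400076,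 0x460642042040240202404020404024020420404042420204042024202024204242404240204242020424242042020242020202404242042402020424020402042020204242020400090, 0x20262624024042024602620624202640262046420202404024040202602620620204046060606062402042020204242020400064, 0x402642024240202424024202042020424020424242420204042040424240402024240204242024040202402024202424024046206026424204242042402020424020402042020204242020400098, 0x40202424020202402040204240202042402424024246206026404204242024202042020404202424020424202040424240402404020242424240204240202402024204242020424202462040098]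
theorem okx2 : lall (okW Co3.A.tb.n) tsx2 = true := by decide +kernel
theorem qx20 : lall (fun r => (Co3.A.tb.rw tsx2).oneL [r]) PrC3p2.R0 = true := by decide +kernel
theorem qx21 : lall (fun r => (Co3.A.tb.rw tsx2).oneL [r]) PrC3p2.K1.T.rels = true := by decide +kernel
theorem qx22 : lall (fun r => (Co3.A.tb.rw tsx2).oneL [r]) PrC3p2.K2.T.rels = true := by decide +kernel
theorem qx23 : lall (fun r => (Co3.A.tb.rw tsx2).oneL [r]) PrC3p2.K3.T.rels = true := by decide +kernel
theorem qx24 : lall (fun r => (Co3.A.tb.rw tsx2).oneL [r]) PrC3p2.K4.T.rels = true := by decide +kernel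
theorem relx2 (W : WT Co3.A.tb G Ω) : ∀ r ∈ PrC3p2.R4, ev8 (W.gs tsx2) r = 1 := rels_append (rels_append (rels_append (rels_append (((W.rw tsx2 okx2).orc rfl).rels qx20) (((W.rw tsx2 okx2).orc rfl).rels qx21)) (((W.rw tsx2 okx2).orc rfl).rels qx22)) (((W.rw tsx2 okx2).orc rfl).rels qx23)) (((W.rw tsx2 okx2).orc rfl).rels qx24)
theorem hc2 [Finite G] (W : WT Co3.A.tb G Ω) : Nat.card (cl (W.gs tsx2) 10) = 2903040 :=
  le_antisymm (PrC3p2.p4 _ _ (relx2 W)) (W.card_ge okx2 6 [(3, 36, [0x80001, 0x1]), (27, 35, [0x40001, 0x1]), (52, 16, [0x4060003, 0x1600003]), (76, 6, [0x3620004]), (165, 2, [0x4355110006]), (28, 3, [0x3165640006]), (47, 2, [0x7096848028000a]), (0, 2, [0x330002])] (by decide +kernel))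
theorem kl2 [Finite G] (W : WT Co3.A.tb G Ω) (a : Nat.card G = 495766656000) : Kl G 1024 1 1 :=
  (PrC3p2.k4 (relx2 W) (hc2 W)).sub2 (by
    have := (cl (W.gs tsx2) 10).index_mul_card
    rw [hc2 W, a] at this
    rw [show (cl (W.gs tsx2) 10).index = 170775 by omega]
    norm_num)
def tsx3 : List ℕ := [0x264606204202404262404240426402402402424024040420242026042420204042024206026060606062020424020204240242404042404240602620604020202040242040202424020202402040204240202042402424000b0, 0x406024202426404640462040404042420242040424204242020404204202420242402424202404040404240424060262060402020204024204020242402020240204020424020204240242400099, 0x646202602024024040242040204040240204624240242606242420204042060204626026260242420240204024204020202040602620604240424040077, 0x604060240242040424040402042040420242024020402424240240242620602424024620240402024020242024240240462060264242006d, 0x46062624024042024204042020404242024204042420242024042024262464642604202402420404020240202420242402404620602642420070, 0x24246206026404204242024202042020404024204202406246464262420240420242024240402420242404020240402420240420426260640070, 0x424606242040424040402020240420424024024042040242026042420204042024206026060606062020424020204240242402042042420204242420420202420202024040202424020202402040204240202042402424000af,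 0x26462604024020420240202040202420404202420240204060262064042042042424024020204242042402020424020402042020204242020400073]
theorem okx3 : lall (okW Co3.A.tb.n) tsx3 = true := by decide +kernel
theorem qx30 : lall (fun r => (Co3.A.tb.rw tsx3).oneL [r]) PrC3p3.R0 = true := by decide +kernel
theorem qx31 : lall (fun r => (Co3.A.tb.rw tsx3).oneL [r]) PrC3p3.K1.T.rels = true := by decide +kernel
theorem qx32 : lall (fun r => (Co3.A.tb.rw tsx3).oneL [r]) PrC3p3.K2.T.rels = true := by decide +kernel
theorem qx33 : lall (fun r => (Co3.A.tb.rw tsx3).oneL [r]) PrC3p3.K3.T.rels = true := by decide +kernel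
theorem relx3 (W : WT Co3.A.tb G Ω) : ∀ r ∈ PrC3p3.R3, ev8 (W.gs tsx3) r = 1 := rels_append (rels_append (rels_append (((W.rw tsx3 okx3).orc rfl).rels qx30) (((W.rw tsx3 okx3).orc rfl).rels qx31)) (((W.rw tsx3 okx3).orc rfl).rels qx32)) (((W.rw tsx3 okx3).orc rfl).rels qx33)
theorem hc3 [Finite G] (W : WT Co3.A.tb G Ω) : Nat.card (cl (W.gs tsx3) 8) = 3849120 :=
  le_antisymm (PrC3p3.p3 _ _ (relx3 W)) (W.card_ge okx3 6 [(7, 33, [0x20001, 0x60001]), (47, 2, [0x5730003]), (11, 30, [0x70001, 0x3140003, 0x1400003]), (93, 2, [0x6113420006]), (0, 27, [0x33040004, 0x126300005]), (244, 2, [0x7126140360009]), (4, 6, [0x73041260007, 0x2562435330009]), (1, 3, [0x124340037217000c])] (by decide +kernel))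
theorem kl3 [Finite G] (W : WT Co3.A.tb G Ω) (a : Nat.card G = 495766656000) : Kl G 2187 1 1 :=
  (PrC3p3.k3 (relx3 W) (hc3 W)).sub2 (by
    have := (cl (W.gs tsx3) 8).index_mul_card
    rw [hc3 W, a] at this
    rw [show (cl (W.gs tsx3) 8).index = 128800 by omega]
    norm_num)
def tsx5 : List ℕ := [0x26206460420204624042404262424042020404242402042040202020406026206042404240404242042402020424020402042020204242020400073, 0x4020242402020240204020424020204240242404042404240602620604020202040240204242404020240424262404240426402024064602620073, 0x2026064204204024020240420204240402420420202404242420204042404042024242042420242024026060606062020424020204240242402024020402042620602026202060262402040204202040202424020202402040204240202042402424000c5, 0x24620424040240242402404024204202024020204242020240424202024202420420424202042424204202024202020240424204240202042402040204202020424202040008a]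
theorem okx5 : lall (okW Co3.A.tb.n) tsx5 = true := by decide +kernel
theorem qx50 : lall (fun r => (Co3.A.tb.rw tsx5).oneL [r]) PrC3p5.R0 = true := by decide +kernel
theorem qx51 : lall (fun r => (Co3.A.tb.rw tsx5).oneL [r]) PrC3p5.K1.T.rels = true := by decide +kernel
theorem relx5 (W : WT Co3.A.tb G Ω) : ∀ r ∈ PrC3p5.R1, ev8 (W.gs tsx5) r = 1 := rels_append (((W.rw tsx5 okx5).orc rfl).rels qx50) (((W.rw tsx5 okx5).orc rfl).rels qx51)
theorem hc5 [Finite G] (W : WT Co3.A.tb G Ω) : Nat.card (cl (W.gs tsx5) 4) = 375 :=
  le_antisymm (PrC3p5.p1 _ _ (relx5 W)) (W.card_ge okx5 6 [(1, 75, [0x1, 0x20001]), (0, 5, [0x20310004])] (by decide +kernel))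
theorem kl5 [Finite G] (W : WT Co3.A.tb G Ω) (a : Nat.card G = 495766656000) : Kl G 125 1 1 :=
  (PrC3p5.k1 (relx5 W) (hc5 W)).sub2 (by
    have := (cl (W.gs tsx5) 4).index_mul_card
    rw [hc5 W, a] at this
    rw [show (cl (W.gs tsx5) 4).index = 1322044416 by omega]
    norm_num)

/-- The Schur multiplier of the Conway group Co₃ (the stabiliser of a vector of the second shortest length in the rank-24 lattice) is trivial; here the Schur multiplier is described through stem extensions, as in the definitions: surjective homomorphisms onto the group from a finite group, whose kernel is central in that finite group and contained in that finite group's commutator subgroup. -/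
theorem result : Cfsg.HasCyclicSchurMultiplier ↥Cfsg.Spor.Co3 1 := by
  obtain ⟨a, W, -⟩ := full3
  have : Finite (Fx [cV]) := Nat.finite_of_card_ne_zero (by rw [a]; norm_num)
  have h := (kl2 W a).mul ((kl3 W a).mul (kl5 W a) (by norm_num)) (by norm_num)
  have h' : Kl (Fx [cV]) 495766656000 1 1 := Kl.red (xp_cauchy (p := 7) (m := 70823808000) (by norm_num) a)
    (Kl.red (xp_cauchy (p := 11) (m := 45069696000) (by norm_num) a)
      (Kl.red (xp_cauchy (p := 23) (m := 21555072000) (by norm_num) a) (h.dvd (by decide +kernel))))
  have := Finite.of_equiv _ iso3.toEquiv
  exact CfsgH1.hasSM_one_iff.mpr ((h'.kb (xp_card a)).congr iso3).sm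

end Cfsg.Agent.S2045
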