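import Cfsg.Statements.S2065
import Cfsg.Agent.H3.J1c

set_option autoImplicit false
open Cfsg

namespace Cfsg.Agent.S2065

open CfsgPm.J1 CfsgH7 Subgroup Spor
noncomputable def wd {G : Type*} [Monoid G] (a b : G) (w : ℕ) : G := Nat.rec 1 (fun i r => ite' (tb w i) b a * r) w.log2
noncomputable def wdc (a b w : ℕ) : ℕ := Nat.rec c1 (fun i r => mm (ite' (tb w i) b a) r) w.log2
theorem wd_val {a b : J1} {c d : ℕ} (ha : a.1.1 = toM c) (hb : b.1.1 = toM d) (w : ℕ) : (wd a b w).1.1 = toM (wdc c d w) := by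
  unfold wd wdc
  induction w.log2 with
  | zero => exact toM_c.1.symm
  | succ n ih =>
    show (ite' (tb w n) b a).1.1 * _ = toM (mm _ _)
    rw [toM_mm, ← ih]
    cases tb w n
    exacts [congrArg (· * _) ha, congrArg (· * _) hb]
theorem wd_mem {G : Type*} [Group G] {N : Subgroup G} {a b : G} (ha : a ∈ N) (hb : b ∈ N) (w : ℕ) : wd a b w ∈ N := by
  unfold wd
  induction w.log2 with
  | zero => exact one_mem _
  | succ n ih => exact mul_mem (by cases tb w n; exacts [ha, hb]) ih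
theorem top {N : Subgroup J1} (x : ev 2 ∈ N) (y : ev 3 ∈ N) (g : J1) : g ∈ N := by
  obtain ⟨a, ha, e⟩ := (closure_le (N.map (J1).subtype)).2 (by
    rintro _ (rfl | rfl)
    exacts [⟨_, x, mul_one _⟩, ⟨_, y, mul_one _⟩]) g.2
  exact Subtype.ext e ▸ ha
attribute [local irreducible] ev evc mm
theorem syl {p n : ℕ} (hp : p.Prime) (K : Subgroup J1) (hK : Nat.card K = p ^ n) (hn : n = padicValNat p 175560) {g : J1}
    (h : orderOf g = p) : ∃ u : J1, ∃ k ∈ K, g = u * k * u⁻¹ := by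
  haveI := Fact.mk hp
  obtain ⟨R, hR⟩ := (IsPGroup.of_card (n := 1) (G := zpowers g) (p := p) (by rw [Nat.card_zpowers, h, pow_one])).exists_le_sylow
  obtain ⟨u, rfl⟩ := MulAction.exists_smul_eq J1 (Sylow.ofCard (p := p) K (by rw [hK, card, Nat.factorization_def _ hp, hn])) R
  obtain ⟨k, hk, e⟩ := hR (mem_zpowers g)
  exact ⟨u, k, hk, e.symm⟩
theorem c1' : all (fun i => force (mt CL i) fun c => force (mm (evc 2) c) fun u => force (mm u (mm u u)) fun r => ok r &&ₙ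
    (bnot (r =ₙ c1) ||ₙ force (pw (mm (pw (evc 2) 3) c) 19) fun s => ok s &&ₙ (bnot (s =ₙ c1) ||ₙ
      any (fun k => mm (pw (evc 2) k) (evc 60517) =ₙ mm c (pw (evc 2) k)) 7))) (nat_lit 1463) = true := by decide +kernel
theorem c2 : ok c1 = true ∧ ordc 60517 2 ∧ pw (mm (evc 2) (evc 60517)) 3 = c1 ∧ pw (mm (pw (evc 2) 3) (evc 60517)) 19 = c1 ∧
    wdc (evc 2) (evc 60517) 345820636193 = evc 3 ∧
    (∀ i, i = 0 ∨ ∃ k < 7, mm (pw (evc 2) k) (evc 222) = mm (evc (le i)) (pw (evc 2) k)) ∧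
    ∀ k < 7, k = 0 ∨ ∃ w ∈ [1, 963251, 870483, 944747, 938133, 1597], mm (evc w) (evc 2) = mm (pw (evc 2) k) (evc w) := by
  decide +kernel
theorem mv {a b : J1} {c d : ℕ} (ha : a.1.1 = toM c) (hb : b.1.1 = toM d) : (a * b).1.1 = toM (mm c d) := by
  rw [toM_mm, ← ha, ← hb]; rfl
theorem fixx (α : MulAut J1) (hx : α (ev 2) = ev 2) : α ∈ Inn J1 := by
  obtain ⟨o1, o2, r1, r2, y, e2, -⟩ := c2
  have o : orderOf (α (ev 60517)) = 2 := (α.orderOf_eq _).trans (ord_ev o2)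
  obtain ⟨u, _, ⟨j, rfl⟩, e⟩ := syl Nat.prime_two E (n := 3) card_E (by decide +kernel) o
  obtain ⟨k, -, e'⟩ := (e2 j).resolve_left fun h => by
    subst h
    rw [e, ← MulAut.conj_apply, MulEquiv.orderOf_eq, ord_ev (n := 1) (by decide +kernel)] at o
    omega
  replace e' : ev 2 ^ k * ev 222 = ev (le j) * ev 2 ^ k :=
    eq_of (by rw [mv (pw_val (ev_val _) _) (ev_val _), mv (ev_val _) (pw_val (ev_val _) _), e'])
  obtain ⟨i, hi, h⟩ := cls (u * ev 2 ^ k)
  rw [mul_assoc u, e', show u * (ev (le j) * ev 2 ^ k) * (u * ev 2 ^ k)⁻¹ = u * ev (le j) * u⁻¹ by group, ← e] at h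
  have c := (all_iff _ _).1 c1' i hi
  simp only [force_eq, any_iff, band_eq, bor_eq, bnot_eq, Bool.and_eq_true, Bool.or_eq_true, Bool.not_eq_true', n_beq, n_beq_false] at c
  have a := mv (ev_val 2) h
  obtain ⟨c1, c2⟩ := c.2.resolve_left fun n => n (toM_inj c.1 o1 (by
    rw [← mv a (mv a a), ← pow_three, ← hx, ← map_mul, ← map_pow, pw_one (mul_val _ _) r1, map_one, toM_c.1]; rfl))
  obtain ⟨l, -, c3⟩ := c2.resolve_left fun n => n (toM_inj c1 o1 (by
    rw [← pw_val (mv (pw_val (ev_val 2) 3) h), ← hx, ← map_pow, ← map_mul, ← map_pow,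
      pw_one (mv (pw_val (ev_val 2) 3) (ev_val _)) r2, map_one, toM_c.1]; rfl))
  have m : ev 2 ∈ (MulAut.conj (ev 2 ^ l)).toMonoidHom.eqLocus α.toMonoidHom := by
    show ev 2 ^ l * ev 2 * (ev 2 ^ l)⁻¹ = α (ev 2); rw [hx]; group
  refine ⟨ev 2 ^ l, MulEquiv.ext fun g => top m ?_ g⟩
  rw [show ev 3 = wd (ev 2) (ev 60517) 345820636193 from eq_of (by rw [wd_val (ev_val _) (ev_val _), y, ev_val])]
  exact wd_mem m (mul_inv_eq_iff_eq_mul.2 (eq_of (by
    rw [mv (pw_val (ev_val _) _) (ev_val _), c3, ← mv h (pw_val (ev_val _) _)]; rfl))) _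

/-- The outer automorphism group of the Janko group J₁ (the group generated by two explicit 7 × 7 matrices over the integers modulo 11) is trivial: every automorphism is inner. -/
theorem result : Nat.card (Cfsg.Out ↥Cfsg.Spor.J1) = 1 := by
  refine index_eq_one.2 (eq_top_iff.2 fun α _ => ?_)
  have o7 := ord_ev os.2.2.2.1
  have o := (α.orderOf_eq _).trans o7
  obtain ⟨u, a, ha, e⟩ := syl (n := 1) (by norm_num) (zpowers (ev 2)) (by rw [Nat.card_zpowers, o7]; rfl) (by decide +kernel) o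
  obtain ⟨k, hk, rfl⟩ := Finset.mem_image.1 ((mem_zpowers_iff_mem_range_orderOf).1 ha)
  obtain ⟨w, -, h⟩ := (c2.2.2.2.2.2.2 k (o7 ▸ Finset.mem_range.1 hk)).resolve_left fun h => by simp [e, h] at o
  replace h : ev w * ev 2 = ev 2 ^ k * ev w := eq_of (by rw [mul_val, h, mv (pw_val (ev_val _) _) (ev_val _)])
  have := fixx ((MulAut.conj (u * ev w))⁻¹ * α) (by
    show (u * ev w)⁻¹ * α (ev 2) * (u * ev w) = _
    rw [e, ← mul_inv_eq_iff_eq_mul.2 h]; group)
  exact (mul_mem_cancel_left (inv_mem (MonoidHom.mem_range.2 ⟨_, rfl⟩))).1 this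

end Cfsg.Agent.S2065
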