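import Cfsg.Statements.S2070
import Cfsg.Agent.H7.AuL
import Cfsg.Agent.H7.Au.Co2

set_option autoImplicit false
open Cfsg

namespace Cfsg.Agent.S2070

open CfsgH7 MulAction
open scoped Pointwise symmDiff
set_option maxRecDepth 100000
set_option Elab.async false

open Le

/-- The outer automorphism group of the Conway group Co₂ (the stabiliser of a minimal vector of the rank-24 lattice) is trivial: every automorphism is inner. -/
theorem result : Nat.card (Cfsg.Out ↥Cfsg.Spor.Co2) = 1 := by
  obtain ⟨a, W, e, t⟩ := full2
  rw [← e] at t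
  rw [← out_congr iso2]
  exact AuCo2.out W ⟨⟨le_rfl, t⟩, a, (W.coatom le_rfl t Co2.Aco).2.ge⟩

end Cfsg.Agent.S2070
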