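import Cfsg.Statements.S2072
import Cfsg.Agent.H7.AuL
import Cfsg.Agent.H7.Au.HS

set_option autoImplicit false
open Cfsg

namespace Cfsg.Agent.S2072

open CfsgH7 MulAction
open scoped Pointwise symmDiff
set_option maxRecDepth 100000
set_option Elab.async false

open Le
def K : List ℕ := [0x61088421044210841088411084210c0, 0x3ffcf7bfffffdfffffff7bfff80000002, 0x3ffffffdf07bfef841efffdf00420f7c0, 0x40000001f083fef7bdefffe0ffc1f07c0, 0x3ffee840000020000000840007ffffffe, 0x3fff083fffffa0000000840007ffffffe, 0x3fff0840000020000000740007ffffffe, 0x400000020f7bfef7be0fffdeffc20f840, 0x3ffffffdef7c00f7bdf000210041ef840, 0x40000001ef7bff0841efffe0ffbdef840, 0x3ffffffe108400f83defffdeffbdef840, 0x3ffffffe107bff07be0fffe1003def7c0, 0x3ffffffdef83ff07bdefffdf003e10840, 0x3fff084000001ffffffe840007ffffffe, 0x3fff084000002000000083ffe7ffffffe, 0x3ffffffdef7c00f83e0fffe0ffbe107c0, 0x40000001f07c0107bdf0001effbe0f7c0, 0x3ffffffe0f83fef7c1f00020ffbe0f7c0, 0x40000001ef8400f7c20fffdf003def7c0, 0x3fff0740000020000000840007ffffffe,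 0x3ffffffdef83ff083e10001effc1ef7c0, 0x3ffffffdf07bfef7c210001effbdf0840, 0x3ffffffe0f7c0107c1efffdeffc1f07c0, 0x400000020f7bfef83df0001f003df07c0, 0x4000f7bfffffdfffffff7bfff7ffffffa]
theorem hK : mOk K = true := by decide +kernel
def pi (p : ℕ) : ℕ := CfsgH7.get 16 0xffff 0x270038004000430062002c0036002b0049005300570044003400320030004a00280056005d00630029003f0047000f00090035000c0054004d00500048000b0033003e0011001b00000023002100010025002e00150037002f000a005e0016001e001c004e0026005f0013002d003a00020018001a00060039005800120031003b002a004c005c0017002400030051005b00070008004200590019004b000d0045000e0046005200610022001f003d005a0005004100140020005500100060001d003c004f0004 p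
theorem vz : vec 0x421084210842108421084210842108 = 0 := vec_eq (by decide +kernel)
theorem vo : vec 0x4a5294a5294a5294a5294a5294a52d = -(lV + lP) := vec_eq (by decide +kernel)

/-- The outer automorphism group of the Higman–Sims group (as a two-vector stabiliser in the automorphism group of the rank-24 lattice) has order 2. -/
theorem result : Nat.card (Cfsg.Out ↥Cfsg.Spor.HS) = 2 := by
  obtain ⟨a, W, e, t⟩ := fullH
  have : Finite (Fx [cV, cP]) := Nat.finite_of_card_ne_zero (by rw [a]; norm_num)
  have f : ∀ g ∈ Fx [cV, cP], g • lV = lV ∧ g • lP = lP := fun g h => by rwa [Fx_VP] at h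
  obtain ⟨σ, hσ⟩ := exists_conj (F := [cV, cP]) (n := el K) (List.forall_iff_forall_mem.mp
    ⟨⟨vec 0x4a5294a5294a5294a5294a5294a52d, el_smul hK (by decide +kernel), fun g h => by simp [vo, vec_V, vec_P, f g h]⟩,
    ⟨vec 0x621084210842108421084210842104, el_smul hK (by decide +kernel), fun g h => by simp [vo, vec_V, vec_P, f g h]⟩⟩)
  rw [← e] at t
  rw [← out_congr isoH]
  exact AuHS.out W ⟨⟨le_rfl, t⟩, a, (W.orbit_top le_rfl t (S := [0x1, 0x20001, 0x40001, 0x60001])
    (by decide +kernel)).ge⟩ (WT.hyp_of (hyp_aff HS.Aok e hσ (π := pi) (fun g h => by simp [vz, f g h])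
      (aff_chk HS.Aok hK (c := 0x421084210842108421084210842108) (by decide +kernel))) [63, 49, 10, 70, 83, 2, 60, 29, 40] (by decide +kernel))

end Cfsg.Agent.S2072
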