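import Cfsg.Statements.S2073
import Cfsg.Agent.H7.AuL
import Cfsg.Agent.H7.Au.McL

set_option autoImplicit false
open Cfsg

namespace Cfsg.Agent.S2073

open CfsgH7 MulAction
open scoped Pointwise symmDiff
set_option maxRecDepth 100000
set_option Elab.async false

open Le
def K : List ℕ := [0x3fd0742108421084210842108421083a0, 0x3ffe84a1084210842108421084210841d, 0x40008421084210741d0841d073a108421, 0x400074210841d08421073a10742108421, 0x400084210841d0841ce8420e841d08421, 0x40008420e841d073a10842108420e8421, 0x4000842108421083a0e83a1083a1083a1, 0x40008420e84210842108420e7421073a1, 0x40008421073a108420e842107420e8421, 0x4000841d0839d084210841d08421083a1, 0x400084210741ce842108421083a107421, 0x4000741d0842107420e84210842107421, 0x4000841d084210842107420e83a0e8421, 0x4000742108420e841d0842108420e83a1, 0x40007420e83a108421084210839d08421, 0x400084210742107421074210841d083a1, 0x4000841ce74210841d083a10842108421, 0x4000842108421084210839d0841ce7421, 0x4000742107421083a10841ce842108421, 0x40008421083a0e7421083a0e842108421, 0x4000841d08420e83a1084210741d08421, 0x40008420e8420e8420e741d0842108421, 0x3ffe83a10842108421084210842108425,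 0x40008421083a10839d074210842107421, 0x400283a1084210842108421084210841d]
theorem hK : mOk K = true := by decide +kernel
def pi (p : ℕ) : ℕ := CfsgH7.get 16 0xffff 0x2c011100320035002d004a00280037002e004b00480034004c002f00360030003100290033002b0049002a00fc006b00e200dd0065005e00ad00f500d600f3008400bb0075007600b80069006a00680077007800bc007a00d400b100e4007d00fa00c9007200df006100f9007900c1007e00c300d800b900f400c000e6005f0064006700af00ba00c4006300b600c5008100e1007000c7006e00cb00ce00d900b200db00d500710074005d00e800f100cf00d700ee008000cc006600b400ae00c200e5006f00d000b300f600130006000a003e0004001b0010003a0015001e000c00270021004400260001002300410000001200170005003d000200180043000d00160024000f0045001d000b0008000e003c001f00380040000900f20062008200ca00b7007c00da00e3007f007b00e700dc00e900ea00ef00f000be006d00e000bf00c800b000c60073006000fb00ec00ed00eb00d100b500f800d200cd008300de006c00d300f700bd003f0022001c0003004700140007001a002500420019003b003900200046001101060109010d00fe01080058004e008e009f00930053009b0086005c00a900960089005100a500500087010b0104010f010701000110010201030105010a010e011200ff00fd0101010c00a1009e00540090009c005b00a0004f008800a3008d005a00a70055005200940098009100a4005700ac0099004d00a6008f008a009200a2008c00aa0085008b005600ab009700a800590095009d009a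 p
theorem vz : vec 0x6a5294a5294a5294a5294a5294a529 = -lV := vec_eq (by decide +kernel)
theorem vo : vec 0x4a5294a5294a5294a5294a5294a525 = -(lU + lV) := vec_eq (by decide +kernel)

/-- The outer automorphism group of the McLaughlin group (as a two-vector stabiliser in the automorphism group of the rank-24 lattice) has order 2. -/
theorem result : Nat.card (Cfsg.Out ↥Cfsg.Spor.McL) = 2 := by
  obtain ⟨a, W, e, t⟩ := Le.fullM
  have : Finite (Fx [cV, cU]) := Nat.finite_of_card_ne_zero (by rw [a]; norm_num)
  have f : ∀ g ∈ Fx [cV, cU], g • lV = lV ∧ g • lU = lU := fun g h => by rwa [Fx_VU] at h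
  obtain ⟨σ, hσ⟩ := exists_conj (F := [cV, cU]) (n := el K) (List.forall_iff_forall_mem.mp
    ⟨⟨vec 0x19ce739ce739ce739ce739ce739ce7, el_smul hK (by decide +kernel), fun g h => by simp [vo, vec_V, vec_U, f g h]⟩,
    ⟨vec 0x4a5294a5294a5294a5294a5294a525, el_smul hK (by decide +kernel), fun g h => by simp [vo, vec_V, vec_U, f g h]⟩⟩)
  rw [← e] at t
  rw [← out_congr isoM]
  exact AuMcL.out W ⟨⟨le_rfl, t⟩, a, (W.orbit_top le_rfl t (S := [0x1, 0x20001, 0x40001, 0x60001])
    (by decide +kernel)).ge⟩ (WT.hyp_of (hyp_aff McL.Aok e hσ (π := pi) (fun g h => by simp [vz, f g h])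
      (aff_chk McL.Aok hK (c := 0x6a5294a5294a5294a5294a5294a529) (by decide +kernel))) [154, 171, 218, 98, 157, 149, 89] (by decide +kernel))

end Cfsg.Agent.S2073
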