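import Cfsg.Statements.S2074
import Cfsg.Agent.H7.AuQ
import Cfsg.Agent.H7.Au.Suz

set_option autoImplicit false
open Cfsg

namespace Cfsg.Agent.S2074

open CfsgH7 MulAction
open scoped Pointwise symmDiff
set_option maxRecDepth 100000
set_option Elab.async false


/-- The outer automorphism group of the Suzuki sporadic group (the finitely presented group of the definitions) has order 2. -/
theorem result : Nat.card (Cfsg.Out Cfsg.Spor.Suz) = 2 := by
  have := Suz.W.finite
  obtain ⟨σ, h⟩ := Suz.A.exists_aut _ Suz.W.wt Suz.simple (Suz.P.wt_gen _ _ _ (by decide +kernel))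
    AuSuz.za AuSuz.zr
  exact AuSuz.out _ (Suz.P.wt_ok _ _ _ (by decide +kernel) Suz.card Suz.rk) h

end Cfsg.Agent.S2074
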