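import Cfsg.Statements.S2078
import Cfsg.Agent.H7.AuQ
import Cfsg.Agent.H7.Au.ON

set_option autoImplicit false
open Cfsg

namespace Cfsg.Agent.S2078

open CfsgH7 MulAction
open scoped Pointwise symmDiff
set_option maxRecDepth 100000
set_option Elab.async false


/-- The outer automorphism group of the O'Nan group (the finitely presented group of the definitions) has order 2. -/
theorem result : Nat.card (Cfsg.Out Cfsg.Spor.ON) = 2 := by
  have := ON.W.finite
  obtain ⟨σ, h⟩ := ON.A.exists_aut _ ON.W.wt ON.simple (ON.P.wt_gen _ _ _ (by decide +kernel))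
    AuON.za AuON.zr
  exact AuON.out _ (ON.P.wt_ok _ _ _ (by decide +kernel) ON.card ON.rk) h

end Cfsg.Agent.S2078
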