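import Cfsg.Statements.S2079
import Cfsg.Agent.H7.AuS
import Cfsg.Agent.H7.Au.Fi22

set_option autoImplicit false
open Cfsg

namespace Cfsg.Agent.S2079

open CfsgH7 MulAction
open scoped Pointwise symmDiff
set_option maxRecDepth 100000
set_option Elab.async false


/-- The outer automorphism group of the Fischer group Fi₂₂ (the finitely presented group of the definitions) has order 2. -/
theorem result : Nat.card (Cfsg.Out Cfsg.Spor.Fi22) = 2 := by
  have := Fi22.W.finite
  obtain ⟨σ, h⟩ := Fi22.A.exists_aut _ Fi22.W.wt Fi22.simple (Fi22.P.wt_gen _ _ _ (by decide +kernel))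
    AuFi22.za AuFi22.zr
  exact AuFi22.out _ (Fi22.P.wt_ok _ _ _ (by decide +kernel) Fi22.card Fi22.rk) (h.congr AuFi22.zx)

end Cfsg.Agent.S2079
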