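import Cfsg.Statements.S2086
import Mathlib
import Cfsg.Agent.H8.CRS3

set_option autoImplicit false
open Cfsg

namespace Cfsg.Agent.S2086

/-- Schur multipliers of the linear groups: for n ≥ 2 and a field F with q elements (q ≥ 4 when n = 2), apart from the five exceptional pairs (n, q) = (2, 4), (2, 9), (3, 2), (3, 4), (4, 2), the Schur multiplier of PSL_n(F) is cyclic of order gcd(n, q − 1); here the Schur multiplier is described through stem extensions, as in the definitions. -/
theorem result {F : Type*} [Field F] [Fintype F] {q : ℕ} (hF : Fintype.card F = q) (n : ℕ) (hn : 2 ≤ n) (h2 : n = 2 → 4 ≤ q) (hexc : (n, q) ∉ ({(2, 4), (2, 9), (3, 2), (3, 4), (4, 2)} : Set (ℕ × ℕ))) : Cfsg.HasCyclicSchurMultiplier (Matrix.ProjectiveSpecialLinearGroup (Fin n) F) (Nat.gcd n (q - 1)) := by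
  classical
  subst hF
  simp only [Set.mem_insert_iff, Set.mem_singleton_iff, Prod.mk.injEq, not_or, not_and] at hexc
  have := CfsgH8.SM_SL (F := F) hn (by omega) (by omega) (by omega)
  have : Nonempty (Fin n) := ⟨⟨0, by omega⟩⟩
  have : NeZero (Fintype.card (Fin n)) := ⟨Fintype.card_ne_zero⟩
  have hc : IsCyclic (Subgroup.center (Matrix.SpecialLinearGroup (Fin n) F)) :=
    (Matrix.SpecialLinearGroup.center_equiv_rootsOfUnity' (R := F) (⟨0, by omega⟩ : Fin n)).isCyclic.2 inferInstance
  have e := (zmodCyclicMulEquiv hc).symm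
  rw [CfsgH5.card_center_SL, Fintype.card_fin] at e
  refine CfsgH6.hasSM_of_cover (CfsgH5.commutator_SL ?_) ⟨QuotientGroup.mk'_surjective _, (QuotientGroup.ker_mk' _).le⟩
    ((MulEquiv.subgroupCongr (QuotientGroup.ker_mk' _)).trans e)
  rw [Fintype.card_fin]
  refine or_iff_not_imp_left.2 fun h => ?_
  obtain ⟨v, hv⟩ := CfsgH8.exists_nonroot (F := F) (Polynomial.X * (Polynomial.X ^ 2 - 1))
    (Polynomial.Monic.ne_zero (by monicity!)) (lt_of_le_of_lt (b := 3) (by compute_degree) (by omega))
  exact ⟨v, by simpa [sub_eq_zero] using hv⟩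

end Cfsg.Agent.S2086
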