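import Cfsg.Statements.S2087
import Cfsg.Agent.H7.Pr.L32
import Cfsg.Agent.H7.Pr.CvL32
import Cfsg.Agent.H7.Mt.L32

set_option autoImplicit false
open Cfsg

namespace Cfsg.Agent.S2087

open CfsgH7 MulAction
open scoped Pointwise symmDiff
set_option maxRecDepth 100000
set_option Elab.async false

variable {G Ω : Type*} [Group G] [MulAction G Ω]
def ts : List ℕ := [0x4202040204020000d, 0x202040200008, 0x242040200008, 0x20402420008, 0x200003, 0x200003]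
theorem ok : lall (okW L32.T.tb.n) ts = true := by decide +kernel
theorem q0 : lall (fun r => (L32.T.tb.rw ts).oneL [r]) PrL32.R0 = true := by decide +kernel
theorem q1 : lall (fun r => (L32.T.tb.rw ts).oneL [r]) PrL32.K1.T.rels = true := by decide +kernel
theorem q2 : lall (fun r => (L32.T.tb.rw ts).oneL [r]) PrL32.K2.T.rels = true := by decide +kernel
theorem rel (W : WT L32.T.tb G Ω) : ∀ r ∈ PrL32.R2, ev8 (W.gs ts) r = 1 := rels_append (rels_append (((W.rw ts ok).orc rfl).rels q0) (((W.rw ts ok).orc rfl).rels q1)) (((W.rw ts ok).orc rfl).rels q2)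
theorem mx0 (W : WT L32.T.tb G Ω) : W.ev 0x4202040204020000d ∈ (cl (W.gs ts) ts.length) := W.mem_xs _ 0 _ (by decide +kernel)
theorem mx1 (W : WT L32.T.tb G Ω) : W.ev 0x202040200008 ∈ (cl (W.gs ts) ts.length) := W.mem_xs _ 1 _ (by decide +kernel)
theorem mx2 (W : WT L32.T.tb G Ω) : W.ev 0x242040200008 ∈ (cl (W.gs ts) ts.length) := W.mem_xs _ 2 _ (by decide +kernel)
theorem mx3 (W : WT L32.T.tb G Ω) : W.ev 0x20402420008 ∈ (cl (W.gs ts) ts.length) := W.mem_xs _ 3 _ (by decide +kernel)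
theorem mx4 (W : WT L32.T.tb G Ω) : W.ev 0x200003 ∈ (cl (W.gs ts) ts.length) := W.mem_xs _ 4 _ (by decide +kernel)
theorem mx5 (W : WT L32.T.tb G Ω) : W.ev 0x200003 ∈ (cl (W.gs ts) ts.length) := W.mem_xs _ 5 _ (by decide +kernel)
theorem mg0 (W : WT L32.T.tb G Ω) : W.ev (Tb.lt 0) ∈ (cl (W.gs ts) ts.length) := W.mem_of (ts := [0x4202040204020000d, 0x202040200008, 0x242040200008, 0x20402420008, 0x200003, 0x200003]) ⟨mx0 W, mx1 W, mx2 W, mx3 W, mx4 W, mx5 W⟩ 0x312410005 _ (by decide +kernel)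
theorem mg1 (W : WT L32.T.tb G Ω) : W.ev (Tb.lt 1) ∈ (cl (W.gs ts) ts.length) := W.mem_of (ts := [0x4202040204020000d, 0x202040200008, 0x242040200008, 0x20402420008, 0x200003, 0x200003]) ⟨mx0 W, mx1 W, mx2 W, mx3 W, mx4 W, mx5 W⟩ 0x312410005 _ (by decide +kernel)
theorem mg2 (W : WT L32.T.tb G Ω) : W.ev (Tb.lt 2) ∈ (cl (W.gs ts) ts.length) := W.mem_of (ts := [0x4202040204020000d, 0x202040200008, 0x242040200008, 0x20402420008, 0x200003, 0x200003]) ⟨mx0 W, mx1 W, mx2 W, mx3 W, mx4 W, mx5 W⟩ 0x334020005 _ (by decide +kernel)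
theorem mg3 (W : WT L32.T.tb G Ω) : W.ev (Tb.lt 3) ∈ (cl (W.gs ts) ts.length) := W.mem_of (ts := [0x4202040204020000d, 0x202040200008, 0x242040200008, 0x20402420008, 0x200003, 0x200003]) ⟨mx0 W, mx1 W, mx2 W, mx3 W, mx4 W, mx5 W⟩ 0x334020005 _ (by decide +kernel)
theorem mg4 (W : WT L32.T.tb G Ω) : W.ev (Tb.lt 4) ∈ (cl (W.gs ts) ts.length) := W.mem_of (ts := [0x4202040204020000d, 0x202040200008, 0x242040200008, 0x20402420008, 0x200003, 0x200003]) ⟨mx0 W, mx1 W, mx2 W, mx3 W, mx4 W, mx5 W⟩ 0x1400334020009 _ (by decide +kernel)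
theorem mg5 (W : WT L32.T.tb G Ω) : W.ev (Tb.lt 5) ∈ (cl (W.gs ts) ts.length) := W.mem_of (ts := [0x4202040204020000d, 0x202040200008, 0x242040200008, 0x20402420008, 0x200003, 0x200003]) ⟨mx0 W, mx1 W, mx2 W, mx3 W, mx4 W, mx5 W⟩ 0x1400334020009 _ (by decide +kernel)
theorem mg6 (W : WT L32.T.tb G Ω) : W.ev (Tb.lt 6) ∈ (cl (W.gs ts) ts.length) := W.mem_of (ts := [0x4202040204020000d, 0x202040200008, 0x242040200008, 0x20402420008, 0x200003, 0x200003]) ⟨mx0 W, mx1 W, mx2 W, mx3 W, mx4 W, mx5 W⟩ 0x0 _ (by decide +kernel)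
theorem mg7 (W : WT L32.T.tb G Ω) : W.ev (Tb.lt 7) ∈ (cl (W.gs ts) ts.length) := W.mem_of (ts := [0x4202040204020000d, 0x202040200008, 0x242040200008, 0x20402420008, 0x200003, 0x200003]) ⟨mx0 W, mx1 W, mx2 W, mx3 W, mx4 W, mx5 W⟩ 0x0 _ (by decide +kernel)
theorem mg8 (W : WT L32.T.tb G Ω) : W.ev (Tb.lt 8) ∈ (cl (W.gs ts) ts.length) := W.mem_of (ts := [0x4202040204020000d, 0x202040200008, 0x242040200008, 0x20402420008, 0x200003, 0x200003]) ⟨mx0 W, mx1 W, mx2 W, mx3 W, mx4 W, mx5 W⟩ 0x0 _ (by decide +kernel)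
theorem mg9 (W : WT L32.T.tb G Ω) : W.ev (Tb.lt 9) ∈ (cl (W.gs ts) ts.length) := W.mem_of (ts := [0x4202040204020000d, 0x202040200008, 0x242040200008, 0x20402420008, 0x200003, 0x200003]) ⟨mx0 W, mx1 W, mx2 W, mx3 W, mx4 W, mx5 W⟩ 0x0 _ (by decide +kernel)
theorem mg10 (W : WT L32.T.tb G Ω) : W.ev (Tb.lt 10) ∈ (cl (W.gs ts) ts.length) := W.mem_of (ts := [0x4202040204020000d, 0x202040200008, 0x242040200008, 0x20402420008, 0x200003, 0x200003]) ⟨mx0 W, mx1 W, mx2 W, mx3 W, mx4 W, mx5 W⟩ 0x0 _ (by decide +kernel)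
theorem mg11 (W : WT L32.T.tb G Ω) : W.ev (Tb.lt 11) ∈ (cl (W.gs ts) ts.length) := W.mem_of (ts := [0x4202040204020000d, 0x202040200008, 0x242040200008, 0x20402420008, 0x200003, 0x200003]) ⟨mx0 W, mx1 W, mx2 W, mx3 W, mx4 W, mx5 W⟩ 0x0 _ (by decide +kernel)
theorem mg12 (W : WT L32.T.tb G Ω) : W.ev (Tb.lt 12) ∈ (cl (W.gs ts) ts.length) := W.mem_of (ts := [0x4202040204020000d, 0x202040200008, 0x242040200008, 0x20402420008, 0x200003, 0x200003]) ⟨mx0 W, mx1 W, mx2 W, mx3 W, mx4 W, mx5 W⟩ 0x0 _ (by decide +kernel)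
theorem mg13 (W : WT L32.T.tb G Ω) : W.ev (Tb.lt 13) ∈ (cl (W.gs ts) ts.length) := W.mem_of (ts := [0x4202040204020000d, 0x202040200008, 0x242040200008, 0x20402420008, 0x200003, 0x200003]) ⟨mx0 W, mx1 W, mx2 W, mx3 W, mx4 W, mx5 W⟩ 0x0 _ (by decide +kernel)
theorem mg14 (W : WT L32.T.tb G Ω) : W.ev (Tb.lt 14) ∈ (cl (W.gs ts) ts.length) := W.mem_of (ts := [0x4202040204020000d, 0x202040200008, 0x242040200008, 0x20402420008, 0x200003, 0x200003]) ⟨mx0 W, mx1 W, mx2 W, mx3 W, mx4 W, mx5 W⟩ 0x0 _ (by decide +kernel)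
theorem mg15 (W : WT L32.T.tb G Ω) : W.ev (Tb.lt 15) ∈ (cl (W.gs ts) ts.length) := W.mem_of (ts := [0x4202040204020000d, 0x202040200008, 0x242040200008, 0x20402420008, 0x200003, 0x200003]) ⟨mx0 W, mx1 W, mx2 W, mx3 W, mx4 W, mx5 W⟩ 0x0 _ (by decide +kernel)
theorem gt (W : WT L32.T.tb G Ω) (h : cl W.gen 16 = ⊤) : cl (W.gs ts) 6 = ⊤ := W.top_of h (by decide) ⟨mg0 W, mg1 W, mg2 W, mg3 W, mg4 W, mg5 W, mg6 W, mg7 W, mg8 W, mg9 W, mg10 W, mg11 W, mg12 W, mg13 W, mg14 W, mg15 W⟩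

/-- Exceptional Schur multiplier: over the field with 2 elements, PSL₃ has Schur multiplier cyclic of order 2 (here the Schur multiplier is described through stem extensions, as in the definitions). -/
theorem result {F : Type*} [Field F] [Fintype F] (hF : Fintype.card F = 2) : Cfsg.HasCyclicSchurMultiplier (Matrix.ProjectiveSpecialLinearGroup (Fin 3) F) 2 := by
  obtain ⟨a, _, _, W, t⟩ := L32.full hF
  have t' := gt W t
  have hb := ((PrL32.k2 (rel W) (card_of_top t' a)).top t').kb (xp_card a)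
  have hc := ((W.rw ts ok).orc rfl).cover t' a PrL32.p2 (rel W) CvL32.hf CvL32.E ⟨0x1, 0x5501, 2, 6, 7, 2⟩ ⟨0x0, 0x0, 1, 15, 15, 1⟩ ⟨0x0, 0x0, 1, 15, 15, 1⟩ CvL32.v16 (by decide +kernel) [0] 0x1101 0x4401 0x0 0x0 0x0 0x0 (by decide +kernel)
  exact id (hb.hasSM hc ⟨(zm2 _ _).trans (zm1 _)⟩ (by simp))

end Cfsg.Agent.S2087
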