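import Cfsg.Statements.S2088
import Cfsg.Agent.H7.Pr.L34
import Cfsg.Agent.H7.Pr.CvL34
import Cfsg.Agent.H7.Mt.L34

set_option autoImplicit false
open Cfsg

namespace Cfsg.Agent.S2088

open CfsgH7 MulAction
open scoped Pointwise symmDiff
set_option maxRecDepth 100000
set_option Elab.async false

variable {G Ω : Type*} [Group G] [MulAction G Ω]
def ts : List ℕ := [0x242024024042000c, 0x240420420242000c, 0x4204042042404020424024040019, 0x40420424020404240240402400019]
theorem ok : lall (okW L34.T.tb.n) ts = true := by decide +kernel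
theorem q0 : lall (fun r => (L34.T.tb.rw ts).oneL [r]) PrL34.R0 = true := by decide +kernel
theorem q1 : lall (fun r => (L34.T.tb.rw ts).oneL [r]) PrL34.K1.T.rels = true := by decide +kernel
theorem rel (W : WT L34.T.tb G Ω) : ∀ r ∈ PrL34.R1, ev8 (W.gs ts) r = 1 := rels_append (((W.rw ts ok).orc rfl).rels q0) (((W.rw ts ok).orc rfl).rels q1)
theorem mx0 (W : WT L34.T.tb G Ω) : W.ev 0x242024024042000c ∈ (cl (W.gs ts) ts.length) := W.mem_xs _ 0 _ (by decide +kernel)
theorem mx1 (W : WT L34.T.tb G Ω) : W.ev 0x240420420242000c ∈ (cl (W.gs ts) ts.length) := W.mem_xs _ 1 _ (by decide +kernel)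
theorem mx2 (W : WT L34.T.tb G Ω) : W.ev 0x4204042042404020424024040019 ∈ (cl (W.gs ts) ts.length) := W.mem_xs _ 2 _ (by decide +kernel)
theorem mx3 (W : WT L34.T.tb G Ω) : W.ev 0x40420424020404240240402400019 ∈ (cl (W.gs ts) ts.length) := W.mem_xs _ 3 _ (by decide +kernel)
theorem mg0 (W : WT L34.T.tb G Ω) : W.ev (Tb.lt 0) ∈ (cl (W.gs ts) ts.length) := W.mem_of (ts := [0x242024024042000c, 0x240420420242000c, 0x4204042042404020424024040019, 0x40420424020404240240402400019]) ⟨mx0 W, mx1 W, mx2 W, mx3 W⟩ 0x1120211302111313003121110018 _ (by decide +kernel)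
theorem mg1 (W : WT L34.T.tb G Ω) : W.ev (Tb.lt 1) ∈ (cl (W.gs ts) ts.length) := W.mem_of (ts := [0x242024024042000c, 0x240420420242000c, 0x4204042042404020424024040019, 0x40420424020404240240402400019]) ⟨mx0 W, mx1 W, mx2 W, mx3 W⟩ 0x1120211302111313003121110018 _ (by decide +kernel)
theorem mg2 (W : WT L34.T.tb G Ω) : W.ev (Tb.lt 2) ∈ (cl (W.gs ts) ts.length) := W.mem_of (ts := [0x242024024042000c, 0x240420420242000c, 0x4204042042404020424024040019, 0x40420424020404240240402400019]) ⟨mx0 W, mx1 W, mx2 W, mx3 W⟩ 0x313003120021202000011 _ (by decide +kernel)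
theorem mg3 (W : WT L34.T.tb G Ω) : W.ev (Tb.lt 3) ∈ (cl (W.gs ts) ts.length) := W.mem_of (ts := [0x242024024042000c, 0x240420420242000c, 0x4204042042404020424024040019, 0x40420424020404240240402400019]) ⟨mx0 W, mx1 W, mx2 W, mx3 W⟩ 0x313003120021202000011 _ (by decide +kernel)
theorem mg4 (W : WT L34.T.tb G Ω) : W.ev (Tb.lt 4) ∈ (cl (W.gs ts) ts.length) := W.mem_of (ts := [0x242024024042000c, 0x240420420242000c, 0x4204042042404020424024040019, 0x40420424020404240240402400019]) ⟨mx0 W, mx1 W, mx2 W, mx3 W⟩ 0x2120312003021200300020210018 _ (by decide +kernel)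
theorem mg5 (W : WT L34.T.tb G Ω) : W.ev (Tb.lt 5) ∈ (cl (W.gs ts) ts.length) := W.mem_of (ts := [0x242024024042000c, 0x240420420242000c, 0x4204042042404020424024040019, 0x40420424020404240240402400019]) ⟨mx0 W, mx1 W, mx2 W, mx3 W⟩ 0x2120312003021200300020210018 _ (by decide +kernel)
theorem mg6 (W : WT L34.T.tb G Ω) : W.ev (Tb.lt 6) ∈ (cl (W.gs ts) ts.length) := W.mem_of (ts := [0x242024024042000c, 0x240420420242000c, 0x4204042042404020424024040019, 0x40420424020404240240402400019]) ⟨mx0 W, mx1 W, mx2 W, mx3 W⟩ 0x0 _ (by decide +kernel)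
theorem mg7 (W : WT L34.T.tb G Ω) : W.ev (Tb.lt 7) ∈ (cl (W.gs ts) ts.length) := W.mem_of (ts := [0x242024024042000c, 0x240420420242000c, 0x4204042042404020424024040019, 0x40420424020404240240402400019]) ⟨mx0 W, mx1 W, mx2 W, mx3 W⟩ 0x0 _ (by decide +kernel)
theorem mg8 (W : WT L34.T.tb G Ω) : W.ev (Tb.lt 8) ∈ (cl (W.gs ts) ts.length) := W.mem_of (ts := [0x242024024042000c, 0x240420420242000c, 0x4204042042404020424024040019, 0x40420424020404240240402400019]) ⟨mx0 W, mx1 W, mx2 W, mx3 W⟩ 0x0 _ (by decide +kernel)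
theorem mg9 (W : WT L34.T.tb G Ω) : W.ev (Tb.lt 9) ∈ (cl (W.gs ts) ts.length) := W.mem_of (ts := [0x242024024042000c, 0x240420420242000c, 0x4204042042404020424024040019, 0x40420424020404240240402400019]) ⟨mx0 W, mx1 W, mx2 W, mx3 W⟩ 0x0 _ (by decide +kernel)
theorem mg10 (W : WT L34.T.tb G Ω) : W.ev (Tb.lt 10) ∈ (cl (W.gs ts) ts.length) := W.mem_of (ts := [0x242024024042000c, 0x240420420242000c, 0x4204042042404020424024040019, 0x40420424020404240240402400019]) ⟨mx0 W, mx1 W, mx2 W, mx3 W⟩ 0x0 _ (by decide +kernel)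
theorem mg11 (W : WT L34.T.tb G Ω) : W.ev (Tb.lt 11) ∈ (cl (W.gs ts) ts.length) := W.mem_of (ts := [0x242024024042000c, 0x240420420242000c, 0x4204042042404020424024040019, 0x40420424020404240240402400019]) ⟨mx0 W, mx1 W, mx2 W, mx3 W⟩ 0x0 _ (by decide +kernel)
theorem mg12 (W : WT L34.T.tb G Ω) : W.ev (Tb.lt 12) ∈ (cl (W.gs ts) ts.length) := W.mem_of (ts := [0x242024024042000c, 0x240420420242000c, 0x4204042042404020424024040019, 0x40420424020404240240402400019]) ⟨mx0 W, mx1 W, mx2 W, mx3 W⟩ 0x0 _ (by decide +kernel)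
theorem mg13 (W : WT L34.T.tb G Ω) : W.ev (Tb.lt 13) ∈ (cl (W.gs ts) ts.length) := W.mem_of (ts := [0x242024024042000c, 0x240420420242000c, 0x4204042042404020424024040019, 0x40420424020404240240402400019]) ⟨mx0 W, mx1 W, mx2 W, mx3 W⟩ 0x0 _ (by decide +kernel)
theorem mg14 (W : WT L34.T.tb G Ω) : W.ev (Tb.lt 14) ∈ (cl (W.gs ts) ts.length) := W.mem_of (ts := [0x242024024042000c, 0x240420420242000c, 0x4204042042404020424024040019, 0x40420424020404240240402400019]) ⟨mx0 W, mx1 W, mx2 W, mx3 W⟩ 0x0 _ (by decide +kernel)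
theorem mg15 (W : WT L34.T.tb G Ω) : W.ev (Tb.lt 15) ∈ (cl (W.gs ts) ts.length) := W.mem_of (ts := [0x242024024042000c, 0x240420420242000c, 0x4204042042404020424024040019, 0x40420424020404240240402400019]) ⟨mx0 W, mx1 W, mx2 W, mx3 W⟩ 0x0 _ (by decide +kernel)
theorem gt (W : WT L34.T.tb G Ω) (h : cl W.gen 16 = ⊤) : cl (W.gs ts) 4 = ⊤ := W.top_of h (by decide) ⟨mg0 W, mg1 W, mg2 W, mg3 W, mg4 W, mg5 W, mg6 W, mg7 W, mg8 W, mg9 W, mg10 W, mg11 W, mg12 W, mg13 W, mg14 W, mg15 W⟩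

/-- Exceptional Schur multiplier: over the field with 4 elements, PSL₃ has Schur multiplier isomorphic to the product of cyclic groups of orders 3, 4 and 4 (order 48, not cyclic; here the Schur multiplier is described through stem extensions, as in the definitions). -/
theorem result {F : Type*} [Field F] [Fintype F] (hF : Fintype.card F = 4) : Cfsg.HasSchurMultiplier (Matrix.ProjectiveSpecialLinearGroup (Fin 3) F) (Multiplicative (ZMod 3 × ZMod 4 × ZMod 4)) := by
  obtain ⟨a, _, _, W, t⟩ := L34.full hF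
  have t' := gt W t
  have hb := ((PrL34.k1 (rel W) (card_of_top t' a)).top t').kb (xp_card a)
  have hc := ((W.rw ts ok).orc rfl).cover t' a PrL34.p1 (rel W) CvL34.hf CvL34.E ⟨0x310031004, 0x1130113004, 8, 4, 5, 3⟩ ⟨0x20220203, 0x2, 3, 6, 7, 4⟩ ⟨0x20020003, 0x211021104, 3, 8, 9, 4⟩ CvL34.v511 (by decide +kernel) [70, 290, 0] 0x1021102104 0x1200120004 0x31331303 0x111102 0x11311303 0x31003104 (by decide +kernel)
  exact id (hb.hasSM hc ⟨.refl _⟩ (by simp))

end Cfsg.Agent.S2088
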