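import Cfsg.Statements.S2092
import Mathlib
import Cfsg.Agent.H8.CRS5
import Cfsg.Agent.S0246

set_option autoImplicit false
open Cfsg

namespace Cfsg.Agent.S2092

/-- Schur multipliers of the symplectic groups: for m ≥ 2 and a field F with q elements (q ≥ 3 when m = 2), with (m, q) ≠ (3, 2), the Schur multiplier of PSp_2m(F) is cyclic of order gcd(2, q − 1); here the Schur multiplier is described through stem extensions, as in the definitions. -/
theorem result {F : Type*} [Field F] [Fintype F] {q : ℕ} (hF : Fintype.card F = q) (m : ℕ) (hm : 2 ≤ m) (h2 : m = 2 → 3 ≤ q) (hexc : ¬ (m = 3 ∧ q = 2)) : Cfsg.HasCyclicSchurMultiplier (Cfsg.PSp m F) (Nat.gcd 2 (q - 1)) := by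
  have := CfsgH8.SM_Sp (F := F) hm (by omega)
  obtain ⟨e⟩ := CfsgH6.equiv_zmod (Cfsg.Agent.S0246.result hF m (by omega))
    (CfsgH6.Chev.gcd_cases Nat.prime_two _)
  exact CfsgH6.hasSM_of_cover (CfsgH5.commutator_sp m (by have := Fintype.one_lt_card (α := F); omega))
    ⟨QuotientGroup.mk'_surjective _, (QuotientGroup.ker_mk' _).le⟩
    ((MulEquiv.subgroupCongr (QuotientGroup.ker_mk' _)).trans e)

end Cfsg.Agent.S2092
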