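import Cfsg.Statements.S2096
import Mathlib
import Cfsg.Agent.H8.CRS6

set_option autoImplicit false
open Cfsg

namespace Cfsg.Agent.S2096

/-- Schur multipliers of the even-dimensional orthogonal groups of plus type and odd rank: for odd l ≥ 5 and a field F with q elements, the Schur multiplier of PΩ⁺_2l(F) (for the form Σ xᵢyᵢ) is cyclic of order gcd(4, q^l − 1); here the Schur multiplier is described through stem extensions, as in the definitions. -/
theorem result {F : Type*} [Field F] [Fintype F] {q : ℕ} (hF : Fintype.card F = q) (l : ℕ) (hl : 5 ≤ l) (hodd : Odd l) : Cfsg.HasCyclicSchurMultiplier (Cfsg.POmega F (Cfsg.quadFormPlus l F)) (Nat.gcd 4 (q ^ l - 1)) := by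
  subst hF
  obtain ⟨l, rfl⟩ : ∃ k, l = k + 1 := ⟨l - 1, by omega⟩
  obtain ⟨e⟩ := CfsgH8.Zc_odd (hl := (by omega : 2 ≤ l)) (F := F) hodd
  have e' := (zmodCyclicMulEquiv (G := rootsOfUnity 4 F) inferInstance).symm
  rw [CfsgH5.card_rootsOfUnity_field] at e'
  have h1 : ∀ q k : ℕ, Odd (∑ i ∈ Finset.range (2 * k + 1), q ^ i) := fun q k => by
    induction k with
    | zero => simp
    | succ k ih =>
      rw [show 2 * (k + 1) + 1 = 2 * k + 1 + 1 + 1 by ring, Finset.sum_range_succ, Finset.sum_range_succ, add_assoc,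
        show q ^ (2 * k + 1) + q ^ (2 * k + 1 + 1) = q ^ (2 * k) * (q * (q + 1)) by ring]
      exact ih.add_even ((Nat.even_mul_succ_self q).mul_left _)
  obtain ⟨k, hk⟩ := hodd
  have h2 : Nat.gcd 4 (Fintype.card F ^ (l + 1) - 1) = Nat.gcd 4 (Fintype.card F - 1) := by
    rw [← geom_sum_mul_of_one_le Fintype.card_pos, hk]
    exact Nat.Coprime.gcd_mul_left_cancel_right _ (Nat.Coprime.pow_right 2 (Nat.coprime_two_right.2 (h1 _ k)))
  rw [h2]
  exact CfsgH8.hasSM_D (by omega) (by omega) (e.trans e')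

end Cfsg.Agent.S2096
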