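import Cfsg.Statements.S2097
import Mathlib
import Cfsg.Agent.H8.CRS6

set_option autoImplicit false
open Cfsg

namespace Cfsg.Agent.S2097

/-- Schur multipliers of the even-dimensional orthogonal groups of plus type and even rank: for even l ≥ 4 and a field F with q elements, (l, q) ≠ (4, 2), the Schur multiplier of PΩ⁺_2l(F) (for the form Σ xᵢyᵢ) is the product of two cyclic groups of order gcd(2, q^l − 1) (so trivial for q even and a four-group for q odd; here the Schur multiplier is described through stem extensions, as in the definitions). -/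
theorem result {F : Type*} [Field F] [Fintype F] {q : ℕ} (hF : Fintype.card F = q) (l : ℕ) (hl : 4 ≤ l) (heven : Even l) (hexc : ¬ (l = 4 ∧ q = 2)) : Cfsg.HasSchurMultiplier (Cfsg.POmega F (Cfsg.quadFormPlus l F)) (Multiplicative (ZMod (Nat.gcd 2 (q ^ l - 1)) × ZMod (Nat.gcd 2 (q ^ l - 1)))) := by
  subst hF
  obtain ⟨l, rfl⟩ : ∃ k, l = k + 1 := ⟨l - 1, by omega⟩
  obtain ⟨e⟩ := CfsgH8.Zc_even (hl := (by omega : 2 ≤ l)) (F := F) heven
  have e' := (zmodCyclicMulEquiv (G := rootsOfUnity 2 F) inferInstance).symm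
  rw [CfsgH5.card_rootsOfUnity_field] at e'
  have h2 : Nat.gcd 2 (Fintype.card F ^ (l + 1) - 1) = Nat.gcd 2 (Fintype.card F - 1) := by
    have h3 := Fintype.card_pos (α := F)
    have h4 := Nat.one_le_pow (l + 1) _ h3
    have h5 := Nat.even_pow (m := Fintype.card F) (n := l + 1)
    simp only [Nat.even_iff] at h5
    rw [Nat.gcd_rec, Nat.gcd_rec 2 (_ - 1)]
    congr 1; omega
  rw [h2]
  exact CfsgH8.hasSM_D (by omega) (by omega) (e.trans ((e'.prodCongr e').trans (MulEquiv.prodMultiplicative _ _).symm))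

end Cfsg.Agent.S2097
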