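import Cfsg.Statements.S2112
import Cfsg.Agent.H7.Pr.Sz8
import Cfsg.Agent.H7.Pr.CvSz8
import Cfsg.Agent.H7.Mt.Sz8

set_option autoImplicit false
open Cfsg

namespace Cfsg.Agent.S2112

open CfsgH7 MulAction
open scoped Pointwise symmDiff
set_option maxRecDepth 100000
set_option Elab.async false

variable {G Ω : Type*} [Group G] [MulAction G Ω]
def ts : List ℕ := [0x40420404042424242404040424001a, 0x42404040424242424040402404001a, 0x24024202424240420424202424024204042040400028, 0x4040240402420424202424024042424202420420028]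
theorem ok : lall (okW Sz8.T.tb.n) ts = true := by decide +kernel
theorem q0 : lall (fun r => (Sz8.T.tb.rw ts).oneL [r]) PrSz8.R0 = true := by decide +kernel
theorem q1 : lall (fun r => (Sz8.T.tb.rw ts).oneL [r]) PrSz8.K1.T.rels = true := by decide +kernel
theorem rel (W : WT Sz8.T.tb G Ω) : ∀ r ∈ PrSz8.R1, ev8 (W.gs ts) r = 1 := rels_append (((W.rw ts ok).orc rfl).rels q0) (((W.rw ts ok).orc rfl).rels q1)
theorem mx0 (W : WT Sz8.T.tb G Ω) : W.ev 0x40420404042424242404040424001a ∈ (cl (W.gs ts) ts.length) := W.mem_xs _ 0 _ (by decide +kernel)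
theorem mx1 (W : WT Sz8.T.tb G Ω) : W.ev 0x42404040424242424040402404001a ∈ (cl (W.gs ts) ts.length) := W.mem_xs _ 1 _ (by decide +kernel)
theorem mx2 (W : WT Sz8.T.tb G Ω) : W.ev 0x24024202424240420424202424024204042040400028 ∈ (cl (W.gs ts) ts.length) := W.mem_xs _ 2 _ (by decide +kernel)
theorem mx3 (W : WT Sz8.T.tb G Ω) : W.ev 0x4040240402420424202424024042424202420420028 ∈ (cl (W.gs ts) ts.length) := W.mem_xs _ 3 _ (by decide +kernel)
theorem mg0 (W : WT Sz8.T.tb G Ω) : W.ev (Tb.lt 0) ∈ (cl (W.gs ts) ts.length) := W.mem_of (ts := [0x40420404042424242404040424001a, 0x42404040424242424040402404001a, 0x24024202424240420424202424024204042040400028, 0x4040240402420424202424024042424202420420028]) ⟨mx0 W, mx1 W, mx2 W, mx3 W⟩ 0x1300003031131300312111210018 _ (by decide +kernel)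
theorem mg1 (W : WT Sz8.T.tb G Ω) : W.ev (Tb.lt 1) ∈ (cl (W.gs ts) ts.length) := W.mem_of (ts := [0x40420404042424242404040424001a, 0x42404040424242424040402404001a, 0x24024202424240420424202424024204042040400028, 0x4040240402420424202424024042424202420420028]) ⟨mx0 W, mx1 W, mx2 W, mx3 W⟩ 0x1300003031131300312111210018 _ (by decide +kernel)
theorem mg2 (W : WT Sz8.T.tb G Ω) : W.ev (Tb.lt 2) ∈ (cl (W.gs ts) ts.length) := W.mem_of (ts := [0x40420404042424242404040424001a, 0x42404040424242424040402404001a, 0x24024202424240420424202424024204042040400028, 0x4040240402420424202424024042424202420420028]) ⟨mx0 W, mx1 W, mx2 W, mx3 W⟩ 0x111211112020313002112113000001b _ (by decide +kernel)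
theorem mg3 (W : WT Sz8.T.tb G Ω) : W.ev (Tb.lt 3) ∈ (cl (W.gs ts) ts.length) := W.mem_of (ts := [0x40420404042424242404040424001a, 0x42404040424242424040402404001a, 0x24024202424240420424202424024204042040400028, 0x4040240402420424202424024042424202420420028]) ⟨mx0 W, mx1 W, mx2 W, mx3 W⟩ 0x111211112020313002112113000001b _ (by decide +kernel)
theorem mg4 (W : WT Sz8.T.tb G Ω) : W.ev (Tb.lt 4) ∈ (cl (W.gs ts) ts.length) := W.mem_of (ts := [0x40420404042424242404040424001a, 0x42404040424242424040402404001a, 0x24024202424240420424202424024204042040400028, 0x4040240402420424202424024042424202420420028]) ⟨mx0 W, mx1 W, mx2 W, mx3 W⟩ 0x21121303021200303130031211121001d _ (by decide +kernel)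
theorem mg5 (W : WT Sz8.T.tb G Ω) : W.ev (Tb.lt 5) ∈ (cl (W.gs ts) ts.length) := W.mem_of (ts := [0x40420404042424242404040424001a, 0x42404040424242424040402404001a, 0x24024202424240420424202424024204042040400028, 0x4040240402420424202424024042424202420420028]) ⟨mx0 W, mx1 W, mx2 W, mx3 W⟩ 0x21121303021200303130031211121001d _ (by decide +kernel)
theorem mg6 (W : WT Sz8.T.tb G Ω) : W.ev (Tb.lt 6) ∈ (cl (W.gs ts) ts.length) := W.mem_of (ts := [0x40420404042424242404040424001a, 0x42404040424242424040402404001a, 0x24024202424240420424202424024204042040400028, 0x4040240402420424202424024042424202420420028]) ⟨mx0 W, mx1 W, mx2 W, mx3 W⟩ 0x0 _ (by decide +kernel)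
theorem mg7 (W : WT Sz8.T.tb G Ω) : W.ev (Tb.lt 7) ∈ (cl (W.gs ts) ts.length) := W.mem_of (ts := [0x40420404042424242404040424001a, 0x42404040424242424040402404001a, 0x24024202424240420424202424024204042040400028, 0x4040240402420424202424024042424202420420028]) ⟨mx0 W, mx1 W, mx2 W, mx3 W⟩ 0x0 _ (by decide +kernel)
theorem mg8 (W : WT Sz8.T.tb G Ω) : W.ev (Tb.lt 8) ∈ (cl (W.gs ts) ts.length) := W.mem_of (ts := [0x40420404042424242404040424001a, 0x42404040424242424040402404001a, 0x24024202424240420424202424024204042040400028, 0x4040240402420424202424024042424202420420028]) ⟨mx0 W, mx1 W, mx2 W, mx3 W⟩ 0x0 _ (by decide +kernel)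
theorem mg9 (W : WT Sz8.T.tb G Ω) : W.ev (Tb.lt 9) ∈ (cl (W.gs ts) ts.length) := W.mem_of (ts := [0x40420404042424242404040424001a, 0x42404040424242424040402404001a, 0x24024202424240420424202424024204042040400028, 0x4040240402420424202424024042424202420420028]) ⟨mx0 W, mx1 W, mx2 W, mx3 W⟩ 0x0 _ (by decide +kernel)
theorem mg10 (W : WT Sz8.T.tb G Ω) : W.ev (Tb.lt 10) ∈ (cl (W.gs ts) ts.length) := W.mem_of (ts := [0x40420404042424242404040424001a, 0x42404040424242424040402404001a, 0x24024202424240420424202424024204042040400028, 0x4040240402420424202424024042424202420420028]) ⟨mx0 W, mx1 W, mx2 W, mx3 W⟩ 0x0 _ (by decide +kernel)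
theorem mg11 (W : WT Sz8.T.tb G Ω) : W.ev (Tb.lt 11) ∈ (cl (W.gs ts) ts.length) := W.mem_of (ts := [0x40420404042424242404040424001a, 0x42404040424242424040402404001a, 0x24024202424240420424202424024204042040400028, 0x4040240402420424202424024042424202420420028]) ⟨mx0 W, mx1 W, mx2 W, mx3 W⟩ 0x0 _ (by decide +kernel)
theorem mg12 (W : WT Sz8.T.tb G Ω) : W.ev (Tb.lt 12) ∈ (cl (W.gs ts) ts.length) := W.mem_of (ts := [0x40420404042424242404040424001a, 0x42404040424242424040402404001a, 0x24024202424240420424202424024204042040400028, 0x4040240402420424202424024042424202420420028]) ⟨mx0 W, mx1 W, mx2 W, mx3 W⟩ 0x0 _ (by decide +kernel)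
theorem mg13 (W : WT Sz8.T.tb G Ω) : W.ev (Tb.lt 13) ∈ (cl (W.gs ts) ts.length) := W.mem_of (ts := [0x40420404042424242404040424001a, 0x42404040424242424040402404001a, 0x24024202424240420424202424024204042040400028, 0x4040240402420424202424024042424202420420028]) ⟨mx0 W, mx1 W, mx2 W, mx3 W⟩ 0x0 _ (by decide +kernel)
theorem mg14 (W : WT Sz8.T.tb G Ω) : W.ev (Tb.lt 14) ∈ (cl (W.gs ts) ts.length) := W.mem_of (ts := [0x40420404042424242404040424001a, 0x42404040424242424040402404001a, 0x24024202424240420424202424024204042040400028, 0x4040240402420424202424024042424202420420028]) ⟨mx0 W, mx1 W, mx2 W, mx3 W⟩ 0x0 _ (by decide +kernel)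
theorem mg15 (W : WT Sz8.T.tb G Ω) : W.ev (Tb.lt 15) ∈ (cl (W.gs ts) ts.length) := W.mem_of (ts := [0x40420404042424242404040424001a, 0x42404040424242424040402404001a, 0x24024202424240420424202424024204042040400028, 0x4040240402420424202424024042424202420420028]) ⟨mx0 W, mx1 W, mx2 W, mx3 W⟩ 0x0 _ (by decide +kernel)
theorem gt (W : WT Sz8.T.tb G Ω) (h : cl W.gen 16 = ⊤) : cl (W.gs ts) 4 = ⊤ := W.top_of h (by decide) ⟨mg0 W, mg1 W, mg2 W, mg3 W, mg4 W, mg5 W, mg6 W, mg7 W, mg8 W, mg9 W, mg10 W, mg11 W, mg12 W, mg13 W, mg14 W, mg15 W⟩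

/-- Exceptional Schur multiplier: the Suzuki group Sz(8), built over the field with 8 elements using the map x ↦ x⁴, has Schur multiplier a four-group, the product of two cyclic groups of order 2 (here the Schur multiplier is described through stem extensions, as in the definitions). -/
theorem result {F : Type*} [Field F] [Fintype F] (hF : Fintype.card F = 8) : Cfsg.HasSchurMultiplier ↥(Cfsg.Lie.Sz F 4) (Multiplicative (ZMod 2 × ZMod 2)) := by
  obtain ⟨a, _, _, W, t⟩ := Sz8.full hF
  have t' := gt W t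
  have hb := ((PrSz8.k1 (rel W) (card_of_top t' a)).top t').kb (xp_card a)
  have hc := ((W.rw ts ok).orc rfl).cover t' a PrSz8.p1 (rel W) CvSz8.hf CvSz8.E ⟨0x1101, 0x2201, 13, 4, 5, 2⟩ ⟨0x202002, 0x30302, 7, 6, 7, 2⟩ ⟨0x0, 0x0, 1, 15, 15, 1⟩ CvSz8.v2080 (by decide +kernel) [0] 0x1 0x3301 0x131302 0x212102 0x0 0x0 (by decide +kernel)
  exact id (hb.hasSM hc ⟨zm2 _ _⟩ (by simp))

end Cfsg.Agent.S2112
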