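import Cfsg.Statements.S2116
import Cfsg.Agent.H3.A67

set_option autoImplicit false
open Cfsg

namespace Cfsg.Agent.S2116

open CfsgPm CfsgH1 Equiv
def a6 := (⟨swap 0 1 * swap 1 2 * swap 2 3 * swap 4 5, Perm.mem_alternatingGroup.2 (by decide +kernel)⟩ : alternatingGroup (Fin 6))
def b6 := (⟨swap 0 2 * swap 4 5, Perm.mem_alternatingGroup.2 (by decide +kernel)⟩ : alternatingGroup (Fin 6))
def c6 := (⟨swap 0 1 * swap 1 2, Perm.mem_alternatingGroup.2 (by decide +kernel)⟩ : alternatingGroup (Fin 6))
def d6 := (⟨swap 3 4 * swap 4 5, Perm.mem_alternatingGroup.2 (by decide +kernel)⟩ : alternatingGroup (Fin 6))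
def f6 : DihedralGroup 4 →* alternatingGroup (Fin 6) := MonoidHom.mk' (fun x => match x with | .r i => a6 ^ i.val | .sr i => b6 * a6 ^ i.val)
  (by rintro (i | i) (j | j) <;> revert i j <;> decide +kernel)
def g6 : Multiplicative (ZMod 3 × ZMod 3) →* alternatingGroup (Fin 6) := MonoidHom.mk' (fun x => c6 ^ x.toAdd.1.val * d6 ^ x.toAdd.2.val) (by decide +kernel)
theorem up6 : Nat.card (SM (alternatingGroup (Fin 6))) ∣ 2 * 3 := by
  haveI := Fact.mk Nat.prime_five
  haveI := Fact.mk Nat.prime_seven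
  exact sm_dvd f6 g6 (by rintro (i | i) (j | j) <;> revert i j <;> decide +kernel) (by decide +kernel)
    (S3965.result 4 (by decide)) (S3951.result 3 3 dvd_rfl) (⟨swap 0 1 * swap 1 2 * swap 2 3 * swap 3 4, Perm.mem_alternatingGroup.2 (by decide +kernel)⟩ : alternatingGroup (Fin 6))
    1 (N := 360) (x := 8) (y := 9) (u := 5) (v := 1) (by rw [nat_card_alternatingGroup]; simp; rfl)
    DihedralGroup.nat_card (by simp) (orderOf_eq_prime (by decide +kernel) (by decide +kernel))
    orderOf_one (by decide)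
def a7 := (⟨swap 0 1 * swap 1 2 * swap 2 3 * swap 4 5, Perm.mem_alternatingGroup.2 (by decide +kernel)⟩ : alternatingGroup (Fin 7))
def b7 := (⟨swap 0 2 * swap 4 5, Perm.mem_alternatingGroup.2 (by decide +kernel)⟩ : alternatingGroup (Fin 7))
def c7 := (⟨swap 0 1 * swap 1 2, Perm.mem_alternatingGroup.2 (by decide +kernel)⟩ : alternatingGroup (Fin 7))
def d7 := (⟨swap 3 4 * swap 4 5, Perm.mem_alternatingGroup.2 (by decide +kernel)⟩ : alternatingGroup (Fin 7))
def f7 : DihedralGroup 4 →* alternatingGroup (Fin 7) := MonoidHom.mk' (fun x => match x with | .r i => a7 ^ i.val | .sr i => b7 * a7 ^ i.val)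
  (by rintro (i | i) (j | j) <;> revert i j <;> decide +kernel)
def g7 : Multiplicative (ZMod 3 × ZMod 3) →* alternatingGroup (Fin 7) := MonoidHom.mk' (fun x => c7 ^ x.toAdd.1.val * d7 ^ x.toAdd.2.val) (by decide +kernel)
theorem up7 : Nat.card (SM (alternatingGroup (Fin 7))) ∣ 2 * 3 := by
  haveI := Fact.mk Nat.prime_five
  haveI := Fact.mk Nat.prime_seven
  exact sm_dvd f7 g7 (by rintro (i | i) (j | j) <;> revert i j <;> decide +kernel) (by decide +kernel)
    (S3965.result 4 (by decide)) (S3951.result 3 3 dvd_rfl) (⟨swap 0 1 * swap 1 2 * swap 2 3 * swap 3 4, Perm.mem_alternatingGroup.2 (by decide +kernel)⟩ : alternatingGroup (Fin 7))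
    ⟨swap 0 1 * swap 1 2 * swap 2 3 * swap 3 4 * swap 4 5 * swap 5 6, Perm.mem_alternatingGroup.2 (by decide +kernel)⟩ (N := 2520) (x := 8) (y := 9) (u := 5) (v := 7) (by rw [nat_card_alternatingGroup]; simp; rfl)
    DihedralGroup.nat_card (by simp) (orderOf_eq_prime (by decide +kernel) (by decide +kernel))
    (orderOf_eq_prime (by decide +kernel) (by decide +kernel)) (by decide)

/-- Exceptional Schur multipliers of the alternating groups: for n = 6 and n = 7 the Schur multiplier of the alternating group of degree n is cyclic of order 6 (here the Schur multiplier is described through stem extensions, as in the definitions). -/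
theorem result (n : ℕ) (hn : n = 6 ∨ n = 7) : Cfsg.HasCyclicSchurMultiplier (alternatingGroup (Fin n)) 6 := by
  rcases hn with rfl | rfl
  exacts [cyc_of (by decide +kernel) (Nat.dvd_antisymm up6 (Nat.Coprime.mul_dvd_of_dvd_of_dvd (m := 2) (n := 3) rfl (two_dvd 4 (by decide)) three6)),
    cyc_of (by decide +kernel) (Nat.dvd_antisymm up7 (Nat.Coprime.mul_dvd_of_dvd_of_dvd (m := 2) (n := 3) rfl (two_dvd 5 (by decide)) three7))]

end Cfsg.Agent.S2116
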