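import Cfsg.Statements.S2118
import Cfsg.Agent.H3.A67
import Cfsg.Agent.S2116
import Cfsg.Agent.S0254
import Cfsg.Agent.H8.Ex2
import Cfsg.Agent.H5.Iso2
import Cfsg.Agent.H7.Mi

set_option autoImplicit false
open Cfsg

namespace Cfsg.Agent.S2118

open CfsgPm CfsgH1 CfsgH8 CfsgH5 Matrix
abbrev S9 := SpecialLinearGroup (Fin 2) F9
def a : S9 := ⟨!![⟨1, 1⟩, 0; 0, ⟨2, 1⟩], by decide +kernel⟩
def b : S9 := ⟨!![0, 1; -1, 0], by decide +kernel⟩
def c : S9 := ⟨!![1, 1; 0, 1], by decide +kernel⟩
def d : S9 := ⟨!![1, ⟨0, 1⟩; 0, 1], by decide +kernel⟩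
def e : S9 := ⟨!![0, ⟨0, 1⟩; ⟨0, 1⟩, ⟨1, 1⟩], by decide +kernel⟩
def f : QuaternionGroup 4 →* S9 := MonoidHom.mk' (fun x => match x with | .a i => a ^ i.val | .xa i => b * a ^ i.val)
  (by rintro (i | i) (j | j) <;> revert i j <;> decide +kernel)
def g : Multiplicative (ZMod 3 × ZMod 3) →* S9 := MonoidHom.mk' (fun x => c ^ x.toAdd.1.val * d ^ x.toAdd.2.val) (by decide +kernel)
theorem up : Nat.card (SM S9) ∣ 1 * 3 := by
  haveI := Fact.mk Nat.prime_five
  exact sm_dvd f g (by rintro (i | i) (j | j) <;> revert i j <;> decide +kernel) (by decide +kernel)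
    (S3963.result 4) (S3951.result 3 3 dvd_rfl) e 1
    (N := 720) (x := 16) (y := 9) (u := 5) (v := 1) (CfsgH7.card_sl' card_F9 (by decide))
    (by rw [Nat.card_eq_fintype_card, QuaternionGroup.card]) (by simp) (orderOf_eq_prime (by decide +kernel) (by decide +kernel))
    orderOf_one (by decide)

/-- For the field with 9 elements, the special linear group SL₂ has Schur multiplier cyclic of order 3 (here the Schur multiplier is described through stem extensions, as in the definitions). -/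
theorem result {F : Type*} [Field F] [Fintype F] (hF : Fintype.card F = 9) : Cfsg.HasCyclicSchurMultiplier (Matrix.SpecialLinearGroup (Fin 2) F) 3 := by
  refine HasSM.congr (G := S9) (cyc_of Nat.prime_three.squarefree (((Nat.dvd_prime Nat.prime_three).1 up).resolve_left fun h => ?_))
    (nonempty_slCongr (card_F9.trans hF.symm)).some (.refl _)
  obtain ⟨σ, h1, h2⟩ := stem_of (S0254.result card_F9).some.symm (commutator_SL (.inr ⟨⟨0, 1⟩, by decide +kernel, by decide +kernel⟩))
  obtain ⟨Δ, _, _, τ, h3, ⟨e⟩⟩ := (S2116.result 6 (.inl rfl)).1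
  obtain ⟨π, hπ⟩ := S3958.result σ h1 (hasSM_one_iff.2 (Nat.card_eq_one_iff_unique.1 h).1) Δ τ h3
  have := Nat.card_le_card_of_surjective π hπ
  rw [h2, card_center_SL, card_F9, Nat.card_congr e.toEquiv] at this
  simp at this

end Cfsg.Agent.S2118
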