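import Cfsg.Statements.S2126
import Cfsg.Agent.H7.Sz12

set_option autoImplicit false
open Cfsg

namespace Cfsg.Agent.S2126

open CfsgH7 MulAction
open scoped Pointwise symmDiff
set_option maxRecDepth 100000


/-- Outer automorphisms of the Suzuki groups: for q = 2^(2m+1) with m ≥ 1 the outer automorphism group of Sz(q) has order 2m + 1 (field automorphisms only). -/
theorem result {F : Type*} [Field F] [Fintype F] {m : ℕ} (hm : 1 ≤ m) (hF : Fintype.card F = 2 ^ (2 * m + 1)) : Nat.card (Cfsg.Out ↥(Cfsg.Lie.Sz F (2 ^ (m + 1)))) = 2 * m + 1 := by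
  haveI := SzM.charP hF
  obtain ⟨_, ⟨S⟩⟩ := SzM.lie_model hm hF
  haveI := S.finG
  have e := S.card_aut fun σ x => by rw [SzM.th_apply, SzM.th_apply, map_pow]
  rw [card_ringAut (n := 2 * m + 1) (by rw [Nat.card_eq_fintype_card, hF]),
    Subgroup.card_eq_card_quotient_mul_card_subgroup (Cfsg.Inn _),
    ← Nat.card_congr (MonoidHom.ofInjective S.conj_inj).toEquiv, mul_comm] at e
  exact Nat.eq_of_mul_eq_mul_left Nat.card_pos e

end Cfsg.Agent.S2126
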