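import Cfsg.Statements.S2127
import Cfsg.Agent.H6.Ree1

set_option autoImplicit false
open Cfsg

namespace Cfsg.Agent.S2127

open CfsgH6 CfsgH6.Chev

/-- Outer automorphisms of the small Ree groups: for q = 3^(2m+1) with m ≥ 1 the outer automorphism group of ²G₂(q) has order 2m + 1 (field automorphisms only). -/
theorem result {K : Type*} [Field K] [Fintype K] {m : ℕ} (hm : 1 ≤ m) (hK : Fintype.card K = 3 ^ (2 * m + 1)) : Nat.card (Cfsg.Out ↥(Cfsg.Lie.twistedG2 K (3 ^ m))) = 2 * m + 1 := by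
  haveI : Fact (Nat.Prime 3) := ⟨Nat.prime_three⟩
  obtain ⟨φ, T, h, hq⟩ := exists_isG2 hK
  obtain ⟨c, h0, h1⟩ := exists_sq_ne (K := K) (n := 2) (by
    rw [hK]; exact Nat.pow_lt_pow_right (a := 3) (m := 1) (by norm_num) (by omega)) two_ne_zero
  exact (h.card_out hq ⟨c, fun e => h1 (mul_left_cancel₀ h0 (by linear_combination e))⟩).trans (card_ringAut hK)

end Cfsg.Agent.S2127
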