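import Cfsg.Statements.S2134
import Cfsg.Agent.H7.Pr.C52
import Cfsg.Agent.H7.Mt.L52
import Cfsg.Agent.H7.He.W
import Cfsg.Agent.H7.AuQ

set_option autoImplicit false
open Cfsg

namespace Cfsg.Agent.S2134

open CfsgH7 MulAction
open scoped Pointwise symmDiff
set_option maxRecDepth 100000
set_option Elab.async false

variable {G Ω : Type*} [Group G] [MulAction G Ω]
def tsa : List ℕ := [0x4042020404242040424024042040204020242404020402424242420404240003d, 0x40420402402404240424042402404202020402424242420404240034, 0x404202040420240242024240017, 0x424202420420240402024040017, 0x40400004, 0x4040004, 0x204024024242042040242020404204242420424240402420424240036, 0x404202404202404204042424240402424242420026]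
theorem oka : lall (okW L52.T.tb.n) tsa = true := by decide +kernel
theorem qa0 : lall (fun r => (L52.T.tb.rw tsa).oneL [r]) PrC52.R0 = true := by decide +kernel
theorem qa1 : lall (fun r => (L52.T.tb.rw tsa).oneL [r]) PrC52.K1.T.rels = true := by decide +kernel
theorem qa2 : lall (fun r => (L52.T.tb.rw tsa).oneL [r]) PrC52.K2.T.rels = true := by decide +kernel
theorem qa3 : lall (fun r => (L52.T.tb.rw tsa).oneL [r]) PrC52.K3.T.rels = true := by decide +kernel
theorem rela (W : WT L52.T.tb G Ω) : ∀ r ∈ PrC52.R3, ev8 (W.gs tsa) r = 1 := rels_append (rels_append (rels_append (((W.rw tsa oka).orc rfl).rels qa0) (((W.rw tsa oka).orc rfl).rels qa1)) (((W.rw tsa oka).orc rfl).rels qa2)) (((W.rw tsa oka).orc rfl).rels qa3)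
def tsb : List ℕ := [0x510510610431062631010462601013106015106142010416015106010038, 0x106015106140102416015106013101062640101362601340160150150038, 0x64151460151063134103601510614101401040316015102610210601510614201041601510601004d, 0x10601510614010241601510601201620151061304010410141601510630143136015106415146004d, 0x36015106123601510620013, 0x26015106321601510630013, 0x5060160151063103106015106204101601510631014010403160151026102003d, 0x6510106101410141312106015106142010416015106013601510620036]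
theorem okb : lall (okW He.W.tb.n) tsb = true := by decide +kernel
theorem qb0 : lall (fun r => (He.W.tb.rw tsb).oneL [r]) PrC52.R0 = true := by decide +kernel
theorem qb1 : lall (fun r => (He.W.tb.rw tsb).oneL [r]) PrC52.K1.T.rels = true := by decide +kernel
theorem qb2 : lall (fun r => (He.W.tb.rw tsb).oneL [r]) PrC52.K2.T.rels = true := by decide +kernel
theorem qb3 : lall (fun r => (He.W.tb.rw tsb).oneL [r]) PrC52.K3.T.rels = true := by decide +kernel
theorem relb (W : WT He.W.tb G Ω) : ∀ r ∈ PrC52.R3, ev8 (W.gs tsb) r = 1 := rels_append (rels_append (rels_append (((W.rw tsb okb).orc rfl).rels qb0) (((W.rw tsb okb).orc rfl).rels qb1)) (((W.rw tsb okb).orc rfl).rels qb2)) (((W.rw tsb okb).orc rfl).rels qb3)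
def Dal1 : Lev := ⟨2, 0x7ffffffd, 0, 1, 30, [0x40001, 0x200003, 0x4202400007]⟩
theorem Dav1 : L52.T.tb.lev 2 Dal1 = true := by decide +kernel
def Dal2 : Lev := ⟨5, 0x7ffffff8, 0, 0, 28, [0x2424042420009, 0x4242024240009, 0x2040204020009, 0x40424042404000b]⟩
theorem Dav2 : L52.T.tb.lev 2 Dal2 = true := by decide +kernel
def Dal3 : Lev := ⟨9, 0x7fffff80, 0, 0, 24, [0x24202420007, 0x4242024240009, 0x2040204020009, 0x240240420420000d]⟩
theorem Dav3 : L52.T.tb.lev 2 Dal3 = true := by decide +kernel
def Dal4 : Lev := ⟨17, 0x7fff8000, 0, 0, 16, [0x2042042024024020010, 0x242404024040204020011, 0x4020420420240240240012, 0x2042424242024242424020015]⟩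
theorem Dav4 : L52.T.tb.lev 2 Dal4 = true := by decide +kernel
def Da : List Lev := [Dal1, Dal2, Dal3, Dal4]
theorem Das : (L52.T.tb.stat 0x1 Da [1] &&ₙ (L52.T.tb.N *ₙ Tb.dsz Da =ₙ 9999360) &&ₙ (Nat.succ 1 ≤ₙ L52.T.tb.N) &&ₙ (1 ≤ₙ 9999360)) = true := by decide +kernel
theorem Dac [Finite G] (W : WT L52.T.tb G Ω) {C : ℕ} (hC : C ≤ L52.T.tb.n) (top : cl W.gen C = ⊤) (hM : Nat.card G = 9999360) (tr : W.X ⊆ MulAction.orbit G (W.pt 0)) : Nat.card (Subgroup.centralizer {W.ev 0x1}) ≤ 21504 :=
  W.cent_le hC top (W.cm_top hM tr (D := Da) ⟨Dav1, Dav2, Dav3, Dav4⟩ Das) (by decide +kernel)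
def Dbl1 : Lev := ⟨698, 0x3fffffffffffffffffffffffffffffffffffffffffffffffffffffffffffffffffffffffffffffffffffffffffffffffffffffffffffffffffffffffffffffffffffffffffffffffffffffffffffffffffffffffffffffffffffffffffffffffffffffffffffffffffffffffffffffffffffffffffffffffffffffffffffffffffffffffffffffffffffffffffffffffffffffffffffffffffffffffffffffffffffffffffffffffffffc000000000000000000000000000000000000000000000000000000000000000000000000000000000000000000000000000000000000000000000000000000000000000000000000000000000000000000000000000000, 0, 0, 1360, [0x1, 0x10001, 0x60151060007]⟩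
theorem Dbv1 : He.W.tb.lev 9 Dbl1 = true := by decide +kernel
def Dbl2 : Lev := ⟨131, 0x1e880000000000000000000000000000000, 0, 0, 6, [0x10001, 0x514601014101064100012]⟩
theorem Dbv2 : He.W.tb.lev 9 Dbl2 = true := by decide +kernel
def Dbl3 : Lev := ⟨133, 0x1e080000000000000000000000000000000, 0, 1, 5, [0x40001, 0x1014601014101064150410015]⟩
theorem Dbv3 : He.W.tb.lev 9 Dbl3 = true := by decide +kernel
def Dbl4 : Lev := ⟨142, 0x601460000000000000000000000000000000000, 0, 0, 6, [0x20001, 0x301016010610130160106010017]⟩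
theorem Dbv4 : He.W.tb.lev 9 Dbl4 = true := by decide +kernel
def Dbl5 : Lev := ⟨154, 0x600060000000000000000000000000000000000, 0, 1, 4, [0x410146010141010641504140017, 0x62610601061031016010610103001a]⟩
theorem Dbv5 : He.W.tb.lev 9 Dbl5 = true := by decide +kernel
def Dbl6 : Lev := ⟨1, 0x100002, 0, 0, 2, [0x2626413140009]⟩
theorem Dbv6 : He.W.tb.lev 9 Dbl6 = true := by decide +kernel
def Db : List Lev := [Dbl1, Dbl2, Dbl3, Dbl4, Dbl5, Dbl6]
theorem Dbs : (He.W.tb.stat 0x10001 Db [0] &&ₙ (He.W.tb.N *ₙ Tb.dsz Db =ₙ 4030387200) &&ₙ (Nat.succ 0 ≤ₙ He.W.tb.N) &&ₙ (1 ≤ₙ 4030387200)) = true := by decide +kernel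
theorem Dbc [Finite G] (W : WT He.W.tb G Ω) {C : ℕ} (hC : C ≤ He.W.tb.n) (top : cl W.gen C = ⊤) (hM : Nat.card G = 4030387200) (tr : W.X ⊆ MulAction.orbit G (W.pt 0)) : Nat.card (Subgroup.centralizer {W.ev 0x10001}) ≤ 21504 :=
  W.cent_le hC top (W.cm_top hM tr (D := Db) ⟨Dbv1, Dbv2, Dbv3, Dbv4, Dbv5, Dbv6⟩ Dbs) (by decide +kernel)
theorem ga [Finite G] (W : WT L52.T.tb G Ω) : 21504 ≤ Nat.card (cl (W.gs tsa) 8) := W.card_ge oka 2 [(3, 14, [0x1, 0x60001]), (7, 12, [0x60001, 0x160710005]), (15, 8, [0x770002, 0x71200004, 0x2110005]), (1, 16, [0x40001, 0x1400003, 0x410003, 0x614070005])] (by decide +kernel)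
theorem gb [Finite G] (W : WT He.W.tb G Ω) : 21504 ≤ Nat.card (cl (W.gs tsb) 8) := W.card_ge okb 9 [(0, 42, [0x1, 0x20001]), (698, 16, [0x6270003, 0x70600004]), (131, 4, [0x561610005]), (142, 4, [0x71726000007, 0x51164160008]), (1, 2, [0x1616616410009])] (by decide +kernel)

/-- The Held group (presented on seven involutions, as in the definitions) has an involution whose centraliser is isomorphic to the centraliser of a transvection in SL(5, 2) (a group of shape 2^{1+6}:GL(3, 2)). -/
theorem result (s : Matrix.SpecialLinearGroup (Fin 5) (ZMod 2)) (hs : (s : Matrix (Fin 5) (Fin 5) (ZMod 2)) = Matrix.transvection 0 1 1) : ∃ z : Cfsg.Spor.He, orderOf z = 2 ∧ Nonempty (↥(Subgroup.centralizer ({z} : Set Cfsg.Spor.He)) ≃* ↥(Subgroup.centralizer ({s} : Set (Matrix.SpecialLinearGroup (Fin 5) (ZMod 2))))) := by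
  have := He.W.finite
  have h := He.P.wt_ok He.invOk _ He.cb.2.2 (C := 7) (by decide +kernel) He.card He.rk
  obtain ⟨a, _, _, W, t, e⟩ := L52.full (F := ZMod 2) (ZMod.card 2)
  have e1 := He.W.wt.cent_eq (Dbc He.W.wt h.1.1 h.1.2 h.2.1 h.2.2) (gb _) (by decide +kernel)
  have e2 := W.cent_eq (Dac W le_rfl t a (W.orbit_top le_rfl t (S := [0x1, 0x20001, 0x40001]) (b := 0) (by decide +kernel)).ge) (ga _) (by decide +kernel)
  have e3 : W.ev 0x1 = s := (evW_lt W.gen (j := 0) (by norm_num)).trans (Subtype.ext (e.trans hs.symm))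
  obtain ⟨f, -⟩ := iso_of_pres PrC52.p3 (relb He.W.wt) (rela W) (gb _) (ga _)
  rw [e3] at e2
  exact ⟨_, He.W.wt.ord2 1 (by decide +kernel), ⟨((MulEquiv.subgroupCongr e1.symm).trans f).trans (MulEquiv.subgroupCongr e2)⟩⟩

end Cfsg.Agent.S2134
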