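import Cfsg.Statements.S2154
import Cfsg.Agent.H6.BT2

set_option autoImplicit false
open Cfsg

namespace Cfsg.Agent.S2154

open CfsgH6 CfsgH6.Chev

/-- The Borel–Tits property of the finite Chevalley groups of types G₂, B₂, D₄, F₄, E₆, E₇, E₈ over a finite field of characteristic p: for every non-trivial p-subgroup U of the group G there are an element g of G and a proper set J of fundamental roots such that the normaliser of U in G lies in the conjugate by g of the standard parabolic subgroup P_J and U lies in the conjugate by g of its unipotent radical U_J. -/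
theorem result {F : Type*} [Field F] [Fintype F] (p : ℕ) [Fact p.Prime] [CharP F p] (D : Cfsg.Lie.ChevalleyDatum) (hD : D ∈ [Cfsg.Lie.chevG2, Cfsg.Lie.chevB2, Cfsg.Lie.chevD4, Cfsg.Lie.chevF4, Cfsg.Lie.chevE6, Cfsg.Lie.chevE7, Cfsg.Lie.chevE8]) (U : Subgroup (GL D.Idx F)) (hUG : U ≤ D.group F) (hU : IsPGroup p ↥U) (hne : U ≠ ⊥) : ∃ g ∈ D.group F, ∃ J : Set ℕ, (∃ i, i < D.rank ∧ i ∉ J) ∧ Subgroup.normalizer (U : Set (GL D.Idx F)) ⊓ D.group F ≤ (D.parabolicSubgroup F J).map (MulAut.conj g).toMonoidHom ∧ U ≤ (D.unipotentRadical F J).map (MulAut.conj g).toMonoidHom := by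
  obtain ⟨g⟩ := good_of_mem hD
  obtain ⟨y, J, h1, h2, h3⟩ := g.borel_tits p (A := U.subgroupOf (D.group F)) (hU.comap_of_injective _ Subtype.val_injective)
    (fun e => hne (by rwa [Subgroup.subgroupOf_eq_bot, disjoint_iff, inf_eq_left.2 hUG] at e))
  obtain ⟨J, rfl⟩ : ∃ J' : Set ℕ, J = {i : Fin D.rank | (i : ℕ) ∈ J'} := ⟨Fin.val '' J, by ext; simp [Fin.ext_iff.symm]⟩
  simp only [g.adjG_PJ, g.adjG_UJ, Subgroup.mem_subgroupOf] at h2 h3
  obtain ⟨i, hi⟩ := (Set.ne_univ_iff_exists_notMem _).1 h1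
  refine ⟨y, y.2, J, ⟨i, i.2, hi⟩, fun z hz => ⟨_, h3 ⟨z, hz.2⟩ fun u hu => (Subgroup.mem_normalizer_iff.1 hz.1 u).1 hu,
    by simp [mul_assoc]⟩, fun u hu => ⟨_, h2 ⟨u, hUG hu⟩ hu, by simp [mul_assoc]⟩⟩

end Cfsg.Agent.S2154
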