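import Cfsg.Statements.S2155
import Cfsg.Agent.H6.BT2
import Cfsg.Agent.Lead.GenFitting

set_option autoImplicit false
open Cfsg

namespace Cfsg.Agent.S2155

open CfsgH6 CfsgH6.Chev

/-- In a Chevalley group of type G₂, B₂, D₄, F₄, E₆, E₇ or E₈ over a finite field of characteristic p (for types G₂ and B₂ the field is assumed to have at least 3 elements, so that the group is simple), the generalized Fitting subgroup of every proper standard parabolic subgroup P_J is a p-group (P_J is p-constrained with trivial largest normal subgroup of order prime to p). -/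
theorem result {F : Type*} [Field F] [Fintype F] (p : ℕ) [Fact p.Prime] [CharP F p] (D : Cfsg.Lie.ChevalleyDatum) (hD : D ∈ [Cfsg.Lie.chevG2, Cfsg.Lie.chevB2, Cfsg.Lie.chevD4, Cfsg.Lie.chevF4, Cfsg.Lie.chevE6, Cfsg.Lie.chevE7, Cfsg.Lie.chevE8]) (hq : (D = Cfsg.Lie.chevG2 ∨ D = Cfsg.Lie.chevB2) → 3 ≤ Fintype.card F) (J : Set ℕ) (hJ : ∃ i, i < D.rank ∧ i ∉ J) : IsPGroup p ↥(Cfsg.generalizedFittingSubgroup ↥(D.parabolicSubgroup F J)) := by
  obtain ⟨g, hc⟩ := conn_of_mem hD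
  obtain ⟨i, hi, hJ⟩ := hJ
  have := g.finiteG F
  rw [g.PJ_eq]
  set J' := {i : Fin D.rank | (i : ℕ) ∈ J}
  haveI : Finite ((g.adj F).PJ J') := Finite.of_injective _
    (Subgroup.inclusion_injective (((g.adj F).PJ_le_G J').trans (g.G_eq F).ge))
  haveI : (((g.adj F).UJ J').subgroupOf ((g.adj F).PJ J')).Normal :=
    (Subgroup.normal_subgroupOf_iff_le_normalizer (((g.adj F).UJ_le_U _).trans ((g.adj F).U_le_B.trans
      ((g.adj F).B_le_PJ _)))).2 ((g.isSt F).PJ_le_normalizer J')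
  have h1 := CfsgH1.le_pCore (p := p) (N := ((g.adj F).UJ J').subgroupOf ((g.adj F).PJ J'))
    (IsPGroup.comap_of_injective (by rw [PreSt.UJ_eq]; exact PreSt.XS_isPGroup g.sep1 p _) _ Subtype.val_injective)
  rw [(CfsgLead.genFitting_eq_pCore_iff p).2 fun c hc' => h1 ((g.isSt F).cent_UJ (g.mult F) (fun h hh e => ?_) hc.sound
    (i := ⟨i, hi⟩) hJ c.2 fun u hu => ?_)]
  · exact CfsgH1.isPGroup_pCore p _
  · obtain ⟨χ, rfl⟩ := g.H_le_range hh
    exact g.dg_eq_one e
  · exact (congrArg Subtype.val (hc' ⟨u, (g.adj F).B_le_PJ _ ((g.adj F).U_le_B ((g.adj F).UJ_le_U _ hu))⟩ (h1 hu))).symm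

end Cfsg.Agent.S2155
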