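import Cfsg.Statements.S2159
import Cfsg.Agent.H6.Aut2

set_option autoImplicit false
open Cfsg

namespace Cfsg.Agent.S2159

open CfsgH6 CfsgH6.Chev CfsgH6.Chev.Good CfsgH6.PreSt in
theorem aux {F : Type*} [Field F] [Finite F] {D : Cfsg.Lie.ChevalleyDatum} {g : Good D} (h : g.Adm F)
    (hr : Nat.card (g.pA F).range = 1 ∨ Nat.card (g.pA F).range = 2 ∨ (Nat.card (g.pA F).range = 6 ∧
      ∃ a ∈ (g.pA F).range, ∃ b ∈ (g.pA F).range, a * b ≠ b * a))
    (Dbar Fbar : Subgroup (Cfsg.Out ↥(D.group F)))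
    (hDbar : Dbar = (Subgroup.closure {φ : MulAut ↥(D.group F) | D.IsDiagonalAut φ}).map (QuotientGroup.mk' (Cfsg.Inn ↥(D.group F))))
    (hFbar : Fbar = (Subgroup.closure {φ : MulAut ↥(D.group F) | D.IsFieldAut φ}).map (QuotientGroup.mk' (Cfsg.Inn ↥(D.group F)))) :
    Dbar.Normal ∧ IsMulCommutative ↥Dbar ∧ IsCyclic ↥Fbar ∧ (Dbar ⊔ Fbar).Normal ∧
      ((Dbar ⊔ Fbar).index = 1 ∨ (Dbar ⊔ Fbar).index = 2 ∨
        ((Dbar ⊔ Fbar).index = 6 ∧ ¬ commutator (Cfsg.Out ↥(D.group F)) ≤ Dbar ⊔ Fbar)) := by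
  set mk := QuotientGroup.mk' (Cfsg.Inn ↥(D.group F))
  have hX := g.isStG F
  have hd : ∀ φ : MulAut (D.group F), D.IsDiagonalAut φ ↔
      ∃ c, (g.adjG F).SP φ (1 : Equiv.Perm (Fin D.rank)) c fun _ => .refl F := fun φ => by
    refine ⟨fun h1 => ?_, fun ⟨c, h1⟩ => ?_⟩
    · obtain ⟨ψ, h1⟩ := (g.isDiagonalAut_iff h.2.1).1 h1
      refine ⟨fun i => ψ (g.rt (g.cd.sim i)), fun i t => ⟨h1 _ _, ?_⟩⟩
      have : g.rt (g.cd.neg (g.cd.sim i)) = -g.rt (g.cd.sim i) := g.cd.rt_neg _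
      simp [h1, this, AddChar.map_neg_eq_inv]
    · obtain ⟨d, f, h2, h3, h4⟩ := g.exists_df c (.refl F)
      rw [hX.sp_ext (g.adjG_G F) h1 h4]
      exact (g.isDiagonalAut_iff h.2.1).2 ⟨charOf c, fun r t => by simp [h2, h3]⟩
  choose fa hfa using g.exists_fieldAut (F := F)
  let fh : (F ≃+* F) →* MulAut (D.group F) := MonoidHom.mk' fa fun a b => MulEquiv.toMonoidHom_injective
    (hom_ext' (g.adjG_G F) fun r t => by simp [hfa])
  have hf : {φ : MulAut ↥(D.group F) | D.IsFieldAut φ} = fh.range := Set.ext fun φ => by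
    rw [Set.mem_ofPred_eq, g.isFieldAut_iff]
    refine ⟨fun ⟨σ, h1⟩ => ⟨σ, MulEquiv.toMonoidHom_injective (hom_ext' (g.adjG_G F) fun r t => ?_)⟩, ?_⟩
    · exact (hfa _ _ _).trans (h1 _ _).symm
    · rintro ⟨σ, rfl⟩; exact ⟨σ, hfa σ⟩
  have hfs : ∀ σ, (g.adjG F).SP (fh σ) (1 : Equiv.Perm (Fin D.rank)) 1 fun _ => σ := fun σ i t =>
    ⟨(hfa σ _ _).trans (by simp), (hfa σ _ _).trans (by simp)⟩
  let φ : g.SA F →* Cfsg.Out (D.group F) := mk.comp (g.SA F).subtype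
  have hφ : Function.Surjective φ := fun o => by
    obtain ⟨θ, rfl⟩ := QuotientGroup.mk'_surjective _ o
    obtain ⟨x, hx⟩ := exists_stab (g := g) θ
    refine ⟨⟨_, hx⟩, ?_⟩
    have : mk (MulAut.conj x) = 1 := (QuotientGroup.eq_one_iff _).2 ⟨x, rfl⟩
    simp only [φ, MonoidHom.comp_apply, Subgroup.coe_subtype, map_mul, this, one_mul, mk]
  have hk : φ.ker ≤ (g.pA F).ker := by
    rintro ⟨θ, hθ⟩ h1
    obtain ⟨x, rfl⟩ := (QuotientGroup.eq_one_iff _).1 h1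
    refine hX.pA_eq _ fun i => ?_
    obtain ⟨c, -, h2, -⟩ := hX.act_H (conj_mem_stab.1 hθ) (g.cd.sim i)
    exact ⟨_, h2 1⟩
  let ψ := φ.liftOfSurjective hφ ⟨g.pA F, hk⟩
  have hψ : ∀ a, ψ (φ a) = g.pA F a := fun a => φ.liftOfRightInverse_comp_apply _ _ _ a
  have hR : ψ.range = (g.pA F).range := le_antisymm (by
    rintro _ ⟨o, rfl⟩
    obtain ⟨a, rfl⟩ := hφ o
    exact ⟨a, (hψ a).symm⟩) (by rintro _ ⟨a, rfl⟩; exact ⟨_, hψ a⟩)
  have hK : Dbar ⊔ Fbar = ψ.ker := by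
    rw [hDbar, hFbar, hf, Subgroup.closure_eq]
    refine le_antisymm (sup_le (Subgroup.map_le_iff_le_comap.2 ((Subgroup.closure_le _).2 fun θ hθ => ?_)) ?_)
      fun o ho => ?_
    · obtain ⟨c, h1⟩ := (hd θ).1 hθ
      exact (hψ ⟨θ, sp_mem h1⟩).trans (sp_pA h1)
    · rintro _ ⟨_, ⟨σ, rfl⟩, rfl⟩
      exact (hψ ⟨_, sp_mem (hfs σ)⟩).trans (sp_pA (hfs σ))
    · obtain ⟨a, rfl⟩ := hφ o
      obtain ⟨c, σ, h1⟩ := h.ker ((hψ a).symm.trans ho)
      obtain ⟨d, f, h2, h3, h4⟩ := g.exists_df c σ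
      have e : φ a = mk d * mk f := by rw [← map_mul, ← hX.sp_ext (g.adjG_G F) h1 h4]; rfl
      rw [e]
      exact mul_mem (Subgroup.mem_sup_left ⟨d, Subgroup.subset_closure ((g.isDiagonalAut_iff h.2.1).2 ⟨_, h2⟩), rfl⟩)
        (Subgroup.mem_sup_right ⟨f, by rw [← hf]; exact g.isFieldAut_iff.2 ⟨_, h3⟩, rfl⟩)
  refine ⟨⟨?_⟩, ?_, ?_, hK ▸ inferInstance, ?_⟩
  · rw [hDbar]
    rintro _ ⟨d, hd', rfl⟩ o
    obtain ⟨a, rfl⟩ := hφ o
    refine ⟨a * d * a⁻¹, ?_, by simp [φ]⟩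
    induction hd' using Subgroup.closure_induction with
    | one => simp
    | mul x y _ _ h1 h2 => simpa [mul_assoc] using mul_mem h1 h2
    | inv x _ h1 => simpa [mul_assoc] using inv_mem h1
    | mem d h1 =>
      obtain ⟨c, h1⟩ := (hd d).1 h1
      obtain ⟨c1, σ1, h2⟩ := hX.pA_spec (g.adjG_G F) a
      set π := hX.pA (g.adjG_G F) a
      refine Subgroup.subset_closure ((hd _).2 ⟨fun i => Units.map (σ1 (π⁻¹ i)).toMonoidHom (c (π⁻¹ i)), fun i t => ?_⟩)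
      obtain ⟨i, rfl⟩ := π.surjective i
      constructor
      · obtain ⟨t, rfl⟩ := ((c1 i).mulLeft_bijective.comp (σ1 i).bijective).2 t
        simp only [MulAut.mul_apply, Function.comp_apply]
        rw [← (h2 i t).1, Subgroup.coe_inv, MulAut.inv_apply_self]
        simp [(h1 i _).1, (h2 i _).1, mul_left_comm]
      · obtain ⟨t, rfl⟩ := ((c1 i)⁻¹.mulLeft_bijective.comp (σ1 i).bijective).2 t
        simp only [MulAut.mul_apply, Function.comp_apply]
        rw [← (h2 i t).2, Subgroup.coe_inv, MulAut.inv_apply_self]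
        simp [(h1 i _).2, (h2 i _).2, mul_left_comm]
  · rw [hDbar, MonoidHom.map_closure]
    refine Subgroup.isMulCommutative_closure ?_
    rintro _ ⟨a, ha, rfl⟩ _ ⟨b, hb, rfl⟩
    obtain ⟨c, h1⟩ := (hd a).1 ha
    obtain ⟨c', h2⟩ := (hd b).1 hb
    rw [← map_mul, ← map_mul]
    exact congrArg mk (hX.sp_ext (g.adjG_G F) (π := 1) (c := c * c') (σ := fun _ => .refl F)
      (fun i t => by simp [h1 i, h2 i, mul_assoc, mul_left_comm]) fun i t => by simp [h1 i, h2 i, mul_assoc, mul_left_comm])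
  · rw [hFbar, hf, Subgroup.closure_eq, MonoidHom.map_range]
    have := isCyclic_ringAut (F := F)
    exact isCyclic_of_surjective _ (mk.comp fh).rangeRestrict_surjective
  · rw [hK, Subgroup.index_ker, hR]
    refine hr.imp_right (Or.imp_right fun ⟨h1, a, ha, b, hb, h2⟩ => ⟨h1, fun h3 => h2 ?_⟩)
    rw [← hR] at ha hb
    obtain ⟨a, rfl⟩ := ha
    obtain ⟨b, rfl⟩ := hb
    have := h3 (Subgroup.commutator_mem_commutator (Subgroup.mem_top a) (Subgroup.mem_top b))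
    rwa [MonoidHom.mem_ker, map_commutatorElement, commutatorElement_eq_one_iff_mul_comm] at this

open CfsgH6 CfsgH6.Chev

/-- Structure of the outer automorphism group of the Chevalley group `G` of type G₂, B₂, D₄, F₄, E₆, E₇ or E₈ over a finite field. Let `D̄` be the image in `Out(G)` of the subgroup generated by the diagonal automorphisms and `F̄` the image of the subgroup generated by the field automorphisms. Then `D̄` is a normal abelian subgroup of `Out(G)`, `F̄` is cyclic, `D̄F̄` is a normal subgroup, and the quotient of `Out(G)` by `D̄F̄` is trivial, of order 2, or non-abelian of order 6 (so isomorphic to the symmetric group on three letters): its index is 1 or 2, or it is 6 with the commutator subgroup of `Out(G)` not inside `D̄F̄`. -/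
theorem result {F : Type*} [Field F] [Finite F] (D : Cfsg.Lie.ChevalleyDatum) (hD : D ∈ [Cfsg.Lie.chevG2, Cfsg.Lie.chevB2, Cfsg.Lie.chevD4, Cfsg.Lie.chevF4, Cfsg.Lie.chevE6, Cfsg.Lie.chevE7, Cfsg.Lie.chevE8])
    (Dbar Fbar : Subgroup (Cfsg.Out ↥(D.group F)))
    (hDbar : Dbar = (Subgroup.closure {φ : MulAut ↥(D.group F) | D.IsDiagonalAut φ}).map (QuotientGroup.mk' (Cfsg.Inn ↥(D.group F))))
    (hFbar : Fbar = (Subgroup.closure {φ : MulAut ↥(D.group F) | D.IsFieldAut φ}).map (QuotientGroup.mk' (Cfsg.Inn ↥(D.group F)))) :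
    Dbar.Normal ∧ IsMulCommutative ↥Dbar ∧ IsCyclic ↥Fbar ∧ (Dbar ⊔ Fbar).Normal ∧
      ((Dbar ⊔ Fbar).index = 1 ∨ (Dbar ⊔ Fbar).index = 2 ∨
        ((Dbar ⊔ Fbar).index = 6 ∧ ¬ commutator (Cfsg.Out ↥(D.group F)) ≤ Dbar ⊔ Fbar)) := by
  simp only [List.mem_cons, List.not_mem_nil, or_false] at hD
  rcases hD with rfl | rfl | rfl | rfl | rfl | rfl | rfl
  · exact aux admG2 (by rw [rangeG2 (ringChar F)]; split_ifs <;> simp) _ _ hDbar hFbar
  · exact aux admB2 (by rw [rangeB2 (ringChar F)]; split_ifs <;> simp) _ _ hDbar hFbar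
  · exact aux admD4 (Or.inr (Or.inr ⟨rangeD4, f0132, mem_rangeD4.2 (by simp), f2103, mem_rangeD4.2 (by simp), by decide⟩))
      _ _ hDbar hFbar
  · exact aux admF4 (by rw [rangeF4 (ringChar F)]; split_ifs <;> simp) _ _ hDbar hFbar
  · exact aux admE6 (Or.inr (Or.inl rangeE6)) _ _ hDbar hFbar
  · exact aux admE7 (Or.inl rangeE7) _ _ hDbar hFbar
  · exact aux admE8 (Or.inl rangeE8) _ _ hDbar hFbar

end Cfsg.Agent.S2159
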