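import Cfsg.Statements.S2161
import Cfsg.Agent.H6.Aut2

set_option autoImplicit false
open Cfsg

namespace Cfsg.Agent.S2161

open CfsgH6 CfsgH6.Chev CfsgH6.Chev.Good CfsgH6.PreSt in
theorem aux {F : Type*} [Field F] {D : Cfsg.Lie.ChevalleyDatum} (g : Good D) {tab : ℕ}
    (h : chkMor g.T g.T ctx0 tab 0 g.T.n = true) {π : Equiv.Perm (Fin D.rank)} (ht : TabS D tab π fun _ => 1)
    (hp : ∀ r < D.nroots, mW tab r = [(D.permRoot π r, 1, 1)] ∨ mW tab r = [(D.permRoot π r, -1, 1)])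
    (φ : ↥(D.group F) ≃* ↥(D.group F)) (hφ : g.Gr (g.adjG F) φ π fun _ t => t) (r : ℕ) (hr : r < D.nroots) :
    ∃ ε : F, (ε = 1 ∨ ε = -1) ∧ ∀ (y : ↥(D.group F)) (t : F),
      ((y : GL D.Idx F) : Matrix D.Idx D.Idx F) = D.x F r t →
        ((φ y : GL D.Idx F) : Matrix D.Idx D.Idx F) = D.x F (D.permRoot π r) (ε * t) := by
  obtain ⟨α, h1, h2⟩ := g.gr0 h ht (.refl F)
  obtain rfl : φ = α := MulEquiv.toMonoidHom_injective ((g.isStG F).hom_ext_pm' (g.adjG_G F)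
    (fun i t => (hφ i t).1.trans (h2 i t).1.symm) fun i t => (hφ i t).2.trans (h2 i t).2.symm)
  rcases hp r hr with h3 | h3
  · refine ⟨1, Or.inl rfl, fun y t hy => ?_⟩
    rw [(g.eq_adjG_x (r := ⟨r, hr⟩)).1 hy, h1, mx_single _ h3, g.coe_xnG]; simp
  · refine ⟨-1, Or.inr rfl, fun y t hy => ?_⟩
    rw [(g.eq_adjG_x (r := ⟨r, hr⟩)).1 hy, h1, mx_single _ h3, g.coe_xnG]; simp

open CfsgH6 CfsgH6.Chev CfsgH6.Chev.Good CfsgH6.PreSt in
theorem aux1 {F : Type*} [Field F] {D : Cfsg.Lie.ChevalleyDatum} (g : Good D) (hp : ∀ r < D.nroots, D.permRoot 1 r = r)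
    (φ : ↥(D.group F) ≃* ↥(D.group F)) (hφ : g.Gr (g.adjG F) φ (1 : Equiv.Perm (Fin D.rank)) fun _ t => t) (r : ℕ) (hr : r < D.nroots) :
    ∃ ε : F, (ε = 1 ∨ ε = -1) ∧ ∀ (y : ↥(D.group F)) (t : F),
      ((y : GL D.Idx F) : Matrix D.Idx D.Idx F) = D.x F r t →
        ((φ y : GL D.Idx F) : Matrix D.Idx D.Idx F) = D.x F (D.permRoot 1 r) (ε * t) := by
  obtain rfl : φ = .refl _ := MulEquiv.toMonoidHom_injective ((g.isStG F).hom_ext_pm' (g.adjG_G F)
    (fun i t => (hφ i t).1) fun i t => (hφ i t).2)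
  exact ⟨1, Or.inl rfl, fun y t hy => by simpa [hp r hr] using hy⟩

open CfsgH6 CfsgH6.Chev

/-- For the Chevalley groups of types D₄ and E₆ (one root length) over any field: if `π` is a symmetry of the Dynkin diagram and `φ` is an automorphism sending `x_{p_i}(t)` to `x_{p_{π i}}(t)` and `x_{-p_i}(t)` to `x_{-p_{π i}}(t)` for every fundamental root `p_i`, then for every root `r` there is a sign `ε = ±1` with `φ(x_r(t)) = x_{π·r}(ε t)` for all `t`, where `π·r` is the root whose coefficients are those of `r` permuted by `π`. -/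
theorem result {F : Type*} [Field F] (D : Cfsg.Lie.ChevalleyDatum) (hD : D ∈ [Cfsg.Lie.chevD4, Cfsg.Lie.chevE6])
    (π : Equiv.Perm (Fin D.rank)) (hπ : D.IsDiagramSymmetry π) (φ : ↥(D.group F) ≃* ↥(D.group F))
    (hφ : ∀ (g : ↥(D.group F)) (i : Fin D.rank) (t : F),
      (((g : GL D.Idx F) : Matrix D.Idx D.Idx F) = D.x F (D.simple i) t →
        ((φ g : GL D.Idx F) : Matrix D.Idx D.Idx F) = D.x F (D.simple (π i)) t) ∧
      (((g : GL D.Idx F) : Matrix D.Idx D.Idx F) = D.x F (D.neg (D.simple i)) t →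
        ((φ g : GL D.Idx F) : Matrix D.Idx D.Idx F) = D.x F (D.neg (D.simple (π i))) t))
    (r : ℕ) (hr : r < D.nroots) :
    ∃ ε : F, (ε = 1 ∨ ε = -1) ∧ ∀ (g : ↥(D.group F)) (t : F),
      ((g : GL D.Idx F) : Matrix D.Idx D.Idx F) = D.x F r t →
        ((φ g : GL D.Idx F) : Matrix D.Idx D.Idx F) = D.x F (D.permRoot π r) (ε * t) := by
  simp only [List.mem_cons, List.not_mem_nil, or_false] at hD
  rcases hD with rfl | rfl
  · have h := gD4.gr_iff.2 hφ
    rcases symD4 hπ with rfl | rfl | rfl | rfl | rfl | rfl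
    exacts [aux1 gD4 (by decide +kernel) φ h r hr, aux gD4 mD4g0132 tab0132 (by decide +kernel) φ h r hr,
      aux gD4 mD4g2103 tab2103 (by decide +kernel) φ h r hr, aux gD4 mD4g2130 tab2130 (by decide +kernel) φ h r hr,
      aux gD4 mD4g3102 tab3102 (by decide +kernel) φ h r hr, aux gD4 mD4g3120 tab3120 (by decide +kernel) φ h r hr]
  · have h := gE6.gr_iff.2 hφ
    rcases symE6 hπ with rfl | rfl
    exacts [aux1 gE6 (by decide +kernel) φ h r hr, aux gE6 mE6g tabE6 (by decide +kernel) φ h r hr]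

end Cfsg.Agent.S2161
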