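import Cfsg.Statements.S2162
import Cfsg.Agent.H5.W2

set_option autoImplicit false
open Cfsg

namespace Cfsg.Agent.S2162

open CfsgH5

/-- Conjugacy of involutions in the special linear group over a finite field of characteristic two, in dimension at least 3: two elements of order 2 of SL_n(F) are conjugate in SL_n(F) exactly when the matrices a − 1 and b − 1 have the same rank (the rank of a − 1 is the dimension of the commutator space [V, a]). -/
theorem result {F : Type*} [Field F] [Fintype F] [CharP F 2] {n : ℕ} (hn : 3 ≤ n) (a b : Matrix.SpecialLinearGroup (Fin n) F) (ha : orderOf a = 2) (hb : orderOf b = 2) :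
    IsConj a b ↔ ((a : Matrix (Fin n) (Fin n) F) - 1).rank = ((b : Matrix (Fin n) (Fin n) F) - 1).rank := by
  have h2 : (2 : F) = 0 := CharTwo.two_eq_zero
  obtain ⟨ha1, ha2⟩ := (orderOf_eq_two_iff_map slHom_inj).1 ha
  obtain ⟨hb1, hb2⟩ := (orderOf_eq_two_iff_map slHom_inj).1 hb
  rw [isConj_of_card_classes slHom_inj range_slHom, rank_sub_one (slHom_apply a),
    rank_sub_one (slHom_apply b)]
  refine ⟨fun ⟨k, _, h⟩ => by rw [← h, finrank_mov_conj], fun h => ?_⟩
  exact sqz_conj_sl (mov_le_fix h2 ha2) (mov_le_fix h2 hb2) h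
    (Or.inr ⟨ha1, exists_sq_of_two_eq_zero h2⟩)

end Cfsg.Agent.S2162
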