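import Cfsg.Statements.S2163
import Cfsg.Agent.H5.W2

set_option autoImplicit false
open Cfsg

namespace Cfsg.Agent.S2163

open CfsgH5 Matrix

/-- Over a finite field of characteristic two and for n ≥ 3: for every ℓ with 1 ≤ ℓ and 2ℓ ≤ n, the matrix j_ℓ that is the identity plus the entries 1 in positions (n − ℓ + i, i) for i < ℓ (an identity block of size ℓ in the lower left corner) lies in SL_n(F), has order 2, and j_ℓ − 1 has rank ℓ. Together with the conjugacy criterion by rank, these matrices represent the conjugacy classes of involutions of SL_n(F). -/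
theorem result {F : Type*} [Field F] [Fintype F] [CharP F 2] {n : ℕ} (hn : 3 ≤ n) (ℓ : ℕ) (h1 : 1 ≤ ℓ) (h2 : 2 * ℓ ≤ n) :
    ∃ a : Matrix.SpecialLinearGroup (Fin n) F, (a : Matrix (Fin n) (Fin n) F) = 1 + Matrix.of (fun i j : Fin n => if j.val < ℓ ∧ i.val = j.val + (n - ℓ) then (1 : F) else 0) ∧ orderOf a = 2 ∧ ((a : Matrix (Fin n) (Fin n) F) - 1).rank = ℓ := by
  have h2' : (2 : F) = 0 := CharTwo.two_eq_zero
  set N : Matrix (Fin n) (Fin n) F :=
    Matrix.of (fun i j : Fin n => if j.val < ℓ ∧ i.val = j.val + (n - ℓ) then (1 : F) else 0) with hN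
  have hNN : N * N = 0 := by
    ext i k
    rw [mul_apply, Matrix.zero_apply]
    refine Finset.sum_eq_zero fun j _ => ?_
    simp only [hN, of_apply]
    split_ifs <;> first | omega | simp
  have hsq : (1 + N) * (1 + N) = 1 := by
    rw [add_mul, one_mul, mul_add, mul_one, hNN, add_zero, add_assoc, ← two_smul F, h2', zero_smul,
      add_zero]
  have hr : N.rank = ℓ := by
    rw [rank_eq_of_factor (κ := Fin ℓ)
      (Matrix.of fun i k => if i.val = k.val + (n - ℓ) then (1 : F) else 0)
      (Matrix.of fun k j => if j.val = k.val then (1 : F) else 0) ?_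
      (fun k => ⟨k, by omega⟩) (fun k => ⟨k + (n - ℓ), by omega⟩) ?_, Fintype.card_fin]
    · ext i j
      rw [mul_apply]
      by_cases hj : j.val < ℓ
      · rw [Finset.sum_eq_single ⟨j, hj⟩]
        · simp [hN, hj]
        · intro k _ hk
          have : ¬ j.val = k.val := fun h => hk (Fin.ext h.symm)
          simp [this]
        · simp
      · rw [Finset.sum_eq_zero]
        · simp [hN, hj]
        · intro k _
          have : ¬ j.val = k.val := by omega
          simp [this]
    · intro i j
      simp [hN, Fin.ext_iff]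
  let a : SpecialLinearGroup (Fin n) F := ⟨1 + N, det_eq_one_of_invol h2' hsq⟩
  refine ⟨a, rfl, orderOf_eq_prime (Subtype.ext ?_) fun h => ?_, by simpa [a] using hr⟩
  · rw [sq]; exact hsq
  · have : N = 0 := by simpa [a] using congrArg Subtype.val h
    rw [this, rank_zero] at hr
    omega

end Cfsg.Agent.S2163
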