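import Cfsg.Statements.S2164
import Cfsg.Agent.H5.W2

set_option autoImplicit false
open Cfsg

namespace Cfsg.Agent.S2164

open CfsgH5

/-- Conjugacy of involutions in the special unitary group SU_n(q), q even, n ≥ 3, realised over the field F with q² elements as the matrices of determinant 1 preserving the form Σ u_i v_i^q: for two elements of order 2 of SU_n(q) the following are equivalent — they are conjugate in SU_n(q); they are conjugate in SL_n(F); the matrices a − 1 and b − 1 have the same rank. -/
theorem result {F : Type*} [Field F] [Fintype F] [CharP F 2] {n q : ℕ} (hF : Fintype.card F = q ^ 2) (hn : 3 ≤ n) (a b : ↥(Cfsg.SU n F q)) (ha : orderOf a = 2) (hb : orderOf b = 2) :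
    (IsConj a b ↔ IsConj (a : Matrix.SpecialLinearGroup (Fin n) F) (b : Matrix.SpecialLinearGroup (Fin n) F)) ∧
    (IsConj a b ↔ (((a : Matrix.SpecialLinearGroup (Fin n) F) : Matrix (Fin n) (Fin n) F) - 1).rank = (((b : Matrix.SpecialLinearGroup (Fin n) F) : Matrix (Fin n) (Fin n) F) - 1).rank) := by
  have h2 : (2 : F) = 0 := CharTwo.two_eq_zero
  obtain ⟨ha1, ha2⟩ := (orderOf_eq_two_iff_map (suHom_inj n)).1 ha
  obtain ⟨hb1, hb2⟩ := (orderOf_eq_two_iff_map (suHom_inj n)).1 hb
  have key : IsConj a b ↔ Module.finrank F (mov (suHom n F q a)) = Module.finrank F (mov (suHom n F q b)) := by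
    rw [isConj_of_card_classes (suHom_inj n) (range_suHom hF n)]
    exact ⟨fun ⟨k, _, h⟩ => by rw [← h, finrank_mov_conj], fun h =>
      (uForm_nondeg hF n).unit_invol_conj (frobQ_ne hF) h2 (suHom_mem hF a).1 ha2 ha1
        (suHom_mem hF b).1 hb2 h⟩
  rw [rank_sub_one (suHom_apply n a), rank_sub_one (suHom_apply n b)]
  refine ⟨⟨fun h => (Cfsg.SU n F q).subtype.map_isConj h, fun h => key.2 ?_⟩, key⟩
  obtain ⟨k, -, hk⟩ := (isConj_iff_range slHom_inj).1 h
  exact (finrank_mov_conj k _).symm.trans (congrArg (fun g => Module.finrank F (mov g)) hk)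

end Cfsg.Agent.S2164
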