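import Cfsg.Statements.S2165
import Cfsg.Agent.H5.W2

set_option autoImplicit false
open Cfsg

namespace Cfsg.Agent.S2165

open CfsgH5 Matrix

/-- In SU_n(q), q even, n ≥ 3 (matrices of determinant 1 over the field with q² elements preserving Σ u_i v_i^q): for every ℓ with 1 ≤ ℓ and 2ℓ ≤ n, the permutation matrix of the involution of {0, …, n−1} exchanging i and n − ℓ + i for each i < ℓ lies in SU_n(q), has order 2, and differs from the identity by a matrix of rank ℓ. So every rank between 1 and n/2 occurs for involutions of SU_n(q). -/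
theorem result {F : Type*} [Field F] [Fintype F] [CharP F 2] {n q : ℕ} (hF : Fintype.card F = q ^ 2) (hn : 3 ≤ n) (ℓ : ℕ) (h1 : 1 ≤ ℓ) (h2 : 2 * ℓ ≤ n) :
    ∃ a : ↥(Cfsg.SU n F q), (((a : Matrix.SpecialLinearGroup (Fin n) F) : Matrix (Fin n) (Fin n) F) = Matrix.of (fun i j : Fin n => if (j.val < ℓ ∧ i.val = j.val + (n - ℓ)) ∨ (i.val < ℓ ∧ j.val = i.val + (n - ℓ)) ∨ (i = j ∧ ℓ ≤ i.val ∧ i.val < n - ℓ) then (1 : F) else 0)) ∧ orderOf a = 2 ∧ ((((a : Matrix.SpecialLinearGroup (Fin n) F) : Matrix (Fin n) (Fin n) F)) - 1).rank = ℓ := by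
  have h2' : (2 : F) = 0 := CharTwo.two_eq_zero
  set A : Matrix (Fin n) (Fin n) F := Matrix.of (fun i j : Fin n => if (j.val < ℓ ∧ i.val = j.val + (n - ℓ)) ∨ (i.val < ℓ ∧ j.val = i.val + (n - ℓ)) ∨ (i = j ∧ ℓ ≤ i.val ∧ i.val < n - ℓ) then (1 : F) else 0) with hA
  let τ : Fin n → Fin n := fun i => if h : i.val < ℓ then ⟨i + (n - ℓ), by omega⟩ else
    if n - ℓ ≤ i.val then ⟨i - (n - ℓ), by omega⟩ else i
  have hτv : ∀ i, (τ i).val = if i.val < ℓ then i + (n - ℓ) else if n - ℓ ≤ i.val then i - (n - ℓ) else i := by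
    intro i; simp only [τ]; split_ifs <;> rfl
  have hτ : ∀ i, τ (τ i) = i := fun i => Fin.ext (by
    have := i.2
    rw [hτv, hτv]; split_ifs <;> omega)
  have hA' : ∀ i j, A i j = if τ i = j then 1 else 0 := fun i j => by
    simp only [hA, of_apply, Fin.ext_iff, hτv]
    have := i.2
    have := j.2
    refine if_congr ?_ rfl rfl
    split_ifs <;> omega
  have hv : ∀ x : Fin n → F, A *ᵥ x = fun i => x (τ i) := fun x => by
    ext i; simp [mulVec, dotProduct, hA']
  have hsq : A * A = 1 := mat_ext fun v => by rw [← mulVec_mulVec, hv, hv]; simp [hτ]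
  have hr : (A - 1).rank = ℓ := by
    rw [rank_eq_of_factor (κ := Fin ℓ)
      (Matrix.of fun i k => if i.val = k.val ∨ i.val = k.val + (n - ℓ) then (1 : F) else 0)
      (Matrix.of fun k i => if i.val = k.val ∨ i.val = k.val + (n - ℓ) then (1 : F) else 0) ?_
      (fun k => ⟨k, by omega⟩) (fun k => ⟨k + (n - ℓ), by omega⟩) ?_, Fintype.card_fin]
    · ext i j
      have := i.2
      have := j.2
      rw [mul_apply, Matrix.sub_apply, hA', one_apply]
      simp only [of_apply, Fin.ext_iff, hτv]
      by_cases hi : i.val < ℓ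
      · rw [Finset.sum_eq_single ⟨i, hi⟩]
        · simp only [hi, if_true, true_or, one_mul]
          split_ifs <;> first | omega | simp [CharTwo.neg_eq]
        · intro k _ hk
          have : ¬ i.val = k.val := fun h => hk (Fin.ext h.symm)
          rw [if_neg (by omega), zero_mul]
        · simp
      by_cases hi' : n - ℓ ≤ i.val
      · rw [Finset.sum_eq_single ⟨i - (n - ℓ), by omega⟩]
        · simp only [hi, hi', if_true, if_false]
          split_ifs <;> first | omega | simp [CharTwo.neg_eq]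
        · intro k _ hk
          have : ¬ i.val - (n - ℓ) = k.val := fun h => hk (Fin.ext h.symm)
          have := k.2
          rw [if_neg (by omega), zero_mul]
        · simp
      · rw [Finset.sum_eq_zero]
        · simp [hi, hi']
        · intro k _
          have := k.2
          rw [if_neg (by omega), zero_mul]
    · intro i j
      have := i.2
      have := j.2
      rw [Matrix.sub_apply, hA', one_apply]
      simp only [Fin.ext_iff, hτv]
      split_ifs <;> first | omega | simp
  let a : SpecialLinearGroup (Fin n) F := ⟨A, det_eq_one_of_invol h2' hsq⟩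
  have ha : a ∈ Cfsg.SU n F q := by
    rw [SU_eq hF, Subgroup.mem_comap, Form.unit_mem_isom]
    intro x y
    rw [slHom_apply, slHom_apply, uForm_B_apply, uForm_B_apply]
    simp only [a, hv]
    exact Equiv.sum_comp ⟨τ, τ, hτ, hτ⟩ (fun i => x i * frobQ hF (y i))
  refine ⟨⟨a, ha⟩, rfl, orderOf_eq_prime (Subtype.ext (Subtype.ext ?_)) fun h => ?_, hr⟩
  · rw [sq]; exact hsq
  · have : A = 1 := congrArg (fun g : Cfsg.SU n F q => g.1.1) h
    rw [this, sub_self, rank_zero] at hr
    omega

end Cfsg.Agent.S2165
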