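import Cfsg.Statements.S2166
import Cfsg.Agent.H5.W2

set_option autoImplicit false
open Cfsg

namespace Cfsg.Agent.S2166

open CfsgH5

/-- Conjugacy of involutions in the symplectic group Sp_{2m}(F), F a finite field of characteristic two, m ≥ 2 (Sp taken as the matrices A with A J Aᵀ = J, acting on column vectors, with the alternating form f(u, v) = u ⬝ (J v)). For an involution t write V(t) for the set of vectors v with f(v, t v) = 0 (a subspace). Two involutions a, b are conjugate in Sp_{2m}(F) exactly when a − 1 and b − 1 have the same rank and, in case that rank is even, V(a) and V(b) have the same number of elements. -/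
theorem result {F : Type*} [Field F] [Fintype F] [CharP F 2] {m : ℕ} (hm : 2 ≤ m) (a b : ↥(Matrix.symplecticGroup (Fin m) F)) (ha : orderOf a = 2) (hb : orderOf b = 2) :
    IsConj a b ↔ ((((a : ↥(Matrix.symplecticGroup (Fin m) F)) : Matrix (Fin m ⊕ Fin m) (Fin m ⊕ Fin m) F) - 1).rank = (((b : ↥(Matrix.symplecticGroup (Fin m) F)) : Matrix (Fin m ⊕ Fin m) (Fin m ⊕ Fin m) F) - 1).rank ∧
      (Even (((a : ↥(Matrix.symplecticGroup (Fin m) F)) : Matrix (Fin m ⊕ Fin m) (Fin m ⊕ Fin m) F) - 1).rank → Nat.card {v : Fin m ⊕ Fin m → F // Cfsg.sympForm m F v (Matrix.mulVec ((a : ↥(Matrix.symplecticGroup (Fin m) F)) : Matrix (Fin m ⊕ Fin m) (Fin m ⊕ Fin m) F) v) = 0} = Nat.card {v : Fin m ⊕ Fin m → F // Cfsg.sympForm m F v (Matrix.mulVec ((b : ↥(Matrix.symplecticGroup (Fin m) F)) : Matrix (Fin m ⊕ Fin m) (Fin m ⊕ Fin m) F) v) = 0})) := by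
  have h2 : (2 : F) = 0 := CharTwo.two_eq_zero
  obtain ⟨ha1, ha2⟩ := (orderOf_eq_two_iff_map (spHom_inj m)).1 ha
  obtain ⟨hb1, hb2⟩ := (orderOf_eq_two_iff_map (spHom_inj m)).1 hb
  have hS := spForm_nondeg (F := F) m
  have key : ∀ g : Matrix.symplecticGroup (Fin m) F, Nat.card {v : Fin m ⊕ Fin m → F // Cfsg.sympForm m F v (Matrix.mulVec (g : Matrix (Fin m ⊕ Fin m) (Fin m ⊕ Fin m) F) v) = 0} = Nat.card {v // (spForm m F).B (spHom m F g v - v) v = 0} :=
    fun g => Nat.card_congr (Equiv.subtypeEquivRight fun v => by rw [Form.sp_alt_eq h2]; rfl)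
  have h1 : ∀ t, (spForm m F).Alt t → Nat.card {v // (spForm m F).B (t v - v) v = 0} = Nat.card F ^ Module.finrank F (Fin m ⊕ Fin m → F) :=
    fun t h => by rw [← Form.card_eq_pow_finrank']; exact Nat.card_congr (Equiv.subtypeUnivEquiv h)
  have h3 : ∀ t s, t ∈ (spForm m F).isom → t * t = 1 → (spForm m F).Alt s → Nat.card {v // (spForm m F).B (t v - v) v = 0} = Nat.card {v // (spForm m F).B (s v - v) v = 0} → (spForm m F).Alt t := by
    intro t s ht ht' hs h
    by_contra h4
    have := Form.card_alt_set h2 (fun _ => rfl) ht ht' h4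
    rw [h, h1 s hs] at this
    have h5 : 1 < Nat.card F := Finite.one_lt_card
    have := (Nat.mul_eq_left (by positivity)).1 this
    omega
  rw [isConj_of_card_classes (spHom_inj m) (range_spHom m), rank_sub_one (spHom_apply m a),
    rank_sub_one (spHom_apply m b), key, key,
    hS.invol_conj_iff h2 (fun _ => rfl) (spHom_mem m a) ha2 (spHom_mem m b) hb2]
  refine and_congr_right fun hd => ⟨fun h _ => ?_, fun h => ⟨fun h4 => ?_, fun h4 => ?_⟩⟩
  · by_cases h4 : (spForm m F).Alt (spHom m F a)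
    · rw [h1 _ h4, h1 _ (h.1 h4)]
    · have h5 := Form.card_alt_set h2 (fun _ => rfl) (spHom_mem m a) ha2 h4
      rw [← Form.card_alt_set h2 (fun _ => rfl) (spHom_mem m b) hb2 (mt h.2 h4)] at h5
      exact Nat.eq_of_mul_eq_mul_right Nat.card_pos h5
  · exact h3 _ _ (spHom_mem m b) hb2 h4 (h (hS.even_of_alt h2 (fun _ => rfl) (spHom_mem m a) ha2 h4)).symm
  · exact h3 _ _ (spHom_mem m a) ha2 h4 (h (hd ▸ hS.even_of_alt h2 (fun _ => rfl) (spHom_mem m b) hb2 h4))

end Cfsg.Agent.S2166
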