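import Cfsg.Statements.S2167
import Cfsg.Agent.H5.W2

set_option autoImplicit false
open Cfsg

namespace Cfsg.Agent.S2167

open CfsgH5

/-- For an involution t of the symplectic group Sp_{2m}(F), m ≥ 2, F a finite field of characteristic two (matrices A with A J Aᵀ = J acting on column vectors, alternating form f(u, v) = u ⬝ (J v)): the set V(t) of vectors v with f(v, t v) = 0 has either q^{2m} or q^{2m−1} elements, q the order of F (it is a subspace of codimension at most 1), and if it is the whole space then t − 1 has even rank. -/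
theorem result {F : Type*} [Field F] [Fintype F] [CharP F 2] {m : ℕ} (hm : 2 ≤ m) (a : ↥(Matrix.symplecticGroup (Fin m) F)) (ha : orderOf a = 2) :
    (Nat.card {v : Fin m ⊕ Fin m → F // Cfsg.sympForm m F v (Matrix.mulVec ((a : ↥(Matrix.symplecticGroup (Fin m) F)) : Matrix (Fin m ⊕ Fin m) (Fin m ⊕ Fin m) F) v) = 0} = Fintype.card F ^ (2 * m) ∨ Nat.card {v : Fin m ⊕ Fin m → F // Cfsg.sympForm m F v (Matrix.mulVec ((a : ↥(Matrix.symplecticGroup (Fin m) F)) : Matrix (Fin m ⊕ Fin m) (Fin m ⊕ Fin m) F) v) = 0} * Fintype.card F = Fintype.card F ^ (2 * m)) ∧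
    ((∀ v : Fin m ⊕ Fin m → F, Cfsg.sympForm m F v (Matrix.mulVec ((a : ↥(Matrix.symplecticGroup (Fin m) F)) : Matrix (Fin m ⊕ Fin m) (Fin m ⊕ Fin m) F) v) = 0) → Even (((a : ↥(Matrix.symplecticGroup (Fin m) F)) : Matrix (Fin m ⊕ Fin m) (Fin m ⊕ Fin m) F) - 1).rank) := by
  have h2 : (2 : F) = 0 := CharTwo.two_eq_zero
  obtain ⟨ha1, ha2⟩ := (orderOf_eq_two_iff_map (spHom_inj m)).1 ha
  have hS := spForm_nondeg (F := F) m
  have key : Nat.card {v : Fin m ⊕ Fin m → F // Cfsg.sympForm m F v (Matrix.mulVec (a : Matrix (Fin m ⊕ Fin m) (Fin m ⊕ Fin m) F) v) = 0} = Nat.card {v // (spForm m F).B (spHom m F a v - v) v = 0} :=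
    Nat.card_congr (Equiv.subtypeEquivRight fun v => by rw [Form.sp_alt_eq h2]; rfl)
  rw [key, rank_sub_one (spHom_apply m a), ← finrank_sp (F := F) m, ← Nat.card_eq_fintype_card]
  refine ⟨?_, fun h => hS.even_of_alt h2 (fun _ => rfl) (spHom_mem m a) ha2 fun v => ?_⟩
  · by_cases h : (spForm m F).Alt (spHom m F a)
    · left
      rw [← Form.card_eq_pow_finrank']; exact Nat.card_congr (Equiv.subtypeUnivEquiv h)
    · exact Or.inr (Form.card_alt_set h2 (fun _ => rfl) (spHom_mem m a) ha2 h)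
  · rw [Form.sp_alt_eq h2]; exact h v

end Cfsg.Agent.S2167
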