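import Cfsg.Statements.S2168
import Cfsg.Agent.H5.W2

set_option autoImplicit false
open Cfsg

namespace Cfsg.Agent.S2168

open CfsgH5

/-- Involutions in the full isometry group O of the hyperbolic quadratic form Σ x_i y_i in dimension 2m over a finite field F of characteristic two, m ≥ 4 (plus type): two elements of order 2 of O are conjugate in O exactly when they are conjugate under the group of all invertible matrices preserving the polar bilinear form (u, v) ↦ Q(u + v) − Q(u) − Q(v) (the symplectic group of that form). -/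
theorem result {F : Type*} [Field F] [Fintype F] [CharP F 2] {m : ℕ} (hm : 4 ≤ m) (t s : ↥(Cfsg.isometryGroup F (Cfsg.quadFormPlus m F))) (ht : orderOf t = 2) (hs : orderOf s = 2) :
    IsConj t s ↔ ∃ g ∈ Cfsg.preserving (Units.coeHom (Matrix (Fin m ⊕ Fin m) (Fin m ⊕ Fin m) F)) (fun u v => Cfsg.quadFormPlus m F (u + v) - Cfsg.quadFormPlus m F u - Cfsg.quadFormPlus m F v), g * ((t : ↥(Cfsg.isometryGroup F (Cfsg.quadFormPlus m F))) : GL (Fin m ⊕ Fin m) F) * g⁻¹ = ((s : ↥(Cfsg.isometryGroup F (Cfsg.quadFormPlus m F))) : GL (Fin m ⊕ Fin m) F) := by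
  have h2 : (2 : F) = 0 := CharTwo.two_eq_zero
  obtain ⟨ha1, ha2⟩ := (orderOf_eq_two_iff_map (oHom_inj _)).1 ht
  obtain ⟨hb1, hb2⟩ := (orderOf_eq_two_iff_map (oHom_inj _)).1 hs
  have hQ := plusForm_Q (F := F) m
  have hB := Form.polar_eq hQ
  constructor
  · rintro h
    obtain ⟨k, rfl⟩ := isConj_iff.1 h
    refine ⟨k, fun u v => ?_, rfl⟩
    exact (hB _ _).trans ((Form.isom_B (oHom_mem hQ k) u v).trans (hB _ _).symm)
  · rintro ⟨g, hg, h⟩
    have h3 : glEquiv _ F g * oHom _ t * (glEquiv _ F g)⁻¹ = oHom _ s := by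
      have := congrArg (glEquiv _ F) h
      rw [map_mul, map_mul, map_inv] at this
      exact this
    rw [isConj_of_card_classes (oHom_inj _) (range_oHom hQ),
      (plusForm_nondeg m).invol_conj_iff h2 (fun _ => rfl) (oHom_mem hQ t) ha2 (oHom_mem hQ s) hb2, ← h3]
    refine ⟨(finrank_mov_conj _ _).symm, (Form.alt_conj fun u v => ?_).symm⟩
    rw [← hB, ← hB, glEquiv_apply, glEquiv_apply]
    exact hg u v

end Cfsg.Agent.S2168
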