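import Cfsg.Statements.S2170
import Cfsg.Agent.H5.W2

set_option autoImplicit false
open Cfsg

namespace Cfsg.Agent.S2170

open CfsgH5

/-- Involutions in the full isometry group O of the quadratic form Σ x_i y_i + (z₁² + c z₁ z₂ + d z₂²) in dimension 2m with anisotropic binary part over a finite field F of characteristic two, m ≥ 4 (minus type): two elements of order 2 of O are conjugate in O exactly when they are conjugate under the group of all invertible matrices preserving the polar bilinear form (u, v) ↦ Q(u + v) − Q(u) − Q(v) (the symplectic group of that form). -/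
theorem result {F : Type*} [Field F] [Fintype F] [CharP F 2] {m : ℕ} (hm : 4 ≤ m) (c d : F) (hcd : ∀ z₁ z₂ : F, z₁ ^ 2 + c * z₁ * z₂ + d * z₂ ^ 2 = 0 → z₁ = 0 ∧ z₂ = 0) (t s : ↥(Cfsg.isometryGroup F (Cfsg.quadFormMinus (m - 1) F c d))) (ht : orderOf t = 2) (hs : orderOf s = 2) :
    IsConj t s ↔ ∃ g ∈ Cfsg.preserving (Units.coeHom (Matrix ((Fin (m - 1) ⊕ Fin (m - 1)) ⊕ Fin 2) ((Fin (m - 1) ⊕ Fin (m - 1)) ⊕ Fin 2) F)) (fun u v => Cfsg.quadFormMinus (m - 1) F c d (u + v) - Cfsg.quadFormMinus (m - 1) F c d u - Cfsg.quadFormMinus (m - 1) F c d v), g * ((t : ↥(Cfsg.isometryGroup F (Cfsg.quadFormMinus (m - 1) F c d))) : GL ((Fin (m - 1) ⊕ Fin (m - 1)) ⊕ Fin 2) F) * g⁻¹ = ((s : ↥(Cfsg.isometryGroup F (Cfsg.quadFormMinus (m - 1) F c d))) : GL ((Fin (m - 1) ⊕ Fin (m - 1)) ⊕ Fin 2) F) := by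
  have h2 : (2 : F) = 0 := CharTwo.two_eq_zero
  obtain ⟨ha1, ha2⟩ := (orderOf_eq_two_iff_map (oHom_inj _)).1 ht
  obtain ⟨hb1, hb2⟩ := (orderOf_eq_two_iff_map (oHom_inj _)).1 hs
  have hQ := minusForm_Q (F := F) (m - 1) c d
  have hB := Form.polar_eq hQ
  constructor
  · rintro h
    obtain ⟨k, rfl⟩ := isConj_iff.1 h
    refine ⟨k, fun u v => ?_, rfl⟩
    exact (hB _ _).trans ((Form.isom_B (oHom_mem hQ k) u v).trans (hB _ _).symm)
  · rintro ⟨g, hg, h⟩
    have h3 : glEquiv _ F g * oHom _ t * (glEquiv _ F g)⁻¹ = oHom _ s := by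
      have := congrArg (glEquiv _ F) h
      rw [map_mul, map_mul, map_inv] at this
      exact this
    rw [isConj_of_card_classes (oHom_inj _) (range_oHom hQ),
      (minusForm_nondeg _ hcd).invol_conj_iff h2 (fun _ => rfl) (oHom_mem hQ t) ha2 (oHom_mem hQ s) hb2, ← h3]
    refine ⟨(finrank_mov_conj _ _).symm, (Form.alt_conj fun u v => ?_).symm⟩
    rw [← hB, ← hB, glEquiv_apply, glEquiv_apply]
    exact hg u v

end Cfsg.Agent.S2170
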