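import Cfsg.Statements.S2172
import Cfsg.Agent.H5.W2

set_option autoImplicit false
open Cfsg

namespace Cfsg.Agent.S2172

open CfsgH5

/-- Splitting of involution classes from O to Ω for the hyperbolic quadratic form Q = Σ x_i y_i in dimension 2m over a finite field F of characteristic two, m ≥ 4. Let t, s be involutions of the commutator subgroup Ω that are conjugate in the full isometry group O. If it is not the case that t − 1 has rank m and Q(v + t v) = 0 for every vector v, then t and s are conjugate by an element of Ω. If t − 1 has rank m and Q(v + t v) = 0 for all v, then t and s are conjugate by an element of Ω exactly when the intersection of the images of t − 1 and s − 1 has even dimension (so the class of t in O meets at most two classes of Ω). -/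
theorem result {F : Type*} [Field F] [Fintype F] [CharP F 2] {m : ℕ} (hm : 4 ≤ m) (t s : ↥(Cfsg.isometryGroup F (Cfsg.quadFormPlus m F))) (ht : orderOf t = 2) (hs : orderOf s = 2) (htO : t ∈ Cfsg.Omega F (Cfsg.quadFormPlus m F)) (hsO : s ∈ Cfsg.Omega F (Cfsg.quadFormPlus m F)) (hconj : IsConj t s) :
    (¬ (((((t : ↥(Cfsg.isometryGroup F (Cfsg.quadFormPlus m F))) : GL (Fin m ⊕ Fin m) F) : Matrix (Fin m ⊕ Fin m) (Fin m ⊕ Fin m) F) - 1).rank = m ∧ ∀ v : Fin m ⊕ Fin m → F, Cfsg.quadFormPlus m F (v + Matrix.mulVec (((t : ↥(Cfsg.isometryGroup F (Cfsg.quadFormPlus m F))) : GL (Fin m ⊕ Fin m) F) : Matrix (Fin m ⊕ Fin m) (Fin m ⊕ Fin m) F) v) = 0) →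
      ∃ g ∈ Cfsg.Omega F (Cfsg.quadFormPlus m F), g * t * g⁻¹ = s) ∧
    ((((((t : ↥(Cfsg.isometryGroup F (Cfsg.quadFormPlus m F))) : GL (Fin m ⊕ Fin m) F) : Matrix (Fin m ⊕ Fin m) (Fin m ⊕ Fin m) F) - 1).rank = m ∧ ∀ v : Fin m ⊕ Fin m → F, Cfsg.quadFormPlus m F (v + Matrix.mulVec (((t : ↥(Cfsg.isometryGroup F (Cfsg.quadFormPlus m F))) : GL (Fin m ⊕ Fin m) F) : Matrix (Fin m ⊕ Fin m) (Fin m ⊕ Fin m) F) v) = 0) →
      ((∃ g ∈ Cfsg.Omega F (Cfsg.quadFormPlus m F), g * t * g⁻¹ = s) ↔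
        Even (Module.finrank F ↥(LinearMap.range (Matrix.toLin' ((((t : ↥(Cfsg.isometryGroup F (Cfsg.quadFormPlus m F))) : GL (Fin m ⊕ Fin m) F) : Matrix (Fin m ⊕ Fin m) (Fin m ⊕ Fin m) F) - 1)) ⊓ LinearMap.range (Matrix.toLin' ((((s : ↥(Cfsg.isometryGroup F (Cfsg.quadFormPlus m F))) : GL (Fin m ⊕ Fin m) F) : Matrix (Fin m ⊕ Fin m) (Fin m ⊕ Fin m) F) - 1)))))) := by
  have h2 : (2 : F) = 0 := CharTwo.two_eq_zero
  obtain ⟨ha1, ha2⟩ := (orderOf_eq_two_iff_map (oHom_inj _)).1 ht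
  have hQ := plusForm_Q (F := F) m
  have hS := plusForm_nondeg (F := F) m
  have hG : (∃ a : F, a ≠ 0 ∧ a ≠ 1) ∨ Module.finrank F (Fin m ⊕ Fin m → F) ≠ 4 :=
    Or.inr (by rw [finrank_sp]; omega)
  obtain ⟨k, hk, e⟩ := (isConj_of_card_classes (oHom_inj _) (range_oHom hQ)).1 hconj
  have h1 : (∃ g ∈ Cfsg.Omega F (Cfsg.quadFormPlus m F), g * t * g⁻¹ = s) ↔
      ∃ k ∈ (plusForm m F).om, k * oHom _ t * k⁻¹ = oHom _ s := by
    constructor
    · rintro ⟨g, hg, rfl⟩; exact ⟨_, (mem_Omega_iff hQ).1 hg, by simp⟩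
    · rintro ⟨k, hk, e⟩
      obtain ⟨g, hg, rfl⟩ := exists_Omega hQ hk
      exact ⟨g, hg, oHom_inj _ (by simpa using e)⟩
  have h3 : (Module.finrank F (mov (oHom _ t)) = m ∧ ∀ v : Fin m ⊕ Fin m → F, Cfsg.quadFormPlus m F (v + Matrix.mulVec (((t : ↥(Cfsg.isometryGroup F (Cfsg.quadFormPlus m F))) : GL (Fin m ⊕ Fin m) F) : Matrix (Fin m ⊕ Fin m) (Fin m ⊕ Fin m) F) v) = 0) ↔ (plusForm m F).IsLag (mov (oHom _ t)) := by
    have h4 : ∀ v, Cfsg.quadFormPlus m F (v + Matrix.mulVec (((t : ↥(Cfsg.isometryGroup F (Cfsg.quadFormPlus m F))) : GL (Fin m ⊕ Fin m) F) : Matrix (Fin m ⊕ Fin m) (Fin m ⊕ Fin m) F) v) = (plusForm m F).Q (oHom _ t v - v) := fun v => by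
      rw [hQ, sub_eq_add_neg, neg_self_two h2, add_comm, oHom_apply]
    simp only [h4, ← Form.orth_alt_iff (oHom_mem hQ t)]
    exact ⟨fun h => ⟨Form.totSing_mov h2 (oHom_mem hQ t) ha2 h.2, by rw [finrank_sp, h.1]⟩,
      fun h => ⟨by have := h.2; rw [finrank_sp] at this; omega, h.alt (oHom_mem hQ t)⟩⟩
  rw [rank_sub_one (oHom_apply _ t), h1, h3, range_sub_one (oHom_apply _ t),
    range_sub_one (oHom_apply _ s)]
  refine ⟨fun h => hS.om_conj_of_not_lag h2 (hS.RG_eq hG).ge (oHom_mem hQ t) ha2 h hk e, fun h => ?_⟩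
  rw [hS.om_conj_iff_of_lag h2 hG h hk e, lagSign_eq_one_iff,
    Nat.even_sub (Submodule.finrank_mono inf_le_left)]
  simp [hS.even_of_alt h2 (fun _ => rfl) (oHom_mem hQ t) ha2 (h.alt (oHom_mem hQ t))]

end Cfsg.Agent.S2172
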