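import Cfsg.Statements.S2173
import Cfsg.Agent.H5.W2

set_option autoImplicit false
open Cfsg

namespace Cfsg.Agent.S2173

open CfsgH5

/-- For the quadratic form Σ x_i y_i + (z₁² + c z₁ z₂ + d z₂²) in dimension 2m with anisotropic binary part over a finite field F of characteristic two, m ≥ 4 (minus type): two involutions of the commutator subgroup Ω that are conjugate in the full isometry group O are conjugate by an element of Ω (no class of involutions of O inside Ω splits). -/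
theorem result {F : Type*} [Field F] [Fintype F] [CharP F 2] {m : ℕ} (hm : 4 ≤ m) (c d : F) (hcd : ∀ z₁ z₂ : F, z₁ ^ 2 + c * z₁ * z₂ + d * z₂ ^ 2 = 0 → z₁ = 0 ∧ z₂ = 0) (t s : ↥(Cfsg.isometryGroup F (Cfsg.quadFormMinus (m - 1) F c d))) (ht : orderOf t = 2) (hs : orderOf s = 2) (htO : t ∈ Cfsg.Omega F (Cfsg.quadFormMinus (m - 1) F c d)) (hsO : s ∈ Cfsg.Omega F (Cfsg.quadFormMinus (m - 1) F c d)) (hconj : IsConj t s) :
    ∃ g ∈ Cfsg.Omega F (Cfsg.quadFormMinus (m - 1) F c d), g * t * g⁻¹ = s := by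
  have h2 : (2 : F) = 0 := CharTwo.two_eq_zero
  obtain ⟨ha1, ha2⟩ := (orderOf_eq_two_iff_map (oHom_inj _)).1 ht
  have hQ := minusForm_Q (F := F) (m - 1) c d
  have hS := minusForm_nondeg (m - 1) hcd
  have hp := minusForm_not_isPlus (m - 1) hcd
  obtain ⟨k, hk, e⟩ := (isConj_of_card_classes (oHom_inj _) (range_oHom hQ)).1 hconj
  obtain ⟨k, hk, e⟩ := hS.om_conj_of_not_lag h2 (hS.isom_le_RG_of_not_plus hp) (oHom_mem hQ t) ha2
    (fun h => hp ⟨_, h⟩) hk e
  obtain ⟨g, hg, rfl⟩ := exists_Omega hQ hk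
  exact ⟨g, hg, oHom_inj _ (by simpa using e)⟩

end Cfsg.Agent.S2173
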