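import Cfsg.Statements.S2178
import Cfsg.Agent.H6.Cen2

set_option autoImplicit false
open Cfsg

namespace Cfsg.Agent.S2178

open CfsgH6 CfsgH6.Chev CfsgH6.Chev.Good

/-- Centralizers of the long and the short root involutions in the Chevalley group G of type F₄ over a finite field F of characteristic two (this problem's root numbering for type F₄, from the Chevalley data module: fundamental roots p₁, p₂ short, p₃, p₄ long, with indices 33, 27, 25, 24, their negatives 14, 20, 22, 23; highest root 47, highest short root 44; U the subgroup generated by the positive root subgroups). For an element t of G with matrix x_47(1): the centralizer of t in G is the subgroup generated by U and the root subgroups X_{−p₁}, X_{−p₂}, X_{−p₃} (the unipotent radical of the maximal parabolic subgroup whose Levi factor has fundamental roots p₁, p₂, p₃, together with that Levi factor's root subgroups; the Levi factor is of type C₃). For an element u of G with matrix x_44(1): the centralizer of u in G is generated by U and X_{−p₂},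 X_{−p₃}, X_{−p₄} (the same construction for the Levi factor with fundamental roots p₂, p₃, p₄, of type B₃). -/
theorem result {F : Type*} [Field F] [Fintype F] [CharP F 2] (t u : GL Cfsg.Lie.chevF4.Idx F) (ht : (t : Matrix Cfsg.Lie.chevF4.Idx Cfsg.Lie.chevF4.Idx F) = Cfsg.Lie.chevF4.x F 47 1) (hu : (u : Matrix Cfsg.Lie.chevF4.Idx Cfsg.Lie.chevF4.Idx F) = Cfsg.Lie.chevF4.x F 44 1) :
    Cfsg.Lie.chevF4.group F ⊓ Subgroup.centralizer {t} = Cfsg.Lie.chevF4.posUnipotent F ⊔ Cfsg.Lie.chevF4.rootSubgroup F 14 ⊔ Cfsg.Lie.chevF4.rootSubgroup F 20 ⊔ Cfsg.Lie.chevF4.rootSubgroup F 22 ∧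
    Cfsg.Lie.chevF4.group F ⊓ Subgroup.centralizer {u} = Cfsg.Lie.chevF4.posUnipotent F ⊔ Cfsg.Lie.chevF4.rootSubgroup F 20 ⊔ Cfsg.Lie.chevF4.rootSubgroup F 22 ⊔ Cfsg.Lie.chevF4.rootSubgroup F 23 := by
  obtain rfl : t = uP (gF4.adj F) [47] := Units.ext (by simp [ht, coe_xn])
  obtain rfl : u = uP (gF4.adj F) [44] := Units.ext (by simp [hu, coe_xn])
  have h1 : CenC gF4.T 2 [47] [] 11 := by decide +kernel
  have k : ∀ j ∈ [0, 1, 2, 3], ∀ t, xn (gF4.adj F) (gF4.T.sim j) t ∈ (gF4.adj F).U := fun j hj t =>
    (xn_sim (gF4.adj F) ⟨j, by revert j; decide⟩ t) ▸ (gF4.adj F).x_mem_U (gF4.cd.pos_sim _) t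
  have h2 : CenC gF4.T 2 [44] [] 8 := by decide +kernel
  simp only [gF4.G_eq, gF4.U_eq, gF4.root_eq' F (r := 14) (by decide), gF4.root_eq' F (r := 20) (by decide),
    gF4.root_eq' F (r := 22) (by decide), gF4.root_eq' F (r := 23) (by decide), sup_assoc]
  constructor
  · rw [gF4.cent_one F h1 [0, 1, 2] ⟨3, by decide⟩ (by simp) (by decide +kernel) (by decide +kernel) (gF4.isSt F)
      (gF4.mult F), inf_eq_left.2 h1.U_le, sup_inJ (gF4.isSt F) _ _ [14, 20, 22] (fun j hj => k j (by grind))
      (by decide +kernel), XS_cons, XS_cons (r := 20)]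
  · rw [gF4.cent_one F h2 [1, 2, 3] ⟨0, by decide⟩ (by simp) (by decide +kernel) (by decide +kernel) (gF4.isSt F)
      (gF4.mult F), inf_eq_left.2 h2.U_le, sup_inJ (gF4.isSt F) _ _ [20, 22, 23] (fun j hj => k j (by grind))
      (by decide +kernel), XS_cons, XS_cons (r := 22)]

end Cfsg.Agent.S2178
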