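import Cfsg.Statements.S2179
import Cfsg.Agent.H6.Cen2

set_option autoImplicit false
open Cfsg

namespace Cfsg.Agent.S2179

open CfsgH6 CfsgH6.Chev CfsgH6.Chev.Good

/-- index -/
def f4i (i : Fin 4) : Fin Cfsg.Lie.chevF4.rank := i

/-- Centralizers of the two remaining classes of involutions in the Chevalley group G of type F₄ over a finite field F of characteristic two (this problem's root numbering for type F₄, from the Chevalley data module: p₁, p₂ short, p₃, p₄ long with indices 33, 27, 25, 24 and negatives 14, 20, 22, 23; U generated by the positive root subgroups). For an element of G with matrix x_47(1)x_44(1) (highest root times highest short root): its centralizer in G is generated by U, X_{−p₂} and X_{−p₃}. For an element of G with matrix x_39(1)x_45(1) (roots (1,2,2,1) and (2,4,2,1), an orthogonal short/long pair): its centralizer in G is generated by X_{p₁}, X_{−p₁}, X_{p₄}, X_{−p₄} and the root subgroups of all positive roots other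 than p₂ (27), p₃ (25), p₁ + p₂ (34) and p₃ + p₄ (26). -/
theorem result {F : Type*} [Field F] [Fintype F] [CharP F 2] (w v : GL Cfsg.Lie.chevF4.Idx F) (hw : (w : Matrix Cfsg.Lie.chevF4.Idx Cfsg.Lie.chevF4.Idx F) = Cfsg.Lie.chevF4.x F 47 1 * Cfsg.Lie.chevF4.x F 44 1) (hv : (v : Matrix Cfsg.Lie.chevF4.Idx Cfsg.Lie.chevF4.Idx F) = Cfsg.Lie.chevF4.x F 39 1 * Cfsg.Lie.chevF4.x F 45 1) :
    Cfsg.Lie.chevF4.group F ⊓ Subgroup.centralizer {w} = Cfsg.Lie.chevF4.posUnipotent F ⊔ Cfsg.Lie.chevF4.rootSubgroup F 20 ⊔ Cfsg.Lie.chevF4.rootSubgroup F 22 ∧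
    Cfsg.Lie.chevF4.group F ⊓ Subgroup.centralizer {v} = Cfsg.Lie.chevF4.rootSubgroup F 33 ⊔ Cfsg.Lie.chevF4.rootSubgroup F 14 ⊔ Cfsg.Lie.chevF4.rootSubgroup F 24 ⊔ Cfsg.Lie.chevF4.rootSubgroup F 23 ⊔
      Subgroup.closure {g : GL Cfsg.Lie.chevF4.Idx F | ∃ (r : ℕ) (c : F), Cfsg.Lie.chevF4.IsPosRoot r ∧ r ∉ [27, 25, 34, 26] ∧ (g : Matrix Cfsg.Lie.chevF4.Idx Cfsg.Lie.chevF4.Idx F) = Cfsg.Lie.chevF4.x F r c} := by
  obtain rfl : w = uP (gF4.adj F) [47, 44] := Units.ext (by simp [hw, coe_xn])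
  obtain rfl : v = uP (gF4.adj F) [39, 45] := Units.ext (by simp [hv, coe_xn])
  have h1 : CenC gF4.T 2 [47, 44] [] 8 := by decide +kernel
  have h2 : CenC gF4.T 2 [39, 45] [40, 44, 46, 47] 6 := by decide +kernel
  simp only [gF4.G_eq, gF4.U_eq, gF4.root_eq' F (r := 14) (by decide), gF4.root_eq' F (r := 20) (by decide),
    gF4.root_eq' F (r := 22) (by decide), gF4.root_eq' F (r := 23) (by decide), gF4.root_eq' F (r := 33) (by decide),
    gF4.root_eq' F (r := 24) (by decide)]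
  have k : ∀ {a b : Fin Cfsg.Lie.chevF4.nroots} {L : List ℕ} {w}, w ∈ gF4.cd.W → (∀ β ∈ sL _ [a, b], w β ∈ sL _ L) →
      (∀ x ∈ L, ∀ y ∈ L, nrmT gF4.T x = nrmT gF4.T a → nrmT gF4.T y = nrmT gF4.T b → AT gF4.T x y = AT gF4.T a b →
        x = a ∧ y = b) → w a = a ∧ w b = b := fun {a b L w} hw h h' => by
    simpa only [← Fin.ext_iff] using h' _ (h a (by simp [mem_sL])) _ (h b (by simp [mem_sL]))
      (by rw [← nrmT_eq, RS.nrm_W hw, nrmT_eq]) (by rw [← nrmT_eq, RS.nrm_W hw, nrmT_eq])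
      (by rw [← AT_eq, RS.W_A hw, AT_eq])
  have k2 : ∀ (c : Fin Cfsg.Lie.chevF4.rank → Fˣ) (r : ℕ), ∏ i : Fin Cfsg.Lie.chevF4.rank, c i ^ gF4.T.car i r =
      c (f4i 0) ^ gF4.T.car 0 r * c (f4i 1) ^ gF4.T.car 1 r * c (f4i 2) ^ gF4.T.car 2 r * c (f4i 3) ^ gF4.T.car 3 r :=
    fun c r => Fin.prod_univ_four fun i => c i ^ gF4.T.car i r
  constructor
  · rw [h1.cent_eq (gF4.isSt F) (gF4.mult F) [1, 2] (fun w hw h => ?_) (by decide +kernel) fun c hc i hi => ?_,
      inf_eq_left.2 h1.U_le, sup_inJ (gF4.isSt F) _ _ [20, 22] (fun j hj t =>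
        (xn_sim (gF4.adj F) ⟨j, by revert j; decide⟩ t) ▸ (gF4.adj F).x_mem_U (gF4.cd.pos_sim _) t) (by decide +kernel),
      XS_cons, sup_assoc]
    · obtain ⟨h3, h4⟩ := k (a := ⟨47, by decide⟩) (b := ⟨44, by decide⟩) hw h (by decide +kernel)
      convert RS.mem_WJ_of_fix2 1 1 (by simp only [A_sim_eq]; decide +kernel) hw h3 h4 using 2
      ext i; simp only [A_sim_eq, Set.mem_setOf_eq]; revert i; decide +kernel
    · have h3 := hc ⟨47, by decide⟩ (by simp [mem_sL])
      have h4 := hc ⟨44, by decide⟩ (by simp [mem_sL])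
      have e : ∀ r ∈ [47, 44], gF4.T.car 0 r = (if r = 44 then 1 else 0) ∧ gF4.T.car 1 r = 0 ∧ gF4.T.car 2 r = 0 ∧
        gF4.T.car 3 r = (if r = 44 then 0 else 1) := by decide +kernel
      rw [k2] at h3 h4
      simp only [e 47 (by simp), e 44 (by simp)] at h3 h4
      simp at h3 h4
      fin_cases i
      exacts [h4, absurd (by simp) hi, absurd (by simp) hi, h3]
  · let L := [24, 28, 29, 30, 31, 32, 33, 35, 36, 37, 38, 39, 40, 41, 42, 43, 44, 45, 46, 47]
    have e : (gF4.adj F).U ⊓ Subgroup.centralizer {uP (gF4.adj F) [39, 45]} = (gF4.adj F).XS (sL _ L) := by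
      have h3 : (gF4.adj F).XS (sL _ L) ≤ Subgroup.centralizer {uP (gF4.adj F) [39, 45]} :=
        (gF4.adj F).XS_le.2 fun r hr t => xn_val (gF4.adj F) r t ▸ cmP_sound (gF4.adj F) (p := 2)
          ((by decide +kernel : ∀ r ∈ L, cmP gF4.T 2 r [39, 45] = true) r hr) t
      refine le_antisymm (fun u hu => ?_) (le_inf ((gF4.adj F).XS_mono fun r hr => gF4.pos_iff.2
        ((by decide : ∀ r ∈ L, 24 ≤ r) r hr)) h3)
      have hu0 := il hu
      rw [U_eq_sL (Y := gF4.adj F) (L := 25 :: 27 :: 26 :: 34 :: L) (by decide +kernel)] at hu0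
      obtain ⟨a, u1, hu1, rfl⟩ := peel (by decide +kernel) hu0
      obtain ⟨b, u2, hu2, rfl⟩ := peel (by decide +kernel) hu1
      obtain ⟨c, u3, hu3, rfl⟩ := peel (by decide +kernel) hu2
      obtain ⟨d, u4, hu', rfl⟩ := peel (by decide +kernel) hu3
      have h4 := mul_mem (ir hu) (inv_mem (h3 hu'))
      rw [← mul_assoc, ← mul_assoc, ← mul_assoc, mul_inv_cancel_right, Subgroup.mem_centralizer_singleton_iff, mul_assoc _ _ (xn _ 34 d),
        mul_assoc _ _ (_ * xn _ 34 d)] at h4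
      obtain ⟨f, rfl, rfl, rfl, rfl, -⟩ := exists_valL a b c d 1 1
      have h5 := cEq_sound (gF4.adj F) (ctxP_sound (CharP.cast_eq_zero F 2) f) (by decide +kernel : cEq gF4.T (ctxP 2)
        (uW [39, 45] ++ [(25, [(1, 2)]), (27, [(1, 3)]), (26, [(1, 5)]), (34, [(1, 7)])])
        ([(25, [(1, 2)]), (27, [(1, 3)]), (26, [(1, 5)]), (34, [(1, 7)])] ++ uW [39, 45] ++
          [(40, [(1, 3)]), (44, [(1, 7)]), (46, [(1, 2)]), (47, [(1, 5)])]) = true)
      simp only [evX_append, evX_uW, evX_cons, evX_nil, evP_cons, evP_nil, Int.cast_one, one_mul, add_zero, mul_one] at h5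
      rw [← h4, left_eq_mul] at h5
      have := wd_inj (gF4.adj F) (gF4.isSt F).sep1 1 (L := [40, 44, 46, 47]) (by decide +kernel)
        (w := [(40, f 3), (44, f 7), (46, f 2), (47, f 5)]) (w' := [(40, 0), (44, 0), (46, 0), (47, 0)]) rfl rfl (by simpa using h5)
      simp only [List.cons.injEq, Prod.mk.injEq, true_and, and_true] at this
      simpa [this.1, this.2] using hu'
    rw [h2.cent_eq (gF4.isSt F) (gF4.mult F) [0, 3] (fun w hw h => ?_) (by decide +kernel) fun c hc i hi => ?_,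
      e, sup_inJ (gF4.isSt F) _ _ [14, 23] (fun j hj t => (xn_sim (gF4.adj F) ⟨j, by revert j; decide⟩ t) ▸
        (gF4.adj F).x_mem_XS (mem_sL.2 ((by decide : ∀ j ∈ [0, 3], Cfsg.Lie.chevF4.simple j ∈ L) j hj)) t) (by decide +kernel),
      ← gF4.closure_eq F (S := sL _ L) (p := fun r => Cfsg.Lie.chevF4.IsPosRoot r ∧ r ∉ [27, 25, 34, 26]) (fun r h => h.1.1)
        (fun r => by rw [gF4.isPosRoot_iff, gF4.pos_iff, mem_sL]; revert r; decide)]
    · simp only [and_assoc]
      have : ∀ r ∈ [33, 24], (gF4.adj F).XS (sL _ [r]) ≤ (gF4.adj F).XS (sL _ L) := fun r hr =>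
        (gF4.adj F).XS_mono fun s hs => mem_sL.2 (by rw [List.mem_singleton.1 hs]; clear hs; revert r; decide)
      rw [← gF4.closure_eq F (S := sL _ L) (p := fun r => Cfsg.Lie.chevF4.IsPosRoot r ∧ r ∉ [27, 25, 34, 26])
        (fun r h => h.1.1) (fun r => by rw [gF4.isPosRoot_iff, gF4.pos_iff, mem_sL]; revert r; decide)] at this
      simp only [and_assoc] at this
      have h3 := this 33 (by simp)
      have h4 := this 24 (by simp)
      rw [XS_cons]
      refine le_antisymm (sup_le le_sup_right (sup_le ?_ ?_)) (sup_le (sup_le (sup_le (sup_le (le_sup_of_le_left h3)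
        (le_sup_of_le_right le_sup_left)) (le_sup_of_le_left h4)) (le_sup_of_le_right le_sup_right)) le_sup_left)
      · exact le_sup_of_le_left (le_sup_of_le_left (le_sup_of_le_left le_sup_right))
      · exact le_sup_of_le_left le_sup_right
    · obtain ⟨h3, h4⟩ := k (a := ⟨39, by decide⟩) (b := ⟨45, by decide⟩) hw h (by decide +kernel)
      convert RS.mem_WJ_of_fix2 3 2 (by simp only [A_sim_eq]; decide +kernel) hw h3 h4 using 2
      ext i; simp only [A_sim_eq, Set.mem_setOf_eq]; revert i; decide +kernel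
    · have h3 := hc ⟨39, by decide⟩ (by simp [mem_sL])
      have h4 := hc ⟨45, by decide⟩ (by simp [mem_sL])
      have e : ∀ r ∈ [39, 45], gF4.T.car 0 r = 0 ∧ gF4.T.car 1 r = (if r = 39 then -1 else 2) ∧
        gF4.T.car 2 r = (if r = 39 then 1 else -1) ∧ gF4.T.car 3 r = 0 := by decide +kernel
      rw [k2] at h3 h4
      simp only [e 39 (by simp), e 45 (by simp)] at h3 h4
      simp [mul_inv_eq_one, inv_mul_eq_one] at h3 h4
      have h5 : c (f4i 1) = 1 := by rw [← h3, sq] at h4; simpa using h4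
      fin_cases i
      exacts [absurd (by simp) hi, h5, h3.symm.trans h5, absurd (by simp) hi]

end Cfsg.Agent.S2179
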