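import Cfsg.Statements.S2180
import Cfsg.Agent.H6.Cen2

set_option autoImplicit false
open Cfsg

namespace Cfsg.Agent.S2180

open CfsgH6 CfsgH6.Chev CfsgH6.Chev.Good

/-- Centralizers of involutions in the Chevalley group G of type G₂ over a finite field F of characteristic two with at least four elements (this problem's root numbering for type G₂, from the Chevalley data module: a = p₁ short with index 7, b = p₂ long with index 6, −a = 4, −b = 5, 2a + b = 9, 3a + b = 10, 3a + 2b = 11; U generated by the positive root subgroups). For an element z of G with matrix x_{3a+2b}(1): the centralizer of z in G is generated by U and X_{−a}. For an element t of G with matrix x_{2a+b}(1): the centralizer of t in G is generated by X_{2a+b}, X_{3a+b}, X_{3a+2b}, X_b and X_{−b}. -/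
theorem result {F : Type*} [Field F] [Fintype F] [CharP F 2] (hF : 4 ≤ Fintype.card F) (z t : GL Cfsg.Lie.chevG2.Idx F) (hz : (z : Matrix Cfsg.Lie.chevG2.Idx Cfsg.Lie.chevG2.Idx F) = Cfsg.Lie.chevG2.x F 11 1) (ht : (t : Matrix Cfsg.Lie.chevG2.Idx Cfsg.Lie.chevG2.Idx F) = Cfsg.Lie.chevG2.x F 9 1) :
    Cfsg.Lie.chevG2.group F ⊓ Subgroup.centralizer {z} = Cfsg.Lie.chevG2.posUnipotent F ⊔ Cfsg.Lie.chevG2.rootSubgroup F 4 ∧
    Cfsg.Lie.chevG2.group F ⊓ Subgroup.centralizer {t} = Cfsg.Lie.chevG2.rootSubgroup F 9 ⊔ Cfsg.Lie.chevG2.rootSubgroup F 10 ⊔ Cfsg.Lie.chevG2.rootSubgroup F 11 ⊔ Cfsg.Lie.chevG2.rootSubgroup F 6 ⊔ Cfsg.Lie.chevG2.rootSubgroup F 5 := by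
  obtain rfl : z = uP (gG2.adj F) [11] := Units.ext (by simp [hz, coe_xn])
  obtain rfl : t = uP (gG2.adj F) [9] := Units.ext (by simp [ht, coe_xn])
  have h1 : CenC gG2.T 2 [11] [] 5 := by decide +kernel
  have h2 : CenC gG2.T 2 [9] [10, 11] 3 := by decide +kernel
  simp only [gG2.G_eq, gG2.U_eq, gG2.root_eq' F (r := 4) (by decide), gG2.root_eq' F (r := 9) (by decide),
    gG2.root_eq' F (r := 10) (by decide), gG2.root_eq' F (r := 11) (by decide), gG2.root_eq' F (r := 6) (by decide),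
    gG2.root_eq' F (r := 5) (by decide)]
  constructor
  · rw [gG2.cent_one F h1 [0] ⟨1, by decide⟩ (by simp) (by decide +kernel) (by decide +kernel) (gG2.isSt F)
      (gG2.mult F), inf_eq_left.2 h1.U_le, sup_inJ (gG2.isSt F) _ _ [4] (fun j hj t =>
        (xn_sim (gG2.adj F) ⟨j, by revert j; decide⟩ t) ▸ (gG2.adj F).x_mem_U (gG2.cd.pos_sim _) t) (by decide +kernel)]
  · have e : (gG2.adj F).U ⊓ Subgroup.centralizer {uP (gG2.adj F) [9]} = (gG2.adj F).XS (sL _ [9, 10, 11, 6]) := by
      have h3 : (gG2.adj F).XS (sL _ [9, 10, 11, 6]) ≤ Subgroup.centralizer {uP (gG2.adj F) [9]} :=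
        (gG2.adj F).XS_le.2 fun r hr t => xn_val (gG2.adj F) r t ▸ cmP_sound (gG2.adj F) (p := 2)
          ((by decide +kernel : ∀ r ∈ [9, 10, 11, 6], cmP gG2.T 2 r [9] = true) r hr) t
      refine le_antisymm (fun u hu => ?_) (le_inf ((gG2.adj F).XS_mono fun r hr => gG2.pos_iff.2
        ((by decide : ∀ r ∈ [9, 10, 11, 6], 6 ≤ r) r hr)) h3)
      have hu0 := il hu
      rw [U_eq_sL (Y := gG2.adj F) (L := [7, 8, 9, 10, 11, 6]) (by decide +kernel)] at hu0
      obtain ⟨a, u1, hu1, rfl⟩ := peel (by decide +kernel) hu0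
      obtain ⟨b, u2, hu', rfl⟩ := peel (by decide +kernel) hu1
      have h4 := mul_mem (ir hu) (inv_mem (h3 hu'))
      rw [← mul_assoc, mul_inv_cancel_right, Subgroup.mem_centralizer_singleton_iff] at h4
      obtain ⟨f, rfl, rfl⟩ := exists_val2 a b
      have h5 := cEq_sound (gG2.adj F) (ctxP_sound (CharP.cast_eq_zero F 2) f) (by decide +kernel : cEq gG2.T (ctxP 2)
        (uW [9] ++ [(7, [(1, 2)]), (8, [(1, 3)])]) ([(7, [(1, 2)]), (8, [(1, 3)])] ++ uW [9] ++ [(10, [(1, 2)]), (11, [(1, 3)])]) = true)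
      simp only [evX_append, evX_uW, evX_cons, evX_nil, evP_cons, evP_nil, Int.cast_one, one_mul, add_zero, mul_one] at h5
      rw [← h4, left_eq_mul] at h5
      have := wd_inj (gG2.adj F) (gG2.isSt F).sep1 1 (L := [10, 11]) (by decide +kernel) (w := [(10, f 2), (11, f 3)])
        (w' := [(10, 0), (11, 0)]) rfl rfl (by simpa using h5)
      simp only [List.cons.injEq, Prod.mk.injEq, true_and, and_true] at this
      simpa [this.1, this.2] using hu'
    rw [gG2.cent_one F h2 [1] ⟨0, by decide⟩ (by decide +kernel) (by decide +kernel) (by decide +kernel) (gG2.isSt F)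
      (gG2.mult F), e, sup_inJ (gG2.isSt F) _ _ [5] (fun j hj t => by
        obtain rfl := List.mem_singleton.1 hj
        exact (xn_sim (gG2.adj F) ⟨1, by decide⟩ t) ▸ (gG2.adj F).x_mem_XS (mem_sL.2 (by decide)) t) (by decide +kernel),
      XS_cons, XS_cons (r := 10), XS_cons (r := 11)]
    simp only [sup_assoc]

end Cfsg.Agent.S2180
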