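import Cfsg.Statements.S2181
import Cfsg.Agent.H6.Inv2

set_option autoImplicit false
open Cfsg

namespace Cfsg.Agent.S2181

open CfsgH6 CfsgH6.Chev CfsgH6.Chev.Good

/-- The Chevalley group of type E₇ over a finite field of characteristic two (the matrix group generated by the root elements) has exactly five conjugacy classes of elements of order 2. -/
theorem result {F : Type*} [Field F] [Fintype F] [CharP F 2] :
    (ConjClasses.mk '' {g : ↥(Cfsg.Lie.chevE7.group F) | orderOf g = 2}).ncard = 5 := by
  exact (classes (g := gE7) (w0 := gE7.T.neg)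
    (sp := [[], [1, 4, 6], [1, 2, 3, 4], [1, 2, 3, 4, 6], [1, 2, 3, 4, 5, 6]]) (by decide +kernel) (u := false)
    (ex := [6, 78]) (L := [([125], [], 17), ([118, 121], [122, 123, 124, 125], 13),
      ([114, 116, 119], [117, 118, 120, 121, 122, 123, 124, 125], 11),
      ([92, 107, 111], [108, 113, 114, 116, 117, 118, 120, 121, 122, 123, 124, 125], 9),
      ([92, 107, 111, 119], [108, 113, 114, 116, 117, 118, 120, 121, 122, 123, 124, 125], 9)])
    (by decide +kernel) rfl).1

end Cfsg.Agent.S2181
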