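import Cfsg.Statements.S2182
import Cfsg.Agent.H6.Inv3

set_option autoImplicit false
open Cfsg

namespace Cfsg.Agent.S2182

open CfsgH6 CfsgH6.Chev

/-- The twisted group ²E₆(q), q even, realised inside the Chevalley group of type E₆ over the field K with q² elements, has exactly three conjugacy classes of elements of order 2. -/
theorem result {K : Type*} [Field K] [Fintype K] [CharP K 2] (q : ℕ) (hK : Fintype.card K = q ^ 2) :
    (ConjClasses.mk '' {g : ↥(Cfsg.Lie.twistedE6 K q) | orderOf g = 2}).ncard = 3 := by
  have hq := isPrimePow_of_card two_ne_zero hK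
  obtain ⟨φ, T, h⟩ := exists_isE6 hq hK
  refine h.classes (not_forall.1 fun e => ?_)
  have := card_fix hq.two_le hK
  rw [Nat.card_congr (Equiv.subtypeUnivEquiv fun t => by rw [← h.hφ, e]), Nat.card_eq_fintype_card, hK] at this
  have := hq.two_le
  nlinarith

end Cfsg.Agent.S2182
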