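import Cfsg.Statements.S2186
import Cfsg.Agent.H6.Cen2

set_option autoImplicit false
open Cfsg

namespace Cfsg.Agent.S2186

open CfsgH6 CfsgH6.Chev CfsgH6.Chev.Good PreSt in
theorem aux {F : Type*} [Field F] [Fintype F] [CharP F 2] {D : Cfsg.Lie.ChevalleyDatum} (g : Good D) {m : ℤ}
    (h : CenC g.T 2 [D.nroots - 1] [] m) (y : GL D.Idx F) (hy : y ∈ D.group F) :
    IsPGroup 2 ↥(D.rootSubgroup F (D.nroots - 1) ⊔ (D.rootSubgroup F (D.nroots - 1)).map (MulAut.conj y).toMonoidHom) ∨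
    ∃ h ∈ D.group F, (D.rootSubgroup F (D.nroots - 1) ⊔ (D.rootSubgroup F (D.nroots - 1)).map (MulAut.conj y).toMonoidHom).map (MulAut.conj h).toMonoidHom = D.rootSubgroup F (D.nroots - 1) ⊔ D.rootSubgroup F 0 := by
  have hβ := g.n_eq ▸ (h.1.2.1 (D.nroots - 1) (by simp)).1
  rw [g.G_eq] at hy ⊢
  obtain ⟨b, hb, n, hn, w, hw, ha, u, hu, rfl⟩ := (g.isSt F).bruhat hy
  have e0 := g.root_eq F ⟨_, hβ⟩
  simp only at e0
  set β : Fin D.nroots := ⟨_, hβ⟩
  have k : ∀ {a : GL D.Idx F} {σ}, (g.adj F).Act a σ → ∀ r,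
      ((g.adj F).XS {r}).map (MulAut.conj a).toMonoidHom = (g.adj F).XS {σ r} := fun {a σ} ha r => by
    ext z
    simp only [Subgroup.mem_map, mem_XS_singleton]
    constructor
    · rintro ⟨_, ⟨t, rfl⟩, rfl⟩
      obtain ⟨c, -, h, -⟩ := ha r
      exact ⟨_, h t⟩
    · rintro ⟨t, rfl⟩
      obtain ⟨v, h⟩ := ha.conj_le r t
      exact ⟨_, ⟨v, rfl⟩, h⟩
  have k2 : ∀ u ∈ (g.adj F).U, ((g.adj F).XS {β}).map (MulAut.conj u).toMonoidHom = (g.adj F).XS {β} := fun u hu => by
    have : ∀ z ∈ (g.adj F).XS {β}, u * z * u⁻¹ = z := fun z hz => by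
      have := h.comm_mem hu ((g.adj F).XS_mono (by rintro _ rfl; exact List.mem_cons_self) hz)
      rwa [show sL D [] = ∅ from Set.eq_empty_of_forall_notMem (by simp [mem_sL]), XS_empty, Subgroup.mem_bot,
        mul_inv_eq_one] at this
    ext z
    exact ⟨by rintro ⟨z, hz, rfl⟩; show u * z * u⁻¹ ∈ _; rwa [this z hz], fun hz => ⟨z, hz, this z hz⟩⟩
  have k3 : ∀ (a b : GL D.Idx F) (K : Subgroup (GL D.Idx F)), K.map (MulAut.conj (a * b)).toMonoidHom =
      (K.map (MulAut.conj b).toMonoidHom).map (MulAut.conj a).toMonoidHom := fun a b K => by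
    rw [Subgroup.map_map]; congr 1; ext1; simp [mul_assoc]
  have k4 : ((g.adj F).XS {β}).map (MulAut.conj b).toMonoidHom = (g.adj F).XS {β} := by
    obtain ⟨u, hu, k', hk, rfl⟩ := (g.isSt F).mem_B.1 hb
    rw [k3, k ((g.isSt F).act_H hk), Equiv.Perm.one_apply, k2 u hu]
  have e : (g.adj F).XS {β} ⊔ ((g.adj F).XS {β}).map (MulAut.conj (b * n * u)).toMonoidHom =
      ((g.adj F).XS {β} ⊔ (g.adj F).XS {w β}).map (MulAut.conj b).toMonoidHom := by
    rw [k3, k3, k2 u (IsSt.Um_le_U _ hu), k ha, Subgroup.map_sup, k4]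
  rw [e0, e]
  by_cases h1 : w β = g.cd.neg β
  · refine Or.inr ⟨b⁻¹, inv_mem ((g.adj F).B_le_G hb), ?_⟩
    have e1 : g.cd.neg β = ⟨0, by omega⟩ := Fin.ext (by simp [g.ag.neg_eq hβ, β])
    rw [← k3, inv_mul_cancel, map_one, h1, g.root_eq F ⟨0, by omega⟩, e1]
    exact Subgroup.map_id _
  · obtain ⟨φ, h2, h3⟩ := g.cd.exists_fun2 h1
    haveI : Fact (Nat.Prime 2) := ⟨Nat.prime_two⟩
    exact Or.inl (((XS_isPGroup (g.isSt F).sep1 2 φ).to_le (sup_le ((g.adj F).XS_mono (by rintro _ rfl; exact h2))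
      ((g.adj F).XS_mono (by rintro _ rfl; exact h3)))).map _)

/-- Let G be the Chevalley group of type G₂ (over a field with at least four elements), D₄, E₆, E₇ or E₈ over a finite field F of characteristic two, and let X be the root subgroup of the highest root (the last root index) — a long root subgroup, of order |F|. For every g in G, the subgroup generated by X and its conjugate g X g⁻¹ is either a 2-group or is conjugate by an element of G to the subgroup generated by X and the root subgroup of the lowest root (index 0, the negative of the highest root), which is a copy of SL₂(F). -/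
theorem result {F : Type*} [Field F] [Fintype F] [CharP F 2] (D : Cfsg.Lie.ChevalleyDatum) (hD : D ∈ [Cfsg.Lie.chevG2, Cfsg.Lie.chevD4, Cfsg.Lie.chevE6, Cfsg.Lie.chevE7, Cfsg.Lie.chevE8]) (hF : D = Cfsg.Lie.chevG2 → 4 ≤ Fintype.card F) (g : GL D.Idx F) (hg : g ∈ D.group F) :
    IsPGroup 2 ↥(D.rootSubgroup F (D.nroots - 1) ⊔ (D.rootSubgroup F (D.nroots - 1)).map (MulAut.conj g).toMonoidHom) ∨
    ∃ h ∈ D.group F, (D.rootSubgroup F (D.nroots - 1) ⊔ (D.rootSubgroup F (D.nroots - 1)).map (MulAut.conj g).toMonoidHom).map (MulAut.conj h).toMonoidHom = D.rootSubgroup F (D.nroots - 1) ⊔ D.rootSubgroup F 0 := by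
  simp only [List.mem_cons, List.not_mem_nil, or_false] at hD
  rcases hD with rfl | rfl | rfl | rfl | rfl
  exacts [aux CfsgH6.Chev.gG2 (m := 5) (by decide +kernel) g hg, aux CfsgH6.Chev.gD4 (m := 5) (by decide +kernel) g hg,
    aux CfsgH6.Chev.gE6 (m := 11) (by decide +kernel) g hg, aux CfsgH6.Chev.gE7 (m := 17) (by decide +kernel) g hg,
    aux CfsgH6.Chev.gE8 (m := 29) (by decide +kernel) g hg]

end Cfsg.Agent.S2186
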