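import Cfsg.Statements.S2202
import Cfsg.Agent.H1.IA3

set_option autoImplicit false
open Cfsg

namespace Cfsg.Agent.S2202

/-- Finite groups in which the centralizer of every involution is abelian. Let G be a finite group of even order in which the centralizer of every element of order 2 is abelian. Then the Sylow 2-subgroups of G are cyclic, or a Sylow 2-subgroup of G is normal, or G is isomorphic to the direct product of SL₂(F) for a finite field F of characteristic two and an abelian group of odd order. -/
theorem result {G : Type*} [Group G] [Finite G] (heven : Even (Nat.card G)) (h : ∀ t : G, orderOf t = 2 → IsMulCommutative ↥(Subgroup.centralizer ({t} : Set G))) :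
    (∀ P : Sylow 2 G, IsCyclic ↥P) ∨ (∀ P : Sylow 2 G, (P : Subgroup G).Normal) ∨
    (∃ (F : Type) (_ : Field F) (_ : Fintype F) (A : Type) (_ : CommGroup A) (_ : Finite A), CharP F 2 ∧ Odd (Nat.card A) ∧ Nonempty (G ≃* Matrix.SpecialLinearGroup (Fin 2) F × A)) := by
  open Subgroup CfsgH1 CfsgFT CfsgH2 CfsgH1.L2 in
  by_cases h1 : ∀ P : Sylow 2 G, IsCyclic P
  · exact Or.inl h1
  push Not at h1
  obtain ⟨P, hP⟩ := h1
  by_cases h2 : (P : Subgroup G).Normal
  · haveI := Sylow.unique_of_normal P h2
    exact Or.inr (Or.inl fun Q => Subsingleton.elim P Q ▸ h2)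
  obtain ⟨t, t1, -, -, k⟩ := (ia_of_comm h).exists_ias P hP h2
  obtain ⟨n, -, ⟨e⟩⟩ := k.prod
  letI : CommGroup (center G) := { (inferInstance : Group (center G)) with
    mul_comm := fun a b => Subtype.ext (mem_center_iff.1 b.2 a) }
  refine Or.inr (Or.inr ⟨GaloisField 2 n, inferInstance, Fintype.ofFinite _, Shrink.{0} (center G),
    inferInstance, Finite.of_equiv _ (equivShrink _), inferInstance, ?_,
    ⟨e.trans ((MulEquiv.refl _).prodCongr Shrink.mulEquiv.symm)⟩⟩)
  rw [Nat.card_congr (equivShrink.{0} (center G)).symm]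
  exact k.odd_center

end Cfsg.Agent.S2202
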