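import Cfsg.Statements.S2209
import Cfsg.Agent.H6.Cen2

set_option autoImplicit false
open Cfsg

namespace Cfsg.Agent.S2209

open CfsgH6 CfsgH6.Chev CfsgH6.Chev.Good in
theorem aux {F : Type*} [Field F] [CharP F 2] {D : Cfsg.Lie.ChevalleyDatum} (g : Good D) {β : ℕ} {m : ℤ} (js L : List ℕ)
    (i0 : Fin D.rank) (h : CenC g.T 2 [β] [] m)
    (hd : ∀ i : Fin D.rank, g.T.car i β = (if i = i0 then 1 else 0) ∧ ((i : ℕ) ∈ js ↔ i ≠ i0))
    (hJ : ∀ j ∈ js, cmP g.T 2 (g.T.sim j) [β] = true ∧ cmP g.T 2 (g.T.neg (g.T.sim j)) [β] = true)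
    (hL : (js.map (fun j => g.T.neg (g.T.sim j)) = L ∧ ∀ j ∈ js, j < g.T.l) ∧ ∀ r ∈ L, r < D.nroots)
    (t : GL D.Idx F) (ht : (t : Matrix D.Idx D.Idx F) = D.x F β 1) :
    D.group F ⊓ Subgroup.centralizer {t} = D.posUnipotent F ⊔ Subgroup.closure {g : GL D.Idx F | ∃ s ∈ L, ∃ c : F, (g : Matrix D.Idx D.Idx F) = D.x F s c} := by
  obtain rfl : t = uP (g.adj F) [β] := Units.ext (by simp [ht, coe_xn])
  rw [g.G_eq, g.cent_one F h js i0 (by simp) hd hJ (g.isSt F) (g.mult F), inf_eq_left.2 h.U_le,
    sup_inJ (g.isSt F) _ js L (fun j hj t => by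
      have := g.l_eq ▸ hL.1.2 j hj
      exact (xn_sim (g.adj F) ⟨j, this⟩ t) ▸ (g.adj F).x_mem_U (g.cd.pos_sim _) t) hL.1, g.U_eq,
    ← g.closure_eq F (· ∈ L) hL.2 (sL D L) fun _ => Iff.rfl]
  simp

/-- Centralizer of a long root involution in the Chevalley groups of type E₆, E₇, E₈ over a finite field F of characteristic two. Let G be the group generated by the root elements, U the subgroup generated by the positive root subgroups, r the highest root (the last root index: 71, 125, 239 respectively), and t the element of G with matrix x_r(1). Then the centralizer of t in G is the subgroup generated by U together with the root subgroups X_{−p} for the fundamental roots p orthogonal to r — all fundamental roots except p₂ for E₆, except p₁ for E₇, except p₈ for E₈ (numbering with p₁–p₃–p₄–…–p_l the long chain and p₂ joined to p₄); the indices of these negative fundamental roots are 15, 29, 32, 34, 35 (E₆), 47, 52, 56, 59, 61, 62 (E₇), 77, 98, 104, 109, 113, 116, 118 (E₈). (This is the unipotent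 radical of the corresponding maximal parabolic subgroup extended by the root subgroups of its Levi factor, of type A₅, D₆, E₇ respectively.) -/
theorem result {F : Type*} [Field F] [Fintype F] [CharP F 2] (d : Cfsg.Lie.ChevalleyDatum × List ℕ)
    (hd : d ∈ [(Cfsg.Lie.chevE6, [15, 29, 32, 34, 35]), (Cfsg.Lie.chevE7, [47, 52, 56, 59, 61, 62]), (Cfsg.Lie.chevE8, [77, 98, 104, 109, 113, 116, 118])])
    (t : GL d.1.Idx F) (ht : (t : Matrix d.1.Idx d.1.Idx F) = d.1.x F (d.1.nroots - 1) 1) :
    d.1.group F ⊓ Subgroup.centralizer {t} = d.1.posUnipotent F ⊔ Subgroup.closure {g : GL d.1.Idx F | ∃ s ∈ d.2, ∃ c : F, (g : Matrix d.1.Idx d.1.Idx F) = d.1.x F s c} := by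
  simp only [List.mem_cons, List.not_mem_nil, or_false] at hd
  rcases hd with rfl | rfl | rfl
  · exact aux CfsgH6.Chev.gE6 (β := 71) (m := 11) [0, 2, 3, 4, 5] _ ⟨1, by decide⟩ (by decide +kernel) (by decide +kernel)
      (by decide +kernel) (by decide +kernel) t ht
  · exact aux CfsgH6.Chev.gE7 (β := 125) (m := 17) [1, 2, 3, 4, 5, 6] _ ⟨0, by decide⟩ (by decide +kernel) (by decide +kernel)
      (by decide +kernel) (by decide +kernel) t ht
  · exact aux CfsgH6.Chev.gE8 (β := 239) (m := 29) [0, 1, 2, 3, 4, 5, 6] _ ⟨7, by decide⟩ (by decide +kernel) (by decide +kernel)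
      (by decide +kernel) (by decide +kernel) t ht

end Cfsg.Agent.S2209
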