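import Cfsg.Statements.S2214
import Cfsg.Agent.H6.Fx2

set_option autoImplicit false
open Cfsg

namespace Cfsg.Agent.S2214

open CfsgH6 CfsgH6.Chev

/-- Let k be an algebraically closed field of prime characteristic p, G the adjoint Chevalley group of type G₂, B₂, D₄, F₄, E₆, E₇ or E₈ over k (the matrix group generated by the root elements x_s(t), t ∈ k, acting on the Lie algebra), q = p^a with a ≥ 1, and K a subgroup of G containing every root element x_s(t) with t^q = t and consisting of matrices all of whose entries c satisfy c^q = c. Then the centralizer of K in G is trivial, and the normalizer of K in G is exactly the set of elements of G all of whose entries c satisfy c^q = c. -/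
theorem result {k : Type*} [Field k] [IsAlgClosed k] (p : ℕ) [Fact p.Prime] [CharP k p] (D : Cfsg.Lie.ChevalleyDatum) (hD : D ∈ [Cfsg.Lie.chevG2, Cfsg.Lie.chevB2, Cfsg.Lie.chevD4, Cfsg.Lie.chevF4, Cfsg.Lie.chevE6, Cfsg.Lie.chevE7, Cfsg.Lie.chevE8]) (a : ℕ) (ha : 1 ≤ a) (K : Subgroup (GL D.Idx k)) (hKG : K ≤ D.group k)
    (hLK : Subgroup.closure {g : GL D.Idx k | ∃ (s : ℕ) (t : k), t ^ (p ^ a) = t ∧ (g : Matrix D.Idx D.Idx k) = D.x k s t} ≤ K)
    (hKfix : ∀ g ∈ K, ∀ i j : D.Idx, ((g : Matrix D.Idx D.Idx k) i j) ^ (p ^ a) = (g : Matrix D.Idx D.Idx k) i j) :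
    D.group k ⊓ Subgroup.centralizer (K : Set (GL D.Idx k)) = ⊥ ∧
    ∀ g : GL D.Idx k, g ∈ D.group k → (g ∈ Subgroup.normalizer (K : Set (GL D.Idx k)) ↔ ∀ i j : D.Idx, ((g : Matrix D.Idx D.Idx k) i j) ^ (p ^ a) = (g : Matrix D.Idx D.Idx k) i j) := by
  obtain ⟨g⟩ := good_of_mem hD
  obtain ⟨T, hT⟩ := g.exists_fld (iterateFrobeniusEquiv k p a)
  have hX := g.isStG k
  have h1 : T.M ≤ K.subgroupOf (D.group k) := by
    rw [Subgroup.subgroupOf, ← Subgroup.map_le_iff_le_comap, g.map_M_fld hT]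
    exact hLK
  have h2 : K.subgroupOf (D.group k) ≤ T.Fix := fun y hy => (g.mem_Fix_iff hT y).2 (hKfix _ hy)
  have hZ := g.eq_one_of_cent (hT.ne hX) (hT.ns hX)
  refine ⟨eq_bot_iff.2 fun y hy => ?_, fun y hy => ?_⟩
  · exact congrArg Subtype.val (hZ ⟨y, hy.1⟩ fun z hz => Subtype.ext (hy.2 _ (h1 hz)))
  · refine Iff.trans ?_ ((PreSt.Tw.normalizer_iff hX (g.multG k) (g.adjG_G k) (hT.ne hX) hZ h1 h2 ⟨y, hy⟩).trans
      (g.mem_Fix_iff hT _))
    refine ⟨fun h z => h z, fun h z => ⟨fun hz => (h ⟨z, hKG hz⟩).1 hz, fun hz => ?_⟩⟩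
    have : z ∈ D.group k := by simpa [mul_assoc] using mul_mem (mul_mem (inv_mem hy) (hKG hz)) hy
    exact (h ⟨z, this⟩).2 hz

end Cfsg.Agent.S2214
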