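import Cfsg.Statements.S2222
import Cfsg.Agent.H3.Sy3

set_option autoImplicit false
open Cfsg

namespace Cfsg.Agent.S2222

open CfsgPm CfsgH2 Subgroup
theorem pron {G : Type*} [Group G] [Finite G] {p : ℕ} [Fact p.Prime] (R : Sylow p G) {H : Subgroup G} (h : R.1 ≤ H)
    (hn : normalizer (R.1 : Set G) ≤ normalizer (H : Set G)) : IsPronormal H := fun g => by
  have S := IsSylowIn.of_sylow_top R
  obtain ⟨k, k1, k2⟩ := (S.mono (h.trans le_sup_left) le_top).exists_cj_eq
    ((cj_top g ▸ S.cj g : IsSylowIn p (cj g R.1) ⊤).mono ((cj_mono g h).trans (le_sup_right : cj g H ≤ H ⊔ cj g H)) le_top)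
  refine ⟨k, k1, cj_eq_iff_eq_cj_inv.2 ?_⟩
  rw [cj_def, cj_cj, cj_eq_iff_mem_normalizer.2 (hn (cj_eq_iff_mem_normalizer.1 (by rw [← cj_cj, k2, cj_inv_cj])))]

/-- In the alternating group of degree n ≥ 5 every subgroup H of odd index is pronormal: for every element g, the subgroups H and gHg⁻¹ are conjugate by an element of the subgroup they generate. -/
theorem result (n : ℕ) (hn : 5 ≤ n)
    (H : Subgroup (alternatingGroup (Fin n))) (hH : Odd H.index) : Cfsg.IsPronormal H := by
  obtain ⟨S, hS⟩ := IsSylowIn.exists_sylowIn (p := 2) H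
  obtain ⟨R, rfl⟩ := (hS.trans_of_not_dvd le_top (by rw [relIndex_top_right]; exact hH.not_two_dvd_nat)).of_top
  have T := IsSylowIn.of_sylow_top R
  refine pron R hS.le ?_
  rcases hn.eq_or_lt with rfl | h6
  · obtain ⟨M, ⟨m1, m2⟩, m3⟩ := (uniq_max (alternatingGroup (Fin 5)).subtype_injective (range_subtype _).ge R (by simp) (by simp)).2 ⟨2, le_rfl, rfl⟩
    have le : ∀ K, K ≠ ⊤ → R.1 ≤ K → K ≤ M := fun K a b => by
      obtain ⟨L, l1, l2⟩ := (eq_top_or_exists_le_coatom _).resolve_left a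
      exact m3 L ⟨l1, b.trans l2⟩ ▸ l2
    have c : Nat.card (alternatingGroup (Fin 5)) = 4 * 15 := by rw [nat_card_alternatingGroup]; simp [Nat.factorial]
    have o := R.not_dvd_index
    by_cases e : H = ⊤
    · rw [e, normalizer_eq_top (H := ⊤)]; exact le_top
    by_cases e1 : H ≤ R
    · rw [le_antisymm e1 hS.le]
    by_cases e2 : M ≤ H
    · refine (le _ (fun k => ?_) le_normalizer).trans (e2.trans le_normalizer)
      rcases Normal.eq_bot_or_eq_top (normalizer_eq_top_iff.1 k) with k | k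
      · exact o (by rw [k, index_bot, c]; decide)
      · exact m1.1 (top_le_iff.1 (k ▸ m2))
    have d := Nat.le_of_dvd (by decide) ((Nat.Coprime.pow_left 2 (Nat.prime_two.coprime_iff_not_dvd.2 o)).symm.dvd_of_dvd_mul_left (c ▸ R.1.index_dvd_card))
    rw [← relIndex_mul_index hS.le, ← relIndex_mul_index (le H e hS.le)] at d o
    have t : ∀ {a b : ℕ}, a ∣ b → ¬ 2 ∣ b → a ≠ 1 → 3 ≤ a := fun h k e => by have := mt (dvd_trans · h) k; omega
    have := Nat.mul_le_mul (t (Dvd.intro _ rfl) o (mt relIndex_eq_one.1 e1)) (Nat.mul_le_mul (t ((Dvd.intro _ rfl).mul_left _) o (mt relIndex_eq_one.1 e2))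
      (t ((Dvd.intro_left _ rfl).mul_left _) o (mt index_eq_one.1 m1.1)))
    omega
  obtain ⟨P, hP⟩ := (R.2.map (alternatingGroup (Fin n)).subtype).exists_le_sylow
  have U := T.map (alternatingGroup (Fin n)).subtype
  rw [← MonoidHom.range_eq_map, range_subtype] at U
  have e := U.eq_of_le P.2.to_inf_left (le_inf hP U.le) inf_le_right
  refine (T.eq_of_le (.of_card (Nat.eq_prime_pow_of_unique_prime_dvd Nat.card_pos.ne' fun {q} hq k => by_contra fun m => ?_)) le_normalizer le_top).le.trans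
    (hS.le.trans le_normalizer)
  haveI := Fact.mk hq
  obtain ⟨g, hg⟩ := exists_prime_orderOf_dvd_card' q k
  have o : orderOf g.1.1 = q := by rw [orderOf_coe, orderOf_coe, hg]
  have := odd_norm_alt P (by simpa) (e ▸ le_normalizer_map _ (mem_map_of_mem _ g.2)) (o ▸ hq.odd_of_ne_two m : Odd (orderOf g.1.1))
  exact hq.ne_one (o.symm.trans (orderOf_eq_one_iff.2 this))

end Cfsg.Agent.S2222
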