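import Cfsg.Statements.S2231
import Cfsg.Agent.H9.Qd

set_option autoImplicit false
open Cfsg

namespace Cfsg.Agent.S2231

/-- Let p be an odd prime and K a finite field of characteristic p. Then Qd(p) (the natural semidirect product of an elementary abelian group of order p² by SL₂(p)) is not involved in the projective special linear group PSL₂(K). -/
theorem result {p : ℕ} [Fact p.Prime] (hp : p ≠ 2) {K : Type*} [Field K] [Fintype K] [CharP K p] : ¬ Cfsg.Involves ↥(Cfsg.qd p) (Matrix.ProjectiveSpecialLinearGroup (Fin 2) K) := by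
  rw [CfsgH9.involves_iff]
  have h := (CfsgH9.sylowIn_qU (F := K) (p := p)).map (CfsgH9.qπ K)
  refine fun k => CfsgH9.not_sec_qd_of_comm h.toSylow ⟨⟨?_⟩⟩ ((k.of_surjective _ (QuotientGroup.mk'_surjective _)).mono
    (Subgroup.map_top_of_surjective _ CfsgH9.qπ_surjective).ge)
  intro x y
  obtain ⟨_, ⟨a, b, c, rfl⟩, hx⟩ := x.2
  obtain ⟨_, ⟨a', b', c', rfl⟩, hy⟩ := y.2
  refine Subtype.ext (Subtype.ext ?_)
  change (x.1.1 : Matrix.SpecialLinearGroup (Fin 2) K) * y.1.1 = y.1.1 * x.1.1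
  rw [show x.1.1 = _ from hx.symm, show y.1.1 = _ from hy.symm]
  simp [CfsgH9.qh, ← CfsgH9.Tm_add, add_comm]

end Cfsg.Agent.S2231
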