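import Cfsg.Statements.S2232
import Cfsg.Agent.H5.U3b
import Cfsg.Agent.H9.Qd

set_option autoImplicit false
open Cfsg

namespace Cfsg.Agent.S2232

open CfsgH5 Pointwise

/-- Let p be an odd prime, q a power of p and K a finite field with q² elements. Then Qd(p) (the natural semidirect product of an elementary abelian group of order p² by SL₂(p)) is not involved in the projective special unitary group PSU₃(q) realised over K. -/
theorem result {p : ℕ} [Fact p.Prime] (hp : p ≠ 2) {K : Type*} [Field K] [Fintype K] [CharP K p] (n : ℕ) (hn : 1 ≤ n) (hK : Fintype.card K = (p ^ n) ^ 2) : ¬ Cfsg.Involves ↥(Cfsg.qd p) (Cfsg.PSU 3 K (p ^ n)) := by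
  rintro ⟨K0, R0, _, ⟨e0⟩⟩
  have hp' : p.Prime := Fact.out
  obtain ⟨e, w, f, h⟩ := exists_U3 hK
  letI := psuAct hK (n := 3) (by norm_num)
  have hS := uForm_nondeg hK 3
  have h1 : Nat.card (psuPsi hK h).range = p ^ (n * 3) := by
    rw [pow_mul, ← card_UH hK]; exact (Nat.card_congr (MonoidHom.ofInjective (psuPsi_inj hK h)).toEquiv).symm
  let Q : Sylow p (Cfsg.PSU 3 K (p ^ n)) := (IsPGroup.of_card h1).toSylow fun e => by
    have h2 := card_PSU3_mul hK
    rw [← (psuPsi hK h).range.card_mul_index, h1, pow_mul, mul_assoc] at h2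
    exact not_dvd_u3 hp' (dvd_pow_self p (by omega)) (Nat.one_le_pow _ _ hp'.pos)
      (Nat.eq_of_mul_eq_mul_left (by have := hp'.pos; positivity) h2 ▸ e.mul_right _)
  have TI0 : ∀ g : Cfsg.PSU 3 K (p ^ n), ¬ Disjoint (g • Q).1 Q.1 → g • Q = Q := fun g hg => by
    obtain ⟨g, rfl⟩ := QuotientGroup.mk_surjective g
    have hgi := (suHom_mem hK g).1
    by_cases h2 : (uForm hK 3).B (suHom _ _ _ g e) e = 0
    · obtain ⟨c, hc⟩ := h.exists_smul_of_perp ((Form.isom_B hgi e e).trans h.ee) h2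
      have hc0 : c ≠ 0 := by rintro rfl; exact h.hyp.ne_left (by simpa using hc)
      refine Sylow.ext (Subgroup.eq_of_le_of_card_ge ?_ (Sylow.card_eq_multiplicity _ |>.trans
        (Sylow.card_eq_multiplicity _).symm).le)
      rintro _ ⟨_, ⟨x, rfl⟩, rfl⟩
      have : g * suPsi hK h x * g⁻¹ ∈ (suPsi hK h).range := by
        rw [mem_range_suPsi, map_mul, map_mul, map_inv, suHom_suPsi, ← Form.Qu_smul e hc0, ← hc]
        exact Form.conj_eich (h.isEich x) hgi ▸ Form.eich_mem_Qu _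
      obtain ⟨y, hy⟩ := this
      exact ⟨y, by rw [psuPsi_apply, hy]; rfl⟩
    refine absurd (Subgroup.disjoint_def.2 ?_) hg
    rintro _ ⟨_, ⟨x, rfl⟩, hx⟩ ⟨y, rfl⟩
    obtain ⟨t, ht, c, hc, h3⟩ := Form.exists_Qu_map_sing h.hyp.qe h2 (h.fe ▸ one_ne_zero)
      ((Form.isom_q hgi e).trans h.hyp.qe) h.hyp.qf
    obtain ⟨t, rfl⟩ : t ∈ h.psi.range := h.range_psi ▸ ht
    obtain ⟨d, hd⟩ := (center_SU_smul hK (by norm_num)).1 (QuotientGroup.eq.1
      (show ((g * suPsi hK h x * g⁻¹ : Cfsg.SU 3 K (p ^ n)) : Cfsg.PSU 3 K (p ^ n)) = suPsi hK h y from hx))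
    have h4 : ∀ v, h.psi y v = d • suHom _ _ _ (g * suPsi hK h x * g⁻¹) v := fun v => by
      rw [← map_smul, ← hd, ← LinearEquiv.mul_apply, ← map_mul, mul_inv_cancel_left, suHom_suPsi]
    have h5 : h.psi (t * y * t⁻¹) (c • f) = d • c • f := by
      rw [← h3, ← LinearEquiv.mul_apply, ← map_mul, inv_mul_cancel_right, map_mul, LinearEquiv.mul_apply, h4,
        ← LinearEquiv.mul_apply _ (suHom _ _ _ g), ← map_mul, inv_mul_cancel_right, map_mul,
        LinearEquiv.mul_apply, suHom_suPsi, h.psi_e, map_smul]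
    rw [map_smul, smul_comm] at h5
    rw [mul_inv_eq_one.1 (h.eq_one_of_psi_f (smul_right_injective _ hc h5)) |> mul_eq_left.1, map_one]
  have TI : ∀ A B : Subgroup K0, IsPGroup p A → IsPGroup p B → ¬ Disjoint A B → IsPGroup p ↥(A ⊔ B) :=
    fun A B hA hB hd => by
    obtain ⟨P, hP⟩ := (hA.map K0.subtype).exists_le_sylow
    obtain ⟨P', hP'⟩ := (hB.map K0.subtype).exists_le_sylow
    obtain ⟨a, rfl⟩ := MulAction.exists_smul_eq (Cfsg.PSU 3 K (p ^ n)) Q P
    obtain ⟨b, rfl⟩ := MulAction.exists_smul_eq (Cfsg.PSU 3 K (p ^ n)) (a • Q) P'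
    have h2 : b • a • Q = a • Q := by
      rw [← inv_smul_eq_iff, smul_smul, smul_smul]
      refine TI0 _ fun h2 => hd (Subgroup.disjoint_def.2 fun {x} h3 h4 => Subtype.ext ?_)
      have h5 := Subgroup.mem_pointwise_smul_iff_inv_smul_mem.1 (hP ⟨x, h3, rfl⟩)
      have h6 := Subgroup.smul_mem_pointwise_smul _ (MulAut.conj a)⁻¹ _ (hP' ⟨x, h4, rfl⟩)
      rw [← map_inv, ← Sylow.coe_subgroup_smul, smul_smul, smul_smul] at h6
      exact (MulAction.injective (MulAut.conj a⁻¹) ((Subgroup.disjoint_def.1 h2 h6 (by simpa using h5)).trans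
        (smul_one _).symm))
    exact ((a • Q).isPGroup'.comap_subtype).to_le (sup_le (Subgroup.map_le_iff_le_comap.1 hP)
      (Subgroup.map_le_iff_le_comap.1 (h2 ▸ hP')))
  let π : K0 →* Cfsg.qdOver (ZMod p) := e0.toMonoidHom.comp (QuotientGroup.mk' _)
  have hπ : Function.Surjective π := e0.surjective.comp (QuotientGroup.mk'_surjective _)
  have hV : IsPGroup p (CfsgH9.qV (ZMod p)) := IsPGroup.of_card (n := 2) (by rw [CfsgH9.card_qV, Nat.card_zmod])
  obtain ⟨R⟩ : Nonempty (Sylow p ((CfsgH9.qV (ZMod p)).comap π)) := inferInstance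
  have hR : R.1.map (Subgroup.subtype _) ≠ ⊥ := mt (Subgroup.map_eq_bot_iff_of_injective _
    (Subgroup.subtype_injective _)).1 (R.ne_bot_of_dvd_card ((show p ∣ Nat.card (CfsgH9.qV (ZMod p)) by
      rw [CfsgH9.card_qV, Nat.card_zmod]; simp).trans (Subgroup.card_dvd_of_surjective (π.subgroupComap _)
        (π.subgroupComap_surjective_of_surjective _ hπ))))
  obtain ⟨P, hP⟩ := (R.isPGroup'.map (Subgroup.subtype _)).exists_le_sylow
  refine CfsgH9.nc_of_qd (G := Cfsg.qdOver (ZMod p)) (.refl _) (P.mapSurjective hπ) _ le_rfl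
    (Sylow.ne_bot_of_dvd_card _ (by rw [CfsgH9.card_qdOver, Nat.card_zmod]; simp [hp'.dvd_mul]))
    (by rw [Subgroup.subgroupOf_self]; infer_instance) (Subgroup.normalizer_eq_top_iff.1 (top_unique ?_))
  rw [← Subgroup.map_top_of_surjective π hπ, ← R.normalizer_sup_eq_top, Subgroup.map_sup]
  refine sup_le ((Subgroup.map_mono fun k hk => ?_).trans (Subgroup.le_normalizer_map π))
    ((Subgroup.map_comap_le _ _).trans ((hV.le_sylow_of_normal _).trans Subgroup.le_normalizer))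
  have h2 := TI _ _ P.isPGroup' (k • P).isPGroup' fun h2 => hR (le_bot_iff.1 (h2 hP ?_))
  · exact Sylow.smul_eq_iff_mem_normalizer.1 (Sylow.ext (((k • P).is_maximal' h2 le_sup_right).symm.trans
      (P.is_maximal' h2 le_sup_left)))
  · intro x hx
    exact Subgroup.mem_pointwise_smul_iff_inv_smul_mem.2 (hP (by
      simpa using (Subgroup.mem_normalizer_iff''.1 hk x).1 hx))

end Cfsg.Agent.S2232
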