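import Cfsg.Statements.S2238
import Cfsg.Agent.H7.Sz9

set_option autoImplicit false
open Cfsg

namespace Cfsg.Agent.S2238

open CfsgH7 MulAction
open scoped Pointwise symmDiff
set_option maxRecDepth 100000


/-- The partition of the Suzuki group: with q = 2^(2m+1), m ≥ 1, r = 2^m and the Suzuki group realised as the stabiliser in SL₄ of the Suzuki–Tits ovoid, every non-identity element lies in exactly one subgroup that is either a Sylow 2-subgroup or a cyclic subgroup of order q − 1, q + 2r + 1 or q − 2r + 1. -/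
theorem result {F : Type*} [Field F] [Fintype F] {m : ℕ} (hm : 1 ≤ m) (hF : Fintype.card F = 2 ^ (2 * m + 1)) (g : ↥(Cfsg.Sz F m)) (hg : g ≠ 1) :
    ∃! U : Subgroup ↥(Cfsg.Sz F m), ((∃ P : Sylow 2 ↥(Cfsg.Sz F m), U = (P : Subgroup ↥(Cfsg.Sz F m))) ∨
      (IsCyclic ↥U ∧ Nat.card ↥U ∈ ({2 ^ (2 * m + 1) - 1, 2 ^ (2 * m + 1) + 2 ^ (m + 1) + 1, 2 ^ (2 * m + 1) - 2 ^ (m + 1) + 1} : Set ℕ))) ∧ g ∈ U := by
  haveI := SzM.charP hF
  obtain ⟨S, -⟩ := SzM.sz_model hm hF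
  have hq : Nat.card F = 2 ^ (2 * m + 1) := by rw [Nat.card_eq_fintype_card, hF]
  simp only [Set.mem_insert_iff, Set.mem_singleton_iff, ← hq]
  rcases Nat.even_or_odd (orderOf g) with h | h
  · obtain ⟨S', hQ⟩ := S.even_elt h
    refine ⟨S'.Q, ⟨Or.inl ⟨S'.syl, rfl⟩, hQ⟩, ?_⟩
    rintro U ⟨⟨P, rfl⟩ | ⟨hc, hk⟩, hU⟩
    · obtain ⟨S2, e⟩ := S.sylow_eq P
      rw [e] at hU ⊢
      exact S2.Q_congr S' (S'.Q_fix hQ hg (S2.Q_le hU))
    · exact absurd h (Nat.not_even_iff_odd.2 (S.cyc_mem_eq (SzM.hr hF) hc hk hU hg).1)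
  · have od := S.od_cent hg h
    refine ⟨_, ⟨Or.inr ⟨od.cyc, S.od_card (SzM.hr hF) od⟩, self_cent g⟩, ?_⟩
    rintro U ⟨⟨P, rfl⟩ | ⟨hc, hk⟩, hU⟩
    · obtain ⟨S2, e⟩ := S.sylow_eq P
      exact absurd (S2.Q_odd (e ▸ hU) h) hg
    · exact (S.cyc_mem_eq (SzM.hr hF) hc hk hU hg).2

end Cfsg.Agent.S2238
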