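import Cfsg.Statements.S2239
import Cfsg.Agent.H7.Sz9

set_option autoImplicit false
open Cfsg

namespace Cfsg.Agent.S2239

open CfsgH7 MulAction
open scoped Pointwise symmDiff
set_option maxRecDepth 100000


/-- Subfield subgroups of the Suzuki group: let q = 2^(2m+1) and s = 2^(2k+1) with m, k ≥ 1 and 2k+1 dividing 2m+1 (so q is a power of s), both groups realised as stabilisers in SL₄ of the Suzuki–Tits ovoid. Then Sz(q) has a subgroup isomorphic to Sz(s), and any two subgroups of Sz(q) isomorphic to Sz(s) are conjugate. -/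
theorem result {F : Type*} [Field F] [Fintype F] {m : ℕ} (hm : 1 ≤ m) (hF : Fintype.card F = 2 ^ (2 * m + 1)) {K : Type*} [Field K] [Fintype K] {k : ℕ} (hk : 1 ≤ k) (hK : Fintype.card K = 2 ^ (2 * k + 1)) (hdiv : 2 * k + 1 ∣ 2 * m + 1) :
    (∃ S : Subgroup ↥(Cfsg.Sz F m), Nonempty (↥S ≃* ↥(Cfsg.Sz K k))) ∧
    ∀ S₁ S₂ : Subgroup ↥(Cfsg.Sz F m), Nonempty (↥S₁ ≃* ↥(Cfsg.Sz K k)) → Nonempty (↥S₂ ≃* ↥(Cfsg.Sz K k)) →
      ∃ g : ↥(Cfsg.Sz F m), S₂ = S₁.map (MulAut.conj g).toMonoidHom := by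
  haveI := SzM.charP hF
  haveI := SzM.charP hK
  obtain ⟨S, -⟩ := SzM.sz_model hm hF
  obtain ⟨S0, -⟩ := SzM.sz_model hk hK
  obtain ⟨K0, T0, c0⟩ := SzM.exists_sub hF hk hdiv
  refine ⟨⟨_, SzM.sub_iso S T0 hk hK c0 hdiv⟩, ?_⟩
  have key : ∀ M : Subgroup (Cfsg.Sz F m), Nonempty (M ≃* Cfsg.Sz K k) →
      ∃ g, M = (S.GK K0).map (MulAut.conj g).toMonoidHom := by
    rintro M ⟨e⟩
    have ns : ¬ Group.IsSolvable M := fun h =>
      S0.not_solv (solvable_of_surjective (f := e.toMonoidHom) e.surjective)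
    rcases S.classify M with ⟨p, h⟩ | ⟨U, o, -, h⟩ | ⟨g, K1, T1, h⟩
    · haveI := S.solv_stab p; exact absurd (solv_le h) ns
    · haveI := o.solv_norm; exact absurd (solv_le h) ns
    · have c1 := (S.conj g).card_GK T1
      rw [← h, Nat.card_congr e.toEquiv, S0.card_G] at c1
      have c2 : Nat.card K = Nat.card K0 := by rw [c0, Nat.card_eq_fintype_card, hK]
      have mono : ∀ a b : ℕ, 1 < a → a < b → a ^ 2 * (a - 1) * (a ^ 2 + 1) < b ^ 2 * (b - 1) * (b ^ 2 + 1) :=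
        fun a b h1 h2 => by
          have := Nat.pow_lt_pow_left h2 two_ne_zero
          exact Nat.mul_lt_mul'' (Nat.mul_lt_mul'' this (by omega)) (by omega)
      have : K1 = K0 := SzM.subfield_eq (by
        rw [← c2]
        have a1 := S0.four_le
        have a2 := (S.sub T1).four_le
        rcases lt_trichotomy (Nat.card K1) (Nat.card K) with h | h | h
        · exact absurd c1 (mono _ _ (by omega) h).ne'
        · exact h
        · exact absurd c1 (mono _ _ (by omega) h).ne)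
      exact ⟨g, by rw [h, this, S.conj_GK]⟩
  intro S₁ S₂ h1 h2
  obtain ⟨g1, rfl⟩ := key S₁ h1
  obtain ⟨g2, rfl⟩ := key S₂ h2
  refine ⟨g2 * g1⁻¹, ?_⟩
  rw [Subgroup.map_map]
  congr 1
  ext x; simp [mul_assoc]

end Cfsg.Agent.S2239
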