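import Cfsg.Statements.S2240
import Cfsg.Agent.H7.Sz9

set_option autoImplicit false
open Cfsg

namespace Cfsg.Agent.S2240

open CfsgH7 MulAction
open scoped Pointwise symmDiff
set_option maxRecDepth 100000


/-- Elementary abelian TI-subgroups of the Suzuki group: let q = 2^(2m+1) with m ≥ 1, the group realised as the stabiliser in SL₄ of the Suzuki–Tits ovoid, and n ≥ 2. There is an elementary abelian 2-subgroup E of order 2^n that is a TI-subgroup (every conjugate of E meeting E nontrivially is E itself) if and only if n divides 2m + 1. -/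
theorem result {F : Type*} [Field F] [Fintype F] {m : ℕ} (hm : 1 ≤ m) (hF : Fintype.card F = 2 ^ (2 * m + 1)) (n : ℕ) (hn : 2 ≤ n) :
    (∃ E : Subgroup ↥(Cfsg.Sz F m), Cfsg.IsElementaryAbelian 2 E ∧ Nat.card ↥E = 2 ^ n ∧
      ∀ x : ↥(Cfsg.Sz F m), E ⊓ E.map (MulAut.conj x).toMonoidHom ≠ ⊥ → x ∈ Subgroup.normalizer (E : Set ↥(Cfsg.Sz F m))) ↔ n ∣ 2 * m + 1 := by
  haveI := SzM.charP hF
  obtain ⟨S, -⟩ := SzM.sz_model hm hF
  have cE : ∀ (S : SzS (SzM.th F m) (Cfsg.Sz F m) (Cfsg.suzukiOvoid F m)) (E : Subgroup (Cfsg.Sz F m))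
      (K : Subfield F), E ≤ S.Z → (∀ b, b ∈ K ↔ S.u 0 b ∈ E) → Nat.card E = Nat.card K := by
    intro S E K h1 h2
    refine (Nat.card_congr (Equiv.ofBijective (fun b : K => (⟨S.u 0 b, (h2 b).1 b.2⟩ : E))
      ⟨fun a b e => Subtype.ext (S.u_inj (congrArg Subtype.val e)).2, ?_⟩)).symm
    rintro ⟨x, hx⟩
    obtain ⟨b, rfl⟩ := h1 hx
    exact ⟨⟨b, (h2 b).2 hx⟩, rfl⟩
  constructor
  · rintro ⟨E, ⟨-, hE⟩, hc, hT⟩
    obtain ⟨S1, h1⟩ := S.pgroup_le (P := E) (IsPGroup.of_card hc)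
    have h2 : E ≤ S1.Z := fun x hx => S1.mem_Z_iff.2 ⟨S1.Q_le (h1 hx), hE x hx⟩
    have : E ≠ ⊥ := fun e => by
      rw [e, Subgroup.card_bot] at hc
      exact absurd hc.symm (Nat.one_lt_two_pow (by omega)).ne'
    obtain ⟨⟨z, hz⟩, z1⟩ := Subgroup.ne_bot_iff_exists_ne_one.1 this
    obtain ⟨b, rfl⟩ := h2 hz
    obtain ⟨k, hk⟩ := S1.z_conj one_ne_zero (show b ≠ 0 by rintro rfl; exact z1 (Subtype.ext S1.u_zero))
    set S2 := S1.conj (S1.h k)
    have h3 : E ≤ S2.Z := S1.Z_congr S2 (S1.h_inf k).symm ▸ h2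
    have h4 : S2.u 0 1 ∈ E := by change S1.h k * S1.u 0 1 * (S1.h k)⁻¹ ∈ E; rwa [hk]
    have act : ∀ a, a ≠ 0 → S2.u 0 a ∈ E → ∃ k : Fˣ, k * SzM.th F m k = a ∧
        S2.h k ∈ Subgroup.normalizer (E : Set (Cfsg.Sz F m)) := fun a h0 ha => by
      obtain ⟨k, hk⟩ := S2.z_conj one_ne_zero h0
      refine ⟨k, ?_, hT _ fun e => S2.z_ne h0 (Subgroup.mem_bot.1 (e ▸ ⟨ha, _, h4, hk⟩))⟩
      rw [S2.h_u] at hk
      simpa using (S2.u_inj hk).2
    let K : Subfield F :=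
      { carrier := {b | S2.u 0 b ∈ E}
        mul_mem' := fun {a b} ha hb => by
          by_cases h0 : a = 0
          · subst h0; simp [S2.u_zero]
          · obtain ⟨k, rfl, hk⟩ := act a h0 ha
            simpa [S2.h_u] using norm_conj _ hk _ hb
        one_mem' := h4
        add_mem' := fun {a b} ha hb => by simpa [S2.u_mul] using E.mul_mem ha hb
        zero_mem' := by simp [S2.u_zero]
        neg_mem' := fun {a} ha => by rwa [neg_eq_of_add_eq_zero_right (S.T.add_self a)]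
        inv_mem' := fun a ha => by
          by_cases h0 : a = 0
          · subst h0; simp [S2.u_zero]
          · obtain ⟨k, rfl, hk⟩ := act a h0 ha
            have := norm_conj _ (inv_mem hk) _ h4
            rw [← S2.h_inv, S2.h_u] at this
            simpa [mul_comm] using this }
    have e := Module.natCard_eq_pow_finrank (K := K) (V := F)
    rw [← cE S2 E K h3 fun _ => Iff.rfl, hc, Nat.card_eq_fintype_card, hF, ← pow_mul] at e
    exact ⟨_, Nat.pow_right_injective (le_refl 2) e⟩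
  · intro hd
    obtain ⟨k, rfl⟩ := (show Odd (2 * m + 1) from ⟨m, rfl⟩).of_dvd_nat hd
    obtain ⟨K, T, c⟩ := SzM.exists_sub hF (show 1 ≤ k by omega) hd
    have mK : ∀ b, b ∈ K ↔ S.u 0 b ∈ S.Z ⊓ S.GK K := fun b =>
      ⟨fun h => ⟨S.z_mem b, (S.u_GK T).2 ⟨K.zero_mem, h⟩⟩, fun h => ((S.u_GK T).1 h.2).2⟩
    refine ⟨S.Z ⊓ S.GK K, ⟨⟨⟨fun a b => Subtype.ext (S.Z_comm (S.Z_le a.2.1) b.2.1)⟩⟩,
      fun a ha => (S.mem_Z_iff.1 ha.1).2⟩, by rw [cE S _ K inf_le_left mK, c], fun x hx => ?_⟩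
    obtain ⟨⟨_, ⟨hy, _, ⟨⟨b, rfl⟩, hb⟩, rfl⟩⟩, y1⟩ := Subgroup.ne_bot_iff_exists_ne_one.1 hx
    have b0 : b ≠ 0 := by rintro rfl; exact y1 (Subtype.ext (by simp [S.u_zero]))
    obtain ⟨l, hl⟩ := S.B_act (S.ti_Q (S.u_mem 0 b) (S.z_ne b0) (S.Z_le hy.1))
    change x * _ * x⁻¹ ∈ S.Z ⊓ S.GK K at hy
    rw [hl, ← mK] at hy
    have lK : (l : F) * SzM.th F m l ∈ K := by
      simpa [b0] using K.mul_mem hy (K.inv_mem ((mK b).2 ⟨S.z_mem b, hb⟩))
    apply Subgroup.mem_normalizer_fintype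
    rintro _ ⟨⟨c, rfl⟩, hc⟩
    rw [hl, SetLike.mem_coe, ← mK]
    exact K.mul_mem lK ((mK c).2 ⟨S.z_mem c, hc⟩)

end Cfsg.Agent.S2240
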