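import Cfsg.Statements.S2255
import Cfsg.Agent.H3.Nil2

set_option autoImplicit false
open Cfsg

namespace Cfsg.Agent.S2255

open CfsgPm Subgroup

/-- Let n be a natural number not congruent to 3 modulo 4, with n ∉ {5, 6, 9}. Then every nilpotent subgroup of the alternating group on n letters has order at most the order of a Sylow 2-subgroup of the alternating group (so the nilpotent subgroups of largest order are exactly the Sylow 2-subgroups). -/
theorem result  (n : ℕ) (hn : n % 4 ≠ 3)
    (h5 : n ≠ 5) (h6 : n ≠ 6) (h9 : n ≠ 9)
    (N : Subgroup (alternatingGroup (Fin n))) (hN : Group.IsNilpotent N)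
    (P : Sylow 2 (alternatingGroup (Fin n))) :
    Nat.card N ≤ Nat.card P := by
  by_cases h : n < 2
  · haveI : Subsingleton (alternatingGroup (Fin n)) := by interval_cases n <;> exact ⟨by decide⟩
    exact (Finite.card_le_one_iff_subsingleton.2 inferInstance).trans Nat.card_pos
  haveI := Fin.nontrivial_iff_two_le.2 (not_lt.1 h)
  haveI := CfsgH1.isNilpotent_map hN (alternatingGroup _).subtype
  have e : nilH (Nat.card (Fin n)) = 2 * Nat.card P := by rw [nilH, if_neg (by simpa), card_sylA]
  rw [← card_map_of_injective (subtype_injective _)]
  obtain a | ⟨M, _, a, -, b⟩ := nil_alt (N.map (alternatingGroup _).subtype) (map_subtype_le _) (by simp; omega)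
  · omega
  have := card_le_of_le a
  have := nil_le M
  omega

end Cfsg.Agent.S2255
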