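import Cfsg.Statements.S2256
import Cfsg.Agent.H3.Nil2

set_option autoImplicit false
open Cfsg

namespace Cfsg.Agent.S2256

open CfsgPm Subgroup CfsgH2 Equiv

/-- Let n ≡ 3 (mod 4) with n ≥ 7. Then every nilpotent subgroup of the alternating group on n letters has order at most 3 times the order of a Sylow 2-subgroup of the alternating group on n − 3 letters; the bound is attained by a nilpotent subgroup isomorphic to the direct product of such a Sylow 2-subgroup with a cyclic group of order 3; and any two nilpotent subgroups of the alternating group attaining the bound are conjugate in it. -/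
theorem result  (n : ℕ) (hn : n % 4 = 3) (h7 : 7 ≤ n)
    (P : Sylow 2 (alternatingGroup (Fin (n - 3)))) :
    (∀ N : Subgroup (alternatingGroup (Fin n)), Group.IsNilpotent N → Nat.card N ≤ 3 * Nat.card P) ∧
    (∃ M : Subgroup (alternatingGroup (Fin n)), Group.IsNilpotent M ∧ Nat.card M = 3 * Nat.card P ∧
      Nonempty (M ≃* (↥(P : Subgroup (alternatingGroup (Fin (n - 3)))) × Multiplicative (ZMod 3)))) ∧
    (∀ N₁ N₂ : Subgroup (alternatingGroup (Fin n)), Group.IsNilpotent N₁ → Group.IsNilpotent N₂ →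
      Nat.card N₁ = 3 * Nat.card P → Nat.card N₂ = 3 * Nat.card P →
      ∃ g : alternatingGroup (Fin n), N₂ = N₁.map (MulAut.conj g).toMonoidHom) := by
  obtain ⟨k, rfl⟩ : ∃ k, n = k + 3 := ⟨n - 3, by omega⟩
  haveI : Nontrivial (Fin (k + 3 - 3)) := Fin.nontrivial_iff_two_le.2 (by omega)
  have h : Nat.card (Fin (k + 3)) % 4 = 3 := by simpa
  have e : nilH (Nat.card (Fin (k + 3))) = 2 * (3 * Nat.card P) := by rw [nilH, if_pos h, mul_left_comm, card_sylA]; simp
  have t : ∀ N : Subgroup (alternatingGroup (Fin (k + 3))), Group.IsNilpotent N → Nat.card N < 3 * Nat.card P ∨ Nat.card N ≤ 3 * Nat.card P ∧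
      (Nat.card N = 3 * Nat.card P → ∃ M : Subgroup (Perm (Fin (k + 3))), Group.IsNilpotent M ∧ N = M.subgroupOf _ ∧
      ¬ M ≤ alternatingGroup _ ∧ nilH (Nat.card (Fin (k + 3))) ≤ Nat.card M) := fun N hN => by
    haveI := CfsgH1.isNilpotent_map hN (alternatingGroup _).subtype
    have c := card_map_of_injective (K := N) (subtype_injective _)
    obtain a | ⟨M, m, a, o, b⟩ := nil_alt (N.map (alternatingGroup _).subtype) (map_subtype_le _) (by simp; omega)
    · left; omega
    have := card_le_of_le a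
    have := nil_le M
    refine .inr ⟨by omega, fun q => ⟨M, m, ?_, o, by omega⟩⟩
    rw [← inf_subgroupOf_right, ← eq_of_le_of_card_le a (by omega)]
    exact (comap_map_eq_self_of_injective (subtype_injective _) N).symm
  refine ⟨fun N hN => (t N hN).elim le_of_lt And.left, ?_, fun N K hN hK a b => ?_⟩
  · obtain ⟨M, a, ⟨b⟩, c⟩ := nil_ex P.2 ((alternatingGroup _).subtype.comp P.1.subtype) (Subtype.val_injective.comp Subtype.val_injective)
    have b := (subgroupOfEquivOfLe (c fun g => g.1.2)).trans b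
    exact ⟨_, CfsgH1.isNilpotent_subgroupOf a _, (Nat.card_congr b.toEquiv).trans (by rw [Nat.card_prod, mul_comm]; simp), ⟨b⟩⟩
  obtain ⟨M, _, rfl, o, c⟩ := ((t N hN).resolve_left a.not_lt).2 a
  obtain ⟨L, _, rfl, -, d⟩ := ((t K hK).resolve_left b.not_lt).2 b
  obtain ⟨g, rfl⟩ := nil_conj M L h c d
  obtain ⟨g, hg, e⟩ : ∃ x ∈ alternatingGroup _, cj x M = cj g M := by
    by_cases q : g ∈ alternatingGroup _
    · exact ⟨g, q, rfl⟩
    obtain ⟨y, hy, r⟩ := SetLike.not_le_iff_exists.1 o
    refine ⟨g * y, ?_, by rw [← cj_cj, cj_eq_of_mem hy]⟩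
    rw [Perm.mem_alternatingGroup] at q r ⊢
    rw [map_mul, (Int.units_eq_one_or _).resolve_left q, (Int.units_eq_one_or _).resolve_left r]; rfl
  exact ⟨⟨g, hg⟩, e ▸ Subgroup.ext fun x => mem_cj.trans (mem_cj (H := M.subgroupOf _) (g := ⟨g, hg⟩)).symm⟩

end Cfsg.Agent.S2256
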