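import Cfsg.Statements.S2257
import Cfsg.Agent.H1.Solz2

set_option autoImplicit false
open Cfsg

namespace Cfsg.Agent.S2257

open CfsgH1.L2

/-- Let G = PSL_2(F) with F a field of order q = 2^p, p prime, and for x ∈ G call the solubilizer of x the set of y ∈ G such that x and y generate a solvable subgroup. Then the solubilizer of an involution has 3q(q − 1) elements; that of a non-identity element of order dividing q − 1 has 2q(q − 1) elements; and that of a non-identity element of order dividing q + 1 has 2(q + 1) elements. -/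
theorem result (p : ℕ) (hp : p.Prime) {F : Type*} [Field F] [Fintype F]
    (hF : Fintype.card F = 2 ^ p) (x : Matrix.ProjectiveSpecialLinearGroup (Fin 2) F) :
    (orderOf x = 2 → Nat.card {y : Matrix.ProjectiveSpecialLinearGroup (Fin 2) F // Group.IsSolvable ↥(Subgroup.closure ({x, y} : Set (Matrix.ProjectiveSpecialLinearGroup (Fin 2) F)))} = 3 * 2 ^ p * (2 ^ p - 1)) ∧
    (x ≠ 1 → orderOf x ∣ 2 ^ p - 1 → Nat.card {y : Matrix.ProjectiveSpecialLinearGroup (Fin 2) F // Group.IsSolvable ↥(Subgroup.closure ({x, y} : Set (Matrix.ProjectiveSpecialLinearGroup (Fin 2) F)))} = 2 * 2 ^ p * (2 ^ p - 1)) ∧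
    (x ≠ 1 → orderOf x ∣ 2 ^ p + 1 → Nat.card {y : Matrix.ProjectiveSpecialLinearGroup (Fin 2) F // Group.IsSolvable ↥(Subgroup.closure ({x, y} : Set (Matrix.ProjectiveSpecialLinearGroup (Fin 2) F)))} = 2 * (2 ^ p + 1)) := by
  classical
  haveI : Fact (Nat.Prime 2) := ⟨Nat.prime_two⟩
  haveI := charP_pow Nat.prime_two hF
  have m : MS 2 F := ms_of hp hF (.inl rfl)
  have ev : Even (Fintype.card F) := hF ▸ (Nat.even_pow.2 ⟨even_two, hp.ne_zero⟩)
  have od : ∀ n, orderOf x ∣ n → ¬ 2 ∣ n → x ≠ 1 → ¬ orderOf x ∣ 2 ∧ ¬ 2 ∣ orderOf x := fun n a b c =>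
    ⟨fun k => ((Nat.dvd_prime Nat.prime_two).1 k).elim (fun e => c (orderOf_eq_one_iff.1 e)) fun e => b (e ▸ a),
      fun k => b (k.trans a)⟩
  change (_ → (Sol x).ncard = _) ∧ (_ → _ → (Sol x).ncard = _) ∧ (_ → _ → (Sol x).ncard = _)
  rw [← hF, mul_assoc, mul_assoc]
  refine ⟨fun o => ?_, fun n o => ?_, fun n o => ?_⟩
  · obtain ⟨y, hy, c⟩ := conj_unip o
    rw [sol_conj c, sol_two m (two_eq ev) hy]
  · obtain ⟨a, b⟩ := od _ o (not_dvd_q_sub 2) n
    simpa [d_even ev] using (sol_gen m n a b).1 o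
  · obtain ⟨a, b⟩ := od _ o (not_dvd_q_add 2) n
    simpa [d_even ev] using (sol_gen m n a b).2 o

end Cfsg.Agent.S2257
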