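import Cfsg.Statements.S2258
import Cfsg.Agent.H1.Solz2

set_option autoImplicit false
open Cfsg

namespace Cfsg.Agent.S2258

open CfsgH1.L2

/-- Let G = PSL_2(F) with F a field of order q = 3^p, p an odd prime, and for x ∈ G call the solubilizer of x the set of y ∈ G such that x and y generate a solvable subgroup. Then the solubilizer of an involution has q(q + 1) elements; that of an element of order 3 has q(q + 5)/2 elements; that of an element of order neither 1 nor 2 dividing q − 1 has q(q − 1) elements; and that of an element of order neither 1 nor 2 dividing q + 1 has q + 1 elements. -/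
theorem result (p : ℕ) (hp : p.Prime) (hodd : Odd p) {F : Type*} [Field F] [Fintype F]
    (hF : Fintype.card F = 3 ^ p) (x : Matrix.ProjectiveSpecialLinearGroup (Fin 2) F) :
    (orderOf x = 2 → Nat.card {y : Matrix.ProjectiveSpecialLinearGroup (Fin 2) F // Group.IsSolvable ↥(Subgroup.closure ({x, y} : Set (Matrix.ProjectiveSpecialLinearGroup (Fin 2) F)))} = 3 ^ p * (3 ^ p + 1)) ∧
    (orderOf x = 3 → 2 * Nat.card {y : Matrix.ProjectiveSpecialLinearGroup (Fin 2) F // Group.IsSolvable ↥(Subgroup.closure ({x, y} : Set (Matrix.ProjectiveSpecialLinearGroup (Fin 2) F)))} = 3 ^ p * (3 ^ p + 5)) ∧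
    (x ≠ 1 → orderOf x ≠ 2 → orderOf x ∣ 3 ^ p - 1 → Nat.card {y : Matrix.ProjectiveSpecialLinearGroup (Fin 2) F // Group.IsSolvable ↥(Subgroup.closure ({x, y} : Set (Matrix.ProjectiveSpecialLinearGroup (Fin 2) F)))} = 3 ^ p * (3 ^ p - 1)) ∧
    (x ≠ 1 → orderOf x ≠ 2 → orderOf x ∣ 3 ^ p + 1 → Nat.card {y : Matrix.ProjectiveSpecialLinearGroup (Fin 2) F // Group.IsSolvable ↥(Subgroup.closure ({x, y} : Set (Matrix.ProjectiveSpecialLinearGroup (Fin 2) F)))} = 3 ^ p + 1) := by
  classical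
  haveI : Fact (Nat.Prime 3) := ⟨Nat.prime_three⟩
  haveI := charP_pow Nat.prime_three hF
  have m : MS 3 F := ms_of hp hF (.inr ⟨rfl, hodd⟩)
  have ho : Odd (Fintype.card F) := hF ▸ Odd.pow (by decide)
  have h2 : (2 : F) ≠ 0 := two_ne' (p := 3) (by norm_num)
  have od : x ≠ 1 → orderOf x ≠ 2 → ¬ orderOf x ∣ 2 := fun c b k =>
    ((Nat.dvd_prime Nat.prime_two).1 k).elim (fun e => c (orderOf_eq_one_iff.1 e)) b
  have h4 : Fintype.card F % 4 = 3 := by
    obtain ⟨j, rfl⟩ := hodd
    rw [hF, pow_succ, pow_mul, Nat.mul_mod, Nat.pow_mod]; simp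
  change (_ → (Sol x).ncard = _) ∧ (_ → 2 * (Sol x).ncard = _) ∧ (_ → _ → _ → (Sol x).ncard = _) ∧ (_ → _ → _ → (Sol x).ncard = _)
  rw [← hF]
  refine ⟨fun o => ?_, fun o => ?_, fun n n2 o => ?_, fun n n2 o => ?_⟩
  · rw [sol_conj (isConj_invol ho o (invol_of_tr0 h2 tr_J0)), sol_inv m h4]
  · obtain ⟨y, hy, c⟩ := conj_unip o
    rw [sol_conj c, sol_three m hy]
  · have := (sol_gen m n (od n n2) fun k => not_dvd_q_sub 3 (k.trans o)).1 o
    rw [d_odd ho] at this; omega
  · have := (sol_gen m n (od n n2) fun k => not_dvd_q_add 3 (k.trans o)).2 o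
    rw [d_odd ho] at this; omega

end Cfsg.Agent.S2258
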