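import Cfsg.Statements.S2259
import Cfsg.Agent.H7.Sz11

set_option autoImplicit false
open Cfsg

namespace Cfsg.Agent.S2259

open CfsgH7 MulAction
open scoped Pointwise symmDiff
set_option maxRecDepth 100000

theorem aux {G : Type*} [Group G] {F : Type*} [Field F] [Finite F] {θ : F →+* F} {Ω : Type*}
    [MulAction G Ω] (S : SzS θ G Ω) {r : ℕ} (hr : r ^ 2 = 2 * Nat.card F) (x : G) :
    (orderOf x = 2 → (SzS.Sol Ω x).ncard = Nat.card F ^ 2 * (4 * Nat.card F - 3)) ∧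
    (orderOf x = 4 → (SzS.Sol Ω x).ncard = Nat.card F ^ 2 * (Nat.card F + 3)) ∧
    (x ≠ 1 → orderOf x ∣ Nat.card F - 1 → (SzS.Sol Ω x).ncard = 2 * Nat.card F ^ 2 * (Nat.card F - 1)) ∧
    (x ≠ 1 → orderOf x ∣ Nat.card F + r + 1 → (SzS.Sol Ω x).ncard = 4 * (Nat.card F + r + 1)) ∧
    (x ≠ 1 → orderOf x ∣ Nat.card F - r + 1 → (SzS.Sol Ω x).ncard = 4 * (Nat.card F - r + 1)) := by
  haveI := S.finG
  obtain ⟨U, V, hU, hV, cov⟩ := S.tori' hr
  obtain ⟨r1, r2, -, r3⟩ := S.r_facts hr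
  obtain ⟨c1, c2, c3⟩ := S.type_cop hr
  have two : ∀ S' : SzS θ G Ω, x ∈ S'.Q → x ≠ 1 → _ := fun S' h h1 =>
    S'.card_Sol_two hU.od hV.od cov (by rw [S'.card_H, hU.card]; omega) (by rw [S'.card_H, hV.card]; omega)
      (by rw [hU.card, hV.card]; omega) h h1
  obtain ⟨a, ha⟩ : ∃ a, Nat.card F = a + r + 2 := ⟨Nat.card F - r - 2, by omega⟩
  have cop : ∀ {a b : ℕ}, Nat.Coprime a b → orderOf x ∣ a → orderOf x ∣ b → x = 1 := fun c h1 h2 =>
    orderOf_eq_one_iff.1 (Nat.eq_one_of_dvd_coprimes c h1 h2)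
  have fp : x ≠ 1 → orderOf x ∣ Nat.card F ^ 2 + 1 → SzS.Fpf Ω x := fun h1 d => by
    rcases S.tri x with ⟨S', h⟩ | ⟨S', h⟩ | h
    · exact absurd (S'.Q_odd h (S.odd2.of_dvd_nat d)) h1
    · exact absurd (cop (c1.mul_right c2) (S'.card_H ▸ S'.H.orderOf_dvd_natCard h) (r3 ▸ d)) h1
    · exact h
  have od : ∀ {W : Subgroup _}, Od W → x ∈ cl ⊤ W → orderOf x ∣ Nat.card W := fun o h =>
    (o.cl_data h).2.1 ▸ Subgroup.orderOf_dvd_natCard _ (self_cent x)
  refine ⟨fun h => ?_, fun h => ?_, fun h1 h => ?_, fun h1 h => ?_, fun h1 h => ?_⟩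
  · obtain ⟨S', hS⟩ := S.even_elt (g := x) (by rw [h]; decide)
    rw [two S' hS (by rintro rfl; simp at h), S'.card_B,
      S'.WW_two S'.od_H (dvd_refl 2) (by rw [S'.card_norm_H, S'.card_H]) hS h,
      S'.WW_two hU.od (n := 4) (by decide) (by rw [hU.norm, hU.card]) hS h,
      S'.WW_two hV.od (n := 4) (by decide) (by rw [hV.norm, hV.card]) hS h, S'.card_H, hU.card, hV.card,
      ← mul_add, ← mul_add, ← mul_add]
    congr 1; omega
  · obtain ⟨S', hS⟩ := S.even_elt (g := x) (by rw [h]; decide)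
    rw [two S' hS (by rintro rfl; simp at h), S'.card_B,
      S'.WW_four S'.od_H (n := 0) (by decide) (by rw [S'.card_norm_H, S'.card_H]) hS h,
      S'.WW_four hU.od (n := 2) (by decide) (by rw [hU.norm, hU.card]) hS h,
      S'.WW_four hV.od (n := 2) (by decide) (by rw [hV.norm, hV.card]) hS h, hU.card, hV.card, ha]
    rw [show a + r + 2 - 1 = a + r + 1 from rfl, show a + r + 2 - r + 1 - 1 = a + 2 by omega,
      Nat.add_sub_cancel]
    ring
  · rcases S.tri x with ⟨S', hS⟩ | ⟨S', hS⟩ | hS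
    · exact absurd (S'.Q_odd hS (S.odd1.of_dvd_nat h)) h1
    · exact S'.card_Sol_H hS h1
    · rcases cov x hS with c | c
      · exact absurd (cop c1 h (hU.card ▸ od hU.od c)) h1
      · exact absurd (cop c2 h (hV.card ▸ od hV.od c)) h1
  · have hx := fp h1 (r3 ▸ h.mul_right _)
    rw [S.card_Sol_fpf hx]
    rcases cov x hx with c | c
    · rw [(hU.od.cl_data c).2.2, hU.norm]
    · exact absurd (cop c3 h (hV.card ▸ od hV.od c)) h1
  · have hx := fp h1 (r3 ▸ h.mul_left _)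
    rw [S.card_Sol_fpf hx]
    rcases cov x hx with c | c
    · exact absurd (cop c3 (hU.card ▸ od hU.od c) h) h1
    · rw [(hV.od.cl_data c).2.2, hV.norm]


/-- Let G be the Suzuki group Sz(q), q = 2^(2m+1) with 2m + 1 prime and m ≥ 1, realised inside Sp_4(F) for F the field of order q, write r = 2^(m+1) (so r² = 2q), and for x ∈ G call the solubilizer of x the set of y ∈ G such that x and y generate a solvable subgroup. Then the solubilizer of an involution has q²(4q − 3) elements; that of an element of order 4 has q²(q + 3) elements; that of a non-identity element of order dividing q − 1 has 2q²(q − 1) elements; that of a non-identity element of order dividing q + r + 1 has 4(q + r + 1) elements; and that of a non-identity element of order dividing q − r + 1 has 4(q − r + 1) elements. -/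
theorem result {F : Type*} [Field F] [Fintype F] {m : ℕ} (hm : 1 ≤ m)
    (hp : (2 * m + 1).Prime) (hF : Fintype.card F = 2 ^ (2 * m + 1)) (x : ↥(Cfsg.Lie.Sz F (2 ^ (m + 1)))) :
    (orderOf x = 2 → Nat.card {y : ↥(Cfsg.Lie.Sz F (2 ^ (m + 1))) // Group.IsSolvable ↥(Subgroup.closure ({x, y} : Set (↥(Cfsg.Lie.Sz F (2 ^ (m + 1))))))} = (2 ^ (2 * m + 1)) ^ 2 * (4 * 2 ^ (2 * m + 1) - 3)) ∧
    (orderOf x = 4 → Nat.card {y : ↥(Cfsg.Lie.Sz F (2 ^ (m + 1))) // Group.IsSolvable ↥(Subgroup.closure ({x, y} : Set (↥(Cfsg.Lie.Sz F (2 ^ (m + 1))))))} = (2 ^ (2 * m + 1)) ^ 2 * (2 ^ (2 * m + 1) + 3)) ∧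
    (x ≠ 1 → orderOf x ∣ 2 ^ (2 * m + 1) - 1 →
      Nat.card {y : ↥(Cfsg.Lie.Sz F (2 ^ (m + 1))) // Group.IsSolvable ↥(Subgroup.closure ({x, y} : Set (↥(Cfsg.Lie.Sz F (2 ^ (m + 1))))))} = 2 * (2 ^ (2 * m + 1)) ^ 2 * (2 ^ (2 * m + 1) - 1)) ∧
    (x ≠ 1 → orderOf x ∣ 2 ^ (2 * m + 1) + 2 ^ (m + 1) + 1 → Nat.card {y : ↥(Cfsg.Lie.Sz F (2 ^ (m + 1))) // Group.IsSolvable ↥(Subgroup.closure ({x, y} : Set (↥(Cfsg.Lie.Sz F (2 ^ (m + 1))))))} = 4 * (2 ^ (2 * m + 1) + 2 ^ (m + 1) + 1)) ∧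
    (x ≠ 1 → orderOf x ∣ 2 ^ (2 * m + 1) - 2 ^ (m + 1) + 1 → Nat.card {y : ↥(Cfsg.Lie.Sz F (2 ^ (m + 1))) // Group.IsSolvable ↥(Subgroup.closure ({x, y} : Set (↥(Cfsg.Lie.Sz F (2 ^ (m + 1))))))} = 4 * (2 ^ (2 * m + 1) - 2 ^ (m + 1) + 1)) := by
  haveI := SzM.charP hF
  obtain ⟨_, ⟨S⟩⟩ := SzM.lie_model hm hF
  haveI := S.finG
  have hq : Nat.card F = 2 ^ (2 * m + 1) := by rw [Nat.card_eq_fintype_card, hF]
  have hK : ∀ K : Subfield F, TwK (SzM.th F m) K → Nat.card F ≤ Nat.card K := fun K T => by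
    obtain ⟨k, hk, c, d⟩ := SzM.sub_card hF T
    rw [c, hq, (hp.eq_one_or_self_of_dvd _ d).resolve_left (by omega)]
  have e : Nat.card {y : ↥(Cfsg.Lie.Sz F (2 ^ (m + 1))) // Group.IsSolvable ↥(Subgroup.closure ({x, y} :
      Set (↥(Cfsg.Lie.Sz F (2 ^ (m + 1))))))} = (SzS.Sol (Cfsg.suzukiOvoid F m) x).ncard := by
    rw [← Nat.card_coe_set_eq]
    exact Nat.card_congr (Equiv.subtypeEquivRight fun y => S.sol_iff hK x y)
  rw [e, ← hq]
  exact aux S (SzM.hr hF) x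

end Cfsg.Agent.S2259
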