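import Cfsg.Statements.S2268
import Cfsg.Agent.H1.Basic
import Cfsg.Agent.H2.PGroup

set_option autoImplicit false
open Cfsg

namespace Cfsg.Agent.S2268

open Subgroup CfsgH1

/-- Let G be a finite group with an abelian Sylow p-subgroup P and let Q ≤ P. Then N_G(Q) = (N_G(Q) ∩ N_G(P))·C_G(Q), so that N_G(Q)/C_G(Q) is a homomorphic image of the subgroup (N_G(Q) ∩ N_G(P))/C_G(P) of N_G(P)/C_G(P); in particular the order of N_G(Q)/C_G(Q) divides the order of N_G(P)/C_G(P). -/
theorem result {G : Type*} [Group G] [Finite G] {p : ℕ} [Fact p.Prime]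
    (P : Sylow p G) (hP : IsMulCommutative (P : Subgroup G)) (Q : Subgroup G) (hQ : Q ≤ (P : Subgroup G)) :
    Subgroup.normalizer (Q : Set G) =
      (Subgroup.normalizer (Q : Set G) ⊓ Subgroup.normalizer ((P : Subgroup G) : Set G)) ⊔ Subgroup.centralizer (Q : Set G) ∧
    ((Subgroup.centralizer (Q : Set G)).subgroupOf (Subgroup.normalizer (Q : Set G))).index ∣ ((Subgroup.centralizer ((P : Subgroup G) : Set G)).subgroupOf (Subgroup.normalizer ((P : Subgroup G) : Set G))).index := by
  have h1 : (P : Subgroup G) ≤ centralizer (Q : Set G) := (le_centralizer _).trans (centralizer_le hQ)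
  have h2 : normalizer (Q : Set G) = normalizer (Q : Set G) ⊓ normalizer ((P : Subgroup G) : Set G) ⊔ centralizer (Q : Set G) := by
    refine le_antisymm (fun g hg => ?_) (sup_le inf_le_left (centralizer_le_normalizer _))
    obtain ⟨n, hn, h⟩ := (CfsgH2.IsSylowIn.of_sylow P h1).frattini (normalizer_le_normalizer_centralizer Q hg)
    exact (Subgroup.mul_mem_cancel_left _ (mem_sup_right hn)).1 (mem_sup_left ⟨mul_mem (centralizer_le_normalizer _ hn) hg, h⟩)
  refine ⟨h2, (?_ : relIndex _ _ ∣ relIndex _ _)⟩
  rw [h2, sup_comm, CfsgH2.relIndex_sup_of_normalizer (inf_le_left.trans (normalizer_le_normalizer_centralizer Q)),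
    ← relIndex_mul_relIndex (centralizer ((P : Subgroup G) : Set G)) _ _ (le_inf ((centralizer_le hQ).trans (centralizer_le_normalizer _))
      (centralizer_le_normalizer _)) inf_le_right]
  exact (relIndex_dvd_of_le_left _ (centralizer_le hQ)).mul_right _

end Cfsg.Agent.S2268
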