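import Cfsg.Statements.S2532
import Cfsg.Agent.H3.Ab1

set_option autoImplicit false
open Cfsg

namespace Cfsg.Agent.S2532

open CfsgPm Subgroup Equiv MulAction Finset
theorem sgn_via {α β : Type*} [Fintype α] [DecidableEq α] [Fintype β] [DecidableEq β] (e : Perm α) (ι : α ↪ β) : Perm.sign (e.viaEmbedding ι) = Perm.sign e := by
  unfold Perm.viaEmbedding; exact @Perm.sign_extendDomain _ _ _ _ _ _ _ _ (_) _
theorem aux {α : Type*} [Fintype α] [DecidableEq α] (H : Subgroup (Perm α)) (r : ℕ) (h : Nat.card H * (2 ^ Nat.card H * r) ≤ Nat.card α) :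
    ∃ φ : Perm (Fin r) →* Perm α, Function.Injective φ ∧ (∀ σ, Perm.sign σ = 1 → Perm.sign (φ σ) = 1) ∧ ∀ σ, ∀ g ∈ H, g * φ σ = φ σ * g := by
  classical
  haveI := Fintype.ofFinite (Subgroup H)
  have a : Nat.card α ≤ Nat.card H * Fintype.card (orbitRel.Quotient H α) := by
    rw [← osz_sum H, mul_comm, ← card_univ, ← smul_eq_mul]
    exact sum_le_card_nsmul _ _ _ fun w _ => Nat.card_le_card_of_surjective (fun g : H => ⟨g.1 w.out, (oq_ap g.2 _).trans w.out_eq⟩) fun x => by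
      obtain ⟨g, hg, e⟩ := oq_eq.1 (x.2.trans w.out_eq.symm)
      exact ⟨⟨g, hg⟩, Subtype.ext e⟩
  have b : Fintype.card (Subgroup H) ≤ 2 ^ Nat.card H := (Fintype.card_le_of_injective _ SetLike.coe_injective).trans (by simp)
  obtain ⟨S, hS⟩ := Fintype.exists_le_card_fiber_of_mul_le_card (fun w : orbitRel.Quotient H α => stabilizer H w.out) (n := r)
    ((Nat.mul_le_mul_right _ b).trans (Nat.le_of_mul_le_mul_left (h.trans a) Nat.card_pos))
  obtain ⟨e, he⟩ := Function.Embedding.exists_of_card_le_finset (α := Fin r) (by simpa using hS)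
  have s : ∀ i, stabilizer H (e i).out = S := fun i => by simpa using he ⟨i, rfl⟩
  have k : ∀ i (g h : H), g⁻¹ * h ∈ S ↔ g.1 (e i).out = h.1 (e i).out := fun i g h => by
    rw [← s i, mem_stabilizer_iff, mul_smul, inv_smul_eq_iff, eq_comm]; rfl
  let ι : Fin r × (H ⧸ S) ↪ α := ⟨fun x => x.2.liftOn' (fun g => g.1 (e x.1).out) fun g h q => (k _ _ _).1 (QuotientGroup.leftRel_apply.1 q), by
    rintro ⟨i, ⟨g⟩⟩ ⟨j, ⟨h⟩⟩ q
    obtain rfl : i = j := e.injective ((e i).out_eq.symm.trans (((oq_ap g.2 _).symm.trans ((congrArg _ q).trans (oq_ap h.2 _))).trans (e j).out_eq))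
    exact congrArg _ (QuotientGroup.eq.2 ((k i _ _).2 q))⟩
  have t : ∀ (g : H) i q, g.1 (ι (i, q)) = ι (i, g • q) := by rintro g i ⟨q⟩; rfl
  let ψ : Perm (Fin r) →* Perm (Fin r × (H ⧸ S)) := ⟨⟨fun σ => prodCongrLeft fun _ => σ, rfl⟩, fun _ _ => rfl⟩
  refine ⟨(Perm.viaEmbeddingHom ι).comp ψ, (Perm.viaEmbeddingHom_injective ι).comp fun a b h => Perm.ext fun i => congrArg (fun g : Perm (Fin r × (H ⧸ S)) => (g (i, (1 : H))).1) h,
    fun σ h => (sgn_via (ψ σ) ι).trans ((Perm.sign_prodCongrLeft fun _ => σ).trans (by simp [h])), fun σ g hg => Perm.ext fun x => ?_⟩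
  show g ((ψ σ).viaEmbedding ι x) = (ψ σ).viaEmbedding ι (g x)
  by_cases c : x ∈ Set.range ι
  · obtain ⟨⟨i, q⟩, rfl⟩ := c
    rw [t ⟨g, hg⟩, Perm.viaEmbedding_apply, Perm.viaEmbedding_apply]
    exact t ⟨g, hg⟩ _ _
  rw [Perm.viaEmbedding_apply_of_notMem _ _ _ c, Perm.viaEmbedding_apply_of_notMem]
  rintro ⟨⟨i, q⟩, h⟩
  exact c ⟨_, (t ⟨g, hg⟩⁻¹ i q).symm.trans (by simp [h])⟩

/-- There is a function `f` of two natural-number arguments such that, whenever `m ≥ f(n, r)`, every subgroup of order `n` of the alternating group of degree `m` centralizes some subgroup of that alternating group isomorphic to the alternating group of degree `r`. -/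
theorem result :
    ∃ f : ℕ → ℕ → ℕ, ∀ (m r : ℕ) (H : Subgroup ↥(alternatingGroup (Fin m))), f (Nat.card H) r ≤ m →
      ∃ K : Subgroup ↥(alternatingGroup (Fin m)), Nonempty (↥K ≃* ↥(alternatingGroup (Fin r))) ∧
        K ≤ Subgroup.centralizer (H : Set ↥(alternatingGroup (Fin m))) := by
  refine ⟨fun n r => n * (2 ^ n * r), fun m r H h => ?_⟩
  obtain ⟨φ, a, b, c⟩ := aux (H.map (alternatingGroup _).subtype) r (by rwa [card_map_of_injective (subtype_injective _), Nat.card_fin])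
  let ψ := (φ.comp (alternatingGroup _).subtype).codRestrict (alternatingGroup _) fun σ => b _ σ.2
  refine ⟨ψ.range, ⟨(MonoidHom.ofInjective fun x y h => Subtype.ext (a (congrArg Subtype.val h))).symm⟩, ?_⟩
  rintro _ ⟨σ, rfl⟩ g hg
  exact Subtype.ext (c _ _ ⟨g, hg, rfl⟩)

end Cfsg.Agent.S2532
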