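import Cfsg.Statements.S2269
import Cfsg.Agent.S2532
import Cfsg.Agent.H2.SylowIn

set_option autoImplicit false
open Cfsg

namespace Cfsg.Agent.S2269

open Subgroup Equiv CfsgH2
theorem d8 {n : ℕ} (hn : 6 ≤ n) : ∃ a b : alternatingGroup (Fin n), a ^ 2 ^ 2 = 1 ∧ b ^ 2 ^ 1 = 1 ∧ b * a * b⁻¹ = a⁻¹ ∧ a * b ≠ b * a := by
  let φ := ((Perm.viaEmbeddingHom (Fin.castLEEmb hn)).comp (alternatingGroup _).subtype).codRestrict (alternatingGroup _) fun σ => (S2532.sgn_via _ _).trans σ.2
  have i : Function.Injective φ := fun x y h => Subtype.ext (Perm.viaEmbeddingHom_injective _ (congrArg Subtype.val h))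
  obtain ⟨a, b, h⟩ : ∃ a b : alternatingGroup (Fin 6), a ^ 2 ^ 2 = 1 ∧ b ^ 2 ^ 1 = 1 ∧ b * a * b⁻¹ = a⁻¹ ∧ a * b ≠ b * a :=
    ⟨⟨swap 0 1 * swap 1 2 * swap 2 3 * swap 4 5, Perm.mem_alternatingGroup.2 (by decide)⟩, ⟨swap 0 2 * swap 4 5, Perm.mem_alternatingGroup.2 (by decide)⟩, by decide⟩
  exact ⟨φ a, φ b, by simpa only [← map_pow, ← map_mul, ← map_inv, ← map_one φ, i.eq_iff, Ne] using h⟩

/-- Let n ≥ 5 and let P be an abelian Sylow p-subgroup of the alternating group A_n. Then N(P)/C(P) (taken in A_n) has even order, or P is cyclic, except when n = 5 and p = 2, where P is a four-group and N(P)/C(P) has order 3. -/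
theorem result (n : ℕ) (hn : 5 ≤ n) {p : ℕ} [Fact p.Prime]
    (P : Sylow p (alternatingGroup (Fin n))) (hP : IsMulCommutative (P : Subgroup (alternatingGroup (Fin n)))) :
    (¬ (n = 5 ∧ p = 2) → 2 ∣ ((Subgroup.centralizer ((P : Subgroup (alternatingGroup (Fin n))) : Set (alternatingGroup (Fin n)))).subgroupOf (Subgroup.normalizer ((P : Subgroup (alternatingGroup (Fin n))) : Set (alternatingGroup (Fin n))))).index ∨ IsCyclic (P : Subgroup (alternatingGroup (Fin n)))) ∧
    ((n = 5 ∧ p = 2) → ((Subgroup.centralizer ((P : Subgroup (alternatingGroup (Fin n))) : Set (alternatingGroup (Fin n)))).subgroupOf (Subgroup.normalizer ((P : Subgroup (alternatingGroup (Fin n))) : Set (alternatingGroup (Fin n))))).index = 3 ∧ IsKleinFour (P : Subgroup (alternatingGroup (Fin n)))) := by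
  have hp : p.Prime := Fact.out
  haveI : Nontrivial (Fin n) := Fin.nontrivial_iff_two_le.2 (by omega)
  refine ⟨fun h => ?_, ?_⟩
  · by_cases p2 : p = 2
    · subst p2
      obtain ⟨a, b, ha, hb, c, e⟩ := d8 (n := n) (by omega)
      have z : ∀ (x : alternatingGroup (Fin n)) k, x ^ 2 ^ k = 1 → IsPGroup 2 (zpowers x) := fun x k h => by
        obtain ⟨j, -, hj⟩ := (Nat.dvd_prime_pow hp).1 (orderOf_dvd_of_pow_eq_one h)
        exact isPGroup_zpowers_of_orderOf hj
      obtain ⟨g, hg⟩ := exists_cj_le_sylow P ((z a _ ha).to_sup_of_normal_left' (z b _ hb)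
        (zpowers_le.2 (cj_eq_iff_mem_normalizer.1 (by rw [cj_zpowers, c, zpowers_inv]))))
      have := setLike_mul_comm (hg (conj_mem_cj g (mem_sup_left (mem_zpowers a)))) (hg (conj_mem_cj g (mem_sup_right (mem_zpowers b))))
      exact (e ((MulAut.conj g).injective (by simpa only [map_mul, MulAut.conj_apply] using this))).elim
    have p3 := hp.two_le.lt_of_ne' p2
    by_cases l : n < p + 2
    · obtain ⟨k, hk⟩ := IsPGroup.iff_card.1 P.2
      have d := (card_subgroup_dvd_card P.1).trans (card_subgroup_dvd_card _)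
      rw [hk, Nat.card_perm, Nat.card_fin, hp.pow_dvd_factorial_iff (b := 2) (Nat.log_lt_of_lt_pow (by omega) (by nlinarith))] at d
      have : k < 2 := d.trans_lt (by simpa using Nat.div_lt_of_lt_mul (show n < p * 2 by omega))
      exact .inr (isCyclic_of_card_dvd_prime (p := p) (hk ▸ (pow_dvd_pow p (by omega : k ≤ 1)).trans (pow_one p).dvd))
    obtain ⟨c, e⟩ := (Perm.exists_with_cycleType_iff (Fin n) (m := {p})).2 ⟨by simp; omega, by simp; omega⟩
    have o := hp.odd_of_ne_two p2
    let x : alternatingGroup (Fin n) := ⟨c, by rw [Perm.mem_alternatingGroup, Perm.sign_of_cycleType, e]; exact Even.neg_one_pow (by simpa using o.add_one)⟩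
    have ox : orderOf x = p ^ 1 := by rw [orderOf_mk, ← Perm.lcm_cycleType, e]; simp
    obtain ⟨g, hg⟩ := exists_conj_mem_sylow P ox
    have cx := alternatingGroup.isConj_of (σ := x⁻¹) (τ := x) (Perm.isConj_of_cycleType_eq (Perm.cycleType_inv _)) (by
      rw [← Perm.sum_cycleType, coe_inv, Perm.cycleType_inv, e]; simp; omega)
    rw [← orderOf_conj' g] at ox
    have cy : IsConj (g * x * g⁻¹)⁻¹ (g * x * g⁻¹) := (MulAut.conj g).toMonoidHom.map_isConj cx
    generalize g * x * g⁻¹ = y at *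
    obtain ⟨t, ht⟩ := isConj_iff.1 cy
    have ht : t⁻¹ * y * t = y⁻¹ := by rw [← mul_left_cancel_iff (a := t), ← mul_right_cancel_iff (a := t⁻¹), ht]; group
    obtain ⟨u, hu, e⟩ := P.conj_eq_normalizer_conj_of_mem y t hg (ht ▸ inv_mem hg)
    refine .inl (by_contra fun q => ?_)
    obtain ⟨k, hk⟩ := Nat.not_even_iff_odd.1 (mt even_iff_two_dvd.1 q)
    have a := (pow_index_mem ((centralizer (P.1 : Set _)).subgroupOf (normalizer P.1)) ⟨u, hu⟩) y hg
    have b : Commute y (u ^ 2) := by
      have : y * u = u * y⁻¹ := by rw [← ht, e]; group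
      rw [Commute, SemiconjBy, sq, ← mul_assoc, this, mul_assoc, mul_assoc, mul_right_inj, inv_mul_eq_iff_eq_mul, ← mul_assoc, this, inv_mul_cancel_right]
    rw [hk, coe_subtype, SubgroupClass.coe_pow, pow_succ, pow_mul, ← mul_assoc, (b.pow_right k).eq, mul_assoc, mul_assoc, mul_right_inj] at a
    rw [ht, mul_assoc, show y * u = u * y from a, inv_mul_cancel_left, inv_eq_iff_mul_eq_one, ← sq, ← orderOf_dvd_iff_pow_eq_one, ox, pow_one] at e
    have := Nat.le_of_dvd two_pos e
    omega
  rintro ⟨rfl, rfl⟩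
  have c : Nat.card (alternatingGroup (Fin 5)) = 60 := by rw [nat_card_alternatingGroup, Nat.card_fin]; rfl
  have c4 : Nat.card P = 4 := by rw [P.card_eq_multiplicity, c, Nat.factorization_def _ hp]; decide +kernel
  have i := P.1.card_mul_index
  refine ⟨((Nat.dvd_prime Nat.prime_three).1 (Nat.dvd_gcd (m := 15) (n := 24) ?_ ?_)).resolve_left fun q => ?_, c4, ?_⟩
  · exact (relIndex_dvd_index_of_le (centralizer_le_normalizer _)).trans ((index_dvd_of_le P.1.le_centralizer).trans (by rw [c, c4] at i; exact dvd_of_eq (by omega)))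
  · rw [← normalizerMonoidHom_ker, index_ker, show 24 = Nat.card (Perm P.1) by rw [Nat.card_perm, c4]; rfl]
    exact (card_subgroup_dvd_card _).trans (card_dvd_of_injective (MulAction.toPermHom _ _) MulAction.toPerm_injective)
  · have k := (MonoidHom.ker_transferSylow_isComplement' P (relIndex_eq_one.1 q)).card_mul
    obtain e | e := (MonoidHom.normal_ker (MonoidHom.transferSylow P (relIndex_eq_one.1 q))).eq_bot_or_eq_top <;> rw [e, c, c4] at k
    exacts [by simp at k, by rw [card_top, c] at k; omega]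
  haveI := Finite.one_lt_card_iff_nontrivial.1 (c4 ▸ by decide : 1 < Nat.card P)
  refine (Monoid.exponent_eq_prime_iff hp).2 fun g hg => orderOf_eq_prime (Subtype.ext (Subtype.ext ?_)) hg
  have : ∀ g : Perm (Fin 5), Perm.sign g = 1 → g ^ 4 = 1 → g ^ 2 = 1 := by decide +kernel
  exact this _ g.1.2 (congrArg (·.1.1) (c4 ▸ pow_card_eq_one' : g ^ 4 = 1))

end Cfsg.Agent.S2269
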