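import Cfsg.Statements.S2270

set_option autoImplicit false
open Cfsg

namespace Cfsg.Agent.S2270

open Subgroup Equiv.Perm

/-- Let n ≥ 3, p an odd prime, and P an abelian Sylow p-subgroup of the symmetric group S_n (with p dividing n!, so that P ≠ 1). Then N(P)/C(P) has even order. -/
theorem result (n : ℕ) (hn : 3 ≤ n) {p : ℕ} [Fact p.Prime] (hp : p ≠ 2) (hpn : p ≤ n)
    (P : Sylow p (Equiv.Perm (Fin n))) (hP : IsMulCommutative (P : Subgroup (Equiv.Perm (Fin n)))) :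
    2 ∣ ((Subgroup.centralizer ((P : Subgroup (Equiv.Perm (Fin n))) : Set (Equiv.Perm (Fin n)))).subgroupOf (Subgroup.normalizer ((P : Subgroup (Equiv.Perm (Fin n))) : Set (Equiv.Perm (Fin n))))).index := by
  obtain ⟨⟨x, hx⟩, h1⟩ := ne_bot_iff_exists_ne_one.1 (P.ne_bot_of_dvd_card (by
    rw [Nat.card_perm]; simpa using (Fact.out : p.Prime).dvd_factorial.2 hpn))
  obtain ⟨g, hg⟩ := isConj_iff.1 (isConj_iff_cycleType_eq.2 (cycleType_inv x)).symm
  obtain ⟨u, hu, e⟩ := P.conj_eq_normalizer_conj_of_mem x g⁻¹ hx (by rw [inv_inv, hg]; exact P.1.inv_mem hx)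
  rw [inv_inv, hg] at e
  by_contra h
  obtain ⟨k, hk⟩ := Nat.odd_iff.2 (Nat.two_dvd_ne_zero.1 h)
  have h2 := pow_index_mem ((centralizer (P : Set (Equiv.Perm (Fin n)))).subgroupOf (normalizer (P : Set (Equiv.Perm (Fin n))))) ⟨u, hu⟩
  have h3 : Commute x (u ^ (2 * k + 1)) := hk ▸ (mem_subgroupOf.1 h2 x hx :)
  have h4 : SemiconjBy u x⁻¹ x := by rw [e, SemiconjBy]; group
  have h5 : Commute (u ^ 2) x := pow_two u ▸ h4.mul_left (by simpa using h4.inv_right : SemiconjBy u x x⁻¹)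
  have h6 : Commute u x := by simpa [pow_succ, pow_mul] using (h5.pow_left k).inv_left.mul_left h3.symm
  have h7 : x ^ 2 = 1 := by rw [pow_two, ← eq_inv_iff_mul_eq_one, e, mul_assoc, ← h6.eq]; simp
  obtain ⟨m, hm⟩ := P.isPGroup' ⟨x, hx⟩
  exact h1 (orderOf_eq_one_iff.1 (Nat.eq_one_of_dvd_coprimes (((Nat.coprime_primes Nat.prime_two Fact.out).2 hp.symm).pow_right m)
    (orderOf_dvd_of_pow_eq_one (Subtype.ext h7)) (orderOf_dvd_of_pow_eq_one hm)))

end Cfsg.Agent.S2270
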