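import Cfsg.Statements.S2271

set_option autoImplicit false
open Cfsg

namespace Cfsg.Agent.S2271

open Subgroup Equiv Equiv.Perm Finset MulAction Function
variable {Ω : Type*} [Fintype Ω] [DecidableEq Ω]

theorem cnt (h : 4 ≤ Fintype.card Ω) : ∃ v, 0 < v ∧ ∀ z w x y : Ω, z ≠ w → x ≠ y → #{g : alternatingGroup Ω | g.1 z = x ∧ g.1 w = y} = v := by
  haveI := alternatingGroup.isMultiplyPretransitive Ω
  have t := @is_two_pretransitive_iff.1 (isMultiplyPretransitive_of_le (G := alternatingGroup Ω) (α := Ω) (n := Nat.card Ω - 2)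
    (by rw [Nat.card_eq_fintype_card]; omega) (by omega))
  obtain ⟨p, q, n⟩ := Fintype.exists_pair_of_one_lt_card (α := Ω) (by omega)
  refine ⟨#{g : alternatingGroup Ω | g.1 p = p ∧ g.1 q = q}, card_pos.2 ⟨1, by simp⟩, fun z w x y a b => ?_⟩
  obtain ⟨h, rfl, rfl⟩ := t n a
  obtain ⟨k, rfl, rfl⟩ := t n b
  exact card_equiv ((Equiv.mulLeft k⁻¹).trans (Equiv.mulRight h)) fun g => by simp [Subgroup.smul_def, symm_apply_eq]

theorem avg (h : 4 ≤ Fintype.card Ω) (a b : Perm Ω) {c : ℕ} (e : ∀ g : alternatingGroup Ω, #{z | a (g.1 (b z)) = g.1 z} = c) :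
    Fintype.card Ω * ((Fintype.card Ω - 1) * c) = #b.supportᶜ * (#a.supportᶜ * (Fintype.card Ω - 1)) + #b.support * #a.support := by
  obtain ⟨v, v0, hv⟩ := cnt h
  have u : ∀ z x, #{g : alternatingGroup Ω | g.1 z = x} = (Fintype.card Ω - 1) * v := fun z x => by
    obtain ⟨w, n⟩ := Fintype.exists_ne_of_one_lt_card (by omega) z
    rw [card_eq_sum_card_fiberwise (f := fun g => g.1 w) (t := univ.erase x) fun g hg => by simp at hg; simp [← hg, n], sum_const_nat fun y hy => by
      rw [filter_filter]; exact hv _ _ _ _ n.symm (ne_of_mem_erase hy).symm, card_erase_of_mem (mem_univ _), card_univ]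
  obtain ⟨z⟩ : Nonempty Ω := Fintype.card_pos_iff.1 (by omega)
  have t : ∑ g : alternatingGroup Ω, #{z | a (g.1 (b z)) = g.1 z} = ∑ z, #{g : alternatingGroup Ω | a (g.1 (b z)) = g.1 z} := by
    simp only [card_eq_sum_ones, sum_filter]; exact sum_comm
  rw [sum_const_nat fun g _ => e g, card_eq_sum_card_fiberwise (f := fun g => g.1 z) (t := univ) (by simp), sum_const_nat fun x _ => u z x, ← sum_compl_add_sum b.support,
    sum_const_nat (m := #a.supportᶜ * ((Fintype.card Ω - 1) * v)) fun z hz => ?_, sum_const_nat (m := #a.support * v) fun z hz => ?_, card_univ] at t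
  · exact Nat.eq_of_mul_eq_mul_right v0 (by linarith)
  · rw [card_eq_sum_card_fiberwise (f := fun g => g.1 (b z)) (t := a.support) fun g hg => by simp at hg hz; simp [hg, Ne.symm hz], sum_const_nat fun y hy => ?_]
    rw [← hv z (b z) (a y) y (Ne.symm (mem_support.1 hz)) (mem_support.1 hy), filter_filter]
    exact congrArg _ (filter_congr fun g _ => and_congr_left fun e => by rw [e, eq_comm])
  · simp only [mem_compl, Perm.notMem_support] at hz
    rw [card_eq_sum_card_fiberwise (f := fun g => g.1 z) (t := a.supportᶜ) fun g hg => by simpa [hz] using hg, sum_const_nat fun y hy => ?_]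
    rw [← u z y, filter_filter]
    exact congrArg _ (filter_congr fun g _ => and_iff_right_of_imp fun e => by simpa [hz, e] using hy)

theorem par {Q : Perm Ω → Prop} {g k : Perm Ω} (h : Q g) (s : sign k = -1) (e : Q (g * k)) : ∃ g : alternatingGroup Ω, Q g.1 :=
  (Int.units_eq_one_or (sign g)).elim (fun s => ⟨⟨g, s⟩, h⟩) fun t => ⟨⟨_, by simp [s, t]⟩, e⟩

theorem cfg (h5 : 5 ≤ Fintype.card Ω) {a b : Perm Ω} (hb : b ≠ 1) (h : #b.support ≤ #a.support) : ∃ g : alternatingGroup Ω, #a.supportᶜ < #{z | a (g.1 (b z)) = g.1 z} := by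
  obtain ⟨z, hz⟩ : ∃ z, b z ≠ z := by simpa [Perm.ext_iff] using hb
  obtain ⟨T, hT, e⟩ := exists_subset_card_eq h
  obtain ⟨σ, rfl⟩ := exists_map_finset_eq b.support T e.symm
  have s : ∀ x, b x ≠ x → a (σ x) ≠ σ x := fun x hx => mem_support.1 (hT (mem_map_of_mem _ (mem_support.2 hx)))
  have s1 := s z hz
  have s2 := s (b z) (by simpa)
  obtain ⟨u, hu, v, hv, n, k⟩ := exists_ne_map_eq_of_card_lt_of_maps_to (s := (univ.erase z).erase (b z)) (t := univ) (f := fun x => decide (b x = x))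
    (by simp; grind [pred_card_le_card_erase, card_univ]) fun _ _ => mem_univ _
  simp only [mem_erase, mem_univ, and_true, decide_eq_decide] at hu hv k
  obtain ⟨g, g1, g2⟩ : ∃ g : Perm Ω, a (g (b z)) = g z ∧ ∀ x, a (g x) = g x → b x = x := ⟨swap (a (σ (b z))) (σ z) * σ,
    by simp [swap_apply_of_ne_of_ne s2.symm (σ.injective.ne hz)], fun x => by
      rw [Perm.mul_apply, swap_apply_def]; split_ifs
      exacts [fun e => (s1 e).elim, fun e => (s2 (a.injective e)).elim, not_imp_not.1 (s x)]⟩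
  obtain ⟨g, g1, g2⟩ := par (Q := fun g => a (g (b z)) = g z ∧ ∀ x, a (g x) = g x → b x = x) ⟨g1, g2⟩ (sign_swap n)
    ⟨by simp [swap_apply_of_ne_of_ne, Ne.symm, *], fun x e => by have := g2 _ e; rw [swap_apply_def] at this; grind⟩
  refine ⟨g, (card_map g.1.symm.toEmbedding).ge.trans_lt (card_lt_card ⟨fun x hx => ?_, fun r => hz (g2 z (by simpa using r (show z ∈ _ by simpa)))⟩)⟩
  simp at hx
  simp [g2 x hx, hx]

theorem four {c : Perm Ω} (h : 4 ≤ #c.support) : ∃ u v, Injective ![u, c u, v, c v] := by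
  obtain ⟨u, hu⟩ := card_pos.1 (show 0 < #c.support by omega)
  obtain ⟨v, hv⟩ := card_pos.1 (show 0 < #(((c.support.erase u).erase (c u)).erase (c⁻¹ u)) by grind [pred_card_le_card_erase])
  simp only [mem_erase, Perm.mem_support, Ne, eq_inv_iff_eq] at hu hv
  refine ⟨u, v, fun i j => ?_⟩
  fin_cases i <;> fin_cases j <;> simp <;> grind

theorem five : ∀ b : Perm (Fin 5), #b.support = 4 → ∃ k, sign k = -1 ∧ k * b = b * k := by decide +kernel

theorem key {n : ℕ} (hn : 5 ≤ n) {a b : Perm (Fin n)} (hb : b ≠ 1) (h : #b.support ≤ #a.support) {c : ℕ} : ¬ ∀ g : alternatingGroup (Fin n), #{z | a (g.1 (b z)) = g.1 z} = c := fun e => by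
  have t := avg (by simp; omega) a b e
  obtain ⟨g, hg⟩ := cfg (by simpa) hb h
  have x := card_add_card_compl a.support
  have y := card_add_card_compl b.support
  have := two_le_card_support_of_ne_one hb
  rw [e] at hg
  obtain ⟨m, rfl⟩ : ∃ m, n = m + 1 := ⟨n - 1, by omega⟩
  rw [Fintype.card_fin] at t x y
  have t : m * c + #a.supportᶜ + #b.supportᶜ = #a.supportᶜ * #b.supportᶜ + (m + 1) := Nat.eq_of_mul_eq_mul_left m.succ_pos (by
    simp only [Nat.add_sub_cancel] at t; nlinarith)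
  have a0 : #a.supportᶜ = 0 := by nlinarith
  have c1 : c = 1 := by nlinarith
  have b1 : #b.supportᶜ = 1 := by rw [a0, c1] at t; omega
  obtain ⟨u, v, i⟩ := four (c := b) (by omega)
  obtain ⟨p, q, j⟩ := four (c := a⁻¹) (by rw [Perm.support_inv]; omega)
  obtain ⟨σ, s⟩ := exists_extending_pair _ _ i j
  have r : ∀ z ∈ ({u, v} : Finset _), a (σ (b z)) = σ z := by
    have := s 0; have := s 1; have := s 2; have := s 3
    simp_all
  have n : u ≠ v := i.ne (a₁ := 0) (a₂ := 2) (by decide)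
  obtain ⟨k, k1, k2⟩ : ∃ k, sign k = -1 ∧ ∀ z ∈ ({u, v} : Finset _), k (b (k.symm z)) = b z := by
    obtain rfl | h6 : m = 4 ∨ 4 < m := by omega
    · exact (five b (by omega)).imp fun k h => ⟨h.1, fun z _ => by rw [← Perm.mul_apply, h.2]; simp⟩
    obtain ⟨x, hx, y, hy, n⟩ := one_lt_card.1 (show 1 < #(({u, b u, v, b v} : Finset _)ᶜ) by have := card_le_four (a := u) (b := b u) (c := v) (d := b v); rw [card_compl, Fintype.card_fin]; omega)
    exact ⟨_, sign_swap n, by simp at hx hy; simp [swap_apply_of_ne_of_ne, Ne.symm, *]⟩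
  obtain ⟨g, hg⟩ := par (Q := fun g => 1 < #{z | a (g (b z)) = g z}) (g := σ) (one_lt_card.2 ⟨u, by simp [r], v, by simp [r], n⟩) k1
    (one_lt_card.2 ⟨k.symm u, mem_filter.2 (by simp [r, k2]), k.symm v, mem_filter.2 (by simp [r, k2]), by simpa⟩)
  simp [e, c1] at hg

/-- Let n ≥ 5 and let a, b be non-identity permutations in the symmetric group S_n. Then the number of fixed points is not constant on the set of products a′b′ with a′ conjugate to a and b′ conjugate to b under the alternating group: there are even permutations g₁, h₁, g₂, h₂ such that (g₁ a g₁⁻¹)(h₁ b h₁⁻¹) and (g₂ a g₂⁻¹)(h₂ b h₂⁻¹) have different numbers of fixed points. -/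
theorem result (n : ℕ) (hn : 5 ≤ n) (a b : Equiv.Perm (Fin n)) (ha : a ≠ 1) (hb : b ≠ 1) :
    ∃ g₁ h₁ g₂ h₂ : Equiv.Perm (Fin n), g₁ ∈ alternatingGroup (Fin n) ∧ h₁ ∈ alternatingGroup (Fin n) ∧ g₂ ∈ alternatingGroup (Fin n) ∧ h₂ ∈ alternatingGroup (Fin n) ∧
      Nat.card (Function.fixedPoints ⇑(g₁ * a * g₁⁻¹ * (h₁ * b * h₁⁻¹))) ≠
        Nat.card (Function.fixedPoints ⇑(g₂ * a * g₂⁻¹ * (h₂ * b * h₂⁻¹))) := by
  have f : ∀ x y : Perm (Fin n), Nat.card (fixedPoints ⇑(x * y)) = Nat.card (fixedPoints ⇑(y * x)) := fun x y =>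
    Nat.card_congr (y.subtypeEquiv fun z => by simp [IsFixedPt])
  wlog h : #b.support ≤ #a.support generalizing a b
  · obtain ⟨g, h, k, l, x, y, z, w, e⟩ := this b a hb ha (by omega)
    exact ⟨h, g, l, k, y, x, w, z, by rwa [f, f (l * _ * _)]⟩
  by_contra! q
  refine key hn hb h fun g => (?_ : _ = _).trans (q 1 g 1 1 (one_mem _) g.2 (one_mem _) (one_mem _))
  rw [← Fintype.card_subtype, ← Nat.card_eq_fintype_card]
  exact Nat.card_congr (g.1.subtypeEquiv fun z => by simp [IsFixedPt])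

end Cfsg.Agent.S2271
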