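import Cfsg.Statements.S2272
import Cfsg.Agent.H2.PGroup

set_option autoImplicit false
open Cfsg

namespace Cfsg.Agent.S2272
open Subgroup CfsgH2
open scoped commutatorElement

open Matrix

variable {F : Type*} [Field F] {n : ℕ}
abbrev SL (n : ℕ) (F : Type*) [Field F] := Matrix.SpecialLinearGroup (Fin n) F
abbrev tv {k i : Fin n} (h : k ≠ i) (c : F) : SL n F := Matrix.SpecialLinearGroup.transvection h c

theorem tri (X Y : Matrix (Fin n) (Fin n) F) (k i a b : Fin n) : (X * single k i (1 : F) * Y) a b = X a k * Y i b := by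
  simp [Matrix.mul_apply, Matrix.single, ite_and, Finset.sum_ite_eq]

theorem cjE (A : SL n F) {k i : Fin n} (h : k ≠ i) (c : F) : (tv h c * A * (tv h c)⁻¹).1 =
    A.1 + c • (1 * single k i (1 : F) * A.1) - c • (A.1 * single k i (1 : F) * 1) -
      (c * c * A.1 i k) • (1 * single k i (1 : F) * 1) := by
  rw [Matrix.SpecialLinearGroup.transvection_inv]
  show (1 + single k i c) * A.1 * (1 + single k i (-c)) = _
  have e : ∀ d : F, single k i d = d • single k i (1 : F) := fun d => by rw [smul_single, smul_eq_mul, mul_one]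
  have e2 : single k i (1 : F) * A.1 * single k i (1 : F) = A.1 i k • single k i (1 : F) := by
    rw [single_mul_mul_single, ← e]; simp
  rw [e c, e (-c)]
  simp only [Matrix.add_mul, Matrix.mul_add, Matrix.one_mul, Matrix.mul_one, smul_mul_assoc, mul_smul_comm, e2]
  module

theorem cjE' (A : SL n F) {k i : Fin n} (h : k ≠ i) (c : F) (a b : Fin n) : (tv h c * A * (tv h c)⁻¹).1 a b =
    A.1 a b + c * ((if a = k then 1 else 0) * A.1 i b) - c * (A.1 a k * if i = b then 1 else 0) -
      c * c * A.1 i k * ((if a = k then 1 else 0) * if i = b then 1 else 0) := by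
  rw [cjE]
  simp only [Matrix.sub_apply, Matrix.add_apply, Matrix.smul_apply, tri, smul_eq_mul, one_apply]

theorem cj (A g : SL n F) : IsConj A (g * A * g⁻¹) := isConj_iff.2 ⟨g, rfl⟩

def Z (A : SL n F) (i j : Fin n) : Prop := ∀ M, IsConj A M → M.1 i j = 0

theorem Z.col {A : SL n F} {i j k : Fin n} (h : Z A i j) (hij : i ≠ j) (hk : i ≠ k) : Z A i k := fun M hM => by
  by_cases e : k = j
  · exact e ▸ h M hM
  have := h _ (hM.trans (cj M (tv e 1)))
  rw [cjE', h M hM] at this
  simpa [hk] using this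

theorem Z.row {A : SL n F} {i j l : Fin n} (h : Z A i j) (hij : i ≠ j) (hl : l ≠ j) : Z A l j := fun M hM => by
  by_cases e : i = l
  · exact e ▸ h M hM
  have := h _ (hM.trans (cj M (tv e 1)))
  rw [cjE', h M hM] at this
  simpa [hl] using this

theorem third (hn : 3 ≤ n) (i j : Fin n) : ∃ m, m ≠ i ∧ m ≠ j := by
  by_contra k
  have : (Finset.univ : Finset (Fin n)) ⊆ {i, j} := fun m _ => by
    by_contra h
    exact k ⟨m, by simpa using h⟩
  have := (Finset.card_le_card this).trans Finset.card_le_two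
  simp at this; omega

theorem Z.cen (hn : 3 ≤ n) {A : SL n F} {i j : Fin n} (h : Z A i j) (hij : i ≠ j) : A ∈ Subgroup.center (SL n F) := by
  have all : ∀ l k, l ≠ k → Z A l k := fun l k e => by
    by_cases a : i = k
    · subst a
      by_cases b : l = j
      · subst b
        obtain ⟨m, m1, m2⟩ := third hn i l
        exact ((h.col hij m1.symm).row m1.symm m2.symm).col m2.symm e
      · exact (h.row hij b).col b e
    · exact (h.col hij a).row a e
  have dg : ∀ l k, A.1 l l = A.1 k k := fun l k => by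
    by_cases e : l = k
    · rw [e]
    have := all l k e _ (cj A (tv e 1))
    rw [cjE', all l k e A (IsConj.refl A), all k l (Ne.symm e) A (IsConj.refl A)] at this
    simp at this
    linear_combination -this
  have e : A.1 = A.1 i i • 1 := by
    ext a b
    by_cases e : a = b
    · simp [e, dg b i]
    · simp [e, all a b e A (IsConj.refl A)]
  refine Subgroup.mem_center_iff.2 fun g => Subtype.ext ?_
  show g.1 * A.1 = A.1 * g.1
  rw [e]; simp

theorem st1 {A B : SL n F} {P : Prop} (H : ∀ A', IsConj A A' → ((A'.1 * B.1).trace = 0 ↔ P)) {i j : Fin n} (hij : i ≠ j)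
    (h : B.1 i j = 0) {M : SL n F} (hM : IsConj A M) : (M.1 * B.1) i j = (B.1 * M.1) i j := by
  have k : ∀ c : F, ((tv hij.symm c * M * (tv hij.symm c)⁻¹).1 * B.1).trace =
      (M.1 * B.1).trace + c * ((M.1 * B.1) i j - (B.1 * M.1) i j) := fun c => by
    rw [cjE]
    simp only [Matrix.sub_mul, Matrix.add_mul, smul_mul_assoc, trace_sub, trace_add, trace_smul, Matrix.one_mul,
      Matrix.mul_one, smul_eq_mul]
    rw [trace_mul_cycle M.1, trace_mul_comm (B.1 * M.1), Matrix.mul_assoc, trace_single_mul, trace_single_mul,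
      trace_single_mul, h]
    simp; ring
  by_contra L
  have L := sub_ne_zero.2 L
  by_cases t : (M.1 * B.1).trace = 0
  · have := (H _ (hM.trans (cj M (tv hij.symm 1)))).2 ((H M hM).1 t)
    rw [k, t, zero_add, one_mul] at this
    exact L this
  · refine t ((H M hM).2 ((H _ (hM.trans (cj M (tv hij.symm
      (-(M.1 * B.1).trace / ((M.1 * B.1) i j - (B.1 * M.1) i j)))))).1 ?_))
    rw [k]; field_simp; ring

/-- Let F be a finite field and d ≥ 3, and let a, b be non-identity elements of PSL_d(F). Then the product of the conjugacy classes of a and b is not a single conjugacy class: there are conjugates a′ of a and b′ of b such that a′b′ is not conjugate to ab. -/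
theorem result {F : Type*} [Field F] [Fintype F] (d : ℕ) (hd : 3 ≤ d)
    (a b : Matrix.ProjectiveSpecialLinearGroup (Fin d) F) (ha : a ≠ 1) (hb : b ≠ 1) :
    ∃ g h : Matrix.ProjectiveSpecialLinearGroup (Fin d) F, ¬ IsConj (a * b) (g * a * g⁻¹ * (h * b * h⁻¹)) := by
  obtain ⟨A, rfl⟩ := QuotientGroup.mk_surjective a
  obtain ⟨B, rfl⟩ := QuotientGroup.mk_surjective b
  by_contra hc
  have H : ∀ A' B', IsConj A A' → IsConj B B' → ((A'.1 * B'.1).trace = 0 ↔ (A.1 * B.1).trace = 0) := by
    intro A' B' h1 h2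
    obtain ⟨g, rfl⟩ := isConj_iff.1 h1
    obtain ⟨h, rfl⟩ := isConj_iff.1 h2
    have k : IsConj _ _ := not_not.1 fun k => hc ⟨QuotientGroup.mk g, QuotientGroup.mk h, k⟩
    obtain ⟨x, hx⟩ := isConj_iff.1 k
    obtain ⟨x, rfl⟩ := QuotientGroup.mk_surjective x
    have hx : (QuotientGroup.mk (x * (A * B) * x⁻¹) : Matrix.ProjectiveSpecialLinearGroup (Fin d) F) =
      QuotientGroup.mk (g * A * g⁻¹ * (h * B * h⁻¹)) := hx
    obtain ⟨r, r1, r2⟩ := Matrix.SpecialLinearGroup.mem_center_iff.1 (QuotientGroup.eq.1 hx)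
    have r0 : r ≠ 0 := fun e => by
      rw [e, zero_pow (by simp; omega)] at r1
      exact zero_ne_one r1
    have e := congrArg Subtype.val (mul_inv_cancel_left (x * (A * B) * x⁻¹) (g * A * g⁻¹ * (h * B * h⁻¹)))
    rw [Matrix.SpecialLinearGroup.coe_mul, ← r2, scalar_apply, ← smul_eq_mul_diagonal] at e
    have e : r • (x.1 * (A.1 * B.1) * x⁻¹.1) = (g * A * g⁻¹).1 * (h * B * h⁻¹).1 := e
    rw [← e, trace_smul, trace_mul_cycle, show x⁻¹.1 * x.1 = 1 from congrArg Subtype.val (inv_mul_cancel x),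
      Matrix.one_mul, smul_eq_mul, mul_eq_zero, or_iff_right r0]
  let i : Fin d := ⟨0, by omega⟩
  let j : Fin d := ⟨1, by omega⟩
  let k : Fin d := ⟨2, by omega⟩
  have ij : i ≠ j := by simp [i, j]
  have ik : i ≠ k := by simp [i, k]
  have kj : k ≠ j := by simp [k, j]
  refine hb ((QuotientGroup.eq_one_iff _).2 (Z.cen hd (fun N hN => ?_) ik))
  by_contra n0
  refine ha ((QuotientGroup.eq_one_iff _).2 (Z.cen hd (fun M hM => ?_) ij))
  have hB := hN.trans (cj N (tv kj (N.1 i j / N.1 i k)))
  have b1 := cjE' N kj (N.1 i j / N.1 i k) i j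
  have b2 := cjE' N kj (N.1 i j / N.1 i k) i k
  generalize tv kj (N.1 i j / N.1 i k) * N * (tv kj (N.1 i j / N.1 i k))⁻¹ = C at hB b1 b2
  have b1 : C.1 i j = 0 := by rw [b1]; simp [ik]; field_simp; ring
  have b2 : C.1 i k ≠ 0 := by rw [b2]; simpa [ik, kj.symm] using n0
  have s1 := st1 (fun A' h => H A' C h hB) ij b1 hM
  have s2 := st1 (fun A' h => H A' C h hB) ij b1 (hM.trans (cj M (tv ik.symm 1)))
  rw [cjE] at s2
  simp only [Matrix.sub_mul, Matrix.add_mul, Matrix.mul_sub, Matrix.mul_add, one_smul, smul_mul_assoc, mul_smul_comm,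
    Matrix.sub_apply, Matrix.add_apply, Matrix.smul_apply, ← Matrix.mul_assoc] at s2
  rw [Matrix.mul_assoc (1 * _) M.1, Matrix.mul_assoc _ 1 C.1, Matrix.mul_assoc _ 1 C.1] at s2
  simp only [tri, Matrix.one_mul, Matrix.mul_one, b1, one_apply_ne ij, one_apply_ne ik, s1] at s2
  simpa [b2, single_mul_apply_of_ne _ _ _ _ _ ik] using s2


end Cfsg.Agent.S2272
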