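import Cfsg.Statements.S2280
import Cfsg.Agent.H2.PGroup

set_option autoImplicit false
open Cfsg

namespace Cfsg.Agent.S2280
open Subgroup CfsgH2
open scoped commutatorElement

open Matrix Finset

variable {F : Type*} [Field F] {n : ℕ}

def Tm (c : F) (a φ : Fin n → F) : Matrix (Fin n) (Fin n) F := 1 + c • vecMulVec a φ
def In (G : Subgroup (SpecialLinearGroup (Fin n) F)) (M : Matrix (Fin n) (Fin n) F) : Prop := ∃ g ∈ G, g.1 = M
abbrev ee (F : Type*) [Field F] (i : Fin n) : Fin n → F := Pi.single i 1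
variable {G : Subgroup (SpecialLinearGroup (Fin n) F)} {a b φ ψ : Fin n → F} {c d : F}

theorem In.mul {A B} (h : In G A) (k : In G B) : In G (A * B) := by
  obtain ⟨g, h, rfl⟩ := h
  obtain ⟨l, k, rfl⟩ := k
  exact ⟨g * l, mul_mem h k, rfl⟩

theorem Tm_mul (c d : F) (a b φ ψ : Fin n → F) : Tm c a φ * Tm d b ψ =
    1 + c • vecMulVec a φ + d • vecMulVec b ψ + (c * d * (φ ⬝ᵥ b)) • vecMulVec a ψ := by
  simp only [Tm, Matrix.add_mul, Matrix.mul_add, Matrix.one_mul, Matrix.mul_one, smul_mul_assoc, mul_smul_comm,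
    vecMulVec_mul_vecMulVec, vecMulVec_smul]
  module

theorem In.neg (h0 : φ ⬝ᵥ a = 0) (h : In G (Tm c a φ)) : In G (Tm (-c) a φ) := by
  obtain ⟨g, h, e⟩ := h
  refine ⟨g⁻¹, inv_mem h, ?_⟩
  have : g.1 * Tm (-c) a φ = 1 := by rw [e, Tm_mul, h0]; module
  rw [← Matrix.mul_one g⁻¹.1, ← this, ← Matrix.mul_assoc, show g⁻¹.1 * g.1 = 1 from
    congrArg Subtype.val (inv_mul_cancel g), Matrix.one_mul]

theorem Tm_cj (g : SpecialLinearGroup (Fin n) F) (c : F) (a φ : Fin n → F) :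
    g.1 * Tm c a φ * g⁻¹.1 = Tm c (g.1 *ᵥ a) (φ ᵥ* g⁻¹.1) := by
  rw [Tm, Tm, Matrix.mul_add, Matrix.add_mul, Matrix.mul_one, show g.1 * g⁻¹.1 = 1 from
    congrArg Subtype.val (mul_inv_cancel g), mul_smul_comm, smul_mul_assoc, mul_vecMulVec, vecMulVec_mul]

theorem In.cj {g} (hg : g ∈ G) (h : In G (Tm c a φ)) : In G (Tm c (g.1 *ᵥ a) (φ ᵥ* g⁻¹.1)) :=
  Tm_cj g c a φ ▸ (In.mul ⟨g, hg, rfl⟩ h).mul ⟨_, inv_mem hg, rfl⟩

theorem In.add (h0 : φ ⬝ᵥ b = 0) (h : In G (Tm c a φ)) (k : In G (Tm d b φ)) : In G (Tm 1 (c • a + d • b) φ) := by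
  convert h.mul k using 1
  rw [Tm_mul, h0, Tm, add_vecMulVec, smul_vecMulVec, smul_vecMulVec]; module

theorem Tm_s (c : F) (a φ : Fin n → F) : Tm 1 (c • a) φ = Tm c a φ := by rw [Tm, Tm, smul_vecMulVec, one_smul]

theorem In.comm (h1 : φ ⬝ᵥ a = 0) (h2 : ψ ⬝ᵥ b = 0) (h3 : ψ ⬝ᵥ a = 0) (h : In G (Tm c a φ)) (k : In G (Tm d b ψ)) :
    In G (Tm (c * d * (φ ⬝ᵥ b)) a ψ) := by
  convert (h.mul k).mul ((h.neg h1).mul (k.neg h2)) using 1
  rw [Tm_mul, Tm_mul]
  simp only [Tm, Matrix.add_mul, Matrix.mul_add, Matrix.one_mul, Matrix.mul_one, smul_mul_assoc, mul_smul_comm,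
    vecMulVec_mul_vecMulVec, vecMulVec_smul, h1, h2, h3]
  module

theorem dot_cj (g : SpecialLinearGroup (Fin n) F) (a φ : Fin n → F) : (φ ᵥ* g⁻¹.1) ⬝ᵥ (g.1 *ᵥ a) = φ ⬝ᵥ a := by
  rw [dotProduct_mulVec, vecMul_vecMul, show g⁻¹.1 * g.1 = 1 from congrArg Subtype.val (inv_mul_cancel g), vecMul_one]

def Full (G : Subgroup (SpecialLinearGroup (Fin n) F)) (ψ : Fin n → F) : Prop :=
  ∀ a, ψ ⬝ᵥ a = 0 → In G (Tm 1 a ψ)

theorem Full.cj {g} (hg : g ∈ G) (h : Full G ψ) : Full G (ψ ᵥ* g.1) := fun a ha => by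
  have := (h (g.1 *ᵥ a) (by rwa [dotProduct_mulVec])).cj (inv_mem hg)
  rwa [inv_inv, mulVec_mulVec, show g⁻¹.1 * g.1 = 1 from congrArg Subtype.val (inv_mul_cancel g), one_mulVec] at this

theorem Full.sm (hc : c ≠ 0) (h : Full G (c • ψ)) : Full G ψ := fun a ha => by
  have := h (c⁻¹ • a) (by simp [ha])
  rwa [Tm, smul_vecMulVec, vecMulVec_smul, smul_smul c⁻¹, inv_mul_cancel₀ hc, one_smul F (vecMulVec a ψ)] at this

theorem top_of [Nontrivial (Fin n)] (h : ∀ j, Full G (ee F j)) : G = ⊤ := by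
  have k : ∀ i j, i ≠ j → ∀ c : F, In G (1 + single i j c) := fun i j hij c => by
    convert h j (c • ee F i) (by simp [hij.symm]) using 1
    rw [Tm_s, Tm, ← single_eq_single_vecMulVec_single, smul_single, smul_eq_mul, mul_one]
  have m : ∀ g : SpecialLinearGroup (Fin n) F, In G g.1 → g ∈ G := fun g ⟨l, h, e⟩ => Subtype.ext e ▸ h
  refine top_unique fun g _ => Matrix.SpecialLinearGroup.diagonal_transvection_induction' (· ∈ G) g
    (fun i j h c hc => m _ ?_) (fun i j h t => m _ (k i j h t)) fun _ _ => mul_mem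
  convert (((k i j h (c - 1)).mul (k j i h.symm 1)).mul (k i j h (c⁻¹ - 1))).mul (k j i h.symm (-c)) using 1
  simp only [Matrix.add_mul, Matrix.mul_add, Matrix.one_mul, Matrix.mul_one, single_mul_single_same,
    single_mul_single_of_ne _ _ _ _ h, single_mul_single_of_ne _ _ _ _ h.symm, Matrix.zero_mul, add_zero]
  rw [Matrix.SpecialLinearGroup.diag2n_coe]
  ext a b
  simp only [diagonal_apply, Matrix.add_apply, one_apply, single_apply]
  by_cases a1 : i = a <;> by_cases a2 : j = a <;> by_cases b1 : i = b <;> by_cases b2 : j = b <;>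
    simp_all [@eq_comm _ a] <;> field_simp <;> ring

def NN (n : ℕ) (F : Type*) [Field F] : Matrix (Fin n) (Fin n) F := of fun i j => if (j : ℕ) = i + 1 then 1 else 0

theorem Npow (k : ℕ) : NN n F ^ k = of fun a b : Fin n => if (b : ℕ) = a + k then 1 else 0 := by
  induction k with
  | zero => ext a b; simp [one_apply, Fin.ext_iff, eq_comm]
  | succ k ih =>
    rw [pow_succ, ih]; ext a b; simp only [mul_apply, of_apply, NN]
    by_cases h : (b : ℕ) = a + (k + 1)
    · rw [if_pos h, sum_eq_single ⟨a + k, by omega⟩ (fun c _ hc => by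
        rw [if_neg (fun e => hc (Fin.ext e)), zero_mul]) (by simp), if_pos rfl, if_pos (by exact h), one_mul]
    · rw [if_neg h]; exact sum_eq_zero fun c _ => by split_ifs <;> first | omega | simp

def JJ (n : ℕ) (F : Type*) [Field F] : SpecialLinearGroup (Fin n) F :=
  ⟨1 + NN n F, by
    rw [det_of_upperTriangular fun i j (h : j < i) => by
      rw [Matrix.add_apply, one_apply_ne h.ne', NN, of_apply, if_neg (by have : (j : ℕ) < i := h; omega), add_zero]]
    simp [NN]⟩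

def WW (n : ℕ) (d : F) : Matrix (Fin n) (Fin n) F :=
  of fun a b => (if a = b then 1 else 0) + if (a : ℕ) = b + 1 then (if (b : ℕ) + 2 = n then d else 1) else 0

theorem ex_h : ∃ (h : SpecialLinearGroup (Fin (n + 3)) F) (d : F), d ≠ 0 ∧ (h * JJ _ F * h⁻¹).1 = WW _ d := by
  let P : Matrix (Fin (n + 3)) (Fin (n + 3)) F := of fun a b => if a = b.rev then 1 else 0
  have p : P * P = 1 := by
    ext a b; simp [P, mul_apply, one_apply]
  have p2 := congrArg det p
  rw [det_mul, det_one] at p2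
  let h : SpecialLinearGroup (Fin (n + 3)) F := ⟨P * diagonal fun b => if b = 0 then P.det else 1, by
    rw [det_mul, det_diagonal]; simpa using p2⟩
  refine ⟨h, P.det, left_ne_zero_of_mul_eq_one p2, ?_⟩
  have : h.1 * (JJ _ F).1 = WW _ P.det * h.1 := by
    show P * diagonal _ * (1 + NN _ F) = _ * (P * diagonal _)
    generalize P.det = d
    ext a b
    have e1 : ∀ M : Matrix (Fin (n + 3)) (Fin (n + 3)) F, ∀ a b, (P * M) a b = M a.rev b := fun M a b => by
      have e : ∀ k : Fin (n + 3), (a = k.rev) = (k = a.rev) := fun k => propext (by rw [eq_comm, Fin.rev_eq_iff])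
      simp [P, mul_apply, e]
    have e2 : ∀ M : Matrix (Fin (n + 3)) (Fin (n + 3)) F, ∀ a b, (M * P) a b = M a b.rev := fun M a b => by
      simp [P, mul_apply]
    rw [← Matrix.mul_assoc, mul_diagonal, Matrix.mul_assoc, e1, e2, diagonal_mul]
    simp only [of_apply, Matrix.add_apply, one_apply, NN, WW, Fin.ext_iff, Fin.val_rev, Fin.val_zero]
    split_ifs <;> first | omega | simp
  show h.1 * (JJ _ F).1 * h⁻¹.1 = _
  rw [this, Matrix.mul_assoc, show h.1 * h⁻¹.1 = 1 from congrArg Subtype.val (mul_inv_cancel h), Matrix.mul_one]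

theorem W1 (hd : d ≠ 0) (k : Fin n) : ∃ t : F, t ≠ 0 ∧ WW (n + 1) d *ᵥ ee F k.castSucc = ee F k.castSucc + t • ee F k.succ ∧
    ee F k.succ ᵥ* WW (n + 1) d = ee F k.succ + t • ee F k.castSucc := by
  refine ⟨if (k : ℕ) + 2 = n + 1 then d else 1, by split_ifs <;> simp [hd], ?_, ?_⟩
  · ext a
    simp only [mulVec_single_one, col_apply, WW, of_apply, Pi.add_apply, Pi.smul_apply, Pi.single_apply, Fin.ext_iff,
      Fin.val_castSucc, Fin.val_succ]
    split_ifs <;> simp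
  · ext a
    simp only [single_one_vecMul, row_apply, WW, of_apply, Pi.add_apply, Pi.smul_apply, Pi.single_apply, Fin.ext_iff,
      Fin.val_castSucc, Fin.val_succ]
    split_ifs <;> first | omega | simp

theorem W3 : WW (n + 1) d *ᵥ ee F (Fin.last n) = ee F (Fin.last n) := by
  ext a
  have := a.2
  simp only [mulVec_single_one, col_apply, WW, of_apply, Pi.single_apply, Fin.ext_iff, Fin.val_last]
  split_ifs <;> first | omega | simp

theorem U0 : (JJ (n + 3) F).1 *ᵥ ee F 0 = ee F 0 := by ext a; simp [JJ, NN, one_apply, Pi.single_apply]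
theorem U1 : (JJ (n + 3) F).1 *ᵥ ee F 1 = ee F 1 + ee F 0 := by
  ext a; simp [JJ, NN, one_apply, Pi.single_apply]
theorem U2 : ee F (Fin.last _) ᵥ* (JJ (n + 3) F)⁻¹.1 = ee F (Fin.last _) := by
  have : ee F (Fin.last _) ᵥ* (JJ (n + 3) F).1 = ee F (Fin.last _) := by
    ext a; simp [JJ, NN, one_apply, Pi.single_apply, eq_comm, a.2.ne, a.2.ne']
  conv_lhs => rw [← this, vecMul_vecMul, show (JJ (n + 3) F).1 * (JJ (n + 3) F)⁻¹.1 = 1 from
    congrArg Subtype.val (mul_inv_cancel (JJ (n + 3) F)), vecMul_one]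

/-- Let F be a finite field and n ≥ 3. Then SL_n(F) is generated by three conjugate regular unipotent elements: there are u with u − 1 nilpotent and (u − 1)^(n−1) ≠ 0, and g, h, such that u, g u g⁻¹ and h u h⁻¹ generate SL_n(F). -/
theorem result {F : Type*} [Field F] [Fintype F] (n : ℕ) (hn : 3 ≤ n) :
    ∃ u g h : Matrix.SpecialLinearGroup (Fin n) F, (IsNilpotent ((u : Matrix (Fin n) (Fin n) F) - 1) ∧ ((u : Matrix (Fin n) (Fin n) F) - 1) ^ (n - 1) ≠ 0) ∧
      Subgroup.closure ({u, g * u * g⁻¹, h * u * h⁻¹} : Set (Matrix.SpecialLinearGroup (Fin n) F)) = ⊤ := by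
  obtain ⟨m, rfl⟩ : ∃ m, n = m + 3 := ⟨n - 3, by omega⟩
  obtain ⟨h, d, hd, hw⟩ := ex_h (F := F) (n := m)
  obtain ⟨γ, hγ⟩ := IsCyclic.exists_monoid_generator (α := Fˣ)
  set w := h * JJ _ F * h⁻¹ with w0
  set L := Fin.last (m + 2)
  set φ := ee F L ᵥ* w⁻¹.1 with hφ
  have n1 : (1 : Fin (m + 3)) ≠ L := fun e => by simpa [L] using congrArg Fin.val e
  have n0 : (0 : Fin (m + 3)) ≠ L := fun e => by simpa [L] using congrArg Fin.val e
  have dL : ∀ i, i ≠ L → ee F L ⬝ᵥ ee F i = 0 := fun i hi => by simp [hi.symm]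
  have cL : ∀ k : Fin (m + 2), k.castSucc ≠ L := fun k => (Fin.castSucc_lt_last k).ne
  have k0 : ∀ i, φ ⬝ᵥ ee F i ≠ 0 := fun i => by
    induction i using Fin.reverseInduction with
    | last => rw [← W3 (d := d), ← hw, dot_cj]; simp [L]
    | cast i ih =>
      obtain ⟨t, t0, t1, -⟩ := W1 hd i
      have := dot_cj w (ee F i.castSucc) (ee F L)
      rw [hw, t1, dL _ (cL i), dotProduct_add, dotProduct_smul, smul_eq_mul] at this
      exact fun e => mul_ne_zero t0 ih (by rwa [← hφ, e, zero_add] at this)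
  obtain ⟨t, t0, t1, -⟩ := W1 hd (0 : Fin (m + 2))
  have t1 : w.1 *ᵥ ee F 0 = ee F 0 + t • ee F 1 := hw ▸ t1
  have κ := mul_ne_zero (k0 0) t0
  let g := Matrix.SpecialLinearGroup.transvection n1 (γ / (φ ⬝ᵥ ee F 0 * t) : F)
  refine ⟨JJ _ F, g⁻¹, h, ⟨⟨m + 3, ?_⟩, fun e => ?_⟩, ?_⟩
  · rw [show (JJ (m + 3) F).1 - 1 = NN _ F from add_sub_cancel_left _ _, Npow]
    ext a b
    exact if_neg (by omega)
  · rw [show (JJ (m + 3) F).1 - 1 = NN _ F from add_sub_cancel_left _ _, Npow] at e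
    simpa [L] using congrFun (congrFun e 0) L
  generalize hG : Subgroup.closure ({JJ _ F, g⁻¹ * JJ _ F * g⁻¹⁻¹, w} : Set _) = G
  have m1 : JJ _ F ∈ G := hG ▸ Subgroup.subset_closure (by simp)
  have m2 : g⁻¹ * JJ _ F * g⁻¹⁻¹ ∈ G := hG ▸ Subgroup.subset_closure (by simp)
  have m3 : w ∈ G := hG ▸ Subgroup.subset_closure (by simp)
  have gT : ∀ c : F, (Matrix.SpecialLinearGroup.transvection n1 c).1 = Tm c (ee F 1) (ee F L) := fun c => by
    rw [Tm, ← single_eq_single_vecMulVec_single, smul_single, smul_eq_mul, mul_one]; rfl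
  have x1 : In G (Tm (γ / (φ ⬝ᵥ ee F 0 * t)) (ee F 0) (ee F L)) := ⟨_, mul_mem m2 (inv_mem m1), by
    rw [inv_inv, mul_assoc, mul_assoc, ← mul_assoc (JJ _ F), Matrix.SpecialLinearGroup.transvection_inv]
    show (Matrix.SpecialLinearGroup.transvection n1 _).1 * ((JJ _ F).1 * g.1 * (JJ _ F)⁻¹.1) = _
    rw [gT, gT, Tm_cj, U1, U2, Tm_mul, dotProduct_add, dL _ n1, dL _ n0, Tm, add_vecMulVec]
    module⟩
  have st : ∀ {c c' : F} {a}, ee F L ⬝ᵥ a = 0 → ee F L ⬝ᵥ (w.1 *ᵥ a) = 0 → In G (Tm c a (ee F L)) →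
      In G (Tm c' (ee F 0) (ee F L)) → In G (Tm (c * c' * (φ ⬝ᵥ ee F 0)) (w.1 *ᵥ a) (ee F L)) :=
    fun h1 h2 h3 h4 => (h3.cj m3).comm ((dot_cj _ _ _).trans h1) (dL _ n0) h2 h4
  have z1 : ee F L ⬝ᵥ (w.1 *ᵥ ee F 0) = 0 := by rw [t1, dotProduct_add, dotProduct_smul, dL _ n0, dL _ n1]; simp
  have x2 : ∀ i : ℕ, In G (Tm (γ ^ (i + 1) / (φ ⬝ᵥ ee F 0 * t)) (ee F 0) (ee F L)) := fun i => by
    induction i with
    | zero => simpa using x1
    | succ i ih =>
      have y := st (dL _ n0) z1 ih x1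
      have y2 := (y.cj m1)
      rw [U2] at y2
      have := y2.add z1 (y.neg z1)
      rw [t1, mulVec_add, mulVec_smul, U0, U1] at this
      rw [← Tm_s]
      convert this using 2
      have a := k0 0
      match_scalars <;> field_simp <;> ring
  have x3 : ∀ c : F, In G (Tm c (ee F 0) (ee F L)) := fun c => by
    by_cases c0 : c = 0
    · exact ⟨1, one_mem _, by simp [Tm, c0]⟩
    obtain ⟨i, hi⟩ := hγ (Units.mk0 _ (mul_ne_zero c0 κ) * γ⁻¹)
    have hi : (γ : F) ^ (i + 1) = c * (φ ⬝ᵥ ee F 0 * t) := by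
      have : γ ^ (i + 1) = Units.mk0 _ (mul_ne_zero c0 κ) := by rw [pow_succ, show γ ^ i = _ from hi]; simp
      simpa using congrArg Units.val this
    have := x2 i
    rwa [hi, mul_div_cancel_right₀ _ κ] at this
  have x4 : ∀ (k : Fin (m + 2)) (c : F), In G (Tm c (ee F k.castSucc) (ee F L)) := fun k => by
    induction k using Fin.induction with
    | zero => exact x3
    | succ k ih =>
      intro c
      obtain ⟨s, s0, s1, -⟩ := W1 hd k.castSucc
      rw [← hw, Fin.succ_castSucc] at s1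
      have := (st (dL _ (cL _)) (by rw [s1, dotProduct_add, dotProduct_smul, dL _ (cL _), dL _ (cL _)]; simp)
        (ih (c / s)) (x3 (φ ⬝ᵥ ee F 0)⁻¹)).add (dL _ (cL _)) (ih (-(c / s)))
      rw [s1] at this
      rw [← Tm_s]
      convert this using 2
      have a := k0 0
      match_scalars <;> field_simp <;> ring
  have x5 : Full G (ee F L) := fun a ha => by
    have : ∀ s : Finset (Fin (m + 2)), In G (Tm 1 (∑ k ∈ s, a k.castSucc • ee F k.castSucc) (ee F L)) := fun s => by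
      induction s using Finset.induction_on with
      | empty => exact ⟨1, one_mem _, by simp [Tm]⟩
      | insert k s hk ih =>
        rw [sum_insert hk, add_comm (a k.castSucc • _)]
        simpa only [one_smul] using ih.add (dL _ (cL k)) (x4 k (a k.castSucc))
    convert this univ
    conv_lhs => rw [pi_eq_sum_univ' a, Fin.sum_univ_castSucc, show a (Fin.last _) = 0 by simpa using ha]
    simp
  refine top_of fun j => ?_
  induction j using Fin.reverseInduction with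
  | last => exact x5
  | cast k ih =>
    obtain ⟨s, s0, -, s2⟩ := W1 hd k
    obtain ⟨y, y1, y2⟩ := ih (-s⁻¹ • ee F k.castSucc) (by simp [Fin.castSucc_lt_succ.ne'])
    have := (ih.cj m3).cj y1
    rw [hw, s2, y2, Tm, vecMul_add, vecMul_one, one_smul, vecMul_vecMulVec] at this
    refine Full.sm s0 ?_
    convert this using 1
    have e : (ee F k.succ + s • ee F k.castSucc) ⬝ᵥ (-s⁻¹ • ee F k.castSucc) = -1 := by
      simp [Fin.castSucc_lt_succ.ne', Fin.castSucc_lt_succ.ne, s0]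
    rw [e]; module


end Cfsg.Agent.S2280
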