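import Cfsg.Statements.S2298
import Cfsg.Agent.H1.GL2d

set_option autoImplicit false
open Cfsg

namespace Cfsg.Agent.S2298

/-- Over a finite field F with q elements, every irreducible complex character of GL₂ has degree 1, q − 1, q or q + 1; and when q ≥ 3 (so that these four numbers are distinct) there are exactly q − 1 irreducible characters of degree 1, exactly q − 1 of degree q, exactly (q − 1)(q − 2)/2 of degree q + 1 and exactly q(q − 1)/2 of degree q − 1. -/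
theorem result {F : Type*} [Field F] [Fintype F] :
    (∀ χ : Matrix.GeneralLinearGroup (Fin 2) F → ℂ, Cfsg.IsIrrCharacter (Matrix.GeneralLinearGroup (Fin 2) F) χ →
      χ 1 = 1 ∨ χ 1 = (Fintype.card F : ℂ) - 1 ∨ χ 1 = (Fintype.card F : ℂ) ∨ χ 1 = (Fintype.card F : ℂ) + 1) ∧
    (3 ≤ Fintype.card F →
      Nat.card {χ : Cfsg.IrrCharacter (Matrix.GeneralLinearGroup (Fin 2) F) // (χ : Matrix.GeneralLinearGroup (Fin 2) F → ℂ) 1 = 1} = Fintype.card F - 1 ∧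
      Nat.card {χ : Cfsg.IrrCharacter (Matrix.GeneralLinearGroup (Fin 2) F) // (χ : Matrix.GeneralLinearGroup (Fin 2) F → ℂ) 1 = (Fintype.card F : ℂ)} = Fintype.card F - 1 ∧
      Nat.card {χ : Cfsg.IrrCharacter (Matrix.GeneralLinearGroup (Fin 2) F) // (χ : Matrix.GeneralLinearGroup (Fin 2) F → ℂ) 1 = (Fintype.card F : ℂ) + 1} = (Fintype.card F - 1) * (Fintype.card F - 2) / 2 ∧
      Nat.card {χ : Cfsg.IrrCharacter (Matrix.GeneralLinearGroup (Fin 2) F) // (χ : Matrix.GeneralLinearGroup (Fin 2) F → ℂ) 1 = (Fintype.card F : ℂ) - 1} = Fintype.card F * (Fintype.card F - 1) / 2) := by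
  open Subgroup CfsgH1 CfsgH3 CfsgH1.L2 in
  classical
  obtain ⟨w, hw⟩ := exists_ell (F := F)
  refine ⟨fun χ h => ?_, fun h3 => ⟨?_, ?_, ?_, ?_⟩⟩
  · rcases irr_cases hw h with ⟨γ, rfl⟩ | ⟨γ, rfl⟩ | ⟨α, β, -, rfl⟩ | ⟨θ, -, rfl⟩ <;>
      simp [UU_one, VV_one, PP_one, RR_one hw]
  · rw [card_deg, ncard_UU]
    exact fun χ => ⟨by rintro ⟨γ, rfl⟩; exact ⟨UU_irr γ, UU_one γ⟩, fun h => (G_UU h3 h.1 h.2).imp fun _ => Eq.symm⟩
  · rw [card_deg, ncard_VV]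
    exact fun χ => ⟨by rintro ⟨γ, rfl⟩; exact ⟨VV_irr γ, VV_one γ⟩, fun h => (G_VV h.1 h.2).imp fun _ => Eq.symm⟩
  · rw [card_deg, ← ncard_PP, Nat.mul_div_cancel_left _ two_pos]
    exact fun χ => ⟨by rintro ⟨γ, rfl⟩; exact ⟨PP_irr γ.2, PP_one _ _⟩, fun h => by
      obtain ⟨α, β, k, e⟩ := G_PP h.1 h.2; exact ⟨⟨(α, β), k⟩, e.symm⟩⟩
  · rw [card_deg, ← ncard_RR hw, Nat.mul_div_cancel_left _ two_pos]
    exact fun χ => ⟨by rintro ⟨γ, rfl⟩; exact ⟨RR_irr hw γ.2, RR_one hw _⟩, fun h => by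
      obtain ⟨α, k, e⟩ := G_RR hw h3 h.1 h.2; exact ⟨⟨α, k⟩, e.symm⟩⟩

end Cfsg.Agent.S2298
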