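import Cfsg.Statements.S2299
import Cfsg.Agent.H1.GL2d

set_option autoImplicit false
open Cfsg

namespace Cfsg.Agent.S2299

/-- Over a finite field F with q elements, q odd, every irreducible complex character of SL₂ has degree 1, q, q + 1, q − 1, (q + 1)/2 or (q − 1)/2; and when q ≥ 5 (so that these six numbers are distinct) there are exactly one irreducible character of degree 1, one of degree q, (q − 3)/2 of degree q + 1, (q − 1)/2 of degree q − 1, two of degree (q + 1)/2 and two of degree (q − 1)/2. -/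
theorem result {F : Type*} [Field F] [Fintype F] (hodd : Odd (Fintype.card F)) :
    (∀ χ : Matrix.SpecialLinearGroup (Fin 2) F → ℂ, Cfsg.IsIrrCharacter (Matrix.SpecialLinearGroup (Fin 2) F) χ →
      χ 1 = 1 ∨ χ 1 = (Fintype.card F : ℂ) ∨ χ 1 = (Fintype.card F : ℂ) + 1 ∨ χ 1 = (Fintype.card F : ℂ) - 1 ∨
        χ 1 = (((Fintype.card F + 1) / 2 : ℕ) : ℂ) ∨ χ 1 = (((Fintype.card F - 1) / 2 : ℕ) : ℂ)) ∧
    (5 ≤ Fintype.card F →
      Nat.card {χ : Cfsg.IrrCharacter (Matrix.SpecialLinearGroup (Fin 2) F) // (χ : Matrix.SpecialLinearGroup (Fin 2) F → ℂ) 1 = 1} = 1 ∧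
      Nat.card {χ : Cfsg.IrrCharacter (Matrix.SpecialLinearGroup (Fin 2) F) // (χ : Matrix.SpecialLinearGroup (Fin 2) F → ℂ) 1 = (Fintype.card F : ℂ)} = 1 ∧
      Nat.card {χ : Cfsg.IrrCharacter (Matrix.SpecialLinearGroup (Fin 2) F) // (χ : Matrix.SpecialLinearGroup (Fin 2) F → ℂ) 1 = (Fintype.card F : ℂ) + 1} = (Fintype.card F - 3) / 2 ∧
      Nat.card {χ : Cfsg.IrrCharacter (Matrix.SpecialLinearGroup (Fin 2) F) // (χ : Matrix.SpecialLinearGroup (Fin 2) F → ℂ) 1 = (Fintype.card F : ℂ) - 1} = (Fintype.card F - 1) / 2 ∧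
      Nat.card {χ : Cfsg.IrrCharacter (Matrix.SpecialLinearGroup (Fin 2) F) // (χ : Matrix.SpecialLinearGroup (Fin 2) F → ℂ) 1 = (((Fintype.card F + 1) / 2 : ℕ) : ℂ)} = 2 ∧
      Nat.card {χ : Cfsg.IrrCharacter (Matrix.SpecialLinearGroup (Fin 2) F) // (χ : Matrix.SpecialLinearGroup (Fin 2) F → ℂ) 1 = (((Fintype.card F - 1) / 2 : ℕ) : ℂ)} = 2) := by
  open Subgroup CfsgH1 CfsgH3 CfsgH1.L2 in
  classical
  obtain ⟨w, hw⟩ := exists_ellS (F := F)
  refine ⟨fun χ h => ?_, fun h5 => ⟨?_, ?_, ?_, ?_, ?_, ?_⟩⟩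
  · rcases irrS_cases hw h with rfl | rfl | ⟨α, -, rfl⟩ | ⟨θ, -, rfl⟩ | k | k
    · simp
    · simp [St_one]
    · simp [RS_one]
    · simp [DD_one]
    · simp [← half_deg hodd (deg_HR k)]
    · obtain ⟨m, hm⟩ := hodd
      have := deg_HD hw k
      rw [hm] at this ⊢
      rw [show (2 * m + 1 - 1) / 2 = m by omega]
      push_cast at this
      exact .inr (.inr (.inr (.inr (.inr (by linear_combination this / 2)))))
  · rw [card_deg (S := {fun _ => 1}), Set.ncard_singleton]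
    exact fun χ => ⟨by rintro rfl; exact ⟨one_irr, rfl⟩, fun h => S_one (by omega) h.1 h.2⟩
  · rw [card_deg (S := {St F}), Set.ncard_singleton]
    exact fun χ => ⟨by rintro rfl; exact ⟨St_irr, St_one⟩, fun h => S_St h.1 h.2⟩
  · have := ncard_RS_odd hodd
    rw [card_deg sRS_iff]; omega
  · have := ncard_DD_odd hw hodd
    rw [card_deg (sDD_iff hw (by omega))]; omega
  · rw [card_deg (sHR_iff hodd (by omega)), ncard_HR hodd]
  · rw [card_deg (sHD_iff hw hodd (by omega)), ncard_HD hw hodd]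

end Cfsg.Agent.S2299
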