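import Cfsg.Statements.S2300
import Cfsg.Agent.H1.GL2d

set_option autoImplicit false
open Cfsg

namespace Cfsg.Agent.S2300

/-- Over a finite field F with q elements, q even, every irreducible complex character of SL₂ has degree 1, q − 1, q or q + 1; and when q ≥ 4 (so that these four numbers are distinct) there are exactly one irreducible character of degree 1, one of degree q, (q − 2)/2 of degree q + 1 and q/2 of degree q − 1. -/
theorem result {F : Type*} [Field F] [Fintype F] [CharP F 2] :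
    (∀ χ : Matrix.SpecialLinearGroup (Fin 2) F → ℂ, Cfsg.IsIrrCharacter (Matrix.SpecialLinearGroup (Fin 2) F) χ →
      χ 1 = 1 ∨ χ 1 = (Fintype.card F : ℂ) - 1 ∨ χ 1 = (Fintype.card F : ℂ) ∨ χ 1 = (Fintype.card F : ℂ) + 1) ∧
    (4 ≤ Fintype.card F →
      Nat.card {χ : Cfsg.IrrCharacter (Matrix.SpecialLinearGroup (Fin 2) F) // (χ : Matrix.SpecialLinearGroup (Fin 2) F → ℂ) 1 = 1} = 1 ∧
      Nat.card {χ : Cfsg.IrrCharacter (Matrix.SpecialLinearGroup (Fin 2) F) // (χ : Matrix.SpecialLinearGroup (Fin 2) F → ℂ) 1 = (Fintype.card F : ℂ)} = 1 ∧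
      Nat.card {χ : Cfsg.IrrCharacter (Matrix.SpecialLinearGroup (Fin 2) F) // (χ : Matrix.SpecialLinearGroup (Fin 2) F → ℂ) 1 = (Fintype.card F : ℂ) + 1} = (Fintype.card F - 2) / 2 ∧
      Nat.card {χ : Cfsg.IrrCharacter (Matrix.SpecialLinearGroup (Fin 2) F) // (χ : Matrix.SpecialLinearGroup (Fin 2) F → ℂ) 1 = (Fintype.card F : ℂ) - 1} = Fintype.card F / 2) := by
  open Subgroup CfsgH1 CfsgH3 CfsgH1.L2 in
  classical
  obtain ⟨w, hw⟩ := exists_ellS (F := F)
  have he : Even (Fintype.card F) := even_iff_two_dvd.2 (p_dvd_q 2)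
  refine ⟨fun χ h => ?_, fun h5 => ⟨?_, ?_, ?_, ?_⟩⟩
  · rcases irrS_cases hw h with rfl | rfl | ⟨α, -, rfl⟩ | ⟨θ, -, rfl⟩ | ⟨α, h1, h2, -⟩ | ⟨θ, h1, h2, -⟩
    · simp
    · simp [St_one]
    · simp [RS_one]
    · simp [DD_one]
    · exact (h1 (eq_one_of_odd (odd_units he) h2)).elim
    · exact (h1 (eq_one_of_odd (hw.card_centS ▸ he.add_one) h2)).elim
  · rw [card_deg (S := {fun _ => 1}), Set.ncard_singleton]
    exact fun χ => ⟨by rintro rfl; exact ⟨one_irr, rfl⟩, fun h => S_one (by omega) h.1 h.2⟩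
  · rw [card_deg (S := {St F}), Set.ncard_singleton]
    exact fun χ => ⟨by rintro rfl; exact ⟨St_irr, St_one⟩, fun h => S_St h.1 h.2⟩
  · have := ncard_RS_even he
    rw [card_deg sRS_iff]; omega
  · have := ncard_DD_even hw he
    rw [card_deg (sDD_iff hw (by omega))]; omega

end Cfsg.Agent.S2300
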