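import Cfsg.Statements.S2301
import Cfsg.Agent.H1.GL2d
import Cfsg.Agent.H1.Ten4
import Cfsg.Agent.H2.MCFus

set_option autoImplicit false
open Cfsg

namespace Cfsg.Agent.S2301

/-- Over a finite field with q elements of odd characteristic p, the elements of order p of SL₂ (the non-identity unipotent elements) fall into exactly two conjugacy classes, each of size (q² − 1)/2; two upper unitriangular matrices with non-zero off-diagonal entries b and b′ are conjugate exactly when bb′ is a square. -/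
theorem result {F : Type*} [Field F] [Fintype F] (p : ℕ) [Fact p.Prime] [CharP F p] (hp : p ≠ 2) :
    Nat.card {C : ConjClasses (Matrix.SpecialLinearGroup (Fin 2) F) // ∃ g : Matrix.SpecialLinearGroup (Fin 2) F, orderOf g = p ∧ ConjClasses.mk g = C} = 2 ∧
    (∀ g : Matrix.SpecialLinearGroup (Fin 2) F, orderOf g = p → Nat.card (ConjClasses.mk g).carrier = (Fintype.card F ^ 2 - 1) / 2) ∧
    ∀ g h : Matrix.SpecialLinearGroup (Fin 2) F, (g : Matrix (Fin 2) (Fin 2) F) 0 0 = 1 → (g : Matrix (Fin 2) (Fin 2) F) 1 1 = 1 → (g : Matrix (Fin 2) (Fin 2) F) 1 0 = 0 → (g : Matrix (Fin 2) (Fin 2) F) 0 1 ≠ 0 →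
      (h : Matrix (Fin 2) (Fin 2) F) 0 0 = 1 → (h : Matrix (Fin 2) (Fin 2) F) 1 1 = 1 → (h : Matrix (Fin 2) (Fin 2) F) 1 0 = 0 → (h : Matrix (Fin 2) (Fin 2) F) 0 1 ≠ 0 →
      (IsConj g h ↔ IsSquare ((g : Matrix (Fin 2) (Fin 2) F) 0 1 * (h : Matrix (Fin 2) (Fin 2) F) 0 1)) := by
  open Subgroup CfsgH1 CfsgH3 CfsgH1.L2 in
  classical
  have h2 : (2 : F) ≠ 0 := fun k => hp ((Nat.prime_dvd_prime_iff_eq Fact.out Nat.prime_two).1
    ((CharP.cast_eq_zero_iff F p 2).1 (by exact_mod_cast k)))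
  have U : ∀ g : S2 F, orderOf g = p → Ev g.val (1 : Fˣ) (1 : Fˣ) ∧ ¬ Sc g.val := fun g hg =>
    unip_of_order p ((orderOf_tG g).trans hg)
  refine ⟨?_, fun g hg => ?_, fun g h a1 a2 a3 a4 b1 b2 b3 b4 => ?_⟩
  · obtain ⟨c, hc⟩ := FiniteField.exists_nonsquare (F := F) (by rw [ringChar.eq F p]; exact hp)
    have c0 : c ≠ 0 := by rintro rfl; simp at hc
    refine CfsgH2.card_classes_two (orderOf_unip p one_ne_zero) (orderOf_unip p c0)
      (fun k => hc (by simpa using ((isConj_jor_iff inv_one c0).1 k).2)) fun t ht => ?_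
    obtain ⟨y, hy, e⟩ := (U t ht).1.isConj_jor (U t ht).2
    by_cases k : IsSquare y
    · exact .inl (((isConj_jor_iff inv_one hy).2 ⟨one_ne_zero, by simpa using k⟩).trans e.symm)
    · exact .inr (((isConj_jor_iff inv_one hy).2 ⟨c0, nsq_mul' hc k⟩).trans e.symm)
  · have := (U g hg).1.card_centS_jor h2 (U g hg).2
    refine Nat.eq_div_of_mul_eq_right two_ne_zero
      (Nat.eq_of_mul_eq_mul_left (show 0 < Fintype.card F from Fintype.card_pos) ?_)
    rw [Nat.card_coe_set_eq, ncard_carrier_eq_index, ← mul_assoc, mul_comm _ 2, ← this, card_mul_index,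
      card_S2, q_sq_sub]
    ring
  · have e1 : g = utS 1 (g.val 0 1) := sext.2 (m2_ext (by simp [a1]) (by simp) (by simp [a3]) (by simp [a2]))
    have e2 : h = utS 1 (h.val 0 1) := sext.2 (m2_ext (by simp [b1]) (by simp) (by simp [b3]) (by simp [b2]))
    rw [e1, e2, isConj_jor_iff inv_one b4]
    simp [a4]

end Cfsg.Agent.S2301
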