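import Cfsg.Statements.S2302
import Cfsg.Agent.H1.GL2d
import Cfsg.Agent.H1.IA2
import Cfsg.Agent.H1.Ten4

set_option autoImplicit false
open Cfsg

namespace Cfsg.Agent.S2302

/-- Over a finite field with q elements of characteristic 2, the involutions of SL₂ (the non-identity unipotent elements) form a single conjugacy class, of size q² − 1. -/
theorem result {F : Type*} [Field F] [Fintype F] [CharP F 2] (g h : Matrix.SpecialLinearGroup (Fin 2) F) (hg : orderOf g = 2) (hh : orderOf h = 2) :
    IsConj g h ∧ Nat.card (ConjClasses.mk g).carrier = Fintype.card F ^ 2 - 1 := by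
  open Subgroup CfsgH1 CfsgH3 CfsgH1.L2 in
  classical
  have := card_cent_two hg
  refine ⟨isConj_two hg hh, Nat.eq_of_mul_eq_mul_left (show 0 < Fintype.card F from Fintype.card_pos) ?_⟩
  rw [Nat.card_coe_set_eq, ncard_carrier_eq_index]
  nth_rw 1 [← this]
  rw [card_mul_index, card_S2, q_sq_sub]; ring

end Cfsg.Agent.S2302
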