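import Cfsg.Statements.S2309
import Cfsg.Agent.H1.GL2d

set_option autoImplicit false
open Cfsg

namespace Cfsg.Agent.S2309

/-- Over a finite field F with q elements: every irreducible complex character of GL₂ of degree q − 1 vanishes at every diagonal matrix with two distinct entries, and every irreducible complex character of degree q + 1 vanishes at every element with no eigenvector in F². -/
theorem result {F : Type*} [Field F] [Fintype F] (χ : Matrix.GeneralLinearGroup (Fin 2) F → ℂ) (hχ : Cfsg.IsIrrCharacter (Matrix.GeneralLinearGroup (Fin 2) F) χ) (g : Matrix.GeneralLinearGroup (Fin 2) F) :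
    (χ 1 = (Fintype.card F : ℂ) - 1 → (g : Matrix (Fin 2) (Fin 2) F) 0 1 = 0 → (g : Matrix (Fin 2) (Fin 2) F) 1 0 = 0 → (g : Matrix (Fin 2) (Fin 2) F) 0 0 ≠ (g : Matrix (Fin 2) (Fin 2) F) 1 1 → χ g = 0) ∧
    (χ 1 = (Fintype.card F : ℂ) + 1 → (∀ (c : F) (v : Fin 2 → F), v ≠ 0 → (g : Matrix (Fin 2) (Fin 2) F).mulVec v ≠ c • v) → χ g = 0) := by
  open Subgroup CfsgH1 CfsgH3 CfsgH1.L2 in
  classical
  obtain ⟨w, hw⟩ := exists_ell (F := F)
  refine ⟨fun d _ h k => ?_, fun d h => ?_⟩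
  · obtain ⟨θ, -, rfl⟩ := G_RR hw (three_le_q (mk0_ne (ha := (ne_of_ut h).1) (hb := (ne_of_ut h).2) k)) hχ d
    exact RR_spl hw _ (evG g h) (mk0_ne k)
  · obtain ⟨α, β, -, rfl⟩ := G_PP hχ d
    exact PP_ell _ _ (ell_iff.1 h)

end Cfsg.Agent.S2309
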