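import Cfsg.Statements.S2317
import Cfsg.Agent.H5.Cj1

set_option autoImplicit false
open Cfsg

namespace Cfsg.Agent.S2317

open CfsgH5

/-- Over a finite field of characteristic p, the conjugacy classes of GL_n consisting of elements of p-power order (the unipotent classes) are as many as the partitions of n. -/
theorem result {F : Type*} [Field F] [Fintype F] (p : ℕ) [Fact p.Prime] [CharP F p] (n : ℕ) :
    Nat.card {C : ConjClasses (Matrix.GeneralLinearGroup (Fin n) F) //
      ∃ g : Matrix.GeneralLinearGroup (Fin n) F, (∃ k : ℕ, orderOf g = p ^ k) ∧ ConjClasses.mk g = C} =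
      Fintype.card (Nat.Partition n) := by
  simp only [and_comm (b := ConjClasses.mk _ = _)]
  rw [card_classes' (glEquiv (Fin n) F).toMonoidHom (glEquiv _ F).injective
    (MonoidHom.range_eq_top.2 (glEquiv _ F).surjective) _ (fun g => IsNilpotent (g.toLinearMap - 1))
    (fun g => by rw [← pel_iff_unip p]; simp) (fun g => jt g.toLinearMap)
    {m | (∀ e ∈ m, 0 < e) ∧ m.sum = n ∧ True}, card_part n fun _ => True]
  · simp
  · exact fun g _ h _ h1 h2 => ⟨fun ⟨k, _, e⟩ => (conj_iff_sim.1 ⟨k, e⟩).jt, fun e =>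
      (conj_iff_sim.2 (sim_of_jt h1 h2 e)).imp fun _ h => ⟨trivial, h⟩⟩
  · refine fun m => ⟨fun h => (exists_jt h.1 (by simpa using h.2.1)).imp fun _ h => ⟨trivial, h⟩, ?_⟩
    rintro ⟨g, -, -, rfl⟩
    exact ⟨jt_pos, by simp [jt_sum], trivial⟩

end Cfsg.Agent.S2317
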