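import Cfsg.Statements.S2322
import Cfsg.Agent.H1.GL2d

set_option autoImplicit false
open Cfsg

namespace Cfsg.Agent.S2322

/-- Over a finite field F with q elements, q odd: every irreducible complex character of SL₂ of degree q − 1 or (q − 1)/2 vanishes at every diagonal matrix whose diagonal entry a has a² ≠ 1, and every irreducible complex character of degree q + 1 or (q + 1)/2 vanishes at every element with no eigenvector in F². -/
theorem result {F : Type*} [Field F] [Fintype F] (hodd : Odd (Fintype.card F)) (χ : Matrix.SpecialLinearGroup (Fin 2) F → ℂ) (hχ : Cfsg.IsIrrCharacter (Matrix.SpecialLinearGroup (Fin 2) F) χ) (g : Matrix.SpecialLinearGroup (Fin 2) F) :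
    ((χ 1 = (Fintype.card F : ℂ) - 1 ∨ χ 1 = (((Fintype.card F - 1) / 2 : ℕ) : ℂ)) →
      (g : Matrix (Fin 2) (Fin 2) F) 0 1 = 0 → (g : Matrix (Fin 2) (Fin 2) F) 1 0 = 0 → (g : Matrix (Fin 2) (Fin 2) F) 0 0 ^ 2 ≠ 1 → χ g = 0) ∧
    ((χ 1 = (Fintype.card F : ℂ) + 1 ∨ χ 1 = (((Fintype.card F + 1) / 2 : ℕ) : ℂ)) →
      (∀ (c : F) (v : Fin 2 → F), v ≠ 0 → (g : Matrix (Fin 2) (Fin 2) F).mulVec v ≠ c • v) → χ g = 0) := by
  open Subgroup CfsgH1 CfsgH3 CfsgH1.L2 in
  classical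
  obtain ⟨w, hw⟩ := exists_ellS (F := F)
  refine ⟨fun d _ h k => ?_, fun d h => ?_⟩
  · have e := evS g h
    have n := mk0_ne (ha := e.ne_zero (g := Matrix.SpecialLinearGroup.toGL g).1) (hb := e.ne_zero (g := Matrix.SpecialLinearGroup.toGL g).2) (ne_of_sq h k)
    have h4 := four_le_q (n.trans_eq e.inv_eq.symm)
    rcases d with d | d
    · obtain ⟨θ, rfl⟩ := S_DD hw h4 hχ d
      exact DD_spl hw _ e n
    · obtain ⟨θ, -, -, _, k'⟩ := S_HD hw hodd h4 hχ d
      have := k'.ds (Ev.ds (g := Matrix.SpecialLinearGroup.toGL g) e (ne_of_sq h k))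
      simpa [DD_spl hw _ e n] using this
  · have h := ell_iff.1 h
    have H : χ ∈ sH RS → χ g = 0 := fun ⟨θ, _, _, _, k'⟩ => by
      simpa [RS_ell _ h] using k'.ds (Ell.ds (g := Matrix.SpecialLinearGroup.toGL g) h)
    have := two_le_q (F := F)
    rcases d with d | d
    · obtain ⟨θ, rfl⟩ := S_RS hχ d
      exact RS_ell _ h
    obtain ⟨m, hm⟩ := hodd
    rcases irrS_deg hw hχ d with ⟨e, k⟩ | ⟨e, k⟩ | ⟨e, k⟩ | ⟨e, θ, rfl⟩ | ⟨e, k⟩ | ⟨e, k⟩ <;>
      first | omega | exact H k | skip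
    obtain ⟨z, hz, h1, h2⟩ := hw.exists_memS h
    rw [hχ.classFun.of_isConj h2]
    exact (DD_ell hw _ (z := ⟨z, hz⟩) h1).trans (by rw [DD_three hw (by omega) θ.2 h1.not_sc, neg_zero])

end Cfsg.Agent.S2322
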