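import Cfsg.Statements.S2328
import Cfsg.Agent.H6.Stb2
import Cfsg.Agent.S0907
import Cfsg.Agent.S0914

set_option autoImplicit false
open Cfsg

namespace Cfsg.Agent.S2328

open CfsgH6 Chev CfsgH3

/-- In a Chevalley group of type G₂, B₂, D₄, F₄, E₆, E₇ or E₈ over a finite field of characteristic p, the Steinberg character vanishes at every element whose order is divisible by p (every element that is not semisimple). -/
theorem result {F : Type*} [Field F] [Fintype F] (p : ℕ) [Fact p.Prime] [CharP F p] (D : Cfsg.Lie.ChevalleyDatum) (hD : D ∈ [Cfsg.Lie.chevG2, Cfsg.Lie.chevB2, Cfsg.Lie.chevD4, Cfsg.Lie.chevF4, Cfsg.Lie.chevE6, Cfsg.Lie.chevE7, Cfsg.Lie.chevE8]) (g : ↥(D.group F)) (hg : p ∣ orderOf g) :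
    D.steinbergCharacter F g = 0 := by
  obtain ⟨d⟩ := good_of_mem hD
  have := d.finiteG F
  rw [d.St_eq]
  have hχ := (d.isStG F).irr_St (d.adjG_G F)
  obtain ⟨P, hP⟩ := (d.isStG F).exists_sylow (d.multG F) (d.adjG_G F) p
  obtain ⟨M, hM⟩ := CfsgH4.exists_isPModular p
  have h1 := (Cfsg.Agent.S0914.result p M hM ⟨_, hχ⟩).mp (by
    rw [CfsgH4.charDegree_eq ((d.isStG F).St_one (d.adjG_G F)), ← hP, ← P.1.card_mul_index,
      Nat.mul_div_cancel_left _ Nat.card_pos]
    exact P.not_dvd_index)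
  have h2 := Cfsg.Agent.S0907.result p M hM _ ⟨⟨_, hχ⟩, rfl⟩ 1 g (by simpa using hM.1.one_lt.ne') hg
  rw [h1, finsum_mem_singleton] at h2
  simpa [hχ.one_ne_zero] using h2

end Cfsg.Agent.S2328
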