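import Cfsg.Statements.S2331
import Cfsg.Agent.H1.GL2d

set_option autoImplicit false
open Cfsg

namespace Cfsg.Agent.S2331

/-- Over a finite field with q elements, q even, the special linear group SL₂ has exactly q + 1 conjugacy classes. -/
theorem result {F : Type*} [Field F] [Fintype F] [CharP F 2] :
    Nat.card (ConjClasses (Matrix.SpecialLinearGroup (Fin 2) F)) = Fintype.card F + 1 := by
  open Subgroup CfsgH1 CfsgH3 CfsgH1.L2 in
  classical
  obtain ⟨w, hw⟩ := exists_ellS (F := F)
  have he : Even (Fintype.card F) := even_iff_two_dvd.2 (p_dvd_q 2)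
  have := ncard_RS_even he
  have := ncard_DD_even hw he
  rw [card_cls_S hw, sH_odd (odd_units he), sH_odd (hw.card_centS ▸ he.add_one), Set.ncard_empty]
  omega

end Cfsg.Agent.S2331
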