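import Cfsg.Statements.S2333
import Mathlib
import Cfsg.Agent.H8.LS7

set_option autoImplicit false
open Cfsg

namespace Cfsg.Agent.S2333

/-- For a finite field F of even order q and n ≥ 2 with (n, q) ≠ (2, 2), every irreducible complex representation of the symplectic group Sp_{2n}(F) of degree at least 2 has degree at least (q^n − 1)(q^n − q)/(2(q + 1)). -/
theorem result {F : Type*} [Field F] [Fintype F] [DecidableEq F] (n : ℕ) (hn : 2 ≤ n) (heven : Even (Fintype.card F)) (hex : (n, Fintype.card F) ≠ (2, 2)) :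
    (∀ (k : ℕ) (ρ : Representation ℂ (Matrix.symplecticGroup (Fin n) F) (Fin k → ℂ)), ρ.IsIrreducible → 2 ≤ k → (Fintype.card F ^ n - 1) * (Fintype.card F ^ n - Fintype.card F) / (2 * (Fintype.card F + 1)) ≤ k) := by
  intro k ρ hρ hk
  have h2 : (2 : F) = 0 := CfsgH5.two_eq_zero_of_not_odd (Nat.not_odd_iff_even.2 heven)
  letI : StarRing F := starRingOfComm
  haveI : TrivialStar F := ⟨fun _ => rfl⟩
  have h3 : 3 ≤ n ∨ (n = 2 ∧ 3 ≤ Fintype.card F) ∨ 4 ≤ Fintype.card F := by
    have := Fintype.one_lt_card (α := F)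
    simp only [ne_eq, Prod.mk.injEq] at hex
    omega
  have := CfsgH8.sp_bound_two h2 (by simpa using hn) ρ (x := Pi.single ⟨0, by omega⟩ 1) (y := Pi.single ⟨1, by omega⟩ 1)
    fun e => by
      obtain ⟨c, hc⟩ := (CfsgH5.mem_center_sp (by omega)).1 (CfsgH8.ker_le_center (CfsgH5.commutator_sp n h3)
        (CfsgH5.isSimple_PSp n (by omega) h3) ρ hρ (by simpa using hk) e)
      simpa [CfsgH8.xSp, CfsgH8.symV, Matrix.vecMulVec_apply, Pi.single_apply, Fin.ext_iff] using
        congrFun (congrFun hc (.inl ⟨0, by omega⟩)) (.inr ⟨1, by omega⟩)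
  rw [Fintype.card_fin, Module.finrank_fin_fun] at this
  exact Nat.div_le_of_le_mul this

end Cfsg.Agent.S2333
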