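import Cfsg.Statements.S2334
import Mathlib
import Cfsg.Agent.H8.LS5

set_option autoImplicit false
open Cfsg

namespace Cfsg.Agent.S2334

/-- For odd n ≥ 3 and a finite field F with q² elements, (n, q) ≠ (3, 2), every irreducible complex representation of the special unitary group SU_n(q) (the determinant-one isometries of the standard Hermitian form over F) of degree at least 2 has degree at least (q^n − q)/(q + 1). -/
theorem result {F : Type*} [Field F] [Fintype F] [DecidableEq F] (n q : ℕ) (hn : 3 ≤ n) (hodd : Odd n) (hF : Fintype.card F = q ^ 2) (hex : (n, q) ≠ (3, 2)) :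
    (∀ (k : ℕ) (ρ : Representation ℂ (Cfsg.SU n F q) (Fin k → ℂ)), ρ.IsIrreducible → 2 ≤ k → (q ^ n - q) / (q + 1) ≤ k) := by
  intro k ρ hρ hk
  obtain ⟨r, rfl⟩ := hodd
  letI := CfsgH8.stQ hF
  haveI : Nonempty (Fin r) := ⟨⟨0, by omega⟩⟩
  obtain ⟨U, U', h1, h2, h3, h4⟩ := CfsgH8.exists_frame hF (fun _ => rfl) (n := 2 * r + 1) (ι := Fin r) (κ := Unit)
    (Fintype.equivOfCardEq (by simp; ring))
  obtain ⟨w, h5, h6⟩ := h4 ()
  have h7 : ¬ (2 * r + 1 = 3 ∧ q = 2) := fun h => hex (Prod.ext h.1 h.2)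
  have := CfsgH8.su_odd hF (fun _ => rfl) (by omega) h1 h2 h3 h5 h6 ρ
    (CfsgH8.ker_le_center (CfsgH5.commutator_SU hF hn h7) (CfsgH5.isSimple_PSU hF hn h7) ρ hρ (by simpa using hk))
  rw [Fintype.card_fin, Module.finrank_fin_fun, Nat.mul_sub_one, ← pow_succ'] at this
  exact Nat.div_le_of_le_mul this

end Cfsg.Agent.S2334
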