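import Cfsg.Statements.S2336
import Cfsg.Agent.H3.Perm
import Cfsg.Agent.H3.Orth

set_option autoImplicit false
open Cfsg

namespace Cfsg.Agent.S2336

open CfsgH3 Matrix MulAction
open scoped ComplexConjugate
theorem dec {G ι : Type*} [Group G] [Fintype G] [Fintype ι] (f : ι → G → ℂ) (h : ∀ i, IsCharacter G (f i)) (h0 : ∀ i, f i ≠ 0) (N : ℕ)
    (hN : classInner (∑ i, f i) (∑ i, f i) = N) (le : N ≤ Fintype.card ι) : (∀ i, IsIrrCharacter G (f i)) ∧ Function.Injective f := by
  classical
  choose m hm using fun i j => (h i).inner_nat (h j)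
  have e : ∑ i, ∑ j, m i j = N := by
    simp only [inner_sum_left, inner_sum_right, hm] at hN
    rw [Finset.sum_comm]; exact_mod_cast hN
  have p : ∀ i, 1 ≤ m i i := fun i => Nat.pos_of_ne_zero fun k => h0 i (CfsgH3.inner_self_eq_zero.1 (by simp [hm, k]))
  have q : ∀ i, 1 ≤ ∑ j, m i j := fun i => (p i).trans (Finset.single_le_sum (f := m i) (by simp) (Finset.mem_univ i))
  have r := (Finset.sum_eq_sum_iff_of_le (s := Finset.univ) fun i _ => q i).1
    (le_antisymm (Finset.sum_le_sum fun i _ => q i) (by simpa [e] using le))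
  have s : ∀ i, m i i = 1 := fun i => le_antisymm ((Finset.single_le_sum (f := m i) (by simp) (Finset.mem_univ i)).trans (r i (by simp)).ge) (p i)
  refine ⟨fun i => (h i).irr_of_inner_eq_one (by simp [hm, s]), fun i j k => by_contra fun ne => ?_⟩
  have t : m i j = m i i := by have := hm i j; rw [← k, hm] at this; exact_mod_cast this.symm
  have := Finset.add_le_sum (s := Finset.univ) (f := m i) (by simp) (Finset.mem_univ i) (Finset.mem_univ j) ne
  have := r i (by simp)
  have := s i
  omega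
variable {F : Type*} [Field F] {n : ℕ}
theorem tr (hn : 3 ≤ n) {v w : Fin n → F} (h : LinearIndependent F ![v, w]) : ∃ g : SpecialLinearGroup (Fin n) F,
    g.1 *ᵥ Pi.single ⟨0, by omega⟩ 1 = v ∧ g.1 *ᵥ Pi.single ⟨1, by omega⟩ 1 = w := by
  have h0 : LinearIndependent F ![(Pi.single ⟨0, by omega⟩ 1 : Fin n → F), Pi.single ⟨1, by omega⟩ 1] :=
    LinearIndependent.pair_iff.2 fun s t e => ⟨by simpa [Pi.single_apply, Fin.ext_iff] using congrFun e ⟨0, by omega⟩, by simpa [Pi.single_apply, Fin.ext_iff] using congrFun e ⟨1, by omega⟩⟩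
  obtain ⟨g, hg⟩ := Submodule.exists_linearEquiv_restrict_eq (h0.linearCombinationEquiv.symm ≪≫ₗ h.linearCombinationEquiv)
  have a := hg (h0.linearCombinationEquiv (Finsupp.single 0 1))
  have b := hg (h0.linearCombinationEquiv (Finsupp.single 1 1))
  simp at a b
  have d : (LinearMap.toMatrix' g.toLinearMap).det ≠ 0 := by
    rw [LinearMap.det_toMatrix']; exact (LinearEquiv.isUnit_det' g).ne_zero
  refine ⟨⟨LinearMap.toMatrix' g.toLinearMap * diagonal (Pi.mulSingle ⟨2, by omega⟩ (LinearMap.toMatrix' g.toLinearMap).det⁻¹), by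
    rw [det_mul, det_diagonal, Finset.prod_pi_mulSingle', if_pos (Finset.mem_univ _), mul_inv_cancel₀ d]⟩, ?_, ?_⟩ <;>
  simp only [← mulVec_mulVec, diagonal_mulVec_single] <;> simp [Pi.mulSingle_apply, a, b] <;> ext <;> simp
def X (n : ℕ) (F : Type*) [Field F] := {v : Fin n → F // v ≠ 0}
instance : MulAction (SpecialLinearGroup (Fin n) F × Fˣ) (X n F) where
  smul p v := ⟨p.2 • p.1.1 *ᵥ v.1, (smul_ne_zero_iff_ne _).2 fun h => v.2 (by
    simpa [adjugate_mul] using congrArg (p.1⁻¹.1 *ᵥ ·) h)⟩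
  one_smul v := Subtype.ext (show (1 : Fˣ) • (1 : Matrix _ _ F) *ᵥ v.1 = v.1 by simp)
  mul_smul p q v := Subtype.ext (show (p.2 * q.2) • (p.1.1 * q.1.1) *ᵥ v.1 = p.2 • p.1.1 *ᵥ (q.2 • q.1.1 *ᵥ v.1) by
    simp [mulVec_smul, mul_smul])
instance : MulAction (SpecialLinearGroup (Fin n) F) (X n F) := .compHom _ (MonoidHom.inl _ Fˣ)
instance [Finite F] : Finite (X n F) := Subtype.finite
theorem sm (p : SpecialLinearGroup (Fin n) F × Fˣ) (v : X n F) : (p • v).1 = p.2 • p.1.1 *ᵥ v.1 := rfl
theorem sm' (g : SpecialLinearGroup (Fin n) F) (v : X n F) : (g • v).1 = g.1 *ᵥ v.1 := one_smul Fˣ _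
theorem orbs [Fintype F] (hn : 3 ≤ n) : Nat.card (orbitRel.Quotient (SpecialLinearGroup (Fin n) F) (X n F × X n F)) ≤ Fintype.card F := by
  classical
  rw [← Nat.card_eq_fintype_card]
  let e (i : Fin n) : X n F := ⟨Pi.single i 1, by simp⟩
  refine Nat.card_le_card_of_surjective (fun c : F => Quotient.mk'' (e ⟨0, by omega⟩, if h : c = 0 then e ⟨1, by omega⟩ else
    ⟨c • (e ⟨0, by omega⟩).1, smul_ne_zero h (e _).2⟩)) fun q => ?_
  obtain ⟨⟨v, w⟩, rfl⟩ := Quotient.mk''_surjective q
  by_cases h : LinearIndependent F ![v.1, w.1]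
  · obtain ⟨g, a, b⟩ := tr hn h
    refine ⟨0, (Quotient.sound' ((orbitRel_apply (G := SpecialLinearGroup (Fin n) F) (α := X n F × X n F)).2 ⟨g, ?_⟩)).symm⟩
    erw [dif_pos rfl]
    exact Prod.ext (Subtype.ext ((sm' _ _).trans a)) (Subtype.ext ((sm' _ _).trans b))
  · rw [LinearIndependent.pair_iff' v.2] at h
    obtain ⟨c, hc⟩ : ∃ c : F, c • v.1 = w.1 := by simpa using h
    obtain ⟨u, hu⟩ := exists_linearIndependent_pair_of_one_lt_finrank (R := F) (by simp; omega) v.2
    obtain ⟨g, a, -⟩ := tr hn hu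
    have c0 : c ≠ 0 := fun k => w.2 (by simp [← hc, k])
    refine ⟨c, (Quotient.sound' ((orbitRel_apply (G := SpecialLinearGroup (Fin n) F) (α := X n F × X n F)).2 ⟨g, ?_⟩)).symm⟩
    erw [dif_neg c0]
    exact Prod.ext (Subtype.ext ((sm' _ _).trans a)) (Subtype.ext ((sm' _ _).trans ((mulVec_smul _ _ _).trans ((congrArg _ a).trans hc))))

/-- Let F be a finite field with q elements and n ≥ 3. The permutation character of SL_n(F) on the non-zero vectors of F^n (the function sending a matrix to the number of non-zero vectors it fixes) is the sum of the principal character and q − 1 pairwise distinct irreducible complex characters. -/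
theorem result {F : Type*} [Field F] [Fintype F] [DecidableEq F] (n : ℕ) (hn : 3 ≤ n) :
    ∃ χ : Fin (Fintype.card F - 1) → (Matrix.SpecialLinearGroup (Fin n) F → ℂ),
      (∀ i, Cfsg.IsIrrCharacter (Matrix.SpecialLinearGroup (Fin n) F) (χ i)) ∧ Function.Injective χ ∧
      ∀ g : Matrix.SpecialLinearGroup (Fin n) F,
        (Nat.card {v : Fin n → F // v ≠ 0 ∧ (g : Matrix (Fin n) (Fin n) F).mulVec v = v} : ℂ) = 1 + ∑ i, χ i g := by
  classical
  set P := permChar (G := SpecialLinearGroup (Fin n) F × Fˣ) (X n F) with hP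
  have hc : IsCharacter _ P := isChar_permChar
  have k0 := card_ne_zero_complex Fˣ
  let θ : IrrCharacter Fˣ → SpecialLinearGroup (Fin n) F → ℂ := fun l g => (Nat.card Fˣ : ℂ)⁻¹ * ∑ a, P (g, a) * conj (l.1 a)
  have ip : ∀ l χ, classInner (θ l) χ = classInner P (fun p => χ p.1 * l.1 p.2) := fun l χ => by
    simp only [classInner, θ, Fintype.sum_prod_type, Nat.card_prod, Nat.cast_mul, mul_inv, map_mul, Finset.mul_sum, Finset.sum_mul]
    exact Finset.sum_congr rfl fun _ _ => Finset.sum_congr rfl fun _ _ => by ring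
  have ch : ∀ l, IsCharacter _ (θ l) := fun l => isChar_of_inner_nat (fun g h => by
      simp only [θ]; congr 1; refine Finset.sum_congr rfl fun a _ => ?_; rw [← hc.classFun (g, a) (h, 1)]; simp)
    fun χ hχ => by rw [ip]; exact hc.inner_nat ((hχ.isChar.comp (MonoidHom.fst _ Fˣ)).mul (l.2.isChar.comp (MonoidHom.snd _ Fˣ)) :)
  have l1 : ∀ l : IrrCharacter Fˣ, l.1 1 = 1 := fun l => l.2.deg_one_of_comm mul_comm
  have orth : ∀ a : Fˣ, ∑ l : IrrCharacter Fˣ, conj (l.1 a) = if a = 1 then (Nat.card Fˣ : ℂ) else 0 := fun a => by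
    have := sum_irr_mul_conj_eq_card 1 a
    split_ifs with h <;> simpa [l1, h] using this
  have su : ∑ l, θ l = permChar (X n F) := by
    ext g
    simp only [θ, Finset.sum_apply, ← Finset.mul_sum]
    rw [Finset.sum_comm]
    simp only [← Finset.mul_sum, orth, mul_ite, mul_zero, Finset.sum_ite_eq', Finset.mem_univ, if_true]
    rw [mul_comm, mul_inv_cancel_right₀ k0]; rfl
  have cI : Fintype.card (IrrCharacter Fˣ) = Fintype.card F - 1 := by
    have := orth 1
    simp only [l1, map_one, Finset.sum_const, Finset.card_univ, nsmul_eq_mul, mul_one, if_true, Nat.cast_inj] at this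
    rw [this, Nat.card_eq_fintype_card, Fintype.card_units]
  have dg : ∀ l, θ l 1 = (Nat.card Fˣ : ℂ)⁻¹ * Nat.card (X n F) := fun l => by
    simp only [θ]
    rw [Finset.sum_eq_single 1 (fun a _ h => ?_) (by simp), l1]
    · simp [hP, permChar, show ((1, 1) : SpecialLinearGroup (Fin n) F × Fˣ) = 1 from rfl]
    · haveI : IsEmpty (fixedBy (X n F) ((1, a) : SpecialLinearGroup (Fin n) F × Fˣ)) := ⟨fun v => h (Units.ext (smul_left_injective F v.1.2 (by
        simpa [sm, Units.smul_def] using congrArg Subtype.val v.2)))⟩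
      simp [hP, permChar]
  have lt : Nat.card Fˣ < Nat.card (X n F) := by
    have a : Nat.card (X n F) = Fintype.card F ^ n - 1 := by simp [X, Fintype.card_subtype_compl]
    have := Nat.pow_lt_pow_right (Fintype.one_lt_card (α := F)) (show 1 < n by omega)
    have := Fintype.one_lt_card (α := F)
    rw [a, Nat.card_eq_fintype_card, Fintype.card_units]; rw [pow_one] at *; omega
  haveI : Nonempty (X n F) := (Nat.card_pos_iff.1 (by omega)).1
  let o : IrrCharacter Fˣ := ⟨fun _ => 1, isIrr_one⟩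
  let f : Option (IrrCharacter Fˣ) → SpecialLinearGroup (Fin n) F → ℂ := fun i =>
    i.elim 1 fun l => θ l - if l = o then 1 else 0
  have sf : ∑ i, f i = permChar (X n F) := by simp [f, Fintype.sum_option, su]
  obtain ⟨h1, h2⟩ := dec f (by
      rintro (_ | l)
      · exact isChar_one
      by_cases h : l = o
      · simp only [f, Option.elim, if_pos h]
        refine (ch l).sub_constituent isIrr_one ?_
        rw [ip, h]; simp only [o, mul_one, Pi.one_apply]; rw [hP, ip_permChar_one]; exact @card_ne_zero_complex _ _ ⟨Quotient.mk'' (Classical.arbitrary _)⟩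
      · simpa [f, h] using ch l) (by
      rintro (_ | l) h
      · simpa [f] using congrFun h 1
      have := congrFun h 1
      simp only [f, Option.elim, Pi.sub_apply, dg, Pi.zero_apply, sub_eq_zero, inv_mul_eq_iff_eq_mul₀ k0] at this
      split_ifs at this <;> simp only [mul_one, Pi.one_apply, Pi.zero_apply, mul_zero, Nat.cast_inj, Nat.cast_eq_zero] at this <;> omega) _
    (by
      refine Eq.trans ?_ (ip_permChar_one (X := X n F × X n F))
      rw [sf, permChar_prod, CfsgH3.inner_mul_left]; simp [permChar]; rfl)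
    ((orbs hn).trans (by have := Fintype.one_lt_card (α := F); rw [Fintype.card_option, cI]; omega))
  let e := (Fintype.equivFinOfCardEq cI).symm
  refine ⟨fun i => f (some (e i)), fun i => h1 _, fun i j h => e.injective (Option.some_injective _ (h2 h)), fun g => ?_⟩
  have := congrFun sf g
  rw [Fintype.sum_option, Pi.add_apply, Finset.sum_apply, ← e.sum_comp] at this
  refine Eq.trans ?_ this.symm
  exact congrArg Nat.cast (Nat.card_congr ⟨fun v => ⟨⟨v.1, v.2.1⟩, Subtype.ext ((sm' _ _).trans v.2.2)⟩,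
    fun v => ⟨v.1.1, v.1.2, (sm' _ _).symm.trans (congrArg Subtype.val v.2)⟩, fun _ => rfl, fun _ => rfl⟩)

end Cfsg.Agent.S2336
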