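import Cfsg.Statements.S2345
import Mathlib
import Cfsg.Agent.H8.OW4

set_option autoImplicit false
open Cfsg

namespace Cfsg.Agent.S2345

/-- For a finite field F with q > 3 elements and n ≥ 4, every irreducible complex representation of degree at least 2 of Ω⁺_{2n}(F) (the commutator subgroup of the isometry group of the hyperbolic quadratic form x₁y₁ + ⋯ + x_ny_n) has degree at least (q^n − 1)(q^{n−1} + q)/(q² − 1). -/
theorem result {F : Type*} [Field F] [Fintype F] (n : ℕ) (hn : 4 ≤ n) (h3 : 3 < Fintype.card F) :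
    (∀ (k : ℕ) (ρ : Representation ℂ (Cfsg.Omega F (Cfsg.quadFormPlus n F)) (Fin k → ℂ)), ρ.IsIrreducible → 2 ≤ k → (Fintype.card F ^ n - 1) * (Fintype.card F ^ (n - 1) + Fintype.card F) / (Fintype.card F ^ 2 - 1) ≤ k) := by
  intro k ρ hρ hk
  obtain ⟨j, rfl⟩ : ∃ j, n = j + 3 := ⟨n - 3, by omega⟩
  let E := CfsgH5.omEquiv (S := CfsgH5.plusForm (j + 3) F) (Q := Cfsg.quadFormPlus (j + 3) F) (CfsgH5.plusForm_Q _)
  have h1 := CfsgH8.plus_bound h3 j (CfsgH5.plusForm_nondeg (F := F) (j + 3)) (CfsgH5.plusForm_isPlus _)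
    (by rw [CfsgH5.finrank_sp]) (ρ.comp E.symm.toMonoidHom) (not_forall.1 fun h => by
      obtain ⟨v, hv⟩ : ∃ v : Fin k → ℂ, v ≠ 0 := ⟨fun _ => 1, fun e => one_ne_zero (congrFun e ⟨0, by omega⟩)⟩
      let W : Subrepresentation ρ := ⟨Submodule.span ℂ {v}, fun g w hw => by
        rwa [show ρ g = 1 by simpa using h (E g)]⟩
      have h1 := finrank_span_singleton (K := ℂ) hv
      rcases hρ.eq_bot_or_eq_top W with h2 | h2
      · rw [show Submodule.span ℂ {v} = ⊥ from congrArg Subrepresentation.toSubmodule h2, finrank_bot] at h1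
        omega
      · rw [show Submodule.span ℂ {v} = ⊤ from congrArg Subrepresentation.toSubmodule h2, finrank_top,
          Module.finrank_fin_fun] at h1
        omega)
  rw [Module.finrank_fin_fun] at h1
  refine le_trans (Nat.div_le_of_le_mul (le_of_eq ?_)) h1
  have h2 := CfsgH8.dP_eq (show 1 ≤ Fintype.card F by omega) j
  zify [Nat.one_le_pow _ _ (show 0 < Fintype.card F by omega)]
  exact h2.symm

end Cfsg.Agent.S2345
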