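import Cfsg.Statements.S2347
import Mathlib
import Cfsg.Agent.H8.LS6

set_option autoImplicit false
open Cfsg

namespace Cfsg.Agent.S2347

/-- Smallest degree of a non-linear irreducible complex representation of the symplectic group Sp_{2n} over a finite field of odd order q, n ≥ 2: every irreducible complex representation of degree at least 2 has degree at least (q^n − 1)/2, and there is an irreducible complex representation of exactly that degree (a Weil representation). -/
theorem result {F : Type*} [Field F] [Fintype F] [DecidableEq F] (n : ℕ) (hn : 2 ≤ n) (hodd : Odd (Fintype.card F)) :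
    (∀ (k : ℕ) (ρ : Representation ℂ (Matrix.symplecticGroup (Fin n) F) (Fin k → ℂ)), ρ.IsIrreducible → 2 ≤ k → (Fintype.card F ^ n - 1) / 2 ≤ k) ∧
    (∃ ρ : Representation ℂ (Matrix.symplecticGroup (Fin n) F) (Fin ((Fintype.card F ^ n - 1) / 2) → ℂ), ρ.IsIrreducible) := by
  have h2 := CfsgH5.two_ne_zero_of_odd hodd
  refine ⟨fun k ρ hρ hk => ?_, CfsgH8.weil_irr h2 hn⟩
  letI : StarRing F := starRingOfComm
  obtain ⟨X, hX⟩ := CfsgH8.xSp_not_mem (F := F) (fun _ => rfl) (m := n) (by omega)
  have h3 : 3 ≤ n ∨ (n = 2 ∧ 3 ≤ Fintype.card F) ∨ 4 ≤ Fintype.card F := by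
    have := Fintype.one_lt_card (α := F)
    obtain ⟨k, hk⟩ := hodd
    omega
  have := CfsgH8.sp_bound (fun _ => rfl) (Nat.cast_ne_zero.2 Fintype.card_ne_zero) h2 ρ ⟨X, fun e => hX
    (CfsgH8.ker_le_center (CfsgH5.commutator_sp n h3) (CfsgH5.isSimple_PSp n (by omega) h3) ρ hρ (by simpa using hk) e)⟩
  rw [Fintype.card_fin, Module.finrank_fin_fun] at this
  omega

end Cfsg.Agent.S2347
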