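import Cfsg.Statements.S2354
import Mathlib
import Cfsg.Agent.H8.PingPong
import Cfsg.Agent.H8.SzBasic

set_option autoImplicit false
open Cfsg

namespace Cfsg.Agent.S2354

open Polynomial CfsgH8 Matrix

/-- generic free generators -/
def gen {R : Type*} [CommRing R] (s r : R) (i : ℕ) : GL (Fin 4) R :=
  szUp (s ^ (2 * i + 1)) (r ^ (2 * i + 1)) * szLo s r * szUp (s ^ (2 * i + 2)) (r ^ (2 * i + 2))

theorem map_gen {R S : Type*} [CommRing R] [CommRing S] (φ : R →+* S) (s r : R) (i : ℕ) :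
    GeneralLinearGroup.map φ (gen s r i) = gen (φ s) (φ r) i := by
  simp only [gen, map_mul, map_szUp, map_szLo, map_pow]

theorem deg_aux {S : Type*} [CommRing S] [IsDomain S] {b c x y z t : S[X]} (hb : b.degree ≤ 0)
    (hc : 0 < c.degree) (hx : x.degree < t.degree) (hy : y.degree < t.degree)
    (hz : z.degree < t.degree) :
    (y + b * t).degree < (x + b * z + c * t).degree ∧ z.degree < (x + b * z + c * t).degree ∧
      t.degree < (x + b * z + c * t).degree := by
  have ht : t ≠ 0 := by rintro rfl; simp at hx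
  have hc0 : c ≠ 0 := by rintro rfl; simp at hc
  have h1 : t.degree < (c * t).degree := by
    rw [degree_mul, degree_eq_natDegree ht]
    rw [degree_eq_natDegree hc0] at hc ⊢
    norm_cast at hc ⊢; omega
  have h2 : ∀ u : S[X], (b * u).degree ≤ u.degree := by
    intro u
    rw [degree_mul]
    simpa using add_le_add_left hb u.degree
  have h3 : (x + b * z + c * t).degree = (c * t).degree :=
    degree_add_eq_right_of_degree_lt ((degree_add_le _ _).trans_lt
      (max_lt (hx.trans h1) (((h2 z).trans_lt hz).trans h1)))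
  rw [h3]
  exact ⟨(degree_add_le _ _).trans_lt (max_lt (hy.trans h1) ((h2 t).trans_lt h1)), hz.trans h1, h1⟩

theorem good_aux {S : Type*} [CommRing S] [IsDomain S] {a b : ℕ} (ha : a ≠ 0) (hab : a ≠ b)
    (c d : S[X]) (hc : c = X ^ a ∨ c = -X ^ a) (hd : d = X ^ b ∨ d = -X ^ b ∨ d = 0) :
    0 < (c + d).degree := by
  have : (c + d).coeff a ≠ 0 := by
    rcases hc with rfl | rfl <;> rcases hd with rfl | rfl | rfl <;> simp [coeff_X_pow, hab]
  exact lt_of_lt_of_le (by exact_mod_cast Nat.pos_of_ne_zero ha) (le_degree_of_ne_zero this)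

theorem entry_ne_zero {S : Type*} [CommRing S] [IsDomain S] (s : S) (w : FreeGroup ℕ) (hw : w ≠ 1) :
    ((FreeGroup.lift (gen (C s) (X : S[X])) w : GL (Fin 4) S[X]) : Matrix (Fin 4) (Fin 4) S[X]) 0 3
      ≠ 0 := by
  have hy : ∀ b c : S[X], b.degree ≤ 0 → 0 < c.degree →
      ∀ v ∈ {v : Fin 4 → S[X] | (v 1).degree < (v 0).degree ∧ (v 2).degree < (v 0).degree ∧
        (v 3).degree < (v 0).degree}, szLo b c • v ∈
      {v : Fin 4 → S[X] | (v 2).degree < (v 3).degree ∧ (v 1).degree < (v 3).degree ∧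
        (v 0).degree < (v 3).degree} := by
    rintro b c hb hc v ⟨h1, h2, h3⟩
    change ((szUpM b c)ᵀ *ᵥ v) ∈ _
    rw [szLo_mulVec]
    exact deg_aux hb hc h3 h2 h1
  have hC : ∀ a b : ℕ, ∀ x y : S[X], (x = C s ^ a ∨ x = -C s ^ a) →
      (y = C s ^ b ∨ y = -C s ^ b ∨ y = 0) → (x + y).degree ≤ 0 := by
    intro a b x y hx hy
    refine (degree_add_le _ _).trans (max_le ?_ ?_)
    · rcases hx with rfl | rfl <;> simp only [degree_neg, ← C_pow, degree_C_le]
    · rcases hy with rfl | rfl | rfl <;> simp only [degree_neg, ← C_pow, degree_C_le, degree_zero, bot_le]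
  have := pingpong (G := GL (Fin 4) S[X]) (X := Fin 4 → S[X]) (M := S[X] × S[X])
    {v : Fin 4 → S[X] | (v 1).degree < (v 0).degree ∧ (v 2).degree < (v 0).degree ∧
        (v 3).degree < (v 0).degree}
    {v : Fin 4 → S[X] | (v 2).degree < (v 3).degree ∧ (v 1).degree < (v 3).degree ∧
        (v 0).degree < (v 3).degree}
    (fun c => szUp c.1 c.2) (fun a b => szUp_add _ _ _ _) (fun c => c.1.degree ≤ 0 ∧ 0 < c.2.degree) ?_
    (szLo (C s) X) (hy _ _ degree_C_le (by simp))
    (by rw [szLo_inv]; exact hy _ _ (by rw [degree_neg]; exact degree_C_le) (by simp))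
    (fun i => (C s ^ (2 * i + 1), X ^ (2 * i + 1))) (fun i => (C s ^ (2 * i + 2), X ^ (2 * i + 2)))
    (fun i j => ⟨hC _ _ _ _ (Or.inl rfl) (Or.inl rfl),
      good_aux (by omega) (by omega) _ _ (Or.inl rfl) (Or.inl rfl)⟩)
    (fun i j h => ⟨hC _ _ _ _ (Or.inl rfl) (Or.inr (Or.inl rfl)),
      good_aux (by omega) (by omega) _ _ (Or.inl rfl) (Or.inr (Or.inl rfl))⟩)
    (fun i j h => ⟨hC _ _ _ _ (Or.inr rfl) (Or.inl rfl),
      good_aux (by omega) (by omega) _ _ (Or.inr rfl) (Or.inl rfl)⟩)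
    (fun i j => ⟨hC _ _ _ _ (Or.inr rfl) (Or.inr (Or.inl rfl)),
      good_aux (by omega) (by omega) _ _ (Or.inr rfl) (Or.inr (Or.inl rfl))⟩)
    (fun i => ⟨by simp only [← C_pow, degree_C_le], by simp; positivity⟩)
    (fun i => ⟨by simp only [← C_pow, degree_C_le], by simp; positivity⟩)
    (fun i => ⟨by simp only [Prod.fst_neg, degree_neg, ← C_pow, degree_C_le], by simp; positivity⟩)
    (fun i => ⟨by simp only [Prod.fst_neg, degree_neg, ← C_pow, degree_C_le], by simp; positivity⟩)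
    w hw (Pi.single 3 1) (by simp)
  · have h := this.1
    change _ < (((FreeGroup.lift (gen (C s) (X : S[X])) w : GL (Fin 4) S[X]).1 *ᵥ Pi.single 3 1) 0).degree
      at h
    rw [Matrix.mulVec_single_one] at h
    intro h0
    have h1 : ((FreeGroup.lift (gen (C s) (X : S[X])) w : GL (Fin 4) S[X]).1.col 3) 0 = 0 := h0
    rw [h1] at h
    simp at h
  · rintro ⟨b, c⟩ ⟨hb, hc⟩ v ⟨h1, h2, h3⟩
    change (szUpM b c *ᵥ v) ∈ _
    rw [szUp_mulVec]
    exact deg_aux hb hc h3 h2 h1

theorem eval_ne_zero {K : Type*} [CommRing K] (P : K[X][X]) (hP : P ≠ 0) (D e : ℕ)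
    (hD : ∀ j, (P.coeff j).natDegree ≤ D) (he : D < e) :
    P.eval (X ^ e) ≠ 0 ∧ (P.eval (X ^ e)).natDegree ≤ D + e * P.natDegree := by
  rw [eval_eq_sum_range]
  constructor
  · intro h0
    have := congrArg (fun f => f.coeff (P.leadingCoeff.natDegree + e * P.natDegree)) h0
    simp only [Finset.sum_range_succ, coeff_add, finsetSum_coeff, ← pow_mul, coeff_mul_X_pow,
      coeff_zero] at this
    rw [Finset.sum_eq_zero, zero_add] at this
    · exact (leadingCoeff_ne_zero.2 (leadingCoeff_ne_zero.2 hP)) this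
    · intro j hj
      rw [Finset.mem_range] at hj
      rw [coeff_mul_X_pow']
      split_ifs with h1
      · apply coeff_eq_zero_of_natDegree_lt
        have h2 : e * (j + 1) ≤ e * P.natDegree := Nat.mul_le_mul_left _ hj
        have := hD j
        rw [mul_add] at h2
        omega
      · rfl
  · apply natDegree_sum_le_of_forall_le
    intro j hj
    rw [Finset.mem_range] at hj
    refine natDegree_mul_le.trans (add_le_add (hD j) ?_)
    rw [← pow_mul]
    exact (natDegree_X_pow_le _).trans (Nat.mul_le_mul_left _ (by omega))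

/-- A non-trivial law holds in only finitely many Suzuki groups: for every non-trivial element w of the free group on countably many generators there is N such that for q = 2^(2m+1) with m ≥ N some substitution of elements of the Suzuki group over the field with q elements into w is not the identity. -/
theorem result (w : FreeGroup ℕ) (hw : w ≠ 1) :
    ∃ N : ℕ, ∀ (F : Type*) [Field F] [Fintype F] (m : ℕ), 1 ≤ m → N ≤ m →
      Fintype.card F = 2 ^ (2 * m + 1) →
      ∃ f : ℕ → ↥(Cfsg.Lie.Sz F (2 ^ (m + 1))), FreeGroup.lift f w ≠ 1 := by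
  set P : (ZMod 2)[X][X] := ((FreeGroup.lift (gen (C X) (X : (ZMod 2)[X][X])) w :
    GL (Fin 4) (ZMod 2)[X][X]) : Matrix (Fin 4) (Fin 4) (ZMod 2)[X][X]) 0 3 with hPdef
  have hP : P ≠ 0 := entry_ne_zero X w hw
  obtain ⟨D, hD⟩ : ∃ D, ∀ j, (P.coeff j).natDegree ≤ D := by
    refine ⟨P.support.sup (fun j => (P.coeff j).natDegree), fun j => ?_⟩
    by_cases hj : j ∈ P.support
    · exact Finset.le_sup (f := fun j => (P.coeff j).natDegree) hj
    · rw [notMem_support_iff] at hj
      simp [hj]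
  refine ⟨D + P.natDegree + 1, fun F _ _ m hm hN hF => ?_⟩
  haveI : CharP F 2 := charP_of_card_eq_prime_pow hF
  have h2m : m < 2 ^ m := Nat.lt_two_pow_self
  set e := 2 ^ (m + 1) with he
  have hDe : D < e := by rw [he, pow_succ]; omega
  obtain ⟨h1, h2⟩ := eval_ne_zero P hP D e hD hDe
  let ι : ZMod 2 →+* F := ZMod.castHom (dvd_refl 2) F
  have h3 : (P.eval (X ^ e)).map ι ≠ 0 := by
    rwa [Ne, Polynomial.map_eq_zero_iff ι.injective]
  obtain ⟨a, ha⟩ : ∃ a : F, eval a ((P.eval (X ^ e)).map ι) ≠ 0 := by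
    by_contra hcon
    push Not at hcon
    refine h3 (eq_zero_of_natDegree_lt_card_of_eval_eq_zero _ Function.injective_id hcon ?_)
    refine lt_of_le_of_lt (natDegree_map_le.trans h2) ?_
    have h4 : 2 ^ (2 * m + 1) = e * 2 ^ m := by rw [he, ← pow_add]; congr 1; ring
    rw [hF, h4]
    have h5 : e * (P.natDegree + 1) ≤ e * 2 ^ m := Nat.mul_le_mul_left _ (by omega)
    rw [mul_add] at h5
    omega
  let φ : (ZMod 2)[X][X] →+* F := (eval₂RingHom ι a).comp (evalRingHom (X ^ e))
  have he0 : e ≠ 0 := by omega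
  have hmem : ∀ i, gen a (a ^ e) i ∈ Cfsg.Lie.Sz F e := by
    intro i
    simp only [gen, ← pow_mul, mul_comm e]
    simp only [pow_mul a _ e]
    exact mul_mem (mul_mem (szUp_mem he0 _ (sz_pow_pow hF _)) (szLo_mem he0 _ (sz_pow_pow hF _)))
      (szUp_mem he0 _ (sz_pow_pow hF _))
  refine ⟨fun i => ⟨gen a (a ^ e) i, hmem i⟩, fun h => ha ?_⟩
  have h6 := map_lift (Cfsg.Lie.Sz F e).subtype (fun i => ⟨gen a (a ^ e) i, hmem i⟩) w
  rw [h, map_one] at h6
  have h7 := map_lift (GeneralLinearGroup.map φ) (gen (C X) (X : (ZMod 2)[X][X])) w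
  simp only [map_gen] at h7
  have h8 : φ (C X) = a := by simp [φ]
  have h9 : φ X = a ^ e := by simp [φ]
  rw [h8, h9] at h7
  have h10 := h7.trans h6.symm
  have h11 : φ P = (1 : Matrix (Fin 4) (Fin 4) F) 0 3 := by
    have := congrArg (fun g : GL (Fin 4) F => (g : Matrix (Fin 4) (Fin 4) F) 0 3) h10
    exact this
  rw [eval_map]
  simpa [φ] using h11

end Cfsg.Agent.S2354
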