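import Cfsg.Statements.S2355
import Mathlib
import Cfsg.Agent.H8.PingPong
import Cfsg.Agent.H8.Embed
import Cfsg.Agent.H8.SU2
import Cfsg.Agent.S2352

set_option autoImplicit false
open Cfsg

namespace Cfsg.Agent.S2355

/-- `X` contains a perfect subgroup in which `w` is not a law modulo the centre -/
def Emb (w : FreeGroup ℕ) (X : Type) [Group X] : Prop :=
  ∃ (H : Type) (_ : Group H) (φ : H →* X), Function.Injective φ ∧ commutator H = ⊤ ∧
    ∃ f : ℕ → H, FreeGroup.lift f w ∉ Subgroup.center H

theorem Emb.map {w : FreeGroup ℕ} {X Y : Type} [Group X] [Group Y] (h : Emb w X)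
    (hφ : ∃ φ : X →* Y, Function.Injective φ) : Emb w Y := by
  obtain ⟨H, _, ψ, h1, h2, h3⟩ := h
  obtain ⟨φ, hφ⟩ := hφ
  exact ⟨H, inferInstance, φ.comp ψ, hφ.comp h1, h2, h3⟩

theorem Emb.comm {w : FreeGroup ℕ} {X : Type} [Group X] (h : Emb w X) : Emb w (commutator X) := by
  obtain ⟨H, _, ψ, h1, h2, h3⟩ := h
  obtain ⟨φ, hφ⟩ := CfsgH8.exists_injective_codRestrict ψ (commutator X) (by
    intro x
    have : x ∈ commutator H := h2 ▸ Subgroup.mem_top x
    have h4 := Subgroup.mem_map_of_mem ψ this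
    rw [commutator_def, Subgroup.map_commutator] at h4
    exact Subgroup.commutator_mono le_top le_top h4) h1
  exact ⟨H, inferInstance, φ, hφ, h2, h3⟩

theorem Emb.not_law {w : FreeGroup ℕ} {X : Type} [Group X] (h : Emb w X) {G : Type*} [Group G]
    (e : G ≃* X ⧸ Subgroup.center X) : ¬ ∀ f : ℕ → G, FreeGroup.lift f w = 1 := by
  obtain ⟨H, _, ψ, h1, h2, h3⟩ := h
  obtain ⟨f, hf⟩ := CfsgH8.exists_not_law_of_injective e.symm.toMonoidHom e.symm.injective
    (CfsgH8.exists_quotient_center_not_law (CfsgH8.exists_not_center_of_injective ψ h1 h3))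
  exact fun h => hf (h f)

theorem card_le {X : Type} [Group X] {G : Type*} [Group G] (e : G ≃* X ⧸ Subgroup.center X)
    {τ F : Type} [Fintype τ] [Fintype F] (j : X → Matrix τ τ F) (hj : Function.Injective j)
    {B D : ℕ} (hB : Fintype.card F ≤ B) (hD : Fintype.card τ ≤ D) (hB1 : 1 ≤ B) :
    Nat.card G ≤ B ^ (D * D) := by
  classical
  haveI : Finite X := Finite.of_injective j hj
  calc Nat.card G = Nat.card (X ⧸ Subgroup.center X) := Nat.card_congr e.toEquiv
    _ ≤ Nat.card X := Nat.card_le_card_of_surjective _ QuotientGroup.mk_surjective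
    _ ≤ Nat.card (Matrix τ τ F) := Nat.card_le_card_of_injective j hj
    _ = Fintype.card F ^ (Fintype.card τ * Fintype.card τ) := by
      change Nat.card (τ → τ → F) = _
      rw [Nat.card_fun, Nat.card_fun, pow_mul]
      simp
    _ ≤ B ^ (Fintype.card τ * Fintype.card τ) := Nat.pow_le_pow_left hB _
    _ ≤ _ := Nat.pow_le_pow_right hB1 (Nat.mul_le_mul hD hD)

/-- A non-trivial law is satisfied by only finitely many finite simple groups that are alternating or classical, up to isomorphism: for every non-trivial element w of the free group on countably many generators there is a bound N such that every alternating group of degree ≥ 5 and every simple classical group (linear, symplectic, unitary or orthogonal, in this problem's sense) in which w is a law has order at most N. -/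
theorem result (w : FreeGroup ℕ) (hw : w ≠ 1) :
    ∃ N : ℕ, ∀ (G : Type*) [Group G] [Finite G],
      (Cfsg.IsAlternating G ∨ Cfsg.IsPSL G ∨ Cfsg.IsPSp G ∨ Cfsg.IsPSU G ∨ Cfsg.IsPOmegaOdd G ∨
          Cfsg.IsPOmegaPlus G ∨ Cfsg.IsPOmegaMinus G) →
      (∀ f : ℕ → G, FreeGroup.lift f w = 1) → Nat.card G ≤ N := by
  obtain ⟨N0, hN0⟩ := CfsgH8.sl2_not_law.{0} w hw
  obtain ⟨N1, hN1⟩ := S2352.result w hw
  have hA : ∀ n, N1 + 5 ≤ n → Emb w (alternatingGroup (Fin n)) := by
    intro n hn
    refine ⟨_, inferInstance, MonoidHom.id _, Function.injective_id,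
      commutator_alternatingGroup_eq_top (by simp; omega), ?_⟩
    rw [alternatingGroup.center_eq_bot (by simp; omega)]
    exact hN1 n (by omega)
  have hS : ∀ (F : Type) [Field F] [Fintype F], N0 + 4 ≤ Fintype.card F →
      Emb w (Matrix.SpecialLinearGroup (Fin 2) F) := by
    intro F _ _ hF
    refine ⟨_, inferInstance, MonoidHom.id _, Function.injective_id, ?_, hN0 F (by omega)⟩
    classical
    obtain ⟨g, hg⟩ := IsCyclic.exists_ofOrder_eq_natCard (α := Fˣ)
    rw [Nat.card_units, Nat.card_eq_fintype_card] at hg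
    refine Matrix.SL2.commutator_eq_top g.ne_zero ?_
    rw [← Units.val_pow_eq_pow_val, Ne, Units.val_eq_one]
    exact pow_ne_one_of_lt_orderOf (by omega) (by omega)
  have hSL : ∀ (F : Type) [Field F] [Fintype F] (n : ℕ), 2 ≤ n →
      Emb w (Matrix.SpecialLinearGroup (Fin n) F) ∨ (Fintype.card F ≤ (N0 + 4) ^ 2 ∧ n ≤ N1 + 5) := by
    intro F _ _ n hn
    by_cases h1 : N0 + 4 ≤ Fintype.card F
    · exact Or.inl ((hS F h1).map (CfsgH8.exists_SL_to_SL hn F))
    by_cases h2 : N1 + 5 ≤ n
    · exact Or.inl ((hA n h2).map ⟨_, CfsgH8.altToSL_injective⟩)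
    · exact Or.inr ⟨by nlinarith, by omega⟩
  have hB1 : 1 ≤ (N0 + 4) ^ 2 := Nat.one_le_pow _ _ (by omega)
  refine ⟨((N0 + 4) ^ 2) ^ ((2 * N1 + 20) * (2 * N1 + 20)) + (N1 + 5).factorial, ?_⟩
  intro G _ _ hG hlaw
  rcases hG with ⟨n, hn, ⟨e⟩⟩ | ⟨F, _, _, n, hn, -, ⟨e⟩⟩ | ⟨F, _, _, n, hn, -, ⟨e⟩⟩ |
    ⟨F, _, _, n, q, hF, hn, -, ⟨e⟩⟩ | ⟨F, _, _, n, hn, -, ⟨e⟩⟩ | ⟨F, _, _, n, hn, ⟨e⟩⟩ |
    ⟨F, _, _, n, a, b, hn, -, ⟨e⟩⟩
  · by_cases h2 : N1 ≤ n
    · obtain ⟨f, hf⟩ := CfsgH8.exists_not_law_of_injective e.symm.toMonoidHom e.symm.injective (hN1 n h2)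
      exact absurd (hlaw f) hf
    · refine le_trans ?_ (Nat.le_add_left _ _)
      calc Nat.card G = Nat.card (alternatingGroup (Fin n)) := Nat.card_congr e.toEquiv
        _ ≤ Nat.card (Equiv.Perm (Fin n)) := Nat.card_le_card_of_injective _ Subtype.val_injective
        _ = n.factorial := by rw [Nat.card_perm]; simp
        _ ≤ _ := Nat.factorial_le (by omega)
  · rcases hSL F n hn with h | h
    · exact absurd hlaw (h.not_law e)
    · exact (card_le e Subtype.val Subtype.val_injective h.1 (by simp; omega) hB1).trans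
        (Nat.le_add_right _ _)
  · rcases hSL F n hn with h | h
    · exact absurd hlaw ((h.map (CfsgH8.exists_SL_to_Sp n F)).not_law e)
    · exact (card_le e Subtype.val Subtype.val_injective h.1 (by simp; omega) hB1).trans
        (Nat.le_add_right _ _)
  · by_cases h1 : N0 + 4 ≤ q
    · obtain ⟨K, _, _, hK, hφ⟩ := CfsgH8.exists_SL2_to_SU2 hF
      exact absurd hlaw ((((hS K (h1.trans hK)).map hφ).map
        (CfsgH8.exists_SU_to_SU (by omega : 2 ≤ n) F q)).not_law e)
    by_cases h2 : N1 + 5 ≤ n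
    · exact absurd hlaw (((hA n h2).map (CfsgH8.exists_alt_to_SU n F q)).not_law e)
    · exact (card_le e (fun x => x.1.1) (Subtype.val_injective.comp Subtype.val_injective)
        (by rw [hF]; exact Nat.pow_le_pow_left (by omega) _) (by simp; omega) hB1).trans
        (Nat.le_add_right _ _)
  · rcases hSL F n (by omega) with h | h
    · exact absurd hlaw ((h.map (CfsgH8.exists_SL_to_Oodd n F)).comm.not_law e)
    · exact (card_le e (fun x => x.1.1.1) (Units.val_injective.comp
        (Subtype.val_injective.comp Subtype.val_injective)) h.1 (by simp; omega) hB1).trans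
        (Nat.le_add_right _ _)
  · rcases hSL F n (by omega) with h | h
    · exact absurd hlaw ((h.map (CfsgH8.exists_SL_to_Oplus n F)).comm.not_law e)
    · exact (card_le e (fun x => x.1.1.1) (Units.val_injective.comp
        (Subtype.val_injective.comp Subtype.val_injective)) h.1 (by simp; omega) hB1).trans
        (Nat.le_add_right _ _)
  · rcases hSL F (n - 1) (by omega) with h | h
    · exact absurd hlaw ((h.map (CfsgH8.exists_SL_to_Ominus (n - 1) F a b)).comm.not_law e)
    · exact (card_le e (fun x => x.1.1.1) (Units.val_injective.comp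
        (Subtype.val_injective.comp Subtype.val_injective)) h.1 (by simp; omega) hB1).trans
        (Nat.le_add_right _ _)

end Cfsg.Agent.S2355
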