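import Cfsg.Statements.S2357
import Cfsg.Agent.H6.Ree5

set_option autoImplicit false
open Cfsg

namespace Cfsg.Agent.S2357

open CfsgH6 CfsgH6.Chev

/-- Let R be the small Ree group over the field with q = 3^(2m+1) ≥ 27 elements and write φ for Euler's totient function. Then R has exactly q²(q²−q+1) involutions, (q²−1)(q³+1) elements of order 3, and q²(q−1)(q³+1) elements of order 6 and as many of order 9; for i > 2 dividing q−1 it has φ(i)q³(q³+1)/2 elements of order i; for i > 1 dividing (q+1)/4 it has φ(i)q³(q−1)(q²−q+1)/6 elements of order i and φ(i)q³(q−1)(q²−q+1)/2 elements of order 2i; and for i > 1 dividing q − 3^(m+1) + 1 (respectively q + 3^(m+1) + 1) it has φ(i)q³(q²−1)(q + 3^(m+1) + 1)/6 (respectively φ(i)q³(q²−1)(q − 3^(m+1) + 1)/6) elements of order i. -/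
theorem result {K : Type*} [Field K] [Fintype K] {m : ℕ} (hm : 1 ≤ m)
    (hK : Fintype.card K = 3 ^ (2 * m + 1)) :
    Nat.card {g : ↥(Cfsg.Lie.twistedG2 K (3 ^ m)) // orderOf g = 2} = (3 ^ (2 * m + 1)) ^ 2 * ((3 ^ (2 * m + 1)) ^ 2 - 3 ^ (2 * m + 1) + 1) ∧
    Nat.card {g : ↥(Cfsg.Lie.twistedG2 K (3 ^ m)) // orderOf g = 3} = ((3 ^ (2 * m + 1)) ^ 2 - 1) * ((3 ^ (2 * m + 1)) ^ 3 + 1) ∧
    Nat.card {g : ↥(Cfsg.Lie.twistedG2 K (3 ^ m)) // orderOf g = 6} = (3 ^ (2 * m + 1)) ^ 2 * (3 ^ (2 * m + 1) - 1) * ((3 ^ (2 * m + 1)) ^ 3 + 1) ∧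
    Nat.card {g : ↥(Cfsg.Lie.twistedG2 K (3 ^ m)) // orderOf g = 9} = (3 ^ (2 * m + 1)) ^ 2 * (3 ^ (2 * m + 1) - 1) * ((3 ^ (2 * m + 1)) ^ 3 + 1) ∧
    (∀ i : ℕ, 2 < i → i ∣ 3 ^ (2 * m + 1) - 1 →
      2 * Nat.card {g : ↥(Cfsg.Lie.twistedG2 K (3 ^ m)) // orderOf g = i} = Nat.totient i * (3 ^ (2 * m + 1)) ^ 3 * ((3 ^ (2 * m + 1)) ^ 3 + 1)) ∧
    (∀ i : ℕ, 1 < i → i ∣ (3 ^ (2 * m + 1) + 1) / 4 →
      6 * Nat.card {g : ↥(Cfsg.Lie.twistedG2 K (3 ^ m)) // orderOf g = i} =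
          Nat.totient i * (3 ^ (2 * m + 1)) ^ 3 * (3 ^ (2 * m + 1) - 1) * ((3 ^ (2 * m + 1)) ^ 2 - 3 ^ (2 * m + 1) + 1) ∧
        2 * Nat.card {g : ↥(Cfsg.Lie.twistedG2 K (3 ^ m)) // orderOf g = 2 * i} =
          Nat.totient i * (3 ^ (2 * m + 1)) ^ 3 * (3 ^ (2 * m + 1) - 1) * ((3 ^ (2 * m + 1)) ^ 2 - 3 ^ (2 * m + 1) + 1)) ∧
    (∀ i : ℕ, 1 < i → i ∣ 3 ^ (2 * m + 1) - 3 ^ (m + 1) + 1 →
      6 * Nat.card {g : ↥(Cfsg.Lie.twistedG2 K (3 ^ m)) // orderOf g = i} =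
        Nat.totient i * (3 ^ (2 * m + 1)) ^ 3 * ((3 ^ (2 * m + 1)) ^ 2 - 1) * (3 ^ (2 * m + 1) + 3 ^ (m + 1) + 1)) ∧
    (∀ i : ℕ, 1 < i → i ∣ 3 ^ (2 * m + 1) + 3 ^ (m + 1) + 1 →
      6 * Nat.card {g : ↥(Cfsg.Lie.twistedG2 K (3 ^ m)) // orderOf g = i} =
        Nat.totient i * (3 ^ (2 * m + 1)) ^ 3 * ((3 ^ (2 * m + 1)) ^ 2 - 1) * (3 ^ (2 * m + 1) - 3 ^ (m + 1) + 1)) := by
  obtain ⟨h⟩ := exists_ree hK
  have h0 := h.k0
  have h1 := h.k1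
  have h2 : rk m 2 * rk m 3 + 3 ^ (2 * m + 1) = (3 ^ (2 * m + 1)) ^ 2 + 1 := by
    obtain ⟨t, s, -, e2, e3, e4⟩ := rk_eq m
    rw [e3, e4]
    simp
    zify at e2 ⊢
    linear_combination (144 * (t * t + t) + 288 * s + 60) * e2
  have hG := h.cardG
  have c2 := h.count2
  have c3 := h.count3 (i := 3) (m := 0) rfl
  have c6 := h.count6
  have c9 := h.count3 (i := 9) (m := 1) rfl
  have u3 := h.card_U3
  have u9 := h.card_U9
  have ct := fun {i d} => h.countT (i := i) (d := d)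
  have o := h.odd
  have co := fun i {d} => (h.rt i).card_odd (i := d)
  have ce := fun i {d} => (h.rt i).card_even (i := d)
  change _ ∧ _ ∧ _ ∧ _ ∧ _ ∧ (∀ i, _ → i ∣ rk m 1 → _) ∧ (∀ i, _ → i ∣ rk m 2 → _ = _ * rk m 3) ∧
    (∀ i, _ → i ∣ rk m 3 → _ = _ * rk m 2)
  generalize h.T = T, h.U = U at *
  clear h
  generalize 3 ^ (2 * m + 1) = q, rk m = k at *
  have e1 : q - 1 = 2 * k 0 := by omega
  have e2 : q ^ 2 - q + 1 = k 2 * k 3 := by have := Nat.le_self_pow two_ne_zero q; omega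
  have e3 : q ^ 2 - 1 = 2 * k 0 * (4 * k 1) := by rw [← h1, h0]; exact Nat.sub_eq_of_eq_add (by ring)
  have e4 : q ^ 3 + 1 = 4 * k 1 * (k 2 * k 3) := by rw [← h1]; zify at h2 ⊢; linear_combination -(q + 1) * h2
  have k3 : ∀ j i, 1 < i → i ∣ k j → 2 < i := fun j i h1 h2 => by
    obtain ⟨r, hr⟩ := (o j).of_dvd_nat h2; omega
  rw [e1, e2, e4]
  refine ⟨c2, by rw [c3, mul_comm]; congr 1; omega, c6, ?_, fun i h3 h4 => ?_, fun i h3 h4 => ⟨?_, ?_⟩,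
    fun i h3 h4 => ?_, fun i h3 h4 => ?_⟩
  · rw [c9, mul_comm]; congr 1
    exact Nat.add_right_cancel (u9.trans (by rw [h0]; ring))
  · have h5 := ct h3 h4
    rw [show Nat.card {s // s ∈ T 0 ∧ orderOf s = i} = i.totient by
      rcases i.even_or_odd with ⟨r, rfl⟩ | h6
      · rw [← two_mul] at *
        have h7 := Nat.dvd_of_mul_dvd_mul_left two_pos h4
        rw [ce 0 h7, Nat.totient_two_mul_of_odd ((o 0).of_dvd_nat h7)]; simp [rj]
      · exact co 0 ((Nat.coprime_two_right.2 h6).dvd_of_dvd_mul_left h4), hG] at h5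
    exact Nat.eq_of_mul_eq_mul_right (m := 2 * k 0) (by have := (o 0).pos; omega) (by
      simp only [re, rj] at h5; simp at h5; linear_combination h5)
  · have h5 := ct (k3 _ _ h3 h4) (h4.mul_left 2)
    rw [co 1 h4, hG] at h5
    exact Nat.eq_of_mul_eq_mul_right (m := 4 * k 1) (by omega) (by simp [re, rj] at h5; linear_combination h5)
  · have h5 := ct (d := 2 * i) (by omega) (Nat.mul_dvd_mul_left 2 h4)
    rw [ce 1 h4, hG] at h5
    exact Nat.eq_of_mul_eq_mul_right (m := 12 * k 1) (by omega) (by simp [re, rj] at h5; linear_combination h5)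
  · have h5 := ct (k3 _ _ h3 h4) (h4.mul_left 2)
    rw [co 2 h4, hG] at h5
    exact Nat.eq_of_mul_eq_mul_right (o 2).pos (by simp [re, rj] at h5; rw [e3]; linear_combination h5)
  · have h5 := ct (k3 _ _ h3 h4) (h4.mul_left 2)
    rw [co 3 h4, hG] at h5
    exact Nat.eq_of_mul_eq_mul_right (o 3).pos (by simp [re, rj] at h5; rw [e3]; linear_combination h5)

end Cfsg.Agent.S2357
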