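import Cfsg.Statements.S2360
import Cfsg.Agent.H5.Rk1
import Cfsg.Agent.H5.Fs2

set_option autoImplicit false
open Cfsg

namespace Cfsg.Agent.S2360

open CfsgH5 Matrix

/-- Let q be odd, F the field with q² elements and S = SU_3(F) (determinant-one isometries of the standard Hermitian form). Then all involutions of S are conjugate; there are exactly q²(q²−q+1) of them; the centralizer of an involution has order q(q+1)(q²−1), the order of the full unitary group of degree 2; and for two distinct commuting involutions t and x there is exactly one further involution commuting with both. -/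
theorem result {F : Type*} [Field F] [Fintype F] {q : ℕ} (hq : Odd q)
    (hF : Fintype.card F = q ^ 2) (t : ↥(Cfsg.SU 3 F q)) (ht : t ≠ 1) (ht2 : t * t = 1) :
    (∀ x : ↥(Cfsg.SU 3 F q), x ≠ 1 → x * x = 1 → ∃ g : ↥(Cfsg.SU 3 F q), g * t * g⁻¹ = x) ∧
    Nat.card {x : ↥(Cfsg.SU 3 F q) // x ≠ 1 ∧ x * x = 1} = q ^ 2 * (q ^ 2 - q + 1) ∧
    Nat.card ↥(Subgroup.centralizer ({t} : Set ↥(Cfsg.SU 3 F q))) = q * (q + 1) * (q ^ 2 - 1) ∧
    ∀ x : ↥(Cfsg.SU 3 F q), x ≠ 1 → x * x = 1 → x ≠ t → Commute t x →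
      Nat.card {y : ↥(Cfsg.SU 3 F q) // y ≠ 1 ∧ y * y = 1 ∧ y ≠ t ∧ y ≠ x ∧ Commute t y ∧ Commute x y} = 1 := by
  have h2 : (2 : F) ≠ 0 := two_ne_zero_of_odd (hF ▸ hq.pow)
  have hS := uForm_nondeg hF 3
  set S := uForm hF 3
  have : Finite ((Fin 3 → F) ≃ₗ[F] (Fin 3 → F)) := DFunLike.finite _
  have hz : (-1 : F) * frobQ hF (-1) = 1 := by simp
  have h1 : ∀ d, S.B d d = 1 → ∃ x : Cfsg.SU 3 F q, ∀ v, suHom 3 F q x v = -v + (2 * S.B v d) • d :=
    fun d hd => by
      obtain ⟨x, hx⟩ := exists_suHom hF (g := LinearEquiv.neg F * S.qrefl (d := d) (by simp [hd]) hz)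
        ⟨mul_mem Form.neg_mem_isom (Form.qrefl_mem _ _), mem_slSub.2 (by
          rw [det_mul', Form.det_qrefl, det_of_diag (Pi.basisFun F _) (d := fun _ => -1) (by simp)]
          norm_num)⟩
      exact ⟨x, fun v => by simp [hx, Form.qrefl_apply, hd]; module⟩
  have h3 : ∀ x : Cfsg.SU 3 F q, x ≠ 1 → x * x = 1 →
      ∃ d, S.B d d = 1 ∧ ∀ v, suHom 3 F q x v = -v + (2 * S.B v d) • d := fun x a b => by
    obtain ⟨v, φ, e1, e2⟩ := invol3 h2 (by simp) (suHom_mem hF x).2 (by rw [← map_mul, b, map_one])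
      ((map_ne_one_iff _ (suHom_inj 3)).2 a)
    have e3 : ∀ y, S.B y v = φ y * S.B v v := fun y => by
      have : S.B _ _ = S.B _ _ := Form.isom_B (suHom_mem hF x).1 y v
      simp only [e2, e1, S.add_left, S.neg_left, S.smul_left, show -v + (2 * 1 : F) • v = v by module] at this
      exact mul_left_cancel₀ h2 (by linear_combination -this)
    have e4 : S.B v v ≠ 0 := fun e => by
      rw [hS v fun y => by rw [e3, e, mul_zero]] at e1
      simp at e1
    obtain ⟨c, hc⟩ := Form.unit_exists_smul (frobQ_ne hF) e4 (map_one _)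
    refine ⟨_, hc, fun y => ?_⟩
    simp only [S.smul_left, S.smul_right] at hc
    rw [e2, S.smul_right, e3 y, smul_smul]
    congr 2
    linear_combination -2 * φ y * hc
  have h4 : ∀ t x : Cfsg.SU 3 F q, t ≠ 1 → t * t = 1 → x ≠ 1 → x * x = 1 → ∃ g, g * t * g⁻¹ = x :=
    fun t x a b a' b' => by
      obtain ⟨d, hd, e⟩ := h3 t a b
      obtain ⟨d', hd', e'⟩ := h3 x a' b'
      obtain ⟨k, hk, rfl⟩ := hS.unit_EG_trans (frobQ_ne hF) (by simp) (x := d) (y := d')
        (by rintro rfl; simp at hd) (by rintro rfl; simp at hd') (hd.trans hd'.symm)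
      obtain ⟨g, rfl⟩ := exists_suHom hF (Form.EG_le_su hk)
      refine ⟨g, suHom_inj 3 (LinearEquiv.ext fun v => ?_)⟩
      rw [map_mul, map_mul, map_inv, LinearEquiv.mul_apply, LinearEquiv.mul_apply, e, e', map_add, map_neg,
        map_smul, apply_inv_apply, Form.isom_B_right (suHom_mem hF g).1]
  have hq2 := two_le_of_card_sq hF
  have h5 : Nat.card {x : Cfsg.SU 3 F q // x ≠ 1 ∧ x * x = 1} = q ^ 2 * (q ^ 2 - q + 1) := by
    choose τ hτ using h1
    have e := card_eq_mul_of_fib (X := {d // S.B d d = 1}) (Y := {x : Cfsg.SU 3 F q // x ≠ 1 ∧ x * x = 1})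
      (n := q + 1) (fun d => ⟨τ d d.2, fun h => by
        obtain ⟨w, hw, h0⟩ := Submodule.exists_mem_ne_zero_of_ne_bot (p := S.perp {d.1}) fun e => by
          have := hS.finrank_perp_singleton (d := d) fun e => by simpa [e] using d.2
          rw [e] at this
          simp at this
        have := hτ d d.2 w
        simp only [h, map_one, (Form.mem_perp_singleton _).1 hw, LinearEquiv.coe_one, id, mul_zero,
          zero_smul] at this
        exact h0 ((smul_eq_zero_iff_right h2).1 (by linear_combination (norm := module) this)),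
      suHom_inj 3 (LinearEquiv.ext fun v => by simp [hτ, d.2]; module)⟩) (by omega) fun x => by
        obtain ⟨d, hd, e⟩ := h3 x x.2.1 x.2.2
        rw [← card_norm_fiber hF one_ne_zero (map_one _)]
        refine (Nat.card_congr (Equiv.ofBijective (fun c : {c : F // c * frobQ hF c = 1} => ⟨⟨c.1 • d, by
          simpa [hd, mul_comm] using c.2⟩, Subtype.ext (suHom_inj 3 (LinearEquiv.ext fun v => by
            rw [hτ, e, S.smul_right, smul_smul, unitParam_σ]
            congr 2
            linear_combination 2 * S.B v d * c.2))⟩) ⟨fun a b h => ?_, fun y => ?_⟩)).symm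
        · exact Subtype.ext (smul_left_injective F (by rintro rfl; simp at hd)
            (congrArg (·.1.1) h))
        · have e1 := hτ _ y.1.2 y.1.1
          rw [show τ _ y.1.2 = x from congrArg Subtype.val y.2, e, y.1.2] at e1
          have e2 : y.1.1 = S.B y.1.1 d • d := smul_right_injective _ h2 (by
            linear_combination (norm := module) -e1)
          have e3 := y.1.2
          rw [e2] at e3
          exact ⟨⟨S.B y.1.1 d, by simpa [hd, mul_comm] using e3⟩, Subtype.ext (Subtype.ext e2.symm)⟩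
    rw [hS.unit_card_norm hF (map_one _) one_ne_zero (n := 3) (by simp)] at e
    obtain ⟨r, rfl⟩ := Nat.exists_eq_add_of_le' hq2
    rw [Nat.sub_eq_of_eq_add (by ring : (r + 2) ^ 2 = (r + 1) * (r + 2) + (r + 2))]
    exact Nat.eq_of_mul_eq_mul_right (by positivity) (e.symm.trans (by norm_num; ring))
  refine ⟨fun x => h4 t x ht ht2, h5, ?_, fun x a b c d => ?_⟩
  · have e := card_eq_of_orbit (G := ConjAct (Cfsg.SU 3 F q)) t {x | x ≠ 1 ∧ x * x = 1} fun x =>
      ⟨fun h => h4 t x ht ht2 h.1 h.2, by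
        rintro ⟨g, rfl⟩
        exact ⟨by simpa [ConjAct.smul_def] using ht, by rw [← smul_mul', ht2, smul_one]⟩⟩
    rw [← Subgroup.nat_card_centralizer_nat_card_stabilizer] at e
    have e1 := card_SU_mul hF (n := 3) (by omega)
    rw [card_GU hF, show Nat.card (Cfsg.SU 3 F q) = _ from e, show Nat.card ↥{x | _} = _ from h5] at e1
    simp only [Finset.prod_range_succ] at e1
    norm_num at e1
    obtain ⟨r, rfl⟩ := Nat.exists_eq_add_of_le' hq2
    rw [Nat.sub_eq_of_eq_add (by ring : (r + 2) ^ 2 = (r + 1) * (r + 2) + (r + 2)), ← mul_assoc] at e1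
    exact Nat.eq_of_mul_eq_mul_left (by positivity) (e1.trans (by ring))
  have h6 : Cfsg.PRankLE 2 2 (Cfsg.SU 3 F q) := pRankLE_of (suHom_inj 3) fun A hA h1 h3 =>
    card_le_sl h2 A (hA.trans ((range_suHom hF 3).le.trans inf_le_right)) h1 h3 (by simp)
  have e1 : t * x ≠ 1 := fun e => c (mul_left_cancel (e.trans ht2.symm))
  have e2 : t * x ≠ t := by simpa
  have e3 : t * x ≠ x := by simpa
  refine Nat.card_eq_one_iff_exists.2 ⟨⟨t * x, e1, by rw [d.symm.mul_mul_mul_comm, ht2, b, mul_one]
    , e2, e3, (Commute.refl t).mul_right d, d.symm.mul_right (Commute.refl x)⟩,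
    fun ⟨y, y1, y2, y3, y4, y5, y6⟩ => Subtype.ext (by_contra fun y7 => ?_)⟩
  classical
  obtain ⟨f1, f2⟩ := closure_invol (s := {t, x, y}) (by simp [d.eq, y5.eq, y6.eq]) (by simp [*])
  have f3 := h6 _ (.of_setLike_mul_comm fun a ha b hb => f1 a ha b hb) fun a ha => by rw [sq, f2 a ha]
  have f4 : ({1, t, x, t * x, y} : Finset (Cfsg.SU 3 F q)).card ≤ Nat.card (Subgroup.closure {t, x, y}) := by
    rw [← Set.ncard_coe_finset]
    refine Set.ncard_le_ncard (?_ : _ ⊆ SetLike.coe (Subgroup.closure {t, x, y}))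
    simp [Set.insert_subset_iff, mul_mem, Subgroup.mem_closure_of_mem]
  rw [Finset.card_insert_of_notMem (by simp [ht.symm, a.symm, e1.symm, y1.symm]),
    Finset.card_insert_of_notMem (by simp [c.symm, a, y3.symm]),
    Finset.card_insert_of_notMem (by simp [ht, y4.symm]), Finset.card_pair (Ne.symm y7)] at f4
  omega

end Cfsg.Agent.S2360
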