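import Cfsg.Statements.S2362
import Cfsg.Agent.H5.El16
import Cfsg.Agent.H5.Iso1

set_option autoImplicit false
open Cfsg

namespace Cfsg.Agent.S2362

open CfsgH5 Pointwise Module Polynomial

/-- Let F be a finite field of odd order and n ≥ 3. The simple orthogonal group PΩ(2n+1, F) (type B_n) and the projective symplectic group PSp(2n, F) (type C_n), which have the same order, do not have the same set of element orders. -/
theorem result {F : Type*} [Field F] [Fintype F] (hodd : Odd (Fintype.card F)) (n : ℕ) (hn : 3 ≤ n) :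
    Set.range (orderOf : Cfsg.POmega F (Cfsg.quadFormOdd n F) → ℕ) ≠ Set.range (orderOf : Cfsg.PSp n F → ℕ) := by
  classical
  intro H
  obtain ⟨k, rfl⟩ : ∃ k, n = k + 1 := ⟨n - 1, by omega⟩
  have h2 := two_ne_of_odd hodd
  obtain ⟨p, _⟩ := CharP.exists F
  have hp := CharP.char_is_prime F p
  haveI := Fact.mk hp
  obtain ⟨r, hr, hr2, h0, ε, hε, hc, he⟩ : ∃ r : ℕ, r.Prime ∧ r ≠ 2 ∧ (r : F) ≠ 0 ∧ ∃ ε, BT F r (2 * k) ε ∧
      (if Even (orderOf (Fintype.card F : ZMod r)) then orderOf (Fintype.card F : ZMod r) else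
        2 * orderOf (Fintype.card F : ZMod r)) = 2 * k ∧ chi (-1 : F) ^ k * ε ≠ 1 := by
    by_cases e : chi (-1 : F) ^ k = 1
    · obtain ⟨r, a1, a2, a3, a4⟩ := exists_ppd hodd (n := 2 * k) (by omega)
      exact ⟨r, a1, a2, a3, -1, by simpa [a4] using bt_id a1 a3, by simp [a4], by simp [e]⟩
    · have a0 : ¬ Even k := fun a => e (by rw [Int.units_pow_eq_pow_mod_two, Nat.even_iff.1 a, pow_zero])
      obtain ⟨r, a1, a2, a3, a4⟩ := exists_ppd hodd (n := k) (by rw [Nat.even_iff] at a0; omega)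
      exact ⟨r, a1, a2, a3, 1, by simpa [a4, a0] using bt_id a1 a3, by simp [a4, a0], by simpa using e⟩
  have hD : ∀ {σ : F →+* F}, (∀ a, σ a = a) → DT σ r (2 * k) := fun h => hc ▸ id_DT h hr hr2 h0
  obtain ⟨o, ⟨x, hx⟩, o1, o2, o3⟩ : ∃ o ∈ Set.range (orderOf : Cfsg.PSp (k + 1) F → ℕ), 2 ∣ o ∧ p ∣ o ∧ r ∣ o := by
    obtain ⟨φ, hφ⟩ := exists_sp_split (F := F) (n := k + 1) rfl
    obtain ⟨m, b1, b2, b3⟩ := (hD (σ := (spParam F).σ) fun _ => rfl).exists (spParam F).σσ hr h0 1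
    obtain ⟨s, b4, b5⟩ := (spForm_nondeg (F := F) k).sp_embAll.exists_cy (e := 0) hr hr2 h0 b1 b2
      (by rw [finrank_sp]; omega)
    obtain ⟨u, c1, c2, c3⟩ := exists_sp_prime (F := F) (m := 1) hp
      (((p_dvd_card p).mul_right _).trans (dvd_card_sp le_rfl le_rfl))
    have c0 : scE (Fin k ⊕ Fin k → F) (-1) ∈ (spForm k F).isom := by
      convert (spForm k F).neg_mem_isom; ext; simp
    obtain ⟨x, hx⟩ := exists_spHom (pH_mem (x := (scE _ (-1) * s, u)) hφ (mul_mem c0 b4) c1)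
    refine ⟨_, ⟨(x : Cfsg.PSp (k + 1) F), rfl⟩, ?_⟩
    obtain ⟨l, hl⟩ := (sp_center (by omega) _).1 ((QuotientGroup.eq_one_iff _).1
      ((QuotientGroup.mk_pow _ x _).trans (pow_orderOf_eq_one (x : Cfsg.PSp (k + 1) F))))
    generalize orderOf (x : Cfsg.PSp (k + 1) F) = o at hl
    rw [map_pow, hx, ← map_pow, pH_eq_scE] at hl
    obtain ⟨d1, d2⟩ := hl
    simp only [Prod.pow_fst, Prod.pow_snd, scE_mul_pow] at d1 d2
    have d3 : l = 1 := by
      have d4 := sp_scE (spForm_nondeg 1) (by rw [finrank_sp]; omega) l (d2 ▸ pow_mem c1 o)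
      have d5 : l ^ p = 1 := scE_inj (V := Fin 1 ⊕ Fin 1 → F) (by rw [finrank_sp]; omega) (by
        rw [map_pow, ← d2, pow_right_comm, c2, one_pow, map_one])
      obtain ⟨j, hj⟩ := hp.odd_of_ne_two fun e => h2 (by simpa [e] using CharP.cast_eq_zero F p)
      rwa [hj, pow_succ, pow_mul, d4, one_pow, one_mul] at d5
    rw [d3, map_one] at d1 d2
    have d4 : Even o := by_contra fun e => h2 (by
      have d5 := congrArg (· ^ r) d1
      simp only [scE_mul_pow, pow_right_comm s, b5.pow, one_pow, mul_one, (Nat.not_even_iff_odd.1 e).neg_one_pow,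
        (hr.odd_of_ne_two hr2).neg_one_pow] at d5
      have := scE_inj (V := Fin k ⊕ Fin k → F) (by rw [finrank_sp]; omega) (d5.trans (map_one _).symm)
      linear_combination -(by simpa using congrArg Units.val this : (-1 : F) = 1))
    rw [d4.neg_one_pow, map_one, one_mul] at d1
    refine ⟨d4.two_dvd, orderOf_eq_prime c2 c3 ▸ orderOf_dvd_of_pow_eq_one d2, ?_⟩
    haveI := Fact.mk hr
    exact orderOf_eq_prime b5.pow (fun e => by
      have := (b5.mov hr h0).2.1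
      rw [mov_eq_bot.2 e] at this
      omega) ▸ orderOf_dvd_of_pow_eq_one d1
  have hS := oddForm_nondeg (F := F) (k + 1) h2
  have hV := finrank_odd (F := F) (k + 1)
  obtain ⟨y, hy⟩ := H.ge ⟨x, hx⟩
  rw [← ((pomEquiv (oddForm_Q (k + 1))).trans (qcBot (hS.center_om_odd (by omega) hV))).orderOf_eq] at hy
  generalize ((pomEquiv (oddForm_Q (k + 1))).trans (qcBot (hS.center_om_odd (by omega) hV))) y = y at hy
  have ho : o ≠ 0 := hx ▸ (orderOf_pos x).ne'
  have key : ∀ t, t.Prime → t ∣ o → ∃ j, (y.1 ^ j) ^ t = 1 ∧ y.1 ^ j ≠ 1 := fun t a b => by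
    have := orderOf_pow_orderOf_div (x := y.1) (by rwa [Subgroup.orderOf_coe, hy]) (n := t)
      (by rwa [Subgroup.orderOf_coe, hy])
    exact ⟨_, this ▸ pow_orderOf_eq_one _, fun e => a.one_lt.ne (by rw [← this, e, orderOf_one])⟩
  obtain ⟨j1, z1, z2⟩ := key 2 Nat.prime_two o1
  obtain ⟨j2, u1, u2⟩ := key p hp o2
  obtain ⟨j3, s1, s2⟩ := key r hr o3
  have c1 := (Commute.refl y.1).pow_pow j1 j2
  have c2 := (Commute.refl y.1).pow_pow j1 j3
  have c3 := (Commute.refl y.1).pow_pow j3 j2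
  have z0 := pow_mem y.2 j1
  have z3 := Form.om_le_isom z0
  have u3 := Form.om_le_isom (pow_mem y.2 j2)
  have s3 := Form.om_le_isom (pow_mem y.2 j3)
  generalize y.1 ^ j1 = z, y.1 ^ j2 = u, y.1 ^ j3 = s at *
  clear hy key
  generalize oddForm (k + 1) F = S at *
  have hD := hD (σ := (orthParam F).σ) fun _ => rfl
  obtain ⟨m, e, a1⟩ := exists_cy hr h0 s1
  have a2 := a1.ed1_eq hr h0 ▸ hS.ed1_du s3
  obtain ⟨K, a3, -⟩ := hD.blk0 (orthParam F).σσ hr h0 a1.mem a2
  obtain ⟨a4, a5, a6⟩ := a1.mov hr h0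
  obtain rfl : K = 1 := by
    have := mt mov_eq_bot.1 s2
    rcases K with _ | _ | K
    · omega
    · rfl
    · rw [mul_add, mul_add] at a3; omega
  have hW := hS.nondegOn_mov s3 (disjoint_mov h0 s1)
  have a7 := hW.finrank_add
  obtain ⟨ua, -, ub, b1, b2, b3, -⟩ := Form.nd_split u3 hW (inv_mov c3)
  obtain ⟨zb, b4, b5, -⟩ := Form.exists_res z3 (Form.inv_perp z3 (inv_mov c2.symm))
  have b6 : ua = 1 := by_contra fun e => by
    obtain ⟨a, ha⟩ := rep_of_unip p (sqfree_sub_C h0 1) (aeval_of_pow ((rs_pow s1).trans (map_one _).symm))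
      (res_pow b2 u1) e (res_comm (rs_apply s) b2 c3)
    rw [a4] at ha
    have b7 := dg0_cy hr h0 a1.mem
    have b8 := Multiset.card_le_card ha
    have b9 := Nat.mul_le_mul_left (orderOf (Fintype.card F : ZMod r)) b8
    rcases hD with ⟨-, e⟩ | ⟨e', e⟩
    · rw [Multiset.card_replicate] at b9; omega
    · have := Nat.mul_le_mul_left (orderOf (Fintype.card F : ZMod r))
        (rep_pair_le a2 (e' a (a1.mem a (Multiset.mem_of_le ha (by simp)))) ha)
      omega
  have b7 : ub ≠ 1 := fun e => u2 (mov_eq_bot.1 (by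
    rw [(hW.glue_prop (fun x => (b2 x).symm) fun x => (b3 x).symm).1, mov_eq_bot.2 b6, mov_eq_bot.2 e]))
  obtain ⟨d1, d2, -⟩ := hS.inv_struct h2 z3 z1
  obtain ⟨d3, d4⟩ := (hS.inv_om h2 d1 d2).1 z0
  rcases (hW.perp hS).res.o_three p h2 b1 (res_pow b3 u1) b7 (by omega) b4 (res_pow b5 z1) (res_comm b5 b3 c1) with h | h
  · have d5 : mov z ≤ mov s := by
      rintro _ ⟨v, rfl⟩
      refine (hS.perp_perp _).le (Form.mem_perp.2 fun w hw => ?_)
      have := z3.1 v w
      rw [← b5 ⟨w, hw⟩, h] at this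
      simpa [S.sub_left, sub_eq_zero] using this
    obtain ⟨a, d6, d7⟩ := (hS.mov_blk s3 a1 hD a3 hr hr2 h0).1 ⟨_, d5, d1, rfl, inv_mov c2⟩
    have := mt mov_eq_bot.1 z2
    obtain rfl : a = 1 := by rcases a with _ | a <;> omega
    exact he (by rw [← d4, d1.res.disc_eq_tp h2 (m := k) (by omega), d1.tp_mov s3 s1 hε hr hr2 h0 d5 (inv_mov c2) d7,
      pow_one])
  · have d5 : S.perp (mov z) ≤ mov s := fun v hv => (hS.perp_perp _).le (Form.mem_perp.2 fun w hw => by
      have := z3.1 v w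
      rw [← b5 ⟨w, hw⟩, h, mem_fix.1 (hS.fix_eq z3 ▸ hv)] at this
      simp only [Submodule.coe_neg, S.neg_right] at this
      exact (mul_eq_zero.1 (by linear_combination -this : 2 * S.B v w = 0)).resolve_left h2)
    obtain ⟨a, -, d7⟩ := (hS.mov_blk s3 a1 hD a3 hr hr2 h0).1 ⟨_, d5, d1.perp hS, rfl, Form.inv_perp s3 (inv_mov c2)⟩
    have := d1.finrank_add
    obtain ⟨_, d3⟩ := d3
    rw [mul_assoc] at d7
    omega

end Cfsg.Agent.S2362
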