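import Cfsg.Statements.S2363
import Mathlib
import Cfsg.Agent.H8.LieOrd

set_option autoImplicit false
open Cfsg

namespace Cfsg.Agent.S2363

open CfsgH8

/-- Let G be a finite simple group of Lie type in characteristic p and let p^k be the exact power of p dividing the order of G. Then the order of G is less than p^(3k); and unless G is isomorphic to PSL(2, F) for the field F with p^k elements, the cube of the order of G is less than p^(8k) (that is, the order is below p^(8k/3)). -/
theorem result {G : Type*} [Group G] [Finite G] (p : ℕ) (hp : p.Prime) (hG : Cfsg.IsLieTypeChar p G) :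
    Nat.card G < p ^ (3 * (Nat.card G).factorization p) ∧
      ((¬ ∃ (F : Type) (_ : Field F) (_ : Fintype F), Fintype.card F = p ^ (Nat.card G).factorization p ∧
          Nonempty (G ≃* Matrix.ProjectiveSpecialLinearGroup (Fin 2) F)) →
        Nat.card G ^ 3 < p ^ (8 * (Nat.card G).factorization p)) := by
  obtain ⟨a, N, e, ha, h, he⟩ := lie_order hp hG
  have hf := h.fact hp
  have hl := h.lt hp
  rw [hf]
  rcases he with he | ⟨rfl, rfl, F, _, _, hF, hφ⟩
  · refine ⟨hl.trans_le (Nat.pow_le_pow_right hp.pos (by nlinarith)), fun _ => ?_⟩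
    calc Nat.card G ^ 3 < (p ^ (a * (N + e))) ^ 3 := Nat.pow_lt_pow_left hl (by norm_num)
      _ = p ^ (a * (N + e) * 3) := (pow_mul _ _ _).symm
      _ ≤ p ^ (8 * (a * N)) := Nat.pow_le_pow_right hp.pos (by nlinarith)
  · refine ⟨hl.trans_le (Nat.pow_le_pow_right hp.pos (by nlinarith)), fun hn => (hn ?_).elim⟩
    exact ⟨F, inferInstance, inferInstance, by rw [hF, mul_one], hφ⟩

end Cfsg.Agent.S2363
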