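import Cfsg.Statements.S2470
import Cfsg.Agent.H5.El3

set_option autoImplicit false
open Cfsg

namespace Cfsg.Agent.S2470

open CfsgH5 Pointwise Module Polynomial

/-- Adjacency of an odd prime and the characteristic in the prime graph of PSL(n,q): let F be a finite field of characteristic p with q elements, n ≥ 2 with PSL(n,F) simple, and let r ≠ p be an odd prime dividing the order of PSL(n,F), with k the multiplicative order of q modulo r. Then PSL(n,F) has NO element of order r·p if and only if either k > n − 2, or n = 3, r = 3 and 3 divides q − 1 exactly once. -/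
theorem result {F : Type*} [Field F] [Fintype F] (p : ℕ) [Fact p.Prime] [CharP F p] (n : ℕ) (hn : 2 ≤ n) (hsmall : n = 2 → 4 ≤ Fintype.card F)
    (r : ℕ) (hr : r.Prime) (hr2 : r ≠ 2) (hrp : r ≠ p) (hrG : r ∣ Nat.card (Matrix.ProjectiveSpecialLinearGroup (Fin n) F))
    (k : ℕ) (hk : k = orderOf ((Fintype.card F : ℕ) : ZMod r)) :
    (r * p ∉ Set.range (orderOf : Matrix.ProjectiveSpecialLinearGroup (Fin n) F → ℕ)) ↔
      (n - 2 < k ∨ (n = 3 ∧ r = 3 ∧ 3 ∣ Fintype.card F - 1 ∧ ¬ 9 ∣ Fintype.card F - 1)) := by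
  classical
  haveI : Nonempty (Fin n) := ⟨⟨0, by omega⟩⟩
  have hp : p.Prime := Fact.out
  have hV : finrank F (Fin n → F) = n := by simp
  have h0 := cast_ne_of_ne (F := F) p hr hrp
  have k0 : 0 < k := hk ▸ (ord_pos hr h0).1
  have k1 : k = 1 ↔ r ∣ Fintype.card F - 1 := hk ▸ ord_eq_one_iff Fintype.card_pos
  rw [ord_iff (slHom _ F) slHom_inj sl_center range_slHom hr hp hrp]
  refine ⟨fun H => by_contra fun h => H ?_, fun H ⟨g, hg, u, hu, h1, h2, h3⟩ => ?_⟩
  · rw [not_or, not_lt] at h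
    obtain ⟨φ⟩ := exists_split (F := F) (V := Fin n → F) (a := n - 2) (b := 2) (by omega)
    obtain ⟨u, h1, h2, h3⟩ := exists_sl_prime (F := F) (m := 2) hp
      (((p_dvd_card p).mul_right _).trans (dvd_card_SL le_rfl le_rfl))
    have h4 := pe_pH_right (φ := φ) h2 h3 (by simp; omega)
    have h5 := pH_sl (φ := φ) (x := (1, u)) (one_mem _) h1
    by_cases e : n = 3
    · obtain ⟨c, h6, h7⟩ : ∃ c : Fˣ, c ^ (3 * r) = 1 ∧ c ^ 3 ≠ 1 := by
        have h6 := k1.1 (by omega)
        by_cases e' : r = 3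
        · obtain ⟨c, hc⟩ := exists_orderOf_field (by_contra fun h7 => h.2 ⟨e, e', e' ▸ h6, h7⟩ :
            9 ∣ Fintype.card F - 1)
          exact ⟨c, by rw [e', ← orderOf_dvd_iff_pow_eq_one, hc], by
            rw [Ne, ← orderOf_dvd_iff_pow_eq_one, hc]; decide⟩
        · obtain ⟨c, hc⟩ := exists_orderOf_field h6
          exact ⟨c, by rw [← orderOf_dvd_iff_pow_eq_one, hc]; exact Dvd.intro_left _ rfl, by
            rwa [Ne, ← orderOf_dvd_iff_pow_eq_one, hc, Nat.prime_dvd_prime_iff_eq hr Nat.prime_three]⟩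
      subst e
      refine ⟨pH φ (scE _ (c⁻¹ ^ 2), scE _ c), ?_, _, h5, ⟨⟨c ^ r, ?_⟩, fun l e => h7 ?_⟩, h4,
        Commute.map (show _ * _ = _ * _ by simp [scE_comm]) _⟩
      · rw [slSub, MonoidHom.mem_ker, pH_det, det_scE, det_scE]; simp
      · rw [← map_pow]
        refine pH_eq_scE.2 ⟨(map_pow _ _ _).symm.trans (congrArg _ ?_), (map_pow _ _ _).symm⟩
        rw [inv_pow, inv_pow, inv_eq_iff_mul_eq_one, ← mul_pow, ← pow_succ, ← pow_mul, h6]
      · have h8 := pH_eq_scE.1 e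
        have h9 := (scE_inj (by simp) h8.1).trans (scE_inj (by simp) h8.2).symm
        rwa [inv_pow, inv_eq_iff_mul_eq_one, ← pow_succ] at h9
    obtain ⟨j, h6, h7, h8⟩ : ∃ j, 2 ≤ j ∧ j ≤ n - 2 ∧ k ∣ j := by
      by_cases e : k = 1
      · exact ⟨2, le_rfl, by omega, by simp [e]⟩
      · exact ⟨k, by omega, h.1, dvd_rfl⟩
    obtain ⟨g, h9, h10, h11⟩ := exists_sl_prime (F := F) hr
      ((((ord_dvd_iff Fintype.card_pos).1 (hk ▸ h8)).mul_left _).trans (dvd_card_SL h6 h7))
    exact ⟨_, pH_sl (x := (g, 1)) h9 (one_mem _), _, h5, pe_pH_left h10 h11 (by simp), h4, commute_pH _ _⟩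
  obtain ⟨l, hl⟩ := h1.1
  by_cases hd : r ∣ Fintype.card F - 1
  · obtain ⟨a, ha⟩ := rep_of_pe p (sqfree_sub_C h0 l) (aeval_of_pow hl) h2 h3
    obtain ⟨c, d, e⟩ := ed_small ha (by have := k1.2 hd; omega)
    refine h1.2 c (eq_scE_of_ed fun b hb => ?_)
    rcases H with H | ⟨rfl, rfl, -, H⟩
    · rw [e, hV, show n - 2 = 0 by have := k1.2 hd; omega] at hb
      simpa using hb
    have h4 := mem_slSub_iff.1 hg
    have h5 : ∀ c : Fˣ, X - C c.1 ∈ ed g.toLinearMap → c ^ 3 = l := fun c hc => Units.ext (by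
      simpa [sub_eq_zero] using dvd_iff_isRoot.1 (pow_eq_scE.1 hl _ hc))
    have h6 := h5 c (by simp [e])
    have h7 := h5 d (by simp [e])
    rw [← prod_ed, e] at h4
    have h8 : c ^ 2 * d = 1 := Units.ext (by
      simp at h4 ⊢; linear_combination -h4)
    have h9 : c ^ 9 = 1 := by
      rw [show 9 = 2 * 3 + 3 from rfl, pow_add, h6, ← h7, pow_mul, ← mul_pow, h8, one_pow]
    obtain ⟨i, h10, h11⟩ := (Nat.dvd_prime_pow Nat.prime_three (m := 2)).1 (orderOf_dvd_of_pow_eq_one h9)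
    have h12 : c ^ 3 = 1 := by
      have := orderOf_dvd_card (x := c)
      rw [Fintype.card_units, h11] at this
      rw [← orderOf_dvd_iff_pow_eq_one, h11]
      interval_cases i
      · simp
      · simp
      · exact absurd this H
    obtain rfl : d = c := mul_left_cancel (a := c ^ 2) (by rw [h8, ← pow_succ, h12])
    simpa [e] using hb
  obtain ⟨c, h4, h5⟩ := h1.exists_pow hr hd
  obtain ⟨m, e, h6⟩ := exists_cy hr h0 h4
  have h7 := h6.dim hr h0
  have h8 := mt k1.1 hd
  rw [← hk, hV] at h7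
  rcases H with H | ⟨-, rfl, H, -⟩
  · rcases h6.of_pe p hr h0 h2 (by simpa using commute_scE_mul h3 c 1) with h | ⟨a, h⟩
    · have := Nat.le_mul_of_pos_right k (Nat.pos_of_ne_zero (mt (h6.eq_one_iff hr h0).2 h5))
      omega
    · have := Nat.mul_le_mul_left k (Multiset.card_le_card h)
      rw [Multiset.card_replicate] at this
      omega
  · exact hd H

end Cfsg.Agent.S2470
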