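import Cfsg.Statements.S2364
import Cfsg.Agent.H5.El3
import Cfsg.Agent.S2470

set_option autoImplicit false
open Cfsg

namespace Cfsg.Agent.S2364

open CfsgH5 Pointwise Module Polynomial

/-- Let F be a finite field of characteristic p, n ≥ 4, and let a, b be commuting elements of PSL(n, F) with a of order p. Then every prime divisor of the order of b divides the order of SL(n − 2, F). -/
theorem result {F : Type*} [Field F] [Fintype F] (p : ℕ) [Fact p.Prime] [CharP F p] (n : ℕ) (hn : 4 ≤ n)
    (a b : Matrix.ProjectiveSpecialLinearGroup (Fin n) F) (ha : orderOf a = p) (hab : Commute a b) :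
    (orderOf b).primeFactors ⊆ (Nat.card (Matrix.SpecialLinearGroup (Fin (n - 2)) F)).primeFactors := by
  intro r h
  obtain ⟨hr, h1, h2⟩ := Nat.mem_primeFactors.1 h
  refine Nat.mem_primeFactors.2 ⟨hr, ?_, Nat.card_pos.ne'⟩
  by_cases hrp : r = p
  · exact hrp ▸ ((p_dvd_card p).mul_right _).trans (dvd_card_SL le_rfl (by omega))
  have h0 := cast_ne_of_ne (F := F) p hr hrp
  obtain ⟨k0, k1, -⟩ := ord_pos hr h0
  have h3 : orderOf (Fintype.card F : ZMod r) ≤ n - 2 := by
    by_cases h5 : r = 2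
    · have := Nat.le_of_dvd (by omega) k1
      omega
    have h4 := orderOf_pow_orderOf_div h2 h1
    exact not_lt.1 fun e => (Cfsg.Agent.S2470.result p n (by omega) (by omega) r hr h5 hrp
      (h1.trans (orderOf_dvd_natCard b)) _ rfl).2 (.inl e) ⟨b ^ (orderOf b / r) * a, by
        rw [(hab.symm.pow_left _).orderOf_mul_eq_mul_orderOf_of_coprime (by
          rw [h4, ha]; exact (Nat.coprime_primes hr Fact.out).2 hrp), h4, ha]⟩
  obtain ⟨j, h6, h7, h8⟩ : ∃ j, 2 ≤ j ∧ j ≤ n - 2 ∧ orderOf (Fintype.card F : ZMod r) ∣ j := by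
    by_cases e : orderOf (Fintype.card F : ZMod r) = 1
    · exact ⟨2, le_rfl, by omega, by simp [e]⟩
    · exact ⟨_, by omega, h3, dvd_rfl⟩
  exact (((ord_dvd_iff Fintype.card_pos).1 h8).mul_left _).trans (dvd_card_SL h6 h7)

end Cfsg.Agent.S2364
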