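import Cfsg.Statements.S2365
import Cfsg.Agent.H5.El3

set_option autoImplicit false
open Cfsg

namespace Cfsg.Agent.S2365

open CfsgH5 Pointwise Module Polynomial

/-- Let q be a power of the prime p, F the field with q² elements, m ≥ 4, and let a, b be commuting elements of PSU(m, q) with a of order p. Then every prime divisor of the order of b divides the order of SU(m − 2, q). -/
theorem result {F : Type*} [Field F] [Fintype F] (p : ℕ) [Fact p.Prime] [CharP F p] (m q : ℕ) (hm : 4 ≤ m) (hF : Fintype.card F = q ^ 2)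
    (a b : Cfsg.PSU m F q) (ha : orderOf a = p) (hab : Commute a b) :
    (orderOf b).primeFactors ⊆ (Nat.card ↥(Cfsg.SU (m - 2) F q)).primeFactors := by
  classical
  intro r h
  obtain ⟨hr, h1, h2⟩ := Nat.mem_primeFactors.1 h
  refine Nat.mem_primeFactors.2 ⟨hr, ?_, Nat.card_pos.ne'⟩
  have hp : p.Prime := Fact.out
  have hq : 0 < q := Nat.pos_of_ne_zero fun e => by simp [e] at hF
  have hV : finrank F (Fin m → F) = m := by simp
  have key : ∀ j, 2 ≤ j → j ≤ m - 2 → q * (if Even j then q ^ j - 1 else q ^ j + 1) ∣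
      Nat.card (Cfsg.SU (m - 2) F q) := fun j h3 h4 => by
    obtain ⟨j, rfl⟩ : ∃ i, j = i + 1 + 1 := ⟨j - 2, by omega⟩
    obtain ⟨k, e⟩ : ∃ k, m - 2 = k + 1 := ⟨m - 3, by omega⟩
    refine Nat.dvd_of_mul_dvd_mul_left (Nat.succ_pos q) ?_
    rw [Nat.succ_eq_add_one, card_SU_mul hF (by omega), card_GU hF, e, Finset.prod_range_succ', mul_left_comm,
      mul_comm (q + 1)]
    refine mul_dvd_mul (dvd_pow_self _ (Nat.div_pos ?_ two_pos).ne') (mul_dvd_mul ?_ (by simp))
    · exact Nat.mul_le_mul (show 2 ≤ k + 1 by omega) (show 1 ≤ k + 1 - 1 by omega)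
    · convert Finset.dvd_prod_of_mem _ (Finset.mem_range.2 (show j < k by omega)) using 1
      simp only [Nat.even_add_one (n := j + 1), ite_not]
  by_cases hrp : r = p
  · exact ((hrp ▸ hp.dvd_of_dvd_pow (hF ▸ p_dvd_card p)).mul_right _).trans (key 2 le_rfl (by omega))
  by_cases hd : r ∣ Fintype.card F - 1
  · exact ((by simpa [hF] using hd : r ∣ _).mul_left _).trans (key 2 le_rfl (by omega))
  have h0 := cast_ne_of_ne (F := F) p hr hrp
  have hr2 : r ≠ 2 := by
    rintro rfl
    exact hd ((ord_eq_one_iff Fintype.card_pos).1 (Nat.dvd_one.1 (ord_pos hr h0).2.1))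
  have h4 := orderOf_pow_orderOf_div h2 h1
  obtain ⟨g, hg, u, -, h5, h6, h7⟩ := (ord_iff (suHom m F q) (suHom_inj m) (su_center hF (by omega))
    (range_suHom hF m) hr hp hrp).1 ⟨b ^ (orderOf b / r) * a, by
      rw [(hab.symm.pow_left _).orderOf_mul_eq_mul_orderOf_of_coprime (by
        rw [h4, ha]; exact (Nat.coprime_primes hr hp).2 hrp), h4, ha]⟩
  obtain ⟨s, e, h8⟩ := exists_cy hr h0 (h5.pow_fix hg (m := Fintype.card F - 1) fun c _ => by
    rw [← Fintype.card_units, pow_card_eq_one])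
  have h9 := (h5.pow hr.one_lt (hr.coprime_iff_not_dvd.2 hd).symm).ne_one
  have h10 := h8.dim hr h0
  have h11 := (uForm_nondeg hF m).ed1_du (pow_mem hg.1 (Fintype.card F - 1))
  rw [h8.ed1_eq hr h0] at h11
  have h12 := mt (ord_eq_one_iff Fintype.card_pos).1 hd
  have h13 := (ord_pos hr h0).1
  have h14 := (ord_dvd_iff Fintype.card_pos).1 (dvd_refl (orderOf (Fintype.card F : ZMod r)))
  obtain ⟨j, c, h15, h16⟩ : ∃ j c, Multiset.replicate (j + 1) c ≤ s ∧ (2 ≤ e ∨ j = 1) := by
    rcases h8.of_pe p hr h0 h6 (h7.pow_left _) with h | ⟨c, h⟩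
    · obtain ⟨c, hc⟩ := Multiset.card_pos_iff_exists_mem.1
        (Nat.pos_of_ne_zero (mt (h8.eq_one_iff hr h0).2 h9))
      exact ⟨0, c, by simpa, .inl h⟩
    · exact ⟨1, c, h, .inr rfl⟩
  rw [hV] at h10
  by_cases h17 : orderOf (q : ZMod r) % 4 = 2
  · haveI := Fact.mk hr
    have h18 : orderOf (Fintype.card F : ZMod r) * 2 = orderOf (q : ZMod r) := by
      rw [hF, Nat.cast_pow, orderOf_pow_of_dvd two_ne_zero (by omega), Nat.div_mul_cancel (by omega)]
    have h19 := Nat.mul_le_mul_left (orderOf (Fintype.card F : ZMod r)) (Multiset.card_le_card h15)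
    rw [Multiset.card_replicate] at h19
    generalize orderOf (Fintype.card F : ZMod r) = i at *
    refine Dvd.dvd.trans (Dvd.dvd.mul_left ?_ _) (key i (by omega) (by
      rcases h16 with h | rfl <;> rw [mul_add] at h19 <;> omega))
    rw [if_neg (by rw [Nat.even_iff]; omega), ← ZMod.natCast_eq_zero_iff]
    push_cast
    rw [zmod_half (by omega) (by omega), neg_add_cancel]
  have h19 := Nat.mul_le_mul_left (orderOf (Fintype.card F : ZMod r)) (rep_pair_le h11
    (mt (du_frob_iff hF hr hr2 h0 (h8.mem c (Multiset.mem_of_le h15 (by simp)))).1 h17) h15)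
  generalize orderOf (Fintype.card F : ZMod r) = i at *
  refine Dvd.dvd.trans (Dvd.dvd.mul_left ?_ _) (key (2 * i) (by omega) (by
    rcases h16 with h | rfl <;> rw [mul_add, mul_add] at h19 <;> omega))
  rwa [if_pos (by simp), pow_mul, ← hF]

end Cfsg.Agent.S2365
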