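import Cfsg.Statements.S2366
import Cfsg.Agent.H5.El19

set_option autoImplicit false
open Cfsg

namespace Cfsg.Agent.S2366

open CfsgH5 Pointwise Module Polynomial

/-- The set of element orders of PSU(3, q) for an odd prime power q = p^n: writing d = gcd(3, q + 1), a positive integer is the order of some element exactly when it divides one of q + 1, p(q + 1)/d, (q² − 1)/d, (q² − q + 1)/d. -/
theorem result {F : Type*} [Field F] [Fintype F] (p : ℕ) [Fact p.Prime] [CharP F p] (hp : p ≠ 2) (q : ℕ) (hF : Fintype.card F = q ^ 2) :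
    Set.range (orderOf : Cfsg.PSU 3 F q → ℕ) =
      {s : ℕ | s ∣ q + 1} ∪ {s : ℕ | s ∣ p * (q + 1) / Nat.gcd 3 (q + 1)} ∪
        {s : ℕ | s ∣ (q ^ 2 - 1) / Nat.gcd 3 (q + 1)} ∪ {s : ℕ | s ∣ (q ^ 2 - q + 1) / Nat.gcd 3 (q + 1)} := by
  classical
  have hV : finrank F (Fin 3 → F) = 3 := by simp
  have hS := uForm_nondeg hF 3
  obtain ⟨k, rfl⟩ : ∃ k, q = k + 2 := ⟨q - 2, by
    have : 1 < q := (Nat.one_lt_pow_iff two_ne_zero).1 (hF ▸ Fintype.one_lt_card); omega⟩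
  have h0 : uM (k + 2) 3 = (k + 2) ^ 2 - (k + 2) + 1 := Int.natAbs_eq_iff.2 (.inl (by
    rw [show (k + 2) ^ 2 = (k + 2) * (k + 1) + (k + 2) by ring, Nat.add_sub_cancel]; simp [Finset.sum_range_succ]; ring))
  have h1 : Nat.gcd 3 (k + 2 + 1) ∣ (k + 2) ^ 2 - (k + 2) + 1 := by
    rw [show (k + 2) ^ 2 = (k + 2) * (k + 1) + (k + 2) by ring, Nat.add_sub_cancel,
      show (k + 2) * (k + 1) + 1 = 3 + (k + 2 + 1) * k by ring]
    exact dvd_add (Nat.gcd_dvd_left _ _) ((Nat.gcd_dvd_right _ _).mul_right _)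
  generalize k + 2 = q at *
  have h2 : q ^ 2 - 1 = (q + 1) * (q - 1) := Nat.sq_sub_sq _ 1
  have h3 : q + 1 ∣ Fintype.card F - 1 := ⟨_, hF ▸ h2⟩
  have hc : ∀ c : F, c ≠ 0 → c ^ ((q + 1) * (q - 1)) = 1 := h2 ▸ hF ▸ FiniteField.pow_card_sub_one_eq_one
  have hu : ∀ g ∈ (uForm hF 3).isom ⊓ slSub F _, ∀ l, g ^ po g = scE _ l → l ^ (q + 1) = 1 := fun g hg l hl =>
    hS.u_scE (by omega) (hl ▸ pow_mem hg.1 _)
  ext m
  rw [po_range' (suHom 3 F q) (su_center hF (by omega)) (range_suHom hF 3)]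
  simp only [Set.mem_union, Set.mem_ofPred_eq, or_assoc]
  constructor
  · rintro ⟨g, hg, hm⟩
    have a1 := (det_ed _).symm.trans (mem_slSub.1 hg.2)
    have a0 := coeff_ed_ne g
    have a2 : (ed g.toLinearMap).map (du (frobQ hF)) = _ := hS.ed_du hg.1
    have a3 := (dg0_ed g.toLinearMap).trans hV
    have a4 : ∀ c, X - C c ∈ ed g.toLinearMap → c ≠ 0 := fun c h => lin_ne1 (a0 _ h)
    by_cases h : ∃ c, X - C c ∈ ed g.toLinearMap ∧ c ^ (q + 1) ≠ 1
    · obtain ⟨c, b1, b2⟩ := h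
      obtain ⟨s, u, e, -, -, -, -, b3, ⟨b4, -⟩ | ⟨rfl, -, b4⟩⟩ := sd_blk (k := 1) (frobQ_invol hF) a2 (monic_X_sub_C c)
        (irreducible_X_sub_C c) (a0 _ b1) one_pos (by simpa)
      · exact (b2 ((du_lin_iff (a4 c b1)).1 b4)).elim
      obtain ⟨c', rfl⟩ := ed_one (s := u) (fun a ha => pp_ed (by rw [e]; simp [ha])) (by rw [natDegree_X_sub_C] at b4; omega)
      refine .inr (.inr (.inl (hm.trans ?_)))
      have c0 := a4 c b1
      obtain ⟨j, hj⟩ := dvd_mul_div_gcd 3 (q + 1)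
      rw [h2, mul_comm, Nat.mul_div_assoc _ (Nat.gcd_dvd_right _ _)]
      generalize (q + 1) / Nat.gcd 3 (q + 1) = i at hj ⊢
      rw [du_X_sub_C c0, frobQ_apply] at e
      have d1 : (c ^ q)⁻¹ ^ ((q - 1) * i) = c ^ ((q - 1) * i) := by
        rw [inv_pow, ← mul_eq_one_iff_inv_eq₀ (by simp [c0]), ← mul_pow, ← pow_succ, ← pow_mul, ← mul_assoc, pow_mul,
          hc c c0, one_pow]
      refine po_ed.2 ⟨.mk0 (c ^ ((q - 1) * i)) (pow_ne_zero _ c0), ?_⟩
      simp only [e, pow_one, Multiset.map_id', Multiset.mem_add, Multiset.insert_eq_cons, Multiset.mem_cons,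
        Multiset.mem_singleton, or_imp, forall_and, forall_eq, lin_dvd, Units.val_mk0, d1, true_and]
      refine third (x := c) (by simpa [e, nu_lin, mul_assoc] using a1) rfl d1 ?_
      rw [← pow_mul, mul_assoc, hj, ← mul_assoc, mul_comm (q - 1), pow_mul, hc c c0, one_pow]
    push Not at h
    rcases ed_three (fun _ => pp_ed) a3 with ⟨a, e, b1, b2, b3⟩ | ⟨c, e⟩ | ⟨c, t, e, b1, b2⟩
    · refine .inr (.inr (.inr (hm.trans (po_up1 e b2 ?_ h1 ((Nat.gcd_dvd_right _ _).trans h3)))))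
      simpa [b3, h0] using sd_uM (hF := hF) (k := 1) b1 b2 (a0 a (by simp [e])) (by simpa [e] using a2) (by simpa [e] using a1)
    · refine .inr (.inl (hm.trans ((po_up5 p (i := 1) e (by
        have := (Fact.out : p.Prime).two_le; simp; omega)).trans ?_)))
      rw [Nat.mul_div_assoc p (Nat.gcd_dvd_right _ _)]; simp
    have c1 : X - C c ∈ ed g.toLinearMap := by simp [e]
    rw [e, Multiset.map_add, Multiset.map_singleton, (du_lin_iff (a4 c c1)).2 (h c c1), add_right_inj] at a2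
    rcases ed_two b1 b2 with ⟨a, rfl, c2, c3, c4⟩ | ⟨c', rfl⟩ | ⟨c', c'', rfl⟩
    · obtain ⟨d1, d2⟩ := sd_odd c2 c3 (a0 a (by simp [e])) (Multiset.singleton_inj.1 a2)
      have d3 := orderOf_eq_one_iff.1 (((Nat.dvd_prime Nat.prime_two).1 (c4 ▸ d2)).resolve_right fun e => by
        simp [e] at d1; contradiction)
      refine .inl (hm.trans (po_ed.2 ⟨1, ?_⟩))
      simp only [e, Multiset.mem_add, Multiset.mem_singleton, or_imp, forall_and, forall_eq, lin_dvd, Units.val_one]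
      exact ⟨h c c1, ro_dvd.1 ((ZMod.natCast_eq_zero_iff _ _).1 (by rw [Nat.cast_add, Nat.cast_one, ← d3, add_neg_cancel]))⟩
    · have d0 := a0 ((X - C c') ^ 2) (by simp [e])
      exact .inr (.inl (hm.trans (po_up4 p hg.2 e ((du_lin_iff (lin_ne two_pos d0)).1 (eq_of_du_pow (frobQ_invol hF)
        (monic_X_sub_C _) (irreducible_X_sub_C _) (coeff_of_pow two_pos d0) two_pos (Multiset.singleton_inj.1 a2))))))
    · refine .inl (hm.trans (po_ed.2 ⟨1, fun a ha => ?_⟩))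
      obtain ⟨x, rfl⟩ : ∃ x, a = X - C x := by
        simp only [e, Multiset.mem_add, Multiset.mem_singleton] at ha
        rcases ha with rfl | rfl | rfl <;> exact ⟨_, rfl⟩
      exact lin_dvd.2 (h x ha)
  have ex : ∀ s : Multiset F[X], (∀ a ∈ s, PP a ∧ a.coeff 0 ≠ 0) → s.map (du (frobQ hF)) = s → dg0 s = 3 →
      (s.map nu).prod = 1 → ∃ g ∈ (uForm hF 3).isom ⊓ slSub F _, ed g.toLinearMap = s := fun s a b c d =>
    let ⟨g, a1, a2⟩ := hS.u_ex (fun x h => (a x h).1) (fun x h => (a x h).2) b (c.trans hV.symm)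
    ⟨g, ⟨a1, mem_slSub.2 (by rw [det_ed, a2, d])⟩, a2⟩
  obtain ⟨ζ, hζ⟩ := exists_orderOf_field h3
  obtain ⟨⟨y, y1, y2⟩, z, z1, z2⟩ := low34 p inf_le_right hV (ζ := ζ) (hζ ▸ hu) (hζ ▸ cast_ne_of_dvd h3 (by
    rw [Ne, CharP.cast_eq_zero_iff F p]; exact not_dvd_card_sub p)) fun s a => ex s (fun x hx => by
      obtain ⟨c, k, -, h, rfl⟩ := a x hx
      exact ⟨⟨_, k, monic_X_sub_C _, irreducible_X_sub_C _, h, rfl⟩, by simp [coeff_zero_eq_eval_zero]⟩)
        (map_fix fun x hx => by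
          obtain ⟨c, k, h, -, rfl⟩ := a x hx
          rw [map_pow, (du_lin_iff c.ne_zero).2 (by simpa [hζ] using congrArg Units.val h)])
  rintro (h | h | h | h)
  · exact ⟨y, y1, h.trans (hζ ▸ y2)⟩
  · exact ⟨z, z1, h.trans (hζ ▸ z2)⟩
  · obtain ⟨c, a⟩ := exists_orderOf_field (F := F) dvd_rfl
    have hq : q ≠ 0 := fun e => by simp [e] at hF
    have a1 := (du_lin_iff (hF := hF) (pow_ne_zero (q - 1) c.ne_zero)).2 (by rw [← pow_mul, mul_comm, hc _ c.ne_zero])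
    have a2 := du_du (frobQ_invol hF) (monic_X_sub_C c.1) (by simp)
    obtain ⟨g, b1, b2⟩ := ex ({X - C c.1} + {du (frobQ hF) (X - C c.1)} + {X - C (c.1 ^ (q - 1))}) (by
      simp [du_X_sub_C c.ne_zero, pp_lin, frobQ_apply, -map_pow, -map_inv₀]) (by
        simp only [Multiset.map_add, Multiset.map_singleton, a1, a2, add_comm]) (by
          simp [dg0, du_X_sub_C c.ne_zero, -map_pow, -map_inv₀]) (by
            simp only [Multiset.map_add, Multiset.map_singleton, Multiset.prod_add, Multiset.prod_singleton,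
              du_X_sub_C c.ne_zero, nu_lin, frobQ_apply]
            rw [mul_right_comm, mul_pow_sub_one hq, mul_inv_cancel₀ (by simp)])
    exact ⟨g, b1, h.trans (po_low b1.2 (hu g b1) hV three_pos (hF ▸ a ▸ ro_lin c ▸ ro_dvd_ord (by simp [b2]) dvd_rfl)
      (h2 ▸ (Nat.gcd_dvd_right _ _).mul_right _))⟩
  · obtain ⟨g, a, b⟩ := hS.u_singer (by omega)
    exact ⟨g, a, h.trans (po_low a.2 (hu g a) hV three_pos (by rw [b, hV, h0]) h1)⟩

end Cfsg.Agent.S2366
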