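import Cfsg.Statements.S2367
import Mathlib

set_option autoImplicit false
open Cfsg

namespace Cfsg.Agent.S2367

/-- Let G be an alternating group of degree at least 5 or a simple group with the order of one of the 26 sporadic groups, and let p be an odd prime such that p³ is the exact power of p dividing the order of G. Then p³ is less than the 2-part of the order of G. -/
theorem result {G : Type*} [Group G] [Finite G] (hG : Cfsg.IsAlternating G ∨ Cfsg.IsSporadic G)
    (p : ℕ) (hp : p.Prime) (hodd : p ≠ 2) (h3 : (Nat.card G).factorization p = 3) :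
    p ^ 3 < 2 ^ (Nat.card G).factorization 2 := by
  have h0 : Nat.card G ≠ 0 := Nat.card_pos.ne'
  have key : ∀ a, 2 ^ a ∣ Nat.card G → p ^ 3 < 2 ^ a → p ^ 3 < 2 ^ (Nat.card G).factorization 2 := fun a h1 h2 =>
    h2.trans_le (Nat.pow_le_pow_right (by omega) ((Nat.prime_two.pow_dvd_iff_le_factorization h0).1 h1))
  have d3 : p ^ 3 ∣ Nat.card G := (hp.pow_dvd_iff_le_factorization h0).2 h3.ge
  have d4 : ¬ p ^ 4 ∣ Nat.card G := fun e => by have := (hp.pow_dvd_iff_le_factorization h0).1 e; omega
  rcases hG with ⟨n, hn, ⟨e⟩⟩ | hG
  · haveI : Nontrivial (Fin n) := Fin.nontrivial_iff_two_le.2 (by omega)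
    have h1 : 2 * Nat.card G = n.factorial := by
      rw [Nat.card_congr e.toEquiv, two_mul_nat_card_alternatingGroup, Nat.card_perm, Nat.card_fin]
    have h2 : ∀ m, 2 ^ (3 * m) ∣ (4 * m).factorial := fun m => by
      induction m with
      | zero => simp
      | succ m ih =>
        obtain ⟨c, hc⟩ := ih
        refine ⟨(m + 1) * (4 * m + 3) * (2 * m + 1) * (4 * m + 1) * c, ?_⟩
        rw [show 4 * (m + 1) = 4 * m + 1 + 1 + 1 + 1 by ring]
        simp only [Nat.factorial_succ, hc]; ring
    have h4 : ∀ a, a + 1 ≤ 3 * (n / 4) → 2 ^ a ∣ Nat.card G := fun a ha => by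
      have := ((pow_dvd_pow 2 ha).trans (h2 _)).trans (Nat.factorial_dvd_factorial (Nat.mul_div_le n 4))
      rw [← h1, pow_succ'] at this
      exact Nat.dvd_of_mul_dvd_mul_left (by omega) this
    have h5 : p ^ 3 ∣ n.factorial := h1 ▸ d3.mul_left 2
    have h6 := (Nat.le_div_iff_mul_le (by have := hp.two_le; omega)).1
      (((hp.pow_dvd_iff_le_factorization n.factorial_ne_zero).1 h5).trans (Nat.factorization_factorial_le_div_pred hp n))
    by_cases h7 : 5 ≤ p
    · refine key (p + 2) (h4 _ (by omega)) ?_
      clear * - h7
      induction p, h7 using Nat.le_induction with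
      | base => norm_num
      | succ p h ih => rw [show p + 1 + 2 = p + 2 + 1 from rfl, pow_succ 2]; nlinarith [Nat.mul_le_mul h (le_refl (p * p)), Nat.mul_le_mul h (le_refl p)]
    · obtain rfl : p = 3 := by
        have := hp.two_le
        have : p ≠ 4 := by rintro rfl; norm_num at hp
        omega
      by_cases h8 : 8 ≤ n
      · exact key 5 (h4 _ (by omega)) (by norm_num)
      · exfalso
        have : n ≤ 7 := by omega
        interval_cases n <;> revert h5 <;> decide
  · have h1 : Nat.card G ∈ [7920, 95040, 443520, 10200960, 244823040, 175560, 604800, 50232960, 86775571046077562880, 4157776806543360000, 42305421312000, 495766656000, 64561751654400, 4089470473293004800, 1255205709190661721292800, 44352000, 898128000, 4030387200, 145926144000, 448345497600, 460815505920, 273030912000000, 51765179004000000, 90745943887872000, 4154781481226426191177580544000000, 808017424794512875886459904961710757005754368000000000] := by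
      simp only [List.mem_cons, List.not_mem_nil, or_false]
      repeat first | (refine hG.imp And.right fun hG => ?_) | exact hG.2
    have h2 : ∀ N ∈ [7920, 95040, 443520, 10200960, 244823040, 175560, 604800, 50232960, 86775571046077562880, 4157776806543360000, 42305421312000, 495766656000, 64561751654400, 4089470473293004800, 1255205709190661721292800, 44352000, 898128000, 4030387200, 145926144000, 448345497600, 460815505920, 273030912000000, 51765179004000000, 90745943887872000, 4154781481226426191177580544000000, 808017424794512875886459904961710757005754368000000000], N ∣ (Nat.factorial 71) ^ 46 ∧ ∀ p < 72, 2 < p → (∀ m < p, m ∣ p → m = 1) → p ^ 3 ∣ N → ¬ p ^ 4 ∣ N →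
        ∃ a < 50, 2 ^ a ∣ N ∧ p ^ 3 < 2 ^ a := by
      set_option synthInstance.maxSize 2000 in decide +kernel
    obtain ⟨h4, h5⟩ := h2 _ h1
    have h6 := hp.dvd_factorial.1 (hp.dvd_of_dvd_pow (((dvd_pow_self p (by omega)).trans d3).trans h4))
    obtain ⟨a, -, h7, h8⟩ := h5 p (by omega) (by have := hp.two_le; omega)
      (fun m h h' => (hp.eq_one_or_self_of_dvd m h').resolve_right h.ne) d3 d4
    exact key a h7 h8

end Cfsg.Agent.S2367
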