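import Cfsg.Statements.S2368
import Cfsg.Agent.H5.Cj1

set_option autoImplicit false
open Cfsg

namespace Cfsg.Agent.S2368

open CfsgH5

/-- Let F be a finite field of characteristic p and m ≥ 1. Every element of GL(m, F) of p-power order has order less than p·m, and GL(m, F) has an element of p-power order at least m; so the largest order of a p-element of GL(m, F) is the least power of p that is at least m. -/
theorem result {F : Type*} [Field F] [Fintype F] (p : ℕ) [Fact p.Prime] [CharP F p] (m : ℕ) (hm : 1 ≤ m) :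
    (∀ g : Matrix.GeneralLinearGroup (Fin m) F, (∃ j : ℕ, orderOf g = p ^ j) → orderOf g < p * m) ∧
      ∃ g : Matrix.GeneralLinearGroup (Fin m) F, (∃ j : ℕ, orderOf g = p ^ j) ∧ m ≤ orderOf g := by
  have hp := (Fact.out : p.Prime).one_lt
  constructor
  · intro g hg
    rw [← (glEquiv _ F).orderOf_eq] at hg ⊢
    have h1 := (pel_iff_unip p).1 hg
    have h2 := (orderOf_dvd_pp p (k := Nat.clog p m)).2 ((pow_eq_zero_iff_jt h1).2 fun e he =>
      ((Multiset.single_le_sum (fun _ _ => Nat.zero_le _) e he).trans (by simp [jt_sum])).trans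
        (Nat.le_pow_clog hp m))
    refine (Nat.le_of_dvd (by positivity) h2).trans_lt ?_
    rcases hm.eq_or_lt with rfl | h
    · simpa using hp
    · rw [← Nat.succ_pred_eq_of_pos (Nat.clog_pos hp h), pow_succ']
      exact Nat.mul_lt_mul_of_pos_left (Nat.pow_pred_clog_lt_self hp h) (by omega)
  · obtain ⟨u, h1, h2⟩ := exists_jt (F := F) (V := Fin m → F) (m := {m}) (by simp; omega) (by simp)
    obtain ⟨j, hj⟩ := (pel_iff_unip p).2 h1
    refine ⟨(glEquiv _ F).symm u, ⟨j, by simpa using hj⟩, ?_⟩
    simpa [hj, h2] using (pow_eq_zero_iff_jt h1).1 ((orderOf_dvd_pp p).1 hj.dvd)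

end Cfsg.Agent.S2368
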