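import Cfsg.Statements.S2369
import Cfsg.Agent.H6.BT2

set_option autoImplicit false
open Cfsg

namespace Cfsg.Agent.S2369

open CfsgH6 CfsgH6.Chev CfsgH6.PreSt

/-- Let q = 2^(2m+1) with m ≥ 1 and let a, b be commuting elements of the large Ree group ²F₄(q) with a an involution. Then every prime divisor of the order of b divides q(q⁴ − 1). -/
theorem result {K : Type*} [Field K] [Fintype K] (m : ℕ) (hm : 1 ≤ m) (hK : Fintype.card K = 2 ^ (2 * m + 1))
    (a b : ↥(Cfsg.Lie.twistedF4 K (2 ^ m))) (ha : orderOf a = 2) (hab : Commute a b) :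
    (orderOf b).primeFactors ⊆ (2 ^ (2 * m + 1) * ((2 ^ (2 * m + 1)) ^ 4 - 1)).primeFactors := by
  obtain ⟨φ, T, h⟩ := exists_isF4 hK
  obtain ⟨A, hA, r, h1, h2⟩ := h.classes.2 a ha
  obtain ⟨y, rfl⟩ := isConj_iff.1 h2
  obtain ⟨i, hi⟩ := h.cent_le hA
  have := gF4.finiteG K
  have h3 : h.set.ι (y * b * y⁻¹) ∈ T.M := h.set.range_ι ▸ (⟨_, rfl⟩ : _ ∈ h.set.ι.range)
  have h4 := Subgroup.orderOf_dvd_natCard _ (mi (hi (mi h3 (by
    rw [← h1, Subgroup.mem_centralizer_singleton_iff, ← map_mul, ← map_mul]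
    congr 1
    calc _ = y * (b * a) * y⁻¹ := by group
      _ = _ := by rw [← hab.eq]; group))) h3)
  have h5 := h.set.card_U.symm.trans h.card_U
  have h6 := h.set.card_H.symm.trans h.card_H
  have h7 : ∃ j, (j = 1 ∨ j = 2) ∧ Nat.card ((gF4.adjG K).XP (T.orb i) ⊓ T.Fix : Subgroup _) = Fintype.card K ^ j := by
    rw [← Um_lg]
    rcases h.orb_cases i with e | e
    · exact ⟨1, by simp, h.card_Um (T.lg_orb_mem i) (gF4.len_lg e [f4i 0, f4i 3] (by decide +kernel))⟩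
    · exact ⟨2, by simp, h.card_Um (T.lg_orb_mem i) (gF4.len_lg e [f4i 1, f4i 2, f4i 1, f4i 2] (by decide +kernel))⟩
  obtain ⟨j, hj, h7⟩ := h7
  rw [orderOf_injective _ h.set.ι_inj, show orderOf (y * b * y⁻¹) = orderOf b from orderOf_injective
    (MulAut.conj y).toMonoidHom (MulEquiv.injective _) b, Tw.card_P_orb (gF4.isStG K) h.ne le_rfl
    (le_inf T.M_le_G T.M_le_Fix), Tw.card_B (gF4.isStG K) h.ne le_rfl (le_inf T.M_le_G T.M_le_Fix), h7] at h4
  erw [h5, h6] at h4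
  rw [← hK]
  obtain ⟨Q, hQ⟩ : ∃ Q, Fintype.card K = Q + 1 := ⟨_, (Nat.succ_pred_eq_of_pos Fintype.card_pos).symm⟩
  have h8 : 0 < Q := by have := Fintype.one_lt_card (α := K); omega
  rw [hQ] at h4 ⊢
  have e : (Q + 1) ^ 4 - 1 = Q * (1 + (Q + 1) ^ 1) * (1 + (Q + 1) ^ 2) := by
    rw [Nat.sub_eq_iff_eq_add (Nat.one_le_pow 4 (Q + 1) Q.succ_pos)]; ring
  intro s hs
  have hp := Nat.prime_of_mem_primeFactors hs
  refine Nat.mem_primeFactors.2 ⟨hp, ?_, by rw [e]; positivity⟩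
  rw [e]
  rcases (Nat.Prime.dvd_mul hp).1 ((Nat.dvd_of_mem_primeFactors hs).trans h4) with h9 | h9
  · rcases (Nat.Prime.dvd_mul hp).1 h9 with h9 | h9
    · exact (hp.dvd_of_dvd_pow h9).mul_right _
    · exact (((hp.dvd_of_dvd_pow h9).mul_right _).mul_right _).mul_left _
  · rcases hj with rfl | rfl
    · exact ((h9.mul_left _).mul_right _).mul_left _
    · exact (h9.mul_left _).mul_left _

end Cfsg.Agent.S2369
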