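import Cfsg.Statements.S2372
import Cfsg.Agent.H6.Lg7

set_option autoImplicit false
open Cfsg

namespace Cfsg.Agent.S2372

open CfsgH6 CfsgH6.Chev Cfsg.Lie

/-- The group F₄(q) contains a cyclic subgroup of order q⁴ + 1 which is its own centralizer. -/
theorem result {F : Type*} [Field F] [Fintype F] (q : ℕ) (hF : Fintype.card F = q) :
    ∃ H : Subgroup ↥(Cfsg.Lie.chevF4.group F), IsCyclic ↥H ∧ Nat.card ↥H = q ^ 4 + 1 ∧
      Subgroup.centralizer (H : Set ↥(Cfsg.Lie.chevF4.group F)) = H := by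
  subst hF
  have h2 : 2 ≤ Fintype.card F := Fintype.one_lt_card
  obtain ⟨H, h3, h4, h5⟩ := gF4.selfcent_fr (by simp) minusF4 F (d := 1)
    [⟨0, by decide⟩, ⟨2, by decide⟩, ⟨3, by decide⟩, ⟨1, by decide⟩, ⟨2, by decide⟩, ⟨1, by decide⟩]
    (by rw [kerF4]; simpa using Nat.gcd_dvd_left _ _)
    [[-1, 0, 0, 0], [1, -1, 0, 0], [1, -2, 1, 0], [1, -1, 0, 1], [1, 0, 0, 0]]
    [[-1, -1, -1, 0], [0, -1, -2, -1], [0, 0, 1, 0], [0, 0, 0, 1], [0, 0, 0, 0]]
    [1, 0, 0, 0, 1] [1, 1, 1, 0] 2 2 (by decide +kernel) h2 (N := Fintype.card F ^ 4 + 1) (by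
      generalize Fintype.card F = q at h2
      change _ = pev [1, 0, 0, 0, 1] _
      simp only [pev_cons, pev_nil]
      push_cast; ring)
  refine ⟨H, h3, ?_, h5⟩
  rw [kerF4, Nat.card_eq_fintype_card (α := F)] at h4
  simpa using h4

end Cfsg.Agent.S2372
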