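import Cfsg.Statements.S2373
import Cfsg.Agent.H6.Lg7

set_option autoImplicit false
open Cfsg

namespace Cfsg.Agent.S2373

open CfsgH6 CfsgH6.Chev Cfsg.Lie

/-- The group E₆(q) (the simple Chevalley group of type E₆) contains a cyclic subgroup of order (q⁴ − q² + 1)(q² + q + 1)/gcd(3, q − 1) which is its own centralizer. -/
theorem result {F : Type*} [Field F] [Fintype F] (q : ℕ) (hF : Fintype.card F = q) :
    ∃ H : Subgroup ↥(Cfsg.Lie.chevE6.group F), IsCyclic ↥H ∧ Nat.card ↥H = (q ^ 4 - q ^ 2 + 1) * (q ^ 2 + q + 1) / Nat.gcd 3 (q - 1) ∧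
      Subgroup.centralizer (H : Set ↥(Cfsg.Lie.chevE6.group F)) = H := by
  subst hF
  have h2 : 2 ≤ Fintype.card F := Fintype.one_lt_card
  obtain ⟨H, h3, h4, h5⟩ := gE6.selfcent_fr (by simp) minusE6 F (d := 3)
    [⟨3, by decide⟩, ⟨4, by decide⟩, ⟨2, by decide⟩, ⟨0, by decide⟩, ⟨5, by decide⟩, ⟨1, by decide⟩]
    (by rw [kerE6]; simpa using Nat.gcd_dvd_left _ _)
    [[-1, 0, 0, 0, 0, 0], [0, -1, 0, 1, -1, 0], [0, 0, -1, 1, 0, -1], [-1, -1, 0, 1, 0, 0], [0, 0, 0, 1, -1, 0], [0, 0, 0, 0, 1, -1], [0, 0, 0, 0, 0, 1]]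
    [[-1, 0, 0, -1, -1, -1], [0, -1, 0, -1, -1, -1], [0, 0, -1, 0, 0, 0], [0, 0, 0, 1, 1, 1], [0, 1, 1, 1, 0, 0], [0, 0, 1, 0, 0, -1], [0, 0, 0, 0, 0, 0]]
    [1, 1, 0, -1, 0, 1, 1] [1, 0, 0, 1, 1, 1] 2 6 (by decide +kernel) h2 (N := (Fintype.card F ^ 4 - Fintype.card F ^ 2 + 1) * (Fintype.card F ^ 2 + Fintype.card F + 1)) (by
      generalize Fintype.card F = q at h2
      change _ = pev [1, 1, 0, -1, 0, 1, 1] _
      simp only [pev_cons, pev_nil]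
      push_cast [Nat.cast_sub (Nat.pow_le_pow_right (by omega : 0 < q) (by norm_num : 2 ≤ 4))]; ring)
  refine ⟨H, h3, ?_, h5⟩
  rw [kerE6, Nat.card_eq_fintype_card (α := F)] at h4
  rw [← h4, pow_one, Nat.mul_div_cancel _ (Nat.gcd_pos_of_pos_left _ (by norm_num))]

end Cfsg.Agent.S2373
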