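import Cfsg.Statements.S2375
import Cfsg.Agent.H6.Lg7

set_option autoImplicit false
open Cfsg

namespace Cfsg.Agent.S2375

open CfsgH6 CfsgH6.Chev Cfsg.Lie

/-- The group E₈(q) contains a cyclic subgroup of order q⁸ + q⁷ − q⁵ − q⁴ − q³ + q + 1 which is its own centralizer. -/
theorem result {F : Type*} [Field F] [Fintype F] (q : ℕ) (hF : Fintype.card F = q) :
    ∃ H : Subgroup ↥(Cfsg.Lie.chevE8.group F), IsCyclic ↥H ∧ Nat.card ↥H = q ^ 8 + q ^ 7 - q ^ 5 - q ^ 4 - q ^ 3 + q + 1 ∧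
      Subgroup.centralizer (H : Set ↥(Cfsg.Lie.chevE8.group F)) = H := by
  subst hF
  have h2 : 2 ≤ Fintype.card F := Fintype.one_lt_card
  obtain ⟨H, h3, h4, h5⟩ := gE8.selfcent_fr (by simp) minusE8 F (d := 1)
    [⟨4, by decide⟩, ⟨6, by decide⟩, ⟨7, by decide⟩, ⟨0, by decide⟩, ⟨2, by decide⟩, ⟨1, by decide⟩, ⟨5, by decide⟩, ⟨3, by decide⟩]
    (by rw [kerE8]; simpa using Nat.gcd_dvd_left _ _)
    [[-1, 0, 0, 0, 0, 0, 0, 0], [1, 0, -1, 0, 0, 0, 0, 0], [0, 0, 1, -1, 0, 0, 0, 0], [0, 1, 0, -1, 1, -1, 0, 0], [1, 0, 0, -1, 1, -1, 1, -1], [0, 1, 1, -2, 1, -1, 1, 0], [1, 1, 0, -2, 2, -1, 0, 0], [1, 1, 1, -2, 1, -1, 1, -1], [0, 1, 1, -2, 2, -2, 1, 0]]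
    [[-1, 0, -1, -1, 0, 1, 0, -1], [0, 0, -1, -1, -1, 0, 0, 0], [0, -1, 0, -1, -1, -1, -1, 0], [0, 0, 0, 0, -1, -2, -1, 0], [0, -1, 0, 0, 0, -1, 0, 0], [0, 0, 0, 0, 0, 0, 1, 1], [0, 0, 0, 0, 1, 1, 0, 0], [0, 1, 0, 0, 0, 1, 0, -1], [0, 0, 0, 0, 0, 0, 0, 0]]
    [1, 1, 0, -1, -1, -1, 0, 1, 1] [1, 0, 1, 1, 0, -1, 0, 1] 2 3 (by decide +kernel) h2 (N := Fintype.card F ^ 8 + Fintype.card F ^ 7 - Fintype.card F ^ 5 - Fintype.card F ^ 4 - Fintype.card F ^ 3 + Fintype.card F + 1) (by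
      generalize Fintype.card F = q at h2
      change _ = pev [1, 1, 0, -1, -1, -1, 0, 1, 1] _
      simp only [pev_cons, pev_nil]
      have a1 := Nat.pow_le_pow_right (by omega : 0 < q) (by norm_num : 5 ≤ 7)
      have a2 := Nat.pow_le_pow_right (by omega : 0 < q) (by norm_num : 4 ≤ 7)
      have a3 := Nat.pow_le_pow_right (by omega : 0 < q) (by norm_num : 3 ≤ 7)
      have a4 : 2 * q ^ 7 ≤ q ^ 8 := by rw [pow_succ' q 7]; exact Nat.mul_le_mul_right _ h2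
      push_cast [Nat.cast_sub (by omega : q ^ 3 ≤ q ^ 8 + q ^ 7 - q ^ 5 - q ^ 4),
        Nat.cast_sub (by omega : q ^ 4 ≤ q ^ 8 + q ^ 7 - q ^ 5), Nat.cast_sub (by omega : q ^ 5 ≤ q ^ 8 + q ^ 7)]
      ring)
  refine ⟨H, h3, ?_, h5⟩
  rw [kerE8, Nat.card_eq_fintype_card (α := F)] at h4
  simpa using h4

end Cfsg.Agent.S2375
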