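import Cfsg.Statements.S2376
import Cfsg.Agent.H6.Lg7

set_option autoImplicit false
open Cfsg

namespace Cfsg.Agent.S2376

open CfsgH6 CfsgH6.Chev Cfsg.Lie

/-- The group ³D₄(q) contains a cyclic subgroup of order (q³ − 1)(q + 1) which is its own centralizer. -/
theorem result {K : Type*} [Field K] [Fintype K] (q : ℕ) (hq : IsPrimePow q) (hK : Fintype.card K = q ^ 3) :
    ∃ H : Subgroup ↥(Cfsg.Lie.twistedD4 K q), IsCyclic ↥H ∧ Nat.card ↥H = (q ^ 3 - 1) * (q + 1) ∧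
      Subgroup.centralizer (H : Set ↥(Cfsg.Lie.twistedD4 K q)) = H := by
  obtain ⟨p, k, hp, hk, rfl⟩ := hq
  haveI : Fact p.Prime := ⟨hp.nat_prime⟩
  haveI := charP_of_card hp.nat_prime (hK.trans (pow_mul p k 3).symm)
  obtain ⟨σ, h1, h2⟩ := rz_D4 hk hK
  have h3 : 2 ≤ p ^ k := Nat.one_lt_pow hk.ne' hp.nat_prime.one_lt
  simpa using gD4.selfcent (by simp) minusD4 σ hk h1 (algP_closure K p) h2 (d := 1) [⟨1, by decide⟩] dvd_rfl
    [[-1, 1, 0, 0], [1, -1, 0, 1], [0, 1, 0, -1], [0, -1, 1, 1], [0, 1, -1, 0]]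
    [[0, 1, 0, 1], [1, 1, 0, 1], [1, 1, 1, 0], [0, 0, 1, 0], [0, 0, 0, 0]]
    [-1, -1, 0, 1, 1] [0, 1, 0, 1] 2 2 (by decide +kernel) h3 (N := ((p ^ k) ^ 3 - 1) * (p ^ k + 1)) (by
      generalize p ^ k = q at h3
      change _ = pev [-1, -1, 0, 1, 1] _
      simp only [pev_cons, pev_nil]
      push_cast [Nat.cast_sub (Nat.one_le_pow 3 q (by omega))]; ring)

end Cfsg.Agent.S2376
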