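import Cfsg.Statements.S2379
import Cfsg.Agent.H5.El4

set_option autoImplicit false
open Cfsg

namespace Cfsg.Agent.S2379

open CfsgH5 Module

/-- Sylow subgroups of `SL_n(q)` for large primes. Let `F` be a field with `q` elements and `r` a prime with `r > n` and `r ∤ q` (so `r` does not divide the order `n!` of the Weyl group). Let `d` be the multiplicative order of `q` modulo `r`, `a` the number of integers `i` with `2 ≤ i ≤ n` divisible by `d` (the degrees of the Weyl group are `2, …, n`), and `m` the `r`-part of the value at `q` of the `d`-th cyclotomic polynomial. Then every Sylow `r`-subgroup of `SL_n(q)` is a direct product of `a` cyclic groups of order `m`. -/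
theorem result {F : Type*} [Field F] [Fintype F] {q : ℕ} (hq : Fintype.card F = q) (n : ℕ)
    (r : ℕ) [Fact r.Prime] (hrn : n < r) (hrq : ¬ r ∣ q) (P : Sylow r (Matrix.SpecialLinearGroup (Fin n) F)) :
    Nonempty (↥(P : Subgroup (Matrix.SpecialLinearGroup (Fin n) F)) ≃*
      (Fin ((Finset.Icc 2 n).filter (fun i => orderOf (q : ZMod r) ∣ i)).card →
        Multiplicative (ZMod (r ^ padicValNat r ((Polynomial.cyclotomic (orderOf (q : ZMod r)) ℤ).eval (q : ℤ)).natAbs)))) := by
  classical
  subst hq
  have hr : r.Prime := Fact.out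
  have hq := Fintype.one_lt_card (α := F)
  have h0 := (ord_pos hr (cast_ne_of_not_dvd hrq)).1
  rw [val_cyclotomic hq h0]
  obtain ⟨g, hg⟩ := ej_cyc_gl hrq
  rcases n with _ | n
  · exact sylow_equiv_of_val (k := 0) ⟨1, fun _ _ _ => funext fun i => absurd i.2 (by simp)⟩ (by simp)
      (by rw [Nat.card_unique]; simp) P
  have h1 := val_GL hrq hrn
  have h2 := val_pow_sub_one (r := r) hq (j := 1) (by simp [hr.ne_one])
  rw [← card_SL_mul, padicValNat.mul (by omega) Nat.card_pos.ne'] at h1
  rw [pow_one] at h2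
  by_cases e : orderOf (Fintype.card F : ZMod r) = 1
  · have h3 : ((Finset.Icc 2 (n + 1)).filter (orderOf (Fintype.card F : ZMod r) ∣ ·)).card = n := by simp [e]
    rw [h3]
    rw [h2, if_pos e.dvd] at h1
    exact sylow_equiv_of_val ((ej_pi ej_gl (ej_cyc hg) n n (by simp [e])).trans (ej_gl_sl n))
      (by simp [← pow_mul]; rfl) (by rw [e] at h1 ⊢; rw [Nat.div_one, mul_add] at h1; omega) P
  have h3 : ((Finset.Icc 2 (n + 1)).filter (orderOf (Fintype.card F : ZMod r) ∣ ·)).card =
      (n + 1) / orderOf (Fintype.card F : ZMod r) := by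
    rw [← Nat.Ioc_filter_dvd_card_eq_div]
    congr 1
    ext j
    simp only [Finset.mem_filter, Finset.mem_Icc, Finset.mem_Ioc, and_congr_left_iff]
    intro h
    have : j ≠ 1 := fun e' => e (Nat.dvd_one.1 (e' ▸ h))
    omega
  rw [h3]
  rw [h2, if_neg (mt Nat.dvd_one.1 e), zero_add] at h1
  have h4 : Matrix.GeneralLinearGroup.det g = 1 := by
    have h5 := orderOf_map_dvd Matrix.GeneralLinearGroup.det g
    have h6 := orderOf_dvd_card (x := Matrix.GeneralLinearGroup.det g)
    rw [Fintype.card_units] at h6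
    exact orderOf_eq_one_iff.1 (Nat.eq_one_of_dvd_coprimes ((hr.coprime_iff_not_dvd.2
      (mt (ord_eq_one_iff (by omega)).2 e)).pow_left _) (hg ▸ h5) h6)
  obtain ⟨g, rfl⟩ := range_toGL.ge h4
  exact sylow_equiv_of_val (ej_pi ej_sl (ej_cyc ((orderOf_injective _
    Matrix.SpecialLinearGroup.toGL_injective g).symm.trans hg)) _ _ (Nat.div_mul_le_self _ _))
    (by simp [← pow_mul]) h1 P

end Cfsg.Agent.S2379
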