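import Cfsg.Statements.S2381
import Cfsg.Agent.H5.El4

set_option autoImplicit false
open Cfsg

namespace Cfsg.Agent.S2381

open CfsgH5 Module

/-- Sylow subgroups of `Sp_{2n}(q)` for large primes. Let `F` be a field with `q` elements and `r` an odd prime with `r > n` and `r ∤ q` (so `r` does not divide the order `2^n n!` of the Weyl group). Let `d` be the multiplicative order of `q` modulo `r`, `a` the number of `i` with `1 ≤ i ≤ n` and `d ∣ 2i` (the degrees being `2, 4, …, 2n`), and `m` the `r`-part of the value at `q` of the `d`-th cyclotomic polynomial. Then every Sylow `r`-subgroup of the symplectic group `Sp_{2n}(q)` is a direct product of `a` cyclic groups of order `m`. -/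
theorem result {F : Type*} [Field F] [Fintype F] {q : ℕ} (hq : Fintype.card F = q) (n : ℕ)
    (r : ℕ) [Fact r.Prime] (hr2 : r ≠ 2) (hrn : n < r) (hrq : ¬ r ∣ q) (P : Sylow r ↥(Matrix.symplecticGroup (Fin n) F)) :
    Nonempty (↥(P : Subgroup ↥(Matrix.symplecticGroup (Fin n) F)) ≃*
      (Fin ((Finset.Icc 1 n).filter (fun i => orderOf (q : ZMod r) ∣ 2 * i)).card →
        Multiplicative (ZMod (r ^ padicValNat r ((Polynomial.cyclotomic (orderOf (q : ZMod r)) ℤ).eval (q : ℤ)).natAbs)))) := by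
  subst hq
  have hr : r.Prime := Fact.out
  have hq := Fintype.one_lt_card (α := F)
  have r0 := cast_ne_of_not_dvd hrq
  have h0 := (ord_pos hr r0).1
  rw [val_cyclotomic hq h0]
  have h1 := (ord_dvd_iff (r := r) (show 0 < Fintype.card F by omega)).1 dvd_rfl
  have h5 := Nat.one_lt_pow h0.ne' hq
  set a := padicValNat r (Fintype.card F ^ orderOf (Fintype.card F : ZMod r) - 1) with ha
  obtain ⟨η, h2, h3, h4⟩ : ∃ η, 0 < η ∧ (∀ j, orderOf (Fintype.card F : ZMod r) ∣ 2 * j ↔ η ∣ j) ∧
      (r ^ a ∣ Fintype.card F ^ η - 1 ∨ r ^ a ∣ Fintype.card F ^ η + 1) := by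
    rcases Nat.even_or_odd (orderOf (Fintype.card F : ZMod r)) with ⟨η, h⟩ | h
    · refine ⟨η, by omega, fun j => by rw [h, ← two_mul, Nat.mul_dvd_mul_iff_left two_pos], .inr
        (Nat.Coprime.dvd_of_dvd_mul_right (n := Fintype.card F ^ η - 1) ((hr.coprime_iff_not_dvd.2 fun e => ?_).pow_left _) ?_)⟩
      · have := Nat.le_of_dvd (by omega) ((ord_dvd_iff (by omega)).2 e); omega
      · rw [← one_pow 2, ← Nat.sq_sub_sq, ← pow_mul, mul_two, ← h]
        simpa using pow_padicValNat_dvd
    · exact ⟨_, h0, fun j => (Nat.coprime_two_right.2 h).dvd_mul_left, .inl pow_padicValNat_dvd⟩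
  have h6 : ((Finset.Icc 1 n).filter (fun i => orderOf (Fintype.card F : ZMod r) ∣ 2 * i)).card = n / η := by
    simp only [h3]; exact Nat.Ioc_filter_dvd_card_eq_div n η
  rw [h6]
  obtain ⟨g, h7, hg⟩ := exists_ord_sp (spForm_nondeg (F := F) η) (N := r ^ a) (by simp [r0]) (fun e => hr2
    ((Nat.prime_dvd_prime_iff_eq hr Nat.prime_two).1 ((dvd_pow_self r
      (one_le_padicValNat_of_dvd (by omega) h1 |> Nat.ne_of_gt)).trans e))) h2 (by simp [two_mul]) h4
  obtain ⟨g, rfl⟩ := exists_spHom h7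
  refine sylow_equiv_of_val (k := a * (n / η)) (ej_pi ej_sp (ej_cyc ((orderOf_injective _ (spHom_inj η) g).symm.trans hg))
    _ _ (Nat.div_mul_le_self _ _)) (by simp [← pow_mul]) ?_ P
  have h8 : ∀ i, Fintype.card F ^ (2 * (i + 1)) - 1 ≠ 0 := fun i => by
    have := Nat.one_lt_pow (show 2 * (i + 1) ≠ 0 by omega) hq; omega
  rw [card_sp, Nat.card_eq_fintype_card, padicValNat.mul (by positivity) (Finset.prod_ne_zero_iff.2 fun i _ => h8 i),
    padicValNat.eq_zero_of_not_dvd (mt hr.dvd_of_dvd_pow hrq), zero_add]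
  clear h6 P
  induction n with
  | zero => simp
  | succ n ih =>
    rw [Finset.prod_range_succ, padicValNat.mul (Finset.prod_ne_zero_iff.2 fun i _ => h8 i) (h8 n), ih (by omega),
      val_pow_sub_one hq (hr.not_dvd_mul (mt (Nat.prime_dvd_prime_iff_eq hr Nat.prime_two).1 hr2)
        (Nat.not_dvd_of_pos_of_lt n.succ_pos hrn)), Nat.succ_div, ← ha]
    simp only [h3]
    split_ifs <;> ring

end Cfsg.Agent.S2381
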