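import Cfsg.Statements.S2384
import Cfsg.Agent.H5.Cj1

set_option autoImplicit false
open Cfsg

namespace Cfsg.Agent.S2384

open CfsgH5

/-- In `SL_n(q)`, `q` a power of the prime `p`, the number of conjugacy classes of elements of order prime to `p` (the semisimple classes) is `q^(n-1)`. -/
theorem result {F : Type*} [Field F] [Fintype F] {q : ℕ} (hq : Fintype.card F = q) (p : ℕ) [Fact p.Prime] [CharP F p] (n : ℕ) (hn : 1 ≤ n) :
    Nat.card {c : ConjClasses (Matrix.SpecialLinearGroup (Fin n) F) //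
      ∃ g : Matrix.SpecialLinearGroup (Fin n) F, ConjClasses.mk g = c ∧ (orderOf g).Coprime p} = q ^ (n - 1) := by
  obtain ⟨n, rfl⟩ : ∃ k, n = k + 1 := ⟨n - 1, by omega⟩
  rw [card_classes' (slHom (Fin (n + 1)) F) slHom_inj range_slHom _ (fun g => SS g.toLinearMap)
    (fun g => by rw [ss_iff_coprime p, orderOf_injective _ slHom_inj])
    (fun g => g.toLinearMap.charpoly)
    {c | c.Monic ∧ c.natDegree = n + 1 ∧ c.coeff 0 = (-1) ^ (n + 1)}]
  · refine (card_monic (n + 1) fun v => v 0 = (-1) ^ (n + 1)).trans ?_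
    refine (Nat.card_congr (((Fin.consEquiv fun _ => F).symm.subtypeEquiv
      (q := fun x : F × (Fin n → F) => x.1 = (-1) ^ (n + 1)) fun _ => Iff.rfl).trans
        (Equiv.prodSubtypeFstEquivSubtypeProd (p := fun x : F => x = (-1) ^ (n + 1))))).trans ?_
    simp [hq]
  · refine fun g _ h _ h1 h2 => ⟨fun ⟨k, _, e⟩ => (conj_iff_sim.1 ⟨k, e⟩).charpoly, fun e => ?_⟩
    obtain ⟨k, rfl⟩ := conj_iff_sim.2 (h1.sim h2 e)
    exact h1.conj_sl k
  · refine fun c => ⟨fun h => (exists_ss h.1 (by simpa using h.2.1) (by simp [h.2.2])).imp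
      fun g h1 => ⟨mem_slSub_iff.2 (by simpa [h1.2] using h.2.2), h1⟩, ?_⟩
    rintro ⟨g, hg, -, rfl⟩
    exact ⟨LinearMap.charpoly_monic _, by simp [LinearMap.charpoly_natDegree],
      by simpa using mem_slSub_iff.1 hg⟩

end Cfsg.Agent.S2384
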