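import Cfsg.Statements.S2385
import Cfsg.Agent.H5.Cj3

set_option autoImplicit false
open Cfsg

namespace Cfsg.Agent.S2385

open CfsgH5 Polynomial

/-- In the symplectic group `Sp_{2n}(q)`, `q` a power of the prime `p`, the number of conjugacy classes of elements of order prime to `p` is `q^n`. -/
theorem result {F : Type*} [Field F] [Fintype F] {q : ℕ} (hq : Fintype.card F = q) (p : ℕ) [Fact p.Prime] [CharP F p] (n : ℕ) :
    Nat.card {c : ConjClasses ↥(Matrix.symplecticGroup (Fin n) F) //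
      ∃ g : ↥(Matrix.symplecticGroup (Fin n) F), ConjClasses.mk g = c ∧ (orderOf g).Coprime p} = q ^ n := by
  have key : ∀ c : F[X], c.Monic → c.natDegree = 2 * n → (c.coeff 0 = 1 ∧ du (RingHom.id F) c = c ↔
      c.coeff 0 = 1 ∧ ∀ i j : Fin (2 * n), i.1 + j.1 = 2 * n → c.coeff i = c.coeff j) :=
    fun c h1 h2 => and_congr_right fun h0 => by
      rw [du_eq_iff_coeff le_rfl, h2, h0]
      refine ⟨fun h i j e => by simpa [← e] using (h i i.2.le).symm, fun h i hi => ?_⟩
      have h3 : c.coeff (2 * n) = 1 := h2 ▸ h1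
      rcases hi.eq_or_lt with rfl | hi
      · simp [h0, h3]
      rcases Nat.eq_zero_or_pos i with rfl | h4
      · simp [h0, h3]
      simpa using h ⟨2 * n - i, by omega⟩ ⟨i, hi⟩ (by simp; omega)
  rw [card_classes' (spHom n F) (spHom_inj n) (range_spHom n) _ (fun g => SS g.toLinearMap)
    (fun g => by rw [ss_iff_coprime p, orderOf_injective _ (spHom_inj n)])
    (fun g => g.toLinearMap.charpoly) {c | c.Monic ∧ c.natDegree = 2 * n ∧ (∀ h : 0 < 2 * n,
      c.coeff (⟨0, h⟩ : Fin (2 * n)) = 1) ∧ ∀ i j : Fin (2 * n), i.1 + j.1 = 2 * n → c.coeff i = c.coeff j}]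
  · refine (card_monic (F := F) (2 * n) fun v => (∀ h, v ⟨0, h⟩ = 1) ∧ ∀ i j, i.1 + j.1 = 2 * n → v i = v j).trans
      (Eq.trans ?_ (show Nat.card (Fin n → F) = q ^ n by simp [hq]))
    refine Nat.card_congr ⟨fun v j => v.1 ⟨j + 1, by omega⟩, fun w => ⟨fun i => if h : i.1 = 0 then 1
      else w ⟨min i.1 (2 * n - i.1) - 1, by omega⟩, by simp, fun i j e => by
        dsimp only
        rw [dif_neg (by omega), dif_neg (by omega)]
        congr 2
        omega⟩, fun v => ?_, fun w => ?_⟩
    · ext i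
      dsimp only
      split_ifs with h
      · exact (v.2.1 i.pos).symm.trans (congrArg _ (Fin.ext h.symm))
      · rcases le_total i.1 (2 * n - i) with e | e
        · exact congrArg _ (Fin.ext (by dsimp only; omega))
        · exact v.2.2 _ _ (by dsimp only; omega)
    · ext j
      dsimp only
      rw [dif_neg (by omega)]
      exact congrArg _ (Fin.ext (by dsimp only; omega))
  · refine fun g hg h hh h1 h2 => ⟨fun ⟨k, _, e⟩ => (conj_iff_sim.1 ⟨k, e⟩).charpoly, fun e =>
      ((spForm_nondeg n).sp_ic (spForm_nondeg n) hg hh ((cast_ne_zero_iff p).2 ((ss_iff_coprime p).1 h1))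
        (pow_orderOf_eq_one g) (h1.sim h2 e)).conj⟩
  · refine fun c => ⟨fun ⟨h1, h2, h3, h4⟩ => ?_, ?_⟩
    · have h5 : c.coeff 0 = 1 := by
        rcases Nat.eq_zero_or_pos (2 * n) with h | h
        · rw [h1.natDegree_eq_zero.1 (h2.trans h), coeff_one_zero]
        · exact h3 h
      exact (spForm_nondeg n).sp_exists_ss h1 (h2.trans (finrank_sp n).symm) h5
        ((key c h1 h2).2 ⟨h5, h4⟩).2
    · rintro ⟨g, hg, -, rfl⟩
      have h1 := g.toLinearMap.charpoly_natDegree.trans (finrank_sp n)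
      have h2 := (key _ (LinearMap.charpoly_monic _) h1).1 ⟨by
        simpa [← two_mul] using mem_slSub_iff.1 (mem_slSub.2 ((spForm_nondeg n).sp_det hg)), (spForm_nondeg n).du_charpoly hg⟩
      exact ⟨LinearMap.charpoly_monic _, h1, fun _ => h2.1, h2.2⟩

end Cfsg.Agent.S2385
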