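import Cfsg.Statements.S2386
import Cfsg.Agent.H5.Cj3

set_option autoImplicit false
open Cfsg

namespace Cfsg.Agent.S2386

open CfsgH5 Polynomial

/-- In the special unitary group `SU_n(q)` (matrices of determinant one over the field with `q²` elements preserving the standard Hermitian form), `q` a power of the prime `p`, the number of conjugacy classes of elements of order prime to `p` is `q^(n-1)`. -/
theorem result {F : Type*} [Field F] [Fintype F] {q : ℕ} (hF : Fintype.card F = q ^ 2) (p : ℕ) [Fact p.Prime] [CharP F p] (n : ℕ) (hn : 1 ≤ n) :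
    Nat.card {c : ConjClasses ↥(Cfsg.SU n F q) // ∃ g : ↥(Cfsg.SU n F q), ConjClasses.mk g = c ∧ (orderOf g).Coprime p} = q ^ (n - 1) := by
  obtain ⟨n, rfl⟩ : ∃ k, n = k + 1 := ⟨n - 1, by omega⟩
  let τ : (Fin n → F) →ₛₗ[frobQ hF] (Fin n → F) := ⟨⟨fun v i => (-1) ^ (n + 1) * frobQ hF (v i.rev),
    fun _ _ => by ext; simp [mul_add]⟩, fun _ _ => by ext; simp [mul_left_comm]⟩
  have hτ : ∀ v i, τ v i = (-1) ^ (n + 1) * frobQ hF (v i.rev) := fun _ _ => rfl
  have h0 : ((-1 : F) ^ (n + 1)) * (-1) ^ (n + 1) = 1 := by simp [← mul_pow]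
  have key : ∀ c : F[X], c.Monic → c.natDegree = n + 1 → c.coeff 0 = (-1) ^ (n + 1) →
      (du (frobQ hF) c = c ↔ τ (fun i => c.coeff i.succ) = fun i => c.coeff i.succ) := fun c h1 h2 h3 => by
    rw [du_eq_iff_coeff le_rfl, h2, h3, map_pow, map_neg, map_one, ← eq_inv_of_mul_eq_one_left h0]
    refine ⟨fun h => funext fun i => ?_, fun h i hi => ?_⟩
    · rw [hτ, ← h _ i.succ.2.le]
      congr 3
      simp [Fin.val_rev]; omega
    have h4 : c.coeff (n + 1) = 1 := h2 ▸ h1
    rcases hi.eq_or_lt with rfl | hi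
    · simp [h0, h3, h4]
    obtain _ | i := i
    · simp [h3, h4]
    rw [← show _ = c.coeff (i + 1) from congrFun h ⟨i, by omega⟩, hτ]
    congr 3
    simp [Fin.val_rev]; omega
  rw [card_classes' (suHom _ F q) (suHom_inj _) (range_suHom hF _) _ (fun g => SS g.toLinearMap)
    (fun g => by rw [ss_iff_coprime p, orderOf_injective _ (suHom_inj _)])
    (fun g => g.toLinearMap.charpoly) {c | c.Monic ∧ c.natDegree = n + 1 ∧ c.coeff 0 = (-1) ^ (n + 1) ∧
      τ (fun i => c.coeff i.succ) = fun i => c.coeff i.succ}]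
  · refine (card_monic (n + 1) fun v => v 0 = (-1) ^ (n + 1) ∧ τ (Fin.tail v) = Fin.tail v).trans
      ((Nat.card_congr (β := {v // τ v = v}) ⟨fun v => ⟨Fin.tail v.1, v.2.2⟩, fun w =>
        ⟨Fin.cons ((-1) ^ (n + 1)) w.1, rfl, w.2⟩, fun v => Subtype.ext (by simp [← v.2.1]), fun w => rfl⟩).trans ?_)
    refine Nat.pow_left_injective two_ne_zero ((card_semi_fixed (frobQ_ne hF) τ (fun v => funext fun i => ?_)
      (frobQ_invol hF)).trans ?_)
    · simp [hτ, frobQ_invol, ← mul_assoc, h0]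
    · simp [hF, ← pow_mul, mul_comm]
  · refine fun g hg h hh h1 h2 => ⟨fun ⟨k, _, e⟩ => (conj_iff_sim.1 ⟨k, e⟩).charpoly, fun e => ?_⟩
    obtain ⟨k, h3, rfl⟩ := (uForm_nondeg hF _).unit_conj (frobQ_ne hF) hg.1 hh.1 (h1.sim h2 e)
    exact (uForm_nondeg hF _).unit_conj_su hg.1 h1 h3
  · refine fun c => ⟨fun ⟨h1, h2, h3, h4⟩ => ?_, ?_⟩
    · obtain ⟨g, h5, rfl⟩ := exists_ss (V := Fin (n + 1) → F) h1 (by simpa using h2) (by simp [h3])
      obtain ⟨g', h6, h7⟩ := (uForm_nondeg hF _).unit_exists (g := g) (irr_prod_inj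
        (by simpa using fun a ha => monic_du (coeff_ed_ne g a ha)) (by
          simpa using fun a ha => irreducible_du (frobQ_invol hF) (monic_ed _ a ha) (coeff_ed_ne g a ha)
            (h5 a ha)) (monic_ed _) h5 (by rw [← map_multiset_prod, prod_ed, (key _ h1 h2 h3).2 h4]))
      exact ⟨g', ⟨h6, mem_slSub_iff.2 (by simpa [← h7.charpoly] using h3)⟩,
        fun a ha => h5 a (sim_iff_ed.1 h7 ▸ ha), h7.charpoly.symm⟩
    · rintro ⟨g, hg, -, rfl⟩
      have h1 := g.toLinearMap.charpoly_natDegree.trans (Module.finrank_fin_fun F)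
      have h2 : g.toLinearMap.charpoly.coeff 0 = (-1) ^ (n + 1) := by simpa using mem_slSub_iff.1 hg.2
      exact ⟨LinearMap.charpoly_monic _, h1, h2, (key _ (LinearMap.charpoly_monic _) h1 h2).1
        ((uForm_nondeg hF _).du_charpoly hg.1)⟩

end Cfsg.Agent.S2386
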