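import Cfsg.Statements.S2387
import Cfsg.Agent.H5.Cj1

set_option autoImplicit false
open scoped MatrixGroups
open Cfsg

namespace Cfsg.Agent.S2387

open CfsgH5

/-- In `GL_n(q)` with `n ≥ 1`, `q` a power of the prime `p`, the number of conjugacy classes of elements of order prime to `p` (diagonalisable over the algebraic closure; determined by the characteristic polynomial) is `(q - 1) q^(n-1)`. -/
theorem result {F : Type*} [Field F] [Fintype F] {q : ℕ} (hq : Fintype.card F = q) (p : ℕ) [Fact p.Prime] [CharP F p] (n : ℕ) (hn : 1 ≤ n) :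
    Nat.card {c : ConjClasses (GL (Fin n) F) // ∃ g : GL (Fin n) F, ConjClasses.mk g = c ∧ (orderOf g).Coprime p} = (q - 1) * q ^ (n - 1) := by
  obtain ⟨n, rfl⟩ : ∃ k, n = k + 1 := ⟨n - 1, by omega⟩
  rw [card_classes' (glEquiv (Fin (n + 1)) F).toMonoidHom (glEquiv _ F).injective
    (MonoidHom.range_eq_top.2 (glEquiv _ F).surjective) _ (fun g => SS g.toLinearMap)
    (fun g => by rw [ss_iff_coprime p]; simp) (fun g => g.toLinearMap.charpoly)
    {c | c.Monic ∧ c.natDegree = n + 1 ∧ c.coeff 0 ≠ 0}]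
  · refine (card_monic (n + 1) fun v => v 0 ≠ 0).trans ?_
    refine (Nat.card_congr (((Fin.consEquiv fun _ => F).symm.subtypeEquiv (q := fun x : F × (Fin n → F) => x.1 ≠ 0)
      fun _ => Iff.rfl).trans (Equiv.prodSubtypeFstEquivSubtypeProd (p := fun x : F => x ≠ 0)))).trans ?_
    rw [Nat.card_prod, ← Nat.card_congr unitsEquivNeZero, Nat.card_units]
    simp [hq]
  · exact fun g _ h _ h1 h2 => ⟨fun ⟨k, _, e⟩ => (conj_iff_sim.1 ⟨k, e⟩).charpoly, fun e =>
      (conj_iff_sim.2 (h1.sim h2 e)).imp fun _ h => ⟨trivial, h⟩⟩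
  · refine fun c => ⟨fun h => (exists_ss h.1 (by simpa using h.2.1) h.2.2).imp fun _ h => ⟨trivial, h⟩, ?_⟩
    rintro ⟨g, -, -, rfl⟩
    exact ⟨LinearMap.charpoly_monic _, by simp [LinearMap.charpoly_natDegree], coeff_charpoly_ne g⟩

end Cfsg.Agent.S2387
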