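import Cfsg.Statements.S2388
import Cfsg.Agent.H5.Cj1

set_option autoImplicit false
open Cfsg

namespace Cfsg.Agent.S2388

open CfsgH5

/-- In `SL_n(q)`, `q` a power of the prime `p`, two elements of order prime to `p` with the same characteristic polynomial are conjugate in `SL_n(q)` (not merely in `GL_n`). -/
theorem result {F : Type*} [Field F] [Fintype F] (p : ℕ) [Fact p.Prime] [CharP F p] (n : ℕ)
    (g h : Matrix.SpecialLinearGroup (Fin n) F) (hg : (orderOf g).Coprime p) (hh : (orderOf h).Coprime p)
    (hc : (g : Matrix (Fin n) (Fin n) F).charpoly = (h : Matrix (Fin n) (Fin n) F).charpoly) : IsConj g h := by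
  rw [← orderOf_injective _ slHom_inj, ← ss_iff_coprime p] at hg hh
  obtain ⟨k, hk⟩ := conj_iff_sim.2 (hg.sim hh (by
    rw [← Matrix.charpoly_toLin', ← Matrix.charpoly_toLin'] at hc; exact hc))
  exact (isConj_of_card_classes slHom_inj range_slHom).2 (hk ▸ hg.conj_sl k)

end Cfsg.Agent.S2388
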