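import Cfsg.Statements.S2391
import Cfsg.Agent.H8.AutBase
import Cfsg.Agent.H5.Mat

set_option autoImplicit false
open Cfsg

namespace Cfsg.Agent.S2391

/-- The Borel–Tits property of `SL_n(q)` in flag form: for a field `F` of characteristic `p` with finitely many elements and a non-trivial `p`-subgroup `U` of `SL_n(F)`, there is a flag `0 = V₀ < V₁ < ⋯ < V_{k+1} = F^n` with at least one proper non-zero member such that every element of the normaliser of `U` maps each `V_i` onto itself and every element of `U` acts trivially on each quotient `V_{i+1}/V_i` (so the normaliser lies in the parabolic subgroup of the flag and `U` in its unipotent radical). -/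
theorem result {F : Type*} [Field F] [Fintype F] (p : ℕ) [Fact p.Prime] [CharP F p] (n : ℕ)
    (U : Subgroup (Matrix.SpecialLinearGroup (Fin n) F)) (hU : IsPGroup p ↥U) (hne : U ≠ ⊥) :
    ∃ (k : ℕ) (V : Fin (k + 2) → Submodule F (Fin n → F)), 1 ≤ k ∧ StrictMono V ∧ V 0 = ⊥ ∧ V (Fin.last (k + 1)) = ⊤ ∧
      (∀ g ∈ Subgroup.normalizer (U : Set (Matrix.SpecialLinearGroup (Fin n) F)), ∀ i, (V i).map (Matrix.mulVecLin (g : Matrix (Fin n) (Fin n) F)) = V i) ∧
      (∀ u ∈ U, ∀ i : Fin (k + 1), ∀ v ∈ V i.succ, (u : Matrix (Fin n) (Fin n) F).mulVec v - v ∈ V (Fin.castSucc i)) := by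
  open CfsgH5 CfsgH8 Matrix in
  classical
  let W : ℕ → Submodule F (Fin n → F) := fun i => Nat.rec ⊥ (fun _ X => ⨅ u ∈ U, X.comap (mulVecLin u.val - 1)) i
  have mW : ∀ i v, v ∈ W (i + 1) ↔ ∀ u ∈ U, u.val *ᵥ v - v ∈ W i := fun i v => by
    simp [W, Submodule.mem_iInf]
  have ms : ∀ (a b : SpecialLinearGroup (Fin n) F) (v : Fin n → F), (a * b).val *ᵥ v = a.val *ᵥ b.val *ᵥ v :=
    fun a b v => (mulVec_mulVec _ _ _).symm
  have inv : ∀ i, ∀ g ∈ Subgroup.normalizer (U : Set (SpecialLinearGroup (Fin n) F)), ∀ v ∈ W i, g.val *ᵥ v ∈ W i := by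
    intro i
    induction i with
    | zero => intro g _ v hv; simp [show v = 0 from hv]
    | succ i ih =>
      intro g hg v hv
      refine (mW i _).2 fun u hu => ?_
      have := ih g hg _ ((mW i v).1 hv _ ((Subgroup.mem_normalizer_iff''.1 hg u).1 hu))
      rwa [mulVec_sub, ← ms, ← mul_assoc, ← mul_assoc, mul_inv_cancel, one_mul, ms] at this
  have le : ∀ i, W i ≤ W (i + 1) := fun i v hv => (mW i v).2 fun u hu => sub_mem (inv i u (Subgroup.le_normalizer hu) v hv) hv
  have lt : ∀ i, W i ≠ ⊤ → W i < W (i + 1) := fun i h => by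
    obtain ⟨x, -, h1, h2⟩ := exists_fixed_mod (slHom (Fin n) F) hU h.lt_top
      (fun g hg => inv i g (Subgroup.le_normalizer hg)) fun _ _ _ _ => trivial
    exact (le i).lt_of_ne fun e => h1 (e ▸ (mW i x).2 h2)
  have ex : ∃ i, W i = ⊤ := by
    by_contra h
    obtain ⟨i, j, hij, e⟩ := Finite.exists_ne_map_eq_of_infinite W
    exact hij ((strictMono_nat_of_lt_succ fun i => lt i fun e => h ⟨i, e⟩).injective e)
  have h1 : W 1 ≠ ⊤ := fun e => hne (eq_bot_iff.2 fun u hu => Subtype.ext (mat_ext fun v => by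
    simpa [sub_eq_zero] using show _ - v = 0 from (mW 0 v).1 (e ▸ trivial) u hu))
  obtain ⟨m, e, hmin⟩ := wellFounded_lt.has_min {i | W i = ⊤} ex
  obtain ⟨k, rfl⟩ := Nat.exists_eq_add_of_le' (m := 2) (n := m) (not_lt.1 fun hm => by
    interval_cases m
    · exact h1 (top_le_iff.1 (e ▸ le 0))
    · exact h1 e)
  refine ⟨k + 1, fun i => W i, by omega, Fin.strictMono_iff_lt_succ.2 fun i => lt i fun c => hmin _ c (by omega), rfl,
    e, fun g hg i => le_antisymm ?_ fun v hv => ⟨_, inv i _ (inv_mem hg) v hv, ?_⟩,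
    fun u hu i v hv => (mW i v).1 hv u hu⟩
  · rintro _ ⟨v, hv, rfl⟩; exact inv i g hg v hv
  · rw [mulVecLin_apply, ← ms]; simp

end Cfsg.Agent.S2391
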