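import Cfsg.Statements.S2392
import Mathlib
import Cfsg.Agent.H8.LS8

set_option autoImplicit false
open scoped MatrixGroups
open Cfsg

namespace Cfsg.Agent.S2392

/-- A lower bound for representations in cross characteristic: for `n ≥ 3` and a field `F` with `q` elements, every homomorphism from `SL_n(F)` to `GL_d(K)`, `K` a field of characteristic different from that of `F`, whose kernel is central has `d ≥ q^(n-1) - 1`. -/
theorem result {F : Type*} [Field F] [Fintype F] {q : ℕ} (hq : Fintype.card F = q) (n : ℕ) (hn : 3 ≤ n)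
    {K : Type*} [Field K] (hK : ringChar K ≠ ringChar F) {d : ℕ}
    (ρ : Matrix.SpecialLinearGroup (Fin n) F →* GL (Fin d) K) (hker : ρ.ker ≤ Subgroup.center (Matrix.SpecialLinearGroup (Fin n) F)) :
    q ^ (n - 1) - 1 ≤ d := by
  subst hq
  obtain ⟨m, rfl⟩ : ∃ k, n = k + 1 := ⟨n - 1, by omega⟩
  let e : Fin m ⊕ Unit ≃ Fin (m + 1) := Fintype.equivOfCardEq (by simp)
  let L := AlgebraicClosure K
  let ρ' : Representation L (Matrix.SpecialLinearGroup (Fin m ⊕ Unit) F) (Fin d → L) :=
    (Matrix.toLinAlgEquiv' (R := L) (n := Fin d)).toMulEquiv.toMonoidHom.comp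
      (((algebraMap K L).mapMatrix.toMonoidHom.comp (Units.coeHom _)).comp (ρ.comp (CfsgH8.reSL e)))
  have hK' : (Fintype.card F : L) ≠ 0 := fun e => by
    have e' : (Fintype.card F : K) = 0 := (algebraMap K L).injective (by simpa using e)
    obtain ⟨k, hp, hk⟩ := FiniteField.card F (ringChar F)
    rw [hk, Nat.cast_pow, pow_eq_zero_iff k.ne_zero, ringChar.spec] at e'
    rcases (Nat.dvd_prime hp).1 e' with h | h
    exacts [CharP.ringChar_ne_one h, hK h]
  have := CfsgH8.sl_bound hK' (by simp; omega) ρ' (a := fun _ => 1) fun h => by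
    have e1 : (algebraMap K L).mapMatrix (ρ (CfsgH8.reSL e (CfsgH8.xSL fun _ => 1)) : Matrix (Fin d) (Fin d) K) = 1 :=
      (Matrix.toLinAlgEquiv' (R := L) (n := Fin d)).injective (h.trans (map_one _).symm)
    obtain ⟨r, -, hr⟩ := Matrix.SpecialLinearGroup.mem_center_iff.1 (hker (Units.ext
      (Matrix.map_injective (algebraMap K L).injective (e1.trans (map_one (algebraMap K L).mapMatrix).symm))))
    have h2 := congrFun (congrFun hr (e (.inl ⟨0, by omega⟩))) (e (.inr ()))
    change _ = Matrix.reindex e e (CfsgH8.xSL _).1 _ _ at h2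
    simp [CfsgH8.xSL] at h2
  simpa using this

end Cfsg.Agent.S2392
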