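import Cfsg.Statements.S2393
import Mathlib
import Cfsg.Agent.H8.LS4

set_option autoImplicit false
open scoped MatrixGroups
open Cfsg

namespace Cfsg.Agent.S2393

/-- A lower bound for representations in cross characteristic: for `n ≥ 2` and a field `F` with `q` elements, `q` odd, every homomorphism from the symplectic group `Sp_{2n}(F)` to `GL_d(K)`, `K` a field of characteristic different from that of `F`, whose kernel is central has `d ≥ q^(n-1)(q-1)/2`. -/
theorem result {F : Type*} [Field F] [Fintype F] {q : ℕ} (hq : Fintype.card F = q) (hodd : Odd q) (n : ℕ) (hn : 2 ≤ n)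
    {K : Type*} [Field K] (hK : ringChar K ≠ ringChar F) {d : ℕ}
    (ρ : ↥(Matrix.symplecticGroup (Fin n) F) →* GL (Fin d) K) (hker : ρ.ker ≤ Subgroup.center ↥(Matrix.symplecticGroup (Fin n) F)) :
    q ^ (n - 1) * (q - 1) / 2 ≤ d := by
  subst hq
  letI : StarRing F := starRingOfComm
  obtain ⟨X, hX⟩ := CfsgH8.xSp_not_mem (F := F) (fun _ => rfl) (m := n) (by omega)
  let L := AlgebraicClosure K
  let ρ' : Representation L (Matrix.symplecticGroup (Fin n) F) (Fin d → L) :=
    (Matrix.toLinAlgEquiv' (R := L) (n := Fin d)).toMulEquiv.toMonoidHom.comp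
      (((algebraMap K L).mapMatrix.toMonoidHom.comp (Units.coeHom _)).comp ρ)
  have hK' : (Fintype.card F : L) ≠ 0 := fun e => by
    have e' : (Fintype.card F : K) = 0 := (algebraMap K L).injective (by simpa using e)
    obtain ⟨k, hp, hk⟩ := FiniteField.card F (ringChar F)
    rw [hk, Nat.cast_pow, pow_eq_zero_iff k.ne_zero, ringChar.spec] at e'
    rcases (Nat.dvd_prime hp).1 e' with h | h
    exacts [CharP.ringChar_ne_one h, hK h]
  have := CfsgH8.sp_bound (fun _ => rfl) hK' (CfsgH5.two_ne_zero_of_odd hodd) ρ' ⟨X, fun e => hX (hker (by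
    have e1 : (algebraMap K L).mapMatrix (ρ (CfsgH8.xSp (fun _ => rfl) X) : Matrix (Fin d) (Fin d) K) = 1 :=
      (Matrix.toLinAlgEquiv' (R := L) (n := Fin d)).injective (e.trans (map_one _).symm)
    exact Units.ext (Matrix.map_injective (algebraMap K L).injective (e1.trans (map_one (algebraMap K L).mapMatrix).symm))))⟩
  rw [Fintype.card_fin, Module.finrank_fin_fun] at this
  refine Nat.div_le_of_le_mul (le_trans ?_ ((Nat.le_add_right _ _).trans this))
  obtain ⟨n, rfl⟩ : ∃ k, n = k + 1 := ⟨n - 1, by omega⟩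
  rw [Nat.add_sub_cancel, Nat.mul_sub_one, ← pow_succ]
  exact Nat.sub_le_sub_left (Nat.one_le_pow _ _ Fintype.card_pos) _

end Cfsg.Agent.S2393
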