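import Cfsg.Statements.S2394
import Cfsg.Agent.S0245
import Cfsg.Agent.S2904

set_option autoImplicit false
open scoped MatrixGroups
open Cfsg

namespace Cfsg.Agent.S2394

open Finset

/-- The smallest degree of a faithful representation of the symplectic group `Sp_{2n}(q)` over its own field `F_q` is `2n`: every injective homomorphism from `Sp_{2n}(F)` to `GL_d(F)`, `F` the field with `q` elements, has `d ≥ 2n`. -/
theorem result {F : Type*} [Field F] [Fintype F] (n : ℕ) {d : ℕ}
    (ρ : ↥(Matrix.symplecticGroup (Fin n) F) →* GL (Fin d) F) (hρ : Function.Injective ρ) : 2 * n ≤ d := by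
  have h := Subgroup.card_dvd_of_injective ρ hρ
  rw [S0245.result rfl, Matrix.card_GL_field] at h
  have q : 1 < Fintype.card F := Fintype.one_lt_card
  generalize Fintype.card F = a at h q
  by_contra! l
  by_cases n1 : n = 1
  · subst n1
    have := Nat.le_of_dvd (by interval_cases d <;> simp; omega) ((dvd_mul_right _ _).trans h)
    interval_cases d <;> simp at this <;> omega
  by_cases n3 : a = 2 ∧ 2 * n = 6
  · obtain rfl : n = 3 := by omega
    obtain ⟨rfl, -⟩ := n3
    interval_cases d <;> revert h <;> decide +kernel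
  obtain ⟨r, p, r1, r2⟩ := S2904.result a (2 * n) q (by omega) n3 (by omega)
  obtain ⟨n, rfl⟩ := Nat.exists_eq_add_one_of_ne_zero (show n ≠ 0 by omega)
  obtain ⟨i, -, hi⟩ := (p.prime.dvd_finset_prod_iff _).1 ((r1.trans ((dvd_prod_of_mem _ (self_mem_range_succ n)).mul_left _)).trans h)
  rw [show a ^ d - a ^ i.1 = a ^ i.1 * (a ^ (d - i) - 1) by rw [Nat.mul_sub_one, ← pow_add, Nat.add_sub_cancel' i.2.le], p.dvd_mul] at hi
  refine hi.elim (fun k => p.not_dvd_one ?_) (r2 _ (by omega) (by omega))
  exact (Nat.dvd_sub_iff_right (Nat.one_le_pow _ _ (by omega)) (dvd_pow (p.dvd_of_dvd_pow k) (by omega))).1 r1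

end Cfsg.Agent.S2394
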