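import Cfsg.Statements.S2399
import Cfsg.Agent.H6.Sch5

set_option autoImplicit false
open scoped MatrixGroups
open Cfsg

namespace Cfsg.Agent.S2399

open CfsgH6 Chev

/-- Projective representations in the natural characteristic lift: for each of the types G₂, B₂, D₄, F₄, E₆, E₇, E₈ over any field `K` (for types B₂ and G₂ the field must have more than two elements — the cases where the Chevalley group is not simple are set aside), every homomorphism from the Chevalley group to `PGL_n(L) = GL_n(L)/Z`, `L` a field of the same characteristic as `K`, lifts uniquely to a homomorphism from the group Δ presented by (R1), (R2) to `GL_n(L)`, compatibly with the projection Δ → Chevalley group sending x̄_r(t) to x_r(t). -/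
theorem result {K : Type*} [Field K] (D : Cfsg.Lie.ChevalleyDatum) (hD : D ∈ [Cfsg.Lie.chevG2, Cfsg.Lie.chevB2, Cfsg.Lie.chevD4, Cfsg.Lie.chevF4, Cfsg.Lie.chevE6, Cfsg.Lie.chevE7, Cfsg.Lie.chevE8]) (hK : D ∈ [Cfsg.Lie.chevB2, Cfsg.Lie.chevG2] → ∃ x : K, x ≠ 0 ∧ x ≠ 1)
    (θ : D.SteinbergCover K →* ↥(D.group K))
    (hθ : ∀ (r : ℕ) (t : K), r < D.nroots → ((θ (D.scGen K r t) : GL D.Idx K) : Matrix D.Idx D.Idx K) = D.x K r t)
    {L : Type*} [Field L] (hL : ringChar L = ringChar K) {n : ℕ}
    (φ : ↥(D.group K) →* GL (Fin n) L ⧸ Subgroup.center (GL (Fin n) L)) :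
    ∃! ψ : D.SteinbergCover K →* GL (Fin n) L, (QuotientGroup.mk' (Subgroup.center (GL (Fin n) L))).comp ψ = φ.comp θ := by
  have hx : CX (QuotientGroup.mk' (Subgroup.center (GL (Fin n) L))) :=
    ⟨QuotientGroup.mk'_surjective _, (QuotientGroup.ker_mk' _).le⟩
  by_cases h0 : ringChar K = 0
  · have : CharP K 0 := ringChar.of_eq h0
    have := CharP.charP_to_charZero K
    have := Infinite.of_injective _ (Nat.cast_injective (R := K))
    have h5 : ∃ s : Finset K, 4 < s.card := (Infinite.exists_subset_card_eq K 5).imp fun _ h => by omega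
    have h := exists_ne_of_card (k := 2) h5
    exact lift_cover hD (fun _ => h) (fun _ => h5) hK hx _
  refine lift_of_sys hx _ (perf_stC hD hK) (sys_tf hD hK (ringChar.Nat.cast_ringChar) fun z hz hp => ?_)
  have h1 : pb2 _ _ z ∈ Subgroup.center (GL (Fin n) L) :=
    (QuotientGroup.eq_one_iff _).1 ((pb_eq _ _ z).trans (by rw [hz, map_one]))
  have h2 : pb2 _ _ z ^ ringChar K = 1 := by rw [← map_pow, hp, map_one]
  refine Subtype.ext (Prod.ext hz (?_ : pb2 _ _ z = 1))
  obtain ⟨a, ha⟩ := Matrix.GeneralLinearGroup.center_eq_range_scalar.le h1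
  rw [← ha] at h2 ⊢
  rcases Nat.eq_zero_or_pos n with rfl | hn
  · exact Subsingleton.elim _ _
  have := Fact.mk (CharP.char_prime_of_ne_zero L (hL ▸ h0))
  have h3 := congrArg (fun m : GL (Fin n) L => (m : Matrix (Fin n) (Fin n) L) ⟨0, hn⟩ ⟨0, hn⟩) h2
  rw [← map_pow, ← hL] at h3
  have h4 : ((a : L) - 1) ^ ringChar L = 0 := by rw [sub_pow_char, one_pow, sub_eq_zero]; simpa [Matrix.diagonal_pow] using h3
  rw [show a = 1 from Units.ext (sub_eq_zero.1 (pow_eq_zero_iff (hL ▸ h0) |>.1 h4)), map_one]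

end Cfsg.Agent.S2399
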