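import Cfsg.Statements.S2400
import Cfsg.Agent.H6.Sch5

set_option autoImplicit false
open Cfsg

namespace Cfsg.Agent.S2400

open CfsgH6 Chev

/-- Over a finite field `K`, the group presented by Steinberg's relators (R1)–(R3) (the universal Chevalley group) of type E₆ or E₇, or of type B₂ or D₄ with `K` of more than two elements, has trivial Schur multiplier: every finite stem extension of it is an isomorphism (Schur multiplier described through stem extensions as in the definitions). Types G₂, F₄ and E₈ are not covered here. -/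
theorem result {K : Type*} [Field K] [Fintype K] (e : Cfsg.Lie.ChevalleyDatum × ℕ)
    (he : e ∈ [(Cfsg.Lie.chevE6, 0), (Cfsg.Lie.chevE7, 0), (Cfsg.Lie.chevB2, 2), (Cfsg.Lie.chevD4, 2)]) (hK : Fintype.card K ≠ e.2) :
    Cfsg.HasCyclicSchurMultiplier (e.1.SteinbergGroup K) 1 := by
  have key : ∀ D ∈ [Lie.chevG2, Lie.chevB2, Lie.chevD4, Lie.chevF4, Lie.chevE6, Lie.chevE7, Lie.chevE8],
      Subsingleton (CfsgH1.SM (D.SteinbergGroup K)) → Cfsg.HasCyclicSchurMultiplier (D.SteinbergGroup K) 1 :=
    fun D hD h => by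
      obtain ⟨g⟩ := good_of_mem hD
      have := g.finite_st (F := K)
      exact CfsgH1.hasSM_one_iff.2 h
  have h2 : Fintype.card K ≠ 2 → ∃ v : K, v ≠ 0 ∧ v ≠ 1 := fun h => exists_ne_of_card (k := 0)
    ⟨Finset.univ, by have := Fintype.one_lt_card (α := K); simp only [Finset.card_univ]; omega⟩
  simp only [List.mem_cons, List.not_mem_nil, or_false] at he
  rcases he with rfl | rfl | rfl | rfl
  · obtain ⟨h3, h4, h5⟩ := ne_small (D := Lie.chevE6) (by decide)
    exact key _ (by simp) (SM_st (by simp) (absurd · h3) (absurd · h4) (absurd · h5))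
  · obtain ⟨h3, h4, h5⟩ := ne_small (D := Lie.chevE7) (by decide)
    exact key _ (by simp) (SM_st (by simp) (absurd · h3) (absurd · h4) (absurd · h5))
  · exact key _ (by simp) (SM_st (by simp) (fun _ => h2 hK) (absurd · (ne_G2 (by decide))) fun _ => h2 hK)
  · exact key _ (by simp) (SM_st (by simp) (fun _ => h2 hK) (absurd · (ne_G2 (by decide))) fun _ => h2 hK)

end Cfsg.Agent.S2400
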