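import Cfsg.Statements.S2401
import Mathlib
import Cfsg.Agent.H8.CRS1

set_option autoImplicit false
open Cfsg

namespace Cfsg.Agent.S2401

open CfsgH8 CfsgH6 CfsgH6.PreSt Matrix

theorem mkA {l : ℕ} (hl : 2 ≤ l) {K Γ : Type*} [Field K] [Group Γ]
    (y : {ij : Fin (l + 1) × Fin (l + 1) // ij.1 ≠ ij.2} → K → Γ) (h1 : ∀ a t u, y a t * y a u = y a (t + u))
    (h2 : ∀ a b t u, a.1.1 ≠ b.1.2 → a.1.2 ≠ b.1.1 → y a t * y b u = y b u * y a t)
    (h3 : ∀ a b h t u, a.1.2 = b.1.1 → y a t * y b u = y ⟨(a.1.1, b.1.2), h⟩ (t * u) * (y b u * y a t)) :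
    ∃ Y : PreSt (mrA l hl).cd K Γ, ∀ a t, Y.x (rA hl a.2) t = y a t := by
  choose f g h e using exists_rA (hl := hl)
  have e1 : ∀ a : {ij : Fin (l + 1) × Fin (l + 1) // ij.1 ≠ ij.2}, (⟨(f (rA hl a.2), g (rA hl a.2)), h _⟩ :
      {ij : Fin (l + 1) × Fin (l + 1) // ij.1 ≠ ij.2}) = a := fun a =>
    Subtype.ext (Prod.ext (rA_inj.1 (e _)).1.symm (rA_inj.1 (e _)).2.symm)
  let x : (mrA l hl).R → K → Γ := fun r => y ⟨(f r, g r), h r⟩
  have e2 : ∀ {a b : Fin (l + 1)} (h : a ≠ b), x (rA hl h) = y ⟨(a, b), h⟩ := fun {a b} h => congrArg y (e1 ⟨(a, b), h⟩)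
  have h0 : ∀ a t, (y a t)⁻¹ = y a (-t) := fun a t => by
    have : y a 0 = 1 := by simpa using h1 a 0 0
    rw [inv_eq_iff_mul_eq_one, h1, add_neg_cancel, this]
  refine ⟨⟨x, fun r => h1 _, fun r s t u k1 k2 => ?_⟩, fun a t => congrFun (e2 a.2) t⟩
  obtain ⟨a, b, hab, rfl⟩ := exists_rA r
  obtain ⟨c, d, hcd, rfl⟩ := exists_rA s
  rw [Ne, rA_inj] at k1
  rw [neg_rA, Ne, rA_inj] at k2
  rw [MR.tm_one (by simp only [rA_val, sub_dotProduct, dotProduct_sub, ev_dot]; grind), e2, e2, rA_val, rA_val,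
    X_rA hab, X_rA hcd]
  by_cases k3 : b = c
  · subst k3
    have k4 : a ≠ d := by grind
    rw [sub_add_sub_cancel, MR.tl_pos (v := ev a - ev d) (rA hl k4).2, MR.cf_eq (v := ev a - ev d) (rA hl k4).2 (c := 1) (by
      rw [X_rA k4, single_mul_single_same, single_mul_single_of_ne _ _ _ _ k4.symm]; simp)]
    simp only [List.map_cons, List.map_nil, List.prod_cons, List.prod_nil, mul_one, pow_one, Int.cast_one, one_mul]
    change _ = _ * x (rA hl k4) _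
    rw [e2, h3 ⟨(a, b), hab⟩ ⟨(b, d), hcd⟩ k4 t u rfl, neg_mul, ← h0,
      eq_mul_inv_iff_mul_eq, mul_assoc, h2 ⟨(a, b), hab⟩ ⟨(a, d), k4⟩ _ _ k4 hab.symm, ← mul_assoc,
      h2 ⟨(b, d), hcd⟩ ⟨(a, d), k4⟩ _ _ hcd k4.symm, mul_assoc]
  by_cases k4 : a = d
  · subst k4
    rw [add_comm (ev a - ev b), sub_add_sub_cancel, MR.tl_pos (v := ev c - ev b) (rA hl (Ne.symm k3)).2,
      MR.cf_eq (v := ev c - ev b) (rA hl (Ne.symm k3)).2 (c := -1) (by
      rw [X_rA (Ne.symm k3), single_mul_single_same, single_mul_single_of_ne _ _ _ _ k3]; simp)]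
    simp only [List.map_cons, List.map_nil, List.prod_cons, List.prod_nil, mul_one, pow_one]
    change _ = _ * x (rA hl (Ne.symm k3)) _
    rw [e2,
      h3 ⟨(c, a), hcd⟩ ⟨(a, b), hab⟩ (Ne.symm k3) u t rfl, mul_assoc,
      h2 ⟨(c, a), hcd⟩ ⟨(c, b), Ne.symm k3⟩ _ _ (Ne.symm k3) hcd.symm, ← mul_assoc, ← mul_assoc,
      h2 ⟨(a, b), hab⟩ ⟨(c, b), Ne.symm k3⟩ _ _ hab k3]
    simp [mul_comm]
  · rw [MR.tl_neg fun h => ?_]
    · simpa using (h2 ⟨(a, b), hab⟩ ⟨(c, d), hcd⟩ t u k4 k3).symm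
    · have : _ ≤ (2 : ℤ) := h.2.2
      simp only [norm_add, norm_sub, sub_dotProduct, dotProduct_sub, ev_dot] at this
      grind

/-- The Steinberg presentation of `SL_n` over a finite field for `n ≥ 3`: the group generated by symbols `x_ij(t)` (`i ≠ j`, `t` in the field) subject to `x_ij(t) x_ij(u) = x_ij(t + u)` and, for `i ≠ l`, `x_ij(t) x_kl(u) x_ij(t)⁻¹ x_kl(u)⁻¹ = x_il(tu)` if `j = k` and `= 1` if `j ≠ k`, is isomorphic to `SL_n` by an isomorphism sending `x_ij(t)` to the elementary matrix `1 + t E_ij`. -/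
theorem result {K : Type*} [Field K] [Finite K] (n : ℕ) (hn : 3 ≤ n) :
    ∃ e : PresentedGroup
        ({g : FreeGroup ({ij : Fin n × Fin n // ij.1 ≠ ij.2} × K) | ∃ (a : {ij : Fin n × Fin n // ij.1 ≠ ij.2}) (t u : K),
            g = FreeGroup.of (a, t) * FreeGroup.of (a, u) * (FreeGroup.of (a, t + u))⁻¹} ∪
          {g | ∃ (a b : {ij : Fin n × Fin n // ij.1 ≠ ij.2}) (t u : K), a.1.1 ≠ b.1.2 ∧ a.1.2 ≠ b.1.1 ∧
            g = FreeGroup.of (a, t) * FreeGroup.of (b, u) * (FreeGroup.of (a, t))⁻¹ * (FreeGroup.of (b, u))⁻¹} ∪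
          {g | ∃ (a b : {ij : Fin n × Fin n // ij.1 ≠ ij.2}) (h : a.1.1 ≠ b.1.2) (t u : K), a.1.2 = b.1.1 ∧
            g = FreeGroup.of (a, t) * FreeGroup.of (b, u) * (FreeGroup.of (a, t))⁻¹ * (FreeGroup.of (b, u))⁻¹ *
              (FreeGroup.of (⟨(a.1.1, b.1.2), h⟩, t * u))⁻¹}) ≃* Matrix.SpecialLinearGroup (Fin n) K,
      ∀ (a : {ij : Fin n × Fin n // ij.1 ≠ ij.2}) (t : K), ((e (PresentedGroup.of (a, t)) : Matrix (Fin n) (Fin n) K)) = Matrix.transvection a.1.1 a.1.2 t := by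
  obtain ⟨l, rfl⟩ : ∃ l, n = l + 1 := ⟨n - 1, by omega⟩
  have hl : 2 ≤ l := by omega
  generalize hS : (_ ∪ _ ∪ _ : Set (FreeGroup ({ij : Fin (l + 1) × Fin (l + 1) // ij.1 ≠ ij.2} × K))) = S
  obtain ⟨Y, hY⟩ := mkA hl (fun a t => (PresentedGroup.of (a, t) : PresentedGroup S))
    (fun a t u => by
      have := PresentedGroup.one_of_mem (hS.le (Or.inl (Or.inl ⟨a, t, u, rfl⟩)))
      rwa [map_mul, map_mul, map_inv, mul_inv_eq_one] at this)
    (fun a b t u h h' => by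
      have := PresentedGroup.one_of_mem (hS.le (Or.inl (Or.inr ⟨a, b, t, u, h, h', rfl⟩)))
      rwa [map_mul, map_mul, map_mul, map_inv, map_inv, mul_inv_eq_one, mul_inv_eq_iff_eq_mul] at this)
    (fun a b h t u h' => by
      have := PresentedGroup.one_of_mem (hS.le (Or.inr ⟨a, b, h, t, u, h', rfl⟩))
      rwa [map_mul, map_mul, map_mul, map_mul, map_inv, map_inv, map_inv, mul_inv_eq_one, mul_inv_eq_iff_eq_mul,
        mul_inv_eq_iff_eq_mul, mul_assoc] at this)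
  obtain ⟨θ, hθ⟩ := exists_hom_sc (isSt_A hl K) (hh_inj_A hl K) (preA_G hl K) Y
  let φ : PresentedGroup S →* SpecialLinearGroup (Fin (l + 1)) K := PresentedGroup.toGroup
    (f := fun p => SpecialLinearGroup.transvection p.1.2 p.2) (by
      rw [← hS]
      rintro _ ((⟨a, t, u, rfl⟩ | ⟨a, b, t, u, h, h', rfl⟩) | ⟨a, b, h, t, u, h', rfl⟩) <;>
        simp only [map_mul, map_inv, FreeGroup.lift_apply_of, mul_inv_eq_one, mul_inv_eq_iff_eq_mul, one_mul]
      · exact (SpecialLinearGroup.transvection_add _ _ _).symm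
      · apply Subtype.ext
        simp [SpecialLinearGroup.transvection_coe, mul_add, add_mul, single_mul_single_of_ne, h.symm, h']
        abel
      · obtain ⟨⟨i, j⟩, ha⟩ := a
        obtain ⟨⟨k, m⟩, hb⟩ := b
        obtain rfl : j = k := h'
        apply Subtype.ext
        simp [SpecialLinearGroup.transvection_coe, mul_add, add_mul, single_mul_single_of_ne, h.symm, ha.symm, hb.symm]
        abel)
  have hφ : ∀ a t, φ (PresentedGroup.of (a, t)) = SpecialLinearGroup.transvection a.2 t := fun a t =>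
    PresentedGroup.toGroup.of _
  refine ⟨MonoidHom.toMulEquiv φ θ (PresentedGroup.ext fun ⟨a, t⟩ => ?_) (hom_ext' (preA_G hl K) fun r t => ?_),
    fun a t => congrArg Subtype.val (hφ a t)⟩
  · rw [MonoidHom.comp_apply, hφ, ← preA_x hl, hθ, hY, MonoidHom.id_apply]
  · obtain ⟨a, b, h, rfl⟩ := exists_rA r
    rw [MonoidHom.comp_apply, hθ, hY ⟨(a, b), h⟩, hφ, preA_x, MonoidHom.id_apply]

end Cfsg.Agent.S2401
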