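import Cfsg.Statements.S2402
import Cfsg.Agent.H5.Tv1

set_option autoImplicit false
open Cfsg

namespace Cfsg.Agent.S2402

open CfsgH5 Module Subgroup

/-- Explicit two-element generation of `PSL_{n+1}(K)` for a finite field `K` with more than three elements: let `k` generate the multiplicative group of `K`, `h = diag(k, k⁻¹, 1, …, 1)`, `x = 1 + E₁₂` (the elementary transvection) and `w` the monomial matrix with entries `1` in positions `(i, i+1)` and `(−1)^n` in position `(n+1, 1)`. Then `h` and `x·w` generate `SL_{n+1}(K)` modulo its centre: the subgroup they generate together with the centre is everything. -/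
theorem result {K : Type*} [Field K] [Fintype K] (hK : 3 < Fintype.card K) (n : ℕ) (hn : 1 ≤ n)
    (k : Kˣ) (hk : ∀ u : Kˣ, u ∈ Subgroup.zpowers k)
    (h x w : Matrix.SpecialLinearGroup (Fin (n + 1)) K)
    (hh : (h : Matrix (Fin (n + 1)) (Fin (n + 1)) K) =
      Matrix.diagonal (fun i => if i.val = 0 then (k : K) else if i.val = 1 then ((k⁻¹ : Kˣ) : K) else 1))
    (hx : (x : Matrix (Fin (n + 1)) (Fin (n + 1)) K) = Matrix.transvection (0 : Fin (n + 1)) (1 : Fin (n + 1)) 1)
    (hw : (w : Matrix (Fin (n + 1)) (Fin (n + 1)) K) =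
      Matrix.of (fun i j => if j.val = i.val + 1 then 1 else if i.val = n ∧ j.val = 0 then (-1) ^ n else 0)) :
    Subgroup.closure ({h, x * w} : Set (Matrix.SpecialLinearGroup (Fin (n + 1)) K)) ⊔
      Subgroup.center (Matrix.SpecialLinearGroup (Fin (n + 1)) K) = ⊤ := by
  classical
  have h01 : (0 : Fin (n + 1)) ≠ 1 := by simp; omega
  have hv1 : (1 : Fin (n + 1)).val = 1 := by simp; omega
  set H := (closure {h, x * w} ⊔ center _).map (slHom _ K) with hH
  have m1 : slHom _ K h ∈ H := mem_map_of_mem _ (mem_sup_left (subset_closure (by simp)))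
  have m2 : et 0 1 1 * slHom _ K w ∈ H := by
    rw [← slHom_et h01 hx, ← map_mul]; exact mem_map_of_mem _ (mem_sup_left (subset_closure (by simp)))
  obtain ⟨d, hd0, hd1, hd⟩ : ∃ d : Fin (n + 1) → K, (∀ i, d i ≠ 0) ∧ (d 0 = k ∧ d 1 = (k : K)⁻¹ ∧
      ∀ i, i ≠ 0 → i ≠ 1 → d i = 1) ∧ ∀ i, slHom _ K h (Pi.single i 1) = d i • Pi.single i 1 :=
    ⟨fun i => if i.val = 0 then (k : K) else if i.val = 1 then ((k⁻¹ : Kˣ) : K) else 1,
      fun i => by dsimp only; split_ifs <;> simp, ⟨by simp, by simp only [hv1]; simp, fun i a b => by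
        dsimp only
        rw [if_neg (show ¬ i.val = 0 from fun e => a (Fin.ext e)), if_neg fun e => b (Fin.ext (e.trans hv1.symm))]⟩, fun i => by
      rw [slHom_apply, hh, Matrix.diagonal_mulVec_single, ← Pi.single_smul, smul_eq_mul]⟩
  have ha : ∀ i : Fin (n + 1), (if i = 0 then (-1) ^ n else 1 : K) ≠ 0 := fun i => by split_ifs <;> simp
  have hk2 : (k : K) ^ 2 ≠ 1 := fun e => by
    have h1 : orderOf k ∣ 2 := orderOf_dvd_of_pow_eq_one (Units.ext (by simpa using e))
    rw [orderOf_eq_card_of_forall_mem_zpowers hk, Nat.card_units, Nat.card_eq_fintype_card] at h1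
    have := Nat.le_of_dvd two_pos h1
    omega
  have hk1 : (k : K) ≠ 1 := fun e => hk2 (by simp [e])
  set g := slHom _ K w * slHom _ K h * (slHom _ K w)⁻¹ with hg
  have g1 : ∀ i, g (Pi.single i 1) = d (i + 1) • Pi.single i 1 := fun i => by
    have e := shift_single hw (i + 1)
    rw [add_sub_cancel_right] at e
    refine smul_right_injective _ (ha (i + 1)) ?_
    beta_reduce
    rw [← map_smul, ← e, smul_comm, ← e, hg, ← LinearEquiv.mul_apply, inv_mul_cancel_right, LinearEquiv.mul_apply,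
      hd, map_smul]
  have gc := fun c => et_conj (σ := id) (fun _ _ => id) (fun i => hd0 (i + 1)) g1 h01 c
  have hc := fun c => et_conj (σ := id) (fun _ _ => id) hd0 hd h01 c
  have c1 : Commute g (slHom _ K h) := (Pi.basisFun K _).ext' fun i => by
    simp only [Pi.basisFun_apply, LinearEquiv.mul_apply, hd, g1, map_smul, smul_comm (d i)]
  simp only [id, zero_add, hd1.1, hd1.2.1, div_inv_eq_mul] at gc hc
  obtain ⟨b, hb, hb'⟩ : ∃ b, b ≠ 0 ∧ et 0 1 b * g ∈ H := by
    refine ⟨1 + -1 * (k : K)⁻¹ / d (1 + 1), fun e => ?_, ?_⟩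
    · have := hd0 (1 + 1)
      have h2 : k * d (1 + 1) = 1 := by field_simp at e; linear_combination e
      by_cases e' : (1 + 1 : Fin (n + 1)) = 0
      · exact hk2 (by rw [← h2, e', hd1.1, sq])
      · exact hk1 (by rw [← h2, hd1.2.2 _ e' (by simpa using h01.symm), mul_one])
    · convert mul_mem (mul_mem m2 m1) (inv_mem m2) using 1
      rw [← et_add h01, ← gc, ← et_inv h01, hg]
      group
  have h3 : et 0 1 (b * k * k + -b) ∈ H := by
    convert mul_mem (mul_mem (mul_mem m1 hb') (inv_mem m1)) (inv_mem hb') using 1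
    rw [← et_add h01, ← hc, ← et_inv h01, mul_assoc _ (_ * g), mul_assoc _ g, c1.inv_right.eq]
    group
  have h4 : ∀ c, et 0 1 c ∈ H → ∀ j : ℕ, et 0 1 (c * (k ^ j) ^ 2) ∈ H := fun c h j => by
    induction j with
    | zero => simpa using h
    | succ j ih => convert mul_mem (mul_mem m1 ih) (inv_mem m1) using 1; rw [hc]; congr 1; ring
  have h5 : ∀ s : K, et 0 1 ((b * k * k + -b) * s ^ 2) ∈ H := fun s => by
    by_cases e : s = 0
    · simp [e, et_zero]
    obtain ⟨j, hj⟩ := (mem_powers_iff_mem_zpowers.2 (hk (Units.mk0 s e)) :)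
    have : (k : K) ^ j = s := by simpa using congrArg Units.val hj
    exact this ▸ h4 _ h3 j
  have h6 : ∀ c, et 0 1 c ∈ H := fun c => by
    have h7 : b * k * k + -b ≠ 0 := fun e => hk2 (mul_left_cancel₀ hb (by linear_combination e))
    obtain ⟨s, t, e⟩ : ∃ s t : K, s ^ 2 + t ^ 2 = c / (b * k * k + -b) := by
      by_cases h2 : ringChar K = 2
      · obtain ⟨s, hs⟩ := FiniteField.isSquare_of_char_two h2 (c / (b * k * k + -b))
        exact ⟨s, 0, by rw [hs]; ring⟩
      · simpa using exists_sq_add_sq (Ring.two_ne_zero h2) one_ne_zero one_ne_zero _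
    convert mul_mem (h5 s) (h5 t) using 1
    rw [et_add h01, ← mul_add, e, mul_div_cancel₀ _ h7]
  exact top_of_sl_le (sl_le_of_shift hn (inv_mul_cancel_left (et 0 1 1) (slHom _ K w) ▸ mul_mem (inv_mem (h6 1)) m2) ha (shift_single hw) h6)

end Cfsg.Agent.S2402
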