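import Cfsg.Statements.S2403
import Cfsg.Agent.H5.Tv1

set_option autoImplicit false
open Cfsg

namespace Cfsg.Agent.S2403

open CfsgH5 Module Subgroup

/-- Explicit two-element generation of `PSL_{n+1}(K)` over the fields with two or three elements: with `x = 1 + E₁₂` and `w` the monomial matrix with entries `1` in positions `(i, i+1)` and `(−1)^n` in position `(n+1, 1)`, the elements `x` and `w` generate `SL_{n+1}(K)` modulo its centre. -/
theorem result {K : Type*} [Field K] [Fintype K] (hK : Fintype.card K ≤ 3) (n : ℕ) (hn : 1 ≤ n)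
    (x w : Matrix.SpecialLinearGroup (Fin (n + 1)) K)
    (hx : (x : Matrix (Fin (n + 1)) (Fin (n + 1)) K) = Matrix.transvection (0 : Fin (n + 1)) (1 : Fin (n + 1)) 1)
    (hw : (w : Matrix (Fin (n + 1)) (Fin (n + 1)) K) =
      Matrix.of (fun i j => if j.val = i.val + 1 then 1 else if i.val = n ∧ j.val = 0 then (-1) ^ n else 0)) :
    Subgroup.closure ({x, w} : Set (Matrix.SpecialLinearGroup (Fin (n + 1)) K)) ⊔
      Subgroup.center (Matrix.SpecialLinearGroup (Fin (n + 1)) K) = ⊤ := by
  classical
  have h01 : (0 : Fin (n + 1)) ≠ 1 := by simp; omega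
  have h1 : et 0 1 1 ∈ (closure {x, w} ⊔ center _).map (slHom _ K) :=
    slHom_et h01 hx ▸ mem_map_of_mem _ (mem_sup_left (subset_closure (by simp)))
  refine top_of_sl_le (sl_le_of_shift hn (mem_map_of_mem _ (mem_sup_left (Subgroup.subset_closure (a := w) (by simp))))
    (fun i => by split_ifs <;> simp) (shift_single hw) fun c => ?_)
  by_cases e : c = 0
  · rw [e, et_zero]; exact one_mem _
  have h2 : c ^ 2 = 1 := by
    have := FiniteField.pow_card_sub_one_eq_one c e
    have h3 := Fintype.one_lt_card (α := K)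
    obtain h | h : Fintype.card K - 1 = 1 ∨ Fintype.card K - 1 = 2 := by omega
    · rw [h, pow_one] at this; simp [this]
    · rwa [h] at this
  rcases mul_self_eq_one_iff.1 (sq c ▸ h2) with rfl | rfl
  · exact h1
  · exact et_inv h01 (1 : K) ▸ inv_mem h1

end Cfsg.Agent.S2403
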