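import Cfsg.Statements.S2406
import Cfsg.Agent.H6.Gen4

set_option autoImplicit false
open Cfsg

namespace Cfsg.Agent.S2406

/-- The twisted group ²E₆(q) (realised inside E₆ over the field with `q²` elements) is generated by two of its elements. -/
theorem result {K : Type*} [Field K] [Fintype K] {q : ℕ} (hq : IsPrimePow q) (hK : Fintype.card K = q ^ 2) :
    ∃ a b : ↥(Cfsg.Lie.twistedE6 K q), Subgroup.closure ({a, b} : Set ↥(Cfsg.Lie.twistedE6 K q)) = ⊤ := by
  obtain ⟨φ, T, h⟩ := CfsgH6.Chev.exists_isE6 hq hK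
  refine h.two_gen ?_
  by_contra! e
  obtain ⟨g, hg⟩ := IsCyclic.exists_generator (α := Kˣ)
  have h0 := hq.two_le
  have h1 : g ^ (q - 1) = 1 := Units.ext (mul_right_cancel₀ g.ne_zero (by
    rw [Units.val_pow_eq_pow_val, ← pow_succ, Nat.sub_add_cancel (by omega), ← h.hφ, e, Units.val_one, one_mul]))
  have h2 := Nat.le_of_dvd (by omega) (orderOf_dvd_of_pow_eq_one h1)
  rw [orderOf_eq_card_of_forall_mem_zpowers hg, Nat.card_units, Nat.card_eq_fintype_card, hK] at h2
  have : q ^ 1 < q ^ 2 := Nat.pow_lt_pow_right h0 (by norm_num)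
  rw [pow_one] at this
  omega

end Cfsg.Agent.S2406
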