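import Cfsg.Statements.S2408
import Cfsg.Agent.H6.Gen2

set_option autoImplicit false
open Cfsg

namespace Cfsg.Agent.S2408

/-- The large Ree group ²F₄(2^(2m+1)) with `m ≥ 1` is generated by two of its elements. -/
theorem result {K : Type*} [Field K] [Fintype K] {m : ℕ} (hm : 1 ≤ m) (hK : Fintype.card K = 2 ^ (2 * m + 1)) :
    ∃ a b : ↥(Cfsg.Lie.twistedF4 K (2 ^ m)), Subgroup.closure ({a, b} : Set ↥(Cfsg.Lie.twistedF4 K (2 ^ m))) = ⊤ := by
  obtain ⟨φ, T, h⟩ := CfsgH6.Chev.exists_isF4 hK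
  refine h.two_gen ?_
  by_contra! e
  have h2 := Finite.card_le_one_iff_subsingleton.2 (⟨fun a b : Kˣ => (e a).trans (e b).symm⟩ : Subsingleton Kˣ)
  rw [Nat.card_units, Nat.card_eq_fintype_card, hK] at h2
  have := Nat.pow_le_pow_right (show 0 < 2 by norm_num) (show 3 ≤ 2 * m + 1 by omega)
  omega

end Cfsg.Agent.S2408
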