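import Cfsg.Statements.S2426
import Cfsg.Agent.H6.Rk5

set_option autoImplicit false
open Cfsg

namespace Cfsg.Agent.S2426

open CfsgH6 CfsgH6.Rk CfsgH6.PreSt

/-- The rank-one Steinberg presentation of `SL₂` over a finite field `K`: generators `x(t)`, `y(t)` (`t ∈ K`; the two opposite root subgroups) subject to additivity `x(t)x(u) = x(t+u)`, `y(t)y(u) = y(t+u)` and, with `w(t) = x(t) y(−t⁻¹) x(t)` and `w'(t) = y(t) x(−t⁻¹) y(t)` for `t ≠ 0`, the relations `w(t) x(u) w(t)⁻¹ = y(−t⁻² u)` and `w'(t) y(u) w'(t)⁻¹ = x(−t⁻² u)`, present `SL₂(K)`, with `x(t) ↦ (1 t; 0 1)` and `y(t) ↦ (1 0; t 1)`. -/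
theorem result {K : Type*} [Field K] [Finite K] :
    ∃ e : PresentedGroup
        ({g : FreeGroup (Bool × K) | ∃ (b : Bool) (t u : K), g = FreeGroup.of (b, t) * FreeGroup.of (b, u) * (FreeGroup.of (b, t + u))⁻¹} ∪
          {g | ∃ (b : Bool) (t u : K), t ≠ 0 ∧
            g = (FreeGroup.of (b, t) * FreeGroup.of (!b, -t⁻¹) * FreeGroup.of (b, t)) * FreeGroup.of (b, u) *
                  (FreeGroup.of (b, t) * FreeGroup.of (!b, -t⁻¹) * FreeGroup.of (b, t))⁻¹ * (FreeGroup.of (!b, -(t⁻¹ ^ 2 * u)))⁻¹})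
        ≃* Matrix.SpecialLinearGroup (Fin 2) K,
      (∀ t : K, ((e (PresentedGroup.of (true, t)) : Matrix (Fin 2) (Fin 2) K)) = !![1, t; 0, 1]) ∧
      (∀ t : K, ((e (PresentedGroup.of (false, t)) : Matrix (Fin 2) (Fin 2) K)) = !![1, 0; t, 1]) := by
  set rels : Set (FreeGroup (Bool × K)) := ({g : FreeGroup (Bool × K) | ∃ (b : Bool) (t u : K), g = FreeGroup.of (b, t) * FreeGroup.of (b, u) * (FreeGroup.of (b, t + u))⁻¹} ∪
          {g | ∃ (b : Bool) (t u : K), t ≠ 0 ∧
            g = (FreeGroup.of (b, t) * FreeGroup.of (!b, -t⁻¹) * FreeGroup.of (b, t)) * FreeGroup.of (b, u) *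
                  (FreeGroup.of (b, t) * FreeGroup.of (!b, -t⁻¹) * FreeGroup.of (b, t))⁻¹ * (FreeGroup.of (!b, -(t⁻¹ ^ 2 * u)))⁻¹}) with hrels
  have r1 : ∀ (b : Bool) (t u : K), (PresentedGroup.of (b, t) : PresentedGroup rels) * PresentedGroup.of (b, u) =
      PresentedGroup.of (b, t + u) := by
    intro b t u
    rw [← mul_inv_eq_one]
    exact PresentedGroup.one_of_mem (rels := rels) (Or.inl ⟨b, t, u, rfl⟩)
  have r2 : ∀ (b : Bool) (t u : K), t ≠ 0 → (PresentedGroup.of (b, t) : PresentedGroup rels) * PresentedGroup.of (!b, -t⁻¹) *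
      PresentedGroup.of (b, t) * PresentedGroup.of (b, u) * (PresentedGroup.of (b, t) * PresentedGroup.of (!b, -t⁻¹) *
      PresentedGroup.of (b, t))⁻¹ = PresentedGroup.of (!b, -(t⁻¹ ^ 2 * u)) := by
    intro b t u ht
    rw [← mul_inv_eq_one]
    exact PresentedGroup.one_of_mem (rels := rels) (Or.inr ⟨b, t, u, ht, rfl⟩)
  let S : St1 K (PresentedGroup rels) :=
    { x := fun t => PresentedGroup.of (true, t)
      y := fun t => PresentedGroup.of (false, t)
      addx := r1 true
      addy := r1 false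
      wx := r2 true
      wy := r2 false }
  let f : Bool × K → Matrix.SpecialLinearGroup (Fin 2) K := fun x => if x.1 then slU x.2 else slL x.2
  have hf : ∀ r ∈ rels, FreeGroup.lift f r = 1 := by
    rintro r (⟨b, t, u, rfl⟩ | ⟨b, t, u, ht, rfl⟩)
    · cases b <;> simp [f, slU_add, slL_add]
    · simp only [map_mul, map_inv, FreeGroup.lift_apply_of, mul_inv_eq_one, mul_inv_eq_iff_eq_mul]
      cases b
      · simp only [f, Bool.false_eq_true, if_false, Bool.not_false, if_true]
        ext i j; fin_cases i <;> fin_cases j <;> simp [sl_mul, ht] <;> field_simp <;> ring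
      · simp only [f, Bool.false_eq_true, if_false, Bool.not_true, if_true]
        ext i j; fin_cases i <;> fin_cases j <;> simp [sl_mul, ht] <;> field_simp <;> ring
  let ψ := PresentedGroup.toGroup hf
  have hψ : ∀ x, ψ (PresentedGroup.of x) = f x := fun x => PresentedGroup.toGroup.of hf
  refine ⟨MonoidHom.toMulEquiv ψ S.hom ?_ ?_, fun t => ?_, fun t => ?_⟩
  · ext ⟨b, t⟩
    cases b
    · simp only [MonoidHom.comp_apply, hψ, f, MonoidHom.id_apply]; exact S.hom_L t
    · simp only [MonoidHom.comp_apply, hψ, f, MonoidHom.id_apply]; exact S.hom_U t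
  · refine MonoidHom.ext fun g => ?_
    refine sup_ind (A := upperUnipotentSL2 K) (B := lowerUnipotentSL2 K) (p := fun g => (ψ.comp S.hom) g = MonoidHom.id _ g)
      ?_ ?_ ?_ (by rw [upper_sup_lower]; trivial)
    · intro g hg; obtain ⟨t, rfl⟩ := mem_upper.1 hg
      rw [MonoidHom.comp_apply, S.hom_U]; exact hψ _
    · intro g hg; obtain ⟨t, rfl⟩ := mem_lower.1 hg
      rw [MonoidHom.comp_apply, S.hom_L]; exact hψ _
    · intro x y hx hy; rw [map_mul, map_mul, hx, hy]
  · exact congrArg Subtype.val (hψ (true, t))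
  · exact congrArg Subtype.val (hψ (false, t))

end Cfsg.Agent.S2426
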