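import Cfsg.Statements.S2427
import Cfsg.Agent.H1.PSL2c

set_option autoImplicit false
open Cfsg

namespace Cfsg.Agent.S2427

/-- The group SL₂ over the field with 3 elements has order 24 and centre of order 2; its commutator subgroup has order 8, is isomorphic to the quaternion group of order 8 and is complemented by every Sylow 3-subgroup (so the group is a semidirect product of a quaternion group of order 8 by a cyclic group of order 3); and its only normal subgroups besides the trivial subgroup and the whole group are the centre and the commutator subgroup. -/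
theorem result :
    Nat.card (Matrix.SpecialLinearGroup (Fin 2) (ZMod 3)) = 24 ∧
    Nat.card (Subgroup.center (Matrix.SpecialLinearGroup (Fin 2) (ZMod 3))) = 2 ∧
    Nat.card (commutator (Matrix.SpecialLinearGroup (Fin 2) (ZMod 3))) = 8 ∧
    Nonempty (commutator (Matrix.SpecialLinearGroup (Fin 2) (ZMod 3)) ≃* QuaternionGroup 2) ∧
    (∀ P : Sylow 3 (Matrix.SpecialLinearGroup (Fin 2) (ZMod 3)),
      Subgroup.IsComplement' (commutator (Matrix.SpecialLinearGroup (Fin 2) (ZMod 3)))
        (P : Subgroup (Matrix.SpecialLinearGroup (Fin 2) (ZMod 3)))) ∧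
    ∀ N : Subgroup (Matrix.SpecialLinearGroup (Fin 2) (ZMod 3)), N.Normal →
      N = ⊥ ∨ N = ⊤ ∨ N = Subgroup.center (Matrix.SpecialLinearGroup (Fin 2) (ZMod 3)) ∨
        N = commutator (Matrix.SpecialLinearGroup (Fin 2) (ZMod 3)) := by
  open Subgroup CfsgH1 CfsgH3 CfsgH1.L2 CfsgH2 in
  classical
  have hF : Fintype.card (ZMod 3) = 3 := ZMod.card 3
  have ho : Odd (Fintype.card (ZMod 3)) := by rw [hF]; decide
  obtain ⟨j, h⟩ := exists_qu (two_ne ho) tr_J0
  obtain ⟨n, ix⟩ := h.normal hF
  have c : Nat.card (S2 (ZMod 3)) = 24 := by rw [card_S2, hF]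
  have z : Nat.card (center (S2 (ZMod 3))) = 2 := card_center.trans (d_odd ho)
  have e : commutator (S2 (ZMod 3)) = Subgroup.closure {J0 _, j} := by
    obtain ⟨g, hg⟩ := h.exists_sl23
    have a : J0 _ ∈ commutator (S2 (ZMod 3)) := by
      have := commutator_mem_commutator (mem_top g) (mem_top j)
      rwa [commutatorElement_def, hg.gy, mul_inv_cancel_right] at this
    refine le_antisymm ?_ (h.idx2.le_iff.2 ⟨a, hg.gc ▸ Normal.conj_mem inferInstance _ a g⟩)
    haveI : Fact (Nat.Prime 3) := ⟨by norm_num⟩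
    haveI := isCyclic_of_prime_card (ix : Nat.card (S2 (ZMod 3) ⧸ Subgroup.closure {J0 _, j}) = 3)
    exact (Normal.quotient_commutative_iff_commutator_le).1 IsCyclic.isMulCommutative
  rw [e]
  refine ⟨c, z, h.card, h.equiv, fun P => ?_, fun N hN => ?_⟩
  · have : Nat.card P = 3 := by
      rw [P.card_eq_multiplicity, c, show Nat.factorization 24 3 = 1 by decide +kernel]; rfl
    exact isComplement'_of_coprime (by rw [h.card, this, c]) (by rw [h.card, this]; decide)
  by_cases k : N ≤ center _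
  · rcases (Nat.dvd_prime Nat.prime_two).1 (z ▸ card_dvd_of_le k) with k' | k'
    · exact .inl (card_eq_one.1 k')
    · exact .inr (.inr (.inl (CfsgH2.eq_of_le_of_card_le k (by rw [z, k']))))
  obtain ⟨x, h1, h2⟩ := SetLike.not_le_iff_exists.1 k
  obtain ⟨t, h3, h4⟩ : ∃ t ∈ N, t.val.trace = 0 := by
    have := (by decide : ∀ a b c d : ZMod 3, a * d - b * c = 1 → (b = 0 ∧ c = 0 ∧ a = d) ∨ a + d = 0 ∨
      a ^ 2 + b ^ 2 + c ^ 2 + d ^ 2 = 0) _ _ _ _ ((Matrix.det_fin_two _).symm.trans x.2)
    rcases this with k | k | k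
    · exact (h2 (mem_centerS.2 k)).elim
    · exact ⟨x, h1, (Matrix.trace_fin_two _).trans k⟩
    · refine ⟨x * (J0 _ * x⁻¹ * (J0 _)⁻¹), mul_mem h1 (hN.conj_mem _ (inv_mem h1) _), ?_⟩
      rw [vmul, vmul, vmul, inv_of_tr tr_J0, Matrix.SpecialLinearGroup.coe_neg,
        Matrix.SpecialLinearGroup.coe_inv, ← k]
      simp [J0, mul2, Matrix.trace_fin_two, Matrix.adjugate_fin_two]
      ring
  have key : ∀ y : S2 (ZMod 3), y.val.trace = 0 → y ∈ N := fun y hy => by
    obtain ⟨g, rfl⟩ := isConj_iff.1 (isConj_of_tr (ss_of_tr h.h2 h4) (hy.trans h4.symm))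
    exact hN.conj_mem _ h3 g
  rcases eq_or_top_of_prime (h.idx2.le_iff.2 ⟨key _ h.ti, key _ h.tj⟩) (by rw [ix]; exact Nat.prime_three) with k | k
  exacts [.inr (.inr (.inr k)), .inr (.inl k)]

end Cfsg.Agent.S2427
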