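import Cfsg.Statements.S2430
import Cfsg.Agent.H1.PSL2c

set_option autoImplicit false
open Cfsg

namespace Cfsg.Agent.S2430

/-- Let F be a finite field with q elements, q odd, ℓ an odd prime, and P a Sylow ℓ-subgroup of SL₂ over F. If ℓ divides q − 1, the centraliser of P is cyclic of order q − 1 (a split torus) and the normaliser of P has order 2(q − 1); if ℓ divides q + 1, the centraliser of P is cyclic of order q + 1 (a non-split torus) and the normaliser of P has order 2(q + 1). -/
theorem result {F : Type*} [Field F] [Fintype F] (hodd : Odd (Fintype.card F)) (ℓ : ℕ) [Fact ℓ.Prime] (hℓ : ℓ ≠ 2)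
    (P : Sylow ℓ (Matrix.SpecialLinearGroup (Fin 2) F)) :
    (ℓ ∣ Fintype.card F - 1 →
      Nat.card (Subgroup.centralizer ((P : Subgroup (Matrix.SpecialLinearGroup (Fin 2) F)) : Set (Matrix.SpecialLinearGroup (Fin 2) F))) = Fintype.card F - 1 ∧
      IsCyclic (Subgroup.centralizer ((P : Subgroup (Matrix.SpecialLinearGroup (Fin 2) F)) : Set (Matrix.SpecialLinearGroup (Fin 2) F))) ∧
      Nat.card (Subgroup.normalizer ((P : Subgroup (Matrix.SpecialLinearGroup (Fin 2) F)) : Set (Matrix.SpecialLinearGroup (Fin 2) F))) = 2 * (Fintype.card F - 1)) ∧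
    (ℓ ∣ Fintype.card F + 1 →
      Nat.card (Subgroup.centralizer ((P : Subgroup (Matrix.SpecialLinearGroup (Fin 2) F)) : Set (Matrix.SpecialLinearGroup (Fin 2) F))) = Fintype.card F + 1 ∧
      IsCyclic (Subgroup.centralizer ((P : Subgroup (Matrix.SpecialLinearGroup (Fin 2) F)) : Set (Matrix.SpecialLinearGroup (Fin 2) F))) ∧
      Nat.card (Subgroup.normalizer ((P : Subgroup (Matrix.SpecialLinearGroup (Fin 2) F)) : Set (Matrix.SpecialLinearGroup (Fin 2) F))) = 2 * (Fintype.card F + 1)) := by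
  open Subgroup CfsgH1 CfsgH3 CfsgH1.L2 CfsgH2 in
  classical
  have hp : ℓ.Prime := Fact.out
  have := two_le_q (F := F)
  have n : ℓ ∣ Fintype.card F - 1 → ℓ ∣ Fintype.card F + 1 → False := fun a b => hℓ (by
    have := Nat.dvd_sub b a
    rw [show Fintype.card F + 1 - (Fintype.card F - 1) = 2 by omega] at this
    exact (Nat.prime_dvd_prime_iff_eq hp Nat.prime_two).1 this)
  constructor <;> intro h
  · obtain ⟨w, h1, h2, h3, h4⟩ := sylow_ss hℓ (fun k => hp.one_lt.ne' (Nat.dvd_one.1 (by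
      simpa [show Fintype.card F - (Fintype.card F - 1) = 1 by omega] using Nat.dvd_sub k h))) P
      (card_S2 (F := F) ▸ (h.mul_left _).mul_right _)
    have e := h2.card_cases.resolve_right fun k => n h (k ▸ h4)
    rw [h2.cent_eq h1 h3, h2.norm_eq h1 h3, h2.card_norm, e]
    exact ⟨rfl, h2.isCyclicS, rfl⟩
  · obtain ⟨w, h1, h2, h3, h4⟩ := sylow_ss hℓ (fun k => hp.one_lt.ne' (Nat.dvd_one.1
      ((Nat.dvd_add_right k).1 h))) P (card_S2 (F := F) ▸ h.mul_left _)
    have e := h2.card_cases.resolve_left fun k => n (k ▸ h4) h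
    rw [h2.cent_eq h1 h3, h2.norm_eq h1 h3, h2.card_norm, e]
    exact ⟨rfl, h2.isCyclicS, rfl⟩

end Cfsg.Agent.S2430
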