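import Cfsg.Statements.S2434
import Cfsg.Agent.H1.PSL2d

set_option autoImplicit false
open Cfsg

namespace Cfsg.Agent.S2434

/-- Let F be a finite field with q elements, q odd, and C a cyclic subgroup of order q + 1 of SL₂ over F (a non-split torus; it contains the centre). For every homomorphism θ from C to the non-zero complex numbers with θ² ≠ 1 there is an irreducible complex character χ of degree q − 1 such that χ(c) = −θ(c) − θ(c)⁻¹ for every non-central c in C, χ(zg) = θ(z)χ(g) for central z in C, χ vanishes at diagonal elements with entry a, a² ≠ 1, and χ takes the value −1 at every upper unitriangular element other than 1. Conversely every irreducible character of degree q − 1 has, for some such θ, the values −θ(c) − θ(c)⁻¹ at the non-central elements c of C (for q ≥ 5 these are exactly the cuspidal characters of degree q − 1). -/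
theorem result {F : Type*} [Field F] [Fintype F] (hodd : Odd (Fintype.card F))
    (C : Subgroup (Matrix.SpecialLinearGroup (Fin 2) F)) (hC : IsCyclic C) (hcard : Nat.card C = Fintype.card F + 1) :
    (∀ θ : C →* ℂˣ, (∃ c : C, θ c ^ 2 ≠ 1) →
      ∃ χ : Matrix.SpecialLinearGroup (Fin 2) F → ℂ, Cfsg.IsIrrCharacter (Matrix.SpecialLinearGroup (Fin 2) F) χ ∧ χ 1 = (Fintype.card F : ℂ) - 1 ∧
        (∀ c : C, (c : Matrix.SpecialLinearGroup (Fin 2) F) ∉ Subgroup.center (Matrix.SpecialLinearGroup (Fin 2) F) → χ c = -((θ c).val + (θ c)⁻¹.val)) ∧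
        (∀ c : C, (c : Matrix.SpecialLinearGroup (Fin 2) F) ∈ Subgroup.center (Matrix.SpecialLinearGroup (Fin 2) F) → ∀ g : Matrix.SpecialLinearGroup (Fin 2) F, χ ((c : Matrix.SpecialLinearGroup (Fin 2) F) * g) = (θ c).val * χ g) ∧
        (∀ g : Matrix.SpecialLinearGroup (Fin 2) F, (g : Matrix (Fin 2) (Fin 2) F) 0 1 = 0 → (g : Matrix (Fin 2) (Fin 2) F) 1 0 = 0 → (g : Matrix (Fin 2) (Fin 2) F) 0 0 ^ 2 ≠ 1 → χ g = 0) ∧
        (∀ g : Matrix.SpecialLinearGroup (Fin 2) F, (g : Matrix (Fin 2) (Fin 2) F) 1 0 = 0 → (g : Matrix (Fin 2) (Fin 2) F) 0 0 = 1 → (g : Matrix (Fin 2) (Fin 2) F) 1 1 = 1 → (g : Matrix (Fin 2) (Fin 2) F) 0 1 ≠ 0 → χ g = -1)) ∧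
    (∀ χ : Matrix.SpecialLinearGroup (Fin 2) F → ℂ, Cfsg.IsIrrCharacter (Matrix.SpecialLinearGroup (Fin 2) F) χ → χ 1 = (Fintype.card F : ℂ) - 1 →
      ∃ θ : C →* ℂˣ, (∃ c : C, θ c ^ 2 ≠ 1) ∧
        ∀ c : C, (c : Matrix.SpecialLinearGroup (Fin 2) F) ∉ Subgroup.center (Matrix.SpecialLinearGroup (Fin 2) F) → χ c = -((θ c).val + (θ c)⁻¹.val)) := by
  open Subgroup CfsgH1 CfsgH3 CfsgH1.L2 in
  classical
  have q2 := two_le_q (F := F)
  obtain ⟨w, rfl⟩ := exists_gen hC
  rw [Nat.card_zpowers] at hcard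
  have hw : Ell w.val := by
    have o := hcard ▸ orderOf_dvd_cent w
    rcases cases2 (Matrix.SpecialLinearGroup.toGL w : G2 F) with k | k | ⟨x, y, k1, k⟩ | ⟨x, k, k'⟩
    · have := Nat.le_of_dvd two_pos (orderOf_dvd_of_pow_eq_one ((sq w).trans ((mul_self_iff (two_ne hodd)).2 k)))
      omega
    · exact k
    · have := Nat.le_of_dvd (by rw [Ev.card_centS_spl k (Units.val_injective.ne k1)]; omega) o
      rw [Ev.card_centS_spl k (Units.val_injective.ne k1)] at this; omega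
    · have := Nat.le_of_dvd two_pos ((Nat.coprime_self_add_left.2 (Nat.coprime_one_left _)).dvd_of_dvd_mul_right
        (hcard ▸ jor_dvd k k'))
      omega
  have e : zpowers w = centralizer {w} := CfsgH2.eq_of_le_of_card_le (zpowers_le.2 (self_mem_cent w))
    (by rw [Nat.card_zpowers, hcard, hw.card_centS])
  rw [e]
  have el : ∀ c : centralizer ({w} : Set (S2 F)), c.1 ∉ center _ → Ell c.1.val := fun c hc =>
    Ell.of_mem (w := Matrix.SpecialLinearGroup.toGL w) (z := Matrix.SpecialLinearGroup.toGL c.1) hw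
      (mem_centS.1 c.2) (mt mem_centerS.2 hc)
  refine ⟨fun θ h => ⟨_, DD_irr hw (ne_inv_iff.2 h), DD_one hw θ, fun c hc => DD_ell hw θ (el c hc),
    fun c hc g => ?_, fun g _ h k => DD_spl hw θ (evS g h) (mk0_ne (ne_of_sq h k)), fun g h1 h2 h3 h4 => ?_⟩,
    fun χ h d => ?_⟩
  · obtain ⟨ω, -, k⟩ := (DD_irr hw (ne_inv_iff.2 h)).exists_scalar_of_mem_center hc
    have := k 1
    rw [mul_one, DD_sc hw θ (mem_centerS.1 hc), DD_one, mul_comm, mul_left_inj' (by
      rw [sub_ne_zero]; exact_mod_cast (show Fintype.card F ≠ 1 by omega))] at this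
    rw [k, this]
  · rw [eq_utS h1, show Units.mk0 _ (ne_of_utS h1) = 1 from Units.ext h2, DD_u hw θ h4]
  have key : χ ∈ sDD hw → ∃ θ : centralizer ({w} : Set (S2 F)) →* ℂˣ, (∃ c, θ c ^ 2 ≠ 1) ∧
      ∀ c : centralizer ({w} : Set (S2 F)), c.1 ∉ center _ → χ c = -((θ c).val + (θ c)⁻¹.val) := by
    rintro ⟨θ, rfl⟩
    exact ⟨θ, ne_inv_iff.1 θ.2, fun c hc => DD_ell hw _ (el c hc)⟩
  by_cases h4 : 4 ≤ Fintype.card F
  · exact key (S_DD hw h4 h d)
  have h3 : Fintype.card F = 3 := by have := Nat.odd_iff.1 hodd; omega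
  rcases irrS_deg hw h (n := 2) (by rw [d, h3]; norm_num) with k | k | k | k | ⟨-, α, -, -, _, k⟩ | k
  any_goals omega
  · exact key k.2
  obtain ⟨_, θ, rfl⟩ := Set.nonempty_of_ncard_ne_zero (s := sDD hw) (by have := ncard_DD_odd hw hodd; omega)
  refine ⟨θ, ne_inv_iff.1 θ.2, fun c hc => ?_⟩
  have := k.ds (Ell.ds (g := Matrix.SpecialLinearGroup.toGL c.1) (el c hc))
  rw [RS_ell _ (el c hc), mul_eq_zero, or_iff_right two_ne_zero] at this
  rw [this, DD_three hw h3 θ.2 (mt mem_centerS.2 hc), neg_zero]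

end Cfsg.Agent.S2434
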