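import Cfsg.Statements.S2435
import Cfsg.Agent.H1.GL2d

set_option autoImplicit false
open Cfsg

namespace Cfsg.Agent.S2435

/-- Let F be a finite field with q elements, q odd and q ≥ 5, and χ an irreducible complex character of SL₂ over F. If χ has degree (q + 1)/2, then at a diagonal element with entry a, a² ≠ 1, χ takes the value 1 when a is a square in F and −1 otherwise. If χ has degree (q − 1)/2, then at an element g with no eigenvector in F² (so g has order dividing q + 1), χ takes the value −1 when g raised to the power (q + 1)/2 is the identity and the value 1 otherwise. -/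
theorem result {F : Type*} [Field F] [Fintype F] (hodd : Odd (Fintype.card F)) (hq : 5 ≤ Fintype.card F)
    (χ : Matrix.SpecialLinearGroup (Fin 2) F → ℂ) (hχ : Cfsg.IsIrrCharacter (Matrix.SpecialLinearGroup (Fin 2) F) χ) (g : Matrix.SpecialLinearGroup (Fin 2) F) :
    (χ 1 = (((Fintype.card F + 1) / 2 : ℕ) : ℂ) → (g : Matrix (Fin 2) (Fin 2) F) 0 1 = 0 → (g : Matrix (Fin 2) (Fin 2) F) 1 0 = 0 → (g : Matrix (Fin 2) (Fin 2) F) 0 0 ^ 2 ≠ 1 →
      (IsSquare ((g : Matrix (Fin 2) (Fin 2) F) 0 0) → χ g = 1) ∧ (¬ IsSquare ((g : Matrix (Fin 2) (Fin 2) F) 0 0) → χ g = -1)) ∧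
    (χ 1 = (((Fintype.card F - 1) / 2 : ℕ) : ℂ) → (∀ (c : F) (v : Fin 2 → F), v ≠ 0 → (g : Matrix (Fin 2) (Fin 2) F).mulVec v ≠ c • v) →
      (((g ^ ((Fintype.card F + 1) / 2)) : Matrix (Fin 2) (Fin 2) F) = 1 → χ g = -1) ∧ (((g ^ ((Fintype.card F + 1) / 2)) : Matrix (Fin 2) (Fin 2) F) ≠ 1 → χ g = 1)) := by
  open Subgroup CfsgH1 CfsgH3 CfsgH1.L2 in
  classical
  have h4 : 4 ≤ Fintype.card F := by omega
  refine ⟨fun d _ h k => ?_, fun d h => ?_⟩
  · obtain ⟨α, h1, h2, _, k'⟩ := S_HR hodd h4 hχ d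
    have e := evS g h
    have := k'.ds (Ev.ds (g := Matrix.SpecialLinearGroup.toGL g) e (ne_of_sq h k))
    rw [RS_spl _ e (mk0_ne (ne_of_sq h k)), ← e.inv_eq, map_inv, ← MonoidHom.inv_apply, ← h2,
      ← two_mul, mul_right_inj' two_ne_zero] at this
    have c : ringChar F ≠ 2 := fun k => two_ne hodd (by exact_mod_cast k ▸ ringChar.Nat.cast_ringChar (R := F))
    rw [this, FiniteField.isSquare_iff c (ne_of_utS h)]
    have := sgn_val h1 h2 (Units.mk0 _ (ne_of_utS h))
    obtain ⟨m, hm⟩ := hodd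
    rwa [card_units', Ne, Units.ext_iff, Units.val_pow_eq_pow_val,
      show (Fintype.card F - 1) / 2 = Fintype.card F / 2 by omega] at this
  · have h := ell_iff.1 h
    haveI := h.isCyclicS
    obtain ⟨θ, h1, h2, _, k'⟩ := S_HD h hodd h4 hχ d
    have := k'.ds (Ell.ds (g := Matrix.SpecialLinearGroup.toGL g) h)
    rw [DD_ell h θ (z := ⟨g, mem_centralizer_singleton_iff.2 rfl⟩) h, ← MonoidHom.inv_apply, ← h2,
      ← two_mul, ← mul_neg, mul_right_inj' two_ne_zero] at this
    have s := sgn_val h1 h2 ⟨g, mem_centralizer_singleton_iff.2 rfl⟩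
    rw [h.card_centS, Ne, Subtype.ext_iff, sext] at s
    exact ⟨fun k => by rw [this, s.1 k], fun k => by rw [this, s.2 k, neg_neg]⟩

end Cfsg.Agent.S2435
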