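import Cfsg.Statements.S2440
import Mathlib
import Cfsg.Agent.H8.CRB

set_option autoImplicit false
open Cfsg

namespace Cfsg.Agent.S2440

/-- For a prime p and n ≥ 2, the group SL_n over the field with p elements has exactly gcd(n, p − 1) + 1 p-blocks relative to any maximal ideal of the algebraic integers containing p, that is, one more than the order of its centre (only this total is asserted; it arises as the defect-zero block of the Steinberg character plus as many blocks of maximal defect as the order of the centre). -/
theorem result (p : ℕ) [Fact p.Prime] (n : ℕ) (hn : 2 ≤ n) (M : Ideal Cfsg.AlgInt) (hM : Cfsg.IsPModular p M) :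
    Nat.card {B : Set (Cfsg.IrrCharacter (Matrix.SpecialLinearGroup (Fin n) (ZMod p))) // Cfsg.IsPBlock M B} =
      Nat.gcd n (p - 1) + 1 := by
  classical
  have : Nonempty (Fin n) := ⟨⟨0, by omega⟩⟩
  rw [(CfsgH8.locA_SL p hn).card_blocks ?_ hM, CfsgH8.card_dz_SL p hn hM, CfsgH5.card_center_SL, Fintype.card_fin,
    ZMod.card]
  have h : (⟨0, by omega⟩ : Fin n) ≠ ⟨1, by omega⟩ := by simp
  have h1 := orderOf_dvd_natCard (Matrix.SpecialLinearGroup.transvection h (1 : ZMod p))
  rwa [orderOf_eq_prime (p := p)] at h1
  · have : ∀ k : ℕ, Matrix.SpecialLinearGroup.transvection h (1 : ZMod p) ^ k =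
        Matrix.SpecialLinearGroup.transvection h (k : ZMod p) := fun k => by
      induction k with
      | zero => simp
      | succ k ih => rw [pow_succ, ih, Nat.cast_succ, Matrix.SpecialLinearGroup.transvection_add]
    simp [this]
  · intro e
    have := (Matrix.SpecialLinearGroup.transvection_mem_center_iff h (1 : ZMod p)).1 (e ▸ one_mem _)
    simp at this

end Cfsg.Agent.S2440
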