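import Cfsg.Statements.S2450
import Cfsg.Agent.H1.PSL2d

set_option autoImplicit false
open Cfsg

namespace Cfsg.Agent.S2450

/-- The Arad–Herzog conjecture for PSL(2,q): let F be a finite field with q ≥ 4 elements. For any two non-identity elements a, b of PSL(2,F), the set of products of a conjugate of a with a conjugate of b is not a single conjugacy class. -/
theorem result {F : Type*} [Field F] [Fintype F] (h4 : 4 ≤ Fintype.card F)
    (a b : Matrix.ProjectiveSpecialLinearGroup (Fin 2) F) (ha : a ≠ 1) (hb : b ≠ 1) (c : Matrix.ProjectiveSpecialLinearGroup (Fin 2) F) :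
    {g : Matrix.ProjectiveSpecialLinearGroup (Fin 2) F | ∃ u v : Matrix.ProjectiveSpecialLinearGroup (Fin 2) F, g = (u * a * u⁻¹) * (v * b * v⁻¹)} ≠ {g | IsConj c g} := by
  open Subgroup CfsgH1 CfsgH3 CfsgH1.L2 in
  classical
  intro e
  have key : ∀ χ, IsIrrCharacter (P2 F) χ → χ 1 * χ c = χ a * χ b := fun χ h => by
    letI := Fintype.ofFinite (P2 F)
    have := CfsgH4.sum_conj_mul h b a
    rw [Finset.sum_congr rfl (g := fun _ => χ c) fun g _ => by
      obtain ⟨x, k⟩ := isConj_iff.1 (e.le ⟨g, 1, rfl⟩)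
      rw [← h.isChar.classFun c x, k]; simp] at this
    rw [Finset.sum_const, Finset.card_univ, nsmul_eq_mul, ← Nat.card_eq_fintype_card, mul_left_comm,
      mul_right_inj' (Nat.cast_ne_zero.2 Nat.card_pos.ne'), mul_comm (χ b)] at this
    exact this
  obtain ⟨a, rfl⟩ := pr_surj a
  obtain ⟨b, rfl⟩ := pr_surj b
  obtain ⟨c, rfl⟩ := pr_surj c
  have ha := mt pr_eq_one.2 ha
  have hb := mt pr_eq_one.2 hb
  obtain ⟨χ, h1, e1⟩ := exists_St (F := F)
  obtain ⟨w, hw⟩ := exists_ellS (F := F)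
  obtain ⟨θ, hθ, ψ, h2, e2⟩ := exists_DD h4 hw
  have k1 := congrArg norm (key χ h1)
  have k2 := congrArg norm (key ψ h2)
  rw [← map_one pr, e1, e1, e1, e1, St_one, norm_mul, norm_mul] at k1
  rw [← map_one pr, e2, e2, e2, e2, DD_one, norm_mul, norm_mul] at k2
  have q4 : (4 : ℝ) ≤ Fintype.card F := by exact_mod_cast h4
  have n1 : ‖(Fintype.card F : ℂ)‖ = Fintype.card F := by simp
  have n2 : ‖(Fintype.card F : ℂ) - 1‖ = Fintype.card F - 1 := by
    rw [← Complex.ofReal_natCast, ← Complex.ofReal_one, ← Complex.ofReal_sub, Complex.norm_of_nonneg (by linarith)]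
  have s : ∀ g : S2 F, ¬ Sc g.val → ‖St F g‖ = 1 ∨ (‖St F g‖ = 0 ∧ ‖DD hw θ g‖ = 1) := fun g hg => by
    rcases cases2 (Matrix.SpecialLinearGroup.toGL g : G2 F) with k | k | ⟨x, y, k1, k⟩ | ⟨x, k, -⟩
    · exact (hg k).elim
    · simp [St_ell k]
    · simp [St_spl k k1]
    · refine .inr ⟨by simp [St_jor k hg], ?_⟩
      rw [DD_jor hw θ k hg, hθ _ (Subtype.ext (by
        change utS x 0 * utS x 0 = 1
        rw [utS_mul, ← utS_one, utS_inj, mul_eq_one_iff_eq_inv, k.inv_eq]; simp))]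
      simp
  have da := norm_DD_le hw θ ha
  have db := norm_DD_le hw θ hb
  rw [n1] at k1
  rw [n2] at k2
  by_cases hc : Sc c.val
  · rw [St_sc hc, n1] at k1
    rcases s a ha with a1 | ⟨a1, -⟩ <;> rcases s b hb with b1 | ⟨b1, -⟩ <;> rw [a1, b1] at k1 <;> nlinarith
  rcases s a ha with a1 | ⟨a1, a2⟩ <;> rcases s b hb with b1 | ⟨b1, b2⟩ <;>
    rcases s c hc with c1 | ⟨c1, c2⟩ <;> rw [a1, b1, c1] at k1
  any_goals linarith
  all_goals rw [c2] at k2
  · rw [b2] at k2; linarith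
  · rw [a2] at k2; linarith
  · rw [a2] at k2; linarith

end Cfsg.Agent.S2450
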