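import Cfsg.Statements.S2455
import Cfsg.Agent.H1.PSL2e

set_option autoImplicit false
open Cfsg

namespace Cfsg.Agent.S2455

/-- A strong covering result in the direction of Thompson's conjecture (non-identity elements) for PSL(2,q), q odd: let F be a finite field of odd characteristic p with at least 5 elements and let x ∈ PSL(2,F) have order greater than 2 and not divisible by p (so x is not unipotent). Then every non-identity element of PSL(2,F) is a product of two conjugates of x. -/
theorem result {F : Type*} [Field F] [Fintype F] (p : ℕ) [Fact p.Prime] [CharP F p] (hp : p ≠ 2) (h5 : 5 ≤ Fintype.card F)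
    (x : Matrix.ProjectiveSpecialLinearGroup (Fin 2) F) (hx2 : 2 < orderOf x) (hxp : ¬ p ∣ orderOf x) : ∀ g : Matrix.ProjectiveSpecialLinearGroup (Fin 2) F, g ≠ 1 → ∃ u v : Matrix.ProjectiveSpecialLinearGroup (Fin 2) F, g = (u * x * u⁻¹) * (v * x * v⁻¹) := by
  open Subgroup CfsgH1 CfsgH1.L2 Polynomial in
  classical
  intro g hg
  obtain ⟨x, rfl⟩ := pr_surj x
  obtain ⟨g, rfl⟩ := pr_surj g
  have hg := mt pr_eq_one.2 hg
  have o := Nat.two_dvd_ne_zero.1 (not_dvd_q (F := F) hp.symm)
  have h2 := two_ne (Nat.odd_iff.2 o)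
  have hx : Ss x.val := by
    rcases casesS x with k | k | ⟨y, k, k'⟩
    · simp [pr_eq_one.2 k] at hx2
    · exact k
    · exact (hxp (jor_pr p k k').symm.dvd).elim
  have ht : x.val.trace ≠ 0 := fun k => by have := invol_of_tr0 h2 k; omega
  generalize hs : g.val.trace = s
  generalize e : x.val.trace = t at ht
  by_cases h : s ^ 2 = 4
  · have s0 : s ≠ 0 := by
      rintro rfl
      exact mul_ne_zero h2 h2 (by linear_combination -h)
    obtain ⟨A, h1, h3⟩ := exists_pair_of_root hg (t := t) (e := -s / 2 * t) (a := s / 2 * (t * s)⁻¹)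
      (b := (t * s)⁻¹) (by rw [hs]; field_simp; linear_combination -h)
    refine prod_of_tr hx (h1.trans e.symm) ?_
    rw [h3, e]
    rcases mul_eq_zero.1 (show (s + 2) * (s - 2) = 0 by linear_combination h) with k | k
    · left; rw [eq_neg_of_add_eq_zero_left k]; field_simp
    · right; rw [sub_eq_zero.1 k]; field_simp
  · obtain ⟨u, b, k⟩ := FiniteField.exists_root_sum_quadratic (f := C 1 * Polynomial.X ^ 2 + C (-t) * Polynomial.X + C 0)
      (g := C (1 - s ^ 2 / 4) * Polynomial.X ^ 2 + C (t - t * s / 2) * Polynomial.X + C 1) (degree_quadratic one_ne_zero)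
      (degree_quadratic fun k => h (by
        have : (4 : F) ≠ 0 := fun k => mul_ne_zero h2 h2 (by linear_combination k)
        field_simp at k; linear_combination -k)) o
    simp only [eval_add, eval_mul, eval_C, eval_pow, eval_X] at k
    have : (4 : F) ≠ 0 := fun k => mul_ne_zero h2 h2 (by linear_combination k)
    obtain ⟨A, h1, h3⟩ := exists_pair_of_root hg (t := t) (e := t) (a := u + s * b / 2) (b := b)
      (by rw [hs, ← k]; field_simp; ring)
    exact prod_of_tr hx (h1.trans e.symm) (.inl (h3.trans e.symm))

end Cfsg.Agent.S2455
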