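import Cfsg.Statements.S2456
import Cfsg.Agent.H1.PSL2e

set_option autoImplicit false
open Cfsg

namespace Cfsg.Agent.S2456

/-- A strong covering result in the direction of Thompson's conjecture (non-identity elements) for PSL(2,q), q even: let F be a finite field of characteristic 2 with q ≥ 4 elements and let x ∈ PSL(2,F) have order greater than 2 and not dividing q + 1. Then every non-identity element of PSL(2,F) is a product of two conjugates of x. -/
theorem result {F : Type*} [Field F] [Fintype F] [CharP F 2] (h4 : 4 ≤ Fintype.card F)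
    (x : Matrix.ProjectiveSpecialLinearGroup (Fin 2) F) (hx2 : 2 < orderOf x) (hxq : ¬ orderOf x ∣ Fintype.card F + 1) : ∀ g : Matrix.ProjectiveSpecialLinearGroup (Fin 2) F, g ≠ 1 → ∃ u v : Matrix.ProjectiveSpecialLinearGroup (Fin 2) F, g = (u * x * u⁻¹) * (v * x * v⁻¹) := by
  open Subgroup CfsgH1 CfsgH1.L2 in
  classical
  intro g hg
  obtain ⟨x, rfl⟩ := pr_surj x
  obtain ⟨g, rfl⟩ := pr_surj g
  rcases cases2 (Matrix.SpecialLinearGroup.toGL x : G2 F) with k | k | ⟨a, b, k1, k⟩ | ⟨y, k, k'⟩
  · simp [pr_eq_one.2 k] at hx2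
  · exact (hxq ((Nat.dvd_mul_right _ _).trans (Ell.card_centS (g := x) k ▸ order_pr x))).elim
  · obtain ⟨A, h1, h3⟩ := exists_pair_of_root (mt pr_eq_one.2 hg) (t := x.val.trace) (e := x.val.trace)
      (a := a) (b := 0) (by rw [show x.val.trace = a + b from k.1]; linear_combination -Ev.mul_eq (g := x) k)
    exact prod_of_tr (.inr ⟨_, _, Units.val_injective.ne k1, k⟩) h1 (.inl h3)
  · have := jor_pr 2 (g := x) k k'; omega

end Cfsg.Agent.S2456
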