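import Cfsg.Statements.S2466
import Mathlib
import Cfsg.Agent.H8.AltSpectrum

set_option autoImplicit false
open Cfsg

namespace Cfsg.Agent.S2466

theorem exists_mem_dvd {p : ℕ} (hp : p.Prime) (s : Multiset ℕ) (h : p ∣ s.lcm) : ∃ a ∈ s, p ∣ a := by
  induction s using Multiset.induction_on with
  | empty => simp at h; exact absurd h hp.one_lt.ne'
  | cons a s ih =>
    rw [Multiset.lcm_cons] at h
    rcases (Nat.Prime.dvd_mul hp).1 (h.trans (lcm_dvd_mul _ _)) with h | h
    · exact ⟨a, Multiset.mem_cons_self _ _, h⟩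
    · obtain ⟨b, hb, hb'⟩ := ih h
      exact ⟨b, Multiset.mem_cons_of_mem hb, hb'⟩

theorem add_le_sum {s : Multiset ℕ} {a b : ℕ} (ha : a ∈ s) (hb : b ∈ s) (hab : a ≠ b) :
    a + b ≤ s.sum := by
  obtain ⟨t, rfl⟩ := Multiset.exists_cons_of_mem ha
  rw [Multiset.mem_cons] at hb
  rcases hb with rfl | hb
  · exact absurd rfl hab
  · rw [Multiset.sum_cons]
    have := Multiset.single_le_sum (fun x _ => Nat.zero_le x) b hb
    omega

/-- Adjacency of odd primes in the prime graph of the alternating groups: let r ≠ s be odd primes at most n. The alternating group of degree n has an element of order r·s if and only if r + s ≤ n. -/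
theorem result (n r s : ℕ) (hr : r.Prime) (hs : s.Prime) (hr2 : r ≠ 2) (hs2 : s ≠ 2) (hrs : r ≠ s) (hrn : r ≤ n) (hsn : s ≤ n) :
    (r * s ∈ Set.range (orderOf : alternatingGroup (Fin n) → ℕ)) ↔ r + s ≤ n := by
  rw [CfsgH8.exists_alt_orderOf_iff, Fintype.card_fin]
  have hcop : Nat.Coprime r s := (Nat.coprime_primes hr hs).2 hrs
  constructor
  · rintro ⟨m, h1, h2, -, h4⟩
    obtain ⟨a, ha, hra⟩ := exists_mem_dvd hr m (h4 ▸ Dvd.intro _ rfl)
    obtain ⟨b, hb, hsb⟩ := exists_mem_dvd hs m (h4 ▸ Dvd.intro_left _ rfl)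
    have ha2 := h2 a ha
    have hb2 := h2 b hb
    by_cases hab : a = b
    · subst hab
      have h5 := Nat.le_of_dvd (by omega) (hcop.mul_dvd_of_dvd_of_dvd hra hsb)
      have := Multiset.single_le_sum (fun x _ => Nat.zero_le x) a ha
      have := hr.two_le
      have := hs.two_le
      nlinarith
    · have := add_le_sum ha hb hab
      have := Nat.le_of_dvd (by omega) hra
      have := Nat.le_of_dvd (by omega) hsb
      omega
  · intro h
    refine ⟨{r, s}, by simpa using h, by simp [hr.two_le, hs.two_le], ?_, ?_⟩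
    · have h1 := hr.odd_of_ne_two hr2
      have h2 := hs.odd_of_ne_two hs2
      simp only [Multiset.insert_eq_cons, Multiset.sum_cons, Multiset.sum_singleton,
        Multiset.card_cons, Multiset.card_singleton]
      exact (h1.add_odd h2).add (by decide)
    · simp [lcm_eq_nat_lcm, hcop.lcm_eq_mul]

end Cfsg.Agent.S2466
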