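import Cfsg.Statements.S2467
import Mathlib
import Cfsg.Agent.H8.AltSpectrum
import Cfsg.Agent.S2466

set_option autoImplicit false
open Cfsg

namespace Cfsg.Agent.S2467

theorem even_sum_add_card (s : Multiset ℕ) (h : ∀ a ∈ s, ¬ 2 ∣ a) : Even (s.sum + s.card) := by
  induction s using Multiset.induction_on with
  | empty => simp
  | cons a s ih =>
    have h1 := ih (fun b hb => h b (Multiset.mem_cons_of_mem hb))
    have h2 := h a (Multiset.mem_cons_self _ _)
    rw [Multiset.sum_cons, Multiset.card_cons]
    rw [Nat.even_iff] at *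
    omega

/-- Adjacency of 2 and an odd prime in the prime graph of the alternating groups: let r be an odd prime at most n, with n ≥ 4. The alternating group of degree n has an element of order 2r if and only if r + 4 ≤ n. -/
theorem result (n r : ℕ) (hn : 4 ≤ n) (hr : r.Prime) (hr2 : r ≠ 2) (hrn : r ≤ n) :
    (2 * r ∈ Set.range (orderOf : alternatingGroup (Fin n) → ℕ)) ↔ r + 4 ≤ n := by
  rw [CfsgH8.exists_alt_orderOf_iff, Fintype.card_fin]
  have hcop : Nat.Coprime 2 r := (Nat.coprime_primes Nat.prime_two hr).2 hr2.symm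
  have hr3 := hr.two_le
  constructor
  · rintro ⟨m, h1, h2, h3, h4⟩
    obtain ⟨b, hb, h2b⟩ := S2466.exists_mem_dvd Nat.prime_two m (h4 ▸ Dvd.intro _ rfl)
    obtain ⟨a, ha, hra⟩ := S2466.exists_mem_dvd hr m (h4 ▸ Dvd.intro_left _ rfl)
    obtain ⟨m, rfl⟩ := Multiset.exists_cons_of_mem hb
    obtain ⟨c, hc, h2c⟩ : ∃ c ∈ m, 2 ∣ c := by
      by_contra hcon
      push Not at hcon
      have := even_sum_add_card m hcon
      rw [Multiset.sum_cons, Multiset.card_cons] at h3
      rw [Nat.even_iff] at *
      omega
    obtain ⟨m, rfl⟩ := Multiset.exists_cons_of_mem hc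
    have hb2 := h2 b (by simp)
    have hc2 := h2 c (by simp)
    have ha2 := h2 a ha
    simp only [Multiset.sum_cons] at h1
    simp only [Multiset.mem_cons] at ha
    rcases ha with rfl | rfl | ha
    · have := Nat.le_of_dvd (by omega) (hcop.mul_dvd_of_dvd_of_dvd h2b hra)
      omega
    · have := Nat.le_of_dvd (by omega) (hcop.mul_dvd_of_dvd_of_dvd h2c hra)
      omega
    · have := Multiset.single_le_sum (fun x _ => Nat.zero_le x) a ha
      have := Nat.le_of_dvd (by omega) hra
      omega
  · intro h
    refine ⟨{2, 2, r}, by simp; omega, by simp [hr.two_le], ?_, ?_⟩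
    · have h1 := hr.odd_of_ne_two hr2
      simp only [Multiset.insert_eq_cons, Multiset.sum_cons, Multiset.sum_singleton,
        Multiset.card_cons, Multiset.card_singleton]
      rw [Nat.odd_iff] at h1
      rw [Nat.even_iff]
      omega
    · simp only [Multiset.insert_eq_cons, Multiset.lcm_cons, Multiset.lcm_singleton, normalize_eq,
        lcm_eq_nat_lcm]
      rw [← Nat.lcm_assoc, Nat.lcm_self, hcop.lcm_eq_mul]

end Cfsg.Agent.S2467
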