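import Cfsg.Statements.S2468
import Cfsg.Agent.H5.El3

set_option autoImplicit false
open Cfsg

namespace Cfsg.Agent.S2468

open CfsgH5 Pointwise Module Polynomial

/-- Adjacency of two odd primes in the prime graph of PSL(n,q): let F be a finite field of characteristic p with q elements, n ≥ 2 with PSL(n,F) simple, and let r ≠ s be odd primes different from p dividing the order of PSL(n,F). Let k and l be the multiplicative orders of q modulo r and modulo s, and suppose 2 ≤ k ≤ l. Then PSL(n,F) has NO element of order r·s if and only if k + l > n and k does not divide l. -/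
theorem result {F : Type*} [Field F] [Fintype F] (p : ℕ) [Fact p.Prime] [CharP F p] (n : ℕ) (hn : 2 ≤ n) (hsmall : n = 2 → 4 ≤ Fintype.card F)
    (r s : ℕ) (hr : r.Prime) (hs : s.Prime) (hr2 : r ≠ 2) (hs2 : s ≠ 2) (hrp : r ≠ p) (hsp : s ≠ p) (hrs : r ≠ s)
    (hrG : r ∣ Nat.card (Matrix.ProjectiveSpecialLinearGroup (Fin n) F)) (hsG : s ∣ Nat.card (Matrix.ProjectiveSpecialLinearGroup (Fin n) F))
    (k l : ℕ) (hk : k = orderOf ((Fintype.card F : ℕ) : ZMod r)) (hl : l = orderOf ((Fintype.card F : ℕ) : ZMod s))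
    (h2k : 2 ≤ k) (hkl : k ≤ l) :
    (r * s ∉ Set.range (orderOf : Matrix.ProjectiveSpecialLinearGroup (Fin n) F → ℕ)) ↔ (n < k + l ∧ ¬ k ∣ l) := by
  classical
  haveI : Nonempty (Fin n) := ⟨⟨0, by omega⟩⟩
  have hV : finrank F (Fin n → F) = n := by simp
  have hq : 0 < Fintype.card F := Fintype.card_pos
  have r0 := cast_ne_of_ne (F := F) p hr hrp
  have s0 := cast_ne_of_ne (F := F) p hs hsp
  have h0 : ((r * s : ℕ) : F) ≠ 0 := by simp [r0, s0]
  have rd : ¬ r ∣ Fintype.card F - 1 := mt (ord_eq_one_iff hq).2 (by omega)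
  have sd : ¬ s ∣ Fintype.card F - 1 := mt (ord_eq_one_iff hq).2 (by omega)
  rw [ord_iff (slHom _ F) slHom_inj sl_center range_slHom hr hs hrs]
  refine ⟨fun H => by_contra fun h => H ?_, fun H ⟨g, hg, u, hu, h1, h2, h3⟩ => ?_⟩
  · rw [not_and_or, not_lt, not_not] at h
    rcases h with h | h
    · obtain ⟨φ⟩ := exists_split (F := F) (V := Fin n → F) (a := k) (b := n - k) (by omega)
      obtain ⟨g, h1, h2, h3⟩ := exists_sl_prime (F := F) hr
        ((((ord_dvd_iff hq).1 hk.symm.dvd).mul_left _).trans (dvd_card_SL h2k le_rfl))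
      obtain ⟨u, h4, h5, h6⟩ := exists_sl_prime (F := F) (m := n - k) hs
        ((((ord_dvd_iff hq).1 hl.symm.dvd).mul_left _).trans (dvd_card_SL (by omega) (by omega)))
      exact ⟨_, pH_sl (φ := φ) (x := (g, 1)) h1 (one_mem _), _, pH_sl (x := (1, u)) (one_mem _) h4,
        pe_pH_left h2 h3 (by simp; omega), pe_pH_right h5 h6 (by simp; omega), commute_pH _ _⟩
    haveI := Fact.mk hs
    obtain ⟨x, hx⟩ := exists_prime_orderOf_dvd_card' s hsG
    obtain ⟨x, rfl⟩ := QuotientGroup.mk_surjective x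
    have h1 := ord_le_of_pe hs s0 sd ((pe_mk (slHom _ F) sl_center hs).1 hx)
    obtain ⟨g, hg⟩ := exists_ord_gl (V := Fin n → F) h0 ((Nat.le_of_dvd (by omega) ((ord_dvd_iff hq).2
      (((Nat.coprime_primes hr hs).2 hrs).mul_dvd_of_dvd_of_dvd ((ord_dvd_iff hq).1 (hk ▸ h))
        ((ord_dvd_iff hq).1 hl.symm.dvd)))).trans (hl ▸ h1))
    have h2 := split_ord hr hs hg
    have h3 := split_ord hs hr (hg.trans (mul_comm _ _))
    have h4 := pe_of_pow hr rd h2.1 h2.2
    have h5 := pe_of_pow hs sd h3.1 h3.2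
    exact ⟨_, h4.1, _, h5.1, h4.2, h5.2, Commute.pow_pow_self _ _ _⟩
  obtain ⟨c, h4, h5⟩ := h1.exists_pow hr rd
  obtain ⟨d, h6, h7⟩ := h2.exists_pow hs sd
  have h8 := pair_ord hr hs hrs (commute_scE_mul h3 c d) h4 h5 h6 h7
  generalize scE _ c * g * (scE _ d * u) = x at h8
  obtain ⟨a, a1, a2, a3, -⟩ := exists_ro_dvd hr h0 (h8 ▸ pow_orderOf_eq_one x) (split_ord hr hs h8).2
  rw [mul_comm] at h8 h0
  obtain ⟨b, b1, b2, b3, -⟩ := exists_ro_dvd hs h0 (h8 ▸ pow_orderOf_eq_one x) (split_ord hs hr h8).2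
  have a4 := hk ▸ ord_dvd_deg (monic_ed _ a a1) a2 (coeff_ed_ne x a a1) a3
  obtain ⟨j, b4⟩ := hl ▸ ord_dvd_deg (monic_ed _ b b1) b2 (coeff_ed_ne x b b1) b3
  have h9 := sum_deg_le (T := {a, b}) (f := x.toLinearMap) (by simp [a1, b1])
  have b5 := b2.natDegree_pos
  rw [hV] at h9
  by_cases e : a = b
  · subst e
    rcases j with _ | _ | j
    · omega
    · exact H.2 (by simpa [b4] using a4)
    · simp [b4, mul_add] at h9; omega
  · rw [Finset.sum_pair e] at h9
    have := Nat.le_of_dvd a2.natDegree_pos a4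
    have := Nat.le_of_dvd b5 ⟨j, b4⟩
    omega

end Cfsg.Agent.S2468
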