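import Cfsg.Statements.S2469
import Cfsg.Agent.H5.El3

set_option autoImplicit false
open Cfsg

namespace Cfsg.Agent.S2469

open CfsgH5 Pointwise Module Polynomial

/-- Adjacency of two odd primes in the prime graph of PSp(2n,q): let F be a finite field of characteristic p with q elements, n ≥ 2 with PSp(2n,F) simple, and let r ≠ s be odd primes different from p dividing the order of PSp(2n,F). Let k, l be the multiplicative orders of q modulo r and s, put η(m) = m for odd m and η(m) = m/2 for even m, and suppose η(k) ≤ η(l). Then PSp(2n,F) has NO element of order r·s if and only if η(k) + η(l) > n and l/k is not an odd integer. -/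
theorem result {F : Type*} [Field F] [Fintype F] (p : ℕ) [Fact p.Prime] [CharP F p] (n : ℕ) (hn : 2 ≤ n) (hsmall : n = 2 → 3 ≤ Fintype.card F)
    (r s : ℕ) (hr : r.Prime) (hs : s.Prime) (hr2 : r ≠ 2) (hs2 : s ≠ 2) (hrp : r ≠ p) (hsp : s ≠ p) (hrs : r ≠ s)
    (hrG : r ∣ Nat.card (Cfsg.PSp n F)) (hsG : s ∣ Nat.card (Cfsg.PSp n F))
    (k l ηk ηl : ℕ) (hk : k = orderOf ((Fintype.card F : ℕ) : ZMod r)) (hl : l = orderOf ((Fintype.card F : ℕ) : ZMod s))
    (hηk : (Odd k ∧ ηk = k) ∨ (Even k ∧ 2 * ηk = k)) (hηl : (Odd l ∧ ηl = l) ∨ (Even l ∧ 2 * ηl = l)) (hkl : ηk ≤ ηl) :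
    (r * s ∉ Set.range (orderOf : Cfsg.PSp n F → ℕ)) ↔ (n < ηk + ηl ∧ ¬ ∃ t : ℕ, Odd t ∧ l = k * t) := by
  classical
  haveI := Fact.mk hr
  haveI := Fact.mk hs
  have hV : finrank F (Fin n ⊕ Fin n → F) = 2 * n := by simp [two_mul]
  have hq : 0 < Fintype.card F := Fintype.card_pos
  have r0 := cast_ne_of_ne (F := F) p hr hrp
  have s0 := cast_ne_of_ne (F := F) p hs hsp
  have h0 : ((r * s : ℕ) : F) ≠ 0 := by simp [r0, s0]
  have k0 : 0 < k := hk ▸ (ord_pos hr r0).1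
  have l0 : 0 < l := hl ▸ (ord_pos hs s0).1
  have hS := spForm_nondeg (F := F) n
  have r2 := (Nat.coprime_primes Nat.prime_two hr).2 hr2.symm
  have s2 := (Nat.coprime_primes Nat.prime_two hs).2 hs2.symm
  have hc := (Nat.coprime_primes hr hs).2 hrs
  have k1 : k ∣ 2 * ηk := by rcases hηk with ⟨-, rfl⟩ | ⟨-, rfl⟩ <;> simp
  have l1 : l ∣ 2 * ηl := by rcases hηl with ⟨-, rfl⟩ | ⟨-, rfl⟩ <;> simp
  rw [ord_iff (spHom n F) (spHom_inj n) (sp_center (by omega)) (range_spHom n) hr hs hrs]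
  refine ⟨fun H => by_contra fun h => H ?_, fun H ⟨g, hg, u, hu, h1, h2, h3⟩ => ?_⟩
  · rw [not_and_or, not_lt, not_not] at h
    rcases h with h | ⟨t, ht, h⟩
    · obtain ⟨φ, hφ⟩ := exists_sp_split (F := F) (show n = ηk + (n - ηk) by omega)
      obtain ⟨g, h1, h2, h3⟩ := exists_sp_prime (F := F) (m := ηk) hr
        ((((ord_dvd_iff hq).1 (hk ▸ k1)).mul_left _).trans (dvd_card_sp (by omega) le_rfl))
      obtain ⟨u, h4, h5, h6⟩ := exists_sp_prime (F := F) (m := n - ηk) hs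
        ((((ord_dvd_iff hq).1 (hl ▸ l1)).mul_left _).trans (dvd_card_sp (by omega) (by omega)))
      exact ⟨_, pH_mem (x := (g, 1)) hφ h1 (one_mem _), _, pH_mem (x := (1, u)) hφ (one_mem _) h4,
        pe_pH_left h2 h3 (by simp; omega), pe_pH_right h5 h6 (by simp; omega), commute_pH _ _⟩
    obtain ⟨j, h1, h2, h3⟩ := ord_of_dvd_sp hs s0 (hsG.trans (Subgroup.card_quotient_dvd_card _))
    rw [← hl] at h3
    have h4 : ηl ≤ j := by
      rcases hηl with ⟨h4, rfl⟩ | ⟨-, rfl⟩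
      · exact Nat.le_of_dvd h1 ((Nat.coprime_two_right.2 h4).dvd_of_dvd_mul_left h3)
      · have := Nat.le_of_dvd (by omega) h3; omega
    obtain ⟨g, h5, hg⟩ := exists_ord_sp hS (j := ηl) h0 (fun e => hr2 ((Nat.prime_dvd_prime_iff_eq hr
      Nat.prime_two).1 ((Dvd.intro _ rfl).trans e))) (by omega) (by omega) (by
        rcases hηl with ⟨h4, rfl⟩ | ⟨h4, e⟩
        · exact .inl (hc.mul_dvd_of_dvd_of_dvd ((ord_dvd_iff hq).1 (hk ▸ Dvd.intro _ h.symm))
            ((ord_dvd_iff hq).1 hl.symm.dvd))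
        rcases hηk with ⟨h5, rfl⟩ | ⟨-, e'⟩
        · exact absurd (h ▸ h5.mul ht) (Nat.not_odd_iff_even.2 h4)
        refine .inr (hc.mul_dvd_of_dvd_of_dvd ?_ ?_) <;> rw [← ZMod.natCast_eq_zero_iff] <;> push_cast
        · rw [show ηl = ηk * t by rw [← e', mul_assoc] at h; omega, pow_mul,
            zmod_half (hk.symm.trans e'.symm) (by omega), ht.neg_one_pow, neg_add_cancel]
        · rw [zmod_half (hl.symm.trans e.symm) (by omega), neg_add_cancel])
    have h6 := split_ord hr hs hg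
    have h7 := split_ord hs hr (hg.trans (mul_comm _ _))
    exact ⟨_, pow_mem h5 s, _, pow_mem h5 r, pe_of_cop h6.1 h6.2 (by omega)
      (fun c e => sp_scE hS (by omega) c (e ▸ pow_mem h5 s)) r2.symm, pe_of_cop h7.1 h7.2 (by omega)
      (fun c e => sp_scE hS (by omega) c (e ▸ pow_mem h5 r)) s2.symm, Commute.pow_pow_self _ _ _⟩
  have h8 := pair_ord hr hs hrs (h3.pow_pow 2 2) (h1.pow_fix hg (sp_scE hS (by omega)))
    (h1.pow hr.one_lt r2).ne_one (h2.pow_fix hu (sp_scE hS (by omega))) (h2.pow hs.one_lt s2).ne_one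
  have hx := mul_mem (pow_mem hg 2) (pow_mem hu 2)
  generalize g ^ 2 * u ^ 2 = x at h8 hx
  obtain ⟨a, a1, a2, a3, -⟩ := exists_ro_dvd hr h0 (h8 ▸ pow_orderOf_eq_one x) (split_ord hr hs h8).2
  rw [mul_comm] at h8 h0
  obtain ⟨b, b1, b2, b3, -⟩ := exists_ro_dvd hs h0 (h8 ▸ pow_orderOf_eq_one x) (split_ord hs hr h8).2
  have hm : ∀ a ∈ ed x.toLinearMap, du (RingHom.id F) a ∈ ed x.toLinearMap := fun a ha =>
    hS.ed_du hx ▸ Multiset.mem_map_of_mem _ ha
  have hj : ∀ a ∈ ed x.toLinearMap, Irreducible a → du (RingHom.id F) a = a → ∃ j, ∀ r, r ∣ ro a →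
      (Fintype.card F : ZMod r) ^ j = -1 := fun a h1 h2 h3 => by
    obtain ⟨j, hj⟩ := (du_iff_ro p (k := 0) (fun _ => rfl) (by simp) (monic_ed _ a h1) h2
      (coeff_ed_ne x a h1)).1 h3
    exact ⟨j, fun r hr => by
      simpa [eq_neg_iff_add_eq_zero] using (ZMod.natCast_eq_zero_iff _ r).2 (hr.trans hj)⟩
  have key : ∀ r k η a, r.Prime → r ≠ 2 → k = orderOf (Fintype.card F : ZMod r) →
      (Odd k ∧ η = k) ∨ (Even k ∧ 2 * η = k) → a ∈ ed x.toLinearMap → Irreducible a → r ∣ ro a →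
      2 * η ≤ ∑ b ∈ ({a, du (RingHom.id F) a} : Finset F[X]), b.natDegree := fun r k η a hr hr2 hk hη a1 a2 a3 => by
    have h1 := Nat.le_of_dvd a2.natDegree_pos (hk ▸ ord_dvd_deg (monic_ed _ a a1) a2 (coeff_ed_ne x a a1) a3)
    by_cases e : du (RingHom.id F) a = a
    · obtain ⟨j, hj⟩ := hj a a1 a2 e
      obtain ⟨i, h2, -⟩ := zmod_neg_dvd hr hr2 (hj r a3)
      simp only [e, Finset.pair_eq_singleton, Finset.sum_singleton]
      rcases hη with ⟨⟨c, h3⟩, -⟩ | h3 <;> omega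
    · rw [Finset.sum_pair (Ne.symm e), natDegree_du (coeff_ed_ne x a a1)]
      omega
  by_cases e : r ∣ ro b
  · have a4 := hk ▸ ord_dvd_deg (monic_ed _ b b1) b2 (coeff_ed_ne x b b1) e
    obtain ⟨i, b4⟩ := hl ▸ ord_dvd_deg (monic_ed _ b b1) b2 (coeff_ed_ne x b b1) b3
    have b5 := b2.natDegree_pos
    have h9 := sum_deg_le (T := {b, du (RingHom.id F) b}) (f := x.toLinearMap) (by simp [hm, b1])
    rw [hV] at h9
    by_cases e' : du (RingHom.id F) b = b
    · obtain ⟨j, hj⟩ := hj b b1 b2 e'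
      obtain ⟨c, h10, -⟩ := zmod_neg_dvd hr hr2 (hj r e)
      obtain ⟨d, h11, h12⟩ := zmod_neg_dvd hs hs2 (hj s b3)
      simp only [e', Finset.pair_eq_singleton, Finset.sum_singleton] at h9
      have h13 : 2 * ηl = l := by rcases hηl with ⟨⟨c, h3⟩, -⟩ | h3 <;> omega
      rcases i with _ | _ | i
      · omega
      · obtain ⟨t, ht⟩ : k ∣ l := by simpa [b4] using a4
        refine H.2 ⟨t, Nat.not_even_iff_odd.1 fun ⟨t', h14⟩ => ?_, ht⟩
        haveI : Fact (2 < r) := ⟨hr.two_le.lt_of_ne' hr2⟩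
        refine ZMod.neg_one_ne_one ((hj r e).symm.trans (orderOf_dvd_iff_pow_eq_one.1 (hk ▸
          Dvd.dvd.trans ⟨t', ?_⟩ h12)))
        rw [h14, mul_add] at ht; omega
      · simp [b4, mul_add] at h9; omega
    rw [Finset.sum_pair (Ne.symm e'), natDegree_du (coeff_ed_ne x b b1), b4] at h9
    rcases i with _ | _ | i
    · omega
    · obtain ⟨t, ht⟩ : k ∣ l := by simpa [b4] using a4
      rcases hηl with ⟨h10, -⟩ | h10
      · exact H.2 ⟨t, Odd.of_dvd_nat h10 (Dvd.intro_left _ ht.symm), ht⟩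
      · omega
    · simp [mul_add] at h9; omega
  have h9 := sum_deg_le (T := {a, du (RingHom.id F) a} ∪ {b, du (RingHom.id F) b}) (f := x.toLinearMap)
    (by simp [hm, b1, a1])
  have a5 := ro_du (σ := RingHom.id F) (fun _ => rfl) (monic_ed _ a a1) (coeff_ed_ne x a a1)
  have b5 := ro_du (σ := RingHom.id F) (fun _ => rfl) (monic_ed _ b b1) (coeff_ed_ne x b b1)
  rw [Finset.sum_union (Finset.disjoint_left.2 fun c h1 h2 => e (by
    simp only [Finset.mem_insert, Finset.mem_singleton] at h1 h2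
    have h3 : ro c = ro a := by rcases h1 with rfl | rfl <;> simp [a5]
    have h4 : ro c = ro b := by rcases h2 with rfl | rfl <;> simp [b5]
    rwa [← h4, h3])), hV] at h9
  have := key r k ηk a hr hr2 hk hηk a1 a2 a3
  have := key s l ηl b hs hs2 hl hηl b1 b2 b3
  omega

end Cfsg.Agent.S2469
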