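import Cfsg.Statements.S2472
import Cfsg.Agent.H5.El3

set_option autoImplicit false
open Cfsg

namespace Cfsg.Agent.S2472

open CfsgH5 Pointwise Module Polynomial

/-- Adjacency of a prime and the characteristic in the prime graph of PSp(2n,q): let F be a finite field of characteristic p with q elements, n ≥ 2 with PSp(2n,F) simple, and let r ≠ p be an odd prime dividing the order of PSp(2n,F), with k the multiplicative order of q modulo r and η(k) = k for odd k, k/2 for even k. Then PSp(2n,F) has NO element of order r·p if and only if η(k) > n − 1. -/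
theorem result {F : Type*} [Field F] [Fintype F] (p : ℕ) [Fact p.Prime] [CharP F p] (n : ℕ) (hn : 2 ≤ n) (hsmall : n = 2 → 3 ≤ Fintype.card F)
    (r : ℕ) (hr : r.Prime) (hr2 : r ≠ 2) (hrp : r ≠ p) (hrG : r ∣ Nat.card (Cfsg.PSp n F))
    (k ηk : ℕ) (hk : k = orderOf ((Fintype.card F : ℕ) : ZMod r)) (hηk : (Odd k ∧ ηk = k) ∨ (Even k ∧ 2 * ηk = k)) :
    (r * p ∉ Set.range (orderOf : Cfsg.PSp n F → ℕ)) ↔ n - 1 < ηk := by
  classical
  have hp : p.Prime := Fact.out
  have hV : finrank F (Fin n ⊕ Fin n → F) = 2 * n := by simp [two_mul]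
  have h0 := cast_ne_of_ne (F := F) p hr hrp
  have k0 : 0 < k := hk ▸ (ord_pos hr h0).1
  have hS := spForm_nondeg (F := F) n
  rw [ord_iff (spHom n F) (spHom_inj n) (sp_center (by omega)) (range_spHom n) hr hp hrp]
  refine ⟨fun H => by_contra fun h => H ?_, fun H ⟨g, hg, u, hu, h1, h2, h3⟩ => ?_⟩
  · obtain ⟨φ, hφ⟩ := exists_sp_split (F := F) (show n = n - 1 + 1 by omega)
    obtain ⟨u, h1, h2, h3⟩ := exists_sp_prime (F := F) (m := 1) hp
      (((p_dvd_card p).mul_right _).trans (dvd_card_sp le_rfl le_rfl))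
    obtain ⟨g, h4, h5, h6⟩ := exists_sp_prime (F := F) (m := n - 1) hr
      ((((ord_dvd_iff Fintype.card_pos).1 (hk ▸ by
        rcases hηk with ⟨-, rfl⟩ | ⟨-, rfl⟩ <;> simp)).mul_left _).trans (dvd_card_sp (j := ηk) (by omega) (by omega)))
    exact ⟨_, pH_mem (x := (g, 1)) hφ h4 (one_mem _), _, pH_mem (x := (1, u)) hφ (one_mem _) h1,
      pe_pH_left h5 h6 (by simp), pe_pH_right h2 h3 (by simp; omega), commute_pH _ _⟩
  obtain ⟨m, e, h6⟩ := exists_cy hr h0 (h1.pow_fix hg (sp_scE hS (by omega)))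
  have h5 := (h1.pow hr.one_lt ((Nat.coprime_primes Nat.prime_two hr).2 hr2.symm)).ne_one
  have h7 := h6.dim hr h0
  have h8 := hS.ed1_du (pow_mem hg 2)
  rw [h6.ed1_eq hr h0] at h8
  rw [← hk, hV] at h7
  have key : ∀ j a, Multiset.replicate (j + 1) a ≤ m → 2 * ηk * (j + 1) ≤ k * m.card := fun j a h => by
    rcases hηk with ⟨h9, rfl⟩ | ⟨-, rfl⟩
    · have := Nat.mul_le_mul_left ηk (rep_pair_le h8 (mt (du_id_iff p (fun _ => rfl) hr hr2 h0 (h6.mem a
        (Multiset.mem_of_le h (by simp)))).1 (not_not.2 (hk ▸ h9))) h)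
      linarith
    · simpa using Nat.mul_le_mul_left (2 * ηk) (Multiset.card_le_card h)
  rcases h6.of_pe p hr h0 h2 (h3.pow_left 2) with h | ⟨a, h⟩
  · obtain ⟨a, ha⟩ := Multiset.card_pos_iff_exists_mem.1
      (Nat.pos_of_ne_zero (mt (h6.eq_one_iff hr h0).2 h5))
    have := key 0 a (by simpa)
    omega
  · have := key 1 a h
    omega

end Cfsg.Agent.S2472
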