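import Cfsg.Statements.S2474
import Cfsg.Agent.H5.El21

set_option autoImplicit false
open Cfsg

namespace Cfsg.Agent.S2474

open CfsgH5 Pointwise Module Polynomial

/-- For q odd and n ≥ 3 the simple groups PΩ(2n+1,q) and PSp(2n,q) (which have the same order but different sets of element orders) have the same prime graph: for all distinct primes r, s, one of them has an element of order r·s if and only if the other does. -/
theorem result {F : Type*} [Field F] [Fintype F] (hodd : Odd (Fintype.card F)) (n : ℕ) (hn : 3 ≤ n) (r s : ℕ) (hr : r.Prime) (hs : s.Prime) (hrs : r ≠ s) :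
    (r * s ∈ Set.range (orderOf : Cfsg.POmega F (Cfsg.quadFormOdd n F) → ℕ)) ↔ (r * s ∈ Set.range (orderOf : Cfsg.PSp n F → ℕ)) := by
  classical
  obtain ⟨p, _⟩ := CharP.exists F
  haveI hp := Fact.mk (CharP.char_is_prime F p)
  have h2 : (2 : F) ≠ 0 := fun c => by
    have := (Nat.prime_dvd_prime_iff_eq hp.out Nat.prime_two).1 ((CharP.cast_eq_zero_iff F p 2).1 c)
    subst this
    exact hodd.not_two_dvd_nat (p_dvd_card 2)
  have hS := oddForm_nondeg (F := F) n h2
  have hP := spForm_nondeg (F := F) n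
  have hV : finrank F (Unit ⊕ (Fin n ⊕ Fin n) → F) = 2 * n + 1 := by simp; omega
  have hW : finrank F (Fin n ⊕ Fin n → F) = 2 * n := by simp; omega
  rw [po_range' (spHom n F) (sp_center (by omega)) (range_spHom n), om_range (oddForm_Q n) hS (by omega) hV]
  have H : ∀ s : ℕ, s.Prime → s ≠ 2 → ((∃ g ∈ (oddForm n F).om, 2 * s ∣ orderOf g) ↔ ∃ g ∈ (spForm n F).isom, 2 * s ∣ po g) :=
    fun s a1 a2 => by
      by_cases c : s = p
      · subst c
        exact iff_of_true (hS.o_two_p s h2 hV (by omega)) (hP.sp_two_p s h2 hW (by omega))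
      · have h0 : (s : F) ≠ 0 := fun e => c ((Nat.prime_dvd_prime_iff_eq hp.out a1).1 ((CharP.cast_eq_zero_iff F p s).1 e)).symm
        rw [hS.o_two_iff hodd h2 hV (by omega) a1 a2 h0, hP.sp_two_iff hodd h2 hW (by omega) a1 a2 h0]
  by_cases c : r = 2
  · subst c; exact H s hs hrs.symm
  by_cases c' : s = 2
  · subst c'; rw [mul_comm]; exact H r hr c
  exact hS.odd_iff hP hodd h2 hV hW (by omega) ((hr.odd_of_ne_two c).mul (hs.odd_of_ne_two c'))

end Cfsg.Agent.S2474
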