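import Cfsg.Statements.S2476
import Cfsg.Agent.H5.El19

set_option autoImplicit false
open Cfsg

namespace Cfsg.Agent.S2476

open CfsgH5 Pointwise Module Polynomial

/-- The set of element orders of PSL(3,q): let F be a finite field of characteristic p with q elements and d = gcd(3, q − 1). The orders of elements of PSL(3,F) are exactly the divisors of (q² + q + 1)/d, of (q² − 1)/d, of q − 1, of p(q − 1)/d, and, when p = 2, of 4. -/
theorem result {F : Type*} [Field F] [Fintype F] (p : ℕ) [Fact p.Prime] [CharP F p] :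
    Set.range (orderOf : Matrix.ProjectiveSpecialLinearGroup (Fin 3) F → ℕ) =
      {m : ℕ | m ∣ (Fintype.card F ^ 2 + Fintype.card F + 1) / Nat.gcd 3 (Fintype.card F - 1) ∨
        m ∣ (Fintype.card F ^ 2 - 1) / Nat.gcd 3 (Fintype.card F - 1) ∨ m ∣ Fintype.card F - 1 ∨
        m ∣ p * (Fintype.card F - 1) / Nat.gcd 3 (Fintype.card F - 1) ∨ (p = 2 ∧ m ∣ 4)} := by
  classical
  have hV : finrank F (Fin 3 → F) = 3 := by simp
  obtain ⟨k, hk⟩ : ∃ k, Fintype.card F = k + 1 := ⟨_, (Nat.succ_pred_eq_of_pos Fintype.card_pos).symm⟩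
  have hc : ∀ c : F, c ≠ 0 → c ^ (Fintype.card F - 1) = 1 := FiniteField.pow_card_sub_one_eq_one
  have hu : ∀ c : Fˣ, c ^ (Fintype.card F - 1) = 1 := fun c => Units.ext (by simpa using hc c c.ne_zero)
  have h1 : Nat.gcd 3 (Fintype.card F - 1) ∣ Fintype.card F ^ 2 + Fintype.card F + 1 := by
    rw [hk, show (k + 1) ^ 2 + (k + 1) + 1 = 3 + k * (k + 3) by ring]
    exact dvd_add (Nat.gcd_dvd_left _ _) ((Nat.gcd_dvd_right _ _).mul_right _)
  have h2 : Fintype.card F ^ 2 - 1 = (Fintype.card F + 1) * (Fintype.card F - 1) := Nat.sq_sub_sq _ 1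
  have h3 : ∑ i ∈ Finset.range 3, Fintype.card F ^ i = Fintype.card F ^ 2 + Fintype.card F + 1 := by
    simp [Finset.sum_range_succ]; ring
  ext m
  rw [po_range' (slHom _ F) sl_center range_slHom, Set.mem_ofPred_eq]
  constructor
  · rintro ⟨g, hg, hm⟩
    have a1 := (det_ed _).symm.trans (mem_slSub.1 hg)
    have a0 := coeff_ed_ne g
    rcases ed_three (fun _ => pp_ed) ((dg0_ed g.toLinearMap).trans hV) with ⟨a, e, b1, b2, b3⟩ | ⟨c, e⟩ | ⟨c, t, e, b1, b2⟩
    · refine .inl (hm.trans (po_up1 e b2 (ro_dvd.2 ?_) h1 (Nat.gcd_dvd_right _ _)))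
      simpa [b3, h3, show nu a = 1 by simpa [e] using a1] using dvd_norm b1 b2 1
    · by_cases hp : p = 2
      · exact .inr (.inr (.inr (.inr ⟨hp, hm.trans (by simpa [hp] using po_up5 p (i := 2) e (by simp [hp]))⟩)))
      · refine .inr (.inr (.inr (.inl (hm.trans ((po_up5 p (i := 1) e (by
          have := (Fact.out : p.Prime).two_le; simp; omega)).trans ?_)))))
        rw [Nat.mul_div_assoc p (Nat.gcd_dvd_right _ _)]; simp
    have c0 : c ≠ 0 := lin_ne1 (a0 _ (by simp [e]))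
    rcases ed_two b1 b2 with ⟨a, rfl, c1, c2, c3⟩ | ⟨c', rfl⟩ | ⟨c', c'', rfl⟩
    · refine .inr (.inl (hm.trans ?_))
      have d0 : c * nu a = 1 := by simpa [e, nu_lin] using a1
      have d1 := dvd_sub_pow (dvd_norm c1 c2 1) ((Fintype.card F - 1) / Nat.gcd 3 (Fintype.card F - 1))
      have d2 := right_ne_zero_of_mul_eq_one d0
      obtain ⟨j, hj⟩ := dvd_mul_div_gcd 3 (Fintype.card F - 1)
      rw [h2, Nat.mul_div_assoc _ (Nat.gcd_dvd_right _ _)]
      generalize (Fintype.card F - 1) / Nat.gcd 3 (Fintype.card F - 1) = i at d1 hj ⊢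
      refine po_ed.2 ⟨.mk0 (nu a ^ i) (pow_ne_zero _ d2), ?_⟩
      have d3 : (c ^ i) ^ 3 = 1 := by rw [← pow_mul, hj, pow_mul, hc c c0, one_pow]
      have d4 : c ^ i * nu a ^ i = 1 := by rw [← mul_pow, d0, one_pow]
      simp only [e, Multiset.mem_add, Multiset.mem_singleton, or_imp, forall_and, forall_eq, lin_dvd, Units.val_mk0]
      refine ⟨?_, by simpa [c3, Finset.sum_range_succ, add_comm] using d1⟩
      rw [mul_comm, pow_mul, pow_succ, FiniteField.pow_card]
      linear_combination nu a ^ i * d3 - c ^ i * c ^ i * d4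
    · exact .inr (.inr (.inr (.inl (hm.trans (po_up4 p hg e (hc _ (lin_ne two_pos (a0 _ (by simp [e])))))))))
    · refine .inr (.inr (.inl (hm.trans (po_ed.2 ⟨1, fun a ha => ?_⟩))))
      obtain ⟨x, rfl⟩ : ∃ x, a = X - C x := by
        simp only [e, Multiset.mem_add, Multiset.mem_singleton] at ha
        rcases ha with rfl | rfl | rfl <;> exact ⟨_, rfl⟩
      exact lin_dvd.2 (hc x (lin_ne1 (a0 _ ha)))
  obtain ⟨ζ, hζ⟩ := exists_orderOf_field (F := F) dvd_rfl
  obtain ⟨⟨y, y1, y2⟩, z, z1, z2⟩ := low34 p le_rfl hV (ζ := ζ) (fun g _ l _ => hζ ▸ hu l) (by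
    rw [hζ, Ne, CharP.cast_eq_zero_iff F p]; exact not_dvd_card_sub p) fun s a b c => sl_ex (fun x hx => by
      obtain ⟨c, k, -, h, rfl⟩ := a x hx; exact ⟨_, k, monic_X_sub_C _, irreducible_X_sub_C _, h, rfl⟩) (fun x hx => by
        obtain ⟨c, k, -, h, rfl⟩ := a x hx; simp [coeff_zero_eq_eval_zero]) (b.trans hV.symm) c
  rintro (h | h | h | h | ⟨rfl, h⟩)
  · obtain ⟨g, a, b⟩ := sl_singer (F := F) (V := Fin 3 → F) (by omega)
    exact ⟨g, a, h.trans (po_low a (fun l _ => hu l) hV three_pos (by rw [b, hV, h3]) h1)⟩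
  · obtain ⟨a, a1, a2, a3, a4, a5⟩ := exists_ro (F := F) (N := Fintype.card F ^ 2 - 1) (by
      rw [Nat.cast_sub (Nat.one_le_pow _ _ Fintype.card_pos)]; simp [FiniteField.cast_card_eq_zero])
    obtain ⟨j, hj⟩ : a.natDegree ∣ 2 := a5 ▸ (ord_dvd_iff Fintype.card_pos).2 dvd_rfl
    have a6 : nu a ≠ 0 := by simpa [nu] using a3
    obtain ⟨g, b1, b2⟩ := sl_ex (V := Fin 3 → F) (s := .replicate j a + {X - C (nu a ^ j)⁻¹}) (by
      simp +contextual [Multiset.mem_replicate, or_imp, pp_of_irr a1 a2, pp_lin, -map_inv₀]) (by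
        simp +contextual [Multiset.mem_replicate, or_imp, a3, a6]) (by
          rw [dg0_add, dg0_rep, mul_comm, ← hj, hV]; simp [dg0]) (by simp [nu_lin, a6])
    exact ⟨g, b1, h.trans (po_low b1 (fun l _ => hu l) hV three_pos (a4 ▸ ro_dvd_ord (b := a) (by
      simp [b2, Multiset.mem_replicate, show j ≠ 0 by rintro rfl; omega]) dvd_rfl)
        (h2 ▸ (Nat.gcd_dvd_right _ _).mul_left _))⟩
  · exact ⟨y, y1, h.trans (hζ ▸ y2)⟩
  · exact ⟨z, z1, h.trans (hζ ▸ z2)⟩
  · obtain ⟨u, a, b⟩ := exists_jt (F := F) (V := Fin 3 → F) (m := {3}) (by simp) (by simp)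
    obtain ⟨i, c, d⟩ := po_unip 2 (by omega) a
    have := d 3 (by simp [b])
    exact ⟨u, det_unip a, h.trans (c ▸ pow_dvd_pow 2 (show 2 ≤ i by
      by_contra! e; interval_cases i <;> omega))⟩

end Cfsg.Agent.S2476
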