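import Cfsg.Statements.S2485
import Cfsg.Agent.H1.PSL2e
import Cfsg.Agent.H5.LinMat

set_option autoImplicit false
open scoped Pointwise
open Cfsg

namespace Cfsg.Agent.S2485

/-- Let q = 2^k − 1 ≥ 7 be a prime and let G = PGL(2,q), the general linear group of degree 2 over the field with q elements modulo its centre. Then any two Sylow 2-subgroups of G have a non-trivial intersection: for a Sylow 2-subgroup H and every x ∈ G, H ∩ H^x ≠ 1. -/
theorem result {q k : ℕ} [Fact q.Prime] (hk : q + 1 = 2 ^ k) (hq : 7 ≤ q)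
    (H : Sylow 2 (GL (Fin 2) (ZMod q) ⧸ Subgroup.center (GL (Fin 2) (ZMod q))))
    (x : GL (Fin 2) (ZMod q) ⧸ Subgroup.center (GL (Fin 2) (ZMod q))) :
    (H : Subgroup (GL (Fin 2) (ZMod q) ⧸ Subgroup.center (GL (Fin 2) (ZMod q)))) ⊓ MulAut.conj x • (H : Subgroup _) ≠ ⊥ := by
  open Subgroup CfsgH1 CfsgH1.L2 CfsgH2 in
  classical
  obtain ⟨w, hw⟩ := exists_ell (F := ZMod q)
  set π := QuotientGroup.mk' (center (G2 (ZMod q)))
  have c := card_comap_of_surjective π (QuotientGroup.mk'_surjective _) ((centralizer {w}).map π)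
  rw [comap_map_eq_self ((QuotientGroup.ker_mk' _).le.trans (center_le_centralizer _)), hw.card_cent,
    QuotientGroup.ker_mk', CfsgH5.card_center_GL, q_sq_sub, mul_left_inj' q_sub_pos.ne', ZMod.card, hk] at c
  have p : IsPGroup 2 ((normalizer (centralizer {w} : Subgroup _)).map π) := by
    rintro ⟨_, n, hn, rfl⟩
    refine ⟨k + 1, Subtype.ext ?_⟩
    have := orderOf_dvd_natCard _ (mem_map_of_mem π (Ss.sq_mem (.inl hw) hn))
    rw [← c, orderOf_dvd_iff_pow_eq_one, map_mul, ← sq, ← pow_mul, ← pow_succ'] at this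
    exact this
  obtain ⟨y, hy⟩ := exists_cj_le_sylow H p
  obtain ⟨y, rfl⟩ : ∃ z, π z = y := QuotientGroup.mk'_surjective _ y
  obtain ⟨x, rfl⟩ : ∃ z, π z = x := QuotientGroup.mk'_surjective _ x
  have key : ∀ g m, m ∈ normalizer (centralizer {g * w * g⁻¹} : Subgroup _) → π g⁻¹ * π m * π g ∈
      (normalizer (centralizer {w} : Subgroup _)).map π := fun g m h => by
    rw [← cj_centralizer_singleton, ← cj_normalizer, mem_cj] at h
    simpa using mem_map_of_mem π h
  obtain ⟨m, h1, h2, h3⟩ := Ell.exists_common (w := y * w * y⁻¹) (v := x * y * w * (x * y)⁻¹)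
    ((ell_cj y).2 hw) (mt (sc_cj (x * y)).1 hw.not_sc)
  refine ne_bot_iff_exists_ne_one.2 ⟨⟨π m, hy (mem_cj.2 (by simpa using key _ _ h2)), ?_⟩, fun k =>
    h1 (mem_centerG.1 ((QuotientGroup.eq_one_iff m).1 (congrArg Subtype.val k)))⟩
  rw [← cj_eq_smul]
  exact mem_cj.2 (hy (mem_cj.2 (by simpa [mul_assoc] using key _ _ h3)))

end Cfsg.Agent.S2485
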