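import Cfsg.Statements.S2486
import Cfsg.Agent.H8.GLB1

set_option autoImplicit false
open scoped Pointwise
open Cfsg

namespace Cfsg.Agent.S2486

open CfsgH8 Subgroup Matrix Equiv
theorem z2 : ∀ x : ZMod 2, x ≠ 0 → x = 1 := by decide
abbrev B (n : ℕ) := PL (ZMod 2) (Fin.val : Fin n → ℕ)
theorem tv_mem {n : ℕ} {i j : Fin n} (h : i ≠ j) : tvG i j h 1 ∈ B n ↔ i < j := by
  rw [mem_PL]
  refine ⟨fun H => lt_of_le_of_ne (not_lt.1 fun k => ?_) h, fun H k l hk => ?_⟩
  · simpa [transvection, h] using H i j k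
  · have : ¬ (i = k ∧ j = l) := by rintro ⟨rfl, rfl⟩; exact lt_asymm H hk
    simp [transvection, this, one_apply_ne (Fin.val_ne_iff.1 hk.ne')]
theorem tv_cj {n : ℕ} (σ : Perm (Fin n)) {i j : Fin n} (h : i ≠ j) :
    tvG (σ i) (σ j) (σ.injective.ne h) 1 * pGL (ZMod 2) σ = pGL _ σ * tvG i j h 1 := by
  ext k l
  obtain ⟨k, rfl⟩ := σ.surjective k
  simp [mul_pmM, pmM_mul, transvection, one_apply, single_apply]
theorem pB (n : ℕ) : IsPGroup 2 (B n) := fun ⟨g, hg⟩ => ⟨n, Subtype.ext (Units.ext (by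
  have u : (g : Matrix (Fin n) (Fin n) (ZMod 2)).BlockTriangular id := fun i j h => hg h
  have d : ∀ i, (g : Matrix (Fin n) (Fin n) (ZMod 2)) i i = 1 := fun i => z2 _
    (Finset.prod_ne_zero_iff.1 ((det_of_upperTriangular u).symm.trans_ne g.det_ne_zero) i (Finset.mem_univ i))
  have c := aeval_self_charpoly (g : Matrix (Fin n) (Fin n) (ZMod 2))
  rw [charpoly_of_upperTriangular _ u] at c
  simp only [d, Finset.prod_const, Finset.card_univ, Fintype.card_fin, map_pow, map_sub, Polynomial.aeval_X, map_one] at c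
  rcases n.eq_zero_or_pos with rfl | h
  · exact Subsingleton.elim _ _
  haveI : Nonempty (Fin n) := ⟨⟨0, h⟩⟩
  have := sub_pow_char_pow_of_commute 2 n (Commute.one_right (g : Matrix (Fin n) (Fin n) (ZMod 2)))
  rw [pow_eq_zero_of_le (n.lt_two_pow_self).le c, one_pow, eq_comm, sub_eq_zero] at this
  simpa using this))⟩
theorem mx {n : ℕ} (P : Subgroup (GL (Fin n) (ZMod 2))) (hP : IsPGroup 2 P) (h : B n ≤ P) : P ≤ B n := by
  haveI := Fact.mk Nat.prime_two
  haveI := hP.isNilpotent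
  refine subgroupOf_eq_top.1 (normalizerCondition_iff_only_full_group_self_normalizing.1 normalizerCondition_of_isNilpotent _ ?_)
  rw [← subgroupOf_normalizer_eq h]
  congr 1
  refine le_antisymm (fun g hg => ?_) le_normalizer
  obtain ⟨p, hp, σ, q, hq, rfl⟩ := bruhat_GL (a := Fin.val) (b := Fin.val) Fin.val_strictMono.monotone Fin.val_strictMono.monotone g
  rw [mul_mem_cancel_right (le_normalizer hq), mul_mem_cancel_left (le_normalizer hp)] at hg
  have : StrictMono σ := fun i j k => (tv_mem (σ.injective.ne k.ne)).1 (by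
    rw [eq_mul_inv_of_mul_eq (tv_cj σ k.ne)]; exact (hg _).1 ((tv_mem k.ne).2 k))
  rw [show σ = 1 from Equiv.ext fun i => this.apply_eq, map_one, mul_one]
  exact mul_mem hp hq
theorem opp {n : ℕ} (a : GL (Fin n) (ZMod 2)) (h : ∀ b ∈ B n, a⁻¹ * b * a ∈ B n → b = 1) :
    ∃ p ∈ B n, ∃ q ∈ B n, a = p * pGL _ Fin.revPerm * q := by
  obtain ⟨p, hp, σ, q, hq, rfl⟩ := bruhat_GL (a := Fin.val) (b := Fin.val) Fin.val_strictMono.monotone Fin.val_strictMono.monotone a
  have : StrictAnti σ := fun i j k => lt_of_le_of_ne (not_lt.1 fun l => by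
    have e := h (p * tvG _ _ l.ne 1 * p⁻¹) (mul_mem (mul_mem hp ((tv_mem _).2 l)) (inv_mem hp)) (by
      rw [eq_mul_inv_of_mul_eq (tv_cj σ k.ne)]
      simpa [mul_assoc] using mul_mem (mul_mem (inv_mem hq) ((tv_mem k.ne).2 k)) hq)
    rw [mul_inv_eq_one, mul_eq_left] at e
    simpa [transvection, l.ne] using congrArg (fun g : GL (Fin n) (ZMod 2) => g.1 (σ i) (σ j)) e) (σ.injective.ne k.ne')
  refine ⟨p, hp, q, hq, ?_⟩
  rw [show σ = Fin.revPerm from Equiv.ext fun i => by simpa using (this.comp Fin.rev_strictAnti).apply_eq (x := i.rev)]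

/-- Let n ≥ 4 and let G be a finite group with a normal subgroup N of index 2 isomorphic to SL(n,2) and with trivial centralizer in G (so G is the extension of the simple group L_n(2) by its inverse-transpose automorphism, its full automorphism group). Then any two Sylow 2-subgroups of G have a non-trivial intersection: for a Sylow 2-subgroup H and every x ∈ G, H ∩ H^x ≠ 1. -/
theorem result {G : Type*} [Group G] [Finite G] {n : ℕ} (hn : 4 ≤ n) (N : Subgroup G) [N.Normal]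
    (e : N ≃* Matrix.SpecialLinearGroup (Fin n) (ZMod 2)) (hidx : N.index = 2)
    (hC : Subgroup.centralizer (N : Set G) = ⊥)
    (H : Sylow 2 G) (x : G) :
    (H : Subgroup G) ⊓ MulAut.conj x • (H : Subgroup G) ≠ ⊥ := by
  haveI := Fact.mk Nat.prime_two
  let φ := (MulEquiv.ofBijective (SpecialLinearGroup.toGL (n := Fin n) (R := ZMod 2)) ⟨SpecialLinearGroup.toGL_injective, fun g =>
    ⟨⟨g, z2 _ g.det_ne_zero⟩, Units.ext rfl⟩⟩).symm.trans e.symm
  let f := N.subtype.comp φ.toMonoidHom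
  have fi : Function.Injective f := Subtype.val_injective.comp φ.injective
  have fs : ∀ y ∈ N, ∃ a, f a = y := fun y hy => ⟨φ.symm ⟨y, hy⟩, by simp [f]⟩
  have fN : ∀ a, f a ∈ N := fun a => (φ a).2
  obtain ⟨K, hK⟩ := ((pB n).map f).exists_le_sylow
  have k1 : ∀ b ∈ B n, f b ∈ K.1 := fun b hb => hK (mem_map_of_mem f hb)
  have k2 : ∀ b, f b ∈ K.1 → b ∈ B n := mx (K.1.comap f) (K.2.comap_of_injective f fi) k1
  obtain ⟨h, hh, hN⟩ : ∃ h ∈ K.1, h ∉ N := by
    by_contra! c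
    exact K.not_dvd_index (hidx.symm.dvd.trans (index_dvd_of_le c))
  obtain ⟨y, rfl⟩ := MulAction.exists_smul_eq G K H
  intro c
  have O : ∀ s ∈ K.1, ∀ r ∈ K.1, ∀ t ∈ K.1, (s * (y⁻¹ * x * y) * r)⁻¹ * t * (s * (y⁻¹ * x * y) * r) ∈ K.1 → t = 1 := fun s hs r hr t ht o => by
    have := (eq_bot_iff_forall _).1 c (y * (s⁻¹ * t * s) * y⁻¹) ⟨?_, ?_⟩
    · simpa [mul_assoc, ← eq_inv_mul_iff_mul_eq, mul_eq_one_iff_eq_inv] using this
    · exact smul_mem_pointwise_smul _ (MulAut.conj y) _ (mul_mem (mul_mem (inv_mem hs) ht) hs)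
    · have := smul_mem_pointwise_smul _ (MulAut.conj x) _ (smul_mem_pointwise_smul _ (MulAut.conj y) _ (mul_mem (mul_mem hr o) (inv_mem hr)))
      exact (show _ = _ by simp [mul_assoc] : MulAut.conj x • MulAut.conj y • (r * ((s * (y⁻¹ * x * y) * r)⁻¹ * t * (s * (y⁻¹ * x * y) * r)) * r⁻¹) =
        y * (s⁻¹ * t * s) * y⁻¹) ▸ this
  obtain ⟨r, hr, a, ha⟩ : ∃ r ∈ K.1, ∃ a, f a = y⁻¹ * x * y * r := by
    by_cases k : y⁻¹ * x * y ∈ N
    · exact ⟨1, one_mem _, fs _ (by simpa using k)⟩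
    · exact ⟨h, hh, fs _ ((mul_mem_iff_of_index_two hidx).2 (iff_of_false k hN))⟩
  obtain ⟨a', ha'⟩ := fs (h * f a * h⁻¹) (‹N.Normal›.conj_mem _ (fN a) _)
  obtain ⟨p, hp, q, hq, e1⟩ := opp a fun b hb o => fi ((O 1 (one_mem _) r hr _ (k1 b hb) (by
    simpa [← ha] using k1 _ o)).trans (map_one f).symm)
  obtain ⟨p', hp', q', hq', e2⟩ := opp a' fun b hb o => fi ((O h hh (r * h⁻¹) (mul_mem hr (inv_mem hh)) _ (k1 b hb) (by
    simpa [ha', ha, mul_assoc] using k1 _ o)).trans (map_one f).symm)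
  have := O 1 (one_mem _) r hr (f (p * p'⁻¹) * h) (mul_mem (k1 _ (mul_mem hp (inv_mem hp'))) hh) (by
    rw [one_mul, ← ha, mul_assoc, mul_assoc, eq_mul_of_mul_inv_eq ha'.symm, ← mul_assoc, ← mul_assoc, ← map_inv, ← map_mul, ← map_mul]
    exact mul_mem (k1 _ (by simpa [e1, e2, mul_assoc] using mul_mem (inv_mem hq) hq')) hh)
  exact hN ((mul_mem_cancel_left (fN _)).1 (this ▸ one_mem N))

end Cfsg.Agent.S2486
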