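import Cfsg.Statements.S2487
import Mathlib
import Cfsg.Agent.H8.TE5

set_option autoImplicit false
open scoped Pointwise
open Cfsg

namespace Cfsg.Agent.S2487

/-- Let m ≥ 4 and let G be the full isometry group of the hyperbolic quadratic form x₁y₁ + ⋯ + x_m y_m on the 2m-dimensional space over the field with 2 elements (the orthogonal group O⁺(2m,2), which contains Ω⁺(2m,2) with index 2). Then any two Sylow 2-subgroups of G have a non-trivial intersection: for a Sylow 2-subgroup H and every x ∈ G, H ∩ H^x ≠ 1. -/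
theorem result {F : Type*} [Field F] [Fintype F] (hF : Fintype.card F = 2) {m : ℕ} (hm : 4 ≤ m)
    (H : Sylow 2 (Cfsg.isometryGroup F (Cfsg.quadFormPlus m F)))
    (x : Cfsg.isometryGroup F (Cfsg.quadFormPlus m F)) :
    (H : Subgroup (Cfsg.isometryGroup F (Cfsg.quadFormPlus m F))) ⊓ MulAut.conj x • (H : Subgroup _) ≠ ⊥ := by
  obtain ⟨l, rfl⟩ : ∃ l, m = l + 1 := ⟨m - 1, by omega⟩
  have := Fact.mk Nat.prime_two
  obtain ⟨S, h1, h2, h3⟩ := CfsgH8.TE.sylow_meet hF (l := l) (by omega)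
  obtain ⟨P, hP⟩ := (h1.comap_subtype (K := Cfsg.isometryGroup F (Cfsg.quadFormPlus (l + 1) F))).exists_le_sylow
  obtain ⟨g, rfl⟩ := MulAction.exists_smul_eq (Cfsg.isometryGroup F (Cfsg.quadFormPlus (l + 1) F)) P H
  obtain ⟨y, h4, h5, h6⟩ := h3 _ (g⁻¹ * x * g).2
  refine (Subgroup.ne_bot_iff_exists_ne_one).2 ⟨⟨g * ⟨y, h2 h4⟩ * g⁻¹, Subgroup.mem_inf.2 ⟨?_, ?_⟩⟩, fun e => h5 ?_⟩
  · exact Subgroup.smul_mem_pointwise_smul _ (MulAut.conj g) _ (hP h4)
  · rw [Subgroup.mem_pointwise_smul_iff_inv_smul_mem, Sylow.coe_subgroup_smul, Subgroup.mem_pointwise_smul_iff_inv_smul_mem]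
    refine hP ?_
    simpa [Subgroup.mem_subgroupOf, mul_assoc] using h6
  · simpa [Subtype.ext_iff] using e

end Cfsg.Agent.S2487
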