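import Cfsg.Statements.S2488
import Cfsg.Agent.H7.Diag
import Cfsg.Agent.H7.Srch
import Cfsg.Agent.H7.Grp
import Cfsg.Agent.H2.PGroup

set_option autoImplicit false
open scoped Pointwise
open Cfsg

namespace Cfsg.Agent.S2488

open CfsgH7 Subgroup Equiv Pointwise

abbrev A := permAct 6 ⟨6, 3, 7⟩ ⟨⟨rfl, by decide⟩, rfl⟩
def L : List (ℕ × List (ℕ × ℕ)) := [(0, [(181777, 181826)]), (1, [(180944, 181336)]), (2, [(174280, 177416)]), (3, [(120968, 146056)])]
def iv (t : ℕ) : Bool := band (bnot (A.F.isOne t)) (force (Act.powT A.F t 2) A.F.isOne)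
def ct (f : ℕ → Bool) : ℕ := A.F.srchSum Fmt.okAll (fun t => Act.b2n (f t)) (A.F.build L) [] A.F.one
theorem c0 : lall A.F.isPerm (Fmt.gens L) = true ∧ A.F.loChk L = true ∧ A.F.hiChk L = true ∧ A.F.size (A.F.build L) = 360 ∧ A.F.srch Fmt.okAll (fun z => bor (bnot (iv z))
  (decide (ct (A.F.comm z) ≤ 8 ∧ ∀ b, ct (fun w => band (iv w) (A.F.isOne (Act.powT A.F (A.F.comp z w) 5) == b)) < 32))) (A.F.build L) [] A.F.one = true := by decide +kernel

theorem a6 (z : alternatingGroup (Fin 6)) (h : orderOf z = 2) : Nat.card (centralizer {z}) ≤ 8 ∧ ∀ b : Prop, {w | orderOf w = 2 ∧ ((z * w) ^ 5 = 1 ↔ b)}.ncard < 32 := by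
  obtain ⟨a1, a2, a3, a4, a5⟩ := c0
  have f := Act.full_clo (A := A) (permAct_valid a1) a2 a3
  rw [Perm.eq_alternatingGroup_of_index_eq_two (Nat.eq_of_mul_eq_mul_left (n := 360) (by decide) (by rw [← a4, ← f.card, card_mul_index, f.card, a4, Nat.card_perm, Nat.card_fin]; rfl) : (A.clo _).index = 2)] at f
  obtain ⟨t, r, e⟩ := f.all a5 z.2
  have i : iv t = true := (r.orderOf_prime_iff 2 Nat.prime_two).1 ((orderOf_coe z).trans h)
  simp only [i, bor_eq, bnot_eq, Bool.not_true, Bool.false_or, decide_eq_true_eq] at e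
  unfold ct at e
  refine ⟨e.1.trans' (le_of_eq ?_), fun b => (e.2 (by classical exact decide b)).trans_le' (le_of_eq ?_)⟩
  · rw [← f.card_filter (Act.prunes_all _) fun g s q => r.comm_iff q]
    exact Nat.card_congr (Equiv.subtypeEquivRight fun g => mem_centralizer_singleton_iff.trans (eq_comm.trans Subtype.ext_iff))
  refine .trans ?_ (f.card_filter (P := fun w => orderOf w = 2 ∧ ((z.1 * w) ^ 5 = 1 ↔ b)) (Act.prunes_all _) fun g s q => by
    rw [q.orderOf_prime_iff 2 Nat.prime_two, (r.mul q).pow_eq_one_iff]; simp only [iv, band_eq, Bool.and_eq_true, beq_iff_eq, Bool.eq_iff_iff (b := decide _), decide_eq_true_eq])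
  exact Nat.card_congr (Equiv.subtypeEquivRight fun g => and_congr (orderOf_coe g ▸ .rfl) (iff_congr Subtype.ext_iff .rfl))

/-- Let G be a finite group with a normal subgroup N of index 4 isomorphic to the alternating group of degree 6 and with trivial centralizer in G (so G is the full automorphism group of A₆). Then any two Sylow 2-subgroups of G have a non-trivial intersection: for a Sylow 2-subgroup H and every x ∈ G, H ∩ H^x ≠ 1. -/
theorem result {G : Type*} [Group G] [Finite G] (N : Subgroup G) [N.Normal]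
    (e : N ≃* alternatingGroup (Fin 6)) (hidx : N.index = 4)
    (hC : Subgroup.centralizer (N : Set G) = ⊥)
    (H : Sylow 2 G) (x : G) :
    (H : Subgroup G) ⊓ MulAut.conj x • (H : Subgroup G) ≠ ⊥ := by
  have n : Nat.card N = 360 := by rw [Nat.card_congr e.toEquiv, nat_card_alternatingGroup, Nat.card_fin]; rfl
  have c : ∀ Q : Sylow 2 G, Nat.card Q = 32 := fun Q => by
    rw [Q.card_eq_multiplicity, ← N.card_mul_index, n, hidx, Nat.factorization_def _ Nat.prime_two]; decide +kernel
  have r : ∀ K : Subgroup G, Nat.card K ≤ Nat.card (K.subgroupOf N) * 4 := fun K => by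
    rw [← (N.subgroupOf K).card_mul_index, ← hidx, ← card_map_of_injective K.subtype_injective, ← card_map_of_injective (K := K.subgroupOf N) N.subtype_injective,
      subgroupOf_map_subtype, subgroupOf_map_subtype, inf_comm]
    exact Nat.mul_le_mul_left _ (Nat.le_of_dvd (by omega) (relIndex_dvd_index_of_normal N K))
  have z : ∀ Q : Sylow 2 G, ∃ z : N, orderOf (e z) = 2 ∧ Q = centralizer {z.1} := fun Q => by
    obtain ⟨z, z1, z2, z3, z4⟩ := CfsgH2.exists_central_of_ne_bot Q.2 (N := Q ⊓ N) inf_le_left ((le_inf le_normalizer le_normalizer_of_normal).trans inf_normalizer_le_normalizer_inf) fun h => by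
      simpa [c, subgroupOf_eq_bot.2 (disjoint_iff.2 h)] using r Q
    have o : orderOf (e ⟨z, z1.2⟩) = 2 := by rw [e.orderOf_eq, orderOf_mk]; exact orderOf_eq_prime z3 z2
    refine ⟨_, o, eq_of_le_of_card_ge (fun g hg => mem_centralizer_singleton_iff.2 (z4 g hg)) ((r _).trans (c Q ▸ Nat.mul_le_mul_right 4 ((a6 _ o).1.trans' (le_of_eq ?_))))⟩
    exact Nat.card_congr (e.toEquiv.subtypeEquiv fun g => by simp [mem_subgroupOf, mem_centralizer_iff, ← map_mul, Subtype.ext_iff (p := (· ∈ N))])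
  obtain ⟨u, u1, u2⟩ := z H
  obtain ⟨v, v1, v2⟩ := z (x • H)
  refine fun h => ((a6 _ u1).2 ((u * v) ^ 5 = 1)).not_ge (c H ▸ Nat.card_le_card_of_injective (fun g : H => ⟨e (MulAut.conjNormal g.1 v), by simpa using v1, ?_⟩) fun g k q => ?_)
  · conv_lhs => rw [← map_mul, ← map_pow, map_eq_one_iff _ e.injective, show u = MulAut.conjNormal g.1 u from Subtype.ext (eq_mul_inv_of_mul_eq (mem_centralizer_singleton_iff.1 (u2.le g.2)).symm),
      ← map_mul, ← map_pow, map_eq_one_iff _ (MulAut.conjNormal g.1).injective]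
  have : (g : G) * v * (g : G)⁻¹ = k * v * (k : G)⁻¹ := by simpa [Subtype.ext_iff (p := (· ∈ N))] using q
  exact Subtype.ext (inv_mul_eq_one.1 (h.le ⟨H.1.mul_mem (H.1.inv_mem g.2) k.2, v2.ge (mem_centralizer_singleton_iff.2 (by
    rw [show (g : G)⁻¹ * k * v = (g : G)⁻¹ * (k * v * (k : G)⁻¹) * k by group, ← this]; group))⟩))

end Cfsg.Agent.S2488
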