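import Cfsg.Statements.S2495
import Cfsg.Agent.H5.El19

set_option autoImplicit false
open Cfsg

namespace Cfsg.Agent.S2495

open CfsgH5 Pointwise Module Polynomial

/-- Let q be an odd prime power, n ≥ 4 even, and L = PSL(n,q). Then L has an element of order q^(n/2) + 1 if and only if the 2-part of n exceeds the 2-part of q − 1. -/
theorem result {F : Type*} [Field F] [Fintype F] {q : ℕ} (hF : Fintype.card F = q) (hodd : Odd q)
    {n : ℕ} (hn : 4 ≤ n) (heven : Even n) :
    (∃ g : Matrix.ProjectiveSpecialLinearGroup (Fin n) F, orderOf g = q ^ (n / 2) + 1) ↔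
      padicValNat 2 (q - 1) < padicValNat 2 n := by
  classical
  subst hF
  obtain ⟨m, rfl⟩ := heven.two_dvd
  rw [Nat.mul_div_cancel_left m two_pos]
  haveI : Nonempty (Fin (2 * m)) := ⟨⟨0, by omega⟩⟩
  have hV : finrank F (Fin (2 * m) → F) = 2 * m := by simp
  have hq : 1 < Fintype.card F := Fintype.one_lt_card
  have hS : ∑ i ∈ Finset.range (2 * m), Fintype.card F ^ i = (Fintype.card F ^ m + 1) *
      ∑ i ∈ Finset.range m, Fintype.card F ^ i := by
    simp only [two_mul, Finset.sum_range_add, pow_add, ← Finset.mul_sum]; ring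
  obtain ⟨h1, h2⟩ := arith_two (A := Fintype.card F ^ m + 1) (Q := Fintype.card F - 1) (m := m)
    (S := ∑ i ∈ Finset.range m, Fintype.card F ^ i) (fun d hd => by
      have := (CfsgH9.dvd_iff_zmod hq 1).1 (by simpa using hd)
      rw [pow_one] at this
      simp [← ZMod.natCast_eq_zero_iff, this]) (by omega) (by omega) hodd.pow.add_one (by simp)
  refine ⟨fun h => ?_, fun h => (po_range' (slHom _ F) sl_center range_slHom).2 ?_⟩
  swap
  · obtain ⟨y, a, b⟩ := sl_singer (F := F) (V := Fin (2 * m) → F) (by omega)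
    refine ⟨y, a, .trans ?_ (po_low a (Q := Fintype.card F - 1) (fun l _ => by rw [← Fintype.card_units, pow_card_eq_one])
      hV (by omega) (by rw [b, hV, hS]) ((h1 h).mul_left _))⟩
    rw [Nat.mul_div_assoc _ (h1 h)]
    exact Dvd.intro _ rfl
  obtain ⟨g, hg, e⟩ := (po_range (slHom _ F) sl_center range_slHom).1 h
  by_contra! c
  obtain ⟨d, d1, d2, d3⟩ := h2 c
  obtain ⟨r, hr, -, -, r1⟩ := exists_ppd hodd (n := 2 * m) (by omega)
  have r2 := (ord_dvd_iff (r := r) (j := m * 2) hq.le).1 (by rw [r1, mul_comm])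
  rw [pow_mul, show _ ^ 2 - 1 = _ from Nat.sq_sub_sq _ 1, hr.dvd_mul] at r2
  obtain ⟨a, a1, a2, a3⟩ := exists_ro_po (g := g) hr (e ▸ r2.resolve_right fun e => by
    have := Nat.le_of_dvd (by omega) (r1 ▸ (ord_dvd_iff hq.le).2 e); omega) (by
      simp [e, FiniteField.cast_card_eq_zero, show m ≠ 0 by omega])
  have a4 := Nat.le_of_dvd a2.natDegree_pos (r1 ▸ ord_dvd_deg (monic_ed _ a a1) a2 (coeff_ed_ne g a a1) a3)
  obtain ⟨t, ht⟩ := Multiset.le_iff_exists_add.1 (Multiset.singleton_le.2 a1)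
  have a5 := (dg0_ed g.toLinearMap).trans hV
  rw [ht, dg0_add, show dg0 {a} = a.natDegree by simp [dg0]] at a5
  rw [eq_zero_of_dg0 (t := t) (fun b hb => pp_ed (by rw [ht]; simp [hb])) (by omega), add_zero] at ht
  refine d3 (e ▸ po_up1 ht a2 (ro_dvd.2 ?_) (e ▸ d1) d2)
  simpa [e, hS, show a.natDegree = 2 * m by omega, show nu a = 1 by
    simpa [ht] using (det_ed _).symm.trans (mem_slSub.1 hg)] using dvd_norm (monic_ed _ a a1) a2 1

end Cfsg.Agent.S2495
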