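import Cfsg.Statements.S2496
import Cfsg.Agent.H5.El19

set_option autoImplicit false
open Cfsg

namespace Cfsg.Agent.S2496

open CfsgH5 Pointwise Module Polynomial

/-- Let q be an odd prime power, n ≥ 4 even, and U = PSU(n,q) (realised over the field with q² elements). Then U has an element of order q^(n/2) + (−1)^(n/2) — that is, q^(n/2) + 1 when n/2 is even and q^(n/2) − 1 when n/2 is odd — if and only if the 2-part of n exceeds the 2-part of q + 1. -/
theorem result {F : Type*} [Field F] [Fintype F] {q : ℕ} (hF : Fintype.card F = q ^ 2) (hodd : Odd q)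
    {n : ℕ} (hn : 4 ≤ n) (heven : Even n) :
    (∃ g : Cfsg.PSU n F q, orderOf g = if Even (n / 2) then q ^ (n / 2) + 1 else q ^ (n / 2) - 1) ↔
      padicValNat 2 (q + 1) < padicValNat 2 n := by
  classical
  obtain ⟨m, rfl⟩ := heven.two_dvd
  rw [Nat.mul_div_cancel_left m two_pos]
  have hV : finrank F (Fin (2 * m) → F) = 2 * m := by simp
  have hq : 1 < q := (Nat.one_lt_pow_iff two_ne_zero).1 (hF ▸ Fintype.one_lt_card)
  have hP := uForm_nondeg hF (2 * m)
  have hq1 := Nat.one_lt_pow (show m ≠ 0 by omega) hq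
  have hq0 : (q : F) = 0 := pow_eq_zero_iff two_ne_zero |>.1 (by rw [← Nat.cast_pow, ← hF, FiniteField.cast_card_eq_zero])
  obtain ⟨r, hr, r1, r2, r3⟩ : ∃ r : ℕ, r.Prime ∧ (r ∣ if Even m then q ^ m + 1 else q ^ m - 1) ∧
      (∀ j, ((q : ZMod r) ^ 2) ^ j = 1 → m ∣ j) ∧ ¬ Odd (orderOf (-(q : ZMod r))) := by
    split_ifs with h
    · obtain ⟨r, hr, -, r1⟩ := exists_ppd' hodd hq (n := 2 * m) (by omega)
      have r2 := (ord_dvd_iff (r := r) (j := m * 2) hq.le).1 (by rw [r1, mul_comm])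
      have r3 : ∀ j, ((q : ZMod r) ^ 2) ^ j = 1 → m ∣ j := fun j hj => Nat.dvd_of_mul_dvd_mul_left two_pos
        (r1 ▸ orderOf_dvd_of_pow_eq_one ((pow_mul _ _ _).trans hj))
      rw [pow_mul, show _ ^ 2 - 1 = _ from Nat.sq_sub_sq _ 1, hr.dvd_mul] at r2
      exact ⟨r, hr, r2.resolve_right fun e => by
        have := Nat.le_of_dvd (by omega) (r1 ▸ (ord_dvd_iff hq.le).2 e); omega, r3, fun e =>
          Nat.not_odd_iff_even.2 h (e.of_dvd_nat (r3 _ (by rw [← neg_sq, pow_right_comm, pow_orderOf_eq_one, one_pow])))⟩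
    · replace h := Nat.not_even_iff_odd.1 h
      obtain ⟨r, hr, r0, r1⟩ := exists_ppd' hodd hq (n := m) (by obtain ⟨k, hk⟩ := h; omega)
      refine ⟨r, hr, (ord_dvd_iff (by omega)).1 r1.dvd, fun j hj => (Nat.coprime_two_right.2 h).dvd_of_dvd_mul_left
        (r1 ▸ orderOf_dvd_of_pow_eq_one ((pow_mul _ _ _).trans hj)), fun e => r0 ((Nat.prime_dvd_prime_iff_eq hr
          Nat.prime_two).1 ((ZMod.natCast_eq_zero_iff 2 r).1 ?_))⟩
      have := congrArg (· ^ m) (pow_orderOf_eq_one (-(q : ZMod r)))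
      simp only [pow_right_comm _ _ m, h.neg_pow, one_pow] at this
      rw [show (q : ZMod r) ^ m = 1 from r1 ▸ pow_orderOf_eq_one _, e.neg_one_pow] at this
      linear_combination (norm := (push_cast; ring)) -this
  have hA : (if Even m then q ^ m + 1 else q ^ m - 1) = ((-(q : ℤ)) ^ m + 1).natAbs := by
    split_ifs with h
    · rw [h.neg_pow]; norm_cast
    · exact (Int.natAbs_eq_iff.2 (.inr (by rw [(Nat.not_even_iff_odd.1 h).neg_pow]; push_cast [hq1.le]; ring))).symm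
  have hS : uM q (2 * m) = (if Even m then q ^ m + 1 else q ^ m - 1) * uM q m := by
    rw [hA, uM, uM, ← Int.natAbs_mul]
    simp only [two_mul, Finset.sum_range_add, pow_add, ← Finset.mul_sum]; ring_nf
  have h0 : ((if Even m then q ^ m + 1 else q ^ m - 1 : ℕ) : F) ≠ 0 := cast_ne_of_dvd ⟨_, hS⟩ (uM_ne hF (by omega))
  obtain ⟨h1, h2⟩ := arith_two (A := if Even m then q ^ m + 1 else q ^ m - 1) (Q := q + 1) (m := m) (S := uM q m)
    (fun d hd => by
      have : -(q : ZMod d) = 1 := neg_eq_of_add_eq_zero_right (by simpa using (ZMod.natCast_eq_zero_iff _ d).2 hd)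
      simp [dvd_uM, this, ZMod.natCast_eq_zero_iff]) (by omega) (by omega) (by
        split_ifs; exacts [hodd.pow.add_one, Nat.Odd.sub_odd hodd.pow odd_one]) (fun e => h0 (by simp [e]))
  generalize (if Even m then q ^ m + 1 else q ^ m - 1) = A at *
  refine ⟨fun h => ?_, fun h => (po_range' (suHom _ F q) (su_center hF (by omega)) (range_suHom hF _)).2 ?_⟩
  swap
  · obtain ⟨y, a, b⟩ := hP.u_singer (by omega)
    refine ⟨y, a, .trans ?_ (po_low a.2 (Q := q + 1) (fun l hl => hP.u_scE (by omega) (hl ▸ pow_mem a.1 _))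
      hV (by omega) (by rw [b, hV, hS]) ((h1 h).mul_left _))⟩
    rw [Nat.mul_div_assoc _ (h1 h)]
    exact Dvd.intro _ rfl
  obtain ⟨g, hg, e⟩ := (po_range (suHom _ F q) (su_center hF (by omega)) (range_suHom hF _)).1 h
  by_contra! c
  obtain ⟨d, d1, d2, d3⟩ := h2 c
  obtain ⟨a, a1, a2, a3⟩ := exists_ro_po (g := g) hr (e ▸ r1) (e ▸ h0)
  have a6 := monic_ed _ a a1
  have a7 := coeff_ed_ne g a a1
  have a4 := Nat.le_of_dvd a2.natDegree_pos (r2 _ (by
    simpa [hF] using orderOf_dvd_iff_pow_eq_one.1 (ord_dvd_deg a6 a2 a7 a3)))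
  obtain ⟨s, u, b1, -, -, -, -, b2, ⟨b3, -⟩ | ⟨rfl, -, b3⟩⟩ := sd_blk (k := 1) (frobQ_invol hF) (hP.ed_du hg.1) a6 a2 a7
    one_pos (by simpa)
  · exact r3 <| (sd_odd a6 a2 a7 b3).1.of_dvd_nat (orderOf_dvd_of_pow_eq_one (by
      have := congrArg (ZMod.castHom a3 (ZMod r)) (pow_orderOf_eq_one (-(q : ZMod (ro a))))
      rwa [map_pow, map_neg, map_natCast, map_one] at this))
  rw [dg0_ed, hV] at b2
  rw [eq_zero_of_dg0 (t := u) (fun b hb => pp_ed (by rw [b1]; simp [hb])) (by omega), add_zero] at b1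
  simp only [pow_one, Multiset.map_id'] at b1
  refine d3 (e ▸ po_up2 b1 a2 (fun c => d3 (by rw [← e, c]; simp)) (.trans ?_ ((Nat.div_mul_cancel (e ▸ d1)).symm.dvd.trans
    (mul_dvd_mul_left _ d2))))
  simpa [e, hS, show a.natDegree = m by omega] using ro_dvd.2 ((nu_pair (hF := hF) (k := 1) a6 a2 a7).2 (by
    simpa [b1] using (det_ed _).symm.trans (mem_slSub.1 hg.2)))

end Cfsg.Agent.S2496
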