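import Cfsg.Statements.S2503
import Cfsg.Agent.H1.PSL2e

set_option autoImplicit false
open Cfsg

namespace Cfsg.Agent.S2503

/-- Let F be a finite field with q = 2^t ≥ 4 elements and L = PSL(2,F). Then L has a cyclic subgroup A of order q + 1 and an elementary abelian 2-subgroup B of order q such that L = ABA: every element of L is a product a·b·a' with a, a' ∈ A and b ∈ B. -/
theorem result {F : Type*} [Field F] [Fintype F]
    (h2 : 2 ∣ Fintype.card F) (h4 : 4 ≤ Fintype.card F) :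
    ∃ A B : Subgroup (Matrix.ProjectiveSpecialLinearGroup (Fin 2) F),
      IsCyclic A ∧ Nat.card A = Fintype.card F + 1 ∧ IsMulCommutative B ∧ (∀ b ∈ B, b * b = 1) ∧
        Nat.card B = Fintype.card F ∧
        ∀ g : Matrix.ProjectiveSpecialLinearGroup (Fin 2) F, ∃ a ∈ A, ∃ b ∈ B, ∃ c ∈ A, g = a * b * c := by
  open Subgroup CfsgH1 CfsgH1.L2 Matrix in
  classical
  have he := even_iff_two_dvd.2 h2
  have t2 := two_eq he
  obtain ⟨v, hv⟩ := exists_ellS (F := F)
  set t := v.val.trace with ht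
  let w : S2 F := ⟨!![0, 1; 1, t], by rw [det_fin_two_of]; linear_combination -t2⟩
  have hw : Ell w.val := fun c => by
    have := hv c
    rwa [v.2, ← ht, ← w.2, show t = w.val.trace by simp [w, trace_fin_two]] at this
  have n1 : (-1 : S2 F) ∈ US F := by rw [neg_eq_two t2]; exact one_mem _
  have c1 := card_map_pr (neg_mem_cent w)
  have c2 := card_map_pr n1
  rw [d_even he, mul_one] at c1 c2
  haveI := hw.isCyclicS
  refine ⟨_, _, isCyclic_of_surjective _ (pr.subgroupMap_surjective _), c1.trans hw.card_centS,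
    ⟨⟨?_⟩⟩, ?_, c2.trans card_US, fun g => ?_⟩
  · rintro ⟨_, a, ha, rfl⟩ ⟨_, b, hb, rfl⟩
    exact Subtype.ext (by change pr a * pr b = pr b * pr a; rw [← map_mul, US_comm ha hb, map_mul])
  · rintro _ ⟨_, ⟨y, rfl⟩, rfl⟩
    change pr (utS 1 _) * pr (utS 1 _) = 1
    rw [← map_mul, utS_mul, pr_eq_one, scS, ← utS_one, utS_inj]
    exact .inl ⟨mul_one _, by simp; linear_combination y.toAdd * t2⟩
  obtain ⟨g, rfl⟩ := pr_surj g
  have dg := (det_fin_two _).symm.trans g.2
  let N : F → F → F := fun x y => x ^ 2 + t * x * y + y ^ 2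
  let M : ∀ x y, N x y = 1 → S2 F := fun x y h => ⟨!![x, y; y, x + t * y], by
    rw [det_fin_two_of, ← h]; simp only [N]; linear_combination -y ^ 2 * t2⟩
  have hM : ∀ x y h, M x y h ∈ centralizer {w} := fun x y h => mem_centralizer_singleton_iff.2 (sext.2 (by
    rw [vmul, vmul]; apply m2_ext <;> simp [M, w] <;> ring))
  obtain ⟨x, y, n, e⟩ : ∃ x y, ¬ (x = 0 ∧ y = 0) ∧
      N (g.val 0 0 * x + g.val 0 1 * y) (g.val 1 0 * x + g.val 1 1 * y) = N x y := by
    obtain ⟨r, hr⟩ := sq_of_two_eq_zero t2 (N (g.val 0 0) (g.val 1 0) + 1)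
    obtain ⟨s, hs⟩ := sq_of_two_eq_zero t2 (N (g.val 0 1) (g.val 1 1) + 1)
    simp only [N] at hr hs ⊢
    by_cases k : s = 0 ∧ r = 0
    · refine ⟨1, 0, by simp, ?_⟩
      rw [k.2] at hr
      linear_combination hr - t2
    · refine ⟨s, r, k, ?_⟩
      linear_combination s ^ 2 * hr + r ^ 2 * hs + t * s * r * dg + (s ^ 2 * r ^ 2 - s ^ 2 - r ^ 2 +
        s * r * (g.val 0 0 * g.val 0 1 + g.val 1 0 * g.val 1 1 + t * g.val 0 1 * g.val 1 0)) * t2
  have n0 : N x y ≠ 0 := fun k => n (hw.aniso (by simp [w]; simp only [N] at k; linear_combination k - y ^ 2 * t2))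
  obtain ⟨k, hk⟩ := sq_of_two_eq_zero t2 (N x y)⁻¹
  have e1 : N (k * x) (k * y) = 1 := by
    rw [← inv_mul_cancel₀ n0, hk]; simp only [N]; ring
  have e2 : N (g.val 0 0 * (k * x) + g.val 0 1 * (k * y)) (g.val 1 0 * (k * x) + g.val 1 1 * (k * y)) = 1 := by
    refine Eq.trans ?_ (inv_mul_cancel₀ n0)
    rw [hk, ← e]; simp only [N]; ring
  refine ⟨_, mem_map_of_mem _ (hM _ _ e2), pr ((M _ _ e2)⁻¹ * g * M _ _ e1), mem_map_of_mem _ ?_, _,
    mem_map_of_mem _ (inv_mem (hM _ _ e1)), by simp only [map_mul, map_inv]; group⟩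
  have a : ((M _ _ e2)⁻¹ * g * M _ _ e1).val 1 0 = 0 := by
    simp only [vmul, vinv, mul2]; simp [M, adjugate_fin_two]; ring
  refine mem_US.2 ⟨_, ((eq_utS a).trans (congrArg (utS · _) (Units.ext ?_))).symm⟩
  change ((M _ _ e2)⁻¹ * g * M _ _ e1).val 0 0 = 1
  refine Eq.trans ?_ e2
  simp only [vmul, vinv, mul2]; simp [M, N, adjugate_fin_two]
  linear_combination -(g.val 1 0 * (k * x) + g.val 1 1 * (k * y)) ^ 2 * t2

end Cfsg.Agent.S2503
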