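import Cfsg.Statements.S2504
import Cfsg.Agent.H3.Ab2

set_option autoImplicit false
open Cfsg

namespace Cfsg.Agent.S2504

open CfsgPm Subgroup
theorem gr (n : ℕ) (h : 3 ≤ n) : IsGreatest {c : ℕ | ∃ A : Subgroup (alternatingGroup (Fin n)), IsMulCommutative A ∧ Nat.card A = c} (abG n) := by
  obtain ⟨A, _, c, l⟩ := abEx_G n
  refine ⟨⟨A.subgroupOf _, inferInstance, (Nat.card_congr (subgroupOfEquivOfLe (l trivial)).toEquiv).trans c⟩, ?_⟩
  rintro _ ⟨A, _, rfl⟩
  have := ab_le_G (A.map (alternatingGroup _).subtype) (map_subtype_le _) (by simpa)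
  rwa [card_map_of_injective (subtype_injective _), Nat.card_fin] at this

/-- The largest order of an abelian subgroup of the alternating group of degree n is 3^k when n = 3k, 4·3^(k−1) when n = 3k + 1, and 16·3^(k−2) when n = 3k + 2, for every k ≥ 2 (so for all degrees n ≥ 6). -/
theorem result (k : ℕ) (hk : 2 ≤ k) :
    IsGreatest {c : ℕ | ∃ A : Subgroup (alternatingGroup (Fin (3 * k))), IsMulCommutative A ∧ Nat.card A = c} (3 ^ k) ∧
    IsGreatest {c : ℕ | ∃ A : Subgroup (alternatingGroup (Fin (3 * k + 1))), IsMulCommutative A ∧ Nat.card A = c}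
      (4 * 3 ^ (k - 1)) ∧
    IsGreatest {c : ℕ | ∃ A : Subgroup (alternatingGroup (Fin (3 * k + 2))), IsMulCommutative A ∧ Nat.card A = c}
      (16 * 3 ^ (k - 2)) := by
  obtain ⟨k, rfl⟩ := Nat.exists_eq_add_of_le' hk
  obtain ⟨a, b, c⟩ := abG_eq k
  exact ⟨a ▸ gr _ (by omega), b ▸ gr _ (by omega), c ▸ gr _ (by omega)⟩

end Cfsg.Agent.S2504
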