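import Cfsg.Statements.S2505
import Cfsg.Agent.H3.Ab2

set_option autoImplicit false
open Cfsg

namespace Cfsg.Agent.S2505

open CfsgPm

/-- The largest order of an abelian subgroup of the symmetric group of degree n is 3^k when n = 3k, 4·3^(k−1) when n = 3k + 1, and 2·3^k when n = 3k + 2, for every k ≥ 1. -/
theorem result (k : ℕ) (hk : 1 ≤ k) :
    IsGreatest {c : ℕ | ∃ A : Subgroup (Equiv.Perm (Fin (3 * k))), IsMulCommutative A ∧ Nat.card A = c} (3 ^ k) ∧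
    IsGreatest {c : ℕ | ∃ A : Subgroup (Equiv.Perm (Fin (3 * k + 1))), IsMulCommutative A ∧ Nat.card A = c}
      (4 * 3 ^ (k - 1)) ∧
    IsGreatest {c : ℕ | ∃ A : Subgroup (Equiv.Perm (Fin (3 * k + 2))), IsMulCommutative A ∧ Nat.card A = c}
      (2 * 3 ^ k) := by
  have t : ∀ n, IsGreatest {c : ℕ | ∃ A : Subgroup (Equiv.Perm (Fin n)), IsMulCommutative A ∧ Nat.card A = c} (abF n) := fun n =>
    ⟨(abEx_F n).imp fun _ h => ⟨h.1, h.2.1⟩, by rintro _ ⟨A, _, rfl⟩; simpa using ab_le_F A⟩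
  obtain ⟨k, rfl⟩ := Nat.exists_eq_add_of_le' hk
  obtain ⟨a, b, c⟩ := abF_eq k
  exact ⟨a ▸ t _, b ▸ t _, c ▸ t _⟩

end Cfsg.Agent.S2505
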