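import Cfsg.Statements.S2506
import Cfsg.Agent.S2504

set_option autoImplicit false
open scoped Pointwise
open Cfsg

namespace Cfsg.Agent.S2506

open CfsgPm Subgroup Equiv

/-- In the alternating group of any degree, any two abelian subgroups of the largest possible order (among abelian subgroups) are conjugate. -/
theorem result (n : ℕ)
    (A B : Subgroup (alternatingGroup (Fin n))) (hA : IsMulCommutative A) (hB : IsMulCommutative B)
    (hAmax : ∀ C : Subgroup (alternatingGroup (Fin n)), IsMulCommutative C → Nat.card C ≤ Nat.card A)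
    (hBmax : ∀ C : Subgroup (alternatingGroup (Fin n)), IsMulCommutative C → Nat.card C ≤ Nat.card B) :
    ∃ g : alternatingGroup (Fin n), B = MulAut.conj g • A := by
  by_cases h3 : n < 3
  · haveI : Subsingleton (alternatingGroup (Fin n)) := by interval_cases n <;> exact ⟨by decide⟩
    exact ⟨1, Subsingleton.elim _ _⟩
  push Not at h3
  obtain ⟨⟨C, hC, cC⟩, up⟩ := S2504.gr n h3
  have cA : Nat.card A = abG n := le_antisymm (up ⟨A, hA, rfl⟩) (cC ▸ hAmax C hC)
  have cB : Nat.card B = abG n := le_antisymm (up ⟨B, hB, rfl⟩) (cC ▸ hBmax C hC)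
  by_cases h5 : n = 5
  · subst h5
    haveI : Fact (Nat.Prime 5) := ⟨by decide⟩
    have f : 5 = 5 ^ (Nat.card (alternatingGroup (Fin 5))).factorization 5 := by
      rw [nat_card_alternatingGroup, Nat.card_fin, Nat.factorization_def _ (by decide)]; decide +kernel
    obtain ⟨g, hg⟩ := MulAction.exists_smul_eq (alternatingGroup (Fin 5)) (Sylow.ofCard A (cA.trans f)) (Sylow.ofCard B (cB.trans f))
    exact ⟨g, (congrArg Sylow.toSubgroup hg).symm⟩
  have sh := fun (D : Subgroup (alternatingGroup (Fin n))) [IsMulCommutative D] (h : Nat.card D = abG n) =>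
    ab_shape (D.map (alternatingGroup _).subtype) (map_subtype_le _) (by simpa) (by simpa) (by rwa [card_map_of_injective (subtype_injective _), Nat.card_fin])
  obtain ⟨-, sA, pA⟩ := sh A cA
  obtain ⟨kB, sB, pB⟩ := sh B cB
  haveI : Nonempty (Fin n) := ⟨⟨0, by omega⟩⟩
  obtain ⟨σ, hσ, e⟩ := ex_conj _ _ sA fun m => by
    by_cases a : m = 3
    · exact a ▸ (pow34 (pA.trans pB.symm)).1
    by_cases b : m = 4
    · exact b ▸ (pow34 (pA.trans pB.symm)).2
    rw [Nat.card_eq_zero.2 (.inl ⟨fun w => by have := sA w.1; have := w.2; omega⟩), Nat.card_eq_zero.2 (.inl ⟨fun w => by have := sB w.1; have := w.2; omega⟩)]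
  refine ⟨⟨σ, hσ⟩, ?_⟩
  set D := MulAut.conj (⟨σ, hσ⟩ : alternatingGroup (Fin n)) • A
  haveI : IsMulCommutative D := A.map_isMulCommutative _
  have cD : Nat.card D = abG n := (card_map_of_injective (MulAction.injective _)).trans cA
  obtain ⟨kD, -, -⟩ := sh D cD
  have o : ∀ x y, oq (B.map (alternatingGroup _).subtype) x = oq _ y ↔ oq (D.map (alternatingGroup _).subtype) x = oq _ y := fun x y => by
    obtain ⟨x, rfl⟩ := σ.surjective x
    obtain ⟨y, rfl⟩ := σ.surjective y
    rw [e, oq_eq, oq_eq]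
    exact ⟨fun ⟨_, ⟨a, ha, rfl⟩, h⟩ => ⟨_, ⟨_, ⟨a, ha, rfl⟩, rfl⟩, by simpa using h⟩, fun ⟨_, ⟨_, ⟨a, ha, rfl⟩, rfl⟩, h⟩ => ⟨_, ⟨a, ha, rfl⟩, by simpa using h⟩⟩
  haveI := ab_sup B D fun b hb d hd => Subtype.ext (Perm.ext fun x =>
    (orb_comm _ _ (map_subtype_le _) (map_subtype_le _) kB kD o x (.inr (sB _)) ⟨b, hb, rfl⟩ ⟨d, hd, rfl⟩).1.symm)
  have := up ⟨B ⊔ D, this, rfl⟩
  exact (eq_of_le_of_card_ge le_sup_left (cB ▸ this)).trans (eq_of_le_of_card_ge le_sup_right (cD ▸ this)).symm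

end Cfsg.Agent.S2506
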