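import Cfsg.Statements.S2507
import Cfsg.Agent.H1.PSL2c

set_option autoImplicit false
open Cfsg

namespace Cfsg.Agent.S2507

/-- Let F be a finite field with q = 2^f ≥ 4 elements. The conjugacy class sizes of PSL(2,F) are exactly 1, q(q − 1), q² − 1 and q(q + 1). -/
theorem result {F : Type*} [Field F] [Fintype F]
    (h2 : 2 ∣ Fintype.card F) (h4 : 4 ≤ Fintype.card F) :
    Set.range (fun g : (Matrix.ProjectiveSpecialLinearGroup (Fin 2) F) => (Subgroup.centralizer ({g} : Set (Matrix.ProjectiveSpecialLinearGroup (Fin 2) F))).index) =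
      {1, Fintype.card F * (Fintype.card F - 1), Fintype.card F ^ 2 - 1, Fintype.card F * (Fintype.card F + 1)} := by
  open Subgroup CfsgH1 CfsgH3 CfsgH1.L2 CfsgH2 in
  classical
  have t := two_eq (even_iff_two_dvd.2 h2)
  have a : ∀ g : S2 F, Nat.card (centralizer {g}) = Fintype.card F + 1 → (centralizer {pr g}).index = _ :=
    fun g e => idx_pr (.inr t) (by rw [e, mul_comm])
  have b : ∀ g : S2 F, Nat.card (centralizer {g}) = Fintype.card F - 1 →
    (centralizer {pr g}).index = Fintype.card F * (Fintype.card F + 1) :=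
    fun g e => idx_pr (.inr t) (by rw [e]; ring)
  have c : ∀ (g : S2 F) x, Ev g.val x x → ¬ Sc g.val → (centralizer {pr g}).index = Fintype.card F ^ 2 - 1 :=
    fun g x h e => idx_pr (.inr t) (by rw [h.card_centS_two t e, q_sq_sub]; ring)
  ext m
  constructor
  · rintro ⟨g, rfl⟩
    obtain ⟨g, rfl⟩ := pr_surj g
    rcases casesS g with k | k | ⟨x, k, k'⟩
    · simp [pr_eq_one.2 k, idx_one]
    · rcases k.card_cases with e | e
      · simp [b g e]
      · simp [a g e]
    · simp [c g x k k']
  · rintro (rfl | rfl | rfl | rfl)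
    · exact ⟨1, idx_one⟩
    · obtain ⟨w, -, e⟩ := exists_ellS' (F := F)
      exact ⟨_, a w e⟩
    · exact ⟨_, c _ _ (ev_unip 1) (ns_utS 1 one_ne_zero)⟩
    · obtain ⟨w, -, e⟩ := exists_splS h4
      exact ⟨_, b w e⟩

end Cfsg.Agent.S2507
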