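import Cfsg.Statements.S2508
import Cfsg.Agent.H1.PSL2c

set_option autoImplicit false
open Cfsg

namespace Cfsg.Agent.S2508

/-- Let F be a finite field with q elements, q odd and q ≥ 7. If q ≡ 1 (mod 4) the conjugacy class sizes of PSL(2,F) are exactly 1, (q² − 1)/2, q(q + 1)/2, q(q − 1) and q(q + 1); if q ≡ 3 (mod 4) they are exactly 1, (q² − 1)/2, q(q − 1)/2, q(q + 1) and q(q − 1). -/
theorem result {F : Type*} [Field F] [Fintype F]
    (hodd : ¬ 2 ∣ Fintype.card F) (h7 : 7 ≤ Fintype.card F) :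
    (Fintype.card F % 4 = 1 →
      Set.range (fun g : (Matrix.ProjectiveSpecialLinearGroup (Fin 2) F) => (Subgroup.centralizer ({g} : Set (Matrix.ProjectiveSpecialLinearGroup (Fin 2) F))).index) =
        {1, (Fintype.card F ^ 2 - 1) / 2, Fintype.card F * (Fintype.card F + 1) / 2,
          Fintype.card F * (Fintype.card F - 1), Fintype.card F * (Fintype.card F + 1)}) ∧
    (Fintype.card F % 4 = 3 →
      Set.range (fun g : (Matrix.ProjectiveSpecialLinearGroup (Fin 2) F) => (Subgroup.centralizer ({g} : Set (Matrix.ProjectiveSpecialLinearGroup (Fin 2) F))).index) =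
        {1, (Fintype.card F ^ 2 - 1) / 2, Fintype.card F * (Fintype.card F - 1) / 2,
          Fintype.card F * (Fintype.card F + 1), Fintype.card F * (Fintype.card F - 1)}) := by
  open Subgroup CfsgH1 CfsgH3 CfsgH1.L2 CfsgH2 in
  classical
  have ho : Odd (Fintype.card F) := Nat.odd_iff.2 (by omega)
  have t := two_ne ho
  obtain ⟨n, hn⟩ := id ho
  have a : ∀ g : S2 F, g.val.trace ≠ 0 → Nat.card (centralizer {g}) = Fintype.card F + 1 →
    (centralizer {pr g}).index = _ := fun g h e => idx_pr (.inl h) (by rw [e, mul_comm])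
  have b : ∀ g : S2 F, g.val.trace ≠ 0 → Nat.card (centralizer {g}) = Fintype.card F - 1 →
    (centralizer {pr g}).index = Fintype.card F * (Fintype.card F + 1) :=
    fun g h e => idx_pr (.inl h) (by rw [e]; ring)
  have c : ∀ (g : S2 F) (x : Fˣ), Ev g.val x x → ¬ Sc g.val →
      (centralizer {pr g}).index = (Fintype.card F ^ 2 - 1) / 2 :=
    fun g x h e => idx_pr (.inl (jor_tr t h)) (by
      rw [h.card_centS_jor t e, q_sq_sub, hn, Nat.add_sub_cancel, ← mul_assoc, mul_right_comm _ 2,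
        Nat.mul_div_cancel _ two_pos]; ring)
  have a' : ∀ g : S2 F, g.val.trace = 0 → Nat.card (centralizer {g}) = Fintype.card F + 1 →
    (centralizer {pr g}).index = Fintype.card F * (Fintype.card F - 1) / 2 := fun g h e => idx_tr0 t h (by
      rw [e, hn, Nat.add_sub_cancel, ← mul_assoc, mul_right_comm _ 2, Nat.mul_div_cancel _ two_pos]; ring)
  have b' : ∀ g : S2 F, g.val.trace = 0 → Nat.card (centralizer {g}) = Fintype.card F - 1 →
    (centralizer {pr g}).index = Fintype.card F * (Fintype.card F + 1) / 2 := fun g h e => idx_tr0 t h (by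
      rw [e, hn, Nat.add_sub_cancel, show (2 * n + 1) * (2 * n + 1 + 1) = (2 * n + 1) * (n + 1) * 2 by ring,
        Nat.mul_div_cancel _ two_pos]; ring)
  obtain ⟨v, hv, ev⟩ := exists_ellS' (F := F)
  obtain ⟨v', v1, -, v2⟩ := hv.exists_tr t (by omega)
  obtain ⟨w, hw, ew⟩ := exists_splS (F := F) (by omega)
  obtain ⟨w', w1, -, w2⟩ := hw.exists_tr t (by omega)
  have r1 := a v' v1 (v2 ▸ ev)
  have r2 := b w' w1 (w2 ▸ ew)
  have r3 := c _ _ (ev_unip 1) (ns_utS 1 one_ne_zero)
  have j := card_tr0 ho (tr_J0 (F := F))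
  constructor <;> intro h4 <;> ext m <;> constructor
  · rintro ⟨g, rfl⟩
    obtain ⟨g, rfl⟩ := pr_surj g
    by_cases h : g.val.trace = 0
    · have := card_tr0 ho h
      simp [b' g h (by omega)]
    rcases casesS g with k | k | ⟨x, k, k'⟩
    · simp [pr_eq_one.2 k, idx_one]
    · rcases k.card_cases with e | e
      · simp [b g h e]
      · simp [a g h e]
    · simp [c g x k k']
  · rintro (rfl | rfl | rfl | rfl | rfl)
    exacts [⟨1, idx_one⟩, ⟨_, r3⟩, ⟨_, b' _ tr_J0 (by omega)⟩, ⟨_, r1⟩, ⟨_, r2⟩]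
  · rintro ⟨g, rfl⟩
    obtain ⟨g, rfl⟩ := pr_surj g
    by_cases h : g.val.trace = 0
    · have := card_tr0 ho h
      simp [a' g h (by omega)]
    rcases casesS g with k | k | ⟨x, k, k'⟩
    · simp [pr_eq_one.2 k, idx_one]
    · rcases k.card_cases with e | e
      · simp [b g h e]
      · simp [a g h e]
    · simp [c g x k k']
  · rintro (rfl | rfl | rfl | rfl | rfl)
    exacts [⟨1, idx_one⟩, ⟨_, r3⟩, ⟨_, a' _ tr_J0 (by omega)⟩, ⟨_, r2⟩, ⟨_, r1⟩]

end Cfsg.Agent.S2508
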