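import Cfsg.Statements.S2510
import Cfsg.Agent.H5.El18

set_option autoImplicit false
open Cfsg

namespace Cfsg.Agent.S2510

open CfsgH5 Pointwise Module Polynomial

/-- Let F be a finite field with q = p^a elements, n ≥ 2 (with q ≥ 4 when n = 2), L = PSL(n, F), and let r be a prime dividing q − 1 and not dividing n. Then for every m the direct product L × L × L × (ℤ/r)^m has the same set of element orders as L × L × L; and if n − 1 ≠ p^j for every j ≥ 0 (so never when n = 2, since 1 = p^0), then already L × L × (ℤ/r)^m has the same set of element orders as L × L. -/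
theorem result {F : Type*} [Field F] [Fintype F] (p a n r m : ℕ) (hp : p.Prime) (ha : 1 ≤ a) (hF : Fintype.card F = p ^ a)
    (hn : 2 ≤ n) (hn2 : n = 2 → 4 ≤ Fintype.card F) (hr : r.Prime) (hrq : r ∣ Fintype.card F - 1) (hrn : ¬ r ∣ n) :
    Set.range (orderOf : Matrix.ProjectiveSpecialLinearGroup (Fin n) F × Matrix.ProjectiveSpecialLinearGroup (Fin n) F × Matrix.ProjectiveSpecialLinearGroup (Fin n) F × Multiplicative (Fin m → ZMod r) → ℕ) =
      Set.range (orderOf : Matrix.ProjectiveSpecialLinearGroup (Fin n) F × Matrix.ProjectiveSpecialLinearGroup (Fin n) F × Matrix.ProjectiveSpecialLinearGroup (Fin n) F → ℕ) ∧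
    ((¬ ∃ j : ℕ, n - 1 = p ^ j) →
      Set.range (orderOf : Matrix.ProjectiveSpecialLinearGroup (Fin n) F × Matrix.ProjectiveSpecialLinearGroup (Fin n) F × Multiplicative (Fin m → ZMod r) → ℕ) =
        Set.range (orderOf : Matrix.ProjectiveSpecialLinearGroup (Fin n) F × Matrix.ProjectiveSpecialLinearGroup (Fin n) F → ℕ)) := by
  haveI := Fact.mk hp
  haveI := charP_of_card_eq_prime_pow hF
  haveI : Nonempty (Fin n) := ⟨⟨0, by omega⟩⟩
  have hV : finrank F (Fin n → F) = n := by simp
  obtain ⟨c, hc⟩ := exists_orderOf_field hrq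
  refine spec_lin (slHom _ F) sl_center range_slHom hr m p (fun e => not_dvd_card_sub (F := F) p (e ▸ hrq)) hV hn
    (fun _ => True) trivial (fun g hg s s' a b d _ => sl_twist hg a b d hc hr (by rwa [hV]))
      (fun g => ∃ b, ed g.toLinearMap = {b}) (fun g _ => ?_) (fun u h => ⟨u, det_unip h, rfl⟩) (sl_ind p (by omega))
  obtain ⟨b, hb⟩ := Multiset.exists_mem_of_ne_zero (ed_ne_zero (by omega) g.toLinearMap)
  obtain ⟨s, hs⟩ := Multiset.le_iff_exists_add.1 (Multiset.singleton_le.2 hb)
  by_cases e : s = 0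
  · exact .inl ⟨b, by simp [hs, e]⟩
  · exact .inr ⟨_, s, hs, by simp, e, trivial⟩

end Cfsg.Agent.S2510
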