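import Cfsg.Statements.S2511
import Cfsg.Agent.H5.El18

set_option autoImplicit false
open Cfsg

namespace Cfsg.Agent.S2511

open CfsgH5 Pointwise Module Polynomial

/-- Let F be a finite field with q² elements, q = p^a, n ≥ 3 with (n, q) ≠ (3, 2), L = PSU(n, q) realised over F, and let r be a prime dividing q + 1 and not dividing n. Then for every m the direct product L × L × L × (ℤ/r)^m has the same set of element orders as L × L × L; and if n − 1 is not a power of p, then already L × L × (ℤ/r)^m has the same set of element orders as L × L. -/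
theorem result {F : Type*} [Field F] [Fintype F] (p a n q r m : ℕ) (hp : p.Prime) (ha : 1 ≤ a) (hq : q = p ^ a) (hF : Fintype.card F = q ^ 2)
    (hn : 3 ≤ n) (hn3 : ¬ (n = 3 ∧ q = 2)) (hr : r.Prime) (hrq : r ∣ q + 1) (hrn : ¬ r ∣ n) :
    Set.range (orderOf : Cfsg.PSU n F q × Cfsg.PSU n F q × Cfsg.PSU n F q × Multiplicative (Fin m → ZMod r) → ℕ) = Set.range (orderOf : Cfsg.PSU n F q × Cfsg.PSU n F q × Cfsg.PSU n F q → ℕ) ∧
    ((¬ ∃ j : ℕ, n - 1 = p ^ j) →
      Set.range (orderOf : Cfsg.PSU n F q × Cfsg.PSU n F q × Multiplicative (Fin m → ZMod r) → ℕ) = Set.range (orderOf : Cfsg.PSU n F q × Cfsg.PSU n F q → ℕ)) := by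
  haveI := Fact.mk hp
  haveI := charP_of_card_eq_prime_pow (p := p) (f := a * 2) (hF.trans (by rw [hq, pow_mul]))
  have hV : finrank F (Fin n → F) = n := by simp
  have hS := uForm_nondeg hF n
  refine spec_lin (suHom n F q) (su_center hF (by omega)) (range_suHom hF n) hr m p (fun e => ?_) hV (by omega)
    (fun s => s.map (du (frobQ hF)) = s) (by simp) (fun g hg s s' a b d e => hS.u_twist hg a b d e hr hrq (by rwa [hV]))
      _ (fun g hg => ?_) (fun u h => ?_) (hS.u_ind p (by omega))
  · subst e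
    exact hp.not_dvd_one ((Nat.dvd_add_right (hq ▸ dvd_pow_self r (by omega))).1 hrq)
  · exact (sd_cases (hS.ed_du hg.1) (fun a ha => du_du (frobQ_invol hF) (monic_ed _ a ha) (coeff_ed_ne g a ha))
      (ed_ne_zero (by omega) _)).imp_right fun ⟨s, t, a, b, c, d, _⟩ => ⟨s, t, a, b, c, d⟩
  · obtain ⟨g, a, b⟩ := hS.unit_exists_nil h
    have e := (sim_iff_ed.1 b).symm
    exact ⟨g, ⟨a, mem_slSub.2 (by rw [det_ed, e, ← det_ed, mem_slSub.1 (det_unip h)])⟩, e⟩

end Cfsg.Agent.S2511
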