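import Cfsg.Statements.S2512
import Cfsg.Agent.H5.El18

set_option autoImplicit false
open Cfsg

namespace Cfsg.Agent.S2512

open CfsgH5 Pointwise Module Polynomial

/-- Let F be a finite field of odd order q = p^a, n ≥ 2 (with q ≥ 3 automatic), and L = PSp(2n, F). Then for every m the direct product L × L × L × (ℤ/2)^m has the same set of element orders as L × L × L; and if 2n − 1 is not a power of p, then already L × L × (ℤ/2)^m has the same set of element orders as L × L. -/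
theorem result {F : Type*} [Field F] [Fintype F] (p a n m : ℕ) (hp : p.Prime) (ha : 1 ≤ a) (hF : Fintype.card F = p ^ a) (hodd : Odd (Fintype.card F))
    (hn : 2 ≤ n) :
    Set.range (orderOf : Cfsg.PSp n F × Cfsg.PSp n F × Cfsg.PSp n F × Multiplicative (Fin m → ZMod 2) → ℕ) = Set.range (orderOf : Cfsg.PSp n F × Cfsg.PSp n F × Cfsg.PSp n F → ℕ) ∧
    ((¬ ∃ j : ℕ, 2 * n - 1 = p ^ j) →
      Set.range (orderOf : Cfsg.PSp n F × Cfsg.PSp n F × Multiplicative (Fin m → ZMod 2) → ℕ) = Set.range (orderOf : Cfsg.PSp n F × Cfsg.PSp n F → ℕ)) := by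
  haveI := Fact.mk hp
  haveI := charP_of_card_eq_prime_pow hF
  have hV : finrank F (Fin n ⊕ Fin n → F) = 2 * n := by simp [two_mul]
  have hS := spForm_nondeg (F := F) n
  have h2 := two_ne_of_odd hodd
  have h0 : 2 < Fintype.card F ^ n - 1 := by
    have := Nat.pow_le_pow_right (Fintype.card_pos (α := F)) hn
    have := Nat.pow_le_pow_left (show 2 ≤ _ from Fintype.one_lt_card (α := F)) 2
    omega
  have hq : ((Fintype.card F ^ n : ℕ) : F) = 0 := by simp [FiniteField.cast_card_eq_zero, show n ≠ 0 by omega]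
  obtain ⟨y, y1, y2⟩ := exists_ord_sp hS (N := Fintype.card F ^ n - 1) (j := n) (by
    rw [Nat.cast_sub (by omega), hq]; simp) (Nat.not_dvd_of_pos_of_lt two_pos h0) (by omega) hV.ge (.inl dvd_rfl)
  obtain ⟨z, z1, z2⟩ := exists_ord_sp hS (N := Fintype.card F ^ n + 1) (j := n) (by
    rw [Nat.cast_add, hq]; simp) (Nat.not_dvd_of_pos_of_lt two_pos (by omega)) (by omega) hV.ge (.inr dvd_rfl)
  have h3 : ∀ g ∈ (spForm n F).isom, orderOf g ∣ po g * 2 := fun g hg =>
    dvd_po_mul fun l hl => sp_scE hS (by omega) l (hl ▸ pow_mem hg _)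
  have h4 : ∀ N, po y ∣ N → po z ∣ N → 2 ∣ N ∧ ∀ M, Odd M → M ∣ Fintype.card F ^ n - 1 ∨ M ∣ Fintype.card F ^ n + 1 →
      M ∣ N := fun N a b => by
    have c := (y2 ▸ h3 y y1).trans (mul_dvd_mul_right a 2)
    have d := (z2 ▸ h3 z z1).trans (mul_dvd_mul_right b 2)
    refine ⟨?_, fun M e f => (Nat.coprime_two_right.2 e).dvd_of_dvd_mul_right (f.elim (·.trans c) (·.trans d))⟩
    obtain ⟨k, hk⟩ := hodd.pow (n := n)
    rcases k.even_or_odd' with ⟨j, rfl | rfl⟩
    · have := (show 4 ∣ _ from ⟨j, by omega⟩).trans c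
      omega
    · have := (show 4 ∣ _ from ⟨j + 1, by omega⟩).trans d
      omega
  obtain ⟨w, w1, w2⟩ := Form.sp_exists_ru (n - 1) hS (by omega)
  rw [ru_iff (by omega)] at w2
  obtain ⟨i, w3, w4⟩ := po_unip p (by omega) w2.1
  obtain ⟨u, u1, u2, j, u3, u4, -⟩ := hS.sp_ext p h2 (Form.exU_sp_ru two_pos even_two) (by simpa using pp_unip two_pos)
    (by simp) (e := 2 * (n - 1)) (by omega) (by simp) (by rw [hV, ← C_1]; simp [dg0, -map_one]; omega)
  refine (spec_cl (spHom n F) (sp_center (by omega)) (range_spHom n) Nat.prime_two m (fun g => IsNilpotent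
    (g.toLinearMap - 1) ∨ ∃ N, Odd N ∧ po g ∣ N ∧ (N ∣ Fintype.card F ^ n - 1 ∨ N ∣ Fintype.card F ^ n + 1))
      fun g hg e => ?_).imp (fun H => H ⟨y, y1, z, z1, w, w1, fun N a b c => ⟨(h4 N a b).1, fun x _ hx => hx.elim
        (fun d => (unip_dvd p d (w4 _ (by simp [w2.2]))).trans (w3 ▸ c)) fun ⟨M, d, e, f⟩ =>
          e.trans ((h4 N a b).2 M d f)⟩⟩) fun H e => H fun x hx x' hx' a b => ?_
  · obtain ⟨l, hl⟩ := po_dvd.1 (dvd_refl (po g))
    have a := Nat.not_even_iff_odd.1 (mt even_iff_two_dvd.1 e)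
    have b : scE _ l ∈ (spForm n F).isom := hl ▸ pow_mem hg _
    have c := hS.sp_odd p hodd hV (mul_mem b hg) a (by
      rw [scE_mul_pow, hl, ← map_mul, ← pow_succ, orderOf_dvd_iff_pow_eq_one.1 ((orderOf_dvd_of_pow_eq_one
        (sp_scE hS (by omega) l b)).trans a.add_one.two_dvd), map_one])
    exact c.imp (fun d => ⟨_, mul_mem b hg, d, (po_smul l).symm.dvd⟩) (by rw [po_smul]; exact id)
  have u5 : 2 * n ≤ p ^ j := by
    have := mt (⟨j, ·⟩) e
    obtain ⟨k, hk⟩ := (hp.odd_of_ne_two (by rintro rfl; exact h2 (CharP.cast_eq_zero F 2))).pow (n := j)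
    omega
  rcases a with a | ⟨M, a1, a2, a3⟩
  · exact ⟨u, u1, x', hx', fun N c d => ⟨u2.trans c, ((unip_dvd p a (hV ▸ u5)).trans u3).trans c, d⟩⟩
  rcases b with b | ⟨M', b1, b2, b3⟩
  · exact ⟨u, u1, x, hx, fun N c d => ⟨u2.trans c, d, ((unip_dvd p b (hV ▸ u5)).trans u3).trans c⟩⟩
  exact ⟨y, y1, z, z1, fun N c d => ⟨(h4 N c d).1, a2.trans ((h4 N c d).2 M a1 a3), b2.trans ((h4 N c d).2 M' b1 b3)⟩⟩

end Cfsg.Agent.S2512
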