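import Cfsg.Statements.S2513
import Cfsg.Agent.H5.El16
import Cfsg.Agent.H5.Iso1
import Cfsg.Agent.H8.Spectrum

set_option autoImplicit false
open Cfsg

namespace Cfsg.Agent.S2513

open CfsgH5 Pointwise Module Polynomial

/-- Let F be the field with two elements, n ≥ 2, L = PSL(n, F) and k₀ = ⌊(n + 3)/2⌋. Then for every k ≥ k₀ the direct product of k copies of L has the same set of element orders as the direct product of k₀ copies of L. -/
theorem result {F : Type*} [Field F] [Fintype F] (hF : Fintype.card F = 2) (n k : ℕ) (hn : 2 ≤ n) (hk : (n + 3) / 2 ≤ k) :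
    Set.range (orderOf : (Fin k → Matrix.ProjectiveSpecialLinearGroup (Fin n) F) → ℕ) = Set.range (orderOf : (Fin ((n + 3) / 2) → Matrix.ProjectiveSpecialLinearGroup (Fin n) F) → ℕ) := by
  classical
  haveI : Nonempty (Fin n) := ⟨⟨0, by omega⟩⟩
  haveI : Subsingleton Fˣ := Fintype.card_le_one_iff_subsingleton.1 (by rw [Fintype.card_units, hF])
  haveI := Module.finite_of_finite F (M := Fin n → F)
  have h2 : (2 : F) = 0 := by simpa [hF] using FiniteField.cast_card_eq_zero F
  have hV : finrank F (Fin n → F) = n := by simp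
  have e : Matrix.ProjectiveSpecialLinearGroup (Fin n) F ≃* ((Fin n → F) ≃ₗ[F] (Fin n → F)) :=
    (qcBot (eq_bot_iff.2 fun g hg => by
      obtain ⟨l, hl⟩ := (sl_center g).1 hg
      exact slHom_inj (by rw [hl, Subsingleton.elim l 1, map_one, map_one]))).trans (MulEquiv.ofBijective (slHom _ F)
        ⟨slHom_inj, fun g => exists_slHom (mem_slSub.2 ((LinearEquiv.coe_det g).symm.trans (congrArg Units.val
          (Subsingleton.elim (LinearEquiv.det g) 1))))⟩)
  have odd : ∀ N : ℕ, Odd N → (N : F) ≠ 0 := by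
    rintro _ ⟨j, rfl⟩
    simp [h2]
  have h1 : ∀ i : Fin ((n + 3) / 2), ∃ g : Matrix.ProjectiveSpecialLinearGroup (Fin n) F, orderOf g = if i.1 = 0 then
      2 ^ (Monoid.exponent (Matrix.ProjectiveSpecialLinearGroup (Fin n) F)).factorization 2 else 2 ^ (n + 1 - i) - 1 :=
    fun i => by
      split_ifs with h
      · exact Nat.prime_two.exists_orderOf_eq_pow_factorization_exponent _
      have := i.2
      obtain ⟨g, hg⟩ := exists_ord_gl (V := Fin n → F) (odd (2 ^ (n + 1 - i) - 1) (Nat.Even.sub_odd Nat.one_le_two_pow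
        (Nat.even_pow.2 ⟨even_two, by omega⟩) odd_one)) ((Nat.le_of_dvd (by omega)
          ((ord_dvd_iff (j := n + 1 - i) Fintype.card_pos).2 (by rw [hF]))).trans (by omega))
      exact ⟨e.symm g, by rw [e.symm.orderOf_eq, hg]⟩
  choose g h1 using h1
  have h3 : ∀ i, orderOf (g i) ∣ orderOf g := fun i => orderOf_dvd_of_pow_eq_one (congrFun (pow_orderOf_eq_one g) i)
  refine subset_antisymm ?_ (CfsgH8.range_orderOf_subset_of_surjective (MonoidHom.pi fun i =>
    Pi.evalMonoidHom _ (Fin.castLE hk i)) (Fin.castLE_injective hk).surjective_comp_right)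
  rintro _ ⟨y, rfl⟩
  refine CfsgH8.exists_orderOf_eq_of_dvd (x := g) ((orderOf_dvd_of_pow_eq_one (funext fun i =>
    Monoid.pow_exponent_eq_one (y i))).trans ((Nat.dvd_iff_prime_pow_dvd_dvd _ _).2 fun r j hr hj => ?_))
  have h4 := pow_dvd_pow r ((hr.pow_dvd_iff_le_factorization Monoid.exponent_ne_zero_of_finite).1 hj)
  by_cases hr2 : r = 2
  · subst hr2
    exact h4.trans (by simpa [h1] using h3 ⟨0, by omega⟩)
  rcases j with _ | j
  · simp
  obtain ⟨x, hx⟩ := hr.exists_orderOf_eq_pow_factorization_exponent (Matrix.ProjectiveSpecialLinearGroup (Fin n) F)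
  obtain ⟨x, hx⟩ := CfsgH8.exists_orderOf_eq_of_dvd (hx ▸ h4)
  rw [← e.orderOf_eq] at hx
  obtain ⟨a, ha, h5⟩ : ∃ a ∈ ed (e x).toLinearMap, ¬ a ∣ X ^ r ^ j - 1 := by
    simpa [pow_eq_one_iff_ed] using pow_ne_one_of_lt_orderOf (pow_pos hr.pos j).ne'
      (hx ▸ Nat.pow_lt_pow_succ hr.one_lt : _ < orderOf (e x))
  have h6 : e x ^ r ^ (j + 1) = 1 := hx ▸ pow_orderOf_eq_one _
  have h7 := ss_of_pow (odd _ (hr.odd_of_ne_two hr2).pow) h6 a ha
  have h8 := ro_dvd_card (monic_ed _ a ha) h7 (coeff_ed_ne _ a ha)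
  rw [Nat.eq_prime_pow_of_dvd_least_prime_pow hr (mt ro_dvd.1 h5) (ro_dvd.2 (pow_eq_one_iff_ed.1 h6 a ha))] at h8
  have h9 := sum_deg_le (T := {a}) (by simpa using ha)
  have h10 := h7.natDegree_pos
  rw [Finset.sum_singleton, hV] at h9
  generalize a.natDegree = d at h8 h9 h10
  have b1 := Nat.div_add_mod n d
  have b2 := Nat.mod_lt n h10
  have b3 := Nat.mul_le_mul_left d (Nat.div_pos h9 h10)
  have b4 := h3 ⟨n + 1 - d * (n / d), by omega⟩
  rw [h1, if_neg (by simp; omega)] at b4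
  refine (h8.trans ?_).trans b4
  rw [hF, show n + 1 - (n + 1 - d * (n / d)) = d * (n / d) by omega]
  exact Nat.pow_sub_one_dvd_pow_sub_one _ (Dvd.intro _ rfl)

end Cfsg.Agent.S2513
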