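import Cfsg.Statements.S2514
import Mathlib
import Cfsg.Agent.H8.Spectrum

set_option autoImplicit false
open Cfsg

namespace Cfsg.Agent.S2514

theorem exists_max {G : Type*} [Group G] [Finite G] (x : G) :
    ∃ n ∈ {n : ℕ | n ∈ Set.range (orderOf : G → ℕ) ∧ ∀ m ∈ Set.range (orderOf : G → ℕ), n ∣ m → m = n},
      orderOf x ∣ n := by
  obtain ⟨y, hy, hmax⟩ := Set.Finite.exists_maximalFor (orderOf : G → ℕ) {y : G | orderOf x ∣ orderOf y}
    (Set.toFinite _) ⟨x, dvd_rfl⟩
  refine ⟨orderOf y, ⟨⟨y, rfl⟩, ?_⟩, hy⟩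
  rintro _ ⟨z, rfl⟩ hz
  have h1 := Nat.le_of_dvd (orderOf_pos z) hz
  exact le_antisymm (hmax (dvd_trans hy hz) h1) h1

/-- For a finite group X write μ(X) for the set of element orders of X that are maximal under divisibility. Let G and H be finite groups and k ≥ 1 such that μ(H) ⊆ μ(G) and μ(G) has fewer than k elements outside μ(H). Then the direct product of k copies of G has the same set of element orders as the direct product of k − 1 copies of G with H. -/
theorem result {G H : Type*} [Group G] [Finite G] [Group H] [Finite H] (k : ℕ) (hk : 1 ≤ k)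
    (hsub : {n : ℕ | n ∈ Set.range (orderOf : H → ℕ) ∧ ∀ m ∈ Set.range (orderOf : H → ℕ), n ∣ m → m = n} ⊆ {n : ℕ | n ∈ Set.range (orderOf : G → ℕ) ∧ ∀ m ∈ Set.range (orderOf : G → ℕ), n ∣ m → m = n})
    (hfew : ({n : ℕ | n ∈ Set.range (orderOf : G → ℕ) ∧ ∀ m ∈ Set.range (orderOf : G → ℕ), n ∣ m → m = n} \ {n : ℕ | n ∈ Set.range (orderOf : H → ℕ) ∧ ∀ m ∈ Set.range (orderOf : H → ℕ), n ∣ m → m = n}).ncard < k) :
    Set.range (orderOf : (Fin k → G) → ℕ) = Set.range (orderOf : (Fin (k - 1) → G) × H → ℕ) := by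
  obtain ⟨k, rfl⟩ : ∃ n, k = n + 1 := ⟨k - 1, by omega⟩
  change Set.range (orderOf : (Fin (k + 1) → G) → ℕ) = Set.range (orderOf : (Fin k → G) × H → ℕ)
  have hA : ∀ (x : Fin (k + 1) → G) (n : ℕ), x ^ n = 1 ↔ ∀ i, orderOf (x i) ∣ n := by
    intro x n
    rw [funext_iff]
    simp [orderOf_dvd_iff_pow_eq_one]
  have hB : ∀ (x : Fin k → G) (h : H) (n : ℕ), (x, h) ^ n = 1 ↔
      orderOf h ∣ n ∧ ∀ i, orderOf (x i) ∣ n := by
    intro x h n
    rw [Prod.ext_iff, funext_iff, and_comm]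
    simp [orderOf_dvd_iff_pow_eq_one]
  ext n
  constructor
  · rintro ⟨x, rfl⟩
    choose m hm hxm using fun i => exists_max (x i)
    by_cases hc : ∃ j, m j ∈ Set.range (orderOf : H → ℕ) ∧ ∀ m' ∈ Set.range (orderOf : H → ℕ), m j ∣ m' → m' = m j
    · obtain ⟨j, ⟨h, hh⟩, -⟩ := hc
      obtain ⟨h', hh'⟩ := CfsgH8.exists_orderOf_eq_of_dvd (hh ▸ hxm j)
      refine ⟨(fun i => x (j.succAbove i), h'), ?_⟩
      rw [orderOf_eq_orderOf_iff]
      intro n
      rw [hA, hB, Fin.forall_iff_succAbove j, hh']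
    · push Not at hc
      have hninj : ¬ Function.Injective m := by
        intro hinj
        have h1 : (Set.range m).ncard = k + 1 := by
          rw [← Set.image_univ, Set.ncard_image_of_injective _ hinj, Set.ncard_univ]; simp
        have h2 := Set.ncard_le_ncard (s := Set.range m) (t := ({n : ℕ | n ∈ Set.range (orderOf : G → ℕ) ∧ ∀ m ∈ Set.range (orderOf : G → ℕ), n ∣ m → m = n} \ {n : ℕ | n ∈ Set.range (orderOf : H → ℕ) ∧ ∀ m ∈ Set.range (orderOf : H → ℕ), n ∣ m → m = n})) (by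
          rintro _ ⟨i, rfl⟩
          refine ⟨hm i, ?_⟩
          rintro ⟨h1, h2⟩
          obtain ⟨m', h3, h4, h5⟩ := hc i h1
          exact h5 (h2 m' h3 h4)) ((Set.finite_range _).subset (fun n hn => hn.1.1))
        omega
      obtain ⟨i, j, hij, hne⟩ := Function.not_injective_iff.1 hninj
      obtain ⟨i', rfl⟩ := Fin.exists_succAbove_eq hne
      obtain ⟨z, hz⟩ := (hm j).1
      obtain ⟨w, hw⟩ := CfsgH8.exists_orderOf_eq_of_dvd (x := z)
        (d := Nat.lcm (orderOf (x j)) (orderOf (x (j.succAbove i'))))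
        (by rw [hz]; exact Nat.lcm_dvd (hxm j) (hij ▸ hxm _))
      refine ⟨(Function.update (fun i => x (j.succAbove i)) i' w, 1), ?_⟩
      rw [orderOf_eq_orderOf_iff]
      intro n
      rw [hA, hB, Fin.forall_iff_succAbove j]
      simp only [orderOf_one, one_dvd, true_and]
      constructor
      · intro h
        have h1 := h i'
        rw [Function.update_self, hw, Nat.lcm_dvd_iff] at h1
        refine ⟨h1.1, fun i => ?_⟩
        by_cases hi : i = i'
        · rw [hi]; exact h1.2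
        · have := h i
          rwa [Function.update_of_ne hi] at this
      · rintro ⟨h1, h2⟩ i
        by_cases hi : i = i'
        · rw [hi, Function.update_self, hw, Nat.lcm_dvd_iff]; exact ⟨h1, h2 _⟩
        · rw [Function.update_of_ne hi]; exact h2 i
  · rintro ⟨⟨x, h⟩, rfl⟩
    obtain ⟨m, hm, hhm⟩ := exists_max h
    obtain ⟨z, hz⟩ := (hsub hm).1
    obtain ⟨w, hw⟩ := CfsgH8.exists_orderOf_eq_of_dvd (hz ▸ hhm)
    refine ⟨Fin.cons w x, ?_⟩
    rw [orderOf_eq_orderOf_iff]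
    intro n
    rw [hA, hB, Fin.forall_fin_succ]
    simp [hw]

end Cfsg.Agent.S2514
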