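import Cfsg.Statements.S2515
import Cfsg.Agent.H1.GL2s
import Cfsg.Agent.H2.PGroup

set_option autoImplicit false
open Cfsg

namespace Cfsg.Agent.S2515
open Subgroup CfsgH2
open scoped commutatorElement

open SemidirectProduct Matrix Multiplicative Finset CfsgH1 CfsgH1.L2

def ph (H A : Type) [Group H] [AddCommGroup A] [DistribMulAction H A] : H →* MulAut (Multiplicative A) where
  toFun g := AddEquiv.toMultiplicative (DistribMulAction.toAddEquiv A g)
  map_one' := MulEquiv.ext fun v => one_smul H v.toAdd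
  map_mul' a b := MulEquiv.ext fun v => mul_smul a b v.toAdd

section gen
variable {H A : Type} [Group H] [AddCommGroup A] [DistribMulAction H A]

theorem sd_pow (y : Multiplicative A ⋊[ph H A] H)
    (n : ℕ) : y ^ n = ⟨ofAdd (∑ i ∈ range n, y.right ^ i • y.left.toAdd), y.right ^ n⟩ := by
  induction n with
  | zero => rw [pow_zero, pow_zero, sum_range_zero]; rfl
  | succ n ih => rw [pow_succ, ih, sum_range_succ, pow_succ]; rfl

theorem sd_right (y : Multiplicative A ⋊[ph H A] H) (n : ℕ) : (y ^ n).right = y.right ^ n := by rw [sd_pow]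

theorem sd_three (h3 : ∀ a : A, 3 • a = 0) (y : Multiplicative A ⋊[ph H A] H) {n : ℕ} (h : y.right ^ n = 1) :
    y ^ (n * 3) = 1 := by
  rw [pow_mul, sd_pow, sd_right, h]
  simp only [one_pow, one_smul, sum_const, card_range, h3]; rfl

theorem sd_fpf (y : Multiplicative A ⋊[ph H A] H) {n : ℕ} (h : y.right ^ n = 1) (m : ℕ)
    (f : ∀ a : A, y.right ^ m • a = a → a = 0) : y ^ n = 1 := by
  have k : y ^ n = inl (y ^ n).left := SemidirectProduct.ext rfl (by rw [sd_right, h, right_inl])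
  have c : y ^ m * y ^ n = y ^ n * y ^ m := (Commute.pow_pow_self y m n).eq
  rw [k] at c
  have c := congrArg SemidirectProduct.left c
  simp only [mul_left, left_inl, right_inl, map_one, MulAut.one_apply] at c
  have c := mul_left_cancel (c.trans (mul_comm _ _))
  rw [sd_right] at c
  have : (y ^ n).left = 1 := f _ c
  rw [k, this, map_one]
end gen

variable {F : Type} [Field F] [CharP F 3]
abbrev M2 (F : Type) := Matrix (Fin 2) (Fin 2) F
instance f3 : Fact (Nat.Prime 3) := ⟨Nat.prime_three⟩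

theorem three : (3 : F) = 0 := by exact_mod_cast CharP.cast_eq_zero F 3

def act (F : Type) [Field F] [CharP F 3] : S2 F × ℤˣ →* Module.End F (M2 F) where
  toFun x := x.2 • LinearMap.mulLeftRight F (x.1.1, (x.1.1.map (frobenius F 3))ᵀ)
  map_one' := LinearMap.ext fun X => by simp
  map_mul' a b := LinearMap.ext fun X => by
    simp [Matrix.map_mul, transpose_mul, Matrix.mul_assoc, smul_smul, mul_comm]

theorem act_apply (x : S2 F × ℤˣ) (X : M2 F) :
    act F x X = x.2 • (x.1.1 * X * (x.1.1.map (frobenius F 3))ᵀ) := rfl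

omit [CharP F 3] in
theorem ch {M : M2 F} (h : M.det = 1) : M * M = M.trace • M - 1 := by
  rw [det_fin_two] at h
  ext i j; fin_cases i <;> fin_cases j <;> simp [mul_apply, Fin.sum_univ_two, trace_fin_two] <;>
    first | ring1 | linear_combination -h

theorem sq1 {g : S2 F} (h : g ^ 2 = 1) (ε : ℤˣ) (X : M2 F) : act F (g, ε) X = ε • X := by
  have h1 : g.1 * g.1 = 1 := congrArg Subtype.val ((sq g).symm.trans h)
  have hd := g.2
  rw [det_fin_two] at hd
  have a := congrFun (congrFun h1 0) 0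
  have b := congrFun (congrFun h1 0) 1
  have c := congrFun (congrFun h1 1) 0
  simp [mul_apply, Fin.sum_univ_two] at a b c
  have n : g.1 0 0 + g.1 1 1 ≠ 0 := fun e => one_ne_zero (α := F) (by
    linear_combination three (F := F) - g.1 0 0 * e + a + hd)
  have b : g.1 0 1 = 0 := (mul_eq_zero.1 (by linear_combination b)).resolve_left n
  have c : g.1 1 0 = 0 := (mul_eq_zero.1 (by linear_combination c)).resolve_left n
  have a : g.1 0 0 * g.1 0 0 = 1 := by linear_combination a - g.1 1 0 * b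
  have d : g.1 1 1 = g.1 0 0 := by linear_combination g.1 0 0 * hd - g.1 1 1 * a + g.1 0 0 * g.1 1 0 * b
  have e : g.1 = g.1 0 0 • 1 := by ext i j; fin_cases i <;> fin_cases j <;> simp [b, c, d]
  have e2 : g.1.map (frobenius F 3) = g.1 0 0 • 1 := by
    ext i j; fin_cases i <;> fin_cases j <;> simp [b, c, d, frobenius_def, pow_succ, a]
  rw [act_apply, e2]
  show ε • (g.1 * X * _) = _
  generalize g.1 0 0 = t at e a
  rw [e]; simp [smul_smul, a]

theorem eps {ε : ℤˣ} (h : ε • (1 : M2 F) = 1) : ε = 1 := by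
  rcases Int.units_eq_one_or ε with e | e
  · exact e
  · have := congrFun (congrFun h 0) 0
    rw [e, Units.neg_smul, one_smul] at this
    simp at this
    exact absurd (by linear_combination three (F := F) + this) (one_ne_zero (α := F))

theorem ker {x : S2 F × ℤˣ} (h : act F x = 1) : x.1 ^ 2 = 1 ∧ x.2 = 1 := by
  have k : ∀ X, x.2 • (x.1.1 * X * (x.1.1.map (frobenius F 3))ᵀ) = X := fun X => by rw [← act_apply, h]; rfl
  have k1 := k 1
  rw [Matrix.mul_one, ← mul_smul_comm, mul_eq_one_comm] at k1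
  have k2 : ∀ X, x.1.1 * X = X * x.1.1 := fun X => by
    conv_rhs => rw [← k X, ← mul_smul_comm, Matrix.mul_assoc, k1, Matrix.mul_one]
  have a := congrFun (k2 !![0, 1; 0, 0]) 0
  have b := congrFun (congrFun (k2 !![0, 0; 1, 0]) 0) 0
  have a0 := congrFun a 0
  have a1 := congrFun a 1
  simp [mul_apply, Fin.sum_univ_two] at a0 a1 b
  have hd := x.1.2
  rw [det_fin_two, b, ← a1, zero_mul, sub_zero] at hd
  have h2 : x.1 ^ 2 = 1 := Subtype.ext (by
    rw [sq]; show x.1.1 * x.1.1 = 1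
    ext i j; fin_cases i <;> fin_cases j <;> simp [mul_apply, Fin.sum_univ_two, b, ← a0, ← a1, hd])
  exact ⟨h2, eps (F := F) ((sq1 h2 x.2 1).symm.trans (by show act F x 1 = 1; rw [h]; rfl))⟩

theorem fpf {g : S2 F} {ε : ℤˣ} (h0 : g.1.trace ≠ 0) (h1 : g.1.trace ^ 2 ≠ 1) (h2 : g.1.trace ^ 2 ≠ -1)
    {X : M2 F} (h : act F (g, ε) X = X) : X = 0 := by
  obtain ⟨e, he, hs⟩ : ∃ e : F, (e = 1 ∨ e = -1) ∧ ∀ Y : M2 F, ε • Y = e • Y := by
    rcases Int.units_eq_one_or ε with e | e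
    · exact ⟨1, .inl rfl, by simp [e]⟩
    · exact ⟨-1, .inr rfl, by simp [e]⟩
  rw [act_apply, hs] at h
  have c1 := ch g.2
  have c2 := ch (M := (g.1.map (frobenius F 3))ᵀ) (by
    rw [det_transpose, ← RingHom.mapMatrix_apply, ← RingHom.map_det, g.2, map_one])
  have c3 : ((g.1.map (frobenius F 3))ᵀ).trace = g.1.trace ^ 3 := by
    rw [trace_transpose, ← frobenius_def, trace_fin_two, trace_fin_two, map_add]; rfl
  rw [c3] at c2
  dsimp only at h
  generalize (g.1.map (frobenius F 3))ᵀ = u at *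
  generalize g.1.trace = t at *
  generalize g.1 = w at *
  have ee : e * e = 1 := by rcases he with rfl | rfl <;> simp
  have h3 : w * X * u = e • X := by rw [← one_smul F (w * X * u), ← ee, mul_smul, h]
  have h4 : w * w * X * u * u = X := by
    rw [show w * w * X * u * u = w * (w * X * u) * u by simp only [Matrix.mul_assoc], h3, mul_smul_comm,
      smul_mul_assoc, h]
  rw [c1, Matrix.sub_mul, Matrix.sub_mul, Matrix.sub_mul, smul_mul_assoc, smul_mul_assoc, h3, Matrix.one_mul,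
    Matrix.mul_assoc X, c2, Matrix.mul_sub, mul_smul_comm, smul_smul, smul_mul_assoc, Matrix.mul_one] at h4
  have h5 : (t * e - t ^ 3) • (X * u) = 0 := by linear_combination (norm := module) h4
  have h6 := (smul_eq_zero.1 h5).resolve_left fun z => by
    have : e = t ^ 2 := mul_left_cancel₀ h0 (by linear_combination z)
    rcases he with rfl | rfl
    exacts [h1 this.symm, h2 this.symm]
  rw [← h, Matrix.mul_assoc, h6, Matrix.mul_zero, smul_zero]

theorem dsq (g : S2 F) : (g.1 + g.1.trace • 1) * (g.1 + g.1.trace • 1) = (g.1.trace ^ 2 - 1) • 1 := by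
  have c1 := ch g.2
  simp only [Matrix.add_mul, Matrix.mul_add, smul_mul_assoc, mul_smul_comm, Matrix.mul_one, Matrix.one_mul, c1]
  have : (3 : F) • g.1.trace • g.1 = 0 := by rw [three, zero_smul]
  linear_combination (norm := module) this

theorem pow_q (g : S2 F) (α : ℕ) (ht : g.1.trace ^ 3 ^ α = g.1.trace) :
    (g.1 + g.1.trace • 1) ^ 3 ^ α = g.1 ^ 3 ^ α + g.1.trace • 1 := by
  rw [add_pow_char_pow_of_commute _ _ ((Commute.one_right _).smul_right _), smul_pow, one_pow, ht]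

theorem unip {g : S2 F} (h : g.1.trace ^ 2 = 1) : (g ^ 3) ^ 2 = 1 := by
  have h1 := dsq g
  have h2 := pow_q g 1 (by rw [pow_one, pow_succ, h, one_mul])
  rw [pow_one, pow_succ, sq, h1, h, sub_self, zero_smul, Matrix.zero_mul, eq_comm, add_eq_zero_iff_eq_neg] at h2
  refine Subtype.ext ?_
  rw [Matrix.SpecialLinearGroup.coe_pow, Matrix.SpecialLinearGroup.coe_pow, h2, neg_sq, smul_pow, h, one_pow, one_smul]
  rfl

theorem semis [Fintype F] {α m : ℕ} (hq : Fintype.card F = 3 ^ α) (hm : 3 ^ α = 2 * m + 1) {g : S2 F}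
    (h : g.1.trace ^ 2 ≠ 1) : g ^ (2 * m) = 1 ∨ g ^ (2 * m + 2) = 1 := by
  have h2 := pow_q g α (by rw [← hq, FiniteField.pow_card])
  have h3 := FiniteField.pow_card_sub_one_eq_one _ (sub_ne_zero.2 h)
  rw [hq, hm, Nat.add_sub_cancel, mul_comm, pow_mul, sq_eq_one_iff] at h3
  rw [hm, pow_succ, pow_mul, sq, dsq, smul_pow, one_pow, smul_mul_assoc, Matrix.one_mul] at h2
  rcases h3 with e | e <;> rw [e] at h2
  · left
    refine mul_right_cancel (b := g) (Subtype.ext ?_)
    rw [← pow_succ, one_mul, Matrix.SpecialLinearGroup.coe_pow]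
    rw [one_smul, add_left_inj] at h2
    exact h2.symm
  · right
    refine Subtype.ext ?_
    have c1 := ch g.2
    have : (3 : F) • g.1.trace • (1 : M2 F) = 0 := by rw [three, zero_smul]
    have h4 : g.1 ^ (2 * m + 1) = g.1.trace • 1 - g.1 := by linear_combination (norm := module) -h2 - this
    rw [Matrix.SpecialLinearGroup.coe_pow, pow_succ, h4, Matrix.sub_mul, c1, smul_mul_assoc, Matrix.one_mul,
      sub_sub_cancel]
    rfl

abbrev KK (F : Type) [Field F] [CharP F 3] := (act F).toHomUnits.range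
abbrev GG (F : Type) [Field F] [CharP F 3] := Multiplicative (M2 F) ⋊[ph (KK F) (M2 F)] KK F
def kk (F : Type) [Field F] [CharP F 3] : S2 F × ℤˣ →* KK F := (act F).toHomUnits.rangeRestrict

theorem kk_smul (x : S2 F × ℤˣ) (X : M2 F) : kk F x • X = act F x X := rfl
theorem kk_one {x : S2 F × ℤˣ} : kk F x = 1 ↔ x.1 ^ 2 = 1 ∧ x.2 = 1 :=
  ⟨fun h => ker (congrArg (fun k : KK F => k.1.1) h), fun h => Subtype.ext (Units.ext (LinearMap.ext fun X =>
    (sq1 h.1 x.2 X).trans (by rw [h.2, one_smul]; rfl)))⟩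
theorem m3 (X : M2 F) : 3 • X = 0 := by rw [← Nat.cast_smul_eq_nsmul F, CharP.cast_eq_zero, zero_smul]

theorem upper [Fintype F] {α j : ℕ} (hq : Fintype.card F = 3 ^ α) (hj : 3 ^ α = 24 * j + 3) (y : GG F) :
    ∃ n ∈ ({6, 9, 24 * j + 2, 12 * j + 2} : Set ℕ), y ^ n = 1 := by
  obtain ⟨⟨g, ε⟩, e⟩ : ∃ x, kk F x = y.right := MonoidHom.rangeRestrict_surjective _ _
  by_cases h1 : g.1.trace ^ 2 = 1
  · rcases Int.units_eq_one_or ε with rfl | rfl
    · exact ⟨9, by simp, sd_three m3 y (n := 3) (by rw [← e, ← map_pow, kk_one]; exact ⟨unip h1, one_pow _⟩)⟩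
    · refine ⟨6, by simp, sd_fpf y ?_ 3 fun a ha => ?_⟩
      · rw [← e, ← map_pow, kk_one]
        exact ⟨by show (g ^ (3 * 2)) ^ 2 = 1; rw [pow_mul, unip h1, one_pow], rfl⟩
      · rw [← e, ← map_pow, kk_smul] at ha
        have h2 := (sq1 (unip h1) ((-1) ^ 3) a).symm.trans ha
        rw [show (-1 : ℤˣ) ^ 3 = -1 by decide, Units.neg_smul, one_smul] at h2
        have := m3 a
        linear_combination (norm := module) this + h2
  by_cases h0 : g.1.trace = 0
  · refine ⟨6, by simp, sd_three m3 y (n := 2) ?_⟩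
    rw [← e, ← map_pow, kk_one]
    refine ⟨Subtype.ext ?_, Int.units_sq ε⟩
    have c := ch g.2
    rw [h0, zero_smul, zero_sub] at c
    show ((g ^ 2) ^ 2).1 = 1
    rw [Matrix.SpecialLinearGroup.coe_pow, Matrix.SpecialLinearGroup.coe_pow, sq g.1, c, neg_one_sq]
  have f : ∀ a : M2 F, y.right ^ 1 • a = a → a = 0 := fun a ha => by
    rw [pow_one, ← e, kk_smul] at ha
    exact fpf h0 h1 (fun z => FiniteField.isSquare_neg_one_iff.1 ⟨_, z.symm.trans (sq _)⟩ (by omega)) ha
  have ev : ∀ n, ε ^ (2 * n) = 1 := fun n => by rw [pow_mul, Int.units_sq, one_pow]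
  rcases semis hq (m := 12 * j + 1) (by omega) h1 with h | h
  · refine ⟨24 * j + 2, by simp, sd_fpf y ?_ 1 f⟩
    rw [← e, ← map_pow, kk_one, show 24 * j + 2 = 2 * (12 * j + 1) by ring]
    exact ⟨by show (g ^ _) ^ 2 = 1; rw [h, one_pow], ev _⟩
  · refine ⟨12 * j + 2, by simp, sd_fpf y ?_ 1 f⟩
    rw [← e, ← map_pow, kk_one]
    refine ⟨by show (g ^ _) ^ 2 = 1; rw [← pow_mul, ← h]; congr 1; ring, ?_⟩
    rw [show 12 * j + 2 = 2 * (6 * j + 1) by ring]
    exact ev _

theorem ord_dvd (g : S2 F) (ε : ℤˣ) (n : ℕ) :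
    orderOf (inr (kk F (g, ε)) : GG F) ∣ n ↔ orderOf g ∣ n * 2 ∧ ε ^ n = 1 := by
  rw [orderOf_injective inr inr_injective, orderOf_dvd_iff_pow_eq_one, orderOf_dvd_iff_pow_eq_one, ← map_pow, kk_one,
    pow_mul]; rfl

theorem lower [Fintype F] {α j : ℕ} (hq : Fintype.card F = 3 ^ α) (hj : 3 ^ α = 24 * j + 3) :
    ∀ n ∈ ({6, 9, 24 * j + 2, 12 * j + 2} : Set ℕ), ∃ y : GG F, orderOf y = n := by
  let u : S2 F := ⟨!![1, 1; 0, 1], by simp [det_fin_two]⟩
  have u3 : u ^ 3 = 1 := Subtype.ext (by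
    rw [Matrix.SpecialLinearGroup.coe_pow]
    ext i j; fin_cases i <;> fin_cases j <;> simp [u, pow_succ, mul_apply, Fin.sum_univ_two]
    linear_combination three (F := F))
  have ou : orderOf u = 3 := orderOf_eq_prime u3 fun e => by simpa [u] using congrArg (fun g : S2 F => g.1 0 1) e
  have par : ∀ {n}, (-1 : ℤˣ) ^ n = 1 → 2 ∣ n := fun h => by
    rw [← even_iff_two_dvd]; exact (neg_one_pow_eq_one_iff_even (by decide)).1 h
  rintro n (rfl | rfl | rfl | rfl)
  · refine ⟨inr (kk F (u, -1)), Nat.dvd_antisymm ((ord_dvd _ _ _).2 ⟨by rw [ou]; norm_num, rfl⟩) ?_⟩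
    obtain ⟨a, b⟩ := (ord_dvd u (-1) _).1 dvd_rfl
    have := par b
    rw [ou] at a
    omega
  · have h3 : kk F (u, 1) ^ 3 = 1 := by
      rw [← map_pow, kk_one]; exact ⟨by show (u ^ 3) ^ 2 = 1; rw [u3, one_pow], one_pow _⟩
    refine ⟨⟨ofAdd !![0, 0; 0, 1], kk F (u, 1)⟩, orderOf_eq_prime_pow (p := 3) (n := 1) (fun e => ?_)
      (sd_three m3 _ (n := 3) h3)⟩
    rw [pow_one, sd_pow] at e
    have e : ∑ i ∈ range 3, kk F (u, 1) ^ i • (!![0, 0; 0, 1] : M2 F) = 0 :=
      congrArg (fun z : GG F => z.left.toAdd) e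
    have e := congrFun (congrFun e 0) 0
    simp only [sum_range_succ, sum_range_zero, pow_succ, pow_zero, one_mul, mul_smul, one_smul, kk_smul,
      act_apply] at e
    have fu : (u.1.map (frobenius F 3))ᵀ = !![1, 0; 1, 1] := by
      ext i j; fin_cases i <;> fin_cases j <;> simp [u]
    rw [fu] at e
    simp [u, mul_apply, Fin.sum_univ_two, vecMul, dotProduct] at e
    exact one_ne_zero (α := F) (by linear_combination 2 * three (F := F) - e)
  · obtain ⟨a, ha⟩ := IsCyclic.exists_ofOrder_eq_natCard (α := Fˣ)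
    let f : Fˣ →* S2 F := MonoidHom.mk' (fun a => utS a 0) fun a b => by simp [utS_mul]
    have o : orderOf (f a) = (12 * j + 1) * 2 := by
      rw [orderOf_injective f (fun a b e => (utS_inj.1 e).1), ha, card_units', hq, hj]; omega
    refine ⟨inr (kk F (f a, -1)), Nat.dvd_antisymm ((ord_dvd _ _ _).2 ⟨by rw [o]; exact ⟨2, by ring⟩,
      Even.neg_one_pow ⟨12 * j + 1, by ring⟩⟩) ?_⟩
    obtain ⟨a, b⟩ := (ord_dvd (f a) (-1) _).1 dvd_rfl
    rw [o] at a
    rw [show 24 * j + 2 = (12 * j + 1) * 2 by ring]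
    exact Nat.Coprime.mul_dvd_of_dvd_of_dvd (Nat.coprime_two_right.2 ⟨6 * j, by ring⟩)
      (Nat.dvd_of_mul_dvd_mul_right two_pos a) (par b)
  · obtain ⟨w, hw⟩ := exists_ellS (F := F)
    haveI := hw.isCyclicS
    obtain ⟨a, ha⟩ := IsCyclic.exists_ofOrder_eq_natCard (α := centralizer ({w} : Set (S2 F)))
    have o : orderOf a.1 = (12 * j + 2) * 2 := by rw [orderOf_coe, ha, hw.card_centS, hq, hj]; omega
    refine ⟨inr (kk F (a.1, 1)), Nat.dvd_antisymm ((ord_dvd _ _ _).2 ⟨o.dvd, one_pow _⟩) ?_⟩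
    obtain ⟨b, -⟩ := (ord_dvd a.1 1 _).1 dvd_rfl
    rw [o] at b
    exact Nat.dvd_of_mul_dvd_mul_right two_pos b

theorem anti {j : ℕ} (hj : 1 ≤ j) : ∀ a ∈ ({6, 9, 24 * j + 2, 12 * j + 2} : Set ℕ),
    ∀ b ∈ ({6, 9, 24 * j + 2, 12 * j + 2} : Set ℕ), a ∣ b → b = a := by
  have h1 : ¬ 12 * j + 2 ∣ 24 * j + 2 := fun h => by
    have := (Nat.dvd_add_right h).1 (show 12 * j + 2 ∣ 24 * j + 2 + 2 from ⟨2, by ring⟩)
    have := Nat.le_of_dvd two_pos this
    omega
  rintro a (rfl | rfl | rfl | rfl) b (rfl | rfl | rfl | rfl) h <;>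
    first | rfl | omega | exact absurd h h1 | (have := Nat.le_of_dvd (by omega) h; omega)

/-- Let q = 3^α with α ≥ 3 odd. There is a finite group H having a non-trivial normal 3-subgroup and whose element orders maximal under divisibility are exactly 6, 9, q − 1 and (q + 1)/2. -/
theorem result (α : ℕ) (hα : 3 ≤ α) (hodd : Odd α) :
    ∃ (H : Type) (_ : Group H) (_ : Fintype H), (∃ P : Subgroup H, P.Normal ∧ P ≠ ⊥ ∧ IsPGroup 3 ↥P) ∧
      {n : ℕ | n ∈ Set.range (orderOf : H → ℕ) ∧ ∀ m ∈ Set.range (orderOf : H → ℕ), n ∣ m → m = n} = ({6, 9, 3 ^ α - 1, (3 ^ α + 1) / 2} : Set ℕ) := by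
  haveI : Fintype (GaloisField 3 α) := Fintype.ofFinite _
  have hq : Fintype.card (GaloisField 3 α) = 3 ^ α := by
    rw [← Nat.card_eq_fintype_card, GaloisField.card 3 α (by omega)]
  obtain ⟨j, j1, hj⟩ : ∃ j, 1 ≤ j ∧ 3 ^ α = 24 * j + 3 := by
    obtain ⟨b, rfl⟩ := hodd
    have h1 : 9 ^ b % 8 = 1 := by rw [Nat.pow_mod]; simp
    have h2 : 9 ^ 1 ≤ 9 ^ b := Nat.pow_le_pow_right (by norm_num) (by omega)
    refine ⟨9 ^ b / 8, by omega, ?_⟩
    rw [pow_succ, pow_mul]; norm_num; omega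
  haveI : Finite (KK (GaloisField 3 α)) := Finite.of_surjective _ (MonoidHom.rangeRestrict_surjective _)
  haveI : Finite (GG (GaloisField 3 α)) := Finite.of_equiv _ equivProd.symm
  refine ⟨GG (GaloisField 3 α), inferInstance, Fintype.ofFinite _, ⟨(inl : _ →* _).range, ?_, fun e => ?_, ?_⟩, ?_⟩
  · rw [range_inl_eq_ker_rightHom]; infer_instance
  · obtain ⟨v, hv⟩ := exists_ne (1 : Multiplicative (M2 (GaloisField 3 α)))
    exact hv (inl_injective ((Subgroup.mem_bot.1 (e.le ⟨v, rfl⟩)).trans (map_one _).symm))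
  · rintro ⟨_, v, rfl⟩
    exact ⟨1, Subtype.ext (sd_three m3 _ (n := 1) (pow_one _))⟩
  rw [hj, show 24 * j + 3 - 1 = 24 * j + 2 by omega, show (24 * j + 3 + 1) / 2 = 12 * j + 2 by omega]
  ext n
  constructor
  · rintro ⟨⟨y, rfl⟩, h⟩
    obtain ⟨m, hm, e⟩ := upper hq hj y
    exact h m (lower hq hj m hm) (orderOf_dvd_of_pow_eq_one e) ▸ hm
  · refine fun hn => ⟨lower hq hj n hn, ?_⟩
    rintro _ ⟨y, rfl⟩ d
    obtain ⟨m, hm, e⟩ := upper hq hj y
    have d2 := orderOf_dvd_of_pow_eq_one e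
    exact Nat.dvd_antisymm (anti j1 n hn m hm (d.trans d2) ▸ d2) d


end Cfsg.Agent.S2515
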