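import Cfsg.Statements.S2516
import Mathlib
import Cfsg.Agent.H8.Spectrum

set_option autoImplicit false
open Cfsg

namespace Cfsg.Agent.S2516

/-- Let F be a field of characteristic p > 0, V a non-zero finite-dimensional F-vector space, G a finite group and ρ a representation of G on V; form the semidirect product V ⋊ G. For g ∈ G of order k, the coset Vg contains an element of order pk if and only if the minimal polynomial of ρ(g) does not divide 1 + X + ⋯ + X^(k−1). -/
theorem result {F : Type*} [Field F] (p : ℕ) [Fact p.Prime] [CharP F p] {V : Type*} [AddCommGroup V] [Module F V] [FiniteDimensional F V] [Nontrivial V]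
    {G : Type*} [Group G] [Finite G] (ρ : Representation F G V) (g : G) :
    (∃ x : Multiplicative V ⋊[(MulAutMultiplicative V).symm.toMonoidHom.comp
        ((DistribMulAction.toAddAut ((V →ₗ[F] V)ˣ) V).comp ρ.asGroupHom)] G,
        x.right = g ∧ orderOf x = p * orderOf g) ↔
      ¬ (minpoly F (ρ g) ∣ ∑ i ∈ Finset.range (orderOf g), (Polynomial.X : Polynomial F) ^ i) := by
  set φ := (MulAutMultiplicative V).symm.toMonoidHom.comp
        ((DistribMulAction.toAddAut ((V →ₗ[F] V)ˣ) V).comp ρ.asGroupHom) with hφ
  have hφa : ∀ (h : G) (v : Multiplicative V), (φ h v).toAdd = ρ h v.toAdd := by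
    intro h v
    rfl
  have hpow : ∀ (x : Multiplicative V ⋊[φ] G) (n : ℕ), (x ^ n).right = x.right ^ n ∧
      (x ^ n).left.toAdd = (∑ i ∈ Finset.range n, ρ x.right ^ i) x.left.toAdd := by
    intro x n
    induction n with
    | zero => simp
    | succ n ih =>
      rw [pow_succ, SemidirectProduct.mul_right, SemidirectProduct.mul_left, ih.1, pow_succ,
        toAdd_mul, ih.2, hφa, Finset.sum_range_succ, map_pow]
      simp
  have hp : p.Prime := Fact.out
  have hexp : ∀ x : Multiplicative V ⋊[φ] G, x.right = 1 → x ^ p = 1 := by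
    intro x hx
    ext
    · apply Multiplicative.toAdd.injective
      rw [(hpow x p).2, hx]
      simp only [map_one, one_pow, Finset.sum_const, Finset.card_range, SemidirectProduct.one_left,
        toAdd_one]
      rw [← Nat.cast_smul_eq_nsmul F, CharP.cast_eq_zero]; simp
    · rw [(hpow x p).1, hx]; simp
  have hint : IsIntegral F (ρ g) := Algebra.IsIntegral.isIntegral _
  rw [minpoly.dvd_iff, map_sum]
  simp only [map_pow, Polynomial.aeval_X]
  have hk := orderOf_pos g
  constructor
  · rintro ⟨x, rfl, hx⟩ h0
    have : x ^ orderOf x.right = 1 := by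
      ext
      · apply Multiplicative.toAdd.injective
        rw [(hpow x _).2, h0]; simp
      · rw [(hpow x _).1]; simp [pow_orderOf_eq_one]
    have h1 := Nat.le_of_dvd hk (hx ▸ orderOf_dvd_of_pow_eq_one this)
    have := hp.two_le
    nlinarith
  · intro h0
    obtain ⟨v, hv⟩ : ∃ v, (∑ i ∈ Finset.range (orderOf g), ρ g ^ i) v ≠ 0 := by
      by_contra hc
      push Not at hc
      exact h0 (LinearMap.ext hc)
    refine ⟨⟨Multiplicative.ofAdd v, g⟩, rfl, ?_⟩
    set x : Multiplicative V ⋊[φ] G := ⟨Multiplicative.ofAdd v, g⟩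
    have h1 : x ^ orderOf g ≠ 1 := by
      intro h
      have := (hpow x (orderOf g)).2
      rw [h] at this
      exact hv this.symm
    have h2 : (x ^ orderOf g) ^ p = 1 := hexp _ (by rw [(hpow x _).1]; exact pow_orderOf_eq_one g)
    have h3 : orderOf g ∣ orderOf x := orderOf_map_dvd SemidirectProduct.rightHom x
    have h4 := orderOf_eq_prime h2 h1
    have hfin : orderOf x ≠ 0 := by
      rw [orderOf_ne_zero_iff, isOfFinOrder_iff_pow_eq_one]
      exact ⟨orderOf g * p, Nat.mul_pos hk hp.pos, by rw [pow_mul, h2]⟩
    rw [orderOf_pow_of_dvd hk.ne' h3] at h4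
    rw [← h4, Nat.div_mul_cancel h3]

end Cfsg.Agent.S2516
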