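import Cfsg.Statements.S2517
import Cfsg.Agent.H5.El24

set_option autoImplicit false
open Cfsg

namespace Cfsg.Agent.S2517

open CfsgH5 Pointwise Module Polynomial

/-- Let F be a finite field of odd order q, let Ω₉ be the simple orthogonal group PΩ(9, F), and let Ω₈⁻ be the commutator subgroup of the isometry group of a minus-type non-singular quadratic form on V = F⁸ (the simple group PΩ⁻(8, F), acting on its natural module V). Then Ω₉ and the semidirect product V ⋊ Ω₈⁻ have exactly the same set of element orders. -/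
theorem result {F : Type*} [Field F] [Fintype F] (hF : Odd (Fintype.card F)) (a b : F)
    (hab : ∀ z₁ z₂ : F, z₁ ^ 2 + a * z₁ * z₂ + b * z₂ ^ 2 = 0 → z₁ = 0 ∧ z₂ = 0) :
    Set.range (orderOf : Cfsg.POmega F (Cfsg.quadFormOdd 4 F) → ℕ) =
      Set.range (orderOf :
        (Multiplicative (((Fin 3 ⊕ Fin 3) ⊕ Fin 2) → F)) ⋊[
          (MulAutMultiplicative (((Fin 3 ⊕ Fin 3) ⊕ Fin 2) → F)).symm.toMonoidHom.comp
           ((DistribMulAction.toAddAut (LinearMap.GeneralLinearGroup F (((Fin 3 ⊕ Fin 3) ⊕ Fin 2) → F))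
              (((Fin 3 ⊕ Fin 3) ⊕ Fin 2) → F)).comp
            (Matrix.GeneralLinearGroup.toLin.toMonoidHom.comp
              ((Cfsg.isometryGroup F (Cfsg.quadFormMinus 3 F a b)).subtype.comp
                (Cfsg.Omega F (Cfsg.quadFormMinus 3 F a b)).subtype)))]
          ↥(Cfsg.Omega F (Cfsg.quadFormMinus 3 F a b)) → ℕ) := by
  classical
  obtain ⟨p, _⟩ := CharP.exists F
  haveI hp := Fact.mk (CharP.char_is_prime F p)
  have h2 := two_ne_zero_of_odd hF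
  have hG := gen_of_two_ne_zero h2
  have hS := oddForm_nondeg (F := F) 4 h2
  have hV : finrank F (Unit ⊕ (Fin 4 ⊕ Fin 4) → F) = 2 * 4 + 1 := by simp
  have hP := minusForm_nondeg 3 hab
  have hT := Form.tp_eq_neg_one_iff.2 (minusForm_not_isPlus 3 hab)
  have hW : finrank F (((Fin 3 ⊕ Fin 3) ⊕ Fin 2) → F) = 8 := by simp
  ext N
  rw [om_range (oddForm_Q 4) hS (by omega) hV, aff_range (omHom _) (omHom_inj _) (fun _ _ => rfl)
    (range_omHom (minusForm_Q 3 a b))]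
  generalize oddForm 4 F = S at hS
  generalize minusForm 3 F a b = P at hP hT
  constructor
  · rintro ⟨h, a1, a2⟩
    obtain ⟨s, ε, μ, b1, b2, b3, b4⟩ := hS.om_prim h2 a1
    obtain ⟨n, hn⟩ := b1.1
    suffices ∃ g ∈ P.om, ∀ M, M ≠ 0 → (∀ x ∈ ed g.toLinearMap, x * (X - 1) ∣ X ^ M - 1) → (∀ x ∈ s, ro x ∣ M) ∧
        ∃ i, p ^ i ∣ M ∧ μ.sum ≤ p ^ i by
      obtain ⟨g, c1, c2⟩ := this
      refine ⟨g, c1, fun M hM => M.eq_zero_or_pos.elim (· ▸ dvd_zero _) fun h0 => a2.trans ?_⟩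
      obtain ⟨c3, i, c4, c5⟩ := c2 M h0.ne' hM
      refine orderOf_dvd_of_pow_eq_one (pow_eq_one_iff_ed.2 fun x hx => (Multiset.mem_add.1 (b2 ▸ hx)).elim
        (fun c => ro_dvd.1 (c3 x c)) fun c => ?_)
      obtain ⟨e, he, rfl⟩ := Multiset.mem_map.1 c
      exact ro_dvd.1 ((ro_pow p (M := 1) (by simp) ((Multiset.single_le_sum (by simp) e he).trans c5)).trans (by simpa))
    by_cases c : n = 4 ∧ ε = 1
    · obtain ⟨-, A, _, _, _, S0, c1, c2, x, c3, -, c4, rfl⟩ := b1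
      obtain ⟨g, d1, d2⟩ := hard8 hF hP hW hT c1 (by rw [← dg0_ed x.toLinearMap]; omega) (c2.trans c.2) c3 c4 b3
      exact ⟨g, d1, fun M e1 e2 => ⟨fun y hy => ro_dvd.2 (pow_eq_one_iff_ed.1 (d2 M e1 e2) y hy), 0, by simp, by
        simp; omega⟩⟩
    obtain ⟨g, d1, d2⟩ := b1.univ p h2 hP (e := 4 - n) (by omega) fun e => hT ▸ (Int.units_eq_one_or ε).resolve_left
      fun e' => c ⟨by omega, e'⟩
    exact ⟨g, d1, fun M e1 e2 => let ⟨f1, i, f2, f3, _⟩ := d2 M e1 e2; ⟨f1, i, f2, by omega⟩⟩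
  rintro ⟨g, a1, a2⟩
  obtain ⟨s, ε, μ, b1, b2, b3, b4⟩ := hP.om_prim h2 a1
  obtain ⟨n, hn⟩ := b1.1
  obtain ⟨U, c1, c2, -, x, c3, c4, c5, c6⟩ := b1.sub h2 hS (by omega) (by omega)
  have c7 := c1.finrank_add
  obtain ⟨u, d1, d2⟩ := Form.orth_exists_ru (4 - n) (c1.perp hS).res (by omega)
  obtain ⟨d3, d4⟩ := (c1.perp hS).res.nil_sp h2 d1 ((ru_iff (by omega)).1 d2).1
  obtain ⟨h, e1, e2, e3, e4⟩ := c1.glue_ed c3 d1
  obtain ⟨e5, e6⟩ := c1.glue_spin h2 hS c3 d1 e2 e3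
  rw [ed_eq_jt ((ru_iff (by omega)).1 d2).1, ((ru_iff (by omega)).1 d2).2, c6, Multiset.map_singleton] at e4
  have e7 := ed_ord (g := h) (a := (X - 1) ^ finrank F (S.perp U)) (by simp [e4])
  refine ⟨h, (hS.mem_om_iff (.inl hG)).2 ⟨e1, by rw [e5, c4, d3, one_mul], by rw [e6, c5, d4, one_mul]⟩, a2 _ fun y hy =>
    (Multiset.mem_add.1 (b2 ▸ hy)).elim (fun c => (cop_one (b3 y c)).mul_dvd (ed_ord (by simp [e4, c]))
      (by simpa using sub_dvd_pow_sub_pow (X : F[X]) 1 _)) fun c => ?_⟩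
  obtain ⟨e, he, rfl⟩ := Multiset.mem_map.1 c
  have := Multiset.single_le_sum (by simp) e he
  exact pow_succ (X - 1 : F[X]) e ▸ (pow_dvd_pow _ (by omega)).trans e7

end Cfsg.Agent.S2517
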