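import Cfsg.Statements.S2521
import Cfsg.Agent.H1.PG2

set_option autoImplicit false
open Cfsg

namespace Cfsg.Agent.S2521

/-- Let B be a finite group that is the semidirect product of a nilpotent normal subgroup U by an abelian subgroup T (U ∩ T = 1, UT = B), and let t ∈ T have centralizer exactly T. Then every element of the coset tU is conjugate to t in B: for each u ∈ U there is b ∈ B with b t b⁻¹ = t u. -/
theorem result {B : Type*} [Group B] [Finite B] (U T : Subgroup B) [U.Normal] (hU : Group.IsNilpotent ↥U) (hT : IsMulCommutative ↥T)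
    (hcompl : Subgroup.IsComplement' U T) (t : B) (ht : t ∈ T) (hreg : Subgroup.centralizer ({t} : Set B) = T) (u : B) (hu : u ∈ U) :
    ∃ b : B, b * t * b⁻¹ = t * u := by
  open Subgroup CfsgH1 CfsgFT CfsgH2 in
  have h1 : {y | IsConj t y} = (fun u => t * u) '' U := Set.eq_of_subset_of_ncard_le (fun y hy => by
    obtain ⟨b, rfl⟩ := isConj_iff.1 hy
    obtain ⟨⟨v, s⟩, rfl⟩ := hcompl.2 b
    refine ⟨t⁻¹ * v * t⁻¹⁻¹ * v⁻¹, mul_mem (Normal.conj_mem inferInstance _ v.2 _) (inv_mem v.2), ?_⟩
    simp [mul_assoc, ← mul_comm_of_isMulCommutative hT ht s.2]) (by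
    rw [Set.ncard_image_of_injective _ (mul_right_injective t)]
    exact (hcompl.index_eq_card.symm.trans (hreg ▸ (card_cls_eq_index t).symm)).le)
  exact isConj_iff.1 (h1.ge ⟨u, hu, rfl⟩)

end Cfsg.Agent.S2521
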