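import Cfsg.Statements.S2525
import Cfsg.Agent.H6.Pg2

set_option autoImplicit false
open Cfsg

namespace Cfsg.Agent.S2525

/-- Let F be a finite field with q = 2^n elements and G = F₄(F). For an odd prime r let e(r, q) be the multiplicative order of q modulo r. Two distinct primes r, s dividing the order of G are non-adjacent in the prime graph of G (no element of order rs) if and only if, up to swapping r and s, either r = 2 and e(s, q) ∈ {8, 12}, or r, s are both odd with k = e(r, q) < l = e(s, q) and one of: l ∈ {8, 12}; l = 6 and k ∈ {3, 4}; l = 4 and k = 3. -/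
theorem result {F : Type*} [Field F] [Fintype F] (n : ℕ) (hn : 1 ≤ n) (hF : Fintype.card F = 2 ^ n)
    (r s : ℕ) (hr : r.Prime) (hs : s.Prime) (hrs : r ≠ s) (hrG : r ∣ Nat.card ↥(Cfsg.Lie.chevF4.group F)) (hsG : s ∣ Nat.card ↥(Cfsg.Lie.chevF4.group F)) :
    (¬ ∃ x : ↥(Cfsg.Lie.chevF4.group F), orderOf x = r * s) ↔
      ((r = 2 ∧ orderOf ((Fintype.card F : ℕ) : ZMod s) ∈ ({8, 12} : Finset ℕ)) ∨ (s = 2 ∧ orderOf ((Fintype.card F : ℕ) : ZMod r) ∈ ({8, 12} : Finset ℕ)) ∨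
       (r ≠ 2 ∧ s ≠ 2 ∧
         ((orderOf ((Fintype.card F : ℕ) : ZMod r) < orderOf ((Fintype.card F : ℕ) : ZMod s) ∧ (orderOf ((Fintype.card F : ℕ) : ZMod s) ∈ ({8, 12} : Finset ℕ) ∨ (orderOf ((Fintype.card F : ℕ) : ZMod s) = 6 ∧ orderOf ((Fintype.card F : ℕ) : ZMod r) ∈ ({3, 4} : Finset ℕ)) ∨ (orderOf ((Fintype.card F : ℕ) : ZMod s) = 4 ∧ orderOf ((Fintype.card F : ℕ) : ZMod r) = 3))) ∨
          (orderOf ((Fintype.card F : ℕ) : ZMod s) < orderOf ((Fintype.card F : ℕ) : ZMod r) ∧ (orderOf ((Fintype.card F : ℕ) : ZMod r) ∈ ({8, 12} : Finset ℕ) ∨ (orderOf ((Fintype.card F : ℕ) : ZMod r) = 6 ∧ orderOf ((Fintype.card F : ℕ) : ZMod s) ∈ ({3, 4} : Finset ℕ)) ∨ (orderOf ((Fintype.card F : ℕ) : ZMod r) = 4 ∧ orderOf ((Fintype.card F : ℕ) : ZMod s) = 3)))))) := by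
  have : CharP F 2 := charP_of_card_eq_prime_pow hF
  simp only [Finset.mem_insert, Finset.mem_singleton]
  by_cases h2 : r = 2
  · subst h2
    rw [CfsgH6.Chev.adj_two rfl hs hrs.symm rfl (CfsgH6.Chev.ord_dvd rfl hs hrs.symm hsG).2, not_not]
    simp [hrs.symm]
  by_cases h2' : s = 2
  · subst h2'
    rw [mul_comm, CfsgH6.Chev.adj_two rfl hr hrs rfl (CfsgH6.Chev.ord_dvd rfl hr hrs hrG).2, not_not]
    simp [hrs]
  obtain ⟨a0, a⟩ := CfsgH6.Chev.ord_dvd rfl hr h2 hrG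
  obtain ⟨b0, b⟩ := CfsgH6.Chev.ord_dvd rfl hs h2' hsG
  obtain ⟨a1, a2, a3, a4, a5⟩ := CfsgH6.ord5' hr h2 a0 rfl
  obtain ⟨b1, b2, b3, b4, b5⟩ := CfsgH6.ord5' hs h2' b0 rfl
  rw [CfsgH6.Chev.adj_odd rfl hr hs hrs h2 h2']
  simp only [List.mem_cons, List.not_mem_nil, or_false, exists_eq_or_imp, exists_eq_left, a1, a2, a3, a4, a5, b1, b2,
    b3, b4, b5, h2, h2', false_and, false_or, ne_eq, not_false_eq_true, true_and]
  generalize orderOf ((Fintype.card F : ℕ) : ZMod r) = k at a ⊢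
  generalize orderOf ((Fintype.card F : ℕ) : ZMod s) = l at b ⊢
  have hk : k ≤ 12 := a.elim (fun h => (Nat.le_of_dvd (by omega) h).trans (by omega)) (Nat.le_of_dvd (by omega))
  have hl : l ≤ 12 := b.elim (fun h => (Nat.le_of_dvd (by omega) h).trans (by omega)) (Nat.le_of_dvd (by omega))
  have h1 : k = 1 ∨ k = 2 ∨ k = 3 ∨ k = 4 ∨ k = 6 ∨ k = 8 ∨ k = 12 := by
    clear * - a hk; interval_cases k <;> omega
  have h3 : l = 1 ∨ l = 2 ∨ l = 3 ∨ l = 4 ∨ l = 6 ∨ l = 8 ∨ l = 12 := by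
    clear * - b hl; interval_cases l <;> omega
  clear * - h1 h3
  rcases h1 with rfl | rfl | rfl | rfl | rfl | rfl | rfl <;> rcases h3 with rfl | rfl | rfl | rfl | rfl | rfl | rfl <;>
    decide

end Cfsg.Agent.S2525
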