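import Cfsg.Statements.S2531
import Cfsg.Agent.H5.Lin

set_option autoImplicit false
open Cfsg

namespace Cfsg.Agent.S2531

open CfsgH5 Module

/-- Let `F` be a finite field and `n ≥ 3`. No set of permutations of the points of the projective space of `Fⁿ`, each induced by an invertible semilinear transformation of `Fⁿ` (so a subset of the full projective semilinear group), is sharply 2-transitive on the points: it is impossible that for all pairs of distinct points `(a, b)` and `(c, d)` exactly one member of the set sends `a` to `c` and `b` to `d`. -/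
theorem result {F : Type*} [Field F] [Finite F]
    (n : ℕ) (hn : 3 ≤ n) (S : Set (Equiv.Perm (Projectivization F (Fin n → F))))
    (hS : ∀ s ∈ S, ∃ (σ : F ≃+* F) (f : (Fin n → F) →ₛₗ[(σ : F →+* F)] (Fin n → F)) (hf : Function.Injective f),
      ∀ x, s x = Projectivization.map f hf x) :
    ¬ (∀ a b c d : Projectivization F (Fin n → F), a ≠ b → c ≠ d →
        ∃! s, s ∈ S ∧ s a = c ∧ s b = d) := by
  classical
  intro H
  obtain ⟨p, _⟩ := CharP.exists F
  haveI := Fact.mk (CharP.char_is_prime F p)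
  have hq : (Nat.card F : ZMod p) = 0 := by
    haveI := Fintype.ofFinite F
    rw [ZMod.natCast_eq_zero_iff, Nat.card_eq_fintype_card]
    exact (CharP.cast_eq_zero_iff F p _).1 (FiniteField.cast_card_eq_zero F)
  have cnt : ∀ U : Submodule F (Fin n → F), U ≠ ⊥ →
      (Nat.card {x : Projectivization F (Fin n → F) // x.rep ∈ U} : ZMod p) = 1 := fun U hU => by
    have h : ∀ x : Projectivization F U, (Projectivization.map U.subtype U.injective_subtype x).rep ∈ U := fun x => by
      induction x using Projectivization.ind with | h v hv => ?_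
      obtain ⟨c, hc⟩ := Projectivization.exists_smul_eq_mk_rep F (U.subtype v) (by simpa)
      rw [Projectivization.map_mk, ← hc]
      exact U.smul_mem _ v.2
    rw [← Nat.card_congr (Equiv.ofBijective (fun x : Projectivization F U => (⟨_, h x⟩ :
      {x : Projectivization F (Fin n → F) // x.rep ∈ U})) ⟨fun x y e =>
        Projectivization.map_injective _ U.injective_subtype (congrArg Subtype.val e), fun x => ⟨.mk F ⟨_, x.2⟩ fun e =>
          x.1.rep_nonzero (congrArg Subtype.val e), Subtype.ext (by simp [Projectivization.map_mk])⟩⟩),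
      Projectivization.card_of_finrank F U rfl]
    obtain ⟨k, hk⟩ := Nat.exists_eq_succ_of_ne_zero (mt Submodule.finrank_eq_zero.1 hU)
    simp [hk, Finset.sum_range_succ', hq]
  let i : Fin n := ⟨0, by omega⟩
  let a : Projectivization F (Fin n → F) := .mk F (Pi.single i 1) (by simp)
  let U : Submodule F (Fin n → F) := LinearMap.ker (LinearMap.proj i)
  have hU : finrank F U + 1 = n := by
    simpa using finrank_ker_dual (φ := (LinearMap.proj i : (Fin n → F) →ₗ[F] F)) fun e => by
      simpa using LinearMap.congr_fun e (Pi.single i 1)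
  have ha : ∀ x : Projectivization F (Fin n → F), x.rep ∈ U → a ≠ x := by
    rintro _ h rfl
    obtain ⟨c, hc⟩ := Projectivization.exists_smul_eq_mk_rep F (Pi.single i 1 : Fin n → F) (by simp)
    simp [U, a, ← hc] at h
  have hU0 : U ≠ ⊥ := fun e => by rw [e, finrank_bot] at hU; omega
  let T := {s : Equiv.Perm (Projectivization F (Fin n → F)) // s ∈ S ∧ s a = a}
  haveI := Fintype.ofFinite T
  have h1 : (Nat.card T : ZMod p) = 0 := by
    obtain ⟨v, hv, h0⟩ := U.exists_mem_ne_zero_of_ne_bot hU0
    have hb : a ≠ .mk F v h0 := ha _ (by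
      obtain ⟨c, hc⟩ := Projectivization.exists_smul_eq_mk_rep F v h0
      exact hc ▸ U.smul_mem _ hv)
    have h2 := cnt ⊤ fun e => hU0 (le_bot_iff.1 (e ▸ le_top))
    rw [Nat.card_congr (Equiv.ofBijective (fun s : T => (⟨s.1 (.mk F v h0), fun e => hb (s.1.injective
      (s.2.2.trans e.symm))⟩ : {x // ¬ x = a})) ⟨fun s t e => Subtype.ext ((H a _ a _ hb fun e =>
        hb (s.1.injective (s.2.2.trans e))).unique ⟨s.2.1, s.2.2, rfl⟩ ⟨t.2.1, t.2.2, (congrArg Subtype.val e).symm⟩),
        fun x => by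
          obtain ⟨s, h, -⟩ := H a _ a x.1 hb (Ne.symm x.2)
          exact ⟨⟨s, h.1, h.2.1⟩, Subtype.ext h.2.2⟩⟩)]
    haveI := Fintype.ofFinite (Projectivization F (Fin n → F))
    haveI : Nonempty (Projectivization F (Fin n → F)) := ⟨a⟩
    simp only [Submodule.mem_top] at h2
    rw [Nat.card_subtype_true, Nat.card_eq_fintype_card] at h2
    rw [Nat.card_eq_fintype_card, Fintype.card_subtype_compl, Fintype.card_subtype_eq,
      Nat.cast_sub Fintype.card_pos, h2]; simp
  have h2 := congrArg (Nat.cast : ℕ → ZMod p) (Nat.card_congr (Equiv.ofBijective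
    (fun x : (s : T) × {b : Projectivization F (Fin n → F) // b.rep ∈ U ∧ (s.1 b).rep ∈ U} =>
      ((⟨x.2.1, x.2.2.1⟩, ⟨_, x.2.2.2⟩) : {x : Projectivization F (Fin n → F) // x.rep ∈ U} ×
        {x : Projectivization F (Fin n → F) // x.rep ∈ U})) ⟨by
      rintro ⟨s, b, h1⟩ ⟨t, c, h2⟩ e
      obtain rfl : b = c := congrArg (·.1.1) e
      obtain rfl : s = t := Subtype.ext ((H a b a _ (ha _ h1.1) (ha _ h1.2)).unique ⟨s.2.1, s.2.2, rfl⟩
        ⟨t.2.1, t.2.2, (congrArg (·.2.1) e).symm⟩)
      rfl, fun x => by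
      obtain ⟨s, h, -⟩ := H a _ a _ (ha _ x.1.2) (ha _ x.2.2)
      exact ⟨⟨⟨s, h.1, h.2.1⟩, x.1.1, x.1.2, (congrArg (·.rep ∈ U) h.2.2).mpr x.2.2⟩, Prod.ext rfl (Subtype.ext h.2.2)⟩⟩))
  rw [Nat.card_prod, Nat.cast_mul, cnt U hU0, Nat.card_sigma, Nat.cast_sum, Finset.sum_congr rfl (g := fun _ => 1)
    fun s _ => ?_] at h2
  · simp [← Nat.card_eq_fintype_card, h1] at h2
  obtain ⟨σ, f, hf, h3⟩ := hS s.1 s.2.1
  let g : (Fin n → F) →ₗ[F] F := ⟨⟨fun v => σ.symm (f v i), fun v w => by simp⟩, fun c v => by simp [map_smulₛₗ]⟩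
  rw [← cnt (U ⊓ LinearMap.ker g) fun e => ?_]
  · congr 3
    ext b
    obtain ⟨c, hc⟩ := Projectivization.exists_smul_eq_mk_rep F (f b.rep) (by simpa [hf.ne_iff' (map_zero f)] using b.rep_nonzero)
    rw [h3, show Projectivization.map f hf b = .mk F (f b.rep) _ from
      (congrArg _ b.mk_rep.symm).trans (Projectivization.map_mk f hf _ b.rep_nonzero), ← hc]
    simp [U, g, Units.smul_def]
  · have h4 := Submodule.finrank_sup_add_finrank_inf_eq U (LinearMap.ker g)
    have h5 := g.finrank_range_add_finrank_ker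
    have h6 := Submodule.finrank_le (LinearMap.range g)
    have h7 := Submodule.finrank_le (U ⊔ LinearMap.ker g)
    rw [e, finrank_bot] at h4
    simp at h5 h6 h7
    omega

end Cfsg.Agent.S2531
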