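import Cfsg.Statements.S2533
import Cfsg.Agent.H2.PGroup

set_option autoImplicit false
open Cfsg

namespace Cfsg.Agent.S2533
open Subgroup CfsgH2
open scoped commutatorElement

open SemidirectProduct Matrix Multiplicative

def ph (H A : Type) [Group H] [AddCommGroup A] [DistribMulAction H A] : H →* MulAut (Multiplicative A) where
  toFun g := AddEquiv.toMultiplicative (DistribMulAction.toAddEquiv A g)
  map_one' := MulEquiv.ext fun v => one_smul H v.toAdd
  map_mul' a b := MulEquiv.ext fun v => mul_smul a b v.toAdd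

def cX (m : ℕ) {F : Type} [Field F] (a : Fin 3 → F) : Matrix (ZMod m) (ZMod m) F :=
  of fun i j => (if i = j then a 0 else 0) + (if i = 0 ∧ j = 0 then a 1 else 0) + (if i = j + 1 then a 2 else 0)

abbrev HG (F : Type) [Field F] := Multiplicative (Fin 3 → F) ⋊[ph ℤˣ (Fin 3 → F)] ℤˣ

def mM (m : ℕ) [NeZero m] (hm : Even m) (F : Type) [Field F] : HG F →* SpecialLinearGroup (ZMod m ⊕ ZMod m) F where
  toFun h := ⟨fromBlocks (h.right • 1) (cX m h.left.toAdd) 0 1, by
    rw [det_fromBlocks_zero₂₁, det_one, mul_one]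
    rcases Int.units_eq_one_or h.right with e | e <;> rw [e]
    · rw [one_smul, det_one]
    · rw [Units.neg_smul, one_smul, det_neg, det_one, ZMod.card, hm.neg_one_pow, mul_one]⟩
  map_one' := Subtype.ext (by
    show fromBlocks ((1 : ℤˣ) • 1) (cX m 0) 0 1 = 1
    rw [one_smul, ← fromBlocks_one]
    congr 1
    ext i j; simp [cX])
  map_mul' a b := Subtype.ext (by
    show fromBlocks ((a.right * b.right) • 1) (cX m (a.left.toAdd + a.right • b.left.toAdd)) 0 1 =
      fromBlocks (a.right • 1) (cX m a.left.toAdd) 0 1 * fromBlocks (b.right • 1) (cX m b.left.toAdd) 0 1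
    rw [fromBlocks_multiply]
    congr 1
    · simp [smul_smul, mul_comm]
    · ext i j
      simp only [cX, smul_mul_assoc, Matrix.one_mul, Matrix.mul_one, Matrix.add_apply, Matrix.smul_apply, of_apply,
        Pi.add_apply, Pi.smul_apply, smul_add]
      split_ifs <;> (try simp only [smul_zero, add_zero, zero_add]) <;> abel
    · simp
    · simp)

theorem inj (m : ℕ) [NeZero m] [Fact (1 < m)] (hm : Even m) (F : Type) [Field F] (h2 : (2 : F) ≠ 0) (h : HG F)
    (hc : mM m hm F h ∈ Subgroup.center _) : h = 1 := by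
  obtain ⟨r, -, e⟩ := Matrix.SpecialLinearGroup.mem_center_iff.1 hc
  have e : scalar _ r = fromBlocks (h.right • 1) (cX m h.left.toAdd) 0 1 := e
  have e1 := congrFun (congrFun e (.inr 0)) (.inr 0)
  have e2 := congrFun (congrFun e (.inl 0)) (.inl 0)
  have e3 := congrFun (congrFun e (.inl 1)) (.inr 1)
  have e4 := congrFun (congrFun e (.inl 0)) (.inr 0)
  have e5 := congrFun (congrFun e (.inl 1)) (.inr 0)
  simp [cX] at e1 e2 e3 e4 e5
  refine SemidirectProduct.ext (funext fun i => ?_) ?_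
  · show h.left.toAdd i = 0
    fin_cases i
    · exact e3.symm
    · rw [← e3, zero_add] at e4; exact e4.symm
    · exact e5.symm
  · rcases Int.units_eq_one_or h.right with e | e
    · exact e
    · rw [e, e1, Units.neg_smul, one_smul] at e2
      exact absurd (by linear_combination e2) h2

theorem cent (m : ℕ) [NeZero m] (hm : Even m) (F : Type) [Field F] (h2 : (2 : F) ≠ 0)
    (g : SpecialLinearGroup (ZMod m ⊕ ZMod m) F)
    (hc : ∀ h, (mM m hm F h * g)⁻¹ * (g * mM m hm F h) ∈ Subgroup.center _) : g ∈ Subgroup.center _ := by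
  obtain ⟨g, hg⟩ := g
  obtain ⟨A, B, C, D, rfl⟩ : ∃ A B C D, g = fromBlocks A B C D := ⟨_, _, _, _, (fromBlocks_toBlocks g).symm⟩
  have k : ∀ (ε : ℤˣ) (a : Fin 3 → F), ∃ r : F, ε • A = r • (ε • A + cX m a * C) ∧
      A * cX m a + B = r • (ε • B + cX m a * D) ∧ ε • C = r • C ∧ C * cX m a + D = r • D := fun ε a => by
    obtain ⟨r, -, e⟩ := Matrix.SpecialLinearGroup.mem_center_iff.1 (hc ⟨ofAdd a, ε⟩)
    have e2 := congrArg Subtype.val (mul_inv_cancel_left (mM m hm F ⟨ofAdd a, ε⟩ * ⟨_, hg⟩)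
      (⟨_, hg⟩ * mM m hm F ⟨ofAdd a, ε⟩))
    rw [Matrix.SpecialLinearGroup.coe_mul, ← e] at e2
    have e2 : (fromBlocks (ε • 1) (cX m a) 0 1 * fromBlocks A B C D) * scalar _ r =
      fromBlocks A B C D * fromBlocks (ε • 1) (cX m a) 0 1 := e2
    rw [scalar_apply, ← smul_eq_mul_diagonal, fromBlocks_multiply, fromBlocks_multiply, fromBlocks_smul,
      fromBlocks_inj] at e2
    simp only [smul_mul_assoc, Matrix.one_mul, Matrix.mul_one, Matrix.zero_mul, Matrix.mul_zero, add_zero, zero_add,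
      mul_smul_comm] at e2
    exact ⟨r, e2.1.symm, e2.2.1.symm, e2.2.2.1.symm, e2.2.2.2.symm⟩
  have z : ∀ {r : F} {Y : Matrix (ZMod m) (ZMod m) F}, r ≠ 1 → Y = r • Y → Y = 0 := fun {r Y} n e => by
    have : (1 - r) • Y = 0 := by rw [sub_smul, one_smul, ← e, sub_self]
    exact (smul_eq_zero.1 this).resolve_left (sub_ne_zero.2 n.symm)
  have x1 : cX m (![1, 0, 0] : Fin 3 → F) = 1 := by ext i j; simp [cX, one_apply]
  have hC : C = 0 := by
    obtain ⟨r, -, -, h3, h4⟩ := k 1 ![1, 0, 0]
    by_cases hr : r = 1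
    · simpa [hr, x1] using h4
    · exact z hr (by simpa using h3)
  subst hC
  have k2 : ∀ (ε : ℤˣ) (a : Fin 3 → F), A * cX m a + B = ε • B + cX m a * D := fun ε a => by
    obtain ⟨r, -, h1, -, h4⟩ := k ε a
    by_cases hr : r = 1
    · simpa [hr] using h1
    · rw [det_fromBlocks_zero₂₁, z hr (Y := D) (by simpa using h4), det_zero, mul_zero] at hg
      exact absurd hg zero_ne_one
  have hD : A = D := by
    have := k2 1 ![1, 0, 0]
    rwa [x1, one_smul, Matrix.mul_one, Matrix.one_mul, add_comm, add_right_inj] at this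
  subst hD
  have hB : B = 0 := by
    have := k2 (-1) ![1, 0, 0]
    rw [x1, Units.neg_smul, one_smul, Matrix.mul_one, Matrix.one_mul, add_comm, add_left_inj] at this
    exact z (r := -1) (fun e => h2 (by linear_combination -e)) (by rw [neg_smul, one_smul]; exact this)
  subst hB
  have a1 : ∀ i, i ≠ 0 → A i 0 = 0 := fun i hi => by
    have := congrFun (congrFun (k2 1 ![0, 1, 0]) i) 0
    simpa [cX, mul_apply, hi] using this
  have a2 : ∀ i j, A (i + 1) (j + 1) = A i j := fun i j => by
    have := congrFun (congrFun (k2 1 ![0, 0, 1]) (i + 1)) j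
    simpa [cX, mul_apply] using this
  have a3 : ∀ (n : ℕ) i j, A (i + n) (j + n) = A i j := fun n i j => by
    induction n with
    | zero => simp
    | succ n ih => rw [Nat.cast_succ, ← add_assoc, ← add_assoc, a2, ih]
  have a4 : A = A 0 0 • 1 := by
    ext i j
    have := a3 j.val (i - j) 0
    rw [ZMod.natCast_zmod_val, sub_add_cancel, zero_add] at this
    rw [this]
    by_cases e : i = j
    · simp [e]
    · simp [e, a1 _ (sub_ne_zero.2 e)]
  refine Subgroup.mem_center_iff.2 fun h => Subtype.ext ?_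
  show h.1 * fromBlocks A 0 0 A = fromBlocks A 0 0 A * h.1
  have : fromBlocks A 0 0 A = A 0 0 • 1 := by
    rw [← fromBlocks_one, fromBlocks_smul, ← a4, smul_zero]
  rw [this]; simp

def reSL {ι κ : Type} [Fintype ι] [DecidableEq ι] [Fintype κ] [DecidableEq κ] (e : ι ≃ κ) (F : Type) [Field F] :
    SpecialLinearGroup ι F ≃* SpecialLinearGroup κ F where
  toFun g := ⟨reindex e e g.1, by rw [det_reindex_self, g.2]⟩
  invFun g := ⟨reindex e.symm e.symm g.1, by rw [det_reindex_self, g.2]⟩
  left_inv g := Subtype.ext ((reindex e e).left_inv g.1)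
  right_inv g := Subtype.ext ((reindex e e).right_inv g.1)
  map_mul' a b := Subtype.ext (submatrix_mul_equiv a.1 b.1 _ e.symm _).symm

/-- For every odd prime `p` there is a finite group `H` of order `2p³` which, for infinitely many `n`, embeds in the projective special linear group `PSL(n, p)` as a subgroup with trivial centralizer. -/
theorem result
    (p : ℕ) [Fact p.Prime] (hp : p ≠ 2) :
    ∃ (H : Type) (_ : Group H) (_ : Finite H), Nat.card H = 2 * p ^ 3 ∧
      ∀ N : ℕ, ∃ n, N ≤ n ∧ ∃ φ : H →* Matrix.ProjectiveSpecialLinearGroup (Fin n) (ZMod p),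
        Function.Injective φ ∧ Subgroup.centralizer (φ.range : Set (Matrix.ProjectiveSpecialLinearGroup (Fin n) (ZMod p))) = ⊥ := by
  have h2 : (2 : ZMod p) ≠ 0 := fun e => hp ((Nat.prime_dvd_prime_iff_eq Fact.out Nat.prime_two).1
    ((ZMod.natCast_eq_zero_iff 2 p).1 (by exact_mod_cast e)))
  refine ⟨HG (ZMod p), inferInstance, Finite.of_equiv _ equivProd.symm, ?_, fun N => ?_⟩
  · rw [Nat.card_congr equivProd, Nat.card_prod, mul_comm]
    simp
  haveI : Fact (1 < 2 * (N + 1)) := ⟨by omega⟩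
  have hm : Even (2 * (N + 1)) := even_two_mul _
  let e := reSL (Fintype.equivFin (ZMod (2 * (N + 1)) ⊕ ZMod (2 * (N + 1)))) (ZMod p)
  have ce : ∀ x, e x ∈ Subgroup.center _ ↔ x ∈ Subgroup.center _ := fun x => MulEquivClass.apply_mem_center_iff e
  refine ⟨_, by simp; omega, (QuotientGroup.mk' _).comp (e.toMonoidHom.comp (mM _ hm (ZMod p))),
    (injective_iff_map_eq_one _).2 fun h hh => inj _ hm _ h2 h ((ce _).1 ((QuotientGroup.eq_one_iff _).1 hh)),
    eq_bot_iff.2 fun x hx => ?_⟩
  obtain ⟨x, rfl⟩ := QuotientGroup.mk_surjective x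
  obtain ⟨g, rfl⟩ := e.surjective x
  refine (QuotientGroup.eq_one_iff _).2 ((ce _).2 (cent _ hm _ h2 g fun h => (ce _).1 ?_))
  rw [map_mul, map_inv, map_mul, map_mul]
  exact QuotientGroup.eq.1 (hx _ ⟨h, rfl⟩)


end Cfsg.Agent.S2533
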