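import Cfsg.Statements.S2534
import Cfsg.Agent.H3.Hl6

set_option autoImplicit false
open Cfsg

namespace Cfsg.Agent.S2534

open CfsgPm CfsgH1 CfsgH2 Subgroup Equiv Equiv.Perm Finset

theorem key {Ω : Type*} [Fintype Ω] [DecidableEq Ω] {π : Set ℕ} (h5 : 5 ≤ Fintype.card Ω) (h2 : 2 ∈ π) {r : ℕ} (r2 : r ≤ Fintype.card Ω) (r3 : ∀ p, p.Prime → p < r → p ∈ π)
    {f : Ω → Fin 4} (f1 : fb f 0 = fb f 1) (f2 : ∀ i, fb f i < r) (f3 : fb f 3 < fb f 2 ∨ fb f 2 + fb f 3 = 0)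
    (f4 : fb f 0 = 0 ∨ Fintype.card Ω < 4 * fb f 0 ∧ 4 ≤ fb f 0 ∧ fb f 0 % 3 = 1 ∧ 3 ∣ fb f 2 ∧ 3 ∣ fb f 3) :
    ∃ g : Ω → Fin 4, IsPiNum π (Nat.card (GF g)) ∧ ∀ σ : Perm Ω, ¬ GF g ⊓ alternatingGroup Ω ≤ GF (f ∘ σ.symm) := by
  have s := fb_sum f
  have := f2 0
  have := f2 2
  have x : ∀ a c d, a + a + c + d = Fintype.card Ω → a < r → c < r → d < r → ∃ g : Ω → Fin 4, IsPiNum π (Nat.card (GF g)) ∧ fb g 0 = a ∧ fb g 1 = a ∧ fb g 2 = c ∧ fb g 3 = d := fun a c d e _ _ _ => by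
    obtain ⟨g, h⟩ := ex_fb e
    exact ⟨g, GF_pi (r := r) (by omega) h2 r3 fun i => by fin_cases i <;> simp only [Fin.zero_eta, Fin.mk_one, Fin.reduceFinMk] <;> omega, h⟩
  obtain f4 | f4 := f4
  · have t : ∀ (g : Ω → Fin 4) (j), fb g 0 = fb g 1 → fb g j = 0 → ∀ σ : Perm Ω, GF g ⊓ alternatingGroup Ω ≤ GF (f ∘ σ.symm) →
        ∃ a c d, fb f 2 = a + c + d ∧ (a = 0 ∨ a = fb g 0 + fb g 1) ∧ (c = 0 ∨ c = fb g 2) ∧ (d = 0 ∨ d = fb g 3) := fun g j e z σ l => by
      have k : ∀ t ∈ GF g, ∀ x, f (σ.symm x) = 2 → f (σ.symm (t x)) = 2 := fun t ht x hx => by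
        obtain ⟨u, a, v, b, n, e⟩ := room g (T := univ.erase j) (fun x => by simpa using filter_eq_empty_iff.1 (card_eq_zero.1 z) (mem_univ x)) (univ.erase x) (by simp; omega)
        obtain ⟨w, w1, w2, w3⟩ := par_GF n e t
        rw [← w3 x (ne_of_mem_erase a).symm (ne_of_mem_erase b).symm]
        exact (l ⟨mul_mem ht w1, w2⟩).elim (fun h => (h x).trans hx) fun h => (h x).trans (congrArg (swap 0 1) hx)
      obtain ⟨τ, h⟩ := ex_swap e
      obtain ⟨c, c1, c2⟩ := fb_split g {x | f (σ.symm x) = 2} fun x y e a => by simpa using k _ (.inl (swap_GF e)) x (by simpa using a)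
      refine ⟨c 0 + c 1, c 2, c 3, (fb_cj f σ 2).symm.trans c1, ?_, (c2 2).imp (·.1) (·.1), (c2 3).imp (·.1) (·.1)⟩
      obtain ⟨p, q⟩ | ⟨p, y, q, u⟩ := c2 0 <;> obtain ⟨v, w⟩ | ⟨v, y, w, u⟩ := c2 1
      exacts [by omega, (q (τ y) (by simp [h, u]) (by simpa using k τ (.inr h) y (by simpa using w))).elim, (w (τ y) (by simp [h, u]) (by simpa using k τ (.inr h) y (by simpa using q))).elim, by omega]
    by_cases k : fb f 2 = 2 * fb f 3
    · obtain ⟨g, a, b, c, d, e⟩ := x 0 (fb f 2 - 1) (fb f 3 + 1) (by omega) (by omega) (by omega) (by omega)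
      exact ⟨g, a, fun σ l => by have := t g 0 (by omega) b σ l; omega⟩
    obtain ⟨g, a, b, c, d, e⟩ := x (fb f 3) (fb f 2 - fb f 3) 0 (by omega) (by omega) (by omega) (by omega)
    exact ⟨g, a, fun σ l => by have := t g 3 (by omega) e σ l; omega⟩
  obtain ⟨g, a, b, c, d, e⟩ := x (fb f 0 - 1) (fb f 2) (fb f 3 + 2) (by omega) (by omega) (by omega) (by omega)
  refine ⟨g, a, fun σ l => ?_⟩
  obtain ⟨c, c1, c2⟩ := fb_split g {x | f (σ.symm x) = 0} fun x y e a => by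
    obtain rfl | m := eq_or_ne x y
    · exact a
    obtain ⟨u, a', v, b, n, e'⟩ := room g (T := univ) (by simp) (univ.erase x) (by simp; omega)
    have : (swap x y * swap u v) x = y := by simp [swap_apply_of_ne_of_ne (ne_of_mem_erase a').symm (ne_of_mem_erase b).symm]
    obtain h | h := l ⟨(GF g).mul_mem (.inl (swap_GF e)) (.inl (swap_GF e')), by simp [m, n]⟩
    · exact (mem_filter_univ y).2 (this ▸ (h x).trans (mem_filter.1 a).2)
    have := card_le_card (s := ({x | (f ∘ σ.symm) x = 0} : Finset Ω) ∪ ({x | (f ∘ σ.symm) x = 1} : Finset Ω)) (t := {x, y, u, v}) fun z hz => by_contra fun k => by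
      have := h z
      simp only [mem_insert, Finset.mem_singleton, not_or] at k
      rw [Perm.mul_apply, swap_apply_of_ne_of_ne k.2.2.1 k.2.2.2, swap_apply_of_ne_of_ne k.1 k.2.1] at this
      simp only [mem_union, mem_filter_univ] at hz
      obtain hz | hz := hz <;> rw [hz] at this <;> exact absurd this (by decide)
    have := this.trans card_le_four
    rw [card_union_of_disjoint (disjoint_filter.2 fun z _ a b => absurd (a.symm.trans b) (by decide))] at this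
    have := (fb_cj f σ 0 ▸ fb_cj f σ 1 ▸ this : fb f 0 + fb f 1 ≤ 4)
    omega
  have := (fb_cj f σ 0).symm.trans c1
  have := (c2 0).imp (·.1) (·.1)
  have := (c2 1).imp (·.1) (·.1)
  have := (c2 2).imp (·.1) (·.1)
  have := (c2 3).imp (·.1) (·.1)
  omega

/-- For `n ≥ 5` and a set of primes `π`, the alternating group of degree `n` satisfies the full Sylow analogue for `π` (its maximal `π`-subgroups are pairwise conjugate; for a finite group this says Hall `π`-subgroups exist, are all conjugate, and contain every `π`-subgroup up to conjugacy) if and only if either at most one prime of `π` divides its order or every prime dividing its order lies in `π`. -/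
theorem result (n : ℕ) (hn : 5 ≤ n) (π : Set ℕ) :
    Cfsg.IsDPiGroup π ↥(alternatingGroup (Fin n)) ↔
      ((∀ r s : ℕ, r.Prime → s.Prime → r ∈ π → s ∈ π → r ∣ Nat.card ↥(alternatingGroup (Fin n)) → s ∣ Nat.card ↥(alternatingGroup (Fin n)) → r = s) ∨
        ∀ r : ℕ, r.Prime → r ∣ Nat.card ↥(alternatingGroup (Fin n)) → r ∈ π) := by
  refine ⟨fun h => by_contra fun k => ?_, dpi_small⟩
  obtain ⟨h5, a, r, r0, r1, r2, r3⟩ := hall_mix k
  obtain ⟨H, x⟩ := (dpi_cpi h).1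
  obtain ⟨h2, h3⟩ := a _ (isPiHallOf_map x)
  obtain ⟨f, f0, f1, f2, f3, f4⟩ := hall_str (isPiHallOf_map x) h5 h2 h3 r0 r1 r3
  obtain ⟨g, g1, g2⟩ := key h5 h2 r2 r3 f1 f2 f3 (f4.imp (·.1) fun e => ⟨by have := Nat.lt_pow_succ_log_self one_lt_two (Fintype.card (Fin n)); rw [pow_succ] at this; omega, e.2.2⟩)
  obtain ⟨K, l, m⟩ := Finite.exists_le_maximal (show IsPiSubgroup π ((GF g).subgroupOf (alternatingGroup _)) from g1.of_dvd (by
    rw [← card_map_of_injective (alternatingGroup _).subtype_injective, subgroupOf_map_subtype]; exact card_dvd_of_le inf_le_left))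
  obtain ⟨σ, rfl⟩ := (dpi_cpi h).2 H K x (dpi_hall h m)
  exact g2 σ fun y hy => GF_cj f σ ▸ mem_cj.2 (f0.le (mem_map_of_mem _ (mem_cj.1 (l (x := ⟨y, hy.2⟩) hy.1)))).1

end Cfsg.Agent.S2534
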