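import Cfsg.Statements.S4310
import Cfsg.Agent.H2.CPi

set_option autoImplicit false
open Cfsg

namespace Cfsg.Agent.S4310
open Subgroup CfsgH2
open scoped commutatorElement

open CfsgFT CfsgH1

/-- Let `π` be a set of primes and `A` a normal subgroup of the finite group `G`. Suppose `A` has a Hall `π`-subgroup and all Hall `π`-subgroups of `A` are conjugate in `A`, and likewise for `G/A`. Then `G` has a Hall `π`-subgroup and all Hall `π`-subgroups of `G` are conjugate. (The conjugacy of complements of coprime order that the usual proof uses rests, in general, on the odd order Theorem.) -/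
theorem result {G : Type*} [Group G] [Finite G] (π : Set ℕ) (A : Subgroup G) [A.Normal]
    (hA : Cfsg.IsCPiGroup π ↥A) (hQ : Cfsg.IsCPiGroup π (G ⧸ A)) : Cfsg.IsCPiGroup π G := by
  haveI : (A.subgroupOf ⊤).Normal := inferInstance
  obtain ⟨h1, h2⟩ := cpi_iff_of_equiv (MulEquiv.refl A) hA
  have e : G ⧸ A ≃* quo A ⊤ :=
    (QuotientGroup.congr A (A.subgroupOf ⊤) topEquiv.symm (by
      ext x; simp only [mem_map, mem_subgroupOf]
      exact ⟨fun ⟨y, hy, e⟩ => e ▸ hy, fun h => ⟨x, h, rfl⟩⟩)).trans (quotEquivQuo le_normalizer_of_normal)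
  obtain ⟨h3, h4⟩ := cpi_iff_of_equiv e hQ
  obtain ⟨⟨K, hK⟩, h6⟩ := cunihin le_top le_normalizer_of_normal h1 h2 h3 h4
  refine ⟨⟨K, hall_top_iff.1 hK⟩, fun H K hH hK => ?_⟩
  obtain ⟨g, -, e⟩ := h6 H K (hall_top_iff.2 hH) (hall_top_iff.2 hK)
  exact ⟨g, e.symm⟩


end Cfsg.Agent.S4310
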