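import Cfsg.Statements.S2535
import Cfsg.Agent.H3.Hl6
import Cfsg.Agent.S4310

set_option autoImplicit false
open Cfsg

namespace Cfsg.Agent.S2535

open CfsgPm CfsgH1 CfsgH2 Subgroup Equiv

theorem up {n : ℕ} {π : Set ℕ} (h : IsCPiGroup π (alternatingGroup (Fin n))) : IsCPiGroup π (Perm (Fin n)) := S4310.result π _ h (by
  haveI : IsMulCommutative (Perm (Fin n) ⧸ alternatingGroup (Fin n)) := (Normal.quotient_commutative_iff_commutator_le).2 alternatingGroup.commutator_perm_le
  haveI := Group.isSolvable_of_comm (G := Perm (Fin n) ⧸ alternatingGroup (Fin n)) mul_comm'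
  exact ⟨exists_hall π, fun H K a b => (hall_conj a b).imp fun _ e => e.symm⟩)

/-- For every `n` and every set of primes `π`, the following are equivalent for the symmetric group `S` of degree `n` and its alternating subgroup `A`: `S` has a Hall `π`-subgroup; `S` has a Hall `π`-subgroup and all of them are conjugate; `A` has a Hall `π`-subgroup; `A` has a Hall `π`-subgroup and all of them are conjugate. -/
theorem result (n : ℕ) (π : Set ℕ) :
    (Cfsg.IsEPiGroup π (Equiv.Perm (Fin n)) ↔ Cfsg.IsCPiGroup π (Equiv.Perm (Fin n))) ∧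
    (Cfsg.IsEPiGroup π (Equiv.Perm (Fin n)) ↔ Cfsg.IsEPiGroup π ↥(alternatingGroup (Fin n))) ∧
    (Cfsg.IsEPiGroup π ↥(alternatingGroup (Fin n)) ↔ Cfsg.IsCPiGroup π ↥(alternatingGroup (Fin n))) := by
  have a : IsEPiGroup π (Perm (Fin n)) → IsEPiGroup π (alternatingGroup (Fin n)) := fun ⟨_, h⟩ => ⟨_, IsPiHall.subgroupOf_normal h _⟩
  exact ⟨⟨fun h => up (epi_cpi (a h)), (·.1)⟩, ⟨a, fun h => (up (epi_cpi h)).1⟩, epi_cpi, (·.1)⟩

end Cfsg.Agent.S2535
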