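import Cfsg.Statements.S2538
import Cfsg.Agent.S2535

set_option autoImplicit false
open Cfsg

namespace Cfsg.Agent.S2538

open CfsgPm CfsgH1 CfsgH2 Subgroup Equiv

/-- For every `n` and every set of primes `π`, a subgroup of the alternating group of degree `n` is a Hall `π`-subgroup of it if and only if it is the intersection with the alternating group of some Hall `π`-subgroup of the symmetric group of degree `n`. -/
theorem result (n : ℕ) (π : Set ℕ)
    (M : Subgroup ↥(alternatingGroup (Fin n))) :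
    Cfsg.IsPiHall π M ↔ ∃ M₀ : Subgroup (Equiv.Perm (Fin n)), Cfsg.IsPiHall π M₀ ∧ M = M₀.subgroupOf (alternatingGroup (Fin n)) := by
  refine ⟨fun h => ?_, fun ⟨_, h, e⟩ => e ▸ IsPiHall.subgroupOf_normal h _⟩
  have c := epi_cpi ⟨M, h⟩
  obtain ⟨L, l⟩ := (S2535.up c).1
  obtain ⟨g, rfl⟩ := c.2 _ M (IsPiHall.subgroupOf_normal l _) h
  exact ⟨_, IsPiHall.conj l g, Subgroup.ext fun x => mem_cj.trans (mem_cj (g := g.1) (x := x.1)).symm⟩

end Cfsg.Agent.S2538
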