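import Cfsg.Statements.S2540
import Cfsg.Agent.H5.Iso2

set_option autoImplicit false
open Cfsg

namespace Cfsg.Agent.S2540

open CfsgH5 Matrix IsMulCommutative

/-- Let F be a finite field and n ≥ 1, excluding the case n = 2 with #F ≤ 3. A subgroup of GL_n(F) that is normalized by every element of SL_n(F) either consists of scalar matrices or contains SL_n(F). -/
theorem result {F : Type*} [Field F] [Fintype F] (n : ℕ) (hn : 1 ≤ n) (hex : ¬ (n = 2 ∧ Fintype.card F ≤ 3)) (G : Subgroup (Matrix.GeneralLinearGroup (Fin n) F)) (hG : ∀ s : Matrix.SpecialLinearGroup (Fin n) F, ∀ g ∈ G, (Matrix.SpecialLinearGroup.toGL s) * g * (Matrix.SpecialLinearGroup.toGL s)⁻¹ ∈ G) : (∀ g ∈ G, ∃ c : F, (g : Matrix (Fin n) (Fin n) F) = c • (1 : Matrix (Fin n) (Fin n) F)) ∨ (Matrix.SpecialLinearGroup.toGL : Matrix.SpecialLinearGroup (Fin n) F →* _).range ≤ G := by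
  refine or_iff_not_imp_right.2 fun hn' g hg => ?_
  rcases hn.eq_or_lt with rfl | hn
  · exact ⟨g.1 0 0, by ext i j; simp [Subsingleton.elim i 0, Subsingleton.elim j 0]⟩
  have h1 : 3 ≤ Fintype.card (Fin n) ∨ ∃ a : F, a ≠ 0 ∧ a ^ 2 ≠ 1 := by
    by_cases h : n = 2
    · exact .inr (exists_sq_ne_one (by omega))
    · exact .inl (by simp; omega)
  haveI : Nontrivial (Fin n) := Fin.nontrivial_iff_two_le.2 hn
  haveI := isSimple_PSL h1
  have hp := commutator_SL h1
  let N := G.comap (SpecialLinearGroup.toGL : SpecialLinearGroup (Fin n) F →* _)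
  haveI : N.Normal := ⟨fun x hx s => by simpa [N] using hG s _ hx⟩
  have h2 : N ≤ Subgroup.center _ := by
    rcases (Subgroup.Normal.map this _ (QuotientGroup.mk'_surjective (Subgroup.center _))).eq_bot_or_eq_top with h | h
    · simpa using (Subgroup.map_eq_bot_iff _).1 h
    · refine absurd (fun _ ⟨s, hs⟩ => hs ▸ (eq_top_of_sup_metabelian hp N (Subgroup.center _) ?_ ?_).ge trivial) hn'
      · simpa [sup_comm] using congrArg (Subgroup.comap (QuotientGroup.mk' (Subgroup.center _))) h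
      · simp [Subgroup.commutator_eq_bot_iff_le_centralizer.2 (Subgroup.center_le_centralizer _)]
  let τ : SpecialLinearGroup (Fin n) F →* SpecialLinearGroup (Fin n) F :=
    ⟨⟨fun s => ⟨g.1 * s * g⁻¹.1, by simp [g.det_ne_zero]⟩, Subtype.ext (by simp)⟩, fun a b => Subtype.ext (by
      change _ * (a.1 * b.1) * _ = _ * _ * _ * (_ * _ * _); simp only [mul_assoc, Units.inv_mul_cancel_left])⟩
  have h3 : ∀ s, s * (τ s)⁻¹ ∈ Subgroup.center _ := fun s => h2 (by
    have : SpecialLinearGroup.toGL (τ s) = g * SpecialLinearGroup.toGL s * g⁻¹ := Units.ext rfl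
    simpa [N, this, mul_assoc] using mul_mem (hG s g hg) (inv_mem hg))
  let χ : SpecialLinearGroup (Fin n) F →* Subgroup.center (SpecialLinearGroup (Fin n) F) :=
    MonoidHom.mk' (fun s => ⟨_, h3 s⟩) fun a b => Subtype.ext (by
      change a * b * (τ (a * b))⁻¹ = a * (τ a)⁻¹ * (b * (τ b)⁻¹)
      rw [map_mul, _root_.mul_inv_rev, mul_assoc a (τ a)⁻¹, Subgroup.mem_center_iff.1 (h3 b)]
      simp only [mul_assoc])
  have h4 : ∀ s, τ s = s := fun s => (mul_inv_eq_one.1 (congrArg Subtype.val (MonoidHom.mem_ker.1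
    (Abelianization.commutator_subset_ker χ (hp.ge (Subgroup.mem_top s)))))).symm
  obtain ⟨c, hc⟩ := Matrix.mem_range_scalar_of_commute_transvectionStruct (M := g.1) fun t => by
    have h5 : g.1 * t.toMatrix * g⁻¹.1 = t.toMatrix := congrArg (·.1) (h4 ⟨t.toMatrix, t.det⟩)
    exact ((Units.mul_inv_eq_iff_eq_mul g).1 h5).symm
  exact ⟨c, by rw [← hc]; ext i j; simp [Matrix.diagonal_apply, Matrix.one_apply]⟩

end Cfsg.Agent.S2540
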