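import Cfsg.Statements.S2541
import Cfsg.Agent.H1.GL2s

set_option autoImplicit false
open Cfsg

namespace Cfsg.Agent.S2541

/-- Let F be a field with 9 elements. The symmetric group S_6 is not isomorphic to PGL_2(F) (although both have index-2 subgroups isomorphic to A_6). -/
theorem result {F : Type*} [Field F] [Fintype F] (hF : Fintype.card F = 9) : ¬ Nonempty (Equiv.Perm (Fin 6) ≃* Matrix.ProjGenLinGroup (Fin 2) F) := by
  open CfsgH1.L2 in
  rintro ⟨e⟩
  have h1 : ∀ g : Equiv.Perm (Fin 6), g ^ 60 = 1 := fun g => by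
    rw [← orderOf_dvd_iff_pow_eq_one, ← Equiv.Perm.lcm_cycleType, Multiset.lcm_dvd]
    intro b hb
    have h1 := Equiv.Perm.two_le_of_mem_cycleType hb
    have h2 := (Equiv.Perm.le_card_support_of_mem_cycleType hb).trans (g.support.card_le_univ)
    rw [Fintype.card_fin] at h2
    interval_cases b <;> norm_num
  obtain ⟨z, hz⟩ := IsCyclic.exists_generator (α := Fˣ)
  have h2 : ∀ n : ℕ, ut z 1 0 ^ n = ut (z ^ n) 1 0 := fun n => by
    induction n with
    | zero => simp [ut_one]
    | succ n ih => simp [pow_succ, ih, ut_mul]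
  have h3 := congrArg e (h1 (e.symm (.mk (ut z 1 0))))
  rw [map_pow, e.apply_symm_apply, map_one, ← map_pow, Matrix.ProjGenLinGroup.mk_eq_one, mem_centerG, h2, sc_ut] at h3
  have := orderOf_dvd_of_pow_eq_one h3.2
  rw [orderOf_eq_card_of_forall_mem_zpowers hz, Nat.card_units, Nat.card_eq_fintype_card, hF] at this
  omega

end Cfsg.Agent.S2541
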