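import Cfsg.Statements.S2542
import Cfsg.Agent.H1.Dk8

set_option autoImplicit false
open Cfsg

namespace Cfsg.Agent.S2542

/-- Let F be a field with 11 elements. PSL_2(F) has a subgroup H of index 11 isomorphic to the alternating group A_5, and the action of PSL_2(F) on the cosets of H is 2-transitive (of degree 11). -/
theorem result {F : Type*} [Field F] [Fintype F] (hF : Fintype.card F = 11) : ∃ H : Subgroup (Matrix.ProjectiveSpecialLinearGroup (Fin 2) F), H.index = 11 ∧ Nonempty (H ≃* alternatingGroup (Fin 5)) ∧ MulAction.IsMultiplyPretransitive (Matrix.ProjectiveSpecialLinearGroup (Fin 2) F) ((Matrix.ProjectiveSpecialLinearGroup (Fin 2) F) ⧸ H) 2 := by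
  classical
  obtain ⟨H, ⟨e⟩⟩ := CfsgH1.L2.exists_A5 (F := F) (by rw [hF]; norm_num)
  have cP : Nat.card (CfsgH1.L2.P2 F) = 660 := CfsgH1.L2.cardP (hF ▸ by decide) (by rw [hF])
  have i : H.index = 11 := CfsgH1.L2.index_of_card (n := 59) (m := 11) (CfsgH1.L2.card_of_A5 e) cP
  haveI := CfsgH1.L2.simple_P2 (F := F) (by omega)
  exact ⟨H, i, ⟨e⟩, CfsgH1.L2.two_trans (CfsgH1.L2.not_solv_P2 (by omega)) (i ▸ by norm_num)⟩

end Cfsg.Agent.S2542
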