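import Cfsg.Statements.S2550
import Cfsg.Agent.H5.El3
import Cfsg.Agent.S2470

set_option autoImplicit false
open Cfsg

namespace Cfsg.Agent.S2550

open CfsgH5 Pointwise Module Polynomial

/-- Let F be a field with 2 elements and K a field with 4 elements. PSL_4(F) and PSL_3(K) have the same order (20160) but are not isomorphic. -/
theorem result {F K : Type*} [Field F] [Fintype F] [Field K] [Fintype K] (hF : Fintype.card F = 2) (hK : Fintype.card K = 4) : Nat.card (Matrix.ProjectiveSpecialLinearGroup (Fin 4) F) = Nat.card (Matrix.ProjectiveSpecialLinearGroup (Fin 3) K) ∧ ¬ Nonempty (Matrix.ProjectiveSpecialLinearGroup (Fin 4) F ≃* Matrix.ProjectiveSpecialLinearGroup (Fin 3) K) := by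
  have h1 := card_PSL_mul (ι := Fin 4) (F := F)
  have h2 := card_PSL_mul (ι := Fin 3) (F := K)
  rw [card_SL_four, hF] at h1
  rw [card_SL_three, hK] at h2
  norm_num at h1 h2
  haveI : CharP F 2 := charP_of_card_eq_prime hF
  haveI : CharP K 2 := charP_of_card_eq_prime_pow (f := 2) hK
  refine ⟨by omega, fun ⟨e⟩ => ?_⟩
  obtain ⟨x, hx⟩ := not_not.1 (mt (Cfsg.Agent.S2470.result (F := F) 2 4 (by omega) (by omega) 3 Nat.prime_three
    (by omega) (by omega) (by omega) _ rfl).1 (by
      have := Nat.le_of_dvd (by omega) (ord_pos Nat.prime_three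
        (cast_ne_of_ne (F := F) 2 Nat.prime_three (by omega))).2.1
      omega))
  exact (Cfsg.Agent.S2470.result (F := K) 2 3 (by omega) (by omega) 3 Nat.prime_three
    (by omega) (by omega) (by omega) _ rfl).2 (by simp [hK])
    ⟨e x, (e.orderOf_eq x).trans hx⟩

end Cfsg.Agent.S2550
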