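import Cfsg.Statements.S2551
import Cfsg.Agent.S0256

set_option autoImplicit false
open Cfsg

namespace Cfsg.Agent.S2551

open CfsgH5 Subgroup Matrix MulAction
open Classical in
theorem orb {F : Type*} [Field F] [Fintype F] (hF : Fintype.card F = 2) (p : (Fin 4 → F) × (Fin 4 → F))
    (hp : p ∈ (Finset.univ.erase (0 : Fin 4 → F)).offDiag) :
    orbit (GL (Fin 4) F) p = ((Finset.univ.erase (0 : Fin 4 → F)).offDiag : Finset _) := by
  haveI : Subsingleton Fˣ := Fintype.card_le_one_iff_subsingleton.1 (by rw [Fintype.card_units, hF])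
  have ne : ∀ {v w : Fin 4 → F} (hv : v ≠ 0) (hw : w ≠ 0), Projectivization.mk F v hv = Projectivization.mk F w hw → v = w := fun hv hw h => by
    obtain ⟨a, rfl⟩ := (Projectivization.mk_eq_mk_iff F _ _ _ _).1 h
    rw [Subsingleton.elim a 1, one_smul]
  simp only [Finset.mem_offDiag, Finset.mem_erase, Finset.mem_univ, and_true] at hp
  ext q
  simp only [Finset.mem_coe, Finset.mem_offDiag, Finset.mem_erase, Finset.mem_univ, and_true]
  constructor
  · rintro ⟨g, rfl⟩
    exact ⟨(smul_ne_zero_iff_ne g).2 hp.1, (smul_ne_zero_iff_ne g).2 hp.2.1, fun h => hp.2.2 (MulAction.injective g h)⟩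
  · rintro ⟨a, b, c⟩
    obtain ⟨g, e, f⟩ := is_two_pretransitive_iff.1
      (inferInstance : IsMultiplyPretransitive (SpecialLinearGroup (Fin 4) F) (Projectivization F (Fin 4 → F)) 2)
      (mt (ne hp.1 hp.2.1) hp.2.2) (mt (ne a b) c)
    exact ⟨SpecialLinearGroup.toGL g, Prod.ext (ne _ _ e) (ne _ _ f)⟩

/-- Let F be the field with 2 elements. GL_4(F) (≅ A_8) has a subgroup isomorphic to the alternating group A_7, and every such subgroup acts 2-transitively on the 15 non-zero vectors of F⁴: any ordered pair of distinct non-zero vectors is carried to any other by some element of the subgroup. -/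
theorem result {F : Type*} [Field F] [Fintype F] (hF : Fintype.card F = 2) : (∃ H : Subgroup (Matrix.GeneralLinearGroup (Fin 4) F), Nonempty (H ≃* alternatingGroup (Fin 7))) ∧ ∀ H : Subgroup (Matrix.GeneralLinearGroup (Fin 4) F), Nonempty (H ≃* alternatingGroup (Fin 7)) → ∀ v w v' w' : Fin 4 → F, v ≠ 0 → w ≠ 0 → v ≠ w → v' ≠ 0 → w' ≠ 0 → v' ≠ w' → ∃ g ∈ H, (g : Matrix (Fin 4) (Fin 4) F).mulVec v = v' ∧ (g : Matrix (Fin 4) (Fin 4) F).mulVec w = w' := by
  classical
  refine ⟨?_, fun H ⟨e⟩ v w v' w' hv hw hvw hv' hw' hvw' => ?_⟩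
  · obtain ⟨e⟩ := S0256.result hF
    let i : (Finset.univ.erase (0 : Fin 8)) ≃ Fin 7 := Finset.equivFinOfCardEq (by simp)
    let c := qcBot (card_eq_one.1 ((card_center_SL (ι := Fin 4) (F := F)).trans (by rw [hF]; rfl)))
    exact ⟨_, ⟨(MonoidHom.ofInjective (f := SpecialLinearGroup.toGL.comp ((e.symm.trans c).toMonoidHom.comp (alternatingGroup.ofSubtype _)))
      (SpecialLinearGroup.toGL_injective.comp ((e.symm.trans c).injective.comp alternatingGroup.ofSubtype_injective))).symm.trans
      i.altCongrHom⟩⟩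
  have cH : Nat.card H = 2520 := by
    rw [Nat.card_congr e.toEquiv, nat_card_alternatingGroup]; simp; decide
  have cG : Nat.card (GL (Fin 4) F) = 20160 := by rw [card_GL_field, hF]; decide
  set X := (Finset.univ.erase (0 : Fin 4 → F)).offDiag with hX
  have cX : X.card = 210 := by simp [hX, Finset.offDiag_card, Finset.card_erase_of_mem, hF]
  obtain ⟨t, ht⟩ := exists_prime_orderOf_dvd_card' (G := H) 2 (by rw [cH]; norm_num)
  have t2 : t * t = 1 := by rw [← sq, ← ht, pow_orderOf_eq_one]
  obtain ⟨x, hx⟩ : ∃ x : Fin 4 → F, t • x ≠ x := by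
    by_contra! h
    have : t = 1 := Subtype.ext (Units.ext (Matrix.ext_of_mulVec_single fun i => (h _).trans (one_mulVec _).symm))
    simp [this] at ht
  have hp : (x, t • x) ∈ X := by
    have : x ≠ 0 := fun h => hx (by simp [h])
    simp [hX, this, hx.symm, (smul_ne_zero_iff_ne t).2 this]
  have o := orb hF _ hp
  have s1 := index_mul_card (stabilizer (GL (Fin 4) F) (x, t • x))
  have s2 := index_mul_card (stabilizer H (x, t • x))
  rw [index_stabilizer, o, Set.ncard_coe_finset, cX, cG] at s1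
  rw [index_stabilizer, cH] at s2
  have sub : orbit H (x, t • x) ⊆ X := o ▸ orbit_subgroup_subset _ _
  have d : Nat.card (stabilizer H (x, t • x)) ∣ Nat.card (stabilizer (GL (Fin 4) F) (x, t • x)) :=
    card_dvd_of_injective ((H.subtype.comp (Subgroup.subtype _)).codRestrict _ fun g => g.2) fun a b h =>
      Subtype.ext (Subtype.ext (Subtype.ext_iff.1 h :))
  have le : (orbit H (x, t • x)).ncard ≤ 210 := cX ▸ Set.ncard_coe_finset X ▸ Set.ncard_le_ncard sub
  have ev : 2 ∣ (orbit H (x, t • x)).ncard := by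
    let f : Function.End (orbit H (x, t • x)) := fun q => ⟨q.1.swap, by
      obtain ⟨_, g, rfl⟩ := q
      exact ⟨g * t, Prod.ext (mul_smul _ _ _) (show (g * t) • t • x = g • x by rw [← mul_smul, mul_assoc, t2, mul_one])⟩⟩
    have := Equiv.Perm.card_fixedPoints_modEq (f := f) (p := 2) (n := 1) rfl
    have z : Fintype.card f.fixedPoints = 0 := Fintype.card_eq_zero_iff.2 ⟨fun ⟨q, hq⟩ =>
      (Finset.mem_offDiag.1 (sub q.2)).2.2 (congrArg (·.1.2) hq)⟩
    rw [z, ← Nat.card_eq_fintype_card] at this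
    exact (Nat.modEq_zero_iff_dvd).1 this
  have eq : orbit H (x, t • x) = X := Set.eq_of_subset_of_ncard_le sub (by
    rw [Set.ncard_coe_finset, cX]
    rw [show Nat.card (stabilizer (GL (Fin 4) F) (x, t • x)) = 96 by omega] at d
    have d2 := Nat.dvd_gcd d (Dvd.intro_left _ s2)
    generalize Nat.card (stabilizer H (x, t • x)) = s at *
    have := Nat.le_of_dvd (by norm_num) d2
    norm_num at this d2
    interval_cases s <;> omega)
  obtain ⟨a, ha⟩ := eq.ge (show (v, w) ∈ (X : Set _) by simp [hX, hv, hw, hvw])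
  obtain ⟨b, hb⟩ := eq.ge (show (v', w') ∈ (X : Set _) by simp [hX, hv', hw', hvw'])
  have k : (b * a⁻¹) • (v, w) = (v', w') := by rw [← ha, ← hb, mul_smul]; exact congrArg _ (inv_smul_smul _ _)
  exact ⟨_, (b * a⁻¹).2, congrArg Prod.fst k, congrArg Prod.snd k⟩

end Cfsg.Agent.S2551
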