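import Cfsg.Statements.S2552
import Cfsg.Agent.H5.Lin
import Cfsg.Agent.H5.Mat

set_option autoImplicit false
open Cfsg

namespace Cfsg.Agent.S2552

/-- Let F be a finite field and n ≥ 1. For every k, the special linear group SL_n(F) acts transitively on the set of k-dimensional subspaces of F^n: any two subspaces of the same dimension are carried onto each other by some matrix of determinant 1. -/
theorem result {F : Type*} [Field F] [Fintype F] (n : ℕ) (hn : 1 ≤ n) (U₁ U₂ : Submodule F (Fin n → F)) (h : Module.finrank F U₁ = Module.finrank F U₂) : ∃ g : Matrix.SpecialLinearGroup (Fin n) F, U₁.map ((Matrix.SpecialLinearGroup.toLin' g : (Fin n → F) ≃ₗ[F] (Fin n → F)) : (Fin n → F) →ₗ[F] (Fin n → F)) = U₂ := by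
  open CfsgH5 in
  by_cases h1 : U₁ = ⊤
  · obtain rfl : U₂ = ⊤ := Submodule.eq_top_of_finrank_eq (by rw [← h, h1, finrank_top])
    exact ⟨1, by rw [h1, Submodule.map_top, LinearEquiv.range]⟩
  let e := LinearEquiv.ofFinrankEq U₁ U₂ h
  obtain ⟨g, hg⟩ := exists_gl_extend U₁ (U₂.subtype ∘ₗ e.toLinearMap) (U₂.injective_subtype.comp e.injective)
  obtain ⟨s, hs, h2⟩ := exists_sl_eq_on h1 g
  obtain ⟨A, rfl⟩ := range_slHom.ge hs
  refine ⟨A, le_antisymm ?_ fun v hv => ⟨_, (e.symm ⟨v, hv⟩).2, ?_⟩⟩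
  · rintro _ ⟨v, hv, rfl⟩
    exact ((h2 v hv).trans (hg ⟨v, hv⟩) : slHom _ F A v = _) ▸ (e ⟨v, hv⟩).2
  · exact ((h2 _ (e.symm ⟨v, hv⟩).2).trans (hg _)).trans (by simp)

end Cfsg.Agent.S2552
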