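import Cfsg.Statements.S2564
import Cfsg.Agent.H5.OrthMat

set_option autoImplicit false
open Cfsg

namespace Cfsg.Agent.S2564

open CfsgH5

/-- On the 2m-dimensional space over the field of two elements (m ≥ 1) let f be the alternating form obtained by polarizing the plus-type form Σ xᵢyᵢ, and let q be any quadratic form polarizing to f. For a vector w, the function q + f(·, w) again polarizes to f, and it is equivalent to q under an invertible linear map (that is, has the same type) if and only if q(w) = 0. -/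
theorem result (m : ℕ) (hm : 1 ≤ m) (q : (Fin m ⊕ Fin m → ZMod 2) → ZMod 2) (hq : (∀ u v : (Fin m ⊕ Fin m → ZMod 2), q (u + v) = q u + q v + (Cfsg.quadFormPlus m (ZMod 2) (u + v) - Cfsg.quadFormPlus m (ZMod 2) u - Cfsg.quadFormPlus m (ZMod 2) v))) (w : (Fin m ⊕ Fin m → ZMod 2)) :
    (∀ u v : (Fin m ⊕ Fin m → ZMod 2), (q (u + v) + (Cfsg.quadFormPlus m (ZMod 2) (u + v + w) - Cfsg.quadFormPlus m (ZMod 2) (u + v) - Cfsg.quadFormPlus m (ZMod 2) w)) =
        (q u + (Cfsg.quadFormPlus m (ZMod 2) (u + w) - Cfsg.quadFormPlus m (ZMod 2) u - Cfsg.quadFormPlus m (ZMod 2) w)) + (q v + (Cfsg.quadFormPlus m (ZMod 2) (v + w) - Cfsg.quadFormPlus m (ZMod 2) v - Cfsg.quadFormPlus m (ZMod 2) w)) +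
        (Cfsg.quadFormPlus m (ZMod 2) (u + v) - Cfsg.quadFormPlus m (ZMod 2) u - Cfsg.quadFormPlus m (ZMod 2) v)) ∧
    ((∃ g : (Fin m ⊕ Fin m → ZMod 2) ≃ₗ[ZMod 2] (Fin m ⊕ Fin m → ZMod 2), ∀ v, q v + (Cfsg.quadFormPlus m (ZMod 2) (v + w) - Cfsg.quadFormPlus m (ZMod 2) v - Cfsg.quadFormPlus m (ZMod 2) w) = q (g v)) ↔ q w = 0) := by
  simp only [← plusForm_Q, Form.Q_add] at hq ⊢
  have h0 : ∀ a : ZMod 2, a = 0 ∨ a = 1 := by decide
  have h2 : ∀ a : ZMod 2, a * a = a ∧ a + a = 0 := by decide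
  have hq' : ∀ u v, q (u + v) = q u + q v + (plusForm m (ZMod 2)).B u v := fun u v => by rw [hq]; ring
  have hp : ∀ u v, QuadraticMap.polar q u v = (plusForm m (ZMod 2)).B u v := fun u v => by
    rw [QuadraticMap.polar, hq']; ring
  have h1 : q 0 = 0 := by simpa using hq' 0 0
  let S : Form (orthParam (ZMod 2)) _ := Form.ofQuad q (fun c x => by rcases h0 c with rfl | rfl <;> simp [h1])
    (by simp [hp]) (by simp [hp])
  have hQ : ∀ v, S.Q v = q v := Form.ofQuad_Q _ _ _ _
  have hB : ∀ u v, S.B u v = (plusForm m (ZMod 2)).B u v := hp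
  refine ⟨fun u v => by rw [hq', Form.add_left]; ring, fun ⟨g, hg⟩ => ?_, fun h => ?_⟩
  · refine (h0 _).resolve_right fun h => ?_
    have hS : S.Nondeg := fun x hx => plusForm_nondeg m x fun y => hB _ _ ▸ hx y
    have hg' : ∀ v, q (g v) = q v + (plusForm m (ZMod 2)).B v w := fun v => by rw [← hg]; ring
    have h3 := Form.orth_card_Q_even 0 m hS (finrank_sp m)
    have h4 := Form.orth_card_Q_even 1 m hS (finrank_sp m)
    have h5 : Nat.card {v // S.Q v = 1} = Nat.card {v // S.Q v = 0} :=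
      Nat.card_congr (((Equiv.addRight w).symm.trans g.toEquiv).subtypeEquiv fun v => by
        obtain ⟨v, rfl⟩ := (Equiv.addRight w).surjective v
        have h6 : ∀ a b : ZMod 2, a + 1 + b = 1 ↔ a + b = 0 := by decide
        simp [hQ, hg', hq', h, h6])
    rw [h5, h3, if_pos rfl, if_neg one_ne_zero, Nat.card_zmod] at h4
    have : (0 : ℤ) < 2 ^ m := by positivity
    rcases Int.units_eq_one_or S.tp with e | e <;> rw [e] at h4 <;> push_cast at h4 <;> linarith
  · refine ⟨dl ((plusForm m (ZMod 2)).lin w) w (by simp [Form.orth_self, two_mul, h2]), fun v => ?_⟩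
    rw [dl_apply, ← hQ, ← hQ, Form.Q_add_smul, hQ w, h, hB]
    simp [h2]
    ring

end Cfsg.Agent.S2564
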