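import Cfsg.Statements.S2561
import Cfsg.Agent.S2564

set_option autoImplicit false
open Cfsg

namespace Cfsg.Agent.S2561

open CfsgH5

/-- Fix the non-singular alternating form on the 2m-dimensional space over the field of two elements obtained by polarizing the plus-type form Σ xᵢyᵢ (m ≥ 1). The functions q on the space with q(u + v) = q(u) + q(v) + f(u, v) (the quadratic forms polarizing to f) number 2^(2m); each is equivalent under an invertible linear map either to the plus-type form or to the minus-type form Σ xᵢyᵢ + (z₁² + z₁z₂ + z₂²); and those of plus type number 2^(2m−1) + 2^(m−1), those of minus type 2^(2m−1) − 2^(m−1). -/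
theorem result (m : ℕ) (hm : 1 ≤ m) :
    Nat.card {q : (Fin m ⊕ Fin m → ZMod 2) → ZMod 2 // (∀ u v : (Fin m ⊕ Fin m → ZMod 2), q (u + v) = q u + q v + (Cfsg.quadFormPlus m (ZMod 2) (u + v) - Cfsg.quadFormPlus m (ZMod 2) u - Cfsg.quadFormPlus m (ZMod 2) v))} = 2 ^ (2 * m) ∧
    (∀ q : (Fin m ⊕ Fin m → ZMod 2) → ZMod 2, (∀ u v : (Fin m ⊕ Fin m → ZMod 2), q (u + v) = q u + q v + (Cfsg.quadFormPlus m (ZMod 2) (u + v) - Cfsg.quadFormPlus m (ZMod 2) u - Cfsg.quadFormPlus m (ZMod 2) v)) →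
      (∃ g : (Fin m ⊕ Fin m → ZMod 2) ≃ₗ[ZMod 2] (Fin m ⊕ Fin m → ZMod 2), ∀ v, q v = Cfsg.quadFormPlus m (ZMod 2) (g v)) ∨
      (∃ g : (Fin m ⊕ Fin m → ZMod 2) ≃ₗ[ZMod 2] ((Fin (m - 1) ⊕ Fin (m - 1)) ⊕ Fin 2 → ZMod 2), ∀ v, q v = Cfsg.quadFormMinus (m - 1) (ZMod 2) 1 1 (g v))) ∧
    Nat.card {q : (Fin m ⊕ Fin m → ZMod 2) → ZMod 2 // (∀ u v : (Fin m ⊕ Fin m → ZMod 2), q (u + v) = q u + q v + (Cfsg.quadFormPlus m (ZMod 2) (u + v) - Cfsg.quadFormPlus m (ZMod 2) u - Cfsg.quadFormPlus m (ZMod 2) v)) ∧ ∃ g : (Fin m ⊕ Fin m → ZMod 2) ≃ₗ[ZMod 2] (Fin m ⊕ Fin m → ZMod 2), ∀ v, q v = Cfsg.quadFormPlus m (ZMod 2) (g v)} = 2 ^ (2 * m - 1) + 2 ^ (m - 1) ∧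
    Nat.card {q : (Fin m ⊕ Fin m → ZMod 2) → ZMod 2 // (∀ u v : (Fin m ⊕ Fin m → ZMod 2), q (u + v) = q u + q v + (Cfsg.quadFormPlus m (ZMod 2) (u + v) - Cfsg.quadFormPlus m (ZMod 2) u - Cfsg.quadFormPlus m (ZMod 2) v)) ∧ ∃ g : (Fin m ⊕ Fin m → ZMod 2) ≃ₗ[ZMod 2] ((Fin (m - 1) ⊕ Fin (m - 1)) ⊕ Fin 2 → ZMod 2), ∀ v, q v = Cfsg.quadFormMinus (m - 1) (ZMod 2) 1 1 (g v)} = 2 ^ (2 * m - 1) - 2 ^ (m - 1) := by
  have hab : ∀ z₁ z₂ : ZMod 2, z₁ ^ 2 + 1 * z₁ * z₂ + 1 * z₂ ^ 2 = 0 → z₁ = 0 ∧ z₂ = 0 := by decide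
  have h0 : ∀ a : ZMod 2, a = 0 ∨ a = 1 := by decide
  have hP := plusForm_nondeg (F := ZMod 2) m
  have key := S2564.result m hm (quadFormPlus m (ZMod 2)) (fun u v => by ring)
  set P := fun q : (Fin m ⊕ Fin m → ZMod 2) → ZMod 2 => ∀ u v, q (u + v) = q u + q v +
    (quadFormPlus m (ZMod 2) (u + v) - quadFormPlus m (ZMod 2) u - quadFormPlus m (ZMod 2) v) with hP'
  let f : (Fin m ⊕ Fin m → ZMod 2) → (Fin m ⊕ Fin m → ZMod 2) → ZMod 2 := fun w v => quadFormPlus m (ZMod 2) v +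
    (quadFormPlus m (ZMod 2) (v + w) - quadFormPlus m (ZMod 2) v - quadFormPlus m (ZMod 2) w)
  have hf : ∀ w v, f w v = (plusForm m (ZMod 2)).Q v + (plusForm m (ZMod 2)).B v w := fun w v => by
    simp only [f, ← plusForm_Q, Form.Q_add]; ring
  have h1 : ∀ q, P q ↔ ∃ w, f w = q := fun q => ⟨fun h => by
    have h1 : q 0 = 0 := by simpa [quadFormPlus] using h 0 0
    obtain ⟨w, hw⟩ := hP.exists_dual ⟨⟨fun v => q v - quadFormPlus m (ZMod 2) v, fun u v => by rw [h]; ring⟩,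
      fun c v => by rcases h0 c with rfl | rfl <;> simp [h1, quadFormPlus]⟩
    exact ⟨w, funext fun v => by
      rw [hf, plusForm_Q, ← hw]; simp⟩,
    fun ⟨w, h⟩ => h ▸ (key w).1⟩
  have h2 : Function.Injective f := fun a b e => sub_eq_zero.1 (hP _ fun v => by
    simpa [hf, sub_eq_zero] using congrFun e v)
  have h3 : ∀ (R : _ → Prop) (R' : _ → Prop), (∀ w, R (f w) ↔ R' w) →
      Nat.card {q // P q ∧ R q} = Nat.card {w // R' w} := fun R R' h =>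
    (Nat.card_congr (Equiv.ofBijective (fun w : {w // R' w} =>
      (⟨f w.1, (h1 _).2 ⟨_, rfl⟩, (h _).2 w.2⟩ : {q // P q ∧ R q}))
      ⟨fun _ _ e => Subtype.ext (h2 (congrArg Subtype.val e)), fun ⟨q, h3, h4⟩ => by
        obtain ⟨w, rfl⟩ := (h1 q).1 h3; exact ⟨⟨w, (h w).1 h4⟩, rfl⟩⟩)).symm
  have h4 : ∀ q, P q → Xor (∃ g : _ ≃ₗ[ZMod 2] (Fin m ⊕ Fin m → ZMod 2), ∀ v, q v = quadFormPlus m (ZMod 2) (g v))
      (∃ g : _ ≃ₗ[ZMod 2] ((Fin (m - 1) ⊕ Fin (m - 1)) ⊕ Fin 2 → ZMod 2),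
        ∀ v, q v = quadFormMinus (m - 1) (ZMod 2) 1 1 (g v)) := fun q h => by
    have hp : ∀ u v, QuadraticMap.polar q u v = (plusForm m (ZMod 2)).B u v := fun u v => by
      simp only [QuadraticMap.polar, h u v, ← plusForm_Q, Form.Q_add]; ring
    have h1 : q 0 = 0 := by simpa [quadFormPlus] using h 0 0
    let S : Form (orthParam (ZMod 2)) _ := Form.ofQuad q (fun c x => by rcases h0 c with rfl | rfl <;> simp [h1])
      (by simp [hp]) (by simp [hp])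
    have hQ : ∀ v, S.Q v = q v := Form.ofQuad_Q _ _ _ _
    have hS : S.Nondeg := fun x hx => hP x fun y => hp _ _ ▸ hx y
    by_cases h5 : S.IsPlus
    · obtain ⟨g, hg⟩ := hS.exists_isom_plus h5 (finrank_sp m)
      exact .inl ⟨⟨g, fun v => by rw [← hQ, ← hg.Q, plusForm_Q]⟩, fun ⟨g, hg⟩ => minusForm_not_isPlus _ hab
        ((Form.IsIsom.isPlus_iff (e := g) (.of_Q fun v => by simp [hQ, hg, minusForm_Q])).2 h5)⟩
    · obtain ⟨g, hg⟩ := hS.exists_isom_minus h5 (m := m - 1) (by rw [finrank_sp]; omega) hab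
      exact .inr ⟨⟨g, fun v => by rw [← hQ, ← hg.Q, minusForm_Q]⟩, fun ⟨g, hg⟩ => h5
        ((Form.IsIsom.isPlus_iff (e := g) (.of_Q fun v => by simp [hQ, hg, plusForm_Q])).1 (plusForm_isPlus m))⟩
  have h5 := Form.orth_card_Q_even 0 m hP (finrank_sp m)
  have h6 := Form.orth_card_Q_even 1 m hP (finrank_sp m)
  simp only [plusForm_Q, Form.tp_eq_one_iff.2 (plusForm_isPlus m)] at h5 h6
  obtain ⟨m, rfl⟩ := Nat.exists_eq_add_of_le' hm
  refine ⟨?_, fun q h => (h4 q h).or, (h3 _ _ fun w => (key w).2).trans ?_, (h3 _ (fun w =>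
    quadFormPlus _ (ZMod 2) w = 1) fun w => ?_).trans ?_⟩
  · rw [Nat.card_congr (Equiv.subtypeEquivRight h1)]
    refine (Nat.card_range_of_injective h2).trans ?_
    simp [two_mul]
  · rw [show 2 * (m + 1) = 2 * m + 1 + 1 by ring] at h5 ⊢
    simp [pow_succ] at h5 ⊢
    zify; linarith
  · rw [← not_iff_not, ← (xor_iff_iff_not.1 (h4 _ ((h1 _).2 ⟨w, rfl⟩))), (key w).2]
    rcases h0 (quadFormPlus _ (ZMod 2) w) with e | e <;> simp [e]
  · rw [show 2 * (m + 1) = 2 * m + 1 + 1 by ring] at h6 ⊢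
    refine Nat.eq_sub_of_add_eq ?_
    simp [pow_succ] at h6 ⊢
    zify; linarith

end Cfsg.Agent.S2561
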