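import Cfsg.Statements.S2565
import Cfsg.Agent.H5.Iso2
import Cfsg.Agent.S0256

set_option autoImplicit false
open Cfsg

namespace Cfsg.Agent.S2565

open CfsgH5 Module

/-- The commutator subgroup of the full orthogonal group of the plus-type form Σ xᵢyᵢ in dimension 6 over the field of two elements (the group Ω⁺₆(2), of index 2) is isomorphic to the alternating group of degree 8. -/
theorem result :
    (Cfsg.Omega (ZMod 2) (Cfsg.quadFormPlus 3 (ZMod 2))).index = 2 ∧
    Nonempty (↥(Cfsg.Omega (ZMod 2) (Cfsg.quadFormPlus 3 (ZMod 2))) ≃* alternatingGroup (Fin 8)) := by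
  have hG : (plusForm 3 (ZMod 2)).Gen := .inl (.inr (by simp))
  obtain ⟨f⟩ := exists_omega_six_plus (F := ZMod 2)
  obtain ⟨e⟩ := Cfsg.Agent.S0256.result (F := ZMod 2) (by simp)
  exact ⟨(index_Omega (plusForm_Q 3)).trans (hG.index (plusForm_nondeg 3) rfl (by simp)),
    ⟨(omEquiv (plusForm_Q 3)).trans ((qcBot (hG.center_bot (plusForm_nondeg 3) (by simp) (.inl rfl))).symm.trans
      (f.trans e))⟩⟩

end Cfsg.Agent.S2565
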