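import Cfsg.Statements.S2567
import Cfsg.Agent.H1.Basic

set_option autoImplicit false
open Cfsg

namespace Cfsg.Agent.S2567

/-- Lifting elements of prime order from PGL to GL: let F be a finite field with q elements, r a prime not dividing q − 1, and x an element of order r in GL_n(F) modulo its centre (the scalar matrices). Then x has exactly one preimage in GL_n(F) of order r. -/
theorem result {F : Type*} [Field F] [Fintype F] {q n r : ℕ} (hF : Fintype.card F = q) (hr : r.Prime) (hdiv : ¬ r ∣ q - 1) (x : GL (Fin n) F ⧸ Subgroup.center (GL (Fin n) F)) (hx : orderOf x = r) : ∃! g : GL (Fin n) F, (QuotientGroup.mk g : GL (Fin n) F ⧸ Subgroup.center (GL (Fin n) F)) = x ∧ orderOf g = r := by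
  subst hF
  have hz : ∀ z ∈ Subgroup.center (GL (Fin n) F), z ^ (Fintype.card F - 1) = 1 := by
    rw [Matrix.GeneralLinearGroup.center_eq_range_scalar]
    rintro _ ⟨u, rfl⟩
    rw [← map_pow, ← Nat.card_eq_fintype_card, ← Nat.card_units, pow_card_eq_one', map_one]
  have cop := (Nat.Prime.coprime_iff_not_dvd hr).2 hdiv
  obtain ⟨k, h1, h2⟩ := Nat.chineseRemainder cop 1 0
  obtain ⟨j, rfl⟩ := Nat.modEq_zero_iff_dvd.1 h2
  obtain ⟨g, rfl⟩ := QuotientGroup.mk_surjective x
  haveI := Fact.mk hr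
  have e : ((g ^ ((Fintype.card F - 1) * j) : GL (Fin n) F) : _ ⧸ Subgroup.center (GL (Fin n) F)) = g := by
    rw [QuotientGroup.mk_pow, pow_eq_pow_iff_modEq.2 (hx ▸ h1), pow_one]
  refine existsUnique_of_exists_of_unique ⟨_, e, orderOf_eq_prime ?_ fun c => hr.one_lt.ne' ?_⟩
    fun a b ha hb => ?_
  · rw [← pow_mul, mul_comm, pow_mul, pow_mul, hz, one_pow]
    rw [← QuotientGroup.eq_one_iff, QuotientGroup.mk_pow, ← hx, pow_orderOf_eq_one]
  · rw [← hx, ← e, c]; simp
  · have hc := QuotientGroup.eq.1 (ha.1.trans hb.1.symm)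
    have h3 : (a⁻¹ * b) ^ r = 1 := by
      have : (a * (a⁻¹ * b)) ^ r = 1 := by rw [mul_inv_cancel_left, ← hb.2, pow_orderOf_eq_one]
      rwa [Commute.mul_pow (Subgroup.mem_center_iff.1 hc a), ← ha.2, pow_orderOf_eq_one, one_mul, ha.2] at this
    exact inv_mul_eq_one.1 (orderOf_eq_one_iff.1 (Nat.eq_one_of_dvd_coprimes cop (orderOf_dvd_of_pow_eq_one h3)
      (orderOf_dvd_of_pow_eq_one (hz _ hc))))

end Cfsg.Agent.S2567
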