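import Cfsg.Statements.S2568
import Cfsg.Agent.H5.Cj1

set_option autoImplicit false
open Cfsg

namespace Cfsg.Agent.S2568

open CfsgH5

/-- Number of conjugacy classes of elements of a given prime order r, coprime to the characteristic, in GL_n(q): if i is the multiplicative order of q modulo r and t = (r − 1)/i, the classes correspond to the non-zero t-tuples of natural numbers (a_1, …, a_t) with i(a_1 + ⋯ + a_t) ≤ n (a_j is the multiplicity of the j-th Frobenius orbit of nontrivial r-th roots of unity among the eigenvalues), so there are exactly C(⌊n/i⌋ + t, t) − 1 of them. -/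
theorem result {F : Type*} [Field F] [Fintype F] {p q : ℕ} [Fact p.Prime] [CharP F p] (hF : Fintype.card F = q) (n r i t : ℕ) (hr : r.Prime) (hrp : r ≠ p) (hi : i = orderOf (q : ZMod r)) (ht : t * i = r - 1) : Nat.card {C : ConjClasses (GL (Fin n) F) // ∃ g : GL (Fin n) F, ConjClasses.mk g = C ∧ orderOf g = r} = Nat.choose (n / i + t) t - 1 := by
  subst hF hi
  have h : (r : F) ≠ 0 := (cast_ne_zero_iff p).2 ((Nat.coprime_primes hr Fact.out).2 hrp)
  obtain ⟨h1, h2⟩ := card_cyT hr h ht
  rw [card_order_prime (glEquiv (Fin n) F).toMonoidHom (glEquiv _ F).injective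
    (MonoidHom.range_eq_top.2 (glEquiv _ F).surjective) hr
    (fun g _ h _ _ e => (conj_iff_sim.2 e).imp fun _ h => ⟨trivial, h⟩) _ fun m => ?_, ← h1,
    ← card_mset_le (one_notMem_cyT hr h)]
  refine ⟨fun hm => (exists_cyT hr h hm.1 (by
    simpa [dg0_const fun a ha => (cyT_spec hr h).1 a (hm.1 a ha), mul_comm] using
      (Nat.le_div_iff_mul_le h2).1 hm.2)).imp fun _ h => ⟨trivial, h⟩, ?_⟩
  rintro ⟨g, -, h3, rfl⟩
  have h4 := (pow_eq_one_iff_ed1 hr h).1 h3
  refine ⟨h4, (Nat.le_div_iff_mul_le h2).2 ?_⟩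
  simpa [dg0_const fun a ha => (cyT_spec hr h).1 a (h4 a ha), mul_comm] using
    dg0_ed1_le (g : Module.End F (Fin n → F))

end Cfsg.Agent.S2568
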