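import Cfsg.Statements.S2570
import Cfsg.Agent.H5.Cj1

set_option autoImplicit false
open Cfsg

namespace Cfsg.Agent.S2570

open CfsgH5

/-- Number of conjugacy classes of elements of order p in GL_n over a finite field of characteristic p: they correspond to the Jordan types, that is, to the partitions of n with all parts at most p other than the partition into ones, so there are (number of partitions of n with parts ≤ p) − 1 of them. -/
theorem result {F : Type*} [Field F] [Fintype F] {p : ℕ} [Fact p.Prime] [CharP F p] (n : ℕ) : Nat.card {C : ConjClasses (GL (Fin n) F) // ∃ g : GL (Fin n) F, ConjClasses.mk g = C ∧ orderOf g = p} = (Finset.univ.filter (fun μ : Nat.Partition n => ∀ a ∈ μ.parts, a ≤ p)).card - 1 := by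
  rw [card_classes' (glEquiv (Fin n) F).toMonoidHom (glEquiv _ F).injective
    (MonoidHom.range_eq_top.2 (glEquiv _ F).surjective) _ (fun g => g ^ p = 1 ∧ g ≠ 1)
    (fun g => by rw [← orderOf_eq_prime_iff]; simp) (fun g => jt g.toLinearMap)
    ({m | (∀ e ∈ m, 0 < e) ∧ m.sum = n ∧ ∀ e ∈ m, e ≤ p} \ {Multiset.replicate n 1}),
    ← card_part n fun m => ∀ e ∈ m, e ≤ p, Nat.card_coe_set_eq, Nat.card_coe_set_eq,
    Set.ncard_sdiff_singleton_of_mem]
  · simp [Multiset.mem_replicate, (Fact.out : p.Prime).one_le]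
  · exact fun g _ h _ h1 h2 => ⟨fun ⟨k, _, e⟩ => (conj_iff_sim.1 ⟨k, e⟩).jt, fun e =>
      (conj_iff_sim.2 (sim_of_jt (nil_of_pow p h1.1) (nil_of_pow p h2.1) e)).imp fun _ h => ⟨trivial, h⟩⟩
  · refine fun m => ⟨fun h => (exists_jt h.1.1 (by simpa using h.1.2.1)).imp fun g h1 => ⟨trivial,
      (jt_prime p h1.1).2 (by simpa [h1.2] using ⟨h.1.2.2, h.2⟩), h1.2⟩, ?_⟩
    rintro ⟨g, -, h, rfl⟩
    have := (jt_prime p (nil_of_pow p h.1)).1 h
    exact ⟨⟨jt_pos, by simp [jt_sum], this.1⟩, by simpa using this.2⟩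

end Cfsg.Agent.S2570
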