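import Cfsg.Statements.S2572
import Cfsg.Agent.H5.W2

set_option autoImplicit false
open Cfsg

namespace Cfsg.Agent.S2572

open CfsgH5

/-- Centraliser of a transvection in GL_n(q), n ≥ 2: if t − 1 has rank one and square zero, the centraliser of t in GL_n(q) has order q^(2n−3) (q − 1) |GL_(n−2)(q)| (a group of order q^(2n−3) extended by GL_1(q) × GL_(n−2)(q)). -/
theorem result {F : Type*} [Field F] [Fintype F] {q n : ℕ} (hF : Fintype.card F = q) (hn : 2 ≤ n) (t : GL (Fin n) F) (ht : Cfsg.IsTransvection (t : Matrix (Fin n) (Fin n) F)) : Nat.card ↥(Subgroup.centralizer ({t} : Set (GL (Fin n) F))) = q ^ (2 * n - 3) * (q - 1) * ∏ i : Fin (n - 2), (q ^ (n - 2) - q ^ (i : ℕ)) := by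
  obtain ⟨n, rfl⟩ := Nat.exists_eq_add_of_le' hn
  have h1 := ht.1
  rw [rank_sub_one (glEquiv_apply t)] at h1
  have := card_centralizer_of_inj (φ := (glEquiv _ F).toMonoidHom) (glEquiv _ F).injective
    (MonoidHom.range_eq_top.2 (glEquiv _ F).surjective) t
  rw [this, inf_top_eq]
  have := card_centralizer_tr (mov_le_fix_of_mat (glEquiv_apply t) ht.2) h1 (n := n) (by simp)
  rw [Nat.card_eq_fintype_card (α := F), hF] at this
  exact this

end Cfsg.Agent.S2572
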