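import Cfsg.Statements.S2574
import Cfsg.Agent.H5.Cj1
import Cfsg.Agent.H5.SpMat

set_option autoImplicit false
open Cfsg

namespace Cfsg.Agent.S2574

open CfsgH5

/-- A regular unipotent element of the symplectic group has totally isotropic small invariant subspaces: over a finite field, if u ∈ Sp_2m(F) satisfies (u − 1)^(2m) = 0 and rank(u − 1) = 2m − 1, and W is a u-invariant subspace with 2 dim W ≤ 2m, then the alternating form vanishes identically on W. -/
theorem result {F : Type*} [Field F] [Finite F] {m : ℕ} (u : Matrix.symplecticGroup (Fin m) F) (hnil : ((u : Matrix (Fin m ⊕ Fin m) (Fin m ⊕ Fin m) F) - 1) ^ (2 * m) = 0) (hreg : ((u : Matrix (Fin m ⊕ Fin m) (Fin m ⊕ Fin m) F) - 1).rank = 2 * m - 1) (W : Submodule F (Fin m ⊕ Fin m → F)) (hW : ∀ v ∈ W, (u : Matrix (Fin m ⊕ Fin m) (Fin m ⊕ Fin m) F).mulVec v ∈ W) (hdim : 2 * Module.finrank F W ≤ 2 * m) : ∀ v ∈ W, ∀ w ∈ W, Cfsg.sympForm m F v w = 0 := by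
  have h : RU (Matrix.toLin' u.1) := ru_toLin'.2 (by simpa [← two_mul] using ⟨hnil, hreg⟩)
  have h1 := h.inv_eq hW
  have hs : spHom m F u ∈ stab F (W : Set _) := mem_stab_of_le hW
  have h2 := h.inv_eq (A := (spForm m F).perp W) fun v hv =>
    stab_apply (Form.isom_stab_perp (spHom_mem m u) hs) hv
  have h3 := (spForm_nondeg (F := F) m).finrank_perp W
  rw [finrank_sp] at h3
  have h4 : W ≤ (spForm m F).perp W := by
    rw [h2]
    exact h1.le.trans ((LinearMap.iterateKer _).monotone (by omega))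
  intro v hv w hw
  exact Form.mem_perp.1 (h4 hv) w hw

end Cfsg.Agent.S2574
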