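import Cfsg.Statements.S2575
import Cfsg.Agent.H1.PSL2c
import Cfsg.Agent.H5.FieldQ

set_option autoImplicit false
open Cfsg

namespace Cfsg.Agent.S2575

theorem pv (k m : ℕ) (h : Odd m) : padicValNat 2 (2 ^ k * m) = k := by
  rw [padicValNat.mul (by positivity) h.pos.ne', padicValNat.prime_pow, padicValNat.eq_zero_of_not_dvd h.not_two_dvd_nat, add_zero]

/-- Which diagonal involutions of PGL_n(q) lie in PSL_n(q), q odd: for the diagonal matrix t with i entries −1 and n − i entries 1, some non-zero scalar multiple of t has determinant one if and only if i is even or the 2-part of q − 1 exceeds the 2-part of n (that is, −1 is an n-th power in the field exactly in the latter case). -/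
theorem result {F : Type*} [Field F] [Fintype F] {q : ℕ} (hF : Fintype.card F = q) (hq : Odd q) {n : ℕ} (hn : 1 ≤ n) (i : ℕ) (hi : i ≤ n) : (∃ c : F, c ≠ 0 ∧ (c • Matrix.diagonal (fun j : Fin n => if (j : ℕ) < i then (-1 : F) else 1)).det = 1) ↔ (Even i ∨ padicValNat 2 n < padicValNat 2 (q - 1)) := by
  open CfsgH1.L2 in
  subst hF
  have h2 : (-1 : F) ≠ 1 := fun h => CfsgH5.two_ne_zero_of_odd hq (by linear_combination -h)
  have hd : ∀ c : F, (c • Matrix.diagonal (fun j : Fin n => if (j : ℕ) < i then (-1 : F) else 1)).det = c ^ n * (-1) ^ i := fun c => by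
    rw [Matrix.det_smul, Matrix.det_diagonal, Fintype.card_fin, Finset.prod_ite, Finset.prod_const, Finset.prod_const,
      one_pow, mul_one, Fin.card_filter_val_lt, min_eq_right hi]
  simp only [hd]
  rcases Nat.even_or_odd i with h | h
  · exact iff_of_true ⟨1, one_ne_zero, by simp [h.neg_one_pow]⟩ (.inl h)
  obtain ⟨a, s, hs, rfl⟩ := Nat.exists_eq_two_pow_mul_odd (n := n) (by omega)
  obtain ⟨b, t, ht, e⟩ := Nat.exists_eq_two_pow_mul_odd (n := Fintype.card F - 1) q_sub_pos.ne'
  rw [or_iff_right (Nat.not_even_iff_odd.2 h), e, pv a s hs, pv b t ht, h.neg_one_pow]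
  refine ⟨fun ⟨c, c0, hc⟩ => ?_, fun hab => ?_⟩
  · by_contra! hab
    obtain ⟨d, rfl⟩ := Nat.exists_eq_add_of_le hab
    have := congrArg (· ^ t) hc
    simp only [mul_pow, ht.neg_one_pow, ← pow_mul, one_pow] at this
    rw [show 2 ^ (b + d) * s * t = 2 ^ b * t * (2 ^ d * s) by ring, ← e, pow_mul, FiniteField.pow_card_sub_one_eq_one c c0] at this
    exact h2 (by simpa using this)
  · obtain ⟨z, hz⟩ := IsCyclic.exists_generator (α := Fˣ)
    obtain ⟨w, -, hw⟩ := exists_order_dvd (a := z) (m := 2 ^ (a + 1)) (by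
      rw [orderOf_eq_card_of_forall_mem_zpowers hz, card_units', e]; exact (pow_dvd_pow 2 hab).mul_right _)
    have : (w : F) ^ 2 ^ a = -1 := (mul_self_eq_one_iff.1 (by
      rw [← pow_add, ← mul_two, ← pow_succ, ← hw, ← Units.val_pow_eq_pow_val, pow_orderOf_eq_one, Units.val_one])).resolve_left
        fun c => pow_ne_one_of_lt_orderOf (by positivity) (hw ▸ Nat.pow_lt_pow_right one_lt_two (lt_add_one a)) (Units.ext c)
    exact ⟨w, w.ne_zero, by rw [pow_mul, this, hs.neg_one_pow]; simp⟩

end Cfsg.Agent.S2575
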