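import Cfsg.Statements.S2576
import Cfsg.Agent.H1.PSL2c
import Cfsg.Agent.H5.FieldQ
import Cfsg.Agent.S2575

set_option autoImplicit false
open Cfsg

namespace Cfsg.Agent.S2576

/-- Which involutions of PGL_2m(q) coming from a scalar of the quadratic extension field lie in PSL_2m(q), q odd: let μ generate the Sylow 2-subgroup of the multiplicative group of the field with q elements (μ has order the 2-part of q − 1) and let t be the block-diagonal matrix with m diagonal blocks [[0, 1], [μ, 0]] (so t² is the scalar μ and t is an involution modulo scalars). Then some non-zero scalar multiple of t has determinant one if and only if q ≡ 3 (mod 4) or the 2-part of q − 1 is less than the 2-part of 2m. -/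
theorem result {F : Type*} [Field F] [Fintype F] {q : ℕ} (hF : Fintype.card F = q) (hq : Odd q) {m : ℕ} (hm : 1 ≤ m) (μ : F) (hμ : orderOf μ = 2 ^ padicValNat 2 (q - 1)) : (∃ c : F, c ≠ 0 ∧ (c • Matrix.blockDiagonal (fun _ : Fin m => !![(0 : F), 1; μ, 0])).det = 1) ↔ (q % 4 = 3 ∨ padicValNat 2 (q - 1) < padicValNat 2 (2 * m)) := by
  open CfsgH1.L2 Cfsg.Agent.S2575 in
  subst hF
  have h2 : (-1 : F) ≠ 1 := fun h => CfsgH5.two_ne_zero_of_odd hq (by linear_combination -h)
  have hd : ∀ c : F, (c • Matrix.blockDiagonal (fun _ : Fin m => !![(0 : F), 1; μ, 0])).det = c ^ (2 * m) * (-μ) ^ m := fun c => by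
    simp [Matrix.det_blockDiagonal, Matrix.det_fin_two]
  simp only [hd]
  obtain ⟨a, s, hs, rfl⟩ := Nat.exists_eq_two_pow_mul_odd (n := m) (by omega)
  obtain ⟨b, t, ht, e⟩ := Nat.exists_eq_two_pow_mul_odd (n := Fintype.card F - 1) q_sub_pos.ne'
  rw [e, pv b t ht] at hμ ⊢
  rw [← mul_assoc, ← pow_succ', pv _ s hs]
  have q2 := two_le_q (F := F)
  obtain ⟨b, rfl⟩ : ∃ c, b = c + 1 := Nat.exists_eq_add_one_of_ne_zero (by
    rintro rfl
    obtain ⟨_, _⟩ := hq; obtain ⟨_, _⟩ := ht; omega)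
  have h1 : μ ^ 2 ^ (b + 1) = 1 := hμ ▸ pow_orderOf_eq_one μ
  have h3 : μ ^ 2 ^ b = -1 := (mul_self_eq_one_iff.1 (by rw [← pow_add, ← mul_two, ← pow_succ, h1])).resolve_left
    (pow_ne_one_of_lt_orderOf (by positivity) (hμ ▸ Nat.pow_lt_pow_right one_lt_two (lt_add_one b)))
  refine ⟨fun ⟨c, c0, hc⟩ => ?_, fun h => ⟨1, one_ne_zero, ?_⟩⟩
  · by_contra! hab
    obtain ⟨d, rfl⟩ := Nat.exists_eq_add_of_le (Nat.add_le_add_iff_right.1 hab.2)
    have := congrArg (· ^ (2 ^ d * t)) hc
    simp only [mul_pow, ← pow_mul, one_pow] at this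
    rw [show 2 ^ (a + 1) * s * (2 ^ d * t) = 2 ^ (a + d + 1) * t * s by ring, ← e, pow_mul,
      FiniteField.pow_card_sub_one_eq_one c c0, show 2 ^ a * s * (2 ^ d * t) = 2 ^ (a + d) * (s * t) by ring, pow_mul,
      Even.neg_pow (Nat.even_pow.2 ⟨even_two, fun c => hab.1 (by
        rw [c] at e; obtain ⟨_, _⟩ := ht; omega)⟩), h3, (hs.mul ht).neg_one_pow] at this
    exact h2 (by simpa using this)
  · rcases h with h | h
    · obtain rfl : b = 0 := by
        by_contra c
        obtain ⟨b, rfl⟩ := Nat.exists_eq_add_one_of_ne_zero c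
        rw [pow_succ, pow_succ, mul_assoc, mul_assoc, mul_comm] at e
        have : 4 ∣ Fintype.card F - 1 := ⟨t * 2 ^ b, by rw [e]; ring⟩
        omega
      simp [show μ = -1 by simpa using h3]
    · obtain ⟨d, rfl⟩ := Nat.exists_eq_add_of_le (show b + 1 ≤ a by omega)
      rw [pow_add 2 (b + 1), mul_assoc, pow_mul (-μ), Even.neg_pow (Nat.even_pow.2 ⟨even_two, by omega⟩), h1]; simp

end Cfsg.Agent.S2576
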