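import Cfsg.Statements.S2578
import Cfsg.Agent.H5.Cj1

set_option autoImplicit false
open Cfsg

namespace Cfsg.Agent.S2578

open CfsgH5

/-- Regular unipotent classes of SL_n(q): for n ≥ 2 over the field with q elements, the matrices u of determinant one with (u − 1)^n = 0 and rank(u − 1) = n − 1 form a single GL_n(q)-class which splits into exactly gcd(n, q − 1) conjugacy classes of SL_n(q). -/
theorem result {F : Type*} [Field F] [Fintype F] {q : ℕ} (hF : Fintype.card F = q) {n : ℕ} (hn : 2 ≤ n) : Nat.card {C : ConjClasses (Matrix.SpecialLinearGroup (Fin n) F) // ∃ u : Matrix.SpecialLinearGroup (Fin n) F, ConjClasses.mk u = C ∧ ((u : Matrix (Fin n) (Fin n) F) - 1) ^ n = 0 ∧ ((u : Matrix (Fin n) (Fin n) F) - 1).rank = n - 1} = Nat.gcd n (q - 1) := by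
  have h0 : 0 < Module.finrank F (Fin n → F) := by simp; omega
  obtain ⟨u, h1, h2, h3⟩ := exists_ru h0
  rw [card_split (slHom (Fin n) F) slHom_inj (A := ⊤) LinearEquiv.det (u := u) (fun g => by
    rw [range_slHom, mem_slSub]; simp [Units.ext_iff]) (range_slHom.ge (mem_slSub.2 h2)) _ fun g => by
      have := ru_toLin' (A := g.val)
      rw [Fintype.card_fin] at this
      rw [← this, h3, ← slHom_coe, ← conj_iff_sim]; simp,
    inf_top_eq, h1.map_det h0, Subgroup.map_top_of_surjective _ (det_surj h0), Subgroup.relIndex_top_right,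
    IsCyclic.index_powMonoidHom_range, Nat.gcd_comm, Nat.card_units]
  simp [hF]

end Cfsg.Agent.S2578
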