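import Cfsg.Statements.S2579
import Cfsg.Agent.H5.W2

set_option autoImplicit false
open Cfsg

namespace Cfsg.Agent.S2579

open CfsgH5

/-- In SL_n(F) with n ≥ 3, over a finite field F, any two transvections (matrices t with t − 1 of rank one and square zero) are conjugate by an element of SL_n(F). -/
theorem result {F : Type*} [Field F] [Finite F] {n : ℕ} (hn : 3 ≤ n) (s t : Matrix.SpecialLinearGroup (Fin n) F) (hs : Cfsg.IsTransvection (s : Matrix (Fin n) (Fin n) F)) (ht : Cfsg.IsTransvection (t : Matrix (Fin n) (Fin n) F)) : IsConj s t := by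
  have h1 := hs.1
  have h2 := ht.1
  rw [rank_sub_one (slHom_apply _)] at h1 h2
  rw [isConj_of_card_classes slHom_inj range_slHom]
  exact sqz_conj_sl (mov_le_fix_of_mat (slHom_apply s) hs.2) (mov_le_fix_of_mat (slHom_apply t) ht.2)
    (h1.trans h2.symm) (Or.inl (by simp [h1]; omega))

end Cfsg.Agent.S2579
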