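import Cfsg.Statements.S2582
import Cfsg.Agent.H5.Cj4

set_option autoImplicit false
open Cfsg

namespace Cfsg.Agent.S2582

open CfsgH5

/-- Which unipotent Jordan types occur in the finite symplectic group: over a finite field, a unipotent matrix with Jordan block sizes d_1, …, d_t (sum 2m, all at least 1) is similar to an element of Sp_2m(F) if and only if every odd block size occurs an even number of times. -/
theorem result {F : Type*} [Field F] [Fintype F] {m t : ℕ} (d : Fin t → ℕ) (hd : ∀ k, 1 ≤ d k) (hsum : ∑ k, d k = 2 * m) : (∃ e : ((k : Fin t) × Fin (d k)) ≃ (Fin m ⊕ Fin m), ∃ A : Matrix.symplecticGroup (Fin m) F, IsConj (Matrix.reindex e e (Cfsg.jordanTypeMatrix d F)) (A : Matrix (Fin m ⊕ Fin m) (Fin m ⊕ Fin m) F)) ↔ ∀ j : ℕ, Odd j → Even (Finset.univ.filter (fun k : Fin t => d k = j)).card := by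
  simp only [← count_map_univ]
  have h0 : ∀ e ∈ Finset.univ.val.map d, 0 < e := fun e he => by obtain ⟨k, -, rfl⟩ := Multiset.mem_map.1 he; exact hd k
  refine ⟨fun ⟨e, A, h⟩ j hj => ?_, fun h => ?_⟩
  · have := ((jordan_iff hd e _).1 h).jt h0
    exact this.2 ▸ (spForm_nondeg m).sp_parity (spHom_mem m A) this.1 hj
  · obtain ⟨g, h1, h2⟩ := (spForm_nondeg (F := F) m).sp_exists_unip h0 (hsum.trans (finrank_sp m).symm) h
    obtain ⟨A, rfl⟩ := exists_spHom h1
    exact ⟨Fintype.equivOfCardEq (by simp [hsum, two_mul]), A, (jordan_iff hd _ _).2 h2⟩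

end Cfsg.Agent.S2582
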