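import Cfsg.Statements.S2583
import Cfsg.Agent.H5.Cj4

set_option autoImplicit false
open Cfsg

namespace Cfsg.Agent.S2583

open CfsgH5

/-- Which unipotent Jordan types occur in a finite orthogonal group in odd characteristic: over a finite field of odd order, a unipotent matrix with Jordan block sizes d_1, …, d_t (sum n, all at least 1) is similar to an isometry of some quadratic form on F^n with non-degenerate polar form if and only if every even block size occurs an even number of times. -/
theorem result {F : Type*} [Field F] [Fintype F] (h2 : (2 : F) ≠ 0) {n t : ℕ} (d : Fin t → ℕ) (hd : ∀ k, 1 ≤ d k) (hsum : ∑ k, d k = n) : (∃ Q : QuadraticForm F (Fin n → F), (QuadraticMap.polarBilin Q).Nondegenerate ∧ ∃ e : ((k : Fin t) × Fin (d k)) ≃ Fin n, ∃ A : ↥(Cfsg.isometryGroup F ⇑Q), IsConj (Matrix.reindex e e (Cfsg.jordanTypeMatrix d F)) ((A : Matrix.GeneralLinearGroup (Fin n) F) : Matrix (Fin n) (Fin n) F)) ↔ ∀ j : ℕ, Even j → 0 < j → Even (Finset.univ.filter (fun k : Fin t => d k = j)).card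 := by
  simp only [← count_map_univ]
  have h0 : ∀ e ∈ Finset.univ.val.map d, 0 < e := fun e he => by obtain ⟨k, -, rfl⟩ := Multiset.mem_map.1 he; exact hd k
  refine ⟨fun ⟨Q, hQ, e, A, h⟩ j hj _ => ?_, fun h => ?_⟩
  · have := ((jordan_iff hd e _).1 h).jt h0
    exact this.2 ▸ (Form.ofQF_nondeg hQ).orth_parity h2 (oHom_mem (Form.ofQF_Q Q) A) this.1 hj
  · obtain ⟨S, h1, g, h3, h4⟩ := orth_exists_unip (V := Fin n → F) h2 h0 (hsum.trans (by simp)) h
    obtain ⟨A, rfl⟩ := exists_oHom (Q := S.toQF) (fun _ => rfl) h3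
    exact ⟨_, h1.toQF, Fintype.equivOfCardEq (by simp [hsum]), A, (jordan_iff hd _ _).2 h4⟩

end Cfsg.Agent.S2583
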