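import Cfsg.Statements.S2584
import Cfsg.Agent.H5.Cj4

set_option autoImplicit false
open Cfsg

namespace Cfsg.Agent.S2584

open CfsgH5

/-- Which unipotent Jordan types occur in a finite orthogonal group in characteristic two: over a finite field of characteristic 2 and in even dimension 2m, a unipotent matrix with Jordan block sizes d_1, …, d_t (sum 2m, all at least 1) is similar to an isometry of some quadratic form on F^(2m) with non-degenerate polar form if and only if every odd block size occurs an even number of times (the same condition as for the symplectic group, which contains these orthogonal groups). -/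
theorem result {F : Type*} [Field F] [Fintype F] [CharP F 2] {m t : ℕ} (d : Fin t → ℕ) (hd : ∀ k, 1 ≤ d k) (hsum : ∑ k, d k = 2 * m) : (∃ Q : QuadraticForm F (Fin (2 * m) → F), (QuadraticMap.polarBilin Q).Nondegenerate ∧ ∃ e : ((k : Fin t) × Fin (d k)) ≃ Fin (2 * m), ∃ A : ↥(Cfsg.isometryGroup F ⇑Q), IsConj (Matrix.reindex e e (Cfsg.jordanTypeMatrix d F)) ((A : Matrix.GeneralLinearGroup (Fin (2 * m)) F) : Matrix (Fin (2 * m)) (Fin (2 * m)) F)) ↔ ∀ j : ℕ, Odd j → Even (Finset.univ.filter (fun k : Fin t => d k = j)).card := by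
  simp only [← count_map_univ]
  have h2 : (2 : F) = 0 := CharP.cast_eq_zero F 2
  have h0 : ∀ e ∈ Finset.univ.val.map d, 0 < e := fun e he => by obtain ⟨k, -, rfl⟩ := Multiset.mem_map.1 he; exact hd k
  refine ⟨fun ⟨Q, hQ, e, A, h⟩ j hj => ?_, fun h => ?_⟩
  · have := ((jordan_iff hd e _).1 h).jt h0
    exact this.2 ▸ Form.Nondeg.sp_parity (S := (Form.ofQF Q).toSp h2) (Form.ofQF_nondeg hQ)
      ((spParam_isMax.mem_isom _).2 (oHom_mem (Form.ofQF_Q Q) A).1) this.1 hj
  · let φ : (Fin (2 * m) → F) ≃ₗ[F] (Fin m ⊕ Fin m → F) := .ofFinrankEq _ _ (by simp [two_mul])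
    have h1 : ((plusForm m F).comap φ.toLinearMap).Nondeg :=
      (Form.IsIsom.symm (e := φ) ⟨fun _ _ => rfl, fun _ => rfl⟩).nondeg (plusForm_nondeg m)
    obtain ⟨g, h3, h4⟩ := Form.Nondeg.sp_exists_unip (S := Form.toSp h2 ((plusForm m F).comap φ.toLinearMap)) h1 h0 (hsum.trans (by simp)) h
    obtain ⟨S, h5, h6⟩ := Form.exists_quad ((plusForm m F).comap φ.toLinearMap) (g := g) h3.1
    obtain ⟨A, rfl⟩ := exists_oHom (Q := S.toQF) (fun _ => rfl) h6
    exact ⟨_, Form.Nondeg.toQF fun x hx => h1 x (by simpa [h5] using hx),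
      Fintype.equivOfCardEq (by simp [hsum]), A, (jordan_iff hd _ _).2 h4⟩

end Cfsg.Agent.S2584
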