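import Cfsg.Statements.S2588
import Cfsg.Agent.H5.Cj3

set_option autoImplicit false
open Cfsg

namespace Cfsg.Agent.S2588

open CfsgH5 Matrix

/-- An invertible matrix A over the field with q² elements is conjugate in GL_n(q²) to an element of the general unitary group GU_n(q) (isometries of the Hermitian form Σ u_i v_i^q) if and only if A is similar to the inverse transpose of its entrywise q-th power (A ~ A^(−qT), the image of A under the map sending a matrix to the inverse transpose of its entrywise q-th power — inverse transpose composed with the field automorphism — whose fixed points form GU_n(q)). -/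
theorem result {K : Type*} [Field K] [Fintype K] {q n : ℕ} (hK : Fintype.card K = q ^ 2) (A : GL (Fin n) K) : (∃ B : ↥(Cfsg.GU n K q), IsConj A (B : GL (Fin n) K)) ↔ IsConj (A : Matrix (Fin n) (Fin n) K) (((A : Matrix (Fin n) (Fin n) K).map (fun x : K => x ^ q)).transpose)⁻¹ := by
  have hu : IsUnit (A.val.map (frobQ hK)).det := by
    rw [← RingHom.mapMatrix_apply, ← RingHom.map_det]
    exact (A.isUnit.map detMonoidHom).map _
  have h1 : SD (frobQ hK) (glEquiv _ K A).toLinearMap (toLin' (A.val.map (frobQ hK))⁻¹) :=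
    ⟨⟨⟨fun v => frobQ hK ∘ v, fun _ _ => by ext; simp⟩, fun _ _ => by ext; simp⟩,
      Function.Involutive.bijective fun v => by ext; simp [frobQ_invol], fun v => by
        have : frobQ hK ∘ (A.val *ᵥ v) = A.val.map (frobQ hK) *ᵥ (frobQ hK ∘ v) :=
          funext fun i => RingHom.map_mulVec _ _ _ i
        simp [this, nonsing_inv_mul _ hu]⟩
  have h2 := (sd_iff_ed (frobQ_invol hK)).1 (h1.congr (.refl _) (isConj_iff_sim.1 (isConj_transpose _)))
  rw [transpose_nonsing_inv] at h2
  rw [isConj_iff_sim, sim_iff_ed]
  refine Iff.trans ⟨fun ⟨B, h⟩ => ?_, fun h => ?_⟩ (Eq.congr_right h2).symm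
  · obtain ⟨g, h3, h4⟩ := (uForm_nondeg hK n).unit_exists h.symm
    obtain ⟨B, rfl⟩ := (range_guHom hK n).ge h3
    exact ⟨B, isConj_gl_iff.2 (isConj_iff_sim.2 h4)⟩
  · rw [isConj_gl_iff, isConj_iff_sim, sim_iff_ed] at h
    have := (uForm_nondeg hK n).ed_du ((range_guHom hK n).le ⟨B, rfl⟩)
    exact h.trans (this.symm.trans (congrArg _ h.symm))

end Cfsg.Agent.S2588
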