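import Cfsg.Statements.S2589
import Cfsg.Agent.H5.Cj3

set_option autoImplicit false
open Cfsg

namespace Cfsg.Agent.S2589

open CfsgH5

/-- Two semisimple elements of the finite symplectic group Sp_2m(F) (elements of order prime to the characteristic) are conjugate in Sp_2m(F) if and only if they are conjugate in GL_2m(F). -/
theorem result {F : Type*} [Field F] [Fintype F] {p : ℕ} [Fact p.Prime] [CharP F p] {m : ℕ} (A B : Matrix.symplecticGroup (Fin m) F) (hA : (orderOf A).Coprime p) : IsConj A B ↔ IsConj (A : Matrix (Fin m ⊕ Fin m) (Fin m ⊕ Fin m) F) (B : Matrix (Fin m ⊕ Fin m) (Fin m ⊕ Fin m) F) := by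
  rw [isConj_of_card_classes (spHom_inj m) (range_spHom m), isConj_iff_sim]
  exact ⟨fun ⟨k, _, e⟩ => conj_iff_sim.1 ⟨k, e⟩, fun h => ((spForm_nondeg m).sp_ic (spForm_nondeg m)
    (spHom_mem m A) (spHom_mem m B) ((cast_ne_zero_iff p).2 hA)
    (by rw [← map_pow, pow_orderOf_eq_one, map_one]) h).conj⟩

end Cfsg.Agent.S2589
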