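import Cfsg.Statements.S2594
import Cfsg.Agent.H5.W2

set_option autoImplicit false
open Cfsg

namespace Cfsg.Agent.S2594

open CfsgH5

/-- Over a finite field with q elements, q even, an element t of Sp_2m(F) with rank(t − 1) = 1 (a symplectic transvection) has centraliser in Sp_2m(F) of order q^(2m−1) · |Sp_(2m−2)(q)| = q^(2m−1) · q^((m−1)²) · Π_(i=1)^(m−1) (q^(2i) − 1). -/
theorem result {F : Type*} [Field F] [Fintype F] [CharP F 2] {q : ℕ} (hF : Fintype.card F = q) {m : ℕ} (hm : 1 ≤ m) (t : Matrix.symplecticGroup (Fin m) F) (ht : ((t : Matrix (Fin m ⊕ Fin m) (Fin m ⊕ Fin m) F) - 1).rank = 1) : Nat.card ↥(Subgroup.centralizer ({t} : Set ↥(Matrix.symplecticGroup (Fin m) F))) = q ^ (2 * m - 1) * (q ^ ((m - 1) ^ 2) * ∏ i : Fin (m - 1), (q ^ (2 * ((i : ℕ) + 1)) - 1)) := by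
  have h2 : (2 : F) = 0 := CharTwo.two_eq_zero
  have hS := spForm_nondeg (F := F) m
  rw [rank_sub_one (spHom_apply m t)] at ht
  obtain ⟨v, c, -, -, h⟩ := hS.exists_of_mov_one (spHom_mem m t) ht
  have h3 : spHom m F t = (spForm m F).tv v c := LinearEquiv.ext fun x => by rw [h, Form.tv_apply]
  have h4 : spHom m F t * spHom m F t = 1 := by
    rw [h3, Form.tv_mul, ← two_mul, h2, zero_mul, Form.tv_zero]
  obtain ⟨r, rfl⟩ : ∃ r, m = 1 + r := ⟨m - 1, by omega⟩
  rw [card_centralizer_of_inj (spHom_inj _) (range_spHom _), hS.card_centralizer (spHom_mem _ t),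
    hS.card_pres_wf_odd h2 (fun _ => rfl) (spHom_mem _ t) h4 (k := 0) ht,
    hS.sp_card_fixer (Form.sp_totSing_mov h2 (spHom_mem _ t) h4) ht (finrank_sp _), ← spN_eq,
    Nat.card_eq_fintype_card, hF, Nat.add_sub_cancel_left, show 2 * (1 + r) - 1 = 2 * r + 1 by omega]
  simp [spN]

end Cfsg.Agent.S2594
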