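import Cfsg.Statements.S2599
import Cfsg.Agent.H5.Cj4

set_option autoImplicit false
open Cfsg

namespace Cfsg.Agent.S2599

open CfsgH5

/-- An irreducible invariant subspace of a semisimple isometry is non-degenerate or totally singular: let Q be a quadratic form on F^n (F finite of characteristic p) with non-degenerate polar form f, x an isometry of Q of order prime to p, and U a non-zero x-invariant subspace containing no x-invariant subspace other than 0 and U. Then U meets its f-orthogonal trivially, or Q vanishes on U, or p = 2, U is a line spanned by a non-singular vector and x fixes U pointwise. -/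
theorem result {F : Type*} [Field F] [Fintype F] {p : ℕ} [Fact p.Prime] [CharP F p] {n : ℕ} (Q : QuadraticForm F (Fin n → F)) (hQ : (QuadraticMap.polarBilin Q).Nondegenerate) (x : ↥(Cfsg.isometryGroup F ⇑Q)) (hx : (orderOf x).Coprime p) (U : Submodule F (Fin n → F)) (hU0 : U ≠ ⊥) (hUx : ∀ u ∈ U, ((x : Matrix.GeneralLinearGroup (Fin n) F) : Matrix (Fin n) (Fin n) F).mulVec u ∈ U) (hirr : ∀ W : Submodule F (Fin n → F), W ≤ U → (∀ w ∈ W, ((x : Matrix.GeneralLinearGroup (Fin n) F) : Matrix (Fin n) (Fin n) F).mulVec w ∈ W) → W = ⊥ ∨ W = U) : U ⊓ LinearMap.BilinForm.orthogonal (QuadraticMap.polarBilin Q) U = ⊥ ∨ (∀ u ∈ U, Q u = 0) ∨ (p = 2 ∧ Module.finrank F U = 1 ∧ (∃ u ∈ U, Q u ≠ 0) ∧ ∀ u ∈ U, ((x : Matrix.GeneralLinearGroup (Fin n) F) : Matrix (Fin n) (Fin n) F).mulVec u = u) := by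
  have hx := oHom_mem (Form.ofQF_Q Q) x
  set S := Form.ofQF Q
  have hs : oHom _ x ∈ stab F (U : Set _) := mem_stab_of_le hUx
  refine (hirr (U ⊓ S.perp U) inf_le_left fun w hw => ⟨hUx w hw.1,
    stab_apply (Form.isom_stab_perp hx hs) hw.2⟩).imp (fun h => ?_) fun h => ?_
  · rw [← h]
    congr 1
    ext v
    exact forall₂_congr fun w _ => S.perp_comm
  have hB : ∀ u ∈ U, ∀ v ∈ U, S.B u v = 0 := fun u hu => (h.ge hu).2
  have hQ : ∀ v, S.Q v = Q v := Form.ofQF_Q Q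
  simp only [← hQ]
  refine (hirr ⟨⟨⟨{u | u ∈ U ∧ S.Q u = 0}, fun ha hb => ⟨U.add_mem ha.1 hb.1, by
    rw [S.Q_add, ha.2, hb.2, hB _ ha.1 _ hb.1]; simp⟩⟩, U.zero_mem, by simp⟩, fun c _ h =>
      ⟨U.smul_mem c h.1, by simp [S.Q_smul, h.2]⟩⟩ (fun _ h => h.1) fun w hw =>
        ⟨hUx w hw.1, (Form.isom_Q hx w).trans hw.2⟩).symm.imp (fun e u hu => (e.ge hu).2) fun e => ?_
  have h0 : ∀ u ∈ U, S.Q u = 0 → u = 0 := fun u h1 h2 => e.le ⟨h1, h2⟩
  obtain ⟨u, hu, hu0⟩ := U.exists_mem_ne_zero_of_ne_bot hU0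
  have h1 := mt (h0 u hu) hu0
  have h2 : (2 : F) = 0 := (mul_eq_zero.1 ((S.orth_self u).symm.trans (hB u hu u hu))).resolve_right h1
  refine ⟨((Nat.prime_dvd_prime_iff_eq Fact.out Nat.prime_two).1 ((CharP.cast_eq_zero_iff F p 2).1 h2)),
    ?_, ⟨u, hu, h1⟩, fun v hv => sub_eq_zero.1 (h0 _ (U.sub_mem (hUx v hv) hv) ?_)⟩
  · refine (finrank_eq_one_iff_of_nonzero' (⟨u, hu⟩ : U) (by simpa)).2 fun w => ?_
    obtain ⟨c, hc⟩ := exists_sq_of_two_eq_zero h2 (S.Q w / S.Q u)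
    refine ⟨c, Subtype.ext (sub_eq_zero.1 (h0 _ (U.sub_mem (U.smul_mem c hu) w.2) ?_))⟩
    change S.Q (c • u - w) = 0
    rw [S.Q_sub, hB _ (U.smul_mem c hu) _ w.2, S.Q_smul, hc, div_mul_cancel₀ _ h1]
    linear_combination S.Q w * h2
  · rw [S.Q_sub, hB _ (hUx v hv) _ hv, show S.Q (x.1.1.mulVec v) = S.Q v from Form.isom_Q hx v]
    linear_combination S.Q v * h2

end Cfsg.Agent.S2599
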