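import Cfsg.Statements.S2601
import Mathlib
import Cfsg.Agent.H8.AutPSL2

set_option autoImplicit false
open Cfsg

namespace Cfsg.Agent.S2601

/-- Structure of the outer automorphism group of PSL_n(q), n ≥ 3, q = p^f: it has a normal cyclic subgroup of order gcd(n, q − 1) (the diagonal automorphisms) whose quotient is the direct product of a cyclic group of order f (field automorphisms) and a group of order 2 (the inverse-transpose graph automorphism). -/
theorem result {F : Type*} [Field F] [Fintype F] {p f n : ℕ} [Fact p.Prime] (hf : 1 ≤ f) (hF : Fintype.card F = p ^ f) (hn : 3 ≤ n) : ∃ φ : Cfsg.Out (Matrix.ProjectiveSpecialLinearGroup (Fin n) F) →* Multiplicative (ZMod f × ZMod 2), Function.Surjective φ ∧ IsCyclic φ.ker ∧ Nat.card φ.ker = Nat.gcd n (p ^ f - 1) := by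
  haveI : Nonempty (Fin n) := ⟨⟨0, by omega⟩⟩
  obtain ⟨e⟩ := CfsgH8.exists_ringAut_equiv hF
  let e' : (F ≃+* F) × Multiplicative (ZMod 2) ≃* Multiplicative (ZMod f × ZMod 2) :=
    (MulEquiv.prodCongr e (MulEquiv.refl _)).trans (MulEquiv.prodMultiplicative _ _).symm
  let r : CfsgH8.GammaGr (Fin n) F →* Multiplicative (ZMod f × ZMod 2) :=
    e'.toMonoidHom.comp SemidirectProduct.rightHom
  have hr : ∀ γ, r γ = 1 ↔ γ.right = 1 := fun γ => e'.map_eq_one_iff
  let D : r.ker →* Fˣ :=
    { toFun := fun γ => Matrix.GeneralLinearGroup.det γ.1.left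
      map_one' := by simp
      map_mul' := fun a b => by simp [(hr _).1 a.2] }
  obtain ⟨φ, h1, h2, h3⟩ := CfsgH8.out_struct CfsgH8.pslPhi
    (CfsgH8.pslPhi_surj (ι := Fin n) (F := F) (by simp; omega)) r
    (e'.surjective.comp SemidirectProduct.rightHom_surjective)
    (fun γ h => (hr γ).2 (CfsgH8.right_eq_one_of_mem_Inn (by simpa using hn) h)) D
    (fun c => by
      obtain ⟨M, hM⟩ := Matrix.GeneralLinearGroup.det_surjective (n := Fin n) c
      exact ⟨⟨SemidirectProduct.inl M, (hr _).2 rfl⟩, hM⟩)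
    (powMonoidHom (Fintype.card (Fin n)) : Fˣ →* Fˣ).range (fun γ => by
      obtain ⟨⟨M, a⟩, hγ⟩ := γ
      obtain rfl : a = (1, 1) := (hr _).1 hγ
      rw [CfsgH8.pslPhi_mem_Inn_one (by simp; omega)]
      simp [D])
  refine ⟨φ, h1, h2, ?_⟩
  rw [h3, CfsgH8.index_pow_units, hF, Fintype.card_fin]

end Cfsg.Agent.S2601
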