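import Cfsg.Statements.S2602
import Mathlib
import Cfsg.Agent.H8.AutPSL2

set_option autoImplicit false
open Cfsg

namespace Cfsg.Agent.S2602

/-- Structure of the outer automorphism group of PSL_2(q), q = p^f ≥ 4: it has a normal cyclic subgroup of order gcd(2, q − 1) (diagonal automorphisms) with cyclic quotient of order f (field automorphisms); there is no graph automorphism in dimension 2. -/
theorem result {F : Type*} [Field F] [Fintype F] {p f : ℕ} [Fact p.Prime] (hf : 1 ≤ f) (hF : Fintype.card F = p ^ f) (h4 : 4 ≤ p ^ f) : ∃ φ : Cfsg.Out (Matrix.ProjectiveSpecialLinearGroup (Fin 2) F) →* Multiplicative (ZMod f), Function.Surjective φ ∧ IsCyclic φ.ker ∧ Nat.card φ.ker = Nat.gcd 2 (p ^ f - 1) := by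
  obtain ⟨e⟩ := CfsgH8.exists_ringAut_equiv hF
  let r : CfsgH8.GammaL (Fin 2) F →* Multiplicative (ZMod f) :=
    e.toMonoidHom.comp SemidirectProduct.rightHom
  have hr : ∀ γ, r γ = 1 ↔ γ.right = 1 := fun γ => e.map_eq_one_iff
  let D : r.ker →* Fˣ :=
    { toFun := fun γ => Matrix.GeneralLinearGroup.det γ.1.left
      map_one' := by simp
      map_mul' := fun a b => by simp [(hr _).1 a.2] }
  let Φ := (CfsgH8.pslPhi (ι := Fin 2) (F := F)).comp CfsgH8.gammaLIncl
  have hΦ : Function.Surjective Φ := fun β => by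
    obtain ⟨M, σ, rfl⟩ := CfsgH8.pslPhi_surj_two (by simp) β
    exact ⟨⟨M, σ⟩, rfl⟩
  obtain ⟨φ, h1, h2, h3⟩ := CfsgH8.out_struct Φ hΦ r
    (e.surjective.comp SemidirectProduct.rightHom_surjective)
    (fun γ h => (hr γ).2 ((CfsgH8.pslPhi_mem_Inn_one (M := γ.left) (σ := γ.right) (by simp)).1 h).1) D
    (fun c => by
      obtain ⟨M, hM⟩ := Matrix.GeneralLinearGroup.det_surjective (n := Fin 2) c
      exact ⟨⟨SemidirectProduct.inl M, (hr _).2 rfl⟩, hM⟩)
    (powMonoidHom (Fintype.card (Fin 2)) : Fˣ →* Fˣ).range (fun γ => by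
      obtain ⟨⟨M, a⟩, hγ⟩ := γ
      obtain rfl : a = 1 := (hr _).1 hγ
      refine (CfsgH8.pslPhi_mem_Inn_one (M := M) (σ := 1) (by simp)).trans ?_
      simp [D])
  refine ⟨φ, h1, h2, ?_⟩
  rw [h3, CfsgH8.index_pow_units, hF, Fintype.card_fin]

end Cfsg.Agent.S2602
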