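import Cfsg.Statements.S2604
import Mathlib
import Cfsg.Agent.H8.AutO3

set_option autoImplicit false
open Cfsg

namespace Cfsg.Agent.S2604

/-- Outer automorphism group of the simple orthogonal group Ω_(2m+1)(q), m ≥ 3, q = p^f odd: it is the direct product of a group of order 2 (diagonal automorphisms, from SO) and a cyclic group of order f (field automorphisms). -/
theorem result {F : Type*} [Field F] [Fintype F] {p f m : ℕ} [Fact p.Prime] (hf : 1 ≤ f) (hF : Fintype.card F = p ^ f) (hp : p ≠ 2) (hm : 3 ≤ m) : Nonempty (Cfsg.Out (Cfsg.POmega F (Cfsg.quadFormOdd m F)) ≃* Multiplicative (ZMod 2 × ZMod f)) := by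
  have h2 := CfsgH8.two_ne_of_odd (F := F) (hF ▸ ((Fact.out : p.Prime).odd_of_ne_two hp).pow)
  have h5 := CfsgH8.five_odd (m := m) (by omega)
  have hS := CfsgH5.oddForm_nondeg m h2
  obtain ⟨θ, h1, h3, -⟩ := CfsgH8.exists_theta_odd hS (CfsgH8.genC_of h5)
    (by rw [CfsgH8.card_odd]; simp) (by omega)
  obtain ⟨e⟩ := CfsgH8.o_out_inr (CfsgH5.oddForm_Q m) hS h5 (CfsgH8.o_surj (CfsgH5.oddForm_Q m) hS
    (by rw [CfsgH8.card_odd]; omega) fun h => by rw [CfsgH8.card_odd] at h; omega) θ h1 h3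
    (CfsgH8.odd_inr_mem m) (CfsgH8.theta_units_conjS hS _ θ h3)
  obtain ⟨e'⟩ := CfsgH8.exists_ringAut_equiv hF
  exact ⟨e.trans ((CfsgH8.unitsEquiv.prodCongr e').trans (MulEquiv.prodMultiplicative _ _).symm)⟩

end Cfsg.Agent.S2604
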