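import Cfsg.Statements.S2605
import Mathlib
import Cfsg.Agent.H8.AutO3

set_option autoImplicit false
open Cfsg

namespace Cfsg.Agent.S2605

/-- Outer automorphism group of PΩ⁻_2m(q), m ≥ 4, q = 2^f: cyclic of order 2f, generated by a semilinear map inducing the Frobenius automorphism of the field (its f-th power is a graph automorphism, an orthogonal transvection). -/
theorem result {F : Type*} [Field F] [Fintype F] {f m : ℕ} (hf : 1 ≤ f) (hF : Fintype.card F = 2 ^ f) (hm : 4 ≤ m) (a b : F) (hab : ∀ z₁ z₂ : F, z₁ ^ 2 + a * z₁ * z₂ + b * z₂ ^ 2 = 0 → z₁ = 0 ∧ z₂ = 0) : IsCyclic (Cfsg.Out (Cfsg.POmega F (Cfsg.quadFormMinus (m - 1) F a b))) ∧ Nat.card (Cfsg.Out (Cfsg.POmega F (Cfsg.quadFormMinus (m - 1) F a b))) = 2 * f := by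
  have h5 := CfsgH8.five_minus (m := m - 1) (by omega)
  have hS := CfsgH5.minusForm_nondeg (m - 1) hab
  have hs := CfsgH8.o_surj (CfsgH5.minusForm_Q (m - 1) a b) hS (by rw [CfsgH8.card_minus]; omega)
    fun _ => CfsgH5.minusForm_not_isPlus _ hab
  have hk := CfsgH8.card_minus (m - 1)
  have h2 := CfsgH8.two_eq_of_card hF
  obtain ⟨x, g, h1, h3, h4⟩ := CfsgH8.minus_exists (m := m - 1) (by omega) hab
    (Nat.card_eq_fintype_card.trans hF)
  refine ⟨CfsgH8.o_out_cyclic (CfsgH5.minusForm_Q (m - 1) a b) hS h5 hs h2 hk x h1 h3 h4, ?_⟩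
  rw [CfsgH8.o_card_out (CfsgH5.minusForm_Q (m - 1) a b) hS h5 hs _ (CfsgH8.sdk_surj hS _ hk) fun g =>
    (CfsgH8.mem_KO_two hS _ h2 hk).symm, CfsgH8.card_ringAut hF]
  simp

end Cfsg.Agent.S2605
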