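import Cfsg.Statements.S2606
import Mathlib
import Cfsg.Agent.H8.AutO3

set_option autoImplicit false
open Cfsg

namespace Cfsg.Agent.S2606

/-- Outer automorphism group of PΩ⁻_2m(q), m ≥ 4, q = p^f odd: it is dihedral of order 8 times cyclic of order f when q ≡ 3 (mod 4) and m is odd, and otherwise the direct product of a group of order 2 with a cyclic group of order 2f. -/
theorem result {F : Type*} [Field F] [Fintype F] {p f m : ℕ} [Fact p.Prime] (hf : 1 ≤ f) (hF : Fintype.card F = p ^ f) (hp : p ≠ 2) (hm : 4 ≤ m) (a b : F) (hab : ∀ z₁ z₂ : F, z₁ ^ 2 + a * z₁ * z₂ + b * z₂ ^ 2 = 0 → z₁ = 0 ∧ z₂ = 0) : if p ^ f % 4 = 3 ∧ Odd m then Nonempty (Cfsg.Out (Cfsg.POmega F (Cfsg.quadFormMinus (m - 1) F a b)) ≃* DihedralGroup 4 × Multiplicative (ZMod f)) else Nonempty (Cfsg.Out (Cfsg.POmega F (Cfsg.quadFormMinus (m - 1) F a b)) ≃* Multiplicative (ZMod 2 × ZMod (2 * f))) := by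
  have h5 := CfsgH8.five_minus (m := m - 1) (by omega)
  have hS := CfsgH5.minusForm_nondeg (m - 1) hab
  have hs := CfsgH8.o_surj (CfsgH5.minusForm_Q (m - 1) a b) hS (by rw [CfsgH8.card_minus]; omega)
    fun _ => CfsgH5.minusForm_not_isPlus _ hab
  have hk := CfsgH8.card_minus (m - 1)
  have ho : Odd (Fintype.card F) := hF ▸ ((Fact.out : p.Prime).odd_of_ne_two hp).pow
  have h2 := CfsgH8.two_ne_of_odd ho
  have hn := CfsgH8.spG_neg_iff hS h2 hk
  rw [Nat.sub_add_cancel (by omega), CfsgH8.pow_mod_four ho, iff_false_intro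
    (CfsgH5.minusForm_not_isPlus _ hab), false_iff, not_not, hF, and_comm] at hn
  split_ifs with h
  · have hf' : Odd f := by
      have := (CfsgH8.pow_mod_four ((Fact.out : p.Prime).odd_of_ne_two hp) f).not.1 (by omega)
      exact (not_not.1 this).1
    obtain ⟨e⟩ := CfsgH8.o_out_d8_odd (CfsgH5.minusForm_Q (m - 1) a b) hS h5 hs h2 hk (hn.2 h) (by rwa [CfsgH8.card_ringAut hF])
    obtain ⟨e'⟩ := CfsgH8.exists_ringAut_equiv hF
    exact ⟨e.trans ((MulEquiv.refl _).prodCongr e')⟩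
  · obtain ⟨x, g, h1, h3, h4⟩ := CfsgH8.minus_exists (m := m - 1) (by omega) hab
      (Nat.card_eq_fintype_card.trans hF)
    exact CfsgH8.o_out_klein (CfsgH5.minusForm_Q (m - 1) a b) hS h5 hs h2 hk (hn.not.2 h) x h1 (CfsgH8.card_ringAut hF) h3 h4

end Cfsg.Agent.S2606
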