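import Cfsg.Statements.S2611
import Cfsg.Agent.H5.Orth2

set_option autoImplicit false
open Cfsg

namespace Cfsg.Agent.S2611

open CfsgH5 Matrix

/-- For the hyperbolic quadratic form Σ x_i y_i on F^(2m) (F finite, m ≥ 1, excluding m = 2 over the field of two elements) and an invertible m × m matrix A, the block-diagonal isometry diag(A, (A⁻¹)ᵀ), which stabilises the two maximal totally singular subspaces x = 0 and y = 0, lies in Ω⁺_2m(F) (the commutator subgroup of the orthogonal group) if and only if det A is a square in F. -/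
theorem result {F : Type*} [Field F] [Fintype F] {m : ℕ} (hm : 1 ≤ m) (h : Fintype.card F ≠ 2 ∨ m ≠ 2) (A : GL (Fin m) F) : (∃ g : ↥(Cfsg.isometryGroup F (Cfsg.quadFormPlus m F)), g ∈ Cfsg.Omega F (Cfsg.quadFormPlus m F) ∧ ((g : Matrix.GeneralLinearGroup (Fin m ⊕ Fin m) F) : Matrix (Fin m ⊕ Fin m) (Fin m ⊕ Fin m) F) = Matrix.fromBlocks (A : Matrix (Fin m) (Fin m) F) 0 0 ((A : Matrix (Fin m) (Fin m) F)⁻¹).transpose) ↔ IsSquare (A : Matrix (Fin m) (Fin m) F).det := by
  have hS := plusForm_nondeg (F := F) m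
  have hG := gen_of (finrank_sp (F := F) m) (h.imp id fun h => by omega)
  let B : GL (Fin m) F := ⟨((A⁻¹ : GL (Fin m) F) : Matrix (Fin m) (Fin m) F)ᵀ, (A : Matrix _ _ F)ᵀ,
    by rw [← transpose_mul]; simp, by rw [← transpose_mul]; simp⟩
  have hB : (B : Matrix (Fin m) (Fin m) F) = (A : Matrix (Fin m) (Fin m) F)⁻¹ᵀ := by simp [B]
  have h1 : glEquiv _ F (blockGL A B) ∈ (plusForm m F).isom := by
    rw [Form.orth_mem_isom]
    intro x
    have : ((A : Matrix (Fin m) (Fin m) F) *ᵥ x ∘ Sum.inl) ⬝ᵥ ((B : Matrix _ _ F) *ᵥ x ∘ Sum.inr) =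
        (x ∘ Sum.inl) ⬝ᵥ (x ∘ Sum.inr) := by
      rw [hB, dotProduct_mulVec, vecMul_transpose, mulVec_mulVec]; simp
    simpa [plusForm_Q, quadFormPlus, blockGL_coe, fromBlocks_mulVec, dotProduct] using this
  obtain ⟨h2, h3⟩ := (plusForm_hypFam m).spin_eq hS hG (by simp [two_mul]) h1 A (fun j => by
    ext (i | i) <;> simp [blockGL_coe, Finset.sum_apply, Pi.single_apply])
  rw [exists_Omega_iff (plusForm_Q m) (t := glEquiv _ F (blockGL A B))
    (fun v => by rw [← hB]; rfl), hS.mem_om_iff hG, h3, chi_eq_one_iff]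
  simp [h1, h2]

end Cfsg.Agent.S2611
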