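import Cfsg.Statements.S2612
import Cfsg.Agent.H5.Orth2

set_option autoImplicit false
open Cfsg

namespace Cfsg.Agent.S2612

open CfsgH5 Matrix

theorem mem_span_iff {F : Type*} [Field F] {m : ℕ} (v : Fin m ⊕ Fin m → F) :
    (v ∈ Submodule.span F (Set.range fun i : Fin m => (Pi.single (Sum.inl i) 1 : Fin m ⊕ Fin m → F))
      ↔ ∀ i, v (.inr i) = 0) ∧
    (v ∈ Submodule.span F (Set.range fun i : Fin m => (Pi.single (Sum.inr i) 1 : Fin m ⊕ Fin m → F))
      ↔ ∀ i, v (.inl i) = 0) := by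
  have hS := plusForm_nondeg (F := F) m
  have h := plusForm_hypFam (F := F) m
  constructor
  · rw [← (h.isLag_left (by simp [two_mul])).perp_eq hS, Form.perp_span, Form.mem_perp_range]
    simp [plusForm_B_inl]
  · rw [← (h.isLag_right (by simp [two_mul])).perp_eq hS, Form.perp_span, Form.mem_perp_range]
    simp [plusForm_B_inr]


/-- For the hyperbolic quadratic form Σ x_i y_i on F^(2m) (F finite, m ≥ 1, excluding m = 2 over the field of two elements), Ω⁺_2m(F) (the commutator subgroup of the orthogonal group) contains an element interchanging the two complementary maximal totally singular subspaces {y = 0} and {x = 0} if and only if m is even (dimension divisible by 4). -/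
theorem result {F : Type*} [Field F] [Fintype F] {m : ℕ} (hm : 1 ≤ m) (h : Fintype.card F ≠ 2 ∨ m ≠ 2) : (∃ g : ↥(Cfsg.isometryGroup F (Cfsg.quadFormPlus m F)), g ∈ Cfsg.Omega F (Cfsg.quadFormPlus m F) ∧ (∀ v : Fin m ⊕ Fin m → F, (∀ i, v (Sum.inr i) = 0) → ∀ i, (((g : Matrix.GeneralLinearGroup (Fin m ⊕ Fin m) F) : Matrix (Fin m ⊕ Fin m) (Fin m ⊕ Fin m) F).mulVec v) (Sum.inl i) = 0) ∧ (∀ v : Fin m ⊕ Fin m → F, (∀ i, v (Sum.inl i) = 0) → ∀ i, (((g : Matrix.GeneralLinearGroup (Fin m ⊕ Fin m) F) : Matrix (Fin m ⊕ Fin m) (Fin m ⊕ Fin m) F).mulVec v) (Sum.inr i) = 0)) ↔ Even m := by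
  have hS := plusForm_nondeg (F := F) m
  have hG := gen_of (finrank_sp (F := F) m) (h.imp id fun h => by omega)
  have hh := plusForm_hypFam (F := F) m
  have hd : Module.finrank F (Fin m ⊕ Fin m → F) = 2 * Fintype.card (Fin m) := by simp [two_mul]
  have h1 := lagSign_eq_one_iff (F := F)
    (U := Submodule.span F (Set.range fun i : Fin m => (Pi.single (Sum.inl i) 1 : Fin m ⊕ Fin m → F)))
    (W := Submodule.span F (Set.range fun i : Fin m => (Pi.single (Sum.inr i) 1 : Fin m ⊕ Fin m → F)))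
  rw [hh.inf_eq_bot, hh.finrank_left] at h1
  simp only [Fintype.card_fin, finrank_bot, tsub_zero] at h1
  constructor
  · rintro ⟨g, hg, h2, -⟩
    rw [mem_Omega_iff (plusForm_Q m)] at hg
    rw [← h1, ← hS.dk_om hG hg,
      ← Form.lagSign_map_eq_dk hS hG (hh.isLag_left hd) (Form.om_le_isom hg)]
    congr 1
    symm
    apply Submodule.eq_of_le_of_finrank_eq
    · rintro _ ⟨v, hv, rfl⟩
      exact (mem_span_iff _).2.2 (h2 v ((mem_span_iff _).1.1 hv))
    · rw [LinearEquiv.finrank_map_eq, hh.finrank_left, hh.finrank_right]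
  · intro he
    obtain ⟨φ, h2, h3, h4⟩ := hh.exists_isom_of_card hh.swap_orth hd hd
    have h5 : φ ∈ (plusForm m F).isom := ⟨h2.B, h2.q⟩
    have h6 : ∀ a b : Fin m → Fin m ⊕ Fin m → F, (∀ i, φ (a i) = b i) →
        (Submodule.span F (Set.range a)).map φ.toLinearMap = Submodule.span F (Set.range b) := by
      intro a b h
      rw [Submodule.map_span, ← Set.range_comp]
      congr 2
      exact funext h
    obtain ⟨μ, hμ, h7⟩ := hS.exists_spin_stab hG (hh.isHyp ⟨0, hm⟩) h5 (by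
      rw [← Form.lagSign_map_eq_dk hS hG (hh.isLag_left hd) h5, h6 _ _ h3, h1.2 he])
    obtain ⟨g, hg, h8⟩ := exists_Omega (plusForm_Q m) h7
    refine ⟨g, hg, fun v hv => (mem_span_iff _).2.1 ?_, fun v hv => (mem_span_iff _).1.1 ?_⟩
    · rw [← oHom_apply, h8, ← h6 _ _ h3, ← Form.map_mul_stab
        (hh.totSing_left.dil_mem_stab (hh.isHyp ⟨0, hm⟩) (Submodule.subset_span ⟨_, rfl⟩) hμ)]
      exact ⟨v, (mem_span_iff _).1.2 hv, rfl⟩
    · rw [← oHom_apply, h8, ← h6 _ _ h4, ← Form.map_mul_stab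
        (hh.totSing_right.dil_mem_stab' (hh.isHyp ⟨0, hm⟩) (Submodule.subset_span ⟨_, rfl⟩) hμ)]
      exact ⟨v, (mem_span_iff _).2.2 hv, rfl⟩

end Cfsg.Agent.S2612
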