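import Cfsg.Statements.S2613
import Cfsg.Agent.H5.Orth2

set_option autoImplicit false
open Cfsg

namespace Cfsg.Agent.S2613

open CfsgH5 Matrix

/-- For the hyperbolic form Σ x_j y_j on F^(2m), F finite with q elements, q odd, and 1 ≤ i ≤ m: the involution negating the first i hyperbolic pairs (x_j, y_j ↦ −x_j, −y_j for j < i) and fixing the rest lies in Ω⁺_2m(q) (commutator subgroup of the orthogonal group) if and only if q^i ≡ 1 (mod 4); its (−1)-eigenspace is a hyperbolic 2i-space. -/
theorem result {F : Type*} [Field F] [Fintype F] {q : ℕ} (hF : Fintype.card F = q) (hq : Odd q) {m : ℕ} (i : ℕ) (hi : 1 ≤ i) (him : i ≤ m) : (∃ g : ↥(Cfsg.isometryGroup F (Cfsg.quadFormPlus m F)), g ∈ Cfsg.Omega F (Cfsg.quadFormPlus m F) ∧ ((g : Matrix.GeneralLinearGroup (Fin m ⊕ Fin m) F) : Matrix (Fin m ⊕ Fin m) (Fin m ⊕ Fin m) F) = Matrix.diagonal (fun k : Fin m ⊕ Fin m => if (Sum.elim (fun j : Fin m => (j : ℕ)) (fun j : Fin m => (j : ℕ)) k) < i then (-1 : F) else 1)) ↔ q ^ i % 4 = 1 :=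 by
  subst hF
  have hh := (plusForm_hypFam (F := F) m).comp (Fin.castLE_injective him)
  set d : Fin m ⊕ Fin m → F := fun k => if (Sum.elim (fun j : Fin m => (j : ℕ))
    (fun j : Fin m => (j : ℕ)) k) < i then (-1 : F) else 1 with hd
  have h1 : diagonal d * diagonal d = 1 := by
    rw [diagonal_mul_diagonal, ← diagonal_one]; congr 1; ext k; simp only [hd]; split_ifs <;> simp
  rw [exists_Omega_iff (plusForm_Q m) (t := toLin'OfInv h1 h1) (fun v => rfl),
    hh.neg_mem_om_iff (plusForm_nondeg m) (two_ne_zero_of_odd hq), Fintype.card_fin]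
  · intro j; change diagonal d *ᵥ _ = _; simp [hd, diagonal_mulVec_single, Pi.single_neg]
  · intro j; change diagonal d *ᵥ _ = _; simp [hd, diagonal_mulVec_single, Pi.single_neg]
  · intro x hx
    rw [Form.mem_perp_fam] at hx
    simp only [Function.comp_apply, plusForm_B_inl, plusForm_B_inr] at hx
    change diagonal d *ᵥ _ = _
    ext (k | k) <;> rw [mulVec_diagonal] <;> simp only [hd, Sum.elim_inl, Sum.elim_inr] <;>
      split_ifs with hk
    · have h0 : x (.inl k) = 0 := hx.2 ⟨k, hk⟩; rw [h0, mul_zero]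
    · exact (congrArg (· * _) (if_neg hk)).trans (one_mul _)
    · have h0 : x (.inr k) = 0 := hx.1 ⟨k, hk⟩; rw [h0, mul_zero]
    · exact (congrArg (· * _) (if_neg hk)).trans (one_mul _)

end Cfsg.Agent.S2613
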