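import Cfsg.Statements.S2615
import Cfsg.Agent.H5.Orth2

set_option autoImplicit false
open Cfsg

namespace Cfsg.Agent.S2615

open CfsgH5 Matrix

/-- For an elliptic form Σ_(j<m−1) x_j y_j + (z₁² + a z₁z₂ + b z₂²) (anisotropic binary part) on F^(2m), F finite with q elements, q odd, and 1 ≤ i ≤ m − 1: the involution negating the first i hyperbolic pairs and fixing the rest lies in Ω⁻_2m(q) (commutator subgroup of the orthogonal group) if and only if q^i ≡ 1 (mod 4). -/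
theorem result {F : Type*} [Field F] [Fintype F] {q : ℕ} (hF : Fintype.card F = q) (hq : Odd q) {m : ℕ} (a b : F) (hab : ∀ z₁ z₂ : F, z₁ ^ 2 + a * z₁ * z₂ + b * z₂ ^ 2 = 0 → z₁ = 0 ∧ z₂ = 0) (i : ℕ) (hi : 1 ≤ i) (him : i + 1 ≤ m) : (∃ g : ↥(Cfsg.isometryGroup F (Cfsg.quadFormMinus (m - 1) F a b)), g ∈ Cfsg.Omega F (Cfsg.quadFormMinus (m - 1) F a b) ∧ ((g : Matrix.GeneralLinearGroup ((Fin (m - 1) ⊕ Fin (m - 1)) ⊕ Fin 2) F) : Matrix ((Fin (m - 1) ⊕ Fin (m - 1)) ⊕ Fin 2) ((Fin (m - 1) ⊕ Fin (m - 1)) ⊕ Fin 2) F) = Matrix.diagonal (fun k : (Fin (m - 1) ⊕ Fin (m - 1)) ⊕ Fin 2 => if (Sum.elim (Sum.elim (fun j : Fin (m - 1) => (j : ℕ)) (fun j : Fin (m - 1) => (j : ℕ))) (fun _ : Fin 2 => i) k) < i then (-1 : F) else 1)) ↔ q ^ i % 4 = 1 := by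
  subst hF
  have hh := (minusForm_hypFam (F := F) (m - 1) a b).comp
    (Fin.castLE_injective (show i ≤ m - 1 by omega))
  set d : (Fin (m - 1) ⊕ Fin (m - 1)) ⊕ Fin 2 → F := fun k => if (Sum.elim (Sum.elim
    (fun j : Fin (m - 1) => (j : ℕ)) (fun j : Fin (m - 1) => (j : ℕ))) (fun _ : Fin 2 => i) k) < i
    then (-1 : F) else 1 with hd
  have h1 : diagonal d * diagonal d = 1 := by
    rw [diagonal_mul_diagonal, ← diagonal_one]; congr 1; ext k; simp only [hd]; split_ifs <;> simp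
  rw [exists_Omega_iff (minusForm_Q _ a b) (t := toLin'OfInv h1 h1) (fun v => rfl),
    hh.neg_mem_om_iff (minusForm_nondeg _ hab) (two_ne_zero_of_odd hq), Fintype.card_fin]
  · intro j; change diagonal d *ᵥ _ = _; simp [hd, diagonal_mulVec_single, Pi.single_neg]
  · intro j; change diagonal d *ᵥ _ = _; simp [hd, diagonal_mulVec_single, Pi.single_neg]
  · intro x hx
    rw [Form.mem_perp_fam] at hx
    simp [minusForm_B, Pi.single_apply] at hx
    change diagonal d *ᵥ _ = _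
    ext ((k | k) | k) <;> rw [mulVec_diagonal] <;> simp only [hd, Sum.elim_inl, Sum.elim_inr]
    · split_ifs with hk
      · have h0 : x (.inl (.inl k)) = 0 := hx.2 ⟨k, hk⟩; rw [h0, mul_zero]
      · exact (congrArg (· * _) (if_neg hk)).trans (one_mul _)
    · split_ifs with hk
      · have h0 : x (.inl (.inr k)) = 0 := hx.1 ⟨k, hk⟩; rw [h0, mul_zero]
      · exact (congrArg (· * _) (if_neg hk)).trans (one_mul _)
    · simp

end Cfsg.Agent.S2615
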