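import Cfsg.Statements.S2618
import Cfsg.Agent.H5.Orth2

set_option autoImplicit false
open Cfsg

namespace Cfsg.Agent.S2618

open CfsgH5 Matrix

/-- Standard (parabolic) basis of a non-degenerate quadratic space of odd dimension 2m + 1 over a finite field (the non-degeneracy of the polar form forces the characteristic to be odd): there is a basis e_i, f_i (i < m), x with Q(e_i) = Q(f_i) = 0, B(e_i, f_j) = δ_ij (B the polar form), the e's pairwise orthogonal and the f's pairwise orthogonal, x orthogonal to all of them and Q(x) ≠ 0. -/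
theorem result {F V : Type*} [Field F] [Finite F] [AddCommGroup V] [Module F V] [FiniteDimensional F V] {m : ℕ} (hV : Module.finrank F V = 2 * m + 1) (Q : QuadraticForm F V) (hQ : (QuadraticMap.polarBilin Q).Nondegenerate) : ∃ b : Module.Basis (Unit ⊕ (Fin m ⊕ Fin m)) F V, Q (b (Sum.inl ())) ≠ 0 ∧ (∀ i, QuadraticMap.polar ⇑Q (b (Sum.inl ())) (b (Sum.inr (Sum.inl i))) = 0 ∧ QuadraticMap.polar ⇑Q (b (Sum.inl ())) (b (Sum.inr (Sum.inr i))) = 0) ∧ (∀ i, Q (b (Sum.inr (Sum.inl i))) = 0 ∧ Q (b (Sum.inr (Sum.inr i))) = 0) ∧ (∀ i j, QuadraticMap.polar ⇑Q (b (Sum.inr (Sum.inl i))) (b (Sum.inr (Sum.inr j))) = if i = j then 1 else 0) ∧ (∀ i j, QuadraticMap.polar ⇑Q (b (Sum.inr (Sum.inl i))) (b (Sum.inr (Sum.inl j))) = 0 ∧ QuadraticMap.polar ⇑Q (b (Sum.inr (Sum.inr i))) (b (Sum.inr (Sum.inr j))) = 0) := by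
  have h := Form.ofQF_Q Q
  have hS := Form.ofQF_nondeg hQ
  obtain ⟨c, hc, φ, hφ⟩ := hS.exists_isom_odd hV
  have h1 : ∀ x y, QuadraticMap.polar Q (φ.symm x) (φ.symm y) = c⁻¹ * (oddForm m F).B x y :=
    fun x y => by rw [← hφ.symm.B, Form.scale_B, inv_mul_cancel_left₀ hc]; rfl
  have h2 : ∀ x, Q (φ.symm x) = c⁻¹ * (oddForm m F).Q x :=
    fun x => by rw [← hφ.symm.Q, Form.scale_Q, inv_mul_cancel_left₀ hc, h]
  refine ⟨((Pi.basisFun F _).isUnitSMul (w := Sum.elim (fun _ => 1) (Sum.elim (fun _ => c) fun _ => 1))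
    (by rintro (i | i | i) <;> simp [hc])).map φ.symm, ?_, ?_, ?_, ?_, ?_⟩ <;>
    simp only [Module.Basis.map_apply, Module.Basis.isUnitSMul_apply, h1, h2] <;>
    simp [oddForm_B, oddForm_Q, quadFormOdd, Pi.single_apply, hc, eq_comm]

end Cfsg.Agent.S2618
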