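import Cfsg.Statements.S2619
import Cfsg.Agent.H5.Orth2

set_option autoImplicit false
open Cfsg

namespace Cfsg.Agent.S2619

open CfsgH5 Matrix

/-- Over a finite field of characteristic two, given an alternating bilinear form B on a finite-dimensional space, a basis (v_i) and scalars (λ_i), there is exactly one quadratic form whose polar form is B and whose value at each v_i is λ_i. -/
theorem result {F V ι : Type*} [Field F] [Finite F] [CharP F 2] [AddCommGroup V] [Module F V] [Fintype ι] (b : Module.Basis ι F V) (B : LinearMap.BilinForm F V) (hB : B.IsAlt) (c : ι → F) : ∃! Q : QuadraticForm F V, QuadraticMap.polarBilin Q = B ∧ ∀ i, Q (b i) = c i := by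
  classical
  have h2 : (2 : F) = 0 := CharP.cast_eq_zero F 2
  let e := Fintype.equivFin ι
  let β : LinearMap.BilinForm F V := (LinearMap.BilinForm.toMatrix b).symm
    (Matrix.of fun i j => if e i < e j then B (b i) (b j) else if i = j then c i else 0)
  have hβ : ∀ i j, β (b i) (b j) = if e i < e j then B (b i) (b j) else if i = j then c i else 0 :=
    fun i j => by
      rw [← LinearMap.BilinForm.toMatrix_apply, LinearEquiv.apply_symm_apply, Matrix.of_apply]
  have h3 : QuadraticMap.polarBilin (LinearMap.BilinMap.toQuadraticMap β) = B := by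
    refine LinearMap.BilinForm.ext_basis b fun i j => ?_
    rw [QuadraticMap.polarBilin_apply_apply, LinearMap.BilinMap.polar_toQuadraticMap, hβ, hβ]
    rcases lt_trichotomy (e i) (e j) with h | h | h
    · have : j ≠ i := by rintro rfl; simp at h
      simp [h, h.not_gt, this]
    · obtain rfl := e.injective h
      simp [hB (b i), ← two_mul, h2]
    · have : i ≠ j := by rintro rfl; simp at h
      have h3 := hB.neg_eq (b j) (b i)
      simp only [h, h.not_gt, this, if_true, if_false, zero_add]
      rw [← h3]; linear_combination B (b j) (b i) * h2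
  refine ⟨LinearMap.BilinMap.toQuadraticMap β, ⟨h3, fun i => by simp [hβ]⟩, fun Q hQ => ?_⟩
  · have key : ∀ Q Q' : QuadraticForm F V, QuadraticMap.polarBilin Q = QuadraticMap.polarBilin Q' →
        (∀ i, Q (b i) = Q' (b i)) → Q = Q' := by
      intro Q Q' h1 h3
      have := Form.isIsom_of_span (S := Form.ofQF Q) (S' := Form.ofQF Q') LinearMap.id b.span_eq
        (fun x _ y _ => LinearMap.congr_fun₂ h1 x y) (by
          rintro _ ⟨i, rfl⟩
          rw [Form.q_eq_iff, Form.ofQF_Q, Form.ofQF_Q]; exact h3 i)
      ext x
      rw [← Form.ofQF_Q, ← Form.ofQF_Q Q']; exact this.Q x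
    exact key _ _ (hQ.1.trans h3.symm) fun i => by simp [hβ, hQ.2]

end Cfsg.Agent.S2619
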