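import Cfsg.Statements.S2620
import Cfsg.Agent.H5.Orth2

set_option autoImplicit false
open Cfsg

namespace Cfsg.Agent.S2620

open CfsgH5 Matrix

/-- Discriminant of the hyperbolic quadratic form Σ_(i<m) x_i y_i over a field with q elements, q odd, m ≥ 1: the determinant of the Gram matrix of its polar form in any basis is a square if and only if m(q − 1)/2 is even (equivalently q^m ≡ 1 (mod 4)). -/
theorem result {F : Type*} [Field F] [Fintype F] {q : ℕ} (hF : Fintype.card F = q) (hq : Odd q) {m : ℕ} (hm : 1 ≤ m) {ι : Type*} [Fintype ι] [DecidableEq ι] (b : Module.Basis ι F (Fin m ⊕ Fin m → F)) : IsSquare (Matrix.of (fun i j : ι => QuadraticMap.polar (Cfsg.quadFormPlus m F) (b i) (b j))).det ↔ Even (m * (q - 1) / 2) := by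
  subst hF
  have h1 : (Matrix.of fun i j : ι => QuadraticMap.polar (quadFormPlus m F) (b i) (b j)) =
      (plusForm m F).gram b := by ext i j; exact Form.polar_eq (plusForm_Q m) _ _
  rw [h1, ← chi_eq_one_iff, Form.chi_det_gram, (plusForm_nondeg m).disc_eq_tp
    (two_ne_zero_of_odd hq) (finrank_sp m), Form.tp_eq_one_iff.2 (plusForm_isPlus m), mul_one]
  obtain ⟨k, hk⟩ := id hq
  have h2 := chi_neg_one_eq_one_iff hq
  rw [hk, Nat.add_sub_cancel, mul_left_comm, Nat.mul_div_cancel_left _ two_pos, Nat.even_mul,
    Nat.even_iff (n := k)]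
  rcases Int.units_eq_one_or (chi (-1 : F)) with h | h <;> rw [h] at h2 ⊢
  · simp at h2; simp; omega
  · rw [neg_one_pow_eq_one_iff_even (by decide)]
    simp at h2
    constructor
    · exact Or.inl
    · exact fun h => h.resolve_right (by omega)

end Cfsg.Agent.S2620
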