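import Cfsg.Statements.S2621
import Cfsg.Agent.H5.Orth2

set_option autoImplicit false
open Cfsg

namespace Cfsg.Agent.S2621

open CfsgH5 Matrix

/-- Discriminant of an elliptic quadratic form Σ_(i<m−1) x_i y_i + z₁² + a z₁z₂ + c z₂² (binary part anisotropic) in dimension 2m over a field with q elements, q odd, m ≥ 1: the determinant of the Gram matrix of its polar form in any basis is a square if and only if m(q − 1)/2 is odd (equivalently q^m ≡ 3 (mod 4)). -/
theorem result {F : Type*} [Field F] [Fintype F] {q : ℕ} (hF : Fintype.card F = q) (hq : Odd q) {m : ℕ} (hm : 1 ≤ m) (a c : F) (hac : ∀ z₁ z₂ : F, z₁ ^ 2 + a * z₁ * z₂ + c * z₂ ^ 2 = 0 → z₁ = 0 ∧ z₂ = 0) {ι : Type*} [Fintype ι] [DecidableEq ι] (b : Module.Basis ι F ((Fin (m - 1) ⊕ Fin (m - 1)) ⊕ Fin 2 → F)) : IsSquare (Matrix.of (fun i j : ι => QuadraticMap.polar (Cfsg.quadFormMinus (m - 1) F a c) (b i) (b j))).det ↔ ¬ Even (m * (q - 1) / 2) := by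
  subst hF
  have h1 : (Matrix.of fun i j : ι => QuadraticMap.polar (quadFormMinus (m - 1) F a c) (b i) (b j)) =
      (minusForm (m - 1) F a c).gram b := by ext i j; exact Form.polar_eq (minusForm_Q _ a c) _ _
  rw [h1, ← chi_eq_one_iff, Form.chi_det_gram, (minusForm_nondeg _ hac).disc_eq_tp
    (two_ne_zero_of_odd hq) (finrank_minus' hm), Form.tp_eq_neg_one_iff.2
    (minusForm_not_isPlus _ hac), mul_neg_one, neg_eq_iff_eq_neg, ← Int.units_ne_iff_eq_neg, ne_eq,
    not_iff_not]
  obtain ⟨k, hk⟩ := id hq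
  have h2 := chi_neg_one_eq_one_iff hq
  rw [hk, Nat.add_sub_cancel, mul_left_comm, Nat.mul_div_cancel_left _ two_pos, Nat.even_mul,
    Nat.even_iff (n := k)]
  rcases Int.units_eq_one_or (chi (-1 : F)) with h | h <;> rw [h] at h2 ⊢
  · simp at h2; simp; omega
  · rw [neg_one_pow_eq_one_iff_even (by decide)]
    simp at h2
    constructor
    · exact Or.inl
    · exact fun h => h.resolve_right (by omega)

end Cfsg.Agent.S2621
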