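import Cfsg.Statements.S2623
import Cfsg.Agent.H5.Orth2

set_option autoImplicit false
open Cfsg

namespace Cfsg.Agent.S2623

open CfsgH5 Matrix

/-- Over a finite field of odd order, two quadratic forms on F^n with non-degenerate polar forms are isometric (related by an invertible linear change of variables) if and only if their discriminants (determinants of the Gram matrices of their polar forms) lie in the same square class. -/
theorem result {F : Type*} [Field F] [Fintype F] (h2 : (2 : F) ≠ 0) {n : ℕ} (Q₁ Q₂ : QuadraticForm F (Fin n → F)) (h₁ : (QuadraticMap.polarBilin Q₁).Nondegenerate) (h₂ : (QuadraticMap.polarBilin Q₂).Nondegenerate) : (∃ g : (Fin n → F) ≃ₗ[F] (Fin n → F), ∀ v, Q₂ (g v) = Q₁ v) ↔ IsSquare ((Matrix.of (fun i j : Fin n => QuadraticMap.polar ⇑Q₁ (Pi.single i 1) (Pi.single j 1))).det * (Matrix.of (fun i j : Fin n => QuadraticMap.polar ⇑Q₂ (Pi.single i 1) (Pi.single j 1))).det) := by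
  have hS₁ := Form.ofQF_nondeg h₁
  have hS₂ := Form.ofQF_nondeg h₂
  rw [isSquare_mul_iff_chi (det_polar_ne (Form.ofQF_Q _) hS₁) (det_polar_ne (Form.ofQF_Q _) hS₂),
    chi_det_polar (Form.ofQF_Q _), chi_det_polar (Form.ofQF_Q _)]
  constructor
  · rintro ⟨g, hg⟩
    exact (Form.IsIsom.disc_eq (e := g) (Form.IsIsom.of_Q (j := g.toLinearMap) fun x => by
      rw [Form.ofQF_Q, Form.ofQF_Q]; exact hg x)).symm
  · intro h
    obtain ⟨φ, hφ⟩ := hS₁.exists_isom_of_disc hS₂ h2 rfl h
    exact ⟨φ, fun v => by rw [← Form.ofQF_Q, hφ.Q, Form.ofQF_Q]⟩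

end Cfsg.Agent.S2623
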