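import Cfsg.Statements.S2628
import Cfsg.Agent.H5.Orth2

set_option autoImplicit false
open Cfsg

namespace Cfsg.Agent.S2628

open CfsgH5 Matrix

/-- For the orthogonal direct sum Q ⊕ Q of two copies of a quadratic form Q with non-degenerate polar form on F^k (F finite), every isometry g of Q acting diagonally, diag(g, g), lies in Ω(Q ⊕ Q), the commutator subgroup of the orthogonal group of Q ⊕ Q. (Excluded: k = 2 over the field of two elements, where Q ⊕ Q is the hyperbolic 4-space whose orthogonal group's commutator subgroup is smaller than the group usually called Ω.) -/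
theorem result {F : Type*} [Field F] [Fintype F] {k : ℕ} (h : Fintype.card F ≠ 2 ∨ k ≠ 2) (Q : QuadraticForm F (Fin k → F)) (hQ : (QuadraticMap.polarBilin Q).Nondegenerate) (g : ↥(Cfsg.isometryGroup F ⇑Q)) : ∃ x : ↥(Cfsg.isometryGroup F (fun v : Fin k ⊕ Fin k → F => Q (v ∘ Sum.inl) + Q (v ∘ Sum.inr))), x ∈ Cfsg.Omega F (fun v : Fin k ⊕ Fin k → F => Q (v ∘ Sum.inl) + Q (v ∘ Sum.inr)) ∧ ((x : Matrix.GeneralLinearGroup (Fin k ⊕ Fin k) F) : Matrix (Fin k ⊕ Fin k) (Fin k ⊕ Fin k) F) = Matrix.fromBlocks ((g : Matrix.GeneralLinearGroup (Fin k) F) : Matrix (Fin k) (Fin k) F) 0 0 ((g : Matrix.GeneralLinearGroup (Fin k) F) : Matrix (Fin k) (Fin k) F) := by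
  have hS := Form.ofQF_nondeg hQ
  have hS' := sumForm_nondeg hS hS
  have hG := gen_of (V := Fin k ⊕ Fin k → F) (n := k + k) (by simp) (h.imp id (by omega))
  rw [exists_Omega_iff (S := sumForm (Form.ofQF Q) (Form.ofQF Q))
    (fun v => by rw [sumForm_Q, Form.ofQF_Q, Form.ofQF_Q]) (A := fromBlocks g.1.1 0 0 g.1.1)
    (t := glEquiv _ F (blockGL g g))
    (fun v => by rfl)]
  have hg := oHom_mem (Form.ofQF_Q Q) g
  have h1 := isExt_inl (S' := Form.ofQF Q) hS g.1
  have h2 := isExt_inr (S := Form.ofQF Q) hS g.1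
  have h3 := h1.mem_isom isIsom_inl hS hg
  have h4 := h2.mem_isom isIsom_inr hS hg
  have := hS'.mul_mem_om hG h3 h4 (by rw [h1.dk_eq isIsom_inl hS, h2.dk_eq isIsom_inr hS]) (by
    by_cases h5 : (2 : F) = 0
    · rw [hS'.spin_of_two h5 hG h3, hS'.spin_of_two h5 hG h4]
    · rw [h1.spin_eq isIsom_inl hS hS' (Or.inl (gen_of_two_ne_zero h5)) hg,
        h2.spin_eq isIsom_inr hS hS' (Or.inl (gen_of_two_ne_zero h5)) hg])
  rwa [← map_mul, blockGL_mul, mul_one, one_mul] at this

end Cfsg.Agent.S2628
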