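import Cfsg.Statements.S2629
import Cfsg.Agent.H5.Orth2

set_option autoImplicit false
open Cfsg

namespace Cfsg.Agent.S2629

open CfsgH5 Matrix

/-- For the hyperbolic form Σ x_i y_i on F^(2m) over a finite field of odd order (m ≥ 1), an isometry g preserves the class of the maximal totally singular subspace U₀ = {y = 0} (that is, m − dim(U₀ ∩ gU₀) is even) if and only if det g = 1: the stabiliser of each of the two classes of maximal totally singular subspaces is SO. -/
theorem result {F : Type*} [Field F] [Fintype F] (h2 : (2 : F) ≠ 0) {m : ℕ} (hm : 1 ≤ m) (g : ↥(Cfsg.isometryGroup F (Cfsg.quadFormPlus m F))) : Even (m - Module.finrank F ↥(LinearMap.ker (LinearMap.funLeft F F (Sum.inr : Fin m → Fin m ⊕ Fin m)) ⊓ (LinearMap.ker (LinearMap.funLeft F F (Sum.inr : Fin m → Fin m ⊕ Fin m))).map (Matrix.mulVecLin ((g : Matrix.GeneralLinearGroup (Fin m ⊕ Fin m) F) : Matrix (Fin m ⊕ Fin m) (Fin m ⊕ Fin m) F)))) ↔ ((g : Matrix.GeneralLinearGroup (Fin m ⊕ Fin m) F) : Matrix (Fin m ⊕ Fin m) (Fin m ⊕ Fin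 m) F).det = 1 := by
  have hS := plusForm_nondeg (F := F) m
  have hd : Module.finrank F (LinearMap.ker (LinearMap.funLeft F F
      (Sum.inr : Fin m → Fin m ⊕ Fin m))) = m := by
    have := LinearMap.finrank_range_add_finrank_ker
      (LinearMap.funLeft F F (Sum.inr : Fin m → Fin m ⊕ Fin m))
    rw [LinearMap.range_eq_top.2 (LinearMap.funLeft_surjective_of_injective _ _ _
      Sum.inr_injective)] at this
    simp at this; omega
  have hU : (plusForm m F).IsLag (LinearMap.ker (LinearMap.funLeft F F Sum.inr)) :=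
    ⟨(Form.totSing_iff (plusForm_Q m)).2 fun w hw => by
      have : ∀ i, w (.inr i) = 0 := congrFun hw
      simp [quadFormPlus, this], by rw [hd, finrank_sp]⟩
  have hg := oHom_mem (plusForm_Q m) g
  rw [← det_oHom, hS.det_eq_one_iff h2 hg, ← Form.lagSign_map_eq_dk hS
    (Or.inl (gen_of_two_ne_zero h2)) hU hg, lagSign_eq_one_iff, hd, oHom_coe]

end Cfsg.Agent.S2629
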