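import Cfsg.Statements.S2634
import Cfsg.Agent.H5.Orth2

set_option autoImplicit false
open Cfsg

namespace Cfsg.Agent.S2634

open CfsgH5 Matrix

/-- Over a finite field of characteristic two, Ω (the commutator subgroup of the orthogonal group of a quadratic form Q on F^n with non-degenerate polar form; excluding dimension 4 over the field of two elements) acts transitively on the non-singular 1-spaces: for u, v with Q(u) ≠ 0 and Q(v) ≠ 0 some element of Ω carries the line through u to the line through v. -/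
theorem result {F : Type*} [Field F] [Fintype F] [CharP F 2] {n : ℕ} (h : Fintype.card F ≠ 2 ∨ n ≠ 4) (Q : QuadraticForm F (Fin n → F)) (hQ : (QuadraticMap.polarBilin Q).Nondegenerate) (u v : Fin n → F) (hu : Q u ≠ 0) (hv : Q v ≠ 0) : ∃ g : ↥(Cfsg.isometryGroup F ⇑Q), g ∈ Cfsg.Omega F ⇑Q ∧ (F ∙ ((g : Matrix.GeneralLinearGroup (Fin n) F) : Matrix (Fin n) (Fin n) F).mulVec u) = F ∙ v := by
  have hS := Form.ofQF_nondeg hQ
  have hG := gen_of (V := Fin n → F) (by simp) h
  have h2 : (2 : F) = 0 := CharP.cast_eq_zero F 2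
  rw [← Form.ofQF_Q] at hu hv
  obtain ⟨c, hc, h1⟩ := exists_sq_mul_of_chi_eq hv hu
    (by rw [chi_of_two_eq_zero h2, chi_of_two_eq_zero h2])
  obtain ⟨g, hg, h3⟩ := hS.witt_Q (y := c • v) hu (by rw [h1, Form.Q_smul])
  obtain ⟨t, ht, h4⟩ : ∃ t ∈ (Form.ofQF Q).om, Submodule.span F {t u} = Submodule.span F {v} := by
    rcases Int.units_eq_one_or (dk g) with h4 | h4
    · exact ⟨g, (hS.mem_om_iff_of_two h2 hG).2 ⟨hg, h4⟩,
        by rw [h3, Submodule.span_singleton_smul_eq hc.isUnit]⟩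
    · refine ⟨g * (Form.ofQF Q).rf u, (hS.mem_om_iff_of_two h2 hG).2
        ⟨mul_mem hg (Form.rf_mem u), ?_⟩, ?_⟩
      · rw [hS.dk_mul hG hg (Form.rf_mem u), h4, hS.dk_rf hu]; decide
      · rw [LinearEquiv.mul_apply, Form.rf_self hu, map_neg, h3, ← neg_smul,
          Submodule.span_singleton_smul_eq (neg_ne_zero.2 hc).isUnit]
  obtain ⟨g, hg, rfl⟩ := exists_Omega (Form.ofQF_Q Q) ht
  exact ⟨g, hg, h4⟩

end Cfsg.Agent.S2634
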