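import Cfsg.Statements.S2635
import Cfsg.Agent.H5.Orth2

set_option autoImplicit false
open Cfsg

namespace Cfsg.Agent.S2635

open CfsgH5 Matrix

/-- Over a finite field of characteristic two, for a quadratic form Q on F^n with non-degenerate polar form, n ≥ 2, other than dimension 4 over the field of two elements, Ω (the commutator subgroup of the orthogonal group) is exactly the subgroup generated by the products of two reflections (orthogonal transvections) x ↦ x − Q(v)⁻¹ f(x, v) v, Q(v) ≠ 0: the products of an even number of reflections. -/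
theorem result {F : Type*} [Field F] [Fintype F] [CharP F 2] {n : ℕ} (hn : 2 ≤ n) (h : Fintype.card F ≠ 2 ∨ n ≠ 4) (Q : QuadraticForm F (Fin n → F)) (hQ : (QuadraticMap.polarBilin Q).Nondegenerate) : Cfsg.Omega F ⇑Q = Subgroup.closure {g : ↥(Cfsg.isometryGroup F ⇑Q) | ∃ u v : Fin n → F, Q u ≠ 0 ∧ Q v ≠ 0 ∧ ((g : Matrix.GeneralLinearGroup (Fin n) F) : Matrix (Fin n) (Fin n) F) = Cfsg.reflectionMatrix ⇑Q u * Cfsg.reflectionMatrix ⇑Q v} := by
  have h1 := Form.ofQF_Q Q
  have hS := Form.ofQF_nondeg hQ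
  have hG := gen_of (V := Fin n → F) (by simp) h
  have h2 : (2 : F) = 0 := CharP.cast_eq_zero F 2
  have h3 : ∀ u v x, (reflectionMatrix Q u * reflectionMatrix Q v) *ᵥ x =
      ((Form.ofQF Q).rf u * (Form.ofQF Q).rf v) x := fun u v x => by
    rw [← mulVec_mulVec, reflectionMatrix_mulVec h1, reflectionMatrix_mulVec h1]; rfl
  apply Subgroup.map_injective (oHom_inj _)
  rw [map_Omega h1]
  refine le_antisymm (hS.om_le_of_rf hG fun x y hx hxy => ?_) ?_
  · obtain ⟨a, ha⟩ := exists_oHom h1 (mul_mem (Form.rf_mem x) (Form.rf_mem y))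
    exact ⟨a, Subgroup.subset_closure ⟨x, y, by rwa [← h1], by rwa [← h1, ← hxy],
      (oHom_eq_iff (h3 x y)).2 ha⟩, ha⟩
  · rw [Subgroup.map_le_iff_le_comap, Subgroup.closure_le]
    rintro g ⟨u, v, hu, hv, hg⟩
    change oHom _ g ∈ (Form.ofQF Q).om
    rw [(oHom_eq_iff (h3 u v)).1 hg, hS.rf_mul_rf_mem_om_iff (by rwa [h1]) (by rwa [h1]),
      chi_of_two_eq_zero h2, chi_of_two_eq_zero h2]

end Cfsg.Agent.S2635
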