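import Cfsg.Statements.S2636
import Cfsg.Agent.H5.Tw1

set_option autoImplicit false
open Cfsg

namespace Cfsg.Agent.S2636

open CfsgH5 Matrix

/-- Centraliser of a field automorphism in PGL_n: let F be the field with q = q₀^r elements, σ a field automorphism of F of prime order r (so its fixed field has q₀ elements) and n ≥ 1. The invertible matrices g whose entrywise image under σ is a scalar multiple of g — those whose coset modulo scalars is fixed by σ — number (q − 1)/(q₀ − 1) · |GL_n(q₀)|; equivalently the centraliser in PGL_n(q) of the induced automorphism has the order of PGL_n(q₀). -/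
theorem result {F : Type*} [Field F] [Fintype F] {q₀ r n : ℕ} (hr : r.Prime) (hn : 1 ≤ n) (hF : Fintype.card F = q₀ ^ r) (σ : F ≃+* F) (hσ : orderOf σ = r) : Nat.card {g : GL (Fin n) F // ∃ c : F, c ≠ 0 ∧ (g : Matrix (Fin n) (Fin n) F).map σ = c • (g : Matrix (Fin n) (Fin n) F)} = (q₀ ^ r - 1) / (q₀ - 1) * ∏ i : Fin n, (q₀ ^ n - q₀ ^ (i : ℕ)) := by
  have : NeZero n := ⟨by omega⟩
  have h1 := CfsgH8.card_fixF σ
  rw [Nat.card_eq_fintype_card, hF, hσ, Nat.pow_left_inj hr.ne_zero] at h1
  have := Fintype.ofFinite (CfsgH8.fixF σ)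
  have h2 := card_twist (ι := Fin n) (CfsgH8.fixF σ).subtype ⊤ ⊤ ⊤ (by simp)
  have h3 : 1 < q₀ := h1 ▸ Finite.one_lt_card
  simp only [Subgroup.card_top, card_units_field, card_GL_field, hF] at h2
  simp only [← Nat.card_eq_fintype_card, ← h1, Subgroup.mem_top, true_and] at h2
  simp only [twist_iff (σ := σ) (φ := (CfsgH8.fixF σ).subtype) fun a => CfsgH8.mem_fixF.symm.trans (by simp)]
  refine Nat.eq_of_mul_eq_mul_left (Nat.sub_pos_of_lt h3) ?_
  rw [← h2, ← mul_assoc, Nat.mul_div_cancel' (Nat.sub_one_dvd_pow_sub_one _ _)]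

end Cfsg.Agent.S2636
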