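import Cfsg.Statements.S2637
import Cfsg.Agent.H5.Cj5
import Cfsg.Agent.H5.Iso2

set_option autoImplicit false
open Cfsg

namespace Cfsg.Agent.S2637

open CfsgH5 Polynomial

/-- Centraliser of a fixed-point-free element of order three in Sp_2m(q) when q ≡ 2 (mod 3): if x ∈ Sp_2m(F) (|F| = q, m ≥ 1) satisfies x³ = 1 and x − 1 is invertible, then its centraliser in Sp_2m(F) has the order of the unitary group GU_m(q), namely q^(m(m−1)/2) Π_(i=1)^m (q^i − (−1)^i) (x lies in the centre of a subgroup GU_m(q) of Sp_2m(q)). -/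
theorem result {F : Type*} [Field F] [Fintype F] {q : ℕ} (hF : Fintype.card F = q) (hq : q % 3 = 2) {m : ℕ} (hm : 1 ≤ m) (x : Matrix.symplecticGroup (Fin m) F) (hx3 : x ^ 3 = 1) (hfpf : IsUnit ((x : Matrix (Fin m ⊕ Fin m) (Fin m ⊕ Fin m) F) - 1)) : (Nat.card ↥(Subgroup.centralizer ({x} : Set ↥(Matrix.symplecticGroup (Fin m) F))) : ℤ) = (q : ℤ) ^ (m * (m - 1) / 2) * ∏ i : Fin m, ((q : ℤ) ^ ((i : ℕ) + 1) - (-1) ^ ((i : ℕ) + 1)) := by
  obtain ⟨K, _, _, hK⟩ : ∃ (K : Type) (_ : Field K) (_ : Fintype K), Fintype.card K = q ^ 2 := by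
    obtain ⟨p, _, k, hp, -⟩ := FiniteField.card' F
    haveI := Fact.mk hp
    letI := Fintype.ofFinite (FiniteField.Extension F p 2)
    exact ⟨FiniteField.Extension F p 2, inferInstance, inferInstance, by
      rw [← hF, ← Nat.card_eq_fintype_card, ← Nat.card_eq_fintype_card, FiniteField.natCard_extension]⟩
  obtain ⟨_, E, hE⟩ := exists_QE hK hF
  haveI := E.finite
  haveI := Fact.mk Nat.prime_three
  obtain ⟨ω, hω⟩ := exists_prime_orderOf_dvd_card' (G := Kˣ) 3 (by
    rw [card_units_field, ← card_sub_one_sq hK]; exact Dvd.dvd.mul_right (by omega) _)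
  have h0 : (ω : K) ≠ 1 := fun e => by simp [Units.val_eq_one.1 e] at hω
  have h3 : (ω : K) ^ 3 = 1 := by rw [← hω, ← Units.val_pow_eq_pow_val, pow_orderOf_eq_one]; rfl
  have h1 : E.σ ω = ω ^ 2 := by
    rw [hE, frobQ_apply, ← Nat.div_add_mod q 3, hq, pow_add, pow_mul, h3, one_pow, one_mul]
  have h2 : (ω : K) ^ 2 + ω + 1 = 0 := mul_left_cancel₀ (sub_ne_zero.2 h0) (by linear_combination h3)
  have h4 : E.σ ω ≠ ω := fun e => h0 (mul_left_cancel₀ ω.ne_zero (by linear_combination e - h1))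
  have h5 : ∀ b : F, b ^ 2 + b + 1 ≠ 0 := fun b e => by
    have h6 := congrArg (algebraMap F K) e
    simp only [map_add, map_pow, map_one, map_zero] at h6
    rcases mul_eq_zero.1 (show (algebraMap F K b - ω) * (algebraMap F K b - E.σ ω) = 0 by
      rw [h1]; linear_combination h6 - algebraMap F K b * h2 + h3) with h | h
    · exact h4 (sub_eq_zero.1 h ▸ E.σ_alg b)
    · have := E.σ_alg b
      rw [sub_eq_zero.1 h, E.σσ] at this
      exact h4 this.symm
  obtain ⟨δ, h6, h7⟩ := exists_trace_zero E.σ E.σσ E.ne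
  have hS := E.std_nondeg m
  have hd : (X ^ 2 + X + 1 : F[X]).natDegree = 2 := by compute_degree!
  have h8 : x.1 ^ 2 + x.1 + 1 = 0 := hfpf.mul_left_cancel (by
    rw [mul_zero, ← sub_eq_zero.2 (show x.1 ^ 3 = 1 from congrArg Subtype.val hx3)]; noncomm_ring)
  rw [card_centralizer_of_inj (spHom_inj m) (range_spHom m), ((spForm_nondeg m).sp_ic
    (E.trA_nondeg hS h7 h6) (spHom_mem m x) (E.trA_mem h7 (g := scE _ ω) ?_) (m := 3)
    (fun e => h5 1 (by linear_combination e)) (by rw [← map_pow, hx3, map_one]) (sim_of_irr (a := X ^ 2 + X + 1)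
    (by monicity!) (irreducible_of_degree_le_three_of_not_isRoot (by simp [hd]) (by simpa using h5))
    (LinearMap.ext fun v => ?_) (LinearMap.ext fun v => ?_) (by rw [finrank_sp, E.finrank_eq]; simp))).card_cent,
    E.cent_trA _ h7 h6 h4, Subgroup.card_map_of_injective QE.res_inj, E.std_isom hK hE,
    (uForm_nondeg hK m).cast_card_unit (n := m) (by simp)]
  · refine Form.unit_mem_isom.2 fun x y => ?_
    rw [scE_apply, scE_apply, Form.smul_left, Form.smul_right, unitParam_σ, h1]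
    linear_combination (E.std m).B x y * h3
  · simpa [Matrix.add_mulVec, sq, ← Matrix.mulVec_mulVec] using congrArg (·.mulVec v) h8
  · simpa [add_smul, sq, mul_smul] using congrArg (· • v) h2

end Cfsg.Agent.S2637
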