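import Cfsg.Statements.S2638
import Cfsg.Agent.H5.Cj1

set_option autoImplicit false
open Cfsg

namespace Cfsg.Agent.S2638

open CfsgH5

/-- If an element x of GL_n(q), n ≥ 1, has prime order r and the multiplicative order of q modulo r is n (r is a primitive prime divisor of q^n − 1, so x acts irreducibly), then the centraliser of x in GL_n(q) is cyclic of order q^n − 1 (the multiplicative group of the field with q^n elements, a Singer cycle). -/
theorem result {F : Type*} [Field F] [Fintype F] {p q : ℕ} [Fact p.Prime] [CharP F p] (hF : Fintype.card F = q) {n r : ℕ} (hn : 1 ≤ n) (hr : r.Prime) (hrp : r ≠ p) (hi : orderOf (q : ZMod r) = n) (x : GL (Fin n) F) (hx : orderOf x = r) : IsCyclic ↥(Subgroup.centralizer ({x} : Set (GL (Fin n) F))) ∧ Nat.card ↥(Subgroup.centralizer ({x} : Set (GL (Fin n) F))) = q ^ n - 1 := by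
  subst hF
  have h : (r : F) ≠ 0 := (cast_ne_zero_iff p).2 ((Nat.coprime_primes hr Fact.out).2 hrp)
  haveI := Fact.mk hr
  rw [← (glEquiv _ F).orderOf_eq, orderOf_eq_prime_iff] at hx
  set g := glEquiv _ F x with hg
  have h4 := (pow_eq_one_iff_ed1 hr h).1 hx.1
  have h5 := dg0_const fun a ha => (cyT_spec hr h).1 a (h4 a ha)
  have h6 := dg0_ed1_le (g : Module.End F (Fin n → F))
  rw [h5, hi, Module.finrank_fin_fun] at h6
  have h7 := Multiset.card_pos.2 (ed1_eq_zero.not.2 hx.2)
  obtain ⟨a, ha⟩ := Multiset.card_eq_one.1 (le_antisymm (by nlinarith) h7)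
  have h8 := ed_eq_ed1 (g : Module.End F (Fin n → F))
  rw [h5, hi, ha, Module.finrank_fin_fun] at h8
  have h9 := mem_cyT.1 (h4 a (by simp [ha]))
  obtain ⟨χ, h1, h2, -⟩ := Pr.cent (a := a) (g := g) (by simpa [h8] using pr_ed g.toLinearMap)
  haveI := Fact.mk h9.1
  haveI := h9.2.1.finite_adjoinRoot
  haveI : Finite (AdjoinRoot a) := Module.finite_of_finite F
  have e : (AdjoinRoot a)ˣ ≃* Subgroup.centralizer ({x} : Set (GL (Fin n) F)) :=
    ((MonoidHom.ofInjective h1).trans (MulEquiv.subgroupCongr h2)).trans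
      ((comapEquiv (glEquiv _ F) _).symm.trans (MulEquiv.subgroupCongr (by
        ext k
        simp [Subgroup.mem_centralizer_singleton_iff, hg, ← map_mul])))
  refine ⟨isCyclic_of_surjective _ e.surjective, ?_⟩
  rw [← Nat.card_congr e.toEquiv, Nat.card_units, Module.natCard_eq_pow_finrank (K := F),
    (pr_rt a).finrank (by simpa using h9.2.1)]
  simp [dg0, (cyT_spec hr h).1 a (h4 a (by simp [ha])), hi]

end Cfsg.Agent.S2638
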