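import Cfsg.Statements.S2639
import Cfsg.Agent.H5.Iso2

set_option autoImplicit false
open Cfsg

namespace Cfsg.Agent.S2639

open CfsgH5 Module

/-- The unitary group embeds in the symplectic group of twice the dimension over the subfield: for a field K with q² elements and a field F with q elements (isomorphic to the subfield of K of order q), there is an injective homomorphism GU_m(q) → Sp_2m(F). -/
theorem result {K F : Type*} [Field K] [Fintype K] [Field F] [Fintype F] {q : ℕ} (hK : Fintype.card K = q ^ 2) (hF : Fintype.card F = q) (m : ℕ) : ∃ φ : ↥(Cfsg.GU m K q) →* ↥(Matrix.symplecticGroup (Fin m) F), Function.Injective φ := by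
  obtain ⟨_, E, hE⟩ := exists_QE hK hF
  haveI := E.finite
  haveI : FiniteDimensional F (Fin m → K) := Module.Finite.trans K _
  obtain ⟨δ, h0, hδ⟩ := exists_trace_zero E.σ E.σσ E.ne
  obtain ⟨e⟩ := (E.trA_nondeg (E.std_nondeg m) hδ h0).sp_nonempty_equiv (m := m)
    (by rw [E.finrank_eq, Module.finrank_fin_fun])
  have hm : ∀ g : GU m K q, (QE.res F K (Fin m → K)).comp (guHom m K q) g ∈
      (E.trA (E.std m) hδ).isom := fun g =>
    E.trA_mem hδ (by rw [E.std_isom hK hE, ← range_guHom hK]; exact ⟨g, rfl⟩)
  refine ⟨e.toMonoidHom.comp (MonoidHom.codRestrict _ _ hm), e.injective.comp fun x y h => ?_⟩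
  exact guHom_inj m (QE.res_inj (congrArg Subtype.val h))

end Cfsg.Agent.S2639
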