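import Cfsg.Statements.S2641
import Cfsg.Agent.H5.Iso2

set_option autoImplicit false
open Cfsg

namespace Cfsg.Agent.S2641

open CfsgH5 Module

/-- For m odd, the unitary group GU_m(q) (over the field with q² elements) embeds in the orthogonal group O⁻_2m(q) of an elliptic form (Σ_(i<m−1) x_i y_i plus an anisotropic binary form) over the field with q elements (there is an injective homomorphism). -/
theorem result {K F : Type*} [Field K] [Fintype K] [Field F] [Fintype F] {q : ℕ} (hK : Fintype.card K = q ^ 2) (hF : Fintype.card F = q) (m : ℕ) (hm : Odd m) (a b : F) (hab : ∀ z₁ z₂ : F, z₁ ^ 2 + a * z₁ * z₂ + b * z₂ ^ 2 = 0 → z₁ = 0 ∧ z₂ = 0) : ∃ φ : ↥(Cfsg.GU m K q) →* ↥(Cfsg.isometryGroup F (Cfsg.quadFormMinus (m - 1) F a b)), Function.Injective φ := by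
  obtain ⟨_, E, hE⟩ := exists_QE hK hF
  haveI := E.finite
  haveI : FiniteDimensional F (Fin m → K) := Module.Finite.trans K _
  have hp : ¬ (E.trQ (E.std m)).IsPlus := by
    rw [← Form.tp_eq_neg_one_iff, E.trQ_tp (E.std_nondeg m), Module.finrank_fin_fun, hm.neg_one_pow]
  have := hm.pos
  obtain ⟨φ, hφ⟩ := (E.trQ_nondeg (E.std_nondeg m)).exists_isom_minus hp (m := m - 1)
    (by rw [E.finrank_eq, Module.finrank_fin_fun]; omega) hab
  let e := hφ.isomEquiv.trans (oEquiv (minusForm_Q (m - 1) a b)).symm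
  have hm : ∀ g : GU m K q, (QE.res F K (Fin m → K)).comp (guHom m K q) g ∈
      (E.trQ (E.std m)).isom := fun g =>
    E.trQ_mem (by rw [E.std_isom hK hE, ← range_guHom hK]; exact ⟨g, rfl⟩)
  refine ⟨e.toMonoidHom.comp (MonoidHom.codRestrict _ _ hm), e.injective.comp fun x y h => ?_⟩
  exact guHom_inj m (QE.res_inj (congrArg Subtype.val h))

end Cfsg.Agent.S2641
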