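import Cfsg.Statements.S2642
import Cfsg.Agent.H5.Cj3

set_option autoImplicit false
open Cfsg

namespace Cfsg.Agent.S2642

open CfsgH5

/-- Number of conjugacy classes of elements of order p in the general unitary group GU_n(q), q a power of p: every unipotent Jordan type occurs and the classes correspond to the partitions of n with all parts at most p other than the all-ones partition, exactly as in GL_n; so there are (number of partitions of n with parts ≤ p) − 1 classes. -/
theorem result {K : Type*} [Field K] [Fintype K] {p q n : ℕ} [Fact p.Prime] [CharP K p] (hK : Fintype.card K = q ^ 2) : Nat.card {C : ConjClasses ↥(Cfsg.GU n K q) // ∃ g : ↥(Cfsg.GU n K q), ConjClasses.mk g = C ∧ orderOf g = p} = (Finset.univ.filter (fun μ : Nat.Partition n => ∀ a ∈ μ.parts, a ≤ p)).card - 1 := by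
  rw [card_classes' (guHom n K q) (guHom_inj n) (range_guHom hK n) _ (fun g => g ^ p = 1 ∧ g ≠ 1)
    (fun g => by rw [← orderOf_eq_prime_iff, orderOf_injective _ (guHom_inj n)]) (fun g => jt g.toLinearMap)
    ({m | (∀ e ∈ m, 0 < e) ∧ m.sum = n ∧ ∀ e ∈ m, e ≤ p} \ {Multiset.replicate n 1}),
    ← card_part n fun m => ∀ e ∈ m, e ≤ p, Nat.card_coe_set_eq, Nat.card_coe_set_eq,
    Set.ncard_sdiff_singleton_of_mem]
  · simp [Multiset.mem_replicate, (Fact.out : p.Prime).one_le]
  · exact fun g hg h hh h1 h2 => ⟨fun ⟨k, _, e⟩ => (conj_iff_sim.1 ⟨k, e⟩).jt, fun e =>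
      (uForm_nondeg hK n).unit_conj (frobQ_ne hK) hg hh
        (sim_of_jt (nil_of_pow p h1.1) (nil_of_pow p h2.1) e)⟩
  · refine fun m => ⟨fun h => ?_, ?_⟩
    · obtain ⟨g, h1, rfl⟩ := exists_jt (F := K) (V := Fin n → K) h.1.1 (by simpa using h.1.2.1)
      obtain ⟨g', h2, h3⟩ := (uForm_nondeg hK n).unit_exists_nil h1
      obtain ⟨k, rfl⟩ := conj_iff_sim.2 h3
      exact ⟨_, h2, by simpa [conj_pow] using (jt_prime p h1).2 (by simpa using ⟨h.1.2.2, h.2⟩), h3.jt.symm⟩
    rintro ⟨g, -, h, rfl⟩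
    have := (jt_prime p (nil_of_pow p h.1)).1 h
    exact ⟨⟨jt_pos, by simp [jt_sum], this.1⟩, by simpa using this.2⟩

end Cfsg.Agent.S2642
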