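import Cfsg.Statements.S2643
import Cfsg.Agent.H5.Cj3

set_option autoImplicit false
open Cfsg

namespace Cfsg.Agent.S2643

open CfsgH5

/-- Regular unipotent classes of SU_n(q), n ≥ 2: the elements u of the special unitary group (isometries of Σ u_i v_i^q of determinant one over the field with q² elements) with (u − 1)^n = 0 and rank(u − 1) = n − 1 form exactly gcd(n, q + 1) conjugacy classes of SU_n(q). -/
theorem result {K : Type*} [Field K] [Fintype K] {q n : ℕ} (hK : Fintype.card K = q ^ 2) (hn : 2 ≤ n) : Nat.card {C : ConjClasses ↥(Cfsg.SU n K q) // ∃ u : ↥(Cfsg.SU n K q), ConjClasses.mk u = C ∧ (((u : GL (Fin n) K) : Matrix (Fin n) (Fin n) K) - 1) ^ n = 0 ∧ (((u : GL (Fin n) K) : Matrix (Fin n) (Fin n) K) - 1).rank = n - 1} = Nat.gcd n (q + 1) := by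
  have h0 : 0 < Module.finrank K (Fin n → K) := by simp; omega
  have hS := uForm_nondeg hK n
  obtain ⟨u, h1, h2, h3⟩ := exists_ru h0
  obtain ⟨u', h4, h5⟩ := hS.unit_exists_nil ((ru_iff h0).1 h1).1
  rw [card_split (suHom n K q) (suHom_inj n) (A := (uForm hK n).isom) LinearEquiv.det (u := u')
    (fun g => by rw [range_suHom hK, Subgroup.mem_inf, mem_slSub]; simp [Units.ext_iff])
    ((range_suHom hK n).ge ⟨h4, mem_slSub_iff.2 (h5.charpoly ▸ mem_slSub_iff.1 (mem_slSub.2 h2))⟩) _
    fun g => by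
      have := ru_toLin' (A := g.val.val)
      rw [Fintype.card_fin] at this
      exact this.symm.trans ((h3 _).trans ⟨fun h => hS.unit_conj (frobQ_ne hK) h4 (suHom_mem hK g).1
        (h5.symm.trans h), fun ⟨k, _, e⟩ => h5.trans (conj_iff_sim.1 ⟨k, e⟩)⟩),
    hS.unit_ru_det ((h3 _).2 h5) h0, hS.unit_map_det hK le_rfl (d := Pi.single ⟨0, by omega⟩ 1)
      (by simp [uForm_single]) fun _ _ => Form.qrefl_mem _ _, Subgroup.relIndex,
    show Subgroup.subgroupOf _ _ = (powMonoidHom n : normOne hK →* normOne hK).range by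
      ext x; simp [Subgroup.mem_subgroupOf, Subtype.ext_iff],
    IsCyclic.index_powMonoidHom_range, card_normOne, Nat.gcd_comm]

end Cfsg.Agent.S2643
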