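import Cfsg.Statements.S2644
import Cfsg.Agent.H5.W2

set_option autoImplicit false
open Cfsg

namespace Cfsg.Agent.S2644

open CfsgH5

/-- In the special unitary group SU_n(q) with n ≥ 3 (isometries of Σ u_i v_i^q of determinant one over the field with q² elements), any two transvections (elements t with t − 1 of rank one and square zero) are conjugate. -/
theorem result {K : Type*} [Field K] [Fintype K] {q n : ℕ} (hK : Fintype.card K = q ^ 2) (hn : 3 ≤ n) (s t : ↥(Cfsg.SU n K q)) (hs : Cfsg.IsTransvection (((s : GL (Fin n) K) : Matrix (Fin n) (Fin n) K))) (ht : Cfsg.IsTransvection (((t : GL (Fin n) K) : Matrix (Fin n) (Fin n) K))) : IsConj s t := by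
  rw [isConj_of_card_classes (suHom_inj n) (range_suHom hK n)]
  exact (uForm_nondeg hK n).unit_transv_conj (frobQ_ne hK) (by simpa using hn) (suHom_mem hK s)
    (suHom_mem hK t) ((rank_sub_one (suHom_apply n s)).symm.trans hs.1)
    ((rank_sub_one (suHom_apply n t)).symm.trans ht.1)

end Cfsg.Agent.S2644
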