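import Cfsg.Statements.S2645
import Cfsg.Agent.H5.Cj3

set_option autoImplicit false
open Cfsg

namespace Cfsg.Agent.S2645

open CfsgH5

/-- Number of conjugacy classes of elements of odd prime order r, r different from the characteristic, in the symplectic group Sp_2m(q): let i be the multiplicative order of q modulo r and t = (r − 1)/i. If i is odd the eigenvalue orbits pair off (Λ ≠ Λ⁻¹) and the classes correspond to the non-zero (t/2)-tuples (a_j) with 2i Σ a_j ≤ 2m, giving C(⌊m/i⌋ + t/2, t/2) − 1 classes; if i is even (Λ = Λ⁻¹) they correspond to the non-zero t-tuples with i Σ a_j ≤ 2m, giving C(⌊2m/i⌋ + t, t) − 1 classes. -/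
theorem result {F : Type*} [Field F] [Fintype F] {p q : ℕ} [Fact p.Prime] [CharP F p] (hF : Fintype.card F = q) (m r i t : ℕ) (hr : r.Prime) (hr2 : r ≠ 2) (hrp : r ≠ p) (hi : i = orderOf (q : ZMod r)) (ht : t * i = r - 1) : Nat.card {C : ConjClasses ↥(Matrix.symplecticGroup (Fin m) F) // ∃ g : Matrix.symplecticGroup (Fin m) F, ConjClasses.mk g = C ∧ orderOf g = r} = if Odd i then Nat.choose (m / i + t / 2) (t / 2) - 1 else Nat.choose (2 * m / i + t) t - 1 := by
  subst hF hi
  have h : (r : F) ≠ 0 := (cast_ne_zero_iff p).2 ((Nat.coprime_primes hr Fact.out).2 hrp)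
  obtain ⟨h1, h2⟩ := card_cyT hr h ht
  have hd := fun a => du_id_iff (σ := (spParam F).σ) p (fun _ => rfl) hr hr2 h (a := a)
  rw [(spForm_nondeg m).card_prime (spHom_inj m) (range_spHom m) hr hr2 h True (fun _ _ _ _ => trivial)
    fun d S0 h0 _ _ _ _ h3 _ => h0.sp_emb (spForm_nondeg m) (by simpa using h3), finrank_sp]
  split_ifs with ho
  · rw [card_mset_free (one_notMem_cyT hr h) (fun a ha => ⟨(du_mem_cyT (by simp) hr h ha).1,
      (du_mem_cyT (by simp) hr h ha).2, by simpa [hd a ha]⟩) h2, h1, Nat.mul_div_mul_left _ _ two_pos]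
    simp
  · rw [card_mset_fix (one_notMem_cyT hr h) (fun a ha => (hd a ha).2 ho) h2, h1]
    simp

end Cfsg.Agent.S2645
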