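import Cfsg.Statements.S2648
import Cfsg.Agent.H9.DLen2

set_option autoImplicit false
open Cfsg

namespace Cfsg.Agent.S2648

/-- Let q be odd, F a field with q elements and n ≥ 1. A Sylow 2-subgroup R of the symplectic group Sp_{2n}(F) has derived length exactly k + 1, where 2^k ≤ 2n < 2^{k+1}: the (k+1)-st term of its derived series is trivial and the k-th is not. -/
theorem result {F : Type*} [Field F] [Fintype F] [DecidableEq F] (q : ℕ) (hF : Fintype.card F = q) (hq : Odd q) (n : ℕ) (hn : 1 ≤ n) (R : Sylow 2 ↥(Matrix.symplecticGroup (Fin n) F)) : derivedSeries ↥(R : Subgroup ↥(Matrix.symplecticGroup (Fin n) F)) (Nat.log 2 (2 * n) + 1) = ⊥ ∧ derivedSeries ↥(R : Subgroup ↥(Matrix.symplecticGroup (Fin n) F)) (Nat.log 2 (2 * n)) ≠ ⊥ := by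
  open Subgroup CfsgH9 Matrix in
    subst hF
    have h2 : (2 : F) ≠ 0 := fun e => by
      have := FiniteField.even_card_of_char_two (CharP.ringChar_of_prime_eq_zero Nat.prime_two e)
      rw [Nat.odd_iff] at hq; omega
    refine ⟨?_, ?_⟩
    · rw [eq_bot_iff]
      intro g hg
      exact Subtype.ext (Subtype.ext (mat_bound (p := 2) h2 R.isPGroup'
        ((Submonoid.subtype _).comp (R : Subgroup (symplecticGroup (Fin n) F)).subtype) (by
          simpa [← two_mul] using Nat.lt_pow_succ_log_self (by norm_num) (2 * n)) hg))
    · obtain ⟨r, hr⟩ := CharP.exists F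
      have : NeZero r := ⟨CharP.char_ne_zero_of_finite F r⟩
      obtain ⟨a, b, hab⟩ := CharP.sq_add_sq F r (-1)
      let i : SpecialLinearGroup (Fin 2) F := ⟨!![0, -1; 1, 0], by simp [det_fin_two]⟩
      let j : SpecialLinearGroup (Fin 2) F := ⟨!![(a : F), b; b, -a], by
        rw [det_fin_two_of]; push_cast at hab; linear_combination -hab⟩
      have i2 : i * i = -1 := by
        apply Subtype.ext; show i.1 * i.1 = -1
        ext s t; fin_cases s <;> fin_cases t <;> simp [i, mul_apply, Fin.sum_univ_two]
      have j2 : j * j = -1 := by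
        push_cast at hab
        apply Subtype.ext; show j.1 * j.1 = -1
        ext s t; fin_cases s <;> fin_cases t <;> simp [j, mul_apply, Fin.sum_univ_two] <;>
          first | ring1 | linear_combination hab
      have ji : j * i = -(i * j) := by
        apply Subtype.ext; show j.1 * i.1 = -(i.1 * j.1)
        ext s t; fin_cases s <;> fin_cases t <;> simp [i, j, mul_apply, Fin.sum_univ_two]
      have pg : ∀ x : SpecialLinearGroup (Fin 2) F, x * x = -1 → IsPGroup 2 (zpowers x) := by
        rintro x hx ⟨_, m, rfl⟩
        refine ⟨2, Subtype.ext ?_⟩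
        show (x ^ m) ^ (2 ^ 2) = 1
        rw [← zpow_natCast, ← _root_.zpow_mul, mul_comm, _root_.zpow_mul, zpow_natCast,
          show x ^ 2 ^ 2 = x * x * (x * x) by simp [pow_succ, mul_assoc], hx]
        simp
      have hn : j ∈ normalizer (zpowers i : Set (SpecialLinearGroup (Fin 2) F)) :=
        CfsgH2.mem_normalizer_of_conj_mem (by
          rintro _ ⟨m, rfl⟩
          have : j * i * j⁻¹ = i ^ 3 := by
            rw [ji, show i ^ 3 = i * i * i by simp [pow_succ], i2]; simp
          show j * i ^ m * j⁻¹ ∈ _
          rw [← conj_zpow, this]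
          exact zpow_mem (pow_mem (mem_zpowers i) 3) m)
      set H : Subgroup (SpecialLinearGroup (Fin 2) F) := zpowers j ⊔ zpowers i
      have hq : IsPGroup 2 H := (pg j j2).to_sup_of_normal_right' (pg i i2) (zpowers_le.2 hn)
      have hH : derivedSeries H 1 ≠ ⊥ := by
        intro e
        have h1 := (commutator_eq_bot_iff_center_eq_top _).1 e
        have h3 := congrArg H.subtype (mem_center_iff.1 (show (⟨i, mem_sup_right (mem_zpowers i)⟩ : H) ∈ center H from
          h1 ▸ mem_top _) ⟨j, mem_sup_left (mem_zpowers j)⟩)
        have h4 : i * j * (-1) = i * j * 1 := by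
          rw [mul_one, mul_neg, mul_one, ← ji]; exact h3
        have h5 : (-1 : F) = 1 := congrArg (fun x : SpecialLinearGroup (Fin 2) F => x.1 0 0) (mul_left_cancel h4)
        exact h2 (by linear_combination -h5)
      let ρ : SpecialLinearGroup (Fin 2) F →* Matrix (Fin 2) (Fin 2) F := ⟨⟨Subtype.val, rfl⟩, fun _ _ => rfl⟩
      obtain ⟨W, _, h1, h3, f, hf, hJ⟩ := (Mono.fin hq hH (Nat.log 2 n) n
        (Nat.pow_log_le_self 2 (by omega))).mat (ρ.comp (Subgroup.subtype _))
        (Subtype.val_injective.comp Subtype.val_injective) !![0, -1; 1, 0] (fun x => by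
          have hd := x.1.2
          rw [det_fin_two] at hd
          show x.1.1 * _ * x.1.1ᵀ = _
          ext a b
          fin_cases a <;> fin_cases b <;> simp [mul_apply, Fin.sum_univ_two] <;>
            first | ring1 | linear_combination hd | linear_combination -hd)
      let ε : Fin 2 × Fin n ≃ Fin n ⊕ Fin n :=
        { toFun := fun x => if x.1 = 0 then .inl x.2 else .inr x.2
          invFun := Sum.elim (fun a => (0, a)) fun a => (1, a)
          left_inv := fun ⟨a, b⟩ => by fin_cases a <;> simp
          right_inv := fun x => by rcases x with x | x <;> simp }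
      have hε : reindexAlgEquiv F F ε (blockDiagonal fun _ => !![0, -1; 1, 0]) = J (Fin n) F := by
        ext a b
        rcases a with a | a <;> rcases b with b | b <;> simp [ε, J, blockDiagonal_apply, one_apply] <;>
          split_ifs <;> simp
      let φ : W →* symplecticGroup (Fin n) F := ((reindexAlgEquiv F F ε).toMonoidHom.comp f).codRestrict _ fun w => by
        have := congrArg (reindexAlgEquiv F F ε) (hJ w)
        rw [map_mul, map_mul, hε] at this
        exact SymplecticGroup.mem_iff.2 this
      rw [mul_comm, Nat.log_mul_base (by norm_num) (by omega), add_comm]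
      exact sylow_ds_ne_bot h1 φ (fun a b h => hf ((reindexAlgEquiv F F ε).injective (congrArg Subtype.val h))) h3 R

end Cfsg.Agent.S2648
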