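import Cfsg.Statements.S2665
import Cfsg.Agent.H5.Tw1

set_option autoImplicit false
open scoped MatrixGroups
open Cfsg

namespace Cfsg.Agent.S2665

open CfsgH5 Matrix

/-- The Lang–Steinberg Theorem for the general linear group. Let `K` be an algebraically closed field of prime characteristic `p`, let `q = p^f` with `f ≥ 1`, and let `σ` be the endomorphism of GL_n(K) raising every matrix entry to the `q`-th power. Then every element `g` of GL_n(K) can be written `g = x · σ(x)⁻¹` for some `x` in GL_n(K): the map `x ↦ x σ(x)⁻¹` is surjective. -/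
theorem result {K : Type*} [Field K] [IsAlgClosed K] (p : ℕ) [Fact p.Prime] [CharP K p]
    (f : ℕ) (hf : 1 ≤ f) (n : ℕ) (g : GL (Fin n) K) :
    ∃ x : GL (Fin n) K, g = x * (Matrix.GeneralLinearGroup.map (iterateFrobenius K p f) x)⁻¹ := by
  have hs := span_fixed_top (K := K) (q := p ^ f) (Nat.one_lt_pow (by omega) (Fact.out : p.Prime).one_lt)
    (AddMonoidHom.mk' (fun v : Fin n → K => g.1 *ᵥ (iterateFrobenius K p f ∘ v)) fun u v => by
      rw [← mulVec_add]; congr 1; ext; simp) (fun c v => by
      change g.1 *ᵥ _ = _ • g.1 *ᵥ _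
      rw [← mulVec_smul]; congr 1; ext; simp [iterateFrobenius_def, mul_pow])
    fun u v e => funext fun i => (iterateFrobenius K p f).injective
      (congrFun ((glEquiv _ K g).injective e) i)
  let b := (Module.Basis.ofSpan hs).reindex ((Module.Basis.ofSpan hs).indexEquiv (Pi.basisFun K _))
  have hb : ∀ j, g.1 *ᵥ (iterateFrobenius K p f ∘ b j) = b j := fun j => by
    rw [Module.Basis.reindex_apply]
    exact Module.Basis.ofSpan_subset hs ⟨_, rfl⟩
  have := (Pi.basisFun K _).invertibleToMatrix b
  refine ⟨unitOfInvertible ((Pi.basisFun K _).toMatrix b), eq_mul_inv_iff_mul_eq.2 (Units.ext ?_)⟩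
  ext i j
  exact congrFun (hb j) i

end Cfsg.Agent.S2665
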