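import Cfsg.Statements.S2669
import Mathlib
import Cfsg.Agent.H8.Shintani

set_option autoImplicit false
open Cfsg

namespace Cfsg.Agent.S2669

/-- Shintani descent preserves numbers of fixed points on coset spaces (abstract form). Let `σ` be an automorphism of a group `X` and `e ≥ 1`; write `G` for the fixed points of `σᵉ` and `H` for the fixed points of `σ`, and assume `G` is finite. Let `Y` be a `σ`-stable subgroup of `X` on which the maps `a ↦ a σ(a)⁻¹` and `a ↦ a σᵉ(a)⁻¹` are surjective (as for a closed connected `σ`-stable subgroup of an algebraic group). Let `g ∈ G`, let `a ∈ X` satisfy `g = a σ(a)⁻¹` and put `x = σᵉ(a)⁻¹ a` (the Shintani image, an element of `H`). The element `g σ` of the semidirect product acts on the cosets of `Y ∩ G` in `G` by `k (Y ∩ G) ↦ g σ(k) (Y ∩ G)`, fixing that coset exactly when `k⁻¹ g σ(k) ∈ Y`; and `x` fixes the coset `h (Y ∩ H)` of `H` exactly when `h⁻¹ x h ∈ Y`. Then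 the two numbers of fixed cosets agree; in cross-multiplied form, `#{k ∈ G : k⁻¹ g σ(k) ∈ Y} · |Y ∩ H| = #{h ∈ H : h⁻¹ x h ∈ Y} · |Y ∩ G|`. -/
theorem result {X : Type*} [Group X] (σ : MulAut X) (e : ℕ) (he : 1 ≤ e)
    [Finite ↥((MulEquiv.toMonoidHom (σ ^ e)).eqLocus (MonoidHom.id X))]
    (Y : Subgroup X) (hY : ∀ y : X, y ∈ Y ↔ σ y ∈ Y)
    (hYL : ∀ y ∈ Y, ∃ a ∈ Y, y = a * (σ a)⁻¹) (hYLe : ∀ y ∈ Y, ∃ a ∈ Y, y = a * ((σ ^ e) a)⁻¹)
    (g : X) (hg : g ∈ (MulEquiv.toMonoidHom (σ ^ e)).eqLocus (MonoidHom.id X)) (a : X) (ha : g = a * (σ a)⁻¹) :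
    Nat.card {k : ↥((MulEquiv.toMonoidHom (σ ^ e)).eqLocus (MonoidHom.id X)) // (k : X)⁻¹ * g * σ k ∈ Y} *
        Nat.card ↥(Y ⊓ (MulEquiv.toMonoidHom σ).eqLocus (MonoidHom.id X)) =
      Nat.card {h : ↥((MulEquiv.toMonoidHom σ).eqLocus (MonoidHom.id X)) // (h : X)⁻¹ * (((σ ^ e) a)⁻¹ * a) * h ∈ Y} *
        Nat.card ↥(Y ⊓ (MulEquiv.toMonoidHom (σ ^ e)).eqLocus (MonoidHom.id X)) := by
  set G := (MulEquiv.toMonoidHom (σ ^ e)).eqLocus (MonoidHom.id X) with hG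
  set H := (MulEquiv.toMonoidHom σ).eqLocus (MonoidHom.id X) with hH
  have hYe : ∀ y ∈ Y, ∀ n : ℕ, (σ ^ n) y ∈ Y := by
    intro y hy n
    induction n with
    | zero => simpa using hy
    | succ n ih => rw [pow_succ', MulAut.mul_apply]; exact (hY _).1 ih
  have h1 := CfsgH8.card_pairs_coset G H Y a
  have h2 := CfsgH8.card_pairs_coset H G Y a⁻¹
  have h3 : Nat.card {t : G × H // (t.1 : X)⁻¹ * a * t.2 ∈ Y} =
      Nat.card {t : H × G // (t.1 : X)⁻¹ * a⁻¹ * t.2 ∈ Y} := by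
    refine Nat.card_congr (Equiv.subtypeEquiv (Equiv.prodComm _ _) ?_)
    rintro ⟨k, h⟩
    rw [← Y.inv_mem_iff]
    simp [mul_assoc]
  have e1 : Nat.card {k : G // (k : X)⁻¹ * g * σ k ∈ Y} =
      Nat.card {k : G // ∃ h ∈ H, (k : X)⁻¹ * a * h ∈ Y} := by
    refine Nat.card_congr (Equiv.subtypeEquivRight ?_)
    intro k
    constructor
    · intro hk
      obtain ⟨y, hy, hy2⟩ := hYL _ hk
      refine ⟨a⁻¹ * k * y, ?_, by simpa [mul_assoc] using hy⟩
      rw [hH, CfsgH8.shin_mem, map_mul, map_mul, map_inv]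
      rw [ha] at hy2
      calc (σ a)⁻¹ * σ k * σ y = a⁻¹ * k * ((k : X)⁻¹ * (a * (σ a)⁻¹) * σ k) * σ y := by group
        _ = _ := by rw [hy2]; group
    · rintro ⟨h, hh, hy⟩
      rw [hH, CfsgH8.shin_mem] at hh
      have := Y.mul_mem hy (Y.inv_mem ((hY _).1 hy))
      convert this using 1
      rw [ha, map_mul, map_mul, map_inv, hh]; group
  have e2 : Nat.card {h : H // (h : X)⁻¹ * (((σ ^ e) a)⁻¹ * a) * h ∈ Y} =
      Nat.card {k : H // ∃ h ∈ G, (k : X)⁻¹ * a⁻¹ * h ∈ Y} := by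
    refine Nat.card_congr (Equiv.subtypeEquivRight ?_)
    intro h
    have hh : (σ ^ e) (h : X) = h := CfsgH8.shin_fix_pow σ h.2 e
    constructor
    · intro hk
      obtain ⟨y, hy, hy2⟩ := hYLe _ (Y.inv_mem hk)
      refine ⟨a * h * y, ?_, by simpa [mul_assoc] using hy⟩
      rw [hG, CfsgH8.shin_mem, map_mul, map_mul, hh]
      calc (σ ^ e) a * h * (σ ^ e) y
          = a * h * ((h : X)⁻¹ * (((σ ^ e) a)⁻¹ * a) * h)⁻¹ * (σ ^ e) y := by group
        _ = _ := by rw [hy2]; group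
    · rintro ⟨k, hk, hy⟩
      rw [hG, CfsgH8.shin_mem] at hk
      have := Y.mul_mem (hYe _ hy e) (Y.inv_mem hy)
      convert this using 1
      rw [map_mul, map_mul, map_inv, map_inv, hh, hk]; group
  rw [e1, e2, ← h1, ← h2, h3]

end Cfsg.Agent.S2669
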