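import Cfsg.Statements.S2672
import Cfsg.Agent.H5.Cj5

set_option autoImplicit false
open Cfsg

namespace Cfsg.Agent.S2672

open CfsgH5 Polynomial

/-- Number of conjugacy classes of elements of odd prime order r in PGU_n(q) = GU_n(q)/scalars (n ≥ 3) when r divides q + 1: as in the linear case with q − 1 replaced by q + 1, the classes correspond to the rotation orbits on r-tuples of eigenvalue multiplicities summing to n with every entry < n, plus r − 1 further classes when r divides n; in all (C(n+r−1, r−1) − r − [r ∣ n])/r + r·[r ∣ n]. -/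
theorem result {K : Type*} [Field K] [Fintype K] {q n r : ℕ} (hK : Fintype.card K = q ^ 2) (hn : 3 ≤ n) (hr : r.Prime) (hr2 : r ≠ 2) (hrq : r ∣ q + 1) : Nat.card {C : ConjClasses (↥(Cfsg.GU n K q) ⧸ Subgroup.center ↥(Cfsg.GU n K q)) // ∃ g : ↥(Cfsg.GU n K q) ⧸ Subgroup.center ↥(Cfsg.GU n K q), ConjClasses.mk g = C ∧ orderOf g = r} = (Nat.choose (n + r - 1) (r - 1) - r - (if r ∣ n then 1 else 0)) / r + r * (if r ∣ n then 1 else 0) := by
  have hS := uForm_nondeg hK n
  have hm : ∀ g, guHom n K q g ∈ (uForm hK n).isom := fun g => range_guHom hK n ▸ ⟨g, rfl⟩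
  have hq := two_le_of_card_sq hK
  have hZ : ∀ c : Kˣ, c ∈ normOne hK ↔ c ^ (q + 1) = 1 := fun c => by
    rw [Units.ext_iff, pow_succ']; exact Iff.rfl
  refine card_pgl (guHom n K q) (normOne hK) (fun g => ?_) (fun c hc => (range_guHom hK n).ge ?_) hr
    (by rwa [card_normOne]) (fun c h => ?_) (fun l hl b h => ⟨b, ?_, h⟩)
    (fun g h H => ?_) (fun g H => ?_) (by simp) (by omega)
  · rw [mem_center_GU hK (by omega)]
    refine ⟨fun ⟨c, h⟩ => ?_, fun ⟨c, _, h⟩ => ⟨c, mat_eq_smul_one.2 (LinearEquiv.congr_fun h)⟩⟩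
    have h1 := Form.isom_B (hm g) (Pi.single ⟨0, by omega⟩ 1) (Pi.single ⟨0, by omega⟩ 1)
    rw [guHom_apply, mat_eq_smul_one.1 h, Form.smul_left, Form.smul_right, uForm_single, mul_one] at h1
    exact ⟨Units.mk0 c (left_ne_zero_of_mul_eq_one h1), h1, LinearEquiv.ext (mat_eq_smul_one.1 h)⟩
  · refine Form.unit_mem_isom.2 fun x y => ?_
    rw [scE_apply, scE_apply, Form.smul_left, Form.smul_right, ← mul_assoc]
    exact (congrArg (· * _) hc).trans (one_mul _)
  · obtain ⟨k, hk⟩ := hrq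
    rw [hZ, hk, pow_mul, h, one_pow]
  · have h1 : (b ^ (q + 1)) ^ r = 1 := by rw [← pow_mul, mul_comm, pow_mul, h, ← hZ]; exact hl
    have h2 : (b ^ (q + 1)) ^ (q - 1) = 1 := by
      rw [← pow_mul, card_sub_one_sq hK, ← card_units_field, pow_card_eq_one']
    have h3 := pow_gcd_eq_one.2 ⟨h1, h2⟩
    rwa [(Nat.Prime.coprime_iff_not_dvd hr).2 fun e => hr2 ((Nat.prime_dvd_prime_iff_eq hr Nat.prime_two).1
      ((Nat.dvd_add_right e).1 (show q - 1 + 2 = q + 1 by omega ▸ hrq))), pow_one, ← hZ] at h3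
  · obtain ⟨k, h1, h2⟩ := hS.unit_conj (frobQ_ne hK) (hm g) (hm h) H
    obtain ⟨k, rfl⟩ := (range_guHom hK n).ge h1
    exact isConj_iff.2 ⟨k, guHom_inj n (by simpa using h2)⟩
  · obtain ⟨g', h1, h2⟩ := hS.unit_exists (g := g) ((Multiset.map_congr rfl fun a ha => by
      obtain ⟨c, h1, k, h2, rfl⟩ := H a ha
      rw [du_X_pow_sub_C h2 c.ne_zero, ← eq_inv_of_mul_eq_one_left h1]).trans (Multiset.map_id' _))
    obtain ⟨g', rfl⟩ := (range_guHom hK n).ge h1
    exact ⟨g', h2⟩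

end Cfsg.Agent.S2672
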