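import Cfsg.Statements.S2673
import Cfsg.Agent.H5.Cj3

set_option autoImplicit false
open Cfsg

namespace Cfsg.Agent.S2673

open CfsgH5

/-- Number of conjugacy classes of elements of odd prime order r ≠ p in the orthogonal group O_(2m+1)(q) of x_0² + Σ x_j y_j, q odd: with i the multiplicative order of q mod r and t = (r − 1)/i, there are C(⌊m/i⌋ + t/2, t/2) − 1 classes if i is odd (dual pairs of totally singular i-blocks) and C(⌊(2m+1)/i⌋ + t, t) − 1 if i is even (elliptic i-blocks). -/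
theorem result {F : Type*} [Field F] [Fintype F] {p q : ℕ} [Fact p.Prime] [CharP F p] (hF : Fintype.card F = q) (hq : Odd q) (m r i t : ℕ) (hr : r.Prime) (hr2 : r ≠ 2) (hrp : r ≠ p) (hi : i = orderOf (q : ZMod r)) (ht : t * i = r - 1) : Nat.card {C : ConjClasses ↥(Cfsg.isometryGroup F (Cfsg.quadFormOdd m F)) // ∃ g : ↥(Cfsg.isometryGroup F (Cfsg.quadFormOdd m F)), ConjClasses.mk g = C ∧ orderOf g = r} = if Odd i then Nat.choose (m / i + t / 2) (t / 2) - 1 else Nat.choose ((2 * m + 1) / i + t) t - 1 := by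
  subst hF hi
  have h : (r : F) ≠ 0 := (cast_ne_zero_iff p).2 ((Nat.coprime_primes hr Fact.out).2 hrp)
  obtain ⟨h1, h2⟩ := card_cyT hr h ht
  have hd := fun a => du_id_iff (σ := (orthParam F).σ) p (fun _ => rfl) hr hr2 h (a := a)
  have hS := oddForm_nondeg m (two_ne_zero_of_odd hq)
  rw [hS.card_prime (oHom_inj _) (range_oHom (oddForm_Q m)) hr hr2 h True (fun _ _ _ _ => trivial)
    fun d S0 h0 _ hg _ h4 h3 _ => h0.odd_emb hS (h0.even_of_fpf hg h4) ⟨m, finrank_odd m⟩
      (by simpa using h3), finrank_odd]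
  split_ifs with ho
  · rw [card_mset_free (one_notMem_cyT hr h) (fun a ha => ⟨(du_mem_cyT (by simp) hr h ha).1,
      (du_mem_cyT (by simp) hr h ha).2, by simpa [hd a ha]⟩) h2, h1, ← Nat.div_div_eq_div_mul,
      show (2 * m + 1) / 2 = m by omega]
    simp
  · rw [card_mset_fix (one_notMem_cyT hr h) (fun a ha => (hd a ha).2 ho) h2, h1]
    simp

end Cfsg.Agent.S2673
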