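import Cfsg.Statements.S2677
import Cfsg.Agent.H5.Tw1

set_option autoImplicit false
open Cfsg

namespace Cfsg.Agent.S2677

open CfsgH5 Matrix

/-- Centraliser of a field automorphism of odd prime order in PGU_n(q): let q = q₀^r with r an odd prime, K the field with q² elements and σ a field automorphism of K of order r (fixed field of order q₀²). The elements g of GU_n(q) whose entrywise image under σ is a scalar multiple of g — those whose coset modulo the q + 1 unitary scalars is fixed by σ — number (q + 1)/(q₀ + 1) · |GU_n(q₀)|; equivalently the centraliser in PGU_n(q) of the induced automorphism has the order of PGU_n(q₀). -/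
theorem result {K : Type*} [Field K] [Fintype K] {q₀ q r n : ℕ} (hr : r.Prime) (hr2 : r ≠ 2) (hn : 1 ≤ n) (hq : q = q₀ ^ r) (hK : Fintype.card K = q ^ 2) (σ : K ≃+* K) (hσ : orderOf σ = r) : (Nat.card {g : ↥(Cfsg.GU n K q) // ∃ c : K, c ≠ 0 ∧ ((g : GL (Fin n) K) : Matrix (Fin n) (Fin n) K).map σ = c • ((g : GL (Fin n) K) : Matrix (Fin n) (Fin n) K)} : ℤ) = ((q + 1) / (q₀ + 1) : ℕ) * ((q₀ : ℤ) ^ (n * (n - 1) / 2) * ∏ i : Fin n, ((q₀ : ℤ) ^ ((i : ℕ) + 1) - (-1) ^ ((i : ℕ) + 1))) := by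
  have : NeZero n := ⟨by omega⟩
  have h1 := CfsgH8.card_fixF σ
  rw [Nat.card_eq_fintype_card, hK, hσ, hq, ← pow_mul, mul_comm, pow_mul,
    Nat.pow_left_inj hr.ne_zero] at h1
  have := Fintype.ofFinite (CfsgH8.fixF σ)
  have h0 : Fintype.card (CfsgH8.fixF σ) = q₀ ^ 2 := by rw [h1, Nat.card_eq_fintype_card]
  obtain ⟨s, hs⟩ := hr.odd_of_ne_two hr2
  let φ := (CfsgH8.fixF σ).subtype
  have h3 : ∀ x, frobQ hK (φ x) = φ (frobQ h0 x) := fun x => by
    rw [frobQ_apply, frobQ_apply, ← map_pow, hq, hs, pow_succ, pow_mul, pow_mul, ← h0,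
      FiniteField.pow_card_pow]
  have h4 : ∀ (a : K) (m : Matrix (Fin n) (Fin n) (CfsgH8.fixF σ)),
      (a • m.map φ)ᵀ * (a • m.map φ).map (frobQ hK) =
        (a * frobQ hK a) • (mᵀ * m.map (frobQ h0)).map φ := fun a m => by
    ext i j
    simp only [mul_apply, transpose_apply, map_apply, Matrix.smul_apply, smul_eq_mul, map_mul, h3,
      map_sum, Finset.mul_sum]
    exact Finset.sum_congr rfl fun _ _ => by ring
  have h2 := card_twist (ι := Fin n) φ (normOne hK) (Cfsg.GU n _ q₀) (normOne h0) fun e => by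
    have : Units.map (φ : _ →* K) e ∈ normOne hK ↔ e ∈ normOne h0 := by
      change φ e * frobQ hK (φ e) = 1 ↔ _ * _ = 1
      rw [h3, ← map_mul, map_eq_one_iff _ φ.injective]
    refine ⟨fun h => ⟨this.2 h, (mem_GU_mat h0).2 ?_⟩, fun h => this.1 h.1⟩
    simpa [← diagonal_one] using show e.1 * frobQ h0 e.1 = 1 from h
  have h5 := two_le_of_card_sq h0
  have h6 : Nat.card {g : ↥(Cfsg.GU n K q) // ∃ c : K, c ≠ 0 ∧ ((g : GL (Fin n) K) : Matrix (Fin n) (Fin n) K).map σ =
      c • ((g : GL (Fin n) K) : Matrix (Fin n) (Fin n) K)} = (q + 1) / (q₀ + 1) * Nat.card (Cfsg.GU n (CfsgH8.fixF σ) q₀) := by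
    refine Nat.eq_of_mul_eq_mul_left q₀.succ_pos ?_
    rw [← mul_assoc, Nat.mul_div_cancel' (by simpa [hq] using (hr.odd_of_ne_two hr2).nat_add_dvd_pow_add_pow q₀ 1),
      ← card_normOne hK, h2, card_normOne]
    congr 1
    refine Nat.card_congr ((Equiv.subtypeSubtypeEquivSubtypeInter (· ∈ Cfsg.GU n K q) fun g =>
      ∃ c : K, c ≠ 0 ∧ g.1.map σ = c • g.1).trans (Equiv.subtypeEquivRight fun g => ?_))
    rw [twist_iff (φ := φ) fun a => CfsgH8.mem_fixF.symm.trans (by simp [φ]), mem_GU_mat hK]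
    refine ⟨fun ⟨e1, a, m, e⟩ => ?_, fun ⟨a, ha, m, hm, e⟩ => ⟨?_, a, m, e⟩⟩
    · rw [e, h4] at e1
      have e2 := congrFun₂ e1 0 0
      simp only [Matrix.smul_apply, map_apply, smul_eq_mul, one_apply_eq] at e2
      generalize (m.1ᵀ * m.1.map (frobQ h0)) 0 0 = l at e2
      obtain ⟨c, rfl⟩ := exists_norm h0 (a := l) (φ.injective (mul_left_cancel₀ (left_ne_zero_of_mul_eq_one e2) (by
        have := congrArg (frobQ hK) e2
        simp only [map_mul, frobQ_invol, map_one, h3] at this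
        linear_combination this - e2)))
      have e3 : c ≠ 0 := by rintro rfl; simp at e2
      have e4 : g.1 = (a * φ c) • (c⁻¹ • m.1).map φ := by
        ext i j
        simp [e, e3, mul_assoc]
      have e5 : (a * φ c) * frobQ hK (a * φ c) = 1 := by
        simp only [map_mul, h3] at e2 ⊢
        linear_combination e2
      refine ⟨a * Units.map (φ : _ →* K) (Units.mk0 c e3), e5, ⟨c⁻¹ • m.1, c • m⁻¹.1, by simp [smul_smul, e3],
        by simp [smul_smul, e3]⟩, (mem_GU_mat h0).2 (map_injective φ.injective ?_), e4⟩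
      rw [← h4, ← e, e4, h4, e5, one_smul] at e1
      exact e1.trans (by simp)
    · rw [e, h4, (mem_GU_mat h0).1 hm, show (a : K) * _ = 1 from ha]
      simp
  rw [h6, Nat.cast_mul, Nat.card_congr (guEquiv h0 n).toEquiv, (uForm_nondeg h0 n).cast_card_unit (n := n) (by simp)]

end Cfsg.Agent.S2677
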