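import Cfsg.Statements.S2678
import Cfsg.Agent.H5.Iso2

set_option autoImplicit false
open Cfsg

namespace Cfsg.Agent.S2678

open CfsgH5 Module

/-- Field-extension embedding of symplectic groups: for a field K with q² elements and a field F with q elements there is an injective homomorphism Sp_2a(K) → Sp_4a(F). -/
theorem result {K F : Type*} [Field K] [Fintype K] [Field F] [Fintype F] {q : ℕ} (hK : Fintype.card K = q ^ 2) (hF : Fintype.card F = q) (a : ℕ) : ∃ φ : ↥(Matrix.symplecticGroup (Fin a) K) →* ↥(Matrix.symplecticGroup (Fin (2 * a)) F), Function.Injective φ := by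
  obtain ⟨_, E, hE⟩ := exists_QE hK hF
  haveI := E.finite
  haveI : FiniteDimensional F (Fin a ⊕ Fin a → K) := Module.Finite.trans K _
  obtain ⟨e⟩ := (E.trS_nondeg (spForm_nondeg (F := K) a)).sp_nonempty_equiv (m := 2 * a)
    (by rw [E.finrank_eq, finrank_sp])
  have hm : ∀ g, (QE.res F K (Fin a ⊕ Fin a → K)).comp (spHom a K) g ∈
      (E.trS (spForm a K)).isom := fun g => E.trS_mem (spHom_mem a g)
  refine ⟨e.toMonoidHom.comp (MonoidHom.codRestrict _ _ hm), e.injective.comp fun x y h => ?_⟩
  exact spHom_inj a (QE.res_inj (congrArg Subtype.val h))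

end Cfsg.Agent.S2678
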