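import Cfsg.Statements.S2679
import Cfsg.Agent.H5.Iso2

set_option autoImplicit false
open Cfsg

namespace Cfsg.Agent.S2679

open CfsgH5 Matrix

/-- An elliptic orthogonal group embeds in the hyperbolic orthogonal group of the same dimension over the quadratic extension: for a field F with q elements and a field K with q² elements there is an injective homomorphism from O⁻_2m(F) (isometries of Σ_(j<m−1) x_j y_j + z₁² + a z₁z₂ + c z₂², binary part anisotropic) to O⁺_2m(K) (isometries of Σ_(j<m) x_j y_j over K). -/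
theorem result {F K : Type*} [Field F] [Fintype F] [Field K] [Fintype K] {q : ℕ} (hF : Fintype.card F = q) (hK : Fintype.card K = q ^ 2) {m : ℕ} (hm : 1 ≤ m) (a c : F) (hac : ∀ z₁ z₂ : F, z₁ ^ 2 + a * z₁ * z₂ + c * z₂ ^ 2 = 0 → z₁ = 0 ∧ z₂ = 0) : ∃ φ : ↥(Cfsg.isometryGroup F (Cfsg.quadFormMinus (m - 1) F a c)) →* ↥(Cfsg.isometryGroup K (Cfsg.quadFormPlus m K)), Function.Injective φ := by
  obtain ⟨_, E, -⟩ := exists_QE hK hF
  obtain ⟨n, rfl⟩ : ∃ n, m = n + 1 := ⟨m - 1, by omega⟩
  let i := algebraMap F K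
  have hS := minusForm_nondeg' (F := K) n (a := i a) (b := i c) (by
    simpa [i, ← map_pow, ← map_ofNat i, ← map_mul, ← map_sub] using disc_ne_zero_of_aniso hac)
  have h := minusForm_hypFam (F := K) n (i a) (i c)
  obtain ⟨t, ht⟩ : ∃ t : K, t ^ 2 + i a * t + i c = 0 := by
    simpa using exists_root_two (F₀ := i.fieldRange) (by
      rw [hK, ← hF, ← Nat.card_eq_fintype_card, Nat.card_congr i.rangeRestrictFieldEquiv.toEquiv])
      (a := 1) (b := ⟨_, a, rfl⟩) (c := ⟨_, c, rfl⟩) one_ne_zero
  have hp : (minusForm n K (i a) (i c)).IsPlus := by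
    let x : (Fin n ⊕ Fin n) ⊕ Fin 2 → K := Sum.elim 0 ![t, 1]
    refine ⟨_ ⊔ Submodule.span K {x}, h.totSing_left.sup_span ((Form.q_eq_zero_iff _).2 ?_) ?_, ?_⟩
    · simpa [minusForm_Q, Cfsg.quadFormMinus, x] using ht
    · rw [Form.perp_span, Form.mem_perp_range]
      simp [minusForm_B, x]
    · rw [finrank_sup_span_eq, h.finrank_left, finrank_minus, Fintype.card_fin]
      intro hx
      have := (Submodule.span_le (p := LinearMap.ker (LinearMap.proj (.inr 1)))).2 (by
        rintro _ ⟨j, rfl⟩; simp) hx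
      simp [x] at this
  obtain ⟨e, he⟩ := hS.exists_isom_plus hp (finrank_minus n)
  have h1 : ∀ v, (minusForm n K (i a) (i c)).Q (i ∘ v) = i ((minusForm n F a c).Q v) := fun v => by
    simp [minusForm_Q, Cfsg.quadFormMinus]
  have h2 : ∀ u v, (minusForm n K (i a) (i c)).B (i ∘ u) (i ∘ v) = i ((minusForm n F a c).B u v) :=
    fun u v => by simp [minusForm_B, map_ofNat]
  have h3 : ∀ j : (Fin n ⊕ Fin n) ⊕ Fin 2, Pi.single j 1 = i ∘ Pi.single j 1 := fun j => by
    ext k; simp [Pi.single_apply]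
  let ψ : Cfsg.isometryGroup F (Cfsg.quadFormMinus n F a c) →* (minusForm n K (i a) (i c)).isom :=
    (((glEquiv _ K).toMonoidHom.comp (GeneralLinearGroup.map i)).comp (Subgroup.subtype _)).codRestrict _
      fun g => by
        have h4 := oHom_mem (minusForm_Q n a c) g
        have h5 : ∀ v, glEquiv _ K (GeneralLinearGroup.map i g) (i ∘ v) = i ∘ oHom _ g v := fun v =>
          funext fun j => (RingHom.map_mulVec i _ v j).symm
        refine Form.mem_isom_of_span (Pi.basisFun K _).span_eq ?_ ?_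
        · rintro _ ⟨j, rfl⟩ _ ⟨k, rfl⟩
          simp only [Pi.basisFun_apply, h3]
          exact (congrArg₂ _ (h5 _) (h5 _)).trans (by rw [h2, h2, Form.isom_B h4])
        · rintro _ ⟨j, rfl⟩
          simp only [Pi.basisFun_apply, h3, Form.q_eq_iff]
          exact (congrArg _ (h5 _)).trans (by rw [h1, h1, Form.isom_Q h4])
  let f := he.isomEquiv.trans (oEquiv (plusForm_Q _)).symm
  refine ⟨f.toMonoidHom.comp ψ, f.injective.comp fun g k e => Subtype.ext (Units.ext ?_)⟩
  exact Matrix.map_injective i.injective (congrArg Units.val ((glEquiv _ K).injective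
    (congrArg Subtype.val e)))

end Cfsg.Agent.S2679
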