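import Cfsg.Statements.S2680
import Cfsg.Agent.H5.W2

set_option autoImplicit false
open Cfsg

namespace Cfsg.Agent.S2680

open CfsgH5

/-- Centraliser order of an involution t of Sp_2m(q), q even, with s = rank(t − 1) odd (type b_s): |C(t)| = q^(2ms − (3s² − s)/2) · |Sp_(s−1)(q)| · |Sp_(2m−2s)(q)|, where |Sp_2k(q)| = q^(k²) Π_(i=1)^k (q^(2i) − 1). -/
theorem result {F : Type*} [Field F] [Fintype F] [CharP F 2] {q : ℕ} (hF : Fintype.card F = q) {m s : ℕ} (t : Matrix.symplecticGroup (Fin m) F) (ht : t ^ 2 = 1) (hs : ((t : Matrix (Fin m ⊕ Fin m) (Fin m ⊕ Fin m) F) - 1).rank = s) (hodd : Odd s) : Nat.card ↥(Subgroup.centralizer ({t} : Set ↥(Matrix.symplecticGroup (Fin m) F))) = q ^ (2 * m * s - (3 * s ^ 2 - s) / 2) * ((q : ℕ) ^ (((s - 1) / 2) ^ 2) * ∏ i : Fin ((s - 1) / 2), (q ^ (2 * ((i : ℕ) + 1)) - 1)) * ((q : ℕ) ^ ((m - s) ^ 2) * ∏ i : Fin (m - s), (q ^ (2 * ((i : ℕ) + 1)) - 1)) := by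
  have h2 : (2 : F) = 0 := CharTwo.two_eq_zero
  have hS := spForm_nondeg (F := F) m
  rw [rank_sub_one (spHom_apply m t)] at hs
  have h4 : spHom m F t * spHom m F t = 1 := by rw [← map_mul, ← sq, ht, map_one]
  have h5 := hS.two_mul_mov_le h2 h4
  rw [finrank_sp] at h5
  obtain ⟨r, rfl⟩ : ∃ r, m = s + r := ⟨m - s, by omega⟩
  obtain ⟨k, rfl⟩ := hodd
  rw [card_centralizer_of_inj (spHom_inj _) (range_spHom _), hS.card_centralizer (spHom_mem _ t),
    hS.card_pres_wf_odd h2 (fun _ => rfl) (spHom_mem _ t) h4 hs,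
    hS.sp_card_fixer (Form.sp_totSing_mov h2 (spHom_mem _ t) h4) hs (finrank_sp _), ← spN_eq, ← spN_eq,
    Nat.card_eq_fintype_card, hF, Nat.add_sub_cancel_left, show (2 * k + 1 - 1) / 2 = k by omega,
    half_sub_eq (c := (2 * k + 1) * (3 * k + 1)) (by ring),
    Nat.div_eq_of_eq_mul_left (k := (2 * k + 1) * (k + 1)) two_pos (by ring),
    Nat.sub_eq_of_eq_add (c := 2 * (2 * k + 1) * r + (2 * k + 1) * (k + 1)) (by ring)]
  ring

end Cfsg.Agent.S2680
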