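import Cfsg.Statements.S2683
import Cfsg.Agent.H5.W2

set_option autoImplicit false
open Cfsg

namespace Cfsg.Agent.S2683

open CfsgH5

/-- For the hyperbolic form Σ x_j y_j on F^(2m) over a finite field with q elements, q even (excluding m = 2 over the field of two elements), and an involution x of the orthogonal group with s = rank(x − 1) odd (type b_s; such x lie outside Ω): the elements of Ω (the commutator subgroup of the orthogonal group) commuting with x number q^(2m(s−1) − (3s² − 3s)/2) · |Sp_(s−1)(q)| · |Sp_(2m−2s)(q)|, where |Sp_2k(q)| = q^(k²) Π_(i=1)^k (q^(2i) − 1). -/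
theorem result {F : Type*} [Field F] [Fintype F] [CharP F 2] {q : ℕ} (hF : Fintype.card F = q) {m s : ℕ} (h : Fintype.card F ≠ 2 ∨ m ≠ 2) (x : ↥(Cfsg.isometryGroup F (Cfsg.quadFormPlus m F))) (hx : x ^ 2 = 1) (hs : (((x : Matrix.GeneralLinearGroup (Fin m ⊕ Fin m) F) : Matrix (Fin m ⊕ Fin m) (Fin m ⊕ Fin m) F) - 1).rank = s) (hodd : Odd s) : Nat.card {g : ↥(Cfsg.Omega F (Cfsg.quadFormPlus m F)) // (g : ↥(Cfsg.isometryGroup F (Cfsg.quadFormPlus m F))) * x = x * (g : ↥(Cfsg.isometryGroup F (Cfsg.quadFormPlus m F)))} = q ^ (2 * m * (s - 1) - (3 * s ^ 2 - 3 * s) / 2) * ((q : ℕ) ^ (((s - 1) / 2) ^ 2) * ∏ i : Fin ((s - 1) / 2), (q ^ (2 * ((i : ℕ) + 1)) - 1)) * ((q : ℕ) ^ ((m - s) ^ 2) * ∏ i : Fin (m - s), (q ^ (2 * ((i : ℕ) + 1)) - 1)) := by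
  have h2 : (2 : F) = 0 := CharTwo.two_eq_zero
  have hS := plusForm_nondeg (F := F) m
  have hQ := plusForm_Q (F := F) m
  have hG := gen_of (finrank_sp (F := F) m) (h.imp_right fun h => by omega)
  rw [rank_sub_one (oHom_apply _ x)] at hs
  have h4 : oHom _ x * oHom _ x = 1 := by rw [← map_mul, ← sq, hx, map_one]
  have h5 := hS.two_mul_mov_le h2 h4
  have hg := oHom_mem hQ x
  obtain ⟨k, rfl⟩ := hodd
  have ha : ¬ (plusForm m F).Alt (oHom _ x) := fun h => by
    obtain ⟨a, ha⟩ := hS.even_of_alt h2 (fun _ => rfl) hg h4 h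
    omega
  rw [finrank_sp] at h5
  obtain ⟨r, rfl⟩ : ∃ r, m = 2 * k + 1 + r := ⟨m - (2 * k + 1), by omega⟩
  have h7 := hS.card_cent_om_of_not_lag h2 (hS.RG_eq hG).ge hg h4 fun h => ha (h.alt hg)
  rw [hS.card_centralizer hg, hS.card_pres_wf_odd h2 (fun _ => rfl) hg h4 hs,
    hS.card_fixer_mov_nonalt h2 hg h4 ha hs (finrank_sp _)] at h7
  refine Nat.eq_of_mul_eq_mul_left two_pos ?_
  rw [card_comm_Omega hQ, ← h7, ← spN_eq, ← spN_eq,
    Nat.card_eq_fintype_card, hF, Nat.add_sub_cancel_left, Nat.add_sub_cancel,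
    show 2 * k / 2 = k by omega, half_sub_eq (c := 3 * k * (2 * k + 1)) (by ring),
    Nat.div_eq_of_eq_mul_left (k := k * (2 * k + 1)) two_pos (by ring),
    Nat.sub_eq_of_eq_add (c := 2 * (2 * k) * r + k * (2 * k + 1)) (by ring)]
  ring

end Cfsg.Agent.S2683
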