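import Cfsg.Statements.S2684
import Cfsg.Agent.H5.W2

set_option autoImplicit false
open Cfsg

namespace Cfsg.Agent.S2684

open CfsgH5

/-- For the hyperbolic form Q = Σ x_j y_j on F^(2m) over a finite field with q elements, q even (excluding m = 2 over the field of two elements), and an involution x ≠ 1 of the orthogonal group with s = rank(x − 1) even and Q vanishing on the image of x − 1 (equivalently f(v, xv) = 0 for all v, where f(u, w) = Q(u + w) − Q(u) − Q(w) is the bilinear form of Q; type a_s, which lies in Ω): its centraliser in Ω (the commutator subgroup of the orthogonal group) has order q^(2ms − (3s² + s)/2) · |Sp_s(q)| · |Ω⁺_(2m−2s)(q)|, where |Ω⁺_2k(q)| = q^(k(k−1)) (q^k − 1) Π_(i=1)^(k−1) (q^(2i) − 1) for k ≥ 1 and the last factor is 1 when s = m. -/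
theorem result {F : Type*} [Field F] [Fintype F] [CharP F 2] {q : ℕ} (hF : Fintype.card F = q) {m s : ℕ} (h : Fintype.card F ≠ 2 ∨ m ≠ 2) (x : ↥(Cfsg.isometryGroup F (Cfsg.quadFormPlus m F))) (hx : x ^ 2 = 1) (hx1 : x ≠ 1) (hs : (((x : Matrix.GeneralLinearGroup (Fin m ⊕ Fin m) F) : Matrix (Fin m ⊕ Fin m) (Fin m ⊕ Fin m) F) - 1).rank = s) (heven : Even s) (halt : ∀ v : Fin m ⊕ Fin m → F, Cfsg.quadFormPlus m F ((((x : Matrix.GeneralLinearGroup (Fin m ⊕ Fin m) F) : Matrix (Fin m ⊕ Fin m) (Fin m ⊕ Fin m) F) - 1).mulVec v) = 0) : Nat.card {g : ↥(Cfsg.Omega F (Cfsg.quadFormPlus m F)) // (g : ↥(Cfsg.isometryGroup F (Cfsg.quadFormPlus m F))) * x = x * (g : ↥(Cfsg.isometryGroup F (Cfsg.quadFormPlus m F)))} = q ^ (2 * m * s - (3 * s ^ 2 + s) / 2) * ((q : ℕ) ^ ((s / 2) ^ 2) * ∏ i : Fin (s / 2), (q ^ (2 * ((i : ℕ) + 1)) - 1)) * (if s = m then 1 else q ^ ((m - s) * (m - s - 1)) * (q ^ (m - s) - 1) * ∏ i : Fin (m - s - 1), (q ^ (2 * ((i : ℕ)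 + 1)) - 1)) := by
  have h2 : (2 : F) = 0 := CharTwo.two_eq_zero
  have hS := plusForm_nondeg (F := F) m
  have hQ := plusForm_Q (F := F) m
  have hG := gen_of (finrank_sp (F := F) m) (h.imp_right fun h => by omega)
  rw [rank_sub_one (oHom_apply _ x)] at hs
  have h4 : oHom _ x * oHom _ x = 1 := by rw [← map_mul, ← sq, hx, map_one]
  have h5 := hS.two_mul_mov_le h2 h4
  have hg := oHom_mem hQ x
  have ha : (plusForm m F).Alt (oHom _ x) := (Form.orth_alt_iff hg).2 fun v => by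
    have := halt v
    rw [Matrix.sub_mulVec, Matrix.one_mulVec] at this
    rwa [hQ, oHom_apply]
  have h6 := Form.one_le_mov ((map_ne_one_iff _ (oHom_inj _)).2 hx1)
  rw [finrank_sp] at h5
  obtain ⟨k, rfl⟩ : ∃ k, s = 2 * (k + 1) := by obtain ⟨a, ha⟩ := heven; exact ⟨a - 1, by omega⟩
  obtain ⟨r, rfl⟩ : ∃ r, m = 2 * (k + 1) + r := ⟨m - 2 * (k + 1), by omega⟩
  have h8 := hS.card_centralizer hg
  have h9 := Form.totSing_mov h2 hg h4 ha
  rw [hS.card_pres_wf_alt h2 (fun _ => rfl) hg h4 ha hs,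
    hS.card_fixer_plus (plusForm_isPlus _) h9 hs (finrank_sp _), Nat.card_eq_fintype_card (α := F), hF,
    show 2 * (k + 1) - 1 = 2 * k + 1 by omega,
    Nat.div_eq_of_eq_mul_left (k := (k + 1) * (2 * k + 1)) two_pos (by ring)] at h8
  rw [card_comm_Omega hQ, ← spN_eq, Nat.add_sub_cancel_left, show 2 * (k + 1) / 2 = k + 1 by omega,
    Nat.div_eq_of_eq_mul_left (k := (k + 1) * (6 * k + 7)) two_pos (by ring),
    Nat.sub_eq_of_eq_add (c := 2 * (2 * (k + 1)) * r + (k + 1) * (2 * k + 1)) (by ring),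
    Fin.prod_univ_eq_prod_range (fun i => q ^ (2 * (i + 1)) - 1)]
  by_cases hr : r = 0
  · rw [hS.cent_om_of_lag h2 hG ⟨h9, by rw [hs, finrank_sp, hr, add_zero]⟩, h8, if_pos hr,
      if_pos (by omega)]
    ring
  · refine Nat.eq_of_mul_eq_mul_left two_pos ?_
    rw [← hS.card_cent_om_of_not_lag h2 (hS.RG_eq hG).ge hg h4 fun h => ?_, h8, if_neg hr,
      if_neg (by omega)]
    · ring
    · have := h.2
      rw [hs, finrank_sp] at this
      omega

end Cfsg.Agent.S2684
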