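import Cfsg.Statements.S2686
import Mathlib
import Cfsg.Agent.H8.LB6

set_option autoImplicit false
open Cfsg

namespace Cfsg.Agent.S2686

/-- A criterion for the failure of local balance in almost simple groups with linear socle. Let F be a finite field of characteristic r and K = PSL_n(F) (n ≥ 2) simple. Let A be a group of automorphisms of K containing all inner automorphisms (an almost simple group with socle K), and β ∈ A an automorphism of prime order p ≠ r that is not inner-diagonal (not induced by conjugation by an invertible matrix). Then the largest normal subgroup of C_A(β) of order prime to p is nontrivial if and only if β is the composite of an inner-diagonal automorphism with the automorphism induced by a field automorphism applied entrywise (β is of field type) and p does not divide the number of fixed points of β on K. -/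
theorem result
    (F : Type*) [Field F] [Fintype F] (r : ℕ) [Fact r.Prime] [CharP F r] (n : ℕ) (hn : 2 ≤ n)
    (hK : IsSimpleGroup (Matrix.ProjectiveSpecialLinearGroup (Fin n) F))
    (𝒢 : Subgroup (MulAut (Matrix.ProjectiveSpecialLinearGroup (Fin n) F))) (hinn : ∀ k : Matrix.ProjectiveSpecialLinearGroup (Fin n) F, MulAut.conj k ∈ 𝒢)
    (p : ℕ) [Fact p.Prime] (hpr : p ≠ r) (β : MulAut (Matrix.ProjectiveSpecialLinearGroup (Fin n) F)) (hβ : β ∈ 𝒢) (hord : orderOf β = p)
    (hnot : ¬ Cfsg.IsInnerDiagonalAutPSL β) :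
    Cfsg.pPrimeCore p ↥(𝒢 ⊓ Subgroup.centralizer {β}) ≠ ⊥ ↔
      ((∃ γ φ : MulAut (Matrix.ProjectiveSpecialLinearGroup (Fin n) F), Cfsg.IsInnerDiagonalAutPSL γ ∧ Cfsg.IsFieldAutPSL φ ∧ β = φ.trans γ) ∧
        Nat.Coprime p (Nat.card ↥(MonoidHom.eqLocus β.toMonoidHom (MonoidHom.id (Matrix.ProjectiveSpecialLinearGroup (Fin n) F))))) := by
  have h2 : 2 ≤ Fintype.card (Fin n) := by simpa using hn
  rcases CfsgH8.psl_cases h2 β with ⟨γ, rfl⟩ | ⟨h3, M, σ, x, hx, rfl⟩
  · refine CfsgH8.psl_lb_field h2 (fun h => hnot ((CfsgH8.inndiagPSL_iff _).2 ⟨γ.left, ?_⟩)) hpr hord hinn ?_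
    · exact (congrArg CfsgH8.pslPhiL (show γ = SemidirectProduct.inl γ.left from
        SemidirectProduct.ext rfl h)).trans ((CfsgH8.pslPhiL_inl _).trans (CfsgH8.pslPsi_apply _))
    exact ⟨CfsgH8.pslPhi (SemidirectProduct.inl γ.left), CfsgH8.pslPhi (SemidirectProduct.inr (γ.right, 1)),
      (CfsgH8.inndiagPSL_iff _).2 ⟨γ.left, rfl⟩, ⟨γ.right, (CfsgH8.stdFieldPSL_iff _ _).2 rfl⟩,
        (CfsgH8.pslPsi_mul_inr γ.left (γ.right, 1)).symm⟩
  have h1 := pow_orderOf_eq_one (CfsgH8.pslPhi (⟨M, (σ, x)⟩ : CfsgH8.GammaGr (Fin n) F))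
  rw [hord] at h1
  obtain rfl : 2 = p := (Nat.prime_dvd_prime_iff_eq Nat.prime_two Fact.out).1
    (CfsgH8.even_of_pow hx (congrArg Prod.snd (CfsgH8.psl_right_pow h3 h1)))
  obtain ⟨h4, y, a, b, c⟩ := CfsgH8.psl_lb_graph h3 hx hpr h1
  exact CfsgH8.lb_iff (CfsgH8.center_psl h2) hinn (fun _ => h4) fun h => absurd c (h y a b)

end Cfsg.Agent.S2686
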