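import Cfsg.Statements.S2697
import Mathlib
import Cfsg.Agent.H8.GUMat

set_option autoImplicit false
open Cfsg

namespace Cfsg.Agent.S2697

/-- Let T = PSL_n(F) be simple over a finite field (n ≥ 2; |F| ≥ 4 when n = 2) and let x be a field automorphism or a graph-field automorphism of T of prime order r. Then an element y of the coset Inndiag(T)·x (that is, y = δ x with δ in the inner-diagonal group, the image of PGL_n(F)) has order r if and only if y is conjugate to x by an element of Inndiag(T). -/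
theorem result {F : Type*} [Field F] [Fintype F] {p f : ℕ} [Fact p.Prime] (hF : Fintype.card F = p ^ f) (hf : 1 ≤ f) {n : ℕ} (hn : 2 ≤ n) (hs : n = 2 → 4 ≤ Fintype.card F) (x δ : MulAut (Matrix.ProjectiveSpecialLinearGroup (Fin n) F)) (hx : Cfsg.IsFieldAutClassPSL x ∨ Cfsg.IsGraphFieldAutClassPSL x) {r : ℕ} (hr : r.Prime) (hxr : orderOf x = r) (hδ : δ ∈ Cfsg.inndiagPSL n F) :
    orderOf (δ * x) = r ↔ Cfsg.IsConjUnder (Cfsg.inndiagPSL n F) x (δ * x) := by
  have h2 : 2 ≤ Fintype.card (Fin n) := by simpa using hn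
  rw [CfsgH8.inndiagPSL_eq] at hδ ⊢
  haveI := CfsgH8.pslPsi_normal (F := F) h2
  rcases hx with ⟨α, σ, hσ, hα⟩ | ⟨h3, α, φ, γ, σ, hσ, hφ, hγ, hα⟩
  · rw [CfsgH8.stdFieldPSL_iff] at hα
    refine CfsgH8.lang_iff (H := CfsgH8.pslPsi.range) hα hxr (CfsgH8.lang_field h2 ?_) hδ
    rw [← CfsgH8.orderOf_field h2, ← hα, ← hxr]
    exact (MulAut.conj α).orderOf_eq x
  · rw [CfsgH8.stdFieldPSL_iff] at hφ
    rw [CfsgH8.invTrPSL_iff] at hγ
    rw [hφ, hγ, CfsgH8.grField_eq] at hα
    have h3' : 3 ≤ Fintype.card (Fin n) := by simpa using h3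
    obtain ⟨rfl, hσ2⟩ := CfsgH8.graphField_order h3' (σ := σ) (x := Multiplicative.ofAdd 1)
      (by decide) hr (by rw [← hα, conj_pow, ← hxr, pow_orderOf_eq_one]; simp)
    exact CfsgH8.lang_iff (H := CfsgH8.pslPsi.range) hα hxr
      (CfsgH8.lang_graphField h3' hσ2 hσ (by decide)) hδ

end Cfsg.Agent.S2697
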