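import Cfsg.Statements.S2698
import Mathlib
import Cfsg.Agent.H8.GUMat

set_option autoImplicit false
open Cfsg

namespace Cfsg.Agent.S2698

/-- Let T = PSL_n(F) be simple over the field F with p^f elements (n ≥ 2; p^f ≥ 4 when n = 2), G = Inndiag(T) the image of PGL_n(F) in Aut(T), and x a field automorphism of T of prime order r. Then r divides f; the centralizer C_G(x) is isomorphic to PGL_n(F₀) for the subfield size |F₀| = p^(f/r); and the G-class of x is the union of exactly gcd(n, (p^f − 1)/(p^(f/r) − 1)) classes under conjugation by T (the inner automorphism group). -/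
theorem result {F : Type*} [Field F] [Fintype F] {p f : ℕ} [Fact p.Prime] (hF : Fintype.card F = p ^ f) (hf : 1 ≤ f) {n : ℕ} (hn : 2 ≤ n) (hs : n = 2 → 4 ≤ Fintype.card F) (x : MulAut (Matrix.ProjectiveSpecialLinearGroup (Fin n) F)) (hx : Cfsg.IsFieldAutClassPSL x) {r : ℕ} (hr : r.Prime) (hxr : orderOf x = r) (F₀ : Type*) [Field F₀] [Fintype F₀] (hF₀ : Fintype.card F₀ = p ^ (f / r)) :
    r ∣ f ∧ Nonempty (↥(Cfsg.inndiagPSL n F ⊓ Subgroup.centralizer {x}) ≃* Matrix.ProjGenLinGroup (Fin n) F₀) ∧ Cfsg.splitClassCount (Cfsg.inndiagPSL n F) (Cfsg.Inn (Matrix.ProjectiveSpecialLinearGroup (Fin n) F)) x = Nat.gcd n ((p ^ f - 1) / (p ^ (f / r) - 1)) := by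
  have h2 : 2 ≤ Fintype.card (Fin n) := by simpa using hn
  haveI : Nonempty (Fin n) := ⟨⟨0, by omega⟩⟩
  rw [CfsgH8.inndiagPSL_eq]
  change _ ∧ Nonempty (↥(CfsgH8.pslPsi.range ⊓ _) ≃* _) ∧ Cfsg.splitClassCount CfsgH8.pslPsi.range _ _ = _
  haveI := CfsgH8.pslPsi_normal (F := F) h2
  obtain ⟨α, σ, hσ, hα⟩ := hx
  rw [CfsgH8.stdFieldPSL_iff] at hα
  have ho : orderOf σ = r := by
    rw [← CfsgH8.orderOf_field h2, ← hα, ← hxr]
    exact (MulAut.conj α).orderOf_eq x
  have hrf : r ∣ f := by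
    rw [← ho, ← CfsgH8.card_ringAut hF]; exact orderOf_dvd_natCard σ
  obtain ⟨φ, hφ⟩ := CfsgH8.exists_fixed_emb σ F₀ (by
    rw [Nat.card_eq_fintype_card, Nat.card_eq_fintype_card, hF, hF₀, ho, ← pow_mul,
      Nat.div_mul_cancel hrf])
  refine ⟨hrf, ?_, ?_⟩
  · obtain ⟨e⟩ := CfsgH8.centralizer_conj_equiv CfsgH8.pslPsi.range hα
    obtain ⟨e'⟩ := CfsgH8.centralizer_equiv_quot CfsgH8.pslPsi (Matrix.GeneralLinearGroup.map φ)
      (CfsgH8.pslPhi (SemidirectProduct.inr (σ, 1))) (fun M => by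
        rw [CfsgH8.centralizer_field h2 hφ]
        constructor
        · rintro ⟨c, m, rfl⟩
          exact ⟨m, by rw [map_mul, CfsgH8.pslPsi_scalar, one_mul]⟩
        · rintro ⟨m, hm⟩
          rw [eq_comm, ← mul_inv_eq_one, ← map_inv, ← map_mul, CfsgH8.pslPsi_eq_one h2] at hm
          obtain ⟨c, hc⟩ := hm
          exact ⟨c, m, mul_inv_eq_iff_eq_mul.1 hc⟩) (Subgroup.center _) (fun m => by
        rw [CfsgH8.pslPsi_eq_one h2, CfsgH8.map_eq_scalar_iff, CfsgH8.mem_center_GL])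
    exact ⟨e.trans e'⟩
  · rw [CfsgH8.splitClassCount_conj _ _ hα, CfsgH8.splitClassCount_eq _ CfsgH8.Inn_le_pslPsi _
      Matrix.GeneralLinearGroup.det_surjective _ (fun M => CfsgH8.pslPsi_mem_Inn h2)]
    have : (powMonoidHom (Fintype.card (Fin n)) : Fˣ →* Fˣ).range ⊔
        ((Subgroup.centralizer {CfsgH8.pslPhi (SemidirectProduct.inr (σ, 1))}).comap
          (CfsgH8.pslPsi (ι := Fin n))).map Matrix.GeneralLinearGroup.det =
        (powMonoidHom (Fintype.card (Fin n)) : Fˣ →* Fˣ).range ⊔ (Units.map (φ : F₀ →* F)).range := by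
      refine le_antisymm (sup_le le_sup_left ?_) (sup_le le_sup_left ?_)
      · rintro _ ⟨M, hM, rfl⟩
        obtain ⟨c, m, rfl⟩ := (CfsgH8.centralizer_field h2 hφ M).1
          (Subgroup.mem_centralizer_singleton_iff.1 hM)
        rw [map_mul, CfsgH8.det_scalarGL]
        exact Subgroup.mul_mem_sup ⟨c, rfl⟩ ⟨Matrix.GeneralLinearGroup.det m,
          Units.ext ((φ.map_det _))⟩
      · rintro _ ⟨c, rfl⟩
        obtain ⟨m, rfl⟩ := Matrix.GeneralLinearGroup.det_surjective (n := Fin n) c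
        exact Subgroup.mem_sup_right ⟨Matrix.GeneralLinearGroup.map φ m,
          Subgroup.mem_centralizer_singleton_iff.2 ((CfsgH8.centralizer_field h2 hφ _).2
            ⟨1, m, by simp⟩), Units.ext ((φ.map_det _).symm)⟩
    rw [this, CfsgH8.index_sup_cyclic, CfsgH8.index_pow_units, CfsgH8.index_range_units,
      Nat.card_eq_fintype_card, Nat.card_eq_fintype_card, hF, hF₀, Fintype.card_fin, Nat.gcd_assoc]
    congr 1
    refine Nat.gcd_eq_right (Nat.div_dvd_of_dvd ?_)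
    exact Nat.pow_sub_one_dvd_pow_sub_one p (Nat.div_dvd_of_dvd hrf)

end Cfsg.Agent.S2698
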