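import Cfsg.Statements.S2703
import Mathlib
import Cfsg.Agent.H8.GR2

set_option autoImplicit false
open Cfsg

namespace Cfsg.Agent.S2703

/-- Let T = PSL_n(F) over the field with q elements, q odd, n = 2m ≥ 4 even, and ι the inverse-transpose automorphism. Its centralizer in G = Inndiag(T) (the image of PGL_n(F)) is isomorphic to the projective conformal orthogonal group of the plus-type form Σ xᵢ yᵢ in dimension n when n(q − 1)/4 is even, and to that of a minus-type form (Σ xᵢ yᵢ + z₁² + a z₁ z₂ + b z₂² with anisotropic binary part) when n(q − 1)/4 is odd. -/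
theorem result {F : Type*} [Field F] [Fintype F] (hodd : Odd (Fintype.card F)) {n m : ℕ} (hm : 2 ≤ m) (hnm : n = 2 * m) (ι : MulAut (Matrix.ProjectiveSpecialLinearGroup (Fin n) F)) (hι : Cfsg.IsInverseTransposeAutPSL ι) :
    (Even (n * (Fintype.card F - 1) / 4) → Nonempty (↥(Cfsg.inndiagPSL n F ⊓ Subgroup.centralizer {ι}) ≃* Cfsg.PGO F (Cfsg.quadFormPlus m F))) ∧ (¬ Even (n * (Fintype.card F - 1) / 4) → ∃ a b : F, (∀ z₁ z₂ : F, z₁ ^ 2 + a * z₁ * z₂ + b * z₂ ^ 2 = 0 → z₁ = 0 ∧ z₂ = 0) ∧ Nonempty (↥(Cfsg.inndiagPSL n F ⊓ Subgroup.centralizer {ι}) ≃* Cfsg.PGO F (Cfsg.quadFormMinus (m - 1) F a b))) := by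
  have h2 := CfsgH8.two_ne_of_odd hodd
  have H := CfsgH8.grS_psl (F := F) (n := n) (by omega)
  have hR : ∃ Q, CfsgH8.RL ι 1 Q := ⟨1, rfl, 1, by simpa using (CfsgH8.invTrPSL_iff ι).1 hι, by simp⟩
  have hc : Fintype.card (Fin n) = 2 * m := by simpa using hnm
  have hp := CfsgH8.one_isPlus_iff hodd hc
  have he : Even (n * (Fintype.card F - 1) / 4) ↔ Fintype.card F ^ m % 4 = 1 := by
    rw [CfsgH8.pow_mod_four hodd]
    obtain ⟨k, hk⟩ := hodd
    rw [hk, hnm, Nat.add_sub_cancel, show 2 * m * (2 * k) = 4 * (m * k) by ring,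
      Nat.mul_div_cancel_left _ (by decide), Nat.even_mul, Nat.even_iff, Nat.even_iff, Nat.odd_iff]
    omega
  rw [he, ← hp]
  refine ⟨fun h => H.cent_o hR ((CfsgH8.sm_even (by simp) _ h2 (CfsgH5.plusForm_nondeg m) (by simp; omega)
    ⟨m, by omega⟩).2 (iff_of_true h (CfsgH5.plusForm_isPlus m))) (CfsgH5.plusForm_Q m) h2, fun h => ?_⟩
  obtain ⟨b, hb⟩ := CfsgH5.exists_aniso_pair F
  exact ⟨1, b, hb, H.cent_o hR ((CfsgH8.sm_even (by simp) _ h2 (CfsgH5.minusForm_nondeg (m - 1) hb)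
    (by simp; omega) ⟨m, by omega⟩).2 (iff_of_false h (CfsgH5.minusForm_not_isPlus _ hb)))
    (CfsgH5.minusForm_Q _ _ _) h2⟩

end Cfsg.Agent.S2703
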