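import Cfsg.Statements.S2704
import Mathlib
import Cfsg.Agent.H8.GUMat

set_option autoImplicit false
open Cfsg

namespace Cfsg.Agent.S2704

/-- Let T = PSL_n(F) over the field F with p^f elements, n ≥ 3, and G = Inndiag(T) the image of PGL_n(F). If x is an involutory graph-field automorphism of T then f is even; x is G-conjugate to every other involutory graph-field automorphism; C_G(x) is isomorphic to the projective general unitary group PGU_n(q₀) with q₀² = p^f, realised over F itself through the Hermitian form Σ uᵢ vᵢ^{q₀}; and the G-class of x is the union of exactly gcd(n, q₀ − 1) T-classes. -/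
theorem result {F : Type*} [Field F] [Fintype F] {p f : ℕ} [Fact p.Prime] (hF : Fintype.card F = p ^ f) (hf : 1 ≤ f) {n : ℕ} (hn : 3 ≤ n) (x : MulAut (Matrix.ProjectiveSpecialLinearGroup (Fin n) F)) (hx : Cfsg.IsGraphFieldAutClassPSL x) (hx2 : orderOf x = 2) :
    Even f ∧ (∀ y : MulAut (Matrix.ProjectiveSpecialLinearGroup (Fin n) F), Cfsg.IsGraphFieldAutClassPSL y → orderOf y = 2 → Cfsg.IsConjUnder (Cfsg.inndiagPSL n F) x y) ∧ Nonempty (↥(Cfsg.inndiagPSL n F ⊓ Subgroup.centralizer {x}) ≃* Cfsg.PGU n F (p ^ (f / 2))) ∧ Cfsg.splitClassCount (Cfsg.inndiagPSL n F) (Cfsg.Inn (Matrix.ProjectiveSpecialLinearGroup (Fin n) F)) x = Nat.gcd n (p ^ (f / 2) - 1) := by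
  have h3 : 3 ≤ Fintype.card (Fin n) := by simpa using hn
  have h2 : 2 ≤ Fintype.card (Fin n) := by omega
  haveI : Nonempty (Fin n) := ⟨⟨0, by omega⟩⟩
  rw [CfsgH8.inndiagPSL_eq]
  change _ ∧ (∀ y, _ → _ → Cfsg.IsConjUnder CfsgH8.pslPsi.range _ _) ∧
    Nonempty (↥(CfsgH8.pslPsi.range ⊓ _) ≃* _) ∧ Cfsg.splitClassCount CfsgH8.pslPsi.range _ _ = _
  haveI := CfsgH8.pslPsi_normal (F := F) h2
  have key : ∀ y : MulAut (Matrix.ProjectiveSpecialLinearGroup (Fin n) F),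
      Cfsg.IsGraphFieldAutClassPSL y → orderOf y = 2 → ∃ (σ : F ≃+* F) (α : MulAut _), σ * σ = 1 ∧ σ ≠ 1 ∧
        α * y * α⁻¹ = CfsgH8.pslPhi (SemidirectProduct.inr (σ, Multiplicative.ofAdd 1)) := by
    rintro y ⟨-, α, φ, γ, σ, hσ, hφ, hγ, hα⟩ hy
    rw [CfsgH8.stdFieldPSL_iff] at hφ
    rw [CfsgH8.invTrPSL_iff] at hγ
    rw [hφ, hγ, CfsgH8.grField_eq] at hα
    exact ⟨σ, α, (CfsgH8.graphField_order h3 (σ := σ) (x := Multiplicative.ofAdd 1)
      (by decide) Nat.prime_two (by rw [← hα, conj_pow, ← hy, pow_orderOf_eq_one]; simp)).2, hσ, hα⟩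
  obtain ⟨σ, α, hσ2, hσ1, hα⟩ := key x hx hx2
  have ho : orderOf σ = 2 := orderOf_eq_prime (by rw [pow_two, hσ2]) hσ1
  have hrf : 2 ∣ f := by
    rw [← ho, ← CfsgH8.card_ringAut hF]; exact orderOf_dvd_natCard σ
  have hF' : Fintype.card F = (p ^ (f / 2)) ^ 2 := by rw [← pow_mul, Nat.div_mul_cancel hrf, hF]
  have hσ : ∀ a, σ a = a ^ p ^ (f / 2) := fun a => by
    rw [CfsgH8.invol_unique hσ2 hσ1 (CfsgH8.frobE_sq hF') (CfsgH8.frobE_ne hF')]; rfl
  have hx1 : (Multiplicative.ofAdd (1 : ZMod 2)) ≠ 1 := by decide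
  refine ⟨even_iff_two_dvd.2 hrf, fun y hy hy2 => ?_, ?_, ?_⟩
  · obtain ⟨τ, β, hτ2, hτ1, hβ⟩ := key y hy hy2
    rw [CfsgH8.invol_unique hτ2 hτ1 hσ2 hσ1] at hβ
    exact CfsgH8.IsConjUnder.trans' (CfsgH8.IsConjUnder.symm' (CfsgH8.isConjUnder_of_conj_inr h2 hα))
      (CfsgH8.isConjUnder_of_conj_inr h2 hβ)
  · obtain ⟨e⟩ := CfsgH8.centralizer_conj_equiv CfsgH8.pslPsi.range hα
    obtain ⟨e'⟩ := CfsgH8.centralizer_equiv_quot CfsgH8.pslPsi (Cfsg.GU n F (p ^ (f / 2))).subtype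
      (CfsgH8.pslPhi (SemidirectProduct.inr (σ, Multiplicative.ofAdd 1))) (fun M => by
        rw [CfsgH8.centralizer_graphField h2 hσ2 hσ1 hx1]
        constructor
        · rintro ⟨c, m, hm, rfl⟩
          exact ⟨⟨m, (CfsgH8.mem_GU_iff_fixed hσ hx1 m).2 hm⟩,
            by rw [map_mul, CfsgH8.pslPsi_scalar, one_mul]; rfl⟩
        · rintro ⟨m, hm⟩
          rw [eq_comm, ← mul_inv_eq_one, ← map_inv, ← map_mul, CfsgH8.pslPsi_eq_one h2] at hm
          obtain ⟨c, hc⟩ := hm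
          exact ⟨c, m, (CfsgH8.mem_GU_iff_fixed hσ hx1 _).1 m.2, mul_inv_eq_iff_eq_mul.1 hc⟩)
      ((Cfsg.Geo.scalars (Fin n) F).subgroupOf _) (fun m => by
        rw [CfsgH8.pslPsi_eq_one h2, Subgroup.mem_subgroupOf]
        exact exists_congr fun c => eq_comm)
    exact ⟨e.trans e'⟩
  · rw [CfsgH8.splitClassCount_conj _ _ hα, CfsgH8.splitClassCount_eq _ CfsgH8.Inn_le_pslPsi _
      Matrix.GeneralLinearGroup.det_surjective _ (fun M => CfsgH8.pslPsi_mem_Inn h2)]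
    have : (powMonoidHom (Fintype.card (Fin n)) : Fˣ →* Fˣ).range ⊔
        ((Subgroup.centralizer {CfsgH8.pslPhi (SemidirectProduct.inr (σ, Multiplicative.ofAdd 1))}).comap
          (CfsgH8.pslPsi (ι := Fin n))).map Matrix.GeneralLinearGroup.det =
        (powMonoidHom (Fintype.card (Fin n)) : Fˣ →* Fˣ).range ⊔ (CfsgH8.nrm σ 2).ker := by
      refine le_antisymm (sup_le le_sup_left ?_) (sup_le le_sup_left ?_)
      · rintro _ ⟨M, hM, rfl⟩
        obtain ⟨c, m, hm, rfl⟩ := (CfsgH8.centralizer_graphField h2 hσ2 hσ1 hx1 M).1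
          (Subgroup.mem_centralizer_singleton_iff.1 hM)
        rw [map_mul, CfsgH8.det_scalarGL]
        exact Subgroup.mul_mem_sup ⟨c, rfl⟩
          (CfsgH8.det_GU hσ ((CfsgH8.mem_GU_iff_fixed hσ hx1 m).2 hm))
      · intro c hc
        obtain ⟨m, hm, rfl⟩ := CfsgH8.exists_GU_det (n := n) (by omega) hσ hc
        exact Subgroup.mem_sup_right ⟨m,
          Subgroup.mem_centralizer_singleton_iff.2 ((CfsgH8.centralizer_graphField h2 hσ2 hσ1 hx1 _).2
            ⟨1, m, (CfsgH8.mem_GU_iff_fixed hσ hx1 m).1 hm, by simp⟩), rfl⟩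
    have h5 := CfsgH8.card_fixF σ
    rw [ho, Nat.card_eq_fintype_card, hF'] at h5
    have h6 := CfsgH8.index_ker_nrm σ
    rw [ho, ← Nat.pow_left_injective two_ne_zero h5] at h6
    rw [this, CfsgH8.index_sup_cyclic, CfsgH8.index_pow_units, h6, hF, Fintype.card_fin, Nat.gcd_assoc]
    congr 1
    refine Nat.gcd_eq_right ?_
    exact Nat.pow_sub_one_dvd_pow_sub_one p (Nat.div_dvd_of_dvd hrf)

end Cfsg.Agent.S2704
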