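import Cfsg.Statements.S2705
import Mathlib
import Cfsg.Agent.H8.LangForm2

set_option autoImplicit false
open Cfsg

namespace Cfsg.Agent.S2705

/-- Let T = PSU_n(q) be simple (n ≥ 3, (n, q) ≠ (3, 2), q = p^f), realised over the field F with q² elements, G = Inndiag(T) the image of PGU_n(q) in Aut(T), and x a field automorphism of T (conjugate to a standard field automorphism of odd order) of odd prime order r. Then r divides f; C_G(x) is isomorphic to PGU_n(q₀) with q₀ = p^(f/r), realised over a field F₀ with q₀² elements; and the G-class of x is the union of exactly gcd(n, (q + 1)/(q₀ + 1)) T-classes. -/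
theorem result {F : Type*} [Field F] [Fintype F] {p f q : ℕ} [Fact p.Prime] (hq : q = p ^ f) (hf : 1 ≤ f) (hF : Fintype.card F = q ^ 2) {n : ℕ} (hn : 3 ≤ n) (hs : ¬ (n = 3 ∧ q = 2)) (x : MulAut (Cfsg.PSU n F q)) (hx : Cfsg.IsFieldAutClassPSU x) {r : ℕ} (hr : r.Prime) (hro : Odd r) (hxr : orderOf x = r) (F₀ : Type*) [Field F₀] [Fintype F₀] (hF₀ : Fintype.card F₀ = p ^ (2 * (f / r))) :
    r ∣ f ∧ Nonempty (↥(Cfsg.inndiagPSU n F q ⊓ Subgroup.centralizer {x}) ≃* Cfsg.PGU n F₀ (p ^ (f / r))) ∧ Cfsg.splitClassCount (Cfsg.inndiagPSU n F q) (Cfsg.Inn (Cfsg.PSU n F q)) x = Nat.gcd n ((q + 1) / (p ^ (f / r) + 1)) := by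
  rw [CfsgH8.inndiagPSU_eq hF hn]
  haveI : (CfsgH8.suPsi hF hn).range.Normal := by
    rw [CfsgH8.range_suPsi]
    exact (CfsgH8.fsetup_su hF hn).simPsi_normal (CfsgH8.su_surj hF hn hs)
  haveI : Nonempty (Fin n) := ⟨⟨0, by omega⟩⟩
  obtain ⟨α, ψ, σ, hσ, hodd, hψ, hα⟩ := hx
  rw [CfsgH8.fieldPSU_iff hF hn] at hψ
  rw [hψ] at hα
  obtain ⟨e₁, f₁, hef⟩ := CfsgH8.su_hyp hF hn
  have h3 : 3 ≤ Fintype.card (Fin n) := by simpa using hn
  have ho : orderOf σ = r := by
    rw [← (CfsgH8.fsetup_su hF hn).orderOf_simPhi_inr hef h3 (CfsgH8.su_inr_mem hF σ), ← hα, ← hxr]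
    exact (MulAut.conj α).orderOf_eq x
  have hrf : r ∣ f := by
    refine (Nat.Coprime.dvd_mul_left (Nat.coprime_two_right.2 hro)).1 ?_
    rw [← ho, ← CfsgH8.card_ringAut (F := F) (p := p) (f := 2 * f) (by rw [hF, hq, ← pow_mul, mul_comm])]
    exact orderOf_dvd_natCard σ
  have hq' : q = (p ^ (f / r)) ^ r := by rw [← pow_mul, Nat.div_mul_cancel hrf, hq]
  have hF₀' : Fintype.card F₀ = (p ^ (f / r)) ^ 2 := by rw [hF₀, ← pow_mul, mul_comm]
  obtain ⟨φ, hφ⟩ := CfsgH8.exists_fixed_emb σ F₀ (by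
    rw [Nat.card_eq_fintype_card, Nat.card_eq_fintype_card, hF, hF₀', ho, hq']
    ring)
  have hc := CfsgH8.frobQ_comp hF hF₀' φ hq' hro
  have hcom := CfsgH8.su_commute hF hF₀' hn hφ hc
  have hone : ∀ M : Cfsg.GU n F q, CfsgH8.suPsi hF hn M = 1 ↔
      ∃ c : Fˣ, M.1 = Matrix.GeneralLinearGroup.scalar _ c := fun M =>
    (CfsgH8.fsetup_su hF hn).simPsi_eq_one hef h3
  refine ⟨hrf, ?_, ?_⟩
  · obtain ⟨e⟩ := CfsgH8.centralizer_conj_equiv (CfsgH8.suPsi hF hn).range hα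
    obtain ⟨e'⟩ := CfsgH8.centralizer_equiv_quot (CfsgH8.suPsi hF hn) (CfsgH8.guMap hF hF₀' hc) _
      (fun M => (hcom M).trans (exists_comm.trans (exists_congr fun m => by
        rw [eq_comm, ← mul_inv_eq_one, ← map_inv, ← map_mul, hone]
        exact exists_congr fun c => mul_inv_eq_iff_eq_mul.symm)))
      ((Cfsg.Geo.scalars _ F₀).subgroupOf _) (fun m => by
        rw [hone, Subgroup.mem_subgroupOf, CfsgH8.mem_scalars_iff', ← CfsgH8.map_eq_scalar_iff φ]
        rfl)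
    exact ⟨e.trans e'⟩
  · rw [CfsgH8.splitClassCount_conj _ _ hα, CfsgH8.splitClassCount_eq _
      (by rw [CfsgH8.range_suPsi]; exact (CfsgH8.fsetup_su hF hn).Inn_le_simPsi) _
      (CfsgH8.guDet_surj hF (by omega)) _ (CfsgH8.su_mem_Inn hF hn)]
    let j := (CfsgH8.guDet hF).comp (CfsgH8.guMap (n := n) hF hF₀' hc)
    have hj : ∀ m, (j m : Fˣ) = Units.map (φ : F₀ →* F) (CfsgH8.guDet hF₀' m) := fun m =>
      Units.ext (φ.map_det _).symm
    have : (powMonoidHom n : (CfsgH8.nrm (CfsgH8.frobE hF) 2).ker →* _).range ⊔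
        ((Subgroup.centralizer {(CfsgH8.fsetup_su hF hn).simPhi ⟨_, CfsgH8.su_inr_mem hF σ⟩}).comap
          (CfsgH8.suPsi hF hn)).map (CfsgH8.guDet hF) =
        (powMonoidHom n : (CfsgH8.nrm (CfsgH8.frobE hF) 2).ker →* _).range ⊔ j.range := by
      refine le_antisymm (sup_le le_sup_left ?_) (sup_le le_sup_left ?_)
      · rintro _ ⟨M, hM, rfl⟩
        obtain ⟨c, m, h⟩ := (hcom M).1 (Subgroup.mem_centralizer_singleton_iff.1 hM)
        have hc1 : Matrix.GeneralLinearGroup.scalar (Fin n) c ∈ Cfsg.GU n F q := by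
          have := M.2
          rw [h] at this
          exact (Subgroup.mul_mem_cancel_right _ (CfsgH8.guMap hF hF₀' hc m).2).1 this
        rw [show M = ⟨_, hc1⟩ * CfsgH8.guMap hF hF₀' hc m from Subtype.ext h, map_mul]
        refine Subgroup.mul_mem_sup ⟨⟨c, ((CfsgH8.scalar_mem_GU hF).1 hc1).resolve_left (by omega)⟩,
          Subtype.ext ?_⟩ ⟨m, rfl⟩
        exact ((CfsgH8.det_scalarGL c).trans (by simp)).symm
      · rintro _ ⟨m, rfl⟩
        exact Subgroup.mem_sup_right ⟨_, Subgroup.mem_centralizer_singleton_iff.2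
          ((hcom _).2 ⟨1, m, by simp⟩), rfl⟩
    have hcard : Nat.card j.range = p ^ (f / r) + 1 := by
      rw [← CfsgH8.card_ker_nrm hF₀']
      refine Nat.card_congr (Equiv.ofBijective (fun c => ⟨CfsgH8.guDet hF (CfsgH8.guMap hF hF₀' hc
        (CfsgH8.guDet_surj hF₀' (n := n) (by omega) c).choose), _, rfl⟩) ⟨fun a b hab => ?_, ?_⟩).symm
      · have h1 := congrArg (fun z : j.range => (z.1 : Fˣ)) hab
        have h2 := (hj _).symm.trans (h1.trans (hj _))
        rw [(CfsgH8.guDet_surj hF₀' (n := n) (by omega) a).choose_spec,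
          (CfsgH8.guDet_surj hF₀' (n := n) (by omega) b).choose_spec] at h2
        exact Subtype.ext (Units.map_injective φ.injective h2)
      · rintro ⟨_, m, rfl⟩
        refine ⟨CfsgH8.guDet hF₀' m, Subtype.ext (Subtype.ext ((hj _).trans (Eq.trans ?_ (hj _).symm)))⟩
        rw [(CfsgH8.guDet_surj hF₀' (n := n) (by omega) _).choose_spec]
    have hidx : j.range.index = (q + 1) / (p ^ (f / r) + 1) := by
      rw [← CfsgH8.card_ker_nrm hF, ← j.range.index_mul_card, hcard, Nat.mul_div_cancel _ (by omega)]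
    rw [this, CfsgH8.index_sup_cyclic, IsCyclic.index_powMonoidHom_range, CfsgH8.card_ker_nrm,
      Nat.gcd_comm (q + 1), Nat.gcd_assoc, ← hidx]
    congr 1
    refine Nat.gcd_eq_right ?_
    rw [← CfsgH8.card_ker_nrm hF]
    exact j.range.index_dvd_card

end Cfsg.Agent.S2705
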