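import Cfsg.Statements.S2710
import Mathlib
import Cfsg.Agent.H8.GR2

set_option autoImplicit false
open Cfsg

namespace Cfsg.Agent.S2710

/-- Let T = PSU_n(q) with n ≥ 4 divisible by 4 (n = 2m) and q odd, realised over the field F with q² elements, G = Inndiag(T) the image of PGU_n(q), and φ the standard field automorphism of T attached to the q-th power map of F (it induces inverse-transpose on the unitary matrices and is a graph automorphism). Its centralizer in G is isomorphic to the projective conformal orthogonal group of the plus-type form Σ xᵢ yᵢ in dimension n over a field F₀ with q elements. (Dimensions n ≡ 2 (mod 4) are not covered.) -/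
theorem result {F : Type*} [Field F] [Fintype F] {q : ℕ} (hodd : Odd q) (hF : Fintype.card F = q ^ 2) {n m : ℕ} (hm : 2 ≤ m) (hnm : n = 2 * m) (h4 : 4 ∣ n) (F₀ : Type*) [Field F₀] [Fintype F₀] (hF₀ : Fintype.card F₀ = q) (σ : F ≃+* F) (hσ : ∀ a : F, σ a = a ^ q) (φ : MulAut (Cfsg.PSU n F q)) (hφ : Cfsg.IsFieldAutPSUOf σ φ) :
    Nonempty (↥(Cfsg.inndiagPSU n F q ⊓ Subgroup.centralizer {φ}) ≃* Cfsg.PGO F₀ (Cfsg.quadFormPlus m F₀)) := by
  obtain ⟨ψ, hψ⟩ := CfsgH8.exists_fixed_emb (CfsgH8.frobE hF) F₀ (by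
    rw [CfsgH8.orderOf_frobE, Nat.card_eq_fintype_card, Nat.card_eq_fintype_card, hF, hF₀])
  have hn : 3 ≤ n := by omega
  have ho : Odd (Fintype.card F₀) := hF₀ ▸ hodd
  have h2 := CfsgH8.two_ne_of_odd ho
  obtain rfl : σ = CfsgH8.frobE hF := RingEquiv.ext hσ
  have hR : ∃ Q, CfsgH8.RU hF hn ψ φ 1 Q := ⟨1, by simp, _, 1, (CfsgH8.fieldPSU_iff hF hn _ φ).1 hφ, by simp,
    one_ne_zero, by simp [CfsgH8.hm]⟩
  have hp := (CfsgH8.one_isPlus_iff ho (ι := Fin n) (m := m) (by simpa using hnm)).2 (by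
    rw [CfsgH8.pow_mod_four ho, Nat.odd_iff]; omega)
  exact (CfsgH8.grS_psu hF hn hψ).cent_o hR ((CfsgH8.sm_even (by simp) _ h2 (CfsgH5.plusForm_nondeg m)
    (by simp; omega) ⟨m, by simp; omega⟩).2 (iff_of_true hp (CfsgH5.plusForm_isPlus m))) (CfsgH5.plusForm_Q m) h2

end Cfsg.Agent.S2710
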