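import Cfsg.Statements.S2711
import Mathlib
import Cfsg.Agent.H8.LangForm2

set_option autoImplicit false
open Cfsg

namespace Cfsg.Agent.S2711

/-- Let T = PSU_n(q) be simple (n ≥ 3, (n,q) ≠ (3,2)), realised over the field F with q² elements, and let x be a field automorphism of T (conjugate to a standard field automorphism of odd order) of prime order r. Then an element y of the coset Inndiag(T)·x (y = δ x with δ in the image of PGU_n(q)) has order r if and only if y is conjugate to x by an element of Inndiag(T). (T has no graph-field automorphisms.) -/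
theorem result {F : Type*} [Field F] [Fintype F] {p f q : ℕ} [Fact p.Prime] (hq : q = p ^ f) (hf : 1 ≤ f) (hF : Fintype.card F = q ^ 2) {n : ℕ} (hn : 3 ≤ n) (hs : ¬ (n = 3 ∧ q = 2)) (x δ : MulAut (Cfsg.PSU n F q)) (hx : Cfsg.IsFieldAutClassPSU x) {r : ℕ} (hr : r.Prime) (hxr : orderOf x = r) (hδ : δ ∈ Cfsg.inndiagPSU n F q) :
    orderOf (δ * x) = r ↔ Cfsg.IsConjUnder (Cfsg.inndiagPSU n F q) x (δ * x) := by
  rw [CfsgH8.inndiagPSU_eq hF hn, CfsgH8.range_suPsi] at hδ ⊢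
  haveI := (CfsgH8.fsetup_su hF hn).simPsi_normal (CfsgH8.su_surj hF hn hs)
  obtain ⟨α, φ, σ, hσ, hodd, hφ, hα⟩ := hx
  rw [CfsgH8.fieldPSU_iff hF hn] at hφ
  rw [hφ] at hα
  obtain ⟨e₁, f₁, hef⟩ := CfsgH8.su_hyp hF hn
  have h3 : 3 ≤ Fintype.card (Fin n) := by simpa using hn
  have ho : orderOf σ = r := by
    rw [← (CfsgH8.fsetup_su hF hn).orderOf_simPhi_inr hef h3 (CfsgH8.su_inr_mem hF σ), ← hα, ← hxr]
    exact (MulAut.conj α).orderOf_eq x
  rw [ho] at hodd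
  have hrf : r ∣ f := by
    refine (Nat.Coprime.dvd_mul_left (Nat.coprime_two_right.2 hodd)).1 ?_
    rw [← ho, ← CfsgH8.card_ringAut (F := F) (p := p) (f := 2 * f) (by rw [hF, hq, ← pow_mul, mul_comm])]
    exact orderOf_dvd_natCard σ
  have hq' : q = (p ^ (f / r)) ^ r := by rw [← pow_mul, Nat.div_mul_cancel hrf, hq]
  letI := Fintype.ofFinite (CfsgH8.fixF σ)
  have hF₀ : Fintype.card (CfsgH8.fixF σ) = (p ^ (f / r)) ^ 2 := by
    have := CfsgH8.card_fixF σ
    rw [ho, Nat.card_eq_fintype_card, Nat.card_eq_fintype_card, hF, hq', ← pow_mul, mul_comm,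
      pow_mul] at this
    exact (Nat.pow_left_injective hr.ne_zero this).symm
  have hc := CfsgH8.frobQ_comp hF hF₀ (CfsgH8.fixF σ).subtype hq' hodd
  refine CfsgH8.lang_iff hα hxr ((CfsgH8.fsetup_su hF hn).lang_sim hef h3
    (CfsgH8.descP_unit (fun a => ?_) hc (CfsgH5.frobQ_ne hF₀))
    (CfsgH8.isDesc_inr (CfsgH8.isExt_su hF hF₀ hc)) (CfsgH8.su_class hF₀) ho) hδ
  exact ⟨fun h => ⟨⟨a, CfsgH8.mem_fixF.2 h⟩, rfl⟩, by rintro ⟨b, rfl⟩; exact CfsgH8.mem_fixF.1 b.2⟩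

end Cfsg.Agent.S2711
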