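import Cfsg.Statements.S2712
import Mathlib
import Cfsg.Agent.H8.LangForm2

set_option autoImplicit false
open Cfsg

namespace Cfsg.Agent.S2712

/-- Let T = PSp_{2m}(F) be simple over the field F with p^f elements (m ≥ 2, (2m, |F|) ≠ (4, 2)), G = Inndiag(T) the image of the projective conformal symplectic group PGSp_{2m}(F), and x a field automorphism of T of prime order r. Then r divides f; C_G(x) is isomorphic to PGSp_{2m}(F₀) for a field F₀ with p^(f/r) elements; and the G-class of x is the union of exactly gcd(gcd(2, p^f − 1), r) T-classes. -/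
theorem result {F : Type*} [Field F] [Fintype F] {p f : ℕ} [Fact p.Prime] (hF : Fintype.card F = p ^ f) (hf : 1 ≤ f) {m : ℕ} (hm : 2 ≤ m) (hs : m = 2 → 3 ≤ Fintype.card F) (x : MulAut (Cfsg.PSp m F)) (hx : Cfsg.IsFieldAutClassPSp x) {r : ℕ} (hr : r.Prime) (hxr : orderOf x = r) (F₀ : Type*) [Field F₀] [Fintype F₀] (hF₀ : Fintype.card F₀ = p ^ (f / r)) :
    r ∣ f ∧ Nonempty (↥(Cfsg.inndiagPSp m F ⊓ Subgroup.centralizer {x}) ≃* Cfsg.PGSp m F₀) ∧ Cfsg.splitClassCount (Cfsg.inndiagPSp m F) (Cfsg.Inn (Cfsg.PSp m F)) x = Nat.gcd (Nat.gcd 2 (p ^ f - 1)) r := by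
  rw [CfsgH8.inndiagPSp_eq]
  haveI := CfsgH8.inndiagPSp_normal (F := F) hm
  haveI : Nonempty (Fin m ⊕ Fin m) := ⟨.inl ⟨0, by omega⟩⟩
  obtain ⟨α, σ, hσ, hα⟩ := hx
  rw [CfsgH8.stdFieldPSp_iff] at hα
  have hef := CfsgH8.sp_hyp (F := F) (⟨0, by omega⟩ : Fin m)
  have h3 : 3 ≤ Fintype.card (Fin m ⊕ Fin m) := by simp; omega
  have ho : orderOf σ = r := by
    rw [← (CfsgH8.fsetup_sp m F).orderOf_simPhi_inr hef h3 (CfsgH8.sp_inr_mem σ), ← hα, ← hxr]
    exact (MulAut.conj α).orderOf_eq x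
  have hrf : r ∣ f := by
    rw [← ho, ← CfsgH8.card_ringAut hF]; exact orderOf_dvd_natCard σ
  obtain ⟨φ, hφ⟩ := CfsgH8.exists_fixed_emb σ F₀ (by
    rw [Nat.card_eq_fintype_card, Nat.card_eq_fintype_card, hF, hF₀, ho, ← pow_mul,
      Nat.div_mul_cancel hrf])
  have D : CfsgH8.DescP (⟨_, CfsgH8.sp_inr_mem σ⟩ : CfsgH8.GammaS (CfsgH5.spForm m F)).1.right φ _ _ :=
    CfsgH8.descP_sp hφ
  refine ⟨hrf, ?_, ?_⟩
  · obtain ⟨e⟩ := CfsgH8.centralizer_conj_equiv (CfsgH8.fsetup_sp m F).simPsi.range hα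
    obtain ⟨e'⟩ := (CfsgH8.fsetup_sp m F).centralizer_sim hef h3 D
      (CfsgH8.isDesc_inr (CfsgH8.isExt_sp _)) ((Cfsg.Geo.scalars _ F₀).subgroupOf _)
      (fun m => CfsgH8.mem_scalars_iff')
    unfold Cfsg.PGSp
    rw [← CfsgH8.Sim_sp (F := F₀)]
    exact ⟨e.trans e'⟩
  · rw [CfsgH8.splitClassCount_conj _ _ hα, CfsgH8.splitClassCount_eq _
      (CfsgH8.fsetup_sp m F).Inn_le_simPsi _ CfsgH8.sp_simMult_surj _ (CfsgH8.sp_mem_Inn hm)]
    have hc := (CfsgH8.fsetup_sp m F).commute_desc hef h3 D (d := 1) (by simp) (CfsgH8.isExt_sp _)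
    have : (powMonoidHom 2 : Fˣ →* Fˣ).range ⊔
        ((Subgroup.centralizer {(CfsgH8.fsetup_sp m F).simPhi ⟨_, CfsgH8.sp_inr_mem σ⟩}).comap
          (CfsgH8.fsetup_sp m F).simPsi).map (CfsgH8.simMult (CfsgH5.spForm_nondeg m)) =
        (powMonoidHom 2 : Fˣ →* Fˣ).range ⊔ (Units.map (φ : F₀ →* F)).range := by
      refine le_antisymm (sup_le le_sup_left ?_) (sup_le le_sup_left ?_)
      · rintro _ ⟨M, hM, rfl⟩
        obtain ⟨c, m, rfl⟩ := (hc M).1 (Subgroup.mem_centralizer_singleton_iff.1 hM)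
        rw [map_mul, CfsgH8.simMult_descHom]
        exact Subgroup.mul_mem_sup ⟨c, Units.ext (by rw [CfsgH8.simMult_scalar]; simp [pow_two])⟩ ⟨_, rfl⟩
      · rintro _ ⟨c, rfl⟩
        obtain ⟨g, rfl⟩ := CfsgH8.sp_simMult_surj (m := m) c
        exact Subgroup.mem_sup_right ⟨CfsgH8.descHom D (CfsgH8.isExt_sp _) g,
          Subgroup.mem_centralizer_singleton_iff.2 ((hc _).2 ⟨1, g, Subtype.ext (by simp)⟩),
          CfsgH8.simMult_descHom _ _ _ _⟩
    rw [this, CfsgH8.index_sup_cyclic, CfsgH8.index_pow_units, CfsgH8.index_range_units,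
      Nat.card_eq_fintype_card, Nat.card_eq_fintype_card, hF, hF₀]
    have h1 : p ^ f = (p ^ (f / r)) ^ r := by rw [← pow_mul, Nat.div_mul_cancel hrf]
    rw [h1]
    exact CfsgH8.gcd_two_quot (hF₀ ▸ Fintype.one_lt_card)

end Cfsg.Agent.S2712
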