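import Cfsg.Statements.S2713
import Mathlib
import Cfsg.Agent.H8.LangForm2

set_option autoImplicit false
open Cfsg

namespace Cfsg.Agent.S2713

/-- Let T = PSp_{2m}(F) be simple over a finite field (m ≥ 2, (2m, |F|) ≠ (4, 2)) and let x be a field automorphism of T of prime order r. Then an element y of the coset Inndiag(T)·x (y = δ x with δ in the image of the projective conformal symplectic group) has order r if and only if y is conjugate to x by an element of Inndiag(T). -/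
theorem result {F : Type*} [Field F] [Fintype F] {m : ℕ} (hm : 2 ≤ m) (hs : m = 2 → 3 ≤ Fintype.card F) (x δ : MulAut (Cfsg.PSp m F)) (hx : Cfsg.IsFieldAutClassPSp x) {r : ℕ} (hr : r.Prime) (hxr : orderOf x = r) (hδ : δ ∈ Cfsg.inndiagPSp m F) :
    orderOf (δ * x) = r ↔ Cfsg.IsConjUnder (Cfsg.inndiagPSp m F) x (δ * x) := by
  rw [CfsgH8.inndiagPSp_eq] at hδ ⊢
  haveI := CfsgH8.inndiagPSp_normal (F := F) hm
  obtain ⟨α, σ, hσ, hα⟩ := hx
  rw [CfsgH8.stdFieldPSp_iff] at hα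
  have hef := CfsgH8.sp_hyp (F := F) (⟨0, by omega⟩ : Fin m)
  have h3 : 3 ≤ Fintype.card (Fin m ⊕ Fin m) := by simp; omega
  refine CfsgH8.lang_iff hα hxr ((CfsgH8.fsetup_sp m F).lang_sim hef h3
    (CfsgH8.descP_sp (φ := (CfsgH8.fixF σ).subtype) fun a => ?_)
    (CfsgH8.isDesc_inr (CfsgH8.isExt_sp _)) CfsgH8.sp_class ?_) hδ
  · exact ⟨fun h => ⟨⟨a, CfsgH8.mem_fixF.2 h⟩, rfl⟩, by rintro ⟨b, rfl⟩; exact CfsgH8.mem_fixF.1 b.2⟩
  · change orderOf σ = r
    rw [← (CfsgH8.fsetup_sp m F).orderOf_simPhi_inr hef h3 (CfsgH8.sp_inr_mem σ), ← hα, ← hxr]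
    exact (MulAut.conj α).orderOf_eq x

end Cfsg.Agent.S2713
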