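import Cfsg.Statements.S2714
import Mathlib
import Cfsg.Agent.H8.AutO4

set_option autoImplicit false
open Cfsg

namespace Cfsg.Agent.S2714

/-- Let T = Ω_{2m+1}(F) (m ≥ 3, |F| = p^f odd; realised as PΩ of the form x₀² + Σ xᵢ yᵢ), G = Inndiag(T) the image of the conformal orthogonal group in Aut(T), and x a field automorphism of T of prime order r. Then r divides f; C_G(x) is isomorphic to Inndiag(Ω_{2m+1}(F₀)) for a field F₀ with p^(f/r) elements; and the G-class of x is a single T-class when r is odd and the union of exactly two T-classes when r = 2. -/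
theorem result {F : Type*} [Field F] [Fintype F] {p f : ℕ} [Fact p.Prime] (hF : Fintype.card F = p ^ f) (hf : 1 ≤ f) (hodd : Odd (Fintype.card F)) {m : ℕ} (hm : 3 ≤ m) (x : MulAut (Cfsg.POmega F (Cfsg.quadFormOdd m F))) (hx : Cfsg.IsFieldAutClassPOmega (Cfsg.quadFormOdd m F) x) {r : ℕ} (hr : r.Prime) (hxr : orderOf x = r) (F₀ : Type*) [Field F₀] [Fintype F₀] (hF₀ : Fintype.card F₀ = p ^ (f / r)) :
    r ∣ f ∧ Nonempty (↥(Cfsg.inndiagPOmegaOdd m F ⊓ Subgroup.centralizer {x}) ≃* ↥(Cfsg.inndiagPOmegaOdd m F₀)) ∧ (Odd r → Cfsg.splitClassCount (Cfsg.inndiagPOmegaOdd m F) (Cfsg.Inn (Cfsg.POmega F (Cfsg.quadFormOdd m F))) x = 1) ∧ (r = 2 → Cfsg.splitClassCount (Cfsg.inndiagPOmegaOdd m F) (Cfsg.Inn (Cfsg.POmega F (Cfsg.quadFormOdd m F))) x = 2) := by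
  have h2 := CfsgH8.two_ne_of_odd hodd
  have h5 := CfsgH8.five_odd (m := m) (by omega)
  have hS := CfsgH5.oddForm_nondeg m h2
  have hQ := CfsgH5.oddForm_Q (F := F) m
  have hd : Odd (Fintype.card (Unit ⊕ (Fin m ⊕ Fin m))) := by rw [CfsgH8.card_odd]; simp
  obtain ⟨e, f', hef⟩ := CfsgH8.o_hyp hS h5
  have hs := CfsgH8.o_surj hQ hS (by rw [CfsgH8.card_odd]; omega)
    fun h => by rw [CfsgH8.card_odd] at h; omega
  rw [CfsgH8.inndiagOdd_eq (by omega) h2]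
  haveI := (CfsgH8.fsO (by omega) h2).simPsi_normal hs
  obtain ⟨α, ψ, σ, hσ, hψ, hα⟩ := hx
  rw [CfsgH8.fieldPO_iff hQ hS h5 (CfsgH8.odd_inr_mem m σ)] at hψ
  rw [hψ] at hα
  have h1 : orderOf ((CfsgH8.fsetup_o hQ hS h5).simPhi ⟨_, CfsgH8.odd_inr_mem m σ⟩) = r := by
    rw [← hα, ← hxr]; exact (MulAut.conj α).orderOf_eq x
  have ho : orderOf σ = r := (CfsgH8.fsetup_o hQ hS h5).orderOf_right hef (by omega) hr h1 hσ
  have hrf : r ∣ f := by
    rw [← ho, ← CfsgH8.card_ringAut hF]; exact orderOf_dvd_natCard _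
  obtain ⟨φ, hφ⟩ := CfsgH8.exists_fixed_emb σ F₀ (by
    rw [Nat.card_eq_fintype_card, Nat.card_eq_fintype_card, hF, hF₀, ho, ← pow_mul,
      Nat.div_mul_cancel hrf])
  have h2' := (CfsgH8.two_ne_iff φ).2 h2
  have hP : CfsgH8.IsDesc φ _ _ (⟨_, CfsgH8.odd_inr_mem m σ⟩ : CfsgH8.GammaS _).1 1 :=
    CfsgH8.isDesc_inr (CfsgH8.isExt_odd φ m)
  rw [CfsgH8.inndiagOdd_eq (by omega) h2', CfsgH8.splitClassCount_conj _ _ hα]
  refine ⟨hrf, ?_, fun h => CfsgH8.split_odd_odd hQ hS h5 hφ hP hd (ho ▸ h),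
    fun h => CfsgH8.split_odd_two hQ hS h5 hφ hP hd (ho.trans h)⟩
  obtain ⟨e₁⟩ := CfsgH8.centralizer_conj_equiv (CfsgH8.fsO (by omega) h2).simPsi.range hα
  obtain ⟨e₂⟩ := (CfsgH8.fsetup_o hQ hS h5).centralizer_range hef h5 (CfsgH8.fsO (by omega) h2') hφ hP
  exact ⟨e₁.trans e₂⟩

end Cfsg.Agent.S2714
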