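import Cfsg.Statements.S2715
import Mathlib
import Cfsg.Agent.H8.D4N

set_option autoImplicit false
open Cfsg

namespace Cfsg.Agent.S2715

set_option maxHeartbeats 2000000 in

/-- Let T = PΩ⁺_{2m}(F) (m ≥ 4, |F| = p^f; the form Σ xᵢ yᵢ), G = Inndiag(T) the image of the class-preserving similarities in Aut(T), and x a field automorphism of T of prime order r. Then r divides f; C_G(x) is isomorphic to Inndiag(PΩ⁺_{2m}(F₀)) for a field F₀ with p^(f/r) elements; and the G-class of x is the union of exactly c T-classes, where c = 1 if r is odd or p = 2, and otherwise (r = 2, p odd) c = 2 when m is odd and p^(f/2) ≡ 1 (mod 4), and c = 4 in the remaining cases. -/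
theorem result {F : Type*} [Field F] [Fintype F] {p f : ℕ} [Fact p.Prime] (hF : Fintype.card F = p ^ f) (hf : 1 ≤ f) {m : ℕ} (hm : 4 ≤ m) (x : MulAut (Cfsg.POmega F (Cfsg.quadFormPlus m F))) (hx : Cfsg.IsFieldAutClassPOmega (Cfsg.quadFormPlus m F) x) {r : ℕ} (hr : r.Prime) (hxr : orderOf x = r) (F₀ : Type*) [Field F₀] [Fintype F₀] (hF₀ : Fintype.card F₀ = p ^ (f / r)) :
    r ∣ f ∧ Nonempty (↥(Cfsg.inndiagPOmegaPlus m F ⊓ Subgroup.centralizer {x}) ≃* ↥(Cfsg.inndiagPOmegaPlus m F₀)) ∧ ((Odd r ∨ p = 2) → Cfsg.splitClassCount (Cfsg.inndiagPOmegaPlus m F) (Cfsg.Inn (Cfsg.POmega F (Cfsg.quadFormPlus m F))) x = 1) ∧ ((r = 2 ∧ p ≠ 2 ∧ Odd m ∧ p ^ (f / 2) % 4 = 1) → Cfsg.splitClassCount (Cfsg.inndiagPOmegaPlus m F) (Cfsg.Inn (Cfsg.POmega F (Cfsg.quadFormPlus m F))) x = 2) ∧ ((r = 2 ∧ p ≠ 2 ∧ ¬ (Odd m ∧ p ^ (f / 2) % 4 = 1)) → Cfsg.splitClassCount (Cfsg.inndiagPOmegaPlus m F)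 (Cfsg.Inn (Cfsg.POmega F (Cfsg.quadFormPlus m F))) x = 4) := by
  haveI : Nonempty (Fin m ⊕ Fin m) := ⟨.inl ⟨0, by omega⟩⟩
  have h3 : 3 ≤ m := by omega
  have h5 := CfsgH8.five_plus h3
  have hS := CfsgH5.plusForm_nondeg (F := F) m
  have hQ := CfsgH5.plusForm_Q (F := F) m
  have hk := CfsgH8.card_plus m
  obtain ⟨e, f', hef⟩ := CfsgH8.o_hyp hS h5
  have H := CfsgH8.fsP (F := F) h3
  rw [CfsgH8.inndiagPlus_eq h3]
  haveI : (H.psiP (CfsgH8.genC_of h5) hk).range.Normal := CfsgH8.psiP_normal_plus hm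
  obtain ⟨α, ψ, σ, hσ, hψ, hα⟩ := hx
  obtain rfl := (CfsgH8.fieldPO_iff hQ hS h5 (CfsgH8.plus_inr_mem m σ) ψ).1 hψ
  have ho : orderOf σ = r := by
    rw [← hxr, ← H.orderOf_simPhi_inr hef (by omega) (CfsgH8.plus_inr_mem m σ), ← hα]
    exact (MulAut.conj α).orderOf_eq x
  have hrf : r ∣ f := by
    rw [← ho, ← CfsgH8.card_ringAut hF]; exact orderOf_dvd_natCard _
  obtain ⟨φ, hφ⟩ := CfsgH8.exists_fixed_emb σ F₀ (by
    rw [Nat.card_eq_fintype_card, Nat.card_eq_fintype_card, hF, hF₀, ho, ← pow_mul,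
      Nat.div_mul_cancel hrf])
  have hP := CfsgH8.isDesc_inr (σ := σ) (CfsgH8.isExt_plus φ m)
  have hc := CfsgH8.splitClassCount_conj (H.psiP (CfsgH8.genC_of h5) hk).range (Cfsg.Inn _) hα
  refine ⟨hrf, ?_, fun h => ?_, ?_⟩
  · rw [CfsgH8.inndiagPlus_eq h3]
    obtain ⟨e₁⟩ := CfsgH8.centralizer_conj_equiv (H.psiP (CfsgH8.genC_of h5) hk).range hα
    obtain ⟨e₂⟩ := H.centralizer_plus (CfsgH8.genC_of h5) hk hef h5 (CfsgH8.fsP (F := F₀) h3)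
      (CfsgH8.genC_of h5) hk (γ := ⟨_, CfsgH8.plus_inr_mem m σ⟩) hφ hP Iff.rfl
    exact ⟨e₁.trans e₂⟩
  · rcases h with h | rfl
    · exact hc.trans (CfsgH8.split_plus_odd hQ hS h5 (γ := ⟨_, CfsgH8.plus_inr_mem m σ⟩) hφ hP hk (ho ▸ h))
    · exact CfsgH8.split_plus_two hQ hS h5 (CfsgH8.two_eq_of_card hF) hk _
  have main : r = 2 → p ≠ 2 → Cfsg.splitClassCount (H.psiP (CfsgH8.genC_of h5) hk).range
      (Cfsg.Inn _) x = if ¬ (Odd m ∧ p ^ (f / 2) % 4 = 1) then 4 else 2 := by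
    rintro rfl hp2
    have hpo := (Fact.out : p.Prime).odd_of_ne_two hp2
    rw [hc, CfsgH8.split_field_plus h3 (CfsgH8.two_ne_of_odd (hF ▸ hpo.pow)) hφ ho]
    simp only [CfsgH8.neg_chi_pow (F₀ := F₀) (hF₀ ▸ hpo.pow), hF₀]
  exact ⟨fun h => (main h.1 h.2.1).trans (if_neg (not_not.2 h.2.2)),
    fun h => (main h.1 h.2.1).trans (if_pos h.2.2)⟩

end Cfsg.Agent.S2715
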