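import Cfsg.Statements.S2716
import Mathlib
import Cfsg.Agent.H8.AutO4

set_option autoImplicit false
open Cfsg

namespace Cfsg.Agent.S2716

set_option maxHeartbeats 2000000 in
/-- Let T = PΩ⁻_{2m+2}(F) (m ≥ 3, |F| = p^f; the form Σ xᵢ yᵢ + z₁² + a z₁ z₂ + b z₂² with anisotropic binary part), G = Inndiag(T), and x a field automorphism of T of prime order r. Then r is odd and divides f; C_G(x) is isomorphic to Inndiag(PΩ⁻_{2m+2}(F₀)) for a field F₀ with p^(f/r) elements and some anisotropic binary part over F₀; and the G-class of x is a single T-class. -/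
theorem result {F : Type*} [Field F] [Fintype F] {p f : ℕ} [Fact p.Prime] (hF : Fintype.card F = p ^ f) (hf : 1 ≤ f) {m : ℕ} (hm : 3 ≤ m) (a b : F) (hab : (∀ z₁ z₂ : F, z₁ ^ 2 + a * z₁ * z₂ + b * z₂ ^ 2 = 0 → z₁ = 0 ∧ z₂ = 0)) (x : MulAut (Cfsg.POmega F (Cfsg.quadFormMinus m F a b))) (hx : Cfsg.IsFieldAutClassPOmegaMinus m x) {r : ℕ} (hr : r.Prime) (hxr : orderOf x = r) (F₀ : Type*) [Field F₀] [Fintype F₀] (hF₀ : Fintype.card F₀ = p ^ (f / r)) :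
    Odd r ∧ r ∣ f ∧ (∃ a₀ b₀ : F₀, (∀ z₁ z₂ : F₀, z₁ ^ 2 + a₀ * z₁ * z₂ + b₀ * z₂ ^ 2 = 0 → z₁ = 0 ∧ z₂ = 0) ∧ Nonempty (↥(Cfsg.inndiagPOmegaMinus m F a b ⊓ Subgroup.centralizer {x}) ≃* ↥(Cfsg.inndiagPOmegaMinus m F₀ a₀ b₀))) ∧ Cfsg.splitClassCount (Cfsg.inndiagPOmegaMinus m F a b) (Cfsg.Inn (Cfsg.POmega F (Cfsg.quadFormMinus m F a b))) x = 1 := by
  have h5 := CfsgH8.five_minus (m := m) (by omega)
  have hS := CfsgH5.minusForm_nondeg m hab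
  have hQ := CfsgH5.minusForm_Q m a b
  have hk := CfsgH8.card_minus m
  obtain ⟨e, f', hef⟩ := CfsgH8.o_hyp hS h5
  have hp := CfsgH5.minusForm_not_isPlus m hab
  have hs : Function.Surjective (CfsgH8.fsetup_o hQ hS h5).simPhi :=
    CfsgH8.o_surj hQ hS (by rw [hk]; omega) (fun _ => hp)
  obtain ⟨γ, rfl⟩ := hs x
  have hγ : γ.1.right ≠ 1 := by
    obtain ⟨a', b', ψ, σ, hab', hσ, ha, hb, h⟩ := hx
    have hS' := CfsgH5.minusForm_nondeg m hab'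
    have hp' := CfsgH5.minusForm_not_isPlus m hab'
    rw [CfsgH8.fieldPO_iff (CfsgH5.minusForm_Q m a' b') hS' h5 (CfsgH8.minus_inr_mem m ha hb)] at h
    obtain ⟨j, hj⟩ := hS.exists_isom_minus hp (CfsgH5.finrank_minus m) hab'
    rw [CfsgH8.right_eq_of_iso hQ hS h5 (CfsgH5.minusForm_Q m a' b') hS' h5 hj
      (CfsgH8.o_surj (CfsgH5.minusForm_Q m a' b') hS' (by rw [hk]; omega) fun _ => hp') ψ h]
    exact hσ
  have ho := (CfsgH8.fsetup_o hQ hS h5).orderOf_right hef (by omega) hr hxr hγ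
  have h1 : (CfsgH8.fsetup_o hQ hS h5).simPhi γ ^ r = 1 := hxr ▸ pow_orderOf_eq_one _
  have hodd := (CfsgH8.fsetup_o hQ hS h5).odd_of_minus hk hef h5 hp hr ho h1
  have hrf : r ∣ f := by
    rw [← ho, ← CfsgH8.card_ringAut hF]; exact orderOf_dvd_natCard _
  obtain ⟨φ, hφ⟩ := CfsgH8.exists_fixed_emb γ.1.right F₀ (by
    rw [Nat.card_eq_fintype_card, Nat.card_eq_fintype_card, hF, hF₀, ho, ← pow_mul,
      Nat.div_mul_cancel hrf])
  obtain ⟨S₀, P, hP⟩ := (CfsgH8.fsetup_o hQ hS h5).exists_desc' hef (by omega) (CfsgH8.descP_orth hφ)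
    (ho ▸ h1)
  obtain ⟨b₀, hb₀⟩ := CfsgH5.exists_aniso_pair F₀
  have hc := (CfsgH8.fsetup_o hQ hS h5).centralizer_plus (CfsgH8.genC_of h5) hk hef h5
    (CfsgH8.fsM (m := m) (by omega) hb₀) (CfsgH8.genC_of h5) hk hφ hP
    (iff_of_false (CfsgH5.minusForm_not_isPlus m hb₀) fun h => hp (hP.2.choose_spec.isPlus hS hk h))
  have hsp := CfsgH8.split_plus_odd hQ hS h5 hφ hP hk (ho ▸ hodd)
  rw [CfsgH8.inndiagMinus_eq (by omega) hab]
  refine ⟨hodd, hrf, ⟨1, b₀, hb₀, ?_⟩, hsp⟩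
  rw [CfsgH8.inndiagMinus_eq (by omega) hb₀]
  exact hc

end Cfsg.Agent.S2716
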