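import Cfsg.Statements.S2717
import Mathlib
import Cfsg.Agent.H8.AutO4

set_option autoImplicit false
open Cfsg

namespace Cfsg.Agent.S2717

theorem conj_scalar {ι : Type*} [Fintype ι] [DecidableEq ι] {F : Type*} [Field F] {T : CfsgH5.FParam F}
    {S : CfsgH5.Form T (ι → F)} [Finite F] {G : Type*} [Group G] {ρ : G →* ((ι → F) ≃ₗ[F] (ι → F))}
    (H : CfsgH8.FSetup S ρ) {e f : ι → F} (hef : S.IsHyp e f) (h3 : 3 ≤ Fintype.card ι)
    {β γ γ' : CfsgH8.GammaS S} (h : H.simPhi β * H.simPhi γ * (H.simPhi β)⁻¹ = H.simPhi γ') :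
    ∃ c, β * γ * β⁻¹ * γ'⁻¹ = CfsgH8.simIncl S ⟨_, CfsgH8.scalar_mem_Sim c⟩ := by
  rw [← map_inv, ← map_mul, ← map_mul, ← mul_inv_eq_one, ← map_inv, ← map_mul,
    H.simPhi_eq_one hef h3] at h
  obtain ⟨c, hc⟩ := h
  exact ⟨c, Subtype.ext hc⟩

set_option maxHeartbeats 2000000 in
/-- Let T = PΩ⁺_{2m}(F) with m ≥ 5 (dimension 2m ≠ 8) and |F| = p^f, G = Inndiag(T), and x an involutory graph-field automorphism of T. Then f is even; any two involutory graph-field automorphisms of T are G-conjugate; C_G(x) is isomorphic to Inndiag(PΩ⁻_{2m}(F₀)) for a field F₀ with p^(f/2) elements (some anisotropic binary part over F₀); and the G-class of x is the union of exactly c T-classes with c = 1 if p = 2, c = 4 if p is odd, m is odd and p^(f/2) ≡ 1 (mod 4), and c = 2 otherwise. -/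
theorem result {F : Type*} [Field F] [Fintype F] {p f : ℕ} [Fact p.Prime] (hF : Fintype.card F = p ^ f) (hf : 1 ≤ f) {m : ℕ} (hm : 5 ≤ m) (x : MulAut (Cfsg.POmega F (Cfsg.quadFormPlus m F))) (hx : Cfsg.IsGraphFieldAutClassPOmegaPlus m x) (hx2 : orderOf x = 2) (F₀ : Type*) [Field F₀] [Fintype F₀] (hF₀ : Fintype.card F₀ = p ^ (f / 2)) :
    Even f ∧ (∀ y : MulAut (Cfsg.POmega F (Cfsg.quadFormPlus m F)), Cfsg.IsGraphFieldAutClassPOmegaPlus m y → orderOf y = 2 → Cfsg.IsConjUnder (Cfsg.inndiagPOmegaPlus m F) x y) ∧ (∃ a₀ b₀ : F₀, (∀ z₁ z₂ : F₀, z₁ ^ 2 + a₀ * z₁ * z₂ + b₀ * z₂ ^ 2 = 0 → z₁ = 0 ∧ z₂ = 0) ∧ Nonempty (↥(Cfsg.inndiagPOmegaPlus m F ⊓ Subgroup.centralizer {x}) ≃* ↥(Cfsg.inndiagPOmegaMinus (m - 1) F₀ a₀ b₀))) ∧ (p = 2 → Cfsg.splitClassCount (Cfsg.inndiagPOmegaPlus m F) (Cfsg.Inn (Cfsg.POmega F (Cfsg.quadFormPlus m F))) x = 1) ∧ ((p ≠ 2 ∧ Odd m ∧ p ^ (f / 2) % 4 = 1) →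 Cfsg.splitClassCount (Cfsg.inndiagPOmegaPlus m F) (Cfsg.Inn (Cfsg.POmega F (Cfsg.quadFormPlus m F))) x = 4) ∧ ((p ≠ 2 ∧ ¬ (Odd m ∧ p ^ (f / 2) % 4 = 1)) → Cfsg.splitClassCount (Cfsg.inndiagPOmegaPlus m F) (Cfsg.Inn (Cfsg.POmega F (Cfsg.quadFormPlus m F))) x = 2) := by
  haveI : Nonempty (Fin m ⊕ Fin m) := ⟨.inl ⟨0, by omega⟩⟩
  have h3 : 3 ≤ m := by omega
  have h5 := CfsgH8.five_plus h3
  have hS := CfsgH5.plusForm_nondeg (F := F) m
  have hQ := CfsgH5.plusForm_Q (F := F) m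
  have hk := CfsgH8.card_plus m
  have hp := CfsgH5.plusForm_isPlus (F := F) m
  obtain ⟨e, f', hef⟩ := CfsgH8.o_hyp hS h5
  have H := CfsgH8.fsP (F := F) h3
  have hs : Function.Surjective H.simPhi := CfsgH8.o_surj hQ hS (by rw [CfsgH8.card_plus]; omega)
    fun h => by rw [CfsgH8.card_plus] at h; omega
  rw [CfsgH8.inndiagPlus_eq h3]
  haveI := H.psiP_normal (CfsgH8.genC_of h5) hk hs
  have key : ∀ y, Cfsg.IsGraphFieldAutClassPOmegaPlus m y → orderOf y = 2 → ∃ γ,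
      y = H.simPhi γ ∧ orderOf γ.1.right = 2 ∧ CfsgH8.gdk hS hp γ = -1 := by
    intro y hy hy2
    obtain ⟨α, σ, v, h1, h2, -, h4⟩ := CfsgH8.graphField_iff h3 hy
    obtain ⟨β, rfl⟩ := hs α
    obtain ⟨γ, rfl⟩ := hs y
    refine ⟨γ, rfl, H.orderOf_right hef (by omega) Nat.prime_two hy2 ?_, ?_⟩
    · rw [H.right_conj hef (by omega) hs h4]
      exact fun h => h1 ((one_mul σ).symm.trans h)
    · obtain ⟨c, hc⟩ := conj_scalar H hef (by omega) h4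
      have := congrArg (CfsgH8.gdk hS hp) hc
      rw [CfsgH8.gdk_simIncl hS hp (CfsgH8.genC_of h5) hk, CfsgH8.sdk_scalar, map_mul, map_inv,
        CfsgH8.gdk_rf_inr h3 h2, map_mul, map_mul, map_inv, mul_inv_cancel_comm] at this
      simpa using mul_inv_eq_one.1 this
  obtain ⟨γ, rfl, ho, hγ⟩ := key x hx hx2
  have hrf : 2 ∣ f := by
    rw [← ho, ← CfsgH8.card_ringAut hF]; exact orderOf_dvd_natCard _
  obtain ⟨φ, hφ⟩ := CfsgH8.exists_fixed_emb γ.1.right F₀ (by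
    rw [Nat.card_eq_fintype_card, Nat.card_eq_fintype_card, hF, hF₀, ho, ← pow_mul,
      Nat.div_mul_cancel hrf])
  obtain ⟨S₀, P, hP⟩ := H.exists_desc' hef (by omega) (CfsgH8.descP_orth hφ)
    (by rw [ho, ← hx2, pow_orderOf_eq_one])
  have hp₀ : ¬ S₀.IsPlus := by rw [hP.isPlus_iff hS hp hk hφ, hγ]; decide
  have hconj : ∀ γ' : CfsgH8.GammaS _, H.simPhi γ' ^ 2 = 1 → orderOf γ'.1.right = 2 →
      CfsgH8.gdk hS hp γ' = -1 → Cfsg.IsConjUnder (H.psiP (CfsgH8.genC_of h5) hk).range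
        (H.simPhi γ) (H.simPhi γ') := fun γ' h1 h2 h4 => by
    have hr : γ'.1.right = γ.1.right := CfsgH8.invol_unique (CfsgH2.orderOf_two_iff.1 h2).1
      (CfsgH2.orderOf_two_iff.1 h2).2 (CfsgH2.orderOf_two_iff.1 ho).1 (CfsgH2.orderOf_two_iff.1 ho).2
    obtain ⟨S₁, P', hP'⟩ := H.exists_desc' hef (by omega) (γ := γ')
      (CfsgH8.descP_orth (hr ▸ hφ)) (by rw [h2, h1])
    exact H.conj_plus _ hk (CfsgH8.genC_of h5) hr hφ hP hP' (iff_of_false hp₀ (by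
      rw [hP'.isPlus_iff hS hp hk (hr ▸ hφ), h4]; decide))
  refine ⟨even_iff_two_dvd.2 hrf, fun y hy hy2 => ?_, ?_, fun h => ?_, ?_⟩
  · obtain ⟨γ', rfl, h1, h2⟩ := key y hy hy2
    exact hconj γ' (hy2 ▸ pow_orderOf_eq_one _) h1 h2
  · obtain ⟨b₀, hb₀⟩ := CfsgH5.exists_aniso_pair F₀
    refine ⟨1, b₀, hb₀, ?_⟩
    rw [CfsgH8.inndiagMinus_eq (by omega) hb₀]
    have := H.centralizer_plus (CfsgH8.genC_of h5) (k := m - 1 + 1)
      (hk.trans (by omega)) hef h5 (CfsgH8.fsM (m := m - 1) (by omega) hb₀)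
      (CfsgH8.genC_of (CfsgH8.five_minus (by omega))) (CfsgH8.card_minus _) hφ hP
      (iff_of_false (CfsgH5.minusForm_not_isPlus _ hb₀) hp₀)
    have h1 : ∀ k (h : Fintype.card (Fin m ⊕ Fin m) = 2 * k), (H.psiP
        (CfsgH8.genC_of h5) h).range = (H.psiP (CfsgH8.genC_of h5) hk).range := by
      intro k h
      obtain rfl : k = m := by omega
      rfl
    rwa [h1] at this
  · subst h
    exact CfsgH8.split_plus_two hQ hS h5 (CfsgH8.two_eq_of_card hF) hk _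
  have main : p ≠ 2 → Cfsg.splitClassCount (H.psiP (CfsgH8.genC_of h5) hk).range
      (Cfsg.Inn _) (H.simPhi γ) = if ¬ (Odd m ∧ p ^ (f / 2) % 4 = 1) then 2 else 4 := by
    intro hp2
    have hpo := (Fact.out : p.Prime).odd_of_ne_two hp2
    obtain ⟨α, -, hα⟩ := hconj (CfsgH8.grF ⟨0, by omega⟩ γ.1.right)
      (by rw [← map_pow, CfsgH8.grF_sq _ ho, map_one]) (by rwa [CfsgH8.grF_right])
      (CfsgH8.gdk_grF h3 _ _)
    rw [CfsgH8.splitClassCount_conj _ _ hα.symm,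
      CfsgH8.split_graph_plus h3 (CfsgH8.two_ne_of_odd (hF ▸ hpo.pow)) hφ ho]
    simp only [CfsgH8.neg_chi_pow (F₀ := F₀) (hF₀ ▸ hpo.pow), hF₀]
  exact ⟨fun h => (main h.1).trans (if_neg (not_not.2 h.2)), fun h => (main h.1).trans (if_pos h.2)⟩

end Cfsg.Agent.S2717
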