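import Cfsg.Statements.S2718
import Mathlib
import Cfsg.Agent.H8.GR4

set_option autoImplicit false
open Cfsg

namespace Cfsg.Agent.S2718

/-- Let T = PΩ⁺_{2m}(F) with m ≥ 4 and |F| = q odd, G = Inndiag(T), and γ an involutory graph automorphism of T induced by a similarity (one interchanging the two classes of maximal totally singular subspaces). Then the G-class of γ is either a single T-class or the union of exactly two T-classes, and it is the union of two unless m is odd and q ≡ 3 (mod 4). -/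
theorem result {F : Type*} [Field F] [Fintype F] (hodd : Odd (Fintype.card F)) {m : ℕ} (hm : 4 ≤ m) (γ : MulAut (Cfsg.POmega F (Cfsg.quadFormPlus m F))) (hγ : Cfsg.IsSimilarityGraphAutPOmegaPlus m γ) (hγ2 : orderOf γ = 2) :
    (Cfsg.splitClassCount (Cfsg.inndiagPOmegaPlus m F) (Cfsg.Inn (Cfsg.POmega F (Cfsg.quadFormPlus m F))) γ = 1 ∨ Cfsg.splitClassCount (Cfsg.inndiagPOmegaPlus m F) (Cfsg.Inn (Cfsg.POmega F (Cfsg.quadFormPlus m F))) γ = 2) ∧ (¬ (Odd m ∧ Fintype.card F % 4 = 3) → Cfsg.splitClassCount (Cfsg.inndiagPOmegaPlus m F) (Cfsg.Inn (Cfsg.POmega F (Cfsg.quadFormPlus m F))) γ = 2) := by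
  haveI : Nonempty (Fin m ⊕ Fin m) := ⟨.inl ⟨0, by omega⟩⟩
  have h3 : 3 ≤ m := by omega
  have h5 := CfsgH8.five_plus h3
  have hS := CfsgH5.plusForm_nondeg (F := F) m
  have hQ := CfsgH5.plusForm_Q (F := F) m
  have hk := CfsgH8.card_plus m
  have h2 := CfsgH8.two_ne_of_odd hodd
  obtain ⟨g, a, b, c⟩ := hγ
  rw [← CfsgH8.Sim_o hQ] at a
  obtain rfl := (CfsgH8.linearPO_iff hQ hS h5 ⟨g, a⟩ γ).1 c
  rw [CfsgH8.inndiagPlus_eq h3]
  have := CfsgH8.split_graph_o hS h2 hQ h5 hk (g := ⟨g, a⟩) (fun h => b ((CfsgH8.preserves_iff hQ hS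
    (CfsgH5.plusForm_isPlus m) _ hk ⟨g, a⟩).2 h)) hγ2 rfl
  exact ⟨this.1, fun h => this.2 (Or.inl ((CfsgH8.spG_neg_iff hS h2 hk).2
    (iff_of_true (CfsgH5.plusForm_isPlus m) ((CfsgH8.pow_mod_four hodd m).2 h))))⟩

end Cfsg.Agent.S2718
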