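import Cfsg.Statements.S2719
import Mathlib
import Cfsg.Agent.H8.GR4

set_option autoImplicit false
open Cfsg

namespace Cfsg.Agent.S2719

/-- Let T = PΩ⁻_{2m+2}(F) with m ≥ 3 and |F| = q odd (form with anisotropic binary part z₁² + a z₁ z₂ + b z₂²), G = Inndiag(T), and γ an involutory graph automorphism of T (an automorphism in the image of the semisimilarity group, not inner-diagonal, of order 2). Then the G-class of γ is either a single T-class or the union of exactly two T-classes, and it is the union of two unless m is even and q ≡ 1 (mod 4). -/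
theorem result {F : Type*} [Field F] [Fintype F] (hodd : Odd (Fintype.card F)) {m : ℕ} (hm : 3 ≤ m) (a b : F) (hab : (∀ z₁ z₂ : F, z₁ ^ 2 + a * z₁ * z₂ + b * z₂ ^ 2 = 0 → z₁ = 0 ∧ z₂ = 0)) (γ : MulAut (Cfsg.POmega F (Cfsg.quadFormMinus m F a b))) (hγ : Cfsg.IsGraphAutClassPOmegaMinus m a b γ) (hγ2 : orderOf γ = 2) :
    (Cfsg.splitClassCount (Cfsg.inndiagPOmegaMinus m F a b) (Cfsg.Inn (Cfsg.POmega F (Cfsg.quadFormMinus m F a b))) γ = 1 ∨ Cfsg.splitClassCount (Cfsg.inndiagPOmegaMinus m F a b) (Cfsg.Inn (Cfsg.POmega F (Cfsg.quadFormMinus m F a b))) γ = 2) ∧ (¬ (Even m ∧ Fintype.card F % 4 = 1) → Cfsg.splitClassCount (Cfsg.inndiagPOmegaMinus m F a b) (Cfsg.Inn (Cfsg.POmega F (Cfsg.quadFormMinus m F a b))) γ = 2) := by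
  have h3 : 2 ≤ m := by omega
  have h5 := CfsgH8.five_minus h3
  have hk := CfsgH8.card_minus m
  have hS := CfsgH5.minusForm_nondeg m hab
  have hQ := CfsgH5.minusForm_Q m a b
  have hp := CfsgH5.minusForm_not_isPlus m hab
  have h2 := CfsgH8.two_ne_of_odd hodd
  have H := CfsgH8.fsM h3 hab
  obtain ⟨e, f, hef⟩ := CfsgH8.o_hyp hS h5
  obtain ⟨h1, hnot, -⟩ := hγ
  rw [CfsgH8.gammaPOmega_eq hQ hS h5] at h1
  obtain ⟨δ, rfl⟩ := h1
  have hδ : δ.1.right = 1 := by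
    by_contra h
    exact absurd (H.odd_of_minus hk hef h5 hp Nat.prime_two (H.orderOf_right hef (by omega) Nat.prime_two hγ2 h)
      (orderOf_dvd_iff_pow_eq_one.1 hγ2.dvd)) (by decide)
  obtain ⟨g, rfl⟩ : δ ∈ (CfsgH8.simIncl _).range := by rw [CfsgH8.range_simIncl]; exact hδ
  rw [CfsgH8.inndiagMinus_eq h3 hab] at hnot ⊢
  have := CfsgH8.split_graph_o hS h2 hQ h5 hk (g := g) (fun h => hnot ⟨⟨g, h⟩, rfl⟩) hγ2 rfl
  refine ⟨this.1, fun h => this.2 ?_⟩
  rw [CfsgH8.spG_neg_iff hS h2 hk, CfsgH8.pow_mod_four hodd, iff_false_intro hp, false_iff, not_not,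
    Nat.odd_iff, Nat.even_iff]
  rw [Nat.even_iff] at h
  rw [Nat.odd_iff] at hodd
  omega

end Cfsg.Agent.S2719
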