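import Cfsg.Statements.S2722
import Mathlib
import Cfsg.Agent.H8.AutO3

set_option autoImplicit false
open Cfsg

namespace Cfsg.Agent.S2722

/-- Let T = PΩ⁺_{2m}(F) with m ≥ 4 and |F| = q odd. Inside Aut(T), the image G̃ of the conformal orthogonal group of the form modulo the image of the special orthogonal group is elementary abelian of order 4. -/
theorem result {F : Type*} [Field F] [Fintype F] (hodd : Odd (Fintype.card F)) {m : ℕ} (hm : 4 ≤ m) :
    (∃ φ : ↥(Cfsg.pgoAut F (Cfsg.quadFormPlus m F)) →* Multiplicative (ZMod 2 × ZMod 2), Function.Surjective φ ∧ φ.ker = (Cfsg.psoAut F (Cfsg.quadFormPlus m F)).subgroupOf (Cfsg.pgoAut F (Cfsg.quadFormPlus m F))) := by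
  haveI : Nonempty (Fin m ⊕ Fin m) := ⟨.inl ⟨0, by omega⟩⟩
  have h5 := CfsgH8.five_plus (m := m) (by omega)
  have hS := CfsgH5.plusForm_nondeg (F := F) m
  have hQ := CfsgH5.plusForm_Q (F := F) m
  have hk := CfsgH8.card_plus m
  have h2 := CfsgH8.two_ne_of_odd hodd
  have hn := CfsgH8.spG_neg_iff hS h2 hk
  rw [CfsgH8.pow_mod_four hodd, iff_true_intro (CfsgH5.plusForm_isPlus m), true_iff] at hn
  refine CfsgH8.exists_hom_of_range _ _ (CfsgH8.unitsEquiv2.toMonoidHom.comp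
    ((CfsgH8.smu hS).prod (CfsgH8.sdk hS (CfsgH8.genC_of h5) hk)))
    (CfsgH8.unitsEquiv2.surjective.comp (CfsgH8.klein_surj hS _ h2 hk)) (fun g => ?_)
    (CfsgH8.pgoAut_eq hQ hS h5)
  rw [CfsgH8.mem_pso_iff hQ hS h5 h2 hk, MonoidHom.comp_apply]
  exact (map_eq_one_iff _ CfsgH8.unitsEquiv2.injective).trans Prod.ext_iff

end Cfsg.Agent.S2722
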