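import Cfsg.Statements.S2723
import Mathlib
import Cfsg.Agent.H8.AutO3

set_option autoImplicit false
open Cfsg

namespace Cfsg.Agent.S2723

/-- Let T = PΩ⁺_{2m}(F) with m ≥ 4 and |F| = q odd. The image of the special orthogonal group in Aut(T) contains the inner automorphism group T with index 1 (they coincide) when m is odd and q ≡ 3 (mod 4), and with index 2 otherwise (the index is 2 exactly when the discriminant of the form is a square). -/
theorem result {F : Type*} [Field F] [Fintype F] (hodd : Odd (Fintype.card F)) {m : ℕ} (hm : 4 ≤ m) :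
    ((Odd m ∧ Fintype.card F % 4 = 3) → (Cfsg.Inn (Cfsg.POmega F (Cfsg.quadFormPlus m F))).relIndex (Cfsg.psoAut F (Cfsg.quadFormPlus m F)) = 1) ∧ (¬ (Odd m ∧ Fintype.card F % 4 = 3) → (Cfsg.Inn (Cfsg.POmega F (Cfsg.quadFormPlus m F))).relIndex (Cfsg.psoAut F (Cfsg.quadFormPlus m F)) = 2) := by
  haveI : Nonempty (Fin m ⊕ Fin m) := ⟨.inl ⟨0, by omega⟩⟩
  have h5 := CfsgH8.five_plus (m := m) (by omega)
  have hS := CfsgH5.plusForm_nondeg (F := F) m
  have hQ := CfsgH5.plusForm_Q (F := F) m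
  have hk := CfsgH8.card_plus m
  have h2 := CfsgH8.two_ne_of_odd hodd
  have hn := CfsgH8.spG_neg_iff hS h2 hk
  rw [CfsgH8.pow_mod_four hodd, iff_true_intro (CfsgH5.plusForm_isPlus m), true_iff] at hn
  have := CfsgH8.relIndex_pso hQ hS h5 h2 hk
  exact ⟨fun h => this.1 (hn.not.2 (not_not.2 h)), fun h => this.2 (hn.2 h)⟩

end Cfsg.Agent.S2723
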