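import Cfsg.Statements.S2725
import Mathlib
import Cfsg.Agent.H8.AutO3

set_option autoImplicit false
open Cfsg

namespace Cfsg.Agent.S2725

/-- Let T = PΩ⁺_{2m}(F) with m ≥ 4 and |F| = q odd. The inner-diagonal group G = Inndiag(T) (image of the class-preserving similarities) taken modulo the inner automorphism group T is cyclic of order 2 when m is odd and q ≡ 3 (mod 4), cyclic of order 4 when m is odd and q ≡ 1 (mod 4), and elementary abelian of order 4 when m is even. -/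
theorem result {F : Type*} [Field F] [Fintype F] (hodd : Odd (Fintype.card F)) {m : ℕ} (hm : 4 ≤ m) :
    ((Odd m ∧ Fintype.card F % 4 = 3) → (∃ φ : ↥(Cfsg.inndiagPOmegaPlus m F) →* Multiplicative (ZMod 2), Function.Surjective φ ∧ φ.ker = (Cfsg.Inn (Cfsg.POmega F (Cfsg.quadFormPlus m F))).subgroupOf (Cfsg.inndiagPOmegaPlus m F))) ∧ ((Odd m ∧ Fintype.card F % 4 = 1) → (∃ φ : ↥(Cfsg.inndiagPOmegaPlus m F) →* Multiplicative (ZMod 4), Function.Surjective φ ∧ φ.ker = (Cfsg.Inn (Cfsg.POmega F (Cfsg.quadFormPlus m F))).subgroupOf (Cfsg.inndiagPOmegaPlus m F))) ∧ (Even m → (∃ φ : ↥(Cfsg.inndiagPOmegaPlus m F) →* Multiplicative (ZMod 2 × ZMod 2), Function.Surjective φ ∧ φ.ker = (Cfsg.Inn (Cfsg.POmega F (Cfsg.quadFormPlus m F))).subgroupOf (Cfsg.inndiagPOmegaPlus m F))) := by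
  haveI : Nonempty (Fin m ⊕ Fin m) := ⟨.inl ⟨0, by omega⟩⟩
  have h5 := CfsgH8.five_plus (m := m) (by omega)
  have hS := CfsgH5.plusForm_nondeg (F := F) m
  have hQ := CfsgH5.plusForm_Q (F := F) m
  have hk := CfsgH8.card_plus m
  have h2 := CfsgH8.two_ne_of_odd hodd
  have hn := CfsgH8.spG_neg_iff hS h2 hk
  rw [CfsgH8.pow_mod_four hodd, iff_true_intro (CfsgH5.plusForm_isPlus m), true_iff] at hn
  have hI := CfsgH8.inndiagPlus_eq (F := F) (m := m) (by omega)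
  refine ⟨fun h => ?_, fun h => ?_, fun h => ?_⟩
  · obtain ⟨h3, h4⟩ := CfsgH8.exists_theta_plus_klein hS (CfsgH8.genC_of h5) h2 hk
      (hn.not.2 (not_not.2 h))
    exact CfsgH8.exists_hom_of_range _ _ (CfsgH8.unitsEquiv.toMonoidHom.comp _)
      (CfsgH8.unitsEquiv.surjective.comp h3) (fun g => (map_eq_one_iff _
        CfsgH8.unitsEquiv.injective).trans ((h4 g).trans (CfsgH8.o_mem_Inn' hQ hS h5 g).symm)) hI
  · obtain ⟨θ, h3, h4⟩ := (CfsgH8.exists_theta_plus_d8 hS (CfsgH8.genC_of h5) h2 hk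
      (hn.2 fun h1 => by omega)).1 h.1
    exact CfsgH8.exists_hom_of_range _ _ θ h3
      (fun g => (h4 g).trans (CfsgH8.o_mem_Inn' hQ hS h5 g).symm) hI
  · obtain ⟨θ, h3, h4⟩ := (CfsgH8.exists_theta_plus_d8 hS (CfsgH8.genC_of h5) h2 hk
      (hn.2 fun h1 => Nat.not_odd_iff_even.2 h h1.1)).2 h
    exact CfsgH8.exists_hom_of_range _ _ θ h3
      (fun g => (h4 g).trans (CfsgH8.o_mem_Inn' hQ hS h5 g).symm) hI

end Cfsg.Agent.S2725
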