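import Cfsg.Statements.S2726
import Mathlib
import Cfsg.Agent.H8.AutO3

set_option autoImplicit false
open Cfsg

namespace Cfsg.Agent.S2726

/-- Let T = PΩ⁻_{2m+2}(F) with m ≥ 3 and |F| = q odd (form with anisotropic binary part). Inside Aut(T), the image G̃ of the conformal orthogonal group of the form modulo the image of the special orthogonal group is elementary abelian of order 4. -/
theorem result {F : Type*} [Field F] [Fintype F] (hodd : Odd (Fintype.card F)) {m : ℕ} (hm : 3 ≤ m) (a b : F) (hab : (∀ z₁ z₂ : F, z₁ ^ 2 + a * z₁ * z₂ + b * z₂ ^ 2 = 0 → z₁ = 0 ∧ z₂ = 0)) :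
    (∃ φ : ↥(Cfsg.pgoAut F (Cfsg.quadFormMinus m F a b)) →* Multiplicative (ZMod 2 × ZMod 2), Function.Surjective φ ∧ φ.ker = (Cfsg.psoAut F (Cfsg.quadFormMinus m F a b)).subgroupOf (Cfsg.pgoAut F (Cfsg.quadFormMinus m F a b))) := by
  have h5 := CfsgH8.five_minus (m := m) (by omega)
  have hS := CfsgH5.minusForm_nondeg m hab
  have hQ := CfsgH5.minusForm_Q m a b
  have hk := CfsgH8.card_minus m
  have h2 := CfsgH8.two_ne_of_odd hodd
  have hn := CfsgH8.spG_neg_iff hS h2 hk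
  rw [CfsgH8.pow_mod_four hodd, iff_false_intro (CfsgH5.minusForm_not_isPlus m hab), false_iff, not_not,
    Nat.odd_add_one, Nat.not_odd_iff_even] at hn
  refine CfsgH8.exists_hom_of_range _ _ (CfsgH8.unitsEquiv2.toMonoidHom.comp
    ((CfsgH8.smu hS).prod (CfsgH8.sdk hS (CfsgH8.genC_of h5) hk)))
    (CfsgH8.unitsEquiv2.surjective.comp (CfsgH8.klein_surj hS _ h2 hk)) (fun g => ?_)
    (CfsgH8.pgoAut_eq hQ hS h5)
  rw [CfsgH8.mem_pso_iff hQ hS h5 h2 hk, MonoidHom.comp_apply]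
  exact (map_eq_one_iff _ CfsgH8.unitsEquiv2.injective).trans Prod.ext_iff

end Cfsg.Agent.S2726
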