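import Cfsg.Statements.S2729
import Mathlib
import Cfsg.Agent.H8.AutO3

set_option autoImplicit false
open Cfsg

namespace Cfsg.Agent.S2729

/-- Let T = PΩ⁻_{2m+2}(F) with m ≥ 3 and |F| = q odd (form with anisotropic binary part). The inner-diagonal group G = Inndiag(T) (image of the class-preserving similarities) taken modulo the inner automorphism group T is cyclic of order 4 when m is even and q ≡ 3 (mod 4), and of order 2 otherwise. -/
theorem result {F : Type*} [Field F] [Fintype F] (hodd : Odd (Fintype.card F)) {m : ℕ} (hm : 3 ≤ m) (a b : F) (hab : (∀ z₁ z₂ : F, z₁ ^ 2 + a * z₁ * z₂ + b * z₂ ^ 2 = 0 → z₁ = 0 ∧ z₂ = 0)) :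
    ((Even m ∧ Fintype.card F % 4 = 3) → (∃ φ : ↥(Cfsg.inndiagPOmegaMinus m F a b) →* Multiplicative (ZMod 4), Function.Surjective φ ∧ φ.ker = (Cfsg.Inn (Cfsg.POmega F (Cfsg.quadFormMinus m F a b))).subgroupOf (Cfsg.inndiagPOmegaMinus m F a b))) ∧ (¬ (Even m ∧ Fintype.card F % 4 = 3) → (∃ φ : ↥(Cfsg.inndiagPOmegaMinus m F a b) →* Multiplicative (ZMod 2), Function.Surjective φ ∧ φ.ker = (Cfsg.Inn (Cfsg.POmega F (Cfsg.quadFormMinus m F a b))).subgroupOf (Cfsg.inndiagPOmegaMinus m F a b))) := by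
  have h5 := CfsgH8.five_minus (m := m) (by omega)
  have hS := CfsgH5.minusForm_nondeg m hab
  have hQ := CfsgH5.minusForm_Q m a b
  have hk := CfsgH8.card_minus m
  have h2 := CfsgH8.two_ne_of_odd hodd
  have hn := CfsgH8.spG_neg_iff hS h2 hk
  rw [CfsgH8.pow_mod_four hodd, iff_false_intro (CfsgH5.minusForm_not_isPlus m hab), false_iff, not_not,
    Nat.odd_add_one, Nat.not_odd_iff_even] at hn
  have hI := CfsgH8.inndiagMinus_eq (m := m) (by omega) hab
  refine ⟨fun h => ?_, fun h => ?_⟩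
  · obtain ⟨θ, h3, h4⟩ := (CfsgH8.exists_theta_plus_d8 hS (CfsgH8.genC_of h5) h2 hk
      (hn.2 h)).1 h.1.add_one
    exact CfsgH8.exists_hom_of_range _ _ θ h3
      (fun g => (h4 g).trans (CfsgH8.o_mem_Inn' hQ hS h5 g).symm) hI
  · obtain ⟨h3, h4⟩ := CfsgH8.exists_theta_plus_klein hS (CfsgH8.genC_of h5) h2 hk (hn.not.2 h)
    exact CfsgH8.exists_hom_of_range _ _ (CfsgH8.unitsEquiv.toMonoidHom.comp _)
      (CfsgH8.unitsEquiv.surjective.comp h3) (fun g => (map_eq_one_iff _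
        CfsgH8.unitsEquiv.injective).trans ((h4 g).trans (CfsgH8.o_mem_Inn' hQ hS h5 g).symm)) hI

end Cfsg.Agent.S2729
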