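import Cfsg.Statements.S2731
import Mathlib
import Cfsg.Agent.H8.LB4

set_option autoImplicit false
open Cfsg

namespace Cfsg.Agent.S2731

/-- A criterion for the failure of local balance in almost simple groups whose socle is an odd-dimensional orthogonal group Ω_{2m+1}(F) (m ≥ 3, |F| odd; the form x₀² + Σ xᵢ yᵢ). Let F be a finite field of characteristic r and K the (simple) group in question; let A be a group of automorphisms of K containing all inner automorphisms, and x ∈ A an automorphism of prime order p ≠ r that is not inner-diagonal (not induced by a similarity of the form). Then the largest normal subgroup of C_A(x) of order prime to p is nontrivial if and only if x is a field automorphism of K (conjugate under Aut(K) to a non-identity standard field automorphism) and p does not divide the number of fixed points of x on K. -/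
theorem result {F : Type*} [Field F] [Fintype F] {r : ℕ} [Fact r.Prime] [CharP F r] (hodd : Odd (Fintype.card F)) {m : ℕ} (hm : 3 ≤ m) (hK : IsSimpleGroup (Cfsg.POmega F (Cfsg.quadFormOdd m F))) (A : Subgroup (MulAut (Cfsg.POmega F (Cfsg.quadFormOdd m F)))) (hinn : ∀ k : Cfsg.POmega F (Cfsg.quadFormOdd m F), MulAut.conj k ∈ A) {p : ℕ} [Fact p.Prime] (hpr : p ≠ r) (x : MulAut (Cfsg.POmega F (Cfsg.quadFormOdd m F))) (hxA : x ∈ A) (hord : orderOf x = p) (hnot : ¬ Cfsg.IsInnerDiagonalAutPOmegaOdd m x) :
    Cfsg.pPrimeCore p ↥(A ⊓ Subgroup.centralizer {x}) ≠ ⊥ ↔ (Cfsg.IsFieldAutClassPOmega (Cfsg.quadFormOdd m F) x ∧ Nat.Coprime p (Nat.card ↥(MonoidHom.eqLocus x.toMonoidHom (MonoidHom.id (Cfsg.POmega F (Cfsg.quadFormOdd m F)))))) := by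
  have h2 := CfsgH8.two_ne_of_odd hodd
  have h5 := CfsgH8.five_odd (m := m) (by clear hord; omega)
  have hS := CfsgH5.oddForm_nondeg m h2
  have hQ := CfsgH5.oddForm_Q (F := F) m
  obtain ⟨e, f', hef⟩ := CfsgH8.o_hyp hS h5
  have H := CfsgH8.fsetup_o hQ hS h5
  have hs : Function.Surjective H.simPhi := CfsgH8.o_surj hQ hS (by rw [CfsgH8.card_odd]; omega)
    fun h => by rw [CfsgH8.card_odd] at h; omega
  obtain ⟨γ, rfl⟩ := hs x
  have hγ : γ.1.right ≠ 1 := fun h => hnot ((CfsgH8.simInduced_iff hQ hS h5 _).2 (H.mem_simPsi h))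
  have ho := H.orderOf_right hef (by omega) Fact.out hord hγ
  refine H.lb_orth h5 hs hγ hpr hord hinn ?_
  have hi := CfsgH8.odd_inr_mem m γ.1.right
  have h1 := H.orderOf_simPhi_inr hef (by omega) hi
  obtain ⟨α, hα⟩ := H.conj_std hef (by omega) hi hord (H.lang_odd hef h5 (by rw [CfsgH8.card_odd]; simp)
    (γ := ⟨_, hi⟩) ho (by rw [← ho, ← h1]; exact pow_orderOf_eq_one _))
  exact ⟨α, _, _, hγ, (CfsgH8.fieldPO_iff hQ hS h5 hi _).2 rfl, hα⟩

end Cfsg.Agent.S2731
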