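import Cfsg.Statements.S2734
import Cfsg.Agent.H6.Fx2

set_option autoImplicit false
open Cfsg

namespace Cfsg.Agent.S2734

open CfsgH6 CfsgH6.Chev

/-- In the Chevalley group of type D₄ over a finite field F (the matrix group generated by the root elements), a graph automorphism attached to a symmetry π of the Dynkin diagram (sending each fundamental root element x_p(t) to x_{π(p)}(t) and each x_{−p}(t) to x_{−π(p)}(t)) that has order 3 — a standard triality graph automorphism, π being a 3-cycle of the three outer nodes — has fixed-point subgroup isomorphic to the Chevalley group of type G₂ over F. -/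
theorem result {F : Type*} [Field F] [Fintype F] (τ : MulAut ↥(Cfsg.Lie.chevD4.group F)) (hτ : Cfsg.Lie.chevD4.IsGraphAut τ) (hτ3 : orderOf τ = 3) :
    Nonempty (↥(MonoidHom.eqLocus τ.toMonoidHom (MonoidHom.id ↥(Cfsg.Lie.chevD4.group F))) ≃* ↥(Cfsg.Lie.chevG2.group F)) := by
  obtain ⟨π, hπ, h⟩ := gD4.isGraphAut_iff.1 hτ
  simp only [geD4, pow_one] at h
  have h2 : π * π ≠ 1 := fun e => by
    have : τ * τ = 1 := MulEquiv.toMonoidHom_injective ((gD4.isStG F).hom_ext_pm' (gD4.adjG_G F)
      (fun i t => by simp [(h _ _).1, ← Equiv.Perm.mul_apply, e]) fun i t => by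
        simp [(h _ _).2, ← Equiv.Perm.mul_apply, e])
    have := orderOf_dvd_of_pow_eq_one ((sq τ).trans this)
    rw [hτ3] at this
    omega
  obtain ⟨T, hT⟩ := exists_isD4' (q := 1) (φ := RingEquiv.refl F) (by simp) (by simp)
  have key : π = f2130 → T.σ = τ.toMonoidHom := fun e => (gD4.isStG F).hom_ext_pm' (gD4.adjG_G F)
    (fun i t => (hT.gr i t).1.trans (e ▸ (h i t).1.symm)) fun i t => (hT.gr i t).2.trans (e ▸ (h i t).2.symm)
  rcases symD4 hπ with rfl | rfl | rfl | rfl | rfl | rfl
  · exact absurd (by decide) h2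
  · exact absurd (by decide) h2
  · exact absurd (by decide) h2
  · rw [← key rfl]; exact hT.fix_equiv
  · have e : f3102 * f2130 = 1 := by decide
    have : τ.toMonoidHom.comp T.σ = MonoidHom.id _ := (gD4.isStG F).hom_ext_pm' (gD4.adjG_G F)
      (fun i t => by simp [(hT.gr _ _).1, (h _ _).1, ← Equiv.Perm.mul_apply, e]) fun i t => by
        simp [(hT.gr _ _).2, (h _ _).2, ← Equiv.Perm.mul_apply, e]
    have e : MonoidHom.eqLocus τ.toMonoidHom (MonoidHom.id _) = T.Fix := by
      ext y
      have := DFunLike.congr_fun this y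
      rw [PreSt.Tw.mem_Fix]
      exact ⟨fun hy => τ.injective (this.trans hy.symm), fun hy => by rwa [MonoidHom.comp_apply, hy] at this⟩
    rw [e]
    exact hT.fix_equiv
  · exact absurd (by decide) h2

end Cfsg.Agent.S2734
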