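import Cfsg.Statements.S2735
import Mathlib
import Cfsg.Agent.H8.AutO4

set_option autoImplicit false
open Cfsg

namespace Cfsg.Agent.S2735

/-- Let T = Ω_{2m+1}(F) (m ≥ 3, |F| odd) and x a field automorphism of T of prime order r. Then an element y of the coset Inndiag(T)·x (y = δ x with δ induced by a similarity of the form) has order r if and only if y is conjugate to x by an element of Inndiag(T). (T has no graph or graph-field automorphisms.) -/
theorem result {F : Type*} [Field F] [Fintype F] (hodd : Odd (Fintype.card F)) {m : ℕ} (hm : 3 ≤ m) (x δ : MulAut (Cfsg.POmega F (Cfsg.quadFormOdd m F))) (hx : Cfsg.IsFieldAutClassPOmega (Cfsg.quadFormOdd m F) x) {r : ℕ} (hr : r.Prime) (hxr : orderOf x = r) (hδ : δ ∈ Cfsg.inndiagPOmegaOdd m F) :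
    orderOf (δ * x) = r ↔ Cfsg.IsConjUnder (Cfsg.inndiagPOmegaOdd m F) x (δ * x) := by
  have h2 := CfsgH8.two_ne_of_odd hodd
  have h5 := CfsgH8.five_odd (m := m) (by omega)
  have hS := CfsgH5.oddForm_nondeg m h2
  have hQ := CfsgH5.oddForm_Q (F := F) m
  obtain ⟨e, f', hef⟩ := CfsgH8.o_hyp hS h5
  have hs := CfsgH8.o_surj hQ hS (by rw [CfsgH8.card_odd]; omega)
    fun h => by rw [CfsgH8.card_odd] at h; omega
  rw [CfsgH8.inndiagOdd_eq (by omega) h2] at hδ ⊢
  haveI := (CfsgH8.fsO (by omega) h2).simPsi_normal hs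
  obtain ⟨α, ψ, σ, hσ, hψ, hα⟩ := hx
  rw [CfsgH8.fieldPO_iff hQ hS h5 (CfsgH8.odd_inr_mem m σ)] at hψ
  rw [hψ] at hα
  have h1 : orderOf ((CfsgH8.fsetup_o hQ hS h5).simPhi ⟨_, CfsgH8.odd_inr_mem m σ⟩) = r := by
    rw [← hα, ← hxr]; exact (MulAut.conj α).orderOf_eq x
  exact CfsgH8.lang_iff hα hxr ((CfsgH8.fsetup_o hQ hS h5).lang_odd hef h5
    (by rw [CfsgH8.card_odd]; simp) ((CfsgH8.fsetup_o hQ hS h5).orderOf_right hef (by omega) hr h1 hσ)
    (h1 ▸ pow_orderOf_eq_one _)) hδ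

end Cfsg.Agent.S2735
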