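import Cfsg.Statements.S2736
import Mathlib
import Cfsg.Agent.H8.AutO4

set_option autoImplicit false
open Cfsg

namespace Cfsg.Agent.S2736

/-- Let T = PΩ⁺_{2m}(F) with m ≥ 5 (dimension ≠ 8) and x a field automorphism or a graph-field automorphism of T of prime order r. Then an element y of the coset Inndiag(T)·x (y = δ x with δ induced by a class-preserving similarity) has order r if and only if y is conjugate to x by an element of Inndiag(T). -/
theorem result {F : Type*} [Field F] [Fintype F] {m : ℕ} (hm : 5 ≤ m) (x δ : MulAut (Cfsg.POmega F (Cfsg.quadFormPlus m F))) (hx : Cfsg.IsFieldAutClassPOmega (Cfsg.quadFormPlus m F) x ∨ Cfsg.IsGraphFieldAutClassPOmegaPlus m x) {r : ℕ} (hr : r.Prime) (hxr : orderOf x = r) (hδ : δ ∈ Cfsg.inndiagPOmegaPlus m F) :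
    orderOf (δ * x) = r ↔ Cfsg.IsConjUnder (Cfsg.inndiagPOmegaPlus m F) x (δ * x) := by
  haveI : Nonempty (Fin m ⊕ Fin m) := ⟨.inl ⟨0, by omega⟩⟩
  have h5 := CfsgH8.five_plus (m := m) (by omega)
  have hS := CfsgH5.plusForm_nondeg (F := F) m
  have hQ := CfsgH5.plusForm_Q (F := F) m
  obtain ⟨e, f', hef⟩ := CfsgH8.o_hyp hS h5
  have hs := CfsgH8.o_surj hQ hS (by rw [CfsgH8.card_plus]; omega)
    fun h => by rw [CfsgH8.card_plus] at h; omega
  rw [CfsgH8.inndiagPlus_eq (by omega)] at hδ ⊢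
  haveI := (CfsgH8.fsetup_o hQ hS h5).psiP_normal (CfsgH8.genC_of h5) (CfsgH8.card_plus m) hs
  obtain ⟨α, γ, hγ, hα⟩ : ∃ α γ, γ.1.right ≠ 1 ∧ α * x * α⁻¹ = (CfsgH8.fsetup_o hQ hS h5).simPhi γ := by
    rcases hx with ⟨α, ψ, σ, hσ, hψ, hα⟩ | hx
    · rw [CfsgH8.fieldPO_iff hQ hS h5 (CfsgH8.plus_inr_mem m σ)] at hψ
      exact ⟨α, _, hσ, hα.trans hψ⟩
    · obtain ⟨α, σ, v, h1, -, -, h2⟩ := CfsgH8.graphField_iff (by omega) hx
      exact ⟨α, _, fun h => h1 ((one_mul σ).symm.trans h), h2⟩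
  have h1 : orderOf ((CfsgH8.fsetup_o hQ hS h5).simPhi γ) = r := by
    rw [← hα, ← hxr]; exact (MulAut.conj α).orderOf_eq x
  exact CfsgH8.lang_iff hα hxr ((CfsgH8.fsetup_o hQ hS h5).lang_plus _ _ hef h5
    ((CfsgH8.fsetup_o hQ hS h5).orderOf_right hef (by omega) hr h1 hγ)
    (h1 ▸ pow_orderOf_eq_one _)) hδ

end Cfsg.Agent.S2736
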