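import Cfsg.Statements.S2737
import Mathlib
import Cfsg.Agent.H8.AutO4

set_option autoImplicit false
open Cfsg

namespace Cfsg.Agent.S2737

/-- Let T = PΩ⁻_{2m+2}(F) (m ≥ 3; form with anisotropic binary part) and x a field automorphism of T of prime order r. Then an element y of the coset Inndiag(T)·x has order r if and only if y is conjugate to x by an element of Inndiag(T). (T has no graph-field automorphisms.) -/
theorem result {F : Type*} [Field F] [Fintype F] {m : ℕ} (hm : 3 ≤ m) (a b : F) (hab : (∀ z₁ z₂ : F, z₁ ^ 2 + a * z₁ * z₂ + b * z₂ ^ 2 = 0 → z₁ = 0 ∧ z₂ = 0)) (x δ : MulAut (Cfsg.POmega F (Cfsg.quadFormMinus m F a b))) (hx : Cfsg.IsFieldAutClassPOmegaMinus m x) {r : ℕ} (hr : r.Prime) (hxr : orderOf x = r) (hδ : δ ∈ Cfsg.inndiagPOmegaMinus m F a b) :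
    orderOf (δ * x) = r ↔ Cfsg.IsConjUnder (Cfsg.inndiagPOmegaMinus m F a b) x (δ * x) := by
  have h5 := CfsgH8.five_minus (m := m) (by omega)
  have hS := CfsgH5.minusForm_nondeg m hab
  have hQ := CfsgH5.minusForm_Q m a b
  have hk := CfsgH8.card_minus m
  obtain ⟨e, f', hef⟩ := CfsgH8.o_hyp hS h5
  have hp := CfsgH5.minusForm_not_isPlus m hab
  have hs : Function.Surjective (CfsgH8.fsetup_o hQ hS h5).simPhi :=
    CfsgH8.o_surj hQ hS (by rw [hk]; omega) (fun _ => hp)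
  obtain ⟨γ, rfl⟩ := hs x
  have hγ : γ.1.right ≠ 1 := by
    obtain ⟨a', b', ψ, σ, hab', hσ, ha, hb, h⟩ := hx
    have hS' := CfsgH5.minusForm_nondeg m hab'
    have hp' := CfsgH5.minusForm_not_isPlus m hab'
    rw [CfsgH8.fieldPO_iff (CfsgH5.minusForm_Q m a' b') hS' h5 (CfsgH8.minus_inr_mem m ha hb)] at h
    obtain ⟨j, hj⟩ := hS.exists_isom_minus hp (CfsgH5.finrank_minus m) hab'
    rw [CfsgH8.right_eq_of_iso hQ hS h5 (CfsgH5.minusForm_Q m a' b') hS' h5 hj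
      (CfsgH8.o_surj (CfsgH5.minusForm_Q m a' b') hS' (by rw [hk]; omega) fun _ => hp') ψ h]
    exact hσ
  have ho := (CfsgH8.fsetup_o hQ hS h5).orderOf_right hef (by omega) hr hxr hγ
  have h1 : (CfsgH8.fsetup_o hQ hS h5).simPhi γ ^ r = 1 := hxr ▸ pow_orderOf_eq_one _
  rw [CfsgH8.inndiagMinus_eq (by omega) hab] at hδ ⊢
  haveI := (CfsgH8.fsetup_o hQ hS h5).psiP_normal (CfsgH8.genC_of h5) hk
    (CfsgH8.o_surj hQ hS (by rw [hk]; omega) fun _ => hp)
  exact CfsgH8.lang_iff (α := 1) (by simp) hxr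
    ((CfsgH8.fsetup_o hQ hS h5).lang_plus _ _ hef h5 ho h1) hδ

end Cfsg.Agent.S2737
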