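import Cfsg.Statements.S2738
import Cfsg.Agent.H5.LinMat

set_option autoImplicit false
open Cfsg

namespace Cfsg.Agent.S2738

open CfsgH5

/-- The special linear group SL(3, 4) has centre of order 3 and does not split over it: no subgroup is a complement to the centre (so SL(3, 4) is a non-split central extension of PSL(3, 4) by a group of order 3). -/
theorem result (F : Type*) [Field F] [Fintype F] (hF : Fintype.card F = 4) : Nat.card ↥(Subgroup.center (Matrix.SpecialLinearGroup (Fin 3) F)) = 3 ∧ ¬ ∃ K : Subgroup (Matrix.SpecialLinearGroup (Fin 3) F), Subgroup.IsComplement' (Subgroup.center (Matrix.SpecialLinearGroup (Fin 3) F)) K := by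
  have h1 := card_center_SL (ι := Fin 3) (F := F)
  rw [hF] at h1
  refine ⟨h1, fun ⟨K, hK⟩ => ?_⟩
  have h2 : K = ⊤ := top_unique ((commutator_SL (ι := Fin 3) (F := F) (by simp)).ge.trans
    (Subgroup.commutator_le.2 fun g _ h _ => ?_))
  · have h3 := hK.card_mul_card
    rw [h1, h2, Subgroup.card_top] at h3
    have := Nat.card_pos (α := Matrix.SpecialLinearGroup (Fin 3) F)
    simp at h3
    omega
  obtain ⟨⟨⟨a, ha⟩, ⟨b, hb⟩⟩, rfl⟩ := hK.2 g
  obtain ⟨⟨⟨c, hc⟩, ⟨d, hd⟩⟩, rfl⟩ := hK.2 h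
  have h3 : ∀ x, Commute a x := fun x => (Subgroup.mem_center_iff.1 ha x).symm
  have h4 : ∀ x, Commute c x := fun x => (Subgroup.mem_center_iff.1 hc x).symm
  convert mul_mem (mul_mem (mul_mem hb hd) (inv_mem hb)) (inv_mem hd) using 1
  calc a * b * (c * d) * (a * b)⁻¹ * (c * d)⁻¹ = a * (b * (c * d) * b⁻¹) * a⁻¹ * (c * d)⁻¹ := by group
    _ = b * c * d * b⁻¹ * (c * d)⁻¹ := by rw [(h3 _).eq]; group
    _ = c * (b * d * b⁻¹ * d⁻¹) * c⁻¹ := by rw [← (h4 _).eq]; group
    _ = _ := by rw [(h4 _).eq, mul_inv_cancel_right]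

end Cfsg.Agent.S2738
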