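import Cfsg.Statements.S2739
import Cfsg.Agent.H5.El3

set_option autoImplicit false
open scoped Pointwise
open Cfsg

namespace Cfsg.Agent.S2739

open CfsgH5 Pointwise Module Polynomial

/-- In the projective special linear group PSL(3, 4) all subgroups of order 3 are conjugate. -/
theorem result (F : Type*) [Field F] [Fintype F] (hF : Fintype.card F = 4) (X Y : Subgroup (Matrix.ProjectiveSpecialLinearGroup (Fin 3) F)) (hX : Nat.card ↥X = 3) (hY : Nat.card ↥Y = 3) : ∃ g : Matrix.ProjectiveSpecialLinearGroup (Fin 3) F, MulAut.conj g • X = Y := by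
  classical
  haveI : CharP F 2 := charP_of_card_eq_prime_pow (f := 2) hF
  haveI := Fact.mk Nat.prime_three
  have h0 := cast_ne_of_ne (F := F) 2 Nat.prime_three (by omega)
  have hV : finrank F (Fin 3 → F) = 3 := by simp
  have h3 : ∀ c : Fˣ, c ^ 3 = 1 := fun c => by
    have := pow_card_eq_one (x := c)
    rwa [Fintype.card_units, hF] at this
  have key : ∀ g ∈ slSub F (Fin 3 → F), PE 3 g → ed g.toLinearMap = rg0 F 3 := fun g hg h => by
    obtain ⟨l, hl⟩ := h.1
    have h1 : g ^ 3 = 1 := by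
      rcases pow_cases Nat.prime_three hl with ⟨c, h1⟩ | ⟨h1, k, h2, h4⟩
      · rwa [scE_mul_pow, h3, map_one, one_mul] at h1
      · have := (irr_mem_sl three_ne_zero h2).1 hg
        rw [show k = 1 by omega, hV] at this
        exact absurd (by linear_combination this) (h1 1)
    have h2 : (ed g.toLinearMap).Nodup := Multiset.nodup_iff_le.2 fun a ha => by
      obtain ⟨c, d, e⟩ := ed_small (a := a) ha hV.le
      have h4 := mem_slSub_iff.1 hg
      rw [← prod_ed, e] at h4
      have h8 : c ^ 2 * d = 1 := Units.ext (by simp at h4 ⊢; linear_combination -h4)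
      obtain rfl : d = c := mul_left_cancel (a := c ^ 2) (by rw [h8, ← pow_succ, h3])
      exact h.2 d (eq_scE_of_ed fun b hb => by simpa [e] using hb)
    obtain ⟨t, e⟩ := Multiset.le_iff_exists_add.1 ((Multiset.le_iff_subset h2).2 fun a ha =>
      (mem_rg0 Nat.prime_three).2 ⟨ss_of_pow h0 h1 a ha, monic_ed _ a ha, pow_eq_one_iff_ed.1 h1 a ha⟩)
    have h5 : ∀ a ∈ rg0 F 3, PP a := fun a ha =>
      have := (mem_rg0 Nat.prime_three).1 ha; pp_of_irr this.2.1 this.1
    have h6 : dg0 (rg0 F 3) = 3 := by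
      rw [dg0, ← natDegree_multiset_prod_of_monic _ fun a ha => (h5 a ha).monic, prod_rg0 Nat.prime_three h0]
      exact natDegree_X_pow_sub_C
    rw [e, eq_zero_of_dg0 (t := t) (fun a ha => h5 a (by simp [e, ha])) (by
      rw [e, dg0_add, dg0_ed, hV] at h6; omega), add_zero]
  have gen : ∀ X : Subgroup (Matrix.ProjectiveSpecialLinearGroup (Fin 3) F), Nat.card X = 3 →
      ∃ x : Matrix.SpecialLinearGroup (Fin 3) F, X = Subgroup.zpowers (QuotientGroup.mk x) ∧
        PE 3 (slHom _ F x) := fun X hX => by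
    obtain ⟨⟨x, hx⟩, h1⟩ := exists_prime_orderOf_dvd_card' (G := X) 3 hX.symm.dvd
    obtain ⟨x, rfl⟩ := QuotientGroup.mk_surjective x
    rw [Subgroup.orderOf_mk] at h1
    exact ⟨x, (Subgroup.eq_of_le_of_card_ge (Subgroup.zpowers_le.2 hx) (by
      rw [Nat.card_zpowers, h1, hX])).symm, (pe_mk _ sl_center Nat.prime_three).1 h1⟩
  obtain ⟨x, rfl, hx⟩ := gen X hX
  obtain ⟨y, rfl, hy⟩ := gen Y hY
  obtain ⟨k, hk⟩ := conj_iff_sim.2 (sim_iff_ed.2 ((key _ (slHom_mem x) hx).trans (key _ (slHom_mem y) hy).symm))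
  obtain ⟨l, hl⟩ := hx.1
  obtain ⟨k, h1, h2⟩ := (ss_of_sqfree (sqfree_sub_C h0 l) (aeval_of_pow hl)).conj_sl k
  obtain ⟨k, rfl⟩ := exists_slHom h1
  refine ⟨QuotientGroup.mk k, (MonoidHom.map_zpowers _ _).trans (congrArg _ ?_)⟩
  rw [← slHom_inj (show slHom _ F (k * x * k⁻¹) = slHom _ F y by simpa using h2.trans hk)]
  rfl

end Cfsg.Agent.S2739
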