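import Cfsg.Statements.S2760
import Cfsg.Agent.H9.SC

set_option autoImplicit false
open Cfsg

namespace Cfsg.Agent.S2760

/-- Let G be a finite group with C_G(O₂(G)) ≤ O₂(G) and H a subgroup of G such that H is normal in G, or the subgroup O²(H) generated by the elements of H of odd order is normal in G. Then C_H(O₂(H)) ≤ O₂(H). -/
theorem result {G : Type*} [Group G] [Finite G] (hchar : Subgroup.centralizer (Cfsg.pCore 2 G : Set G) ≤ Cfsg.pCore 2 G) (H : Subgroup G) (hH : H.Normal ∨ ((Cfsg.pResidual 2 ↥H).map H.subtype).Normal) : Subgroup.centralizer (Cfsg.pCore 2 ↥H : Set ↥H) ≤ Cfsg.pCore 2 ↥H := by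
  open Subgroup CfsgH2 CfsgH9 CfsgFT in
  refine chP_iff.2 (hH.elim (fun h => (chP_top.2 hchar).of_normal le_top le_normalizer_of_normal) fun h => chP_of_res ?_)
  rw [map_pResidual] at h
  rw [← resIn_resIn]
  exact ((chP_top.2 hchar).of_normal le_top le_normalizer_of_normal : ChP 2 (resIn 2 H)).res_eq_bot (resIn_mono inf_le_left)
    ((resIn_le _).trans ((resIn_le _).trans (inf_le_right.trans (centralizer_le (Op_le_Op_of_normal (resIn_le _) (le_norm_resIn le_normalizer))))))

end Cfsg.Agent.S2760
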