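import Cfsg.Statements.S2761
import Cfsg.Agent.H9.Qd

set_option autoImplicit false
open Cfsg

namespace Cfsg.Agent.S2761

/-- The group Qd(2), the natural semidirect product of an elementary abelian group of order 4 by SL₂(2) (realised as the affine subgroup of SL₃(2)), is isomorphic to the symmetric group of degree 4. -/
theorem result : Nonempty (↥(Cfsg.qd 2) ≃* Equiv.Perm (Fin 4)) := by
  obtain ⟨φ, hφ⟩ := CfsgH9.exists_perm_qdOver (F := ZMod 2)
  have := Fact.mk Nat.prime_two
  exact ⟨(MulEquiv.ofBijective φ ((Nat.bijective_iff_injective_and_card _).2 ⟨hφ, by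
    rw [Nat.card_perm]; exact CfsgH9.card_qd.trans (by simp [Nat.factorial])⟩)).trans
    (Equiv.permCongrHom (Fintype.equivFinOfCardEq (by simp)))⟩

end Cfsg.Agent.S2761
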