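import Cfsg.Statements.S2762
import Cfsg.Agent.H9.Qd

set_option autoImplicit false
open Cfsg

namespace Cfsg.Agent.S2762

/-- Structure of Qd over a finite field F of characteristic p (the affine subgroup of SL₃(F)): its largest normal p-subgroup is the group of translations (matrices with upper-left block the identity), the block-diagonal matrices form a complement isomorphic to SL₂(F), and the translation subgroup is a natural SL₂(F)-module for that complement. -/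
theorem result {F : Type*} [Field F] [Fintype F] {p : ℕ} [Fact p.Prime] [CharP F p] : (∀ M : ↥(Cfsg.qdOver F), M ∈ Cfsg.pCore p ↥(Cfsg.qdOver F) ↔ ((M : Matrix.SpecialLinearGroup (Fin 3) F) : Matrix (Fin 3) (Fin 3) F) 0 0 = 1 ∧ ((M : Matrix.SpecialLinearGroup (Fin 3) F) : Matrix (Fin 3) (Fin 3) F) 0 1 = 0 ∧ ((M : Matrix.SpecialLinearGroup (Fin 3) F) : Matrix (Fin 3) (Fin 3) F) 1 0 = 0 ∧ ((M : Matrix.SpecialLinearGroup (Fin 3) F) : Matrix (Fin 3) (Fin 3) F) 1 1 = 1) ∧ ∃ K : Subgroup ↥(Cfsg.qdOver F), (∀ M : ↥(Cfsg.qdOver F), M ∈ K ↔ ((M : Matrix.SpecialLinearGroup (Fin 3) F) : Matrix (Fin 3) (Fin 3) F) 0 2 = 0 ∧ ((M : Matrix.SpecialLinearGroup (Fin 3) F) : Matrix (Fin 3) (Fin 3) F) 1 2 = 0) ∧ K ⊓ Cfsg.pCore p ↥(Cfsg.qdOver F) = ⊥ ∧ K ⊔ Cfsg.pCore p ↥(Cfsg.qdOver F) = ⊤ ∧ Nonempty (↥K ≃* Matrix.SpecialLinearGroup (Fin 2) F) ∧ Cfsg.IsNaturalSL2Module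 F (Cfsg.pCore p ↥(Cfsg.qdOver F)) K := by
  rw [CfsgH9.pCore_qdOver]
  let ι : Matrix.SpecialLinearGroup (Fin 2) F →* qdOver F := MonoidHom.mk' (CfsgH9.qa 0) fun A B => by
    simp [CfsgH9.qa_mul]
  have hι : Function.Injective ι := fun _ _ h => (CfsgH9.qa_inj.1 h).2
  refine ⟨fun M => ?_, ι.range, fun M => ?_, ?_, ?_, ⟨(MonoidHom.ofInjective hι).symm⟩, Subgroup.le_normalizer_of_normal,
    (CfsgH9.qπ F).comp ι.range.subtype, CfsgH9.qVEquiv.symm, fun A => ⟨⟨_, A, rfl⟩, CfsgH9.qπ_qa 0 A⟩, ?_, ?_⟩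
  · obtain ⟨u, A, rfl⟩ := CfsgH9.exists_qa M
    exact CfsgH9.qa_mem_qV.trans ⟨by rintro rfl; exact ⟨rfl, rfl, rfl, rfl⟩, fun h => CfsgH9.sl2_ext h.1 h.2.1 h.2.2.1 h.2.2.2⟩
  · obtain ⟨u, A, rfl⟩ := CfsgH9.exists_qa M
    refine ⟨fun ⟨B, h⟩ => ?_, fun h => ⟨A, CfsgH9.qa_inj.2 ⟨funext fun i => ?_, rfl⟩⟩⟩
    · obtain ⟨rfl, -⟩ := CfsgH9.qa_inj.1 h
      exact ⟨rfl, rfl⟩
    · fin_cases i
      exacts [h.1.symm, h.2.symm]
  · refine eq_bot_iff.2 ?_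
    rintro _ ⟨⟨A, rfl⟩, h⟩
    rw [CfsgH9.qa_mem_qV.1 h, map_one]
    exact one_mem _
  · refine eq_top_iff.2 fun M _ => ?_
    obtain ⟨u, A, rfl⟩ := CfsgH9.exists_qa M
    have : CfsgH9.qa u A = CfsgH9.qa u 1 * ι A := by simp [ι, CfsgH9.qa_mul]
    exact this ▸ mul_mem (Subgroup.mem_sup_right (CfsgH9.qa_mem_qV.2 rfl)) (Subgroup.mem_sup_left ⟨A, rfl⟩)
  · rw [CfsgH9.centralizer_qV]; rfl
  · rintro ⟨_, A, rfl⟩ ⟨v, hv⟩
    obtain ⟨u, rfl⟩ := CfsgH9.mem_qV.1 hv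
    refine ⟨⟨_, CfsgH9.qa_mem_qV.2 rfl⟩, (CfsgH9.qa_conj 0 u A).symm, ?_⟩
    rw [AddEquiv.symm_apply_eq, show CfsgH9.qVEquiv.symm (Additive.ofMul ⟨_, hv⟩) = u from
      CfsgH9.qVEquiv.symm_apply_eq.2 rfl, show ((CfsgH9.qπ F).comp ι.range.subtype) ⟨_, A, rfl⟩ = A from CfsgH9.qπ_qa 0 A]
    rfl

end Cfsg.Agent.S2762
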