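import Cfsg.Statements.S2788
import Cfsg.Agent.H1.Nat3

set_option autoImplicit false
open Cfsg

namespace Cfsg.Agent.S2788

open CfsgH1 CfsgH1.L2 CfsgH1.Nat2 CfsgH2 Subgroup
open scoped IsMulCommutative commutatorElement

/-- Let H act faithfully by conjugation on the elementary abelian p-subgroup V of a finite group with H ≅ SL₂(F), F a field with p^n elements, S a Sylow p-subgroup of H, and A ≤ S a subgroup of order at least 3 acting quadratically on V ([V, A, A] = 1). Then |V/C_V(a)| ≥ p^n for every nonidentity a ∈ A. -/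
theorem result {G : Type*} [Group G] [Finite G] {p : ℕ} [Fact p.Prime] (V H : Subgroup G) (hV : Cfsg.IsElementaryAbelian p V) (hHV : H ≤ Subgroup.normalizer (V : Set G)) (hf : H ⊓ Subgroup.centralizer (V : Set G) = ⊥) {F : Type*} [Field F] [Fintype F] (n : ℕ) (hF : Fintype.card F = p ^ n) (hiso : Nonempty (↥H ≃* Matrix.SpecialLinearGroup (Fin 2) F)) (S : Sylow p ↥H) (T : Subgroup G) (hT : T = ((S : Subgroup ↥H).map H.subtype)) (A : Subgroup G) (hA : A ≤ T) (hA3 : 3 ≤ Nat.card A) (hquad : ⁅⁅V, A⁆, A⁆ = ⊥) : ∀ a ∈ A, a ≠ 1 → p ^ n ≤ ((V ⊓ Subgroup.centralizer ({a} : Set G))).relIndex V := by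
  classical
  obtain ⟨e0⟩ := hiso
  subst hT
  intro a ha a1
  have : CharP F p := charP_of_card_eq_prime_pow hF
  have := hV.1
  obtain ⟨g, hg⟩ := sylow_eq_US p (S.mapSurjective (f := e0.toMonoidHom) e0.surjective)
  let e : H ≃* S2 F := e0.trans (MulAut.conj g⁻¹)
  let ι : S2 F →* G := H.subtype.comp e.symm.toMonoidHom
  have ιG : ∀ s, ι s ∈ H := fun s => (e.symm s).2
  obtain ⟨y, rfl⟩ : ∃ y, ι (u y) = a := by
    obtain ⟨s, hs, rfl⟩ := hA ha
    have : e0 s ∈ cj g (US F) := hg ▸ ⟨s, hs, rfl⟩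
    obtain ⟨y, k⟩ := mem_US.1 (mem_cj.1 this)
    refine ⟨y, congrArg Subtype.val (e.symm_apply_eq.2 ?_)⟩
    rw [← u_eq]; simpa [e] using k
  have cv : ∀ s, ∀ v ∈ V, ι s * v * (ι s)⁻¹ ∈ V := fun s v k => (mem_normalizer_iff.1 (hHV (ιG s)) v).1 k
  let _ : DistribMulAction (S2 F) (Additive V) :=
    { smul := fun s v => Additive.ofMul ⟨ι s * v.toMul.1 * (ι s)⁻¹, cv s _ v.toMul.2⟩
      one_smul := fun v => Subtype.ext (show ι 1 * _ * (ι 1)⁻¹ = _ by simp; rfl)
      mul_smul := fun s t v => Subtype.ext (show ι (s * t) * _ * (ι (s * t))⁻¹ = ι s * (ι t * _ * (ι t)⁻¹) * (ι s)⁻¹ by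
        rw [map_mul]; group)
      smul_zero := fun s => Subtype.ext (show ι s * 1 * (ι s)⁻¹ = 1 by simp)
      smul_add := fun s v w => Subtype.ext (show ι s * (v.toMul.1 * w.toMul.1) * (ι s)⁻¹ =
        ι s * v.toMul.1 * (ι s)⁻¹ * (ι s * w.toMul.1 * (ι s)⁻¹) by group) }
  have sm : ∀ (s : S2 F) (v : Additive V), (s • v).toMul.1 = ι s * v.toMul.1 * (ι s)⁻¹ := fun _ _ => rfl
  have := Nat3.main (F := F) (A := Additive V) hF (fun a => Subtype.ext (hV.2 _ a.toMul.2)) (fun s k => by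
    have : ι s ∈ H ⊓ centralizer (V : Set G) := ⟨ιG s, mem_centralizer_iff.2 fun v hv =>
      (mul_inv_eq_iff_eq_mul.1 ((sm s (Additive.ofMul ⟨v, hv⟩)).symm.trans (congrArg (fun t => t.toMul.1) (k _)))).symm⟩
    rw [hf] at this
    exact e.symm.injective (Subtype.ext (this.trans (congrArg Subtype.val (map_one e.symm)).symm)))
    (t := y) (by rintro rfl; exact a1 (by rw [u_zero, map_one]))
  rw [← AddSubgroup.index_ker] at this
  refine this.trans (le_of_eq ?_)
  rw [relIndex, ← index_toAddSubgroup]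
  refine congrArg AddSubgroup.index (AddSubgroup.ext fun v => ?_)
  obtain ⟨v, rfl⟩ := Additive.ofMul.surjective v
  show _ ↔ v ∈ (V ⊓ centralizer {ι (u y)}).subgroupOf V
  rw [mem_subgroupOf, mem_inf, mem_centralizer_singleton_iff, and_iff_right v.2]
  refine (sub_eq_zero (a := u y • Additive.ofMul v) (b := Additive.ofMul v)).trans ⟨fun k => ?_, fun k => Subtype.ext ?_⟩
  · exact (mul_inv_eq_iff_eq_mul.1 ((sm _ _).symm.trans (congrArg (fun t => t.toMul.1) k))).symm
  · exact (sm _ _).trans (mul_inv_eq_iff_eq_mul.2 k.symm)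

end Cfsg.Agent.S2788
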