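import Cfsg.Statements.S2794
import Cfsg.Agent.H9.Qd

set_option autoImplicit false
open Cfsg

namespace Cfsg.Agent.S2794

/-- For an odd prime p and a finite group G, the group Qd(p) is not involved in G if and only if in every section K/R of G, for every Sylow p-subgroup S* of K/R, the centre of J(S*) (J generated by the abelian subgroups of largest order) controls strong fusion in K/R. -/
theorem result {G : Type*} [Group G] [Finite G] {p : ℕ} [Fact p.Prime] (hp : p ≠ 2) : ¬ Cfsg.Involves ↥(Cfsg.qd p) G ↔ ∀ (K R : Subgroup G) [hR : (R.subgroupOf K).Normal], ∀ T : Sylow p (K ⧸ R.subgroupOf K), Cfsg.ControlsStrongFusion p (Cfsg.centerThompsonAOf (T : Subgroup (K ⧸ R.subgroupOf K))) := by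
  simp only [CfsgH9.involves_iff, CfsgH9.centerThompsonAOf_eq]
  refine ⟨fun h K R _ T => CfsgH9.Ctrl.controlsStrongFusion T ((CfsgH9.sfun_ZJ (dvd_zero p)).le _) (CfsgH9.ctrl_ZJ hp
    (fun k => h ((CfsgH9.sec_quot K R).trans k)) T (CfsgH9.isStronglyClosed_self _) (Or.inl rfl)), fun h k => ?_⟩
  obtain ⟨K, R, _, ⟨e⟩⟩ := k.exists_equiv
  obtain ⟨S⟩ : Nonempty (Sylow p (K ⧸ R.subgroupOf K)) := inferInstance
  exact CfsgH9.not_csf_qd (CfsgH9.sfun_ZJ (dvd_zero p)) e S (h K R S)

end Cfsg.Agent.S2794
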