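import Cfsg.Statements.S2799
import Cfsg.Agent.H9.FF3

set_option autoImplicit false
open Cfsg

namespace Cfsg.Agent.S2799

/-- Let S be a Sylow p-subgroup of the finite group G, J(S) the subgroup generated by the abelian subgroups of S of largest order, and x an element of S lying in the centre of N_G(J(S)). Assume that p is odd, or that x is a p-th power of an element of Z(S), or that the symmetric group of degree 4 is not involved in G. Then x is weakly closed in S with respect to G: every G-conjugate of x that lies in S equals x. -/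
theorem result {G : Type*} [Group G] [Finite G] {p : ℕ} [Fact p.Prime] (S : Sylow p G) (x : G) (hxS : x ∈ (S : Subgroup G)) (hxZ : x ∈ (Subgroup.center ↥(Subgroup.normalizer ((Cfsg.thompsonSubgroupAOf (S : Subgroup G)) : Set G))).map (Subgroup.normalizer ((Cfsg.thompsonSubgroupAOf (S : Subgroup G)) : Set G)).subtype) (h : p ≠ 2 ∨ (∃ z ∈ (S : Subgroup G) ⊓ Subgroup.centralizer ((S : Subgroup G) : Set G), z ^ p = x) ∨ ¬ Cfsg.Involves (Equiv.Perm (Fin 4)) G) : ∀ g : G, g * x * g⁻¹ ∈ (S : Subgroup G) → g * x * g⁻¹ = x := by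
  rw [CfsgH9.thompsonAOf_eq] at hxZ
  have hW := (CfsgH9.sfun_J (dvd_zero p)).icf (G := G)
  have hWZ : ∀ P : Subgroup G, IsPGroup p P → CfsgH9.zc P ≤ thompsonSubgroupOf 0 P := fun P _ =>
    CfsgH9.center_le_ZJ_zero.trans inf_le_left
  have hx : x ∈ Subgroup.centralizer (Subgroup.normalizer (thompsonSubgroupOf 0 (S : Subgroup G) : Set G) : Set G) := by
    obtain ⟨y, hy, rfl⟩ := hxZ
    exact fun g hg => congrArg Subtype.val (Subgroup.mem_center_iff.1 hy ⟨g, hg⟩)
  have hS := CfsgH2.IsSylowIn.of_sylow_top S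
  rcases ne_or_eq p 2 with hp | rfl
  · refine CfsgH9.wc_elt hW hWZ hS hxS hx fun H T hT y h1 h2 h3 h4 => ?_
    obtain ⟨g, g1, g2, g3⟩ := CfsgH9.exists_quadratic_J' H T hT h3
    refine CfsgH9.central_of_chief hT.toSylow h1.2 (h2 h1) h4 g1 g2 fun U V c hU => ?_
    have := c.2.2.1
    have := (Fact.out : p.Prime).two_le
    exact CfsgH9.iter_le_of_le (m := 2) Subgroup.le_normalizer_of_normal (by omega)
      ((CfsgH9.iter_mono hU le_rfl 2).trans (g3.le.trans bot_le))
  rcases h.resolve_left (fun k => k rfl) with ⟨z, z1, rfl⟩ | h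
  · exact (CfsgH9.wc_of_quadratic hW hWZ CfsgH9.exists_quadratic_J' S rfl).1 _ ⟨Subgroup.subset_closure ⟨z, z1, rfl⟩, hx⟩
  refine CfsgH9.wc_elt hW hWZ hS hxS hx fun H T hT y h1 h2 h3 h4 => eq_top_iff.2 ?_
  refine (CfsgH9.thompson_fact (CfsgH9.not_sec_subgroup H fun k => h (CfsgH9.sec_qd_two_iff.1 k))
    (.of_sylow_top hT.toSylow) h2 (dvd_zero 2)).ge.trans (sup_le (Subgroup.centralizer_le (Set.singleton_subset_iff.2 h1))
    (h4 _ (Subgroup.le_normalizer.trans (CfsgH9.normalizer_le_normalizer_J _)) fun k => h3 ?_))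
  rw [← (CfsgH9.sfun_J (dvd_zero 2)).subgroupOf hT.pgroup hT.le]
  exact (Subgroup.range_subtype H).ge.trans ((MonoidHom.range_eq_map _).le.trans
    ((Subgroup.map_mono k.ge).trans (Subgroup.le_normalizer_map _)))

end Cfsg.Agent.S2799
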