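import Cfsg.Statements.S2803
import Cfsg.Agent.H2.CharP2

set_option autoImplicit false
open Cfsg

namespace Cfsg.Agent.S2803
open Subgroup CfsgH2
open scoped commutatorElement

open CfsgFT

/-- Let L be a finite group and p a prime with C_L(O_p(L)) ≤ O_p(L), T a Sylow p-subgroup, and Y the largest p-reduced normal subgroup of L. Put T_L = C_T(Y) and L_T = N_L(T_L). Then L = L_T · C_L(Y) (elementwise), T_L = O_p(L_T), and Y = Ω₁(Z(T_L)). -/
theorem result {L : Type*} [Group L] [Finite L] {p : ℕ} [Fact p.Prime] (hchar : Subgroup.centralizer (Cfsg.pCore p L : Set L) ≤ Cfsg.pCore p L) (T : Sylow p L) (Y : Subgroup L) (hY : (Cfsg.IsPReducedNormal p Y ∧ ∀ V : Subgroup L, Cfsg.IsPReducedNormal p V → V ≤ Y)) (TL : Subgroup L) (hTL : TL = (T : Subgroup L) ⊓ Subgroup.centralizer (Y : Set L)) : (∀ g : L, ∃ a ∈ Subgroup.normalizer (TL : Set L), ∃ c ∈ Subgroup.centralizer (Y : Set L), g = a * c) ∧ (Cfsg.pCore p ↥(Subgroup.normalizer (TL : Set L))).map (Subgroup.normalizer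 (TL : Set L)).subtype = TL ∧ Y = Cfsg.omegaOne p (TL ⊓ Subgroup.centralizer (TL : Set L)) := by
  have h := pred_top_iff.1 hY.1
  have hT := IsSylowIn.of_sylow_top T
  have e := YL_eq h fun V hV => hY.2 V (pred_top_iff.2 hV)
  have h1 := h.frattini hT
  subst hTL
  refine ⟨fun g => ?_, ?_, ?_⟩
  · rw [top_inf_eq, top_sup_eq] at h1
    have hn : N((T : Subgroup L) ⊓ C(Y)) ≤ N(C(Y)) := le_top.trans h.normC
    obtain ⟨a, ha, c, hc, e⟩ := (mem_sup_of_normalizer' hn).1 (h1.ge (mem_top g))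
    exact ⟨a, ha, c, hc, e.symm⟩
  · have := h.Op_eq hT (h.le_norm_cent le_top) le_rfl h1
    rwa [top_inf_eq] at this
  · have := YL_eq_oz (chP_top.2 hchar) hT
    rwa [e] at this


end Cfsg.Agent.S2803
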