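import Cfsg.Statements.S2806
import Cfsg.Agent.H2.Misc

set_option autoImplicit false
open Cfsg

namespace Cfsg.Agent.S2806
open Subgroup CfsgH2
open scoped commutatorElement

open CfsgFT CfsgLead

/-- Let H be a finite group of local characteristic p, T a Sylow p-subgroup, and L₁, L₂ subnormal subgroups of H generating the subgroup L. Then the point stabilizer of L with respect to T ∩ L is generated by the point stabilizers of L₁ and L₂ with respect to T ∩ L₁ and T ∩ L₂ (point stabilizer of X w.r.t. R: the subgroup generated by the p-elements of X centralizing Ω₁(Z(R))). -/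
theorem result {H : Type*} [Group H] [Finite H] {p : ℕ} [Fact p.Prime] (hH : Cfsg.IsOfLocalCharacteristic p H) (T : Sylow p H) (L₁ L₂ : Subgroup H) (h₁ : L₁.IsSubnormal) (h₂ : L₂.IsSubnormal) : Cfsg.pointStabilizer p (L₁ ⊔ L₂) ((T : Subgroup H) ⊓ (L₁ ⊔ L₂)) = Cfsg.pointStabilizer p L₁ ((T : Subgroup H) ⊓ L₁) ⊔ Cfsg.pointStabilizer p L₂ ((T : Subgroup H) ⊓ L₂) := by
  have hT := IsSylowIn.of_sylow_top T
  have hl : ∀ Q : Subgroup H, IsPGroup p Q → Q ≠ ⊥ → ChP p N(Q) := fun Q a b => chP_iff.1 (hH.2 Q a b)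
  obtain ⟨D, hD⟩ : ∃ D, D = C(omegaOne p Z((T : Subgroup H))) := ⟨_, rfl⟩
  have d1 : (T : Subgroup H) ≤ D := hD ▸ le_cent_oz _
  have d2 := hT.mono d1 le_top
  have k : ∀ L : Subgroup H, SN L ⊤ → pointStabilizer p L ((T : Subgroup H) ⊓ L) = pElementClosure p (L ⊓ D) := by
    intro L hL
    change pElementClosure p (L ⊓ _) = _
    by_cases e : (T : Subgroup H) ⊓ L = ⊥
    · have := (sylow_inf_sn hT hL).eq_bot_iff.1 e
      have a : ∀ X : Subgroup H, pElementClosure p (L ⊓ X) = ⊥ := fun X => le_bot_iff.1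
        (pec_le_of_not_dvd (le_norm_bot _) (by
          rw [relIndex_bot_left]; exact fun h => this (h.trans (card_dvd_of_le inf_le_left))))
      rw [a, a]
    · rw [hD, kieler_local hl hT hL e]
  have s1 := SN.top_iff.2 h₁
  have s2 := SN.top_iff.2 h₂
  have s := CfsgH1.sn_sup s1 s2
  rw [k _ s, k _ s1, k _ s2]
  refine le_antisymm ?_ (sup_le (pec_mono (inf_le_inf_right _ le_sup_left)) (pec_mono (inf_le_inf_right _ le_sup_right)))
  have a : ∀ L : Subgroup H, SN L ⊤ → SN (pElementClosure p (L ⊓ D)) D := fun L hL =>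
    (SN.of_normal (pec_le _) (le_norm_pec le_normalizer)).trans (hL.inf_left le_top)
  have b : ∀ L : Subgroup H, L ⊓ ((T : Subgroup H) ⊓ (L₁ ⊔ L₂)) ≤ pElementClosure p (L ⊓ D) := fun L =>
    le_pec (T.2.to_le (inf_le_right.trans inf_le_left)) (inf_le_inf_left _ (inf_le_left.trans d1))
  refine pec_le_of_sn ((CfsgH1.sn_sup (a _ s1) (a _ s2)).mono (sup_le ((pec_le _).trans (inf_le_inf_right _ le_sup_left))
    ((pec_le _).trans (inf_le_inf_right _ le_sup_right))) inf_le_right)
    ((sylow_inf_sn hT s).mono (le_inf inf_le_right (inf_le_left.trans d1)) inf_le_left) ?_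
  exact (syl_sup_sn _ L₁ L₂ _ (s1.mono le_sup_left le_top) (s2.mono le_sup_right le_top) rfl
    (sylow_inf_sn hT s)).trans (sup_le_sup (b _) (b _))


end Cfsg.Agent.S2806
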