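import Cfsg.Statements.S2807
import Cfsg.Agent.FS.Bis3

set_option autoImplicit false
open Cfsg

namespace Cfsg.Agent.S2807

open CfsgH9 CfsgFS

/-- Let S be a Sylow p-subgroup of the finite group G. If S ∩ G' ≠ S ∩ (N_G(S))' (derived subgroups), then the wreath product Z_p ≀ Z_p — realised as a Sylow p-subgroup of the symmetric group of degree p² — is a homomorphic image of S. -/
theorem result {G : Type*} [Group G] [Finite G] {p : ℕ} [Fact p.Prime] (S : Sylow p G) (h : (S : Subgroup G) ⊓ commutator G ≠ (S : Subgroup G) ⊓ ⁅Subgroup.normalizer ((S : Subgroup G) : Set G), Subgroup.normalizer ((S : Subgroup G) : Set G)⁆) : ∃ (P : Sylow p (Equiv.Perm (Fin (p ^ 2)))) (f : ↥(S : Subgroup G) →* ↥(P : Subgroup (Equiv.Perm (Fin (p ^ 2))))), Function.Surjective f := by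
  have h1 := isGF_group (S : Subgroup G)
  have h2 := isGF_sub (S := (S : Subgroup G)) Subgroup.le_normalizer
  have h3 := (syl_top S).mono Subgroup.le_normalizer le_top
  refine (h1.sat (syl_top S)).yoshida (h2.sat h3) (h2.sub h1 le_rfl le_top) ?_ ?_
  · rw [h1.autGroup le_rfl, h2.autGroup le_rfl, ← AS_inf, top_inf_eq]
  · rw [h1.foc (syl_top S), h2.foc h3, inf_comm, inf_comm _ (S : Subgroup G)]
    exact h.symm

end Cfsg.Agent.S2807
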