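import Cfsg.Statements.S2810
import Cfsg.Agent.H2.CharP2

set_option autoImplicit false
open Cfsg

namespace Cfsg.Agent.S2810
open Subgroup CfsgH2
open scoped commutatorElement

open CfsgFT

/-- Let H be a finite group of characteristic p and L a subgroup of H centralizing every factor of some H-invariant chain 1 = A₀ ≤ A₁ ≤ … ≤ Aₙ = O_p(H) of normal subgroups (that is, [A_{i+1}, L] ≤ Aᵢ for each i). Then L ≤ O_p(H). -/
theorem result {H : Type*} [Group H] [Finite H] {p : ℕ} [Fact p.Prime] (hchar : Subgroup.centralizer (Cfsg.pCore p H : Set H) ≤ Cfsg.pCore p H) (L : Subgroup H) (n : ℕ) (A : Fin (n + 1) → Subgroup H) (h0 : A 0 = ⊥) (hn : A (Fin.last n) = Cfsg.pCore p H) (hmono : Monotone A) (hnorm : ∀ i, (A i).Normal) (hcent : ∀ i : Fin n, ⁅A i.succ, L⁆ ≤ A i.castSucc) : L ≤ Cfsg.pCore p H := by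
  have key : ∀ i, resIn p (ncl ⊤ L) ≤ C(A i) := fun i => by
    induction i using Fin.induction with
    | zero => rw [h0]; exact le_cent_bot _
    | succ i ih =>
      have hp' : IsPGroup p (A i.castSucc) := (CfsgH1.isPGroup_pCore p H).to_le (hn ▸ hmono (Fin.le_last _))
      refine res_le_cent_of_comm_le hp' ((commutator_mono le_rfl (resIn_le _)).trans ?_) ih
      haveI := hnorm i.castSucc
      haveI := hnorm i.succ
      have hN : ∀ X : Subgroup H, X ≤ N(A i.castSucc) := fun X => by rw [normalizer_eq_top]; exact le_top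
      rw [commutator_comm, ← le_centMod_iff (hN _)]
      refine ncl_le_iff.2 fun g _ => (le_centMod_iff (hN _)).2 ?_
      rw [← cj_eq_of_normal g (A i.succ), ← cj_commutator, ← cj_eq_of_normal g (A i.castSucc), commutator_comm]
      exact cj_mono g (hcent i)
  have := (chP_top.2 hchar).pg le_top (A := ncl ⊤ L) (by rw [Op_top, ← hn]; exact key _)
  rw [← Op_top]
  exact (le_ncl ⊤ L).trans (le_Op le_top (le_norm_ncl ⊤ L) this)


end Cfsg.Agent.S2810
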