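import Cfsg.Statements.S2813
import Cfsg.Agent.H2.CharP2

set_option autoImplicit false
open Cfsg

namespace Cfsg.Agent.S2813
open Subgroup CfsgH2
open scoped commutatorElement

open CfsgFT

/-- Let K be a subgroup of the finite group H with O_p(K) = 1 and Y a p-subgroup of N_H(K) with [K, Y, Y] = 1. Then [K, Y] = 1. -/
theorem result {H : Type*} [Group H] [Finite H] {p : ℕ} [Fact p.Prime] (K : Subgroup H) (hO : Cfsg.pCore p ↥K = ⊥) (Y : Subgroup H) (hY : IsPGroup p ↥Y) (hYK : Y ≤ Subgroup.normalizer (K : Set H)) (hq : ⁅⁅K, Y⁆, Y⁆ = ⊥) : ⁅K, Y⁆ = ⊥ := by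
  have h1 : Y ≤ C(⁅K, Y⁆) := cent_symm (cent_of_comm_eq_bot hq)
  have h2 : ⁅K, Y⁆ ≤ C(⁅K, Y⁆) := (comm_le_ncl K Y).trans (ncl_le h1
    (le_normalizer_centralizer' (normalizer_commutator_ge_left _ _)))
  have h3 : ⁅K, Y⁆ ≤ pCoreOf p ⁅K, Y⁆ := by
    refine commutator_le.2 fun k hk y hy => ?_
    have h4 : ⁅k, y⁆ ∈ ⁅K, Y⁆ := commutator_mem_commutator hk hy
    obtain ⟨n, hn⟩ := hY ⟨y, hy⟩
    have hn' : y ^ p ^ n = 1 := congrArg Subtype.val hn
    have h5 : ⁅k, y⁆ ^ p ^ n = 1 := by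
      rw [← commutatorElement_pow_right' (h1 hy _ h4), hn', commutatorElement_one_right]
    refine le_Op (zpowers_le.2 h4) (le_norm_of_comm h2 (zpowers_le.2 h4)) ?_ (mem_zpowers _)
    obtain ⟨j, -, hj⟩ := (Nat.dvd_prime_pow Fact.out).1 (orderOf_dvd_of_pow_eq_one h5)
    exact isPGroup_zpowers_of_orderOf hj
  have := le_Op (comm_le_left hYK) (normalizer_commutator_ge_left _ _) ((Op_pg _).to_le h3)
  rwa [Op_eq_bot_iff.2 hO, le_bot_iff] at this


end Cfsg.Agent.S2813
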