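import Cfsg.Statements.S2814
import Cfsg.Agent.H2.CharP2

set_option autoImplicit false
open Cfsg

namespace Cfsg.Agent.S2814
open Subgroup CfsgH2
open scoped commutatorElement

open CfsgFT CfsgLead

/-- Let A be a subgroup of the finite group H and K the subnormal closure of A (intersection of the subnormal subgroups containing A). Then K is the normal closure of A inside K and N_H(A) ≤ N_H(K); K = A·O^p(K), O^p(K) being generated by the elements of K of order prime to p; and if A is a p-group, O^p(K) = [O^p(K), A]. -/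
theorem result {H : Type*} [Group H] [Finite H] {p : ℕ} [Fact p.Prime] (A : Subgroup H) (K : Subgroup H) (hK : K = Cfsg.subnormalClosure A) : (Subgroup.normalClosure ((A.subgroupOf K : Subgroup ↥K) : Set ↥K)).map K.subtype = K ∧ Subgroup.normalizer (A : Set H) ≤ Subgroup.normalizer (K : Set H) ∧ A ⊔ (Cfsg.pResidual p ↥K).map K.subtype = K ∧ (IsPGroup p ↥A → ⁅(Cfsg.pResidual p ↥K).map K.subtype, A⁆ = (Cfsg.pResidual p ↥K).map K.subtype) := by
  have hAK : A ≤ K := hK ▸ le_sInf fun _ h => h.1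
  have hmin : ∀ X, A ≤ X → SN X ⊤ → K ≤ X := fun X h1 h2 => hK ▸ sInf_le ⟨h1, SN.top_iff.1 h2⟩
  have hsn : SN K ⊤ := by
    obtain ⟨B, -, ⟨h1, h2⟩, h3⟩ := exists_minimal_subgroup (Φ := fun X => A ≤ X ∧ SN X ⊤) (A := ⊤)
      ⟨le_top, SN.refl _⟩
    have : K = B := le_antisymm (hmin B h1 h2) (hK ▸ le_sInf fun X hX =>
      (h3 (B ⊓ X) ⟨le_inf h1 hX.1, h2.inf_sn (SN.top_iff.2 hX.2)⟩ inf_le_left).ge.trans inf_le_right)
    rwa [this]
  have h1 : ncl K A = K := le_antisymm (ncl_le_of_le hAK) (hmin _ (le_ncl K A)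
    ((SN.of_normal (ncl_le_of_le hAK) (le_norm_ncl K A)).trans hsn))
  have h2 : A ⊔ resIn p K = K := le_antisymm (sup_le hAK (resIn_le K)) (hmin _ le_sup_left
    ((sn_of_res_le le_sup_right (sup_le hAK (resIn_le K))).trans hsn))
  rw [map_normalClosure_subgroupOf hAK, map_pResidual]
  refine ⟨h1, fun g hg => mem_normalizer_of_cj_le (cj_le_iff_le_cj_inv.2 (hmin _ ?_ ?_)), h2, fun hA => ?_⟩
  · exact le_cj_of_norm (inv_mem hg) hAK
  · exact CfsgH1.sn_cj hsn (le_norm_top _ (mem_top _))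
  · have h3 := ncl_sup_of_norm (le_normalizer (H := A)) (hAK.trans (le_normalizer_resIn (p := p) K))
    rw [h2, h1] at h3
    exact comm_res_eq_of_le_ncl hA (le_norm_of_le hAK) (h3 ▸ resIn_le K)


end Cfsg.Agent.S2814
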