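import Cfsg.Statements.S2815
import Cfsg.Agent.H2.FStar

set_option autoImplicit false
open Cfsg

namespace Cfsg.Agent.S2815
open Subgroup CfsgH2
open scoped commutatorElement

open CfsgFT CfsgLead

/-- Let H be a finite group and p a prime dividing its order with O_p(H) = 1, and suppose K = O^p(H) (generated by the elements of order prime to p) is quasisimple. Then K = F*(H); for every nontrivial p-subgroup Y of H, K = [K, Y] and K lies in the subgroup generated by the K-conjugates of Y; every normal subgroup of H not containing K has order prime to p; and H is p-irreducible. -/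
theorem result {H : Type*} [Group H] [Finite H] {p : ℕ} [Fact p.Prime] (hp : p ∣ Nat.card H) (hO : Cfsg.pCore p H = ⊥) (hq : Cfsg.IsQuasisimple ↥(Cfsg.pResidual p H)) : Cfsg.pResidual p H = Cfsg.generalizedFittingSubgroup H ∧ (∀ Y : Subgroup H, IsPGroup p ↥Y → Y ≠ ⊥ → ⁅Cfsg.pResidual p H, Y⁆ = Cfsg.pResidual p H ∧ Cfsg.pResidual p H ≤ ⨆ k : ↥(Cfsg.pResidual p H), Y.map (MulAut.conj (k : H)).toMonoidHom) ∧ (∀ C : Subgroup H, C.Normal → ¬ Cfsg.pResidual p H ≤ C → (Nat.card ↥C).Coprime p) ∧ Cfsg.IsPIrreducible p H := by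
  have hO' : pCoreOf p (⊤ : Subgroup H) = ⊥ := Op_top.trans hO
  have sK : SN (pResidual p H) ⊤ := SN.top_iff.2 (Subgroup.Normal.isSubnormal inferInstance)
  have e : pResidual p H = fstarOf ⊤ := by
    rw [fstar_eq]
    refine le_antisymm (le_sup_of_le_left (le_layerOf sK hq)) (sup_le ?_ ?_)
    · have h1 : IsPGroup p ((layerOf ⊤).map (QuotientGroup.mk' (pResidual p H))) :=
        (isPGroup_quotient_pResidual p H).to_subgroup _
      have h2 := eq_bot_of_perfect_of_solvable (K := (layerOf ⊤).map (QuotientGroup.mk' (pResidual p H)))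
        (by rw [← map_commutator, layerOf_perfect]) (isSolvable_of_nilpotent h1.isNilpotent)
      rwa [Subgroup.map_eq_bot_iff, QuotientGroup.ker_mk'] at h2
    · rw [← resIn_top, ← resIn_eq_self_of_not_dvd (isPi_compl_singleton_iff.1 (fit_p' hO'))]
      exact resIn_mono le_top
  have c : ∀ Y : Subgroup H, IsPGroup p Y → ⁅pResidual p H, Y⁆ = ⊥ → Y = ⊥ := fun Y a b =>
    eq_bot_of_cent_fstar hO' a le_top (cent_symm (e ▸ cent_of_comm_eq_bot b))
  have d : ∀ D : Subgroup H, D.Normal → ¬ pResidual p H ≤ D → ¬ p ∣ Nat.card D := fun D hD h => by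
    obtain ⟨S, hS⟩ := IsSylowIn.exists_sylowIn p D
    exact hS.eq_bot_iff.1 (c S hS.pgroup (le_bot_iff.1 ((commutator_mono le_rfl hS.le).trans
      ((qs_le_or_commute hq ⊤ D sK (SN.top_iff.2 hD.isSubnormal)).resolve_left h).le)))
  refine ⟨e.trans fstar_top, fun Y hY h => ?_, fun D hD h => ((Nat.Prime.coprime_iff_not_dvd Fact.out).2
    (d D hD h)).symm, fun h => ?_, fun D hD h => by_contra fun h' => h (pcl_iff.2 (pcl_of_not_dvd (d D hD h')))⟩
  · have f : ⁅pResidual p H, Y⁆ = pResidual p H := (qs_normal hq (commutator_le_left _ _)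
      (normalizer_commutator_ge_left _ _)).resolve_right fun h' => h (c Y hY (commutator_eq_bot_of_perfect
        (qs_perfect hq) (by rwa [Subgroup.commutator_comm Y])))
    exact ⟨f, by rw [iSup_cj_eq_ncl]; exact f.ge.trans (comm_le_ncl _ _)⟩
  · exact (pcl_top_iff.1 h).sylow.eq_bot_iff.1 hO' (by rwa [Subgroup.card_top])


end Cfsg.Agent.S2815
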