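import Cfsg.Statements.S2816
import Cfsg.Agent.H2.FStar

set_option autoImplicit false
open Cfsg

namespace Cfsg.Agent.S2816
open Subgroup CfsgH2
open scoped commutatorElement

open CfsgFT CfsgLead

/-- Let H be a finite group and p a prime with O_p(H) = 1, and Y a p-subgroup of H. Then for every subnormal subgroup K of H containing Y, [F*(H), Y] = [F*(K), Y] = [F*(K), Y, Y]; and if Y₀ ≤ Y with [F*(H), Y, Y₀] = 1 then Y₀ = 1 (in particular [F*(H), Y] = 1 forces Y = 1). -/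
theorem result {H : Type*} [Group H] [Finite H] {p : ℕ} [Fact p.Prime] (hO : Cfsg.pCore p H = ⊥) (Y : Subgroup H) (hY : IsPGroup p ↥Y) : (∀ K : Subgroup H, K.IsSubnormal → Y ≤ K → ⁅Cfsg.generalizedFittingSubgroup H, Y⁆ = ⁅(Cfsg.generalizedFittingSubgroup ↥K).map K.subtype, Y⁆ ∧ ⁅(Cfsg.generalizedFittingSubgroup ↥K).map K.subtype, Y⁆ = ⁅⁅(Cfsg.generalizedFittingSubgroup ↥K).map K.subtype, Y⁆, Y⁆) ∧ (∀ Y₀ : Subgroup H, Y₀ ≤ Y → ⁅⁅Cfsg.generalizedFittingSubgroup H, Y⁆, Y₀⁆ = ⊥ → Y₀ = ⊥) := by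
  have hO' : pCoreOf p (⊤ : Subgroup H) = ⊥ := Op_top.trans hO
  have e := fstar_comm_comm hO' hY (le_norm_of_le le_top)
  rw [← fstar_top]
  refine ⟨fun K hK hYK => ?_, fun Y₀ h1 h2 => eq_bot_of_quad_fstar hO' (hY.to_le h1) le_top (le_bot_iff.1
    ((commutator_mono (commutator_mono le_rfl h1) le_rfl).trans h2.le))⟩
  have hs := SN.top_iff.2 hK
  refine ⟨?_, (fstar_comm_comm (Op_eq_bot_of_sn hs hO') hY (le_norm_of_le hYK)).symm⟩
  have h : ⁅fstarOf ⊤, Y⁆ ≤ K := SN.induction (P := fun K => Y ≤ K → ⁅fstarOf ⊤, Y⁆ ≤ K) (fun _ => le_top)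
    (fun A B h1 h2 _ ih h => e.ge.trans ((commutator_mono (ih (h.trans h1)) h).trans (comm_le_right h2))) hs hYK
  refine le_antisymm (e.ge.trans (commutator_mono ?_ le_rfl)) (commutator_mono (fstar_le_of_sn hs) le_rfl)
  exact (le_inf (comm_le_left (le_norm_fstar (le_norm_of_le le_top))) h).trans (fstar_eq_of_sn hs).ge


end Cfsg.Agent.S2816
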