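import Cfsg.Statements.S2817
import Cfsg.Agent.H2.FStar

set_option autoImplicit false
open Cfsg

namespace Cfsg.Agent.S2817
open Subgroup CfsgH2
open scoped commutatorElement

open CfsgFT CfsgLead

/-- Let H be a finite group and p a prime with O_p(H) = 1, Q a p-subgroup of H, L = [F*(H), Q], and F the largest normal subgroup of F*(H) centralized by Q (a normal subgroup of F*(H) centralized by Q and containing every such). Then F = C_{F*(H)}(LQ); L = [L, Q]; L ∩ F ≤ Φ(L); every p-subgroup B of N_H(Q) with [L, B] ≤ F satisfies [L, B] = 1; and C_H(FL) has order prime to p. -/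
theorem result {H : Type*} [Group H] [Finite H] {p : ℕ} [Fact p.Prime] (hO : Cfsg.pCore p H = ⊥) (Q : Subgroup H) (hQ : IsPGroup p ↥Q) (L : Subgroup H) (hL : L = ⁅Cfsg.generalizedFittingSubgroup H, Q⁆) (F : Subgroup H) (hF : F ≤ Cfsg.generalizedFittingSubgroup H ∧ Cfsg.generalizedFittingSubgroup H ≤ Subgroup.normalizer (F : Set H) ∧ Q ≤ Subgroup.centralizer (F : Set H) ∧ ∀ N : Subgroup H, N ≤ Cfsg.generalizedFittingSubgroup H → Cfsg.generalizedFittingSubgroup H ≤ Subgroup.normalizer (N : Set H) → Q ≤ Subgroup.centralizer (N : Set H) → N ≤ F) : F = Cfsg.generalizedFittingSubgroup H ⊓ Subgroup.centralizer ((L ⊔ Q : Subgroup H) : Set H) ∧ ⁅L, Q⁆ = L ∧ L ⊓ F ≤ (frattini ↥L).map L.subtype ∧ (∀ B : Subgroup H, IsPGroup p ↥B → B ≤ Subgroup.normalizer (Q : Set H) → ⁅L, B⁆ ≤ F → ⁅L, B⁆ = ⊥) ∧ (Nat.card ↥(Subgroup.centralizer ((F ⊔ L : Subgroup H) : Set H))).Coprime p := by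
  have hO' : pCoreOf p (⊤ : Subgroup H) = ⊥ := Op_top.trans hO
  rw [← fstar_top] at hL hF ⊢
  obtain ⟨E, hE⟩ : ∃ E, E = fstarOf (⊤ : Subgroup H) := ⟨_, rfl⟩
  have nE : ∀ X : Subgroup H, X ≤ N(E) := fun X => hE ▸ le_norm_fstar (le_norm_of_le le_top)
  have sE : SN E ⊤ := hE ▸ fstar_sn ⊤
  have fE : ∀ X : Subgroup H, X ≤ E → E ≤ N(X) → fstarOf X = X ∧ pCoreOf p X = ⊥ := fun X a b =>
    ⟨fstar_eq_self ((SN.of_normal a b).trans sE) (hE ▸ a), Op_eq_bot_of_sn ((SN.of_normal a b).trans sE) hO'⟩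
  have h2 : ⁅L, Q⁆ = L := by rw [hL]; exact fstar_comm_comm hO' hQ (le_norm_of_le le_top)
  rw [← hE] at hL hF ⊢
  obtain ⟨a, b, c, d⟩ := hF
  have LE : L ≤ E := hL ▸ comm_le_left (nE Q)
  have nL : E ≤ N(L) := hL ▸ normalizer_commutator_ge_left _ _
  have QL : Q ≤ N(L) := hL ▸ normalizer_commutator_ge_right _ _
  have e : L ⊔ Q = ncl E Q := by rw [ncl_eq_sup, hL]
  have h1 : F = E ⊓ C(L ⊔ Q) := by
    rw [e]
    exact le_antisymm (le_inf a (ncl_le_cent (cent_symm c) b)) (d _ inf_le_left (le_normalizer_inf' le_normalizer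
      (le_normalizer_centralizer' (le_norm_ncl E Q))) (cent_symm (inf_le_right.trans (cent_anti (le_ncl E Q)))))
  have FL : F ≤ C(L) := h1.le.trans (inf_le_right.trans (cent_anti le_sup_left))
  have h3 : L ⊓ F ≤ (frattini L).map L.subtype := le_trans (le_inf (inf_le_right.trans FL)
    ((inf_le_inf_left _ (cent_symm c)).trans (cent_le_der_of_comm_eq (fE L LE nL).1 (fE L LE nL).2 hQ QL h2)))
      (cent_inf_der_le_frattini L)
  refine ⟨h1, h2, h3, fun B hB hn h => ?_, ?_⟩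
  · have BL : B ≤ N(L) := hL ▸ le_normalizer_commutator' (nE B) hn
    have := eq_of_sup_map_frattini (H := L) (K := L ⊓ C(B)) inf_le_left (le_antisymm (sup_le inf_le_left
      (map_subtype_le _)) ((fstar_le_comm_sup_cent (fE L LE nL).1 (fE L LE nL).2 hB BL).trans (sup_le
        (le_sup_of_le_right ((le_inf (comm_le_left BL) h).trans h3)) le_sup_left)))
    exact comm_eq_bot (this.ge.trans inf_le_right)
  · obtain ⟨S, hS⟩ := IsSylowIn.exists_sylowIn p C(F ⊔ L)
    refine ((Nat.Prime.coprime_iff_not_dvd Fact.out).2 (hS.eq_bot_iff.1 (eq_bot_of_quad_fstar hO' hS.pgroup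
      le_top ?_))).symm
    rw [← hE]
    have nD : E ≤ N(E ⊓ C(L)) := le_normalizer_inf' le_normalizer (le_normalizer_centralizer' nL)
    have k : E ⊓ C(L) ≤ F ⊔ L := (fstar_le_comm_sup_cent (fE _ inf_le_left nD).1 (fE _ inf_le_left nD).2 hQ
      (le_normalizer_inf' (nE Q) (le_normalizer_centralizer' QL))).trans (sup_le (le_sup_of_le_right ((commutator_mono inf_le_left
        le_rfl).trans hL.ge)) (le_sup_of_le_left (by rw [h1, cent_sup, inf_assoc])))
    have SL : S ≤ C(L) := hS.le.trans (cent_anti le_sup_right)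
    have t : ⁅⁅E, S⁆, L⁆ = ⊥ := three_subgroups_bot (by rw [comm_eq_bot SL, commutator_bot_left]) (le_bot_iff.1
      ((commutator_mono (comm_le_left nL) le_rfl).trans (comm_eq_bot (cent_symm SL)).le))
    exact comm_eq_bot (((le_inf (comm_le_left (nE S)) (cent_of_comm_eq_bot t)).trans k).trans (cent_symm hS.le))


end Cfsg.Agent.S2817
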