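import Cfsg.Statements.S2818
import Cfsg.Agent.H2.CharP2

set_option autoImplicit false
open Cfsg

namespace Cfsg.Agent.S2818
open Subgroup CfsgH2
open scoped commutatorElement

open CfsgFT

/-- Let P be a finite p-subgroup of a group G and H a subgroup of N_G(P) with [P, H] ≤ Ω₁(Z(P)) (the elements of order dividing p in the centre of P). Then H centralizes the Frattini subgroup of P. -/
theorem result {G : Type*} [Group G] [Finite G] {p : ℕ} [Fact p.Prime] (P : Subgroup G) (hP : IsPGroup p ↥P) (H : Subgroup G) (hH : H ≤ Subgroup.normalizer (P : Set G)) (h : ⁅P, H⁆ ≤ Cfsg.omegaOne p (P ⊓ Subgroup.centralizer (P : Set G))) : ⁅(frattini ↥P).map P.subtype, H⁆ = ⊥ := by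
  refine comm_eq_bot (map_frattini_le (p := p) ?_ fun x hx => ?_)
  · refine cent_of_comm_eq_bot ?_
    have h1 : ⁅⁅P, H⁆, P⁆ = ⊥ := comm_eq_bot (h.trans (oz_le_cent P))
    exact three_subgroups_bot h1 (by rwa [commutator_comm H P])
  · intro y hy
    have h1 := mem_oz.1 (h (commutator_mem_commutator hx hy))
    have h2 := commutatorElement_pow_left' (x := x) (y := y) (h1.1.2 x hx).symm p
    rw [h1.2] at h2
    exact (commutatorElement_eq_one_iff_commute.1 h2).symm


end Cfsg.Agent.S2818
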