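import Cfsg.Statements.S2819
import Cfsg.Agent.H2.CharP2

set_option autoImplicit false
open Cfsg

namespace Cfsg.Agent.S2819
open Subgroup CfsgH2
open scoped commutatorElement

open CfsgFT

/-- Let P be a finite p-subgroup of a group G, H a subgroup of N_G(P), and Y a subgroup of H centralizing the derived subgroup P' such that [P, Y] is elementary abelian. Then O^p(⟨Y^H⟩), the subgroup of the normal closure of Y in H generated by its elements of order prime to p, centralizes the Frattini subgroup of P. -/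
theorem result {G : Type*} [Group G] [Finite G] {p : ℕ} [Fact p.Prime] (P : Subgroup G) (hP : IsPGroup p ↥P) (H : Subgroup G) (hH : H ≤ Subgroup.normalizer (P : Set G)) (Y : Subgroup G) (hYH : Y ≤ H) (hYc : Y ≤ Subgroup.centralizer ((⁅P, P⁆ : Subgroup G) : Set G)) (hel : Cfsg.IsElementaryAbelian p ⁅P, Y⁆) (NY : Subgroup G) (hNY : NY = (Subgroup.normalClosure ((Y.subgroupOf H : Subgroup ↥H) : Set ↥H)).map H.subtype) : (Cfsg.pResidual p ↥NY).map NY.subtype ≤ Subgroup.centralizer (((frattini ↥P).map P.subtype : Subgroup G) : Set G) := by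
  rw [map_pResidual, hNY, map_normalClosure_subgroupOf hYH]
  have hD : ⁅P, P⁆ ≤ P := der_le P
  have hDn : H ≤ N(⁅P, P⁆) := le_normalizer_commutator' hH hH
  have hF : H ≤ N((frattini P).map P.subtype) := hH.trans (normalizer_le_normalizer_map_frattini P)
  refine res_le_cent_of_comm_le (hP.to_le hD) ((commutator_mono le_rfl (resIn_le _)).trans ?_)
    ((resIn_le _).trans (ncl_le hYc (le_normalizer_centralizer' hDn)))
  rw [commutator_comm, ← le_centMod_iff ((ncl_le_of_le hYH).trans hDn)]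
  have key : ⁅Y, (frattini P).map P.subtype⁆ ≤ ⁅P, P⁆ := by
    have hPn : P ≤ N(⁅P, P⁆) := normalizer_commutator_ge_left _ _
    rw [commutator_comm, ← le_centMod_iff ((map_subtype_le _).trans hPn)]
    refine map_frattini_le (p := p) ((le_centMod_iff (hD.trans hPn)).2 ?_) fun x hx => ?_
    · rw [comm_eq_bot (cent_symm hYc)]; exact bot_le
    · refine mem_centMod.2 ⟨hPn (pow_mem hx _), fun y hy => ?_⟩
      have hYP := hYH.trans hH
      have hc : ⁅x⁻¹, y⁆ ∈ ⁅P, Y⁆ := commutator_mem_commutator (inv_mem hx) hy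
      have hcP := comm_le_left hYP hc
      have e1 : y * x * y⁻¹ = x * ⁅x⁻¹, y⁆ := by rw [commutatorElement_def]; group
      apply comm_mem_symm
      have e2 : y * x ^ p * y⁻¹ * (x ^ p)⁻¹ = (x * ⁅x⁻¹, y⁆) ^ p * (x ^ p)⁻¹ := by rw [← e1, conj_pow]
      rw [e2]
      have e3 : Commute (qm ⁅P, P⁆ ⟨x, hPn hx⟩) (qm ⁅P, P⁆ ⟨⁅x⁻¹, y⁆, hPn hcP⟩) := by
        rw [← commutatorElement_eq_one_iff_commute, ← map_commutatorElement, qm_eq_one]
        exact commutator_mem_commutator hx hcP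
      have e4 : (⟨⁅x⁻¹, y⁆, hPn hcP⟩ : N(⁅P, P⁆)) ^ p = 1 := Subtype.ext (hel.2 _ hc)
      have : qm ⁅P, P⁆ ((⟨x, hPn hx⟩ * ⟨⁅x⁻¹, y⁆, hPn hcP⟩) ^ p * (⟨x, hPn hx⟩ ^ p)⁻¹) = 1 := by
        rw [map_mul, map_pow, map_mul, e3.mul_pow, ← map_pow _ (⟨⁅x⁻¹, y⁆, hPn hcP⟩ : N(⁅P, P⁆)), e4,
          map_one, mul_one, map_inv, map_pow, mul_inv_cancel]
      exact qm_eq_one.1 this
  refine ncl_le_iff.2 fun g hg => (le_centMod_iff ((cj_le_of_mem hg hYH).trans hDn)).2 ?_
  rw [← cj_eq_of_norm (hF hg), ← cj_commutator, ← cj_eq_of_norm (hDn hg)]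
  exact cj_mono g key


end Cfsg.Agent.S2819
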