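import Cfsg.Statements.S2823
import Cfsg.Agent.H2.CharP2

set_option autoImplicit false
open Cfsg

namespace Cfsg.Agent.S2823
open Subgroup CfsgH2
open scoped commutatorElement

open CfsgFT CfsgLead

/-- Let H be a finite group, p a prime, T a Sylow p-subgroup and L a subgroup of characteristic p containing T; let Z_L be the subgroup generated by the Ω₁(Z(S)) over the Sylow p-subgroups S of L and O^p(L) the subgroup generated by the elements of L of order prime to p. Then Z_L = Ω₁(Z(L))·[Z_L, O^p(L)] and [Z_L, L] = [Z_L, O^p(L)]. -/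
theorem result {H : Type*} [Group H] [Finite H] {p : ℕ} [Fact p.Prime] (T : Sylow p H) (L : Subgroup H) (hTL : (T : Subgroup H) ≤ L) (hL : Subgroup.centralizer (Cfsg.pCore p ↥L : Set ↥L) ≤ Cfsg.pCore p ↥L) : Cfsg.sylowCenterClosure p L = (Cfsg.omegaOne p (L ⊓ Subgroup.centralizer ((L : Subgroup H) : Set H))) ⊔ ⁅Cfsg.sylowCenterClosure p L, (Cfsg.pResidual p ↥L).map L.subtype⁆ ∧ ⁅Cfsg.sylowCenterClosure p L, L⁆ = ⁅Cfsg.sylowCenterClosure p L, (Cfsg.pResidual p ↥L).map L.subtype⁆ := by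
  have hT := IsSylowIn.of_sylow T hTL
  have h := (pred_oz (p := p) (T : Subgroup H)).ncl (chP_iff.1 hL) hT le_rfl hTL
  rw [map_pResidual, ZL_eq hT]
  obtain ⟨V, hV⟩ : ∃ V, V = ncl L (omegaOne p Z((T : Subgroup H))) := ⟨_, rfl⟩
  have h0 : omegaOne p Z((T : Subgroup H)) ≤ V := hV ▸ le_ncl _ _
  rw [← hV] at h ⊢
  have hn : L ≤ N(⁅V, resIn p L⁆) := le_normalizer_commutator' h.norm (le_normalizer_resIn L)
  have h1 : V ≤ omegaOne p Z(L) ⊔ ⁅V, resIn p L⁆ := by
    refine hV.le.trans (ncl_le ?_ (le_normalizer_sup' (le_norm_oz le_normalizer) hn))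
    refine (le_inf h0 (oz_le_cent _)).trans ((cent_sylow_le h.comm h.pg h.norm hT).trans (sup_le_sup_right ?_ _))
    exact le_oz (ea_mono h.ea inf_le_left) (inf_le_left.trans h.le) inf_le_right
  have h2 : ⁅V, resIn p L⁆ ≤ V := comm_le_left ((resIn_le L).trans h.norm)
  refine ⟨le_antisymm h1 (sup_le (le_trans ?_ h0) h2), le_antisymm ?_ (commutator_mono le_rfl (resIn_le L))⟩
  · exact le_oz (oz_ea L) (hT.le_of_normalizer (ea_isPGroup (oz_ea L)) (oz_le L) (le_norm_oz le_normalizer))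
      ((oz_le_cent L).trans (cent_anti hTL))
  · refine (commutator_mono h1 le_rfl).trans (comm_sup_left_le ?_ (comm_le_left hn) ((oz_le L).trans hn)
      le_normalizer)
    rw [comm_eq_bot (oz_le_cent L)]; exact bot_le


end Cfsg.Agent.S2823
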