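import Cfsg.Statements.S2824
import Cfsg.Agent.H2.CharP2

set_option autoImplicit false
open Cfsg

namespace Cfsg.Agent.S2824
open Subgroup CfsgH2
open scoped commutatorElement

open CfsgFT CfsgLead

/-- Let H be a finite group, p a prime, T a Sylow p-subgroup, L and M subgroups of characteristic p containing T, Y_L the largest p-reduced normal subgroup of L and T₀ = C_T(Y_L). If M·C_H(Y_L) = L·C_H(Y_L), then L* := N_M(T₀) has Y_{L*} = Y_L and L·C_H(Y_L) = L*·C_H(Y_L). -/
theorem result {H : Type*} [Group H] [Finite H] {p : ℕ} [Fact p.Prime] (T : Sylow p H) (L M : Subgroup H) (hTL : (T : Subgroup H) ≤ L) (hTM : (T : Subgroup H) ≤ M) (hL : Subgroup.centralizer (Cfsg.pCore p ↥L : Set ↥L) ≤ Cfsg.pCore p ↥L) (hM : Subgroup.centralizer (Cfsg.pCore p ↥M : Set ↥M) ≤ Cfsg.pCore p ↥M) (T₀ : Subgroup H) (hT₀ : T₀ = (T : Subgroup H) ⊓ Subgroup.centralizer (((Cfsg.largestPReducedOf p L) : Subgroup H) : Set H)) (hfac : M ⊔ Subgroup.centralizer (((Cfsg.largestPReducedOf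 p L) : Subgroup H) : Set H) = L ⊔ Subgroup.centralizer (((Cfsg.largestPReducedOf p L) : Subgroup H) : Set H)) (Ls : Subgroup H) (hLs : Ls = M ⊓ Subgroup.normalizer ((T₀ : Subgroup H) : Set H)) : (Cfsg.largestPReducedOf p Ls) = (Cfsg.largestPReducedOf p L) ∧ L ⊔ Subgroup.centralizer (((Cfsg.largestPReducedOf p L) : Subgroup H) : Set H) = Ls ⊔ Subgroup.centralizer (((Cfsg.largestPReducedOf p L) : Subgroup H) : Set H) := by
  have h := pred_YL (p := p) L
  have hT := IsSylowIn.of_sylow T hTL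
  have hTM' := IsSylowIn.of_sylow T hTM
  have h1 := h.transfer ((h.le_sylow_cent hT).trans (inf_le_left.trans hTM)) hfac
  have h2 := h1.frattini hTM'
  have h3 := h1.le_norm_cent hTM
  have h4 := h1.Op_eq hTM' h3 le_rfl h2
  subst hT₀ hLs
  refine ⟨le_antisymm ?_ (h1.transfer ((h.le_sylow_cent hT).trans (inf_le_left.trans h3)) h2).le_YL,
    hfac.symm.trans h2.symm⟩
  have h5 := (pred_YL (p := p) (M ⊓ N((T : Subgroup H) ⊓ C(largestPReducedOf p L)))).le_oz_Op
  rwa [h4, ← YL_eq_oz (chP_iff.1 hL) hT] at h5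


end Cfsg.Agent.S2824
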