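import Cfsg.Statements.S2825
import Cfsg.Agent.H2.CharP2

set_option autoImplicit false
open Cfsg

namespace Cfsg.Agent.S2825
open Subgroup CfsgH2
open scoped commutatorElement

open CfsgFT CfsgLead

/-- Let L be a subnormal subgroup of the finite group H, p a prime, Y_H and Y_L the largest p-reduced normal subgroups. Then Y_H ∩ L = Y_H ∩ Y_L and this subgroup is a p-reduced normal subgroup of L; C_L(Y_L) = C_L(Y_H) = C_L(Y_H ∩ L); and if O^p(H) ≤ L, then [Y_L, L] = 1 if and only if [Y_H, H] = 1. -/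
theorem result {H : Type*} [Group H] [Finite H] {p : ℕ} [Fact p.Prime] (L : Subgroup H) (hL : L.IsSubnormal) : Cfsg.largestPReduced p H ⊓ L = Cfsg.largestPReduced p H ⊓ (Cfsg.largestPReducedOf p L) ∧ Cfsg.IsPReducedNormal p ((Cfsg.largestPReduced p H ⊓ L).subgroupOf L) ∧ L ⊓ Subgroup.centralizer ((Cfsg.largestPReducedOf p L : Subgroup H) : Set H) = L ⊓ Subgroup.centralizer (Cfsg.largestPReduced p H : Set H) ∧ L ⊓ Subgroup.centralizer (Cfsg.largestPReduced p H : Set H) = L ⊓ Subgroup.centralizer ((Cfsg.largestPReduced p H ⊓ L : Subgroup H) : Set H) ∧ (Cfsg.pResidual p H ≤ L → (⁅(Cfsg.largestPReducedOf p L), L⁆ = ⊥ ↔ ⁅Cfsg.largestPReduced p H, (⊤ : Subgroup H)⁆ = ⊥)) := by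
  have hL' := SN.top_iff.2 hL
  have h := pred_YL (p := p) (⊤ : Subgroup H)
  have h0 := cent_YL_le_of_sn (p := p) hL'
  rw [YL_top'] at h h0
  obtain ⟨Y, hY⟩ : ∃ Y, Y = largestPReduced p H := ⟨_, rfl⟩
  rw [← hY] at h h0 ⊢
  have hn : L ≤ N(Y ⊓ L) := le_normalizer_inf' (le_top.trans h.norm) le_normalizer
  have key : ∀ R, SN R L → resIn p R ≤ C(Y ⊓ L) → R ≤ C(Y) := fun R hR h1 =>
    h.le_cent_of_comm (hR.trans hL') (h.pg.to_le inf_le_left) ((h.comm_res_le (hR.trans hL')).trans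
      (inf_le_inf_left _ ((resIn_le R).trans hR.le))) h1
  have h1 : PRed p (Y ⊓ L) L := ⟨inf_le_right, hn, ea_mono h.ea inf_le_left,
    fun R hR h1 => (key R hR h1).trans (cent_anti inf_le_left)⟩
  have h2 : L ⊓ C(Y ⊓ L) ≤ C(Y) := key _ (SN.of_normal inf_le_left
    (le_normalizer_inf' le_normalizer h1.normC)) ((resIn_le _).trans inf_le_right)
  have h3 : L ⊓ C(largestPReducedOf p L) = L ⊓ C(Y) := le_antisymm
    (le_inf inf_le_left ((inf_le_inf_left _ (cent_anti h1.le_YL)).trans h2)) (le_inf inf_le_left h0)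
  refine ⟨le_antisymm (le_inf inf_le_left h1.le_YL) (inf_le_inf_left _ (pred_YL L).le),
    (pred_subgroupOf_iff inf_le_right).2 h1, h3,
    le_antisymm (inf_le_inf_left _ (cent_anti inf_le_left)) (le_inf inf_le_left h2), fun hR => ⟨fun e => ?_, fun e => ?_⟩⟩
  · have h4 : L ≤ C(Y) := ((le_inf le_rfl (cent_symm (cent_of_comm_eq_bot e))).trans h3.le).trans inf_le_right
    exact comm_eq_bot (cent_symm (h.red ⊤ (SN.refl _) (by rw [resIn_top]; exact hR.trans h4)))
  · exact comm_eq_bot (cent_symm ((le_inf le_rfl (le_top.trans (cent_symm (cent_of_comm_eq_bot e)))).trans h0))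


end Cfsg.Agent.S2825
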