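import Cfsg.Statements.S2826
import Cfsg.Agent.H2.CharP2

set_option autoImplicit false
open Cfsg

namespace Cfsg.Agent.S2826
open Subgroup CfsgH2
open scoped commutatorElement

open CfsgFT CfsgLead

/-- Let H be a finite group of characteristic p, T a Sylow p-subgroup, and V a normal elementary abelian p-subgroup of H containing Ω₁(Z(T)). Then C_H(Ω₁(Z(T))) = C_H([V, O^p(H)] ∩ Ω₁(Z(T))), O^p(H) being generated by the elements of order prime to p. -/
theorem result {H : Type*} [Group H] [Finite H] {p : ℕ} [Fact p.Prime] (hH : Subgroup.centralizer (Cfsg.pCore p H : Set H) ≤ Cfsg.pCore p H) (T : Sylow p H) (V : Subgroup H) [V.Normal] (hV : Cfsg.IsElementaryAbelian p V) (hZV : (Cfsg.omegaOne p ((T : Subgroup H) ⊓ Subgroup.centralizer (((T : Subgroup H) : Subgroup H) : Set H))) ≤ V) : Subgroup.centralizer ((Cfsg.omegaOne p ((T : Subgroup H) ⊓ Subgroup.centralizer (((T : Subgroup H) : Subgroup H) : Set H))) : Set H) = Subgroup.centralizer (((⁅V, Cfsg.pResidual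 p H⁆ ⊓ (Cfsg.omegaOne p ((T : Subgroup H) ⊓ Subgroup.centralizer (((T : Subgroup H) : Subgroup H) : Set H)))) : Subgroup H) : Set H) := by
  refine le_antisymm (cent_anti inf_le_right) (cent_symm fun z hz => ?_)
  have hT := IsSylowIn.of_sylow_top T
  have hn : (⊤ : Subgroup H) ≤ N(V) := by rw [normalizer_eq_top]
  have h1 := cent_sylow_le (ea_le_centralizer hV) (ea_isPGroup hV) hn hT
  rw [resIn_top] at h1
  have hW : ⁅V, pResidual p H⁆ ≤ V := comm_le_left (le_top.trans hn)
  obtain ⟨c, hc, w, hw, e⟩ := (mem_sup_of_normalizer (hW.trans (le_norm_of_comm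
    (ea_le_centralizer hV) inf_le_left))).1 (h1 (mem_inf.2 ⟨hZV hz, oz_le_cent _ hz⟩))
  have hw1 : w ∈ omegaOne p Z((T : Subgroup H)) := by
    refine mem_oz.2 ⟨⟨hT.le_of_normalizer (ea_isPGroup hV) le_top hn (hW hw), ?_⟩, hV.2 _ (hW hw)⟩
    rw [eq_inv_mul_of_mul_eq e]
    exact mul_mem (inv_mem (cent_anti le_top (mem_inf.1 hc).2)) (oz_le_cent _ hz)
  rw [← e]
  exact mul_mem (cent_anti le_top (mem_inf.1 hc).2) (cent_symm le_rfl (mem_inf.2 ⟨hw, hw1⟩))


end Cfsg.Agent.S2826
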