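import Cfsg.Statements.S2827
import Cfsg.Agent.H2.CharP2

set_option autoImplicit false
open Cfsg

namespace Cfsg.Agent.S2827
open Subgroup CfsgH2
open scoped commutatorElement

open CfsgFT CfsgLead

/-- Let H be a finite p-irreducible group (not p-closed, and O^p(H) lies in every normal subgroup that is not p-closed) and T a Sylow p-subgroup. Then H is generated by the conjugates of T and H = H'·T; O^p(H) ≤ H'; and for every normal subgroup Y of T not contained in O_p(H), O^p(H) = [O^p(H), Y] and O^p(H) is contained in the normal closure of Y in H. -/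
theorem result {H : Type*} [Group H] [Finite H] {p : ℕ} [Fact p.Prime] (hH : Cfsg.IsPIrreducible p H) (T : Sylow p H) : Subgroup.normalClosure ((T : Subgroup H) : Set H) = ⊤ ∧ commutator H ⊔ (T : Subgroup H) = ⊤ ∧ Cfsg.pResidual p H ≤ commutator H ∧ ∀ Y : Subgroup H, Y ≤ (T : Subgroup H) → (T : Subgroup H) ≤ Subgroup.normalizer (Y : Set H) → ¬ Y ≤ Cfsg.pCore p H → ⁅Cfsg.pResidual p H, Y⁆ = Cfsg.pResidual p H ∧ Cfsg.pResidual p H ≤ Subgroup.normalClosure (Y : Set H) := by
  have h := pirr_top_iff.1 hH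
  have hT := IsSylowIn.of_sylow_top T
  have h0 : ¬ (T : Subgroup H) ≤ pCoreOf p ⊤ := fun e => h.1 (pcl_of_sylow_le hT (Op_pg _) (le_norm_Op_self _) e)
  have h1 : ncl ⊤ (T : Subgroup H) = ⊤ :=
    top_le_iff.1 (le_of_sylow_res hT (le_ncl _ _) (h.res_le_ncl le_top T.isPGroup' h0))
  have h2 := h.comm_res hT le_rfl le_normalizer h0
  rw [resIn_top] at h2
  have h3 : pResidual p H ≤ _root_.commutator H := h2.ge.trans (commutator_mono le_top le_top)
  refine ⟨by rwa [← ncl_top], top_le_iff.1 (le_of_sylow_res hT le_sup_right ?_), h3, fun Y h4 h5 h6 => ?_⟩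
  · rw [resIn_top]; exact h3.trans le_sup_left
  · rw [← Op_top] at h6
    rw [← resIn_top, ← ncl_top]
    exact ⟨h.comm_res hT h4 h5 h6, h.res_le_ncl le_top (T.isPGroup'.to_le h4) h6⟩


end Cfsg.Agent.S2827
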