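import Cfsg.Statements.S2828
import Cfsg.Agent.H2.Coset

set_option autoImplicit false
open Cfsg

namespace Cfsg.Agent.S2828
open Subgroup CfsgH2
open scoped commutatorElement

open CfsgFT

/-- Let H be a finite group, p a prime and D a normal p-subgroup of H. Then H is p-irreducible if and only if H/D is p-irreducible, and H is strongly p-irreducible if and only if H/D is strongly p-irreducible. -/
theorem result {H : Type*} [Group H] [Finite H] {p : ℕ} [Fact p.Prime] (D : Subgroup H) [D.Normal] (hD : IsPGroup p ↥D) : (Cfsg.IsPIrreducible p H ↔ Cfsg.IsPIrreducible p (H ⧸ D)) ∧ (Cfsg.IsStronglyPIrreducible p H ↔ Cfsg.IsStronglyPIrreducible p (H ⧸ D)) := by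
  have hs := QuotientGroup.mk'_surjective D
  have hk : ∀ L : Subgroup H, IsPGroup p (L ⊓ (QuotientGroup.mk' D).ker : Subgroup H) := fun L =>
    hD.to_le (by rw [QuotientGroup.ker_mk']; exact inf_le_right)
  have ht : (⊤ : Subgroup H).map (QuotientGroup.mk' D) = ⊤ := map_top_of_surjective _ hs
  have a0 : PCl p (⊤ : Subgroup H) ↔ PCl p (⊤ : Subgroup (H ⧸ D)) :=
    ⟨fun h => ht ▸ h.map _, fun h => PCl.of_map _ (hk _) (ht.symm ▸ h)⟩
  have a1 : ∀ K : Subgroup (H ⧸ D), resIn p (⊤ : Subgroup H) ≤ K.comap (QuotientGroup.mk' D) →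
      resIn p (⊤ : Subgroup (H ⧸ D)) ≤ K := fun K h => by
    rw [← ht, ← map_resIn]; exact map_le_iff_le_comap.2 h
  have a2 : ∀ K : Subgroup H, ⊤ ≤ N(K) → resIn p (⊤ : Subgroup (H ⧸ D)) ≤ K.map (QuotientGroup.mk' D) →
      resIn p (⊤ : Subgroup H) ≤ K := fun K hK h => by
    rw [← ht, ← map_resIn, map_le_iff_le_comap, comap_map_eq, QuotientGroup.ker_mk', sup_comm] at h
    exact le_of_res_sup hD (le_top.trans hK) h
  have a3 : ∀ K : Subgroup (H ⧸ D), ⊤ ≤ N(K) → ⊤ ≤ N(K.comap (QuotientGroup.mk' D)) := fun K hK => by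
    haveI := normal_of_top_le hK; rw [normalizer_eq_top]
  have a4 : ∀ K : Subgroup H, ⊤ ≤ N(K) → ⊤ ≤ N(K.map (QuotientGroup.mk' D)) := fun K hK =>
    ht ▸ map_le_norm _ hK
  have a5 : (pCoreOf p ⊤).map (QuotientGroup.mk' D) = pCoreOf p ⊤ := by rw [map_Op _ (hk _), ht]
  have a6 : D ≤ pCoreOf p ⊤ := le_Op le_top (by rw [normalizer_eq_top]) hD
  have a7 : ∀ K : Subgroup H, ⁅K, ⊤⁆ ≤ pCoreOf p ⊤ ↔ ⁅K.map (QuotientGroup.mk' D), ⊤⁆ ≤ pCoreOf p ⊤ := fun K => by
    conv_rhs => rw [← a5, ← ht, ← map_commutator, map_le_iff_le_comap, comap_map_eq, QuotientGroup.ker_mk',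
      sup_eq_left.2 a6]
  rw [pirr_top_iff, pirr_top_iff, spirr_top_iff, spirr_top_iff]
  refine ⟨and_congr (not_congr a0) ⟨fun h K _ h2 h3 => a1 K (h _ le_top (a3 K h2) fun e => h3 ?_),
    fun h K _ h2 h3 => a2 K h2 (h _ le_top (a4 K h2) fun e => h3 (PCl.of_map _ (hk _) e))⟩,
    and_congr (not_congr a0) ⟨fun h K _ h2 h3 => a1 K (h _ le_top (a3 K h2) fun e => h3 ?_),
    fun h K _ h2 h3 => a2 K h2 (h _ le_top (a4 K h2) fun e => h3 ((a7 K).2 e))⟩⟩
  · have := e.map (QuotientGroup.mk' D)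
    rwa [map_comap_eq_self_of_surjective hs] at this
  · rwa [a7, map_comap_eq_self_of_surjective hs] at e


end Cfsg.Agent.S2828
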