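import Cfsg.Statements.S2832
import Cfsg.Agent.H2.PMin

set_option autoImplicit false
open Cfsg

namespace Cfsg.Agent.S2832
open Subgroup CfsgH2
open scoped commutatorElement

open CfsgFT

/-- Let H be a finite group with Sylow p-subgroup T such that H is T-minimal (generated by the conjugates of T, with T in exactly one maximal subgroup), and let N be a normal subgroup of H. Then either H/N is a p-group or H/N is minimal over the image of T in the same sense. -/
theorem result {H : Type*} [Group H] [Finite H] {p : ℕ} [Fact p.Prime] (T : Sylow p H) (hmin : Cfsg.IsMinimalOver (T : Subgroup H)) (N : Subgroup H) [N.Normal] : IsPGroup p (H ⧸ N) ∨ Cfsg.IsMinimalOver ((T : Subgroup H).map (QuotientGroup.mk' N)) := by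
  obtain ⟨M, h⟩ := ym_top_iff.1 hmin
  have hs := map_top_of_surjective _ (QuotientGroup.mk'_surjective N)
  by_cases hN : N ≤ M
  · have := h.map (QuotientGroup.mk' N) (by rwa [QuotientGroup.ker_mk', top_inf_eq])
    rw [hs] at this
    exact Or.inr (ym_top_iff.2 ⟨_, this⟩)
  · have h1 := congrArg (Subgroup.map (QuotientGroup.mk' N)) (h.sup_eq le_top hN)
    rw [Subgroup.map_sup, (CfsgH1.map_mk'_eq_bot_iff N).2 le_rfl, sup_bot_eq, hs] at h1
    have h2 := T.isPGroup'.map (QuotientGroup.mk' N)
    rw [h1] at h2
    exact Or.inl (h2.of_equiv topEquiv)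


end Cfsg.Agent.S2832
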