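import Cfsg.Statements.S2836
import Cfsg.Agent.H2.PMin

set_option autoImplicit false
open Cfsg

namespace Cfsg.Agent.S2836
open Subgroup CfsgH2
open scoped commutatorElement

open CfsgFT

/-- Let L be a finite group, L₀ a maximal subgroup, T a Sylow p-subgroup of L₀, Y ≤ T, and suppose L is Y-minimal. Let D be the intersection of the conjugates of L₀ (the core of L₀). Then D contains O_p(L) and D/O_p(L) is the Frattini subgroup of L/O_p(L), so D is p-closed; and every normal subgroup N of L contained in L₀ is p-closed with N/O_p(N) a nilpotent group of order prime to p. -/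
theorem result {L : Type*} [Group L] [Finite L] {p : ℕ} [Fact p.Prime] (L₀ : Subgroup L) (hL₀ : IsCoatom L₀) (T : Sylow p ↥L₀) (Y : Subgroup L) (hYT : Y ≤ (T : Subgroup ↥L₀).map L₀.subtype) (hmin : Cfsg.IsMinimalOver Y) : (Cfsg.pCore p L ≤ L₀.normalCore ∧ (L₀.normalCore).map (QuotientGroup.mk' (Cfsg.pCore p L)) = frattini (L ⧸ Cfsg.pCore p L) ∧ Cfsg.IsPClosed p ↥(L₀.normalCore)) ∧ ∀ (N : Subgroup L) [N.Normal], N ≤ L₀ → Cfsg.IsPClosed p ↥N ∧ Group.IsNilpotent (↥N ⧸ Cfsg.pCore p ↥N) ∧ (Nat.card (↥N ⧸ Cfsg.pCore p ↥N)).Coprime p := by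
  have hT := IsSylowIn.of_sylow_map T
  have h := ym_of_coatom hmin hL₀ (hYT.trans hT.le)
  have hY := hT.pgroup.to_le hYT
  have hO : pCore p L ≤ L₀ := Op_top (G := L) (p := p) ▸ h.Op_le hY
  have hs := QuotientGroup.mk'_surjective (pCore p L)
  have key : ∀ (N : Subgroup L) [N.Normal], N ≤ L₀ →
      N.map (QuotientGroup.mk' (pCore p L)) ≤ frattini (L ⧸ pCore p L) := fun N _ hN =>
    CfsgH1.le_frattini_iff.2 fun K hK => by
      have h1 := isCoatom_comap_of_surjective hs hK
      have h2 := h.le_of_max hY hN (by rw [normalizer_eq_top]) h1.1.lt_top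
        (Op_top.le.trans (CfsgH1.le_comap_mk' _ K))
      exact map_le_iff_le_comap.2 (le_sup_left.trans ((h1.le_iff.1 le_sup_right).resolve_left h2.ne).le)
  have key2 : ∀ (N : Subgroup L) [N.Normal], N ≤ L₀ → PCl p N := fun N _ hN =>
    h.pcl hY hN (by rw [normalizer_eq_top])
  refine ⟨⟨normal_le_normalCore.2 hO, le_antisymm (key _ (normalCore_le _)) ?_,
    pcl_iff.2 (key2 _ (normalCore_le _))⟩, fun N _ hN => ⟨pcl_iff.2 (key2 N hN), ?_, ?_⟩⟩
  · rw [← map_comap_eq_self_of_surjective hs (frattini _)]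
    refine map_mono (normal_le_normalCore.2 ?_)
    have h1 := CfsgH1.le_frattini_iff.1 le_rfl _
      (CfsgH1.isCoatom_map_of_ker_le _ hs (by rwa [QuotientGroup.ker_mk']) hL₀)
    refine (comap_mono h1).trans ?_
    rw [CfsgH1.comap_map_mk', sup_eq_left.2 hO]
  · have e : ((QuotientGroup.mk' (pCore p L)).comp N.subtype).ker = pCore p N := by
      rw [← MonoidHom.comap_ker, QuotientGroup.ker_mk', ← Op_subgroupOf_self, Op_eq_of_sn
        (CfsgLead.SN.top_iff.2 (Normal.isSubnormal inferInstance)), Op_top, inf_subgroupOf_right]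
      rfl
    have h1 := CfsgH1.isNilpotent_of_le frattini_nilpotent (key N hN)
    rw [← range_subtype N, ← MonoidHom.range_comp] at h1
    exact Group.nilpotent_of_mulEquiv ((QuotientGroup.quotientKerEquivRange _).symm.trans
      (QuotientGroup.quotientMulEquivOfEq e))
  · have h1 := (key2 N hN).sylow.not_dvd
    rw [Subgroup.relIndex, Op_subgroupOf_self] at h1
    exact ((Nat.Prime.coprime_iff_not_dvd Fact.out).2 h1).symm


end Cfsg.Agent.S2836
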