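import Cfsg.Statements.S2837
import Cfsg.Agent.H2.PMin

set_option autoImplicit false
open Cfsg

namespace Cfsg.Agent.S2837
open Subgroup CfsgH2
open scoped commutatorElement

open CfsgFT

/-- Let L be a finite group of characteristic p, L₀ a maximal subgroup, Y an elementary abelian p-subgroup of L₀ with L Y-minimal and O_p(L) ≤ N_L(Y). Put A = the normal closure of O_p(L) ∩ Y in L. Then for every g ∈ L outside L₀: Φ(A) = A' = [A ∩ Y, A] = [A ∩ Y, A ∩ gYg⁻¹] ≤ C_Y(L), and Y ∩ gYg⁻¹ = (A ∩ Y) ∩ (A ∩ gYg⁻¹) = C_Y(L) = C_A(L). -/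
theorem result {L : Type*} [Group L] [Finite L] {p : ℕ} [Fact p.Prime] (hchar : Subgroup.centralizer (Cfsg.pCore p L : Set L) ≤ Cfsg.pCore p L) (L₀ : Subgroup L) (hL₀ : IsCoatom L₀) (Y : Subgroup L) (hYL₀ : Y ≤ L₀) (hYel : Cfsg.IsElementaryAbelian p Y) (hmin : Cfsg.IsMinimalOver Y) (hOY : Cfsg.pCore p L ≤ Subgroup.normalizer (Y : Set L)) (A : Subgroup L) (hA : A = Subgroup.normalClosure (((Cfsg.pCore p L ⊓ Y : Subgroup L)) : Set L)) (g : L) (hg : g ∉ L₀) : (frattini ↥A).map A.subtype = ⁅A, A⁆ ∧ ⁅A, A⁆ = ⁅A ⊓ Y, A⁆ ∧ ⁅A ⊓ Y, A⁆ = ⁅A ⊓ Y, A ⊓ Y.map (MulAut.conj g).toMonoidHom⁆ ∧ ⁅A ⊓ Y, A⁆ ≤ Y ⊓ Subgroup.center L ∧ Y ⊓ Y.map (MulAut.conj g).toMonoidHom = Y ⊓ Subgroup.center L ∧ (A ⊓ Y) ⊓ (A ⊓ Y.map (MulAut.conj g).toMonoidHom) = Y ⊓ Subgroup.center L ∧ A ⊓ Subgroup.center L = Y ⊓ Subgroup.center L := by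
  have h := ym_of_coatom hmin hL₀ hYL₀
  have hgen := h.sup_cj (mem_top g) hg
  rw [cj_def]
  obtain ⟨O, hO⟩ : ∃ O, O = pCore p L := ⟨_, rfl⟩
  have hOn : ⊤ ≤ N(O) := hO ▸ by rw [normalizer_eq_top]
  have hOp : IsPGroup p O := hO ▸ CfsgH1.isPGroup_pCore p L
  rw [← hO] at hchar hOY hA
  rw [← centralizer_univ, ← coe_top]
  have hc := ea_le_centralizer hYel
  have hc' := cj_le_cent_cj hc g
  have hOY' := le_norm_cj_of_norm hOY (hOn (mem_top g))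
  have e1 : Y ⊓ cj g Y = Y ⊓ C(⊤) := le_antisymm (le_inf inf_le_left
    (hgen ▸ le_cent_sup (inf_le_left.trans hc) (inf_le_right.trans hc')))
    (le_inf inf_le_left fun x hx => (mem_cj_iff_of_cent (mem_top g) (mem_inf.1 hx).2).2 (mem_inf.1 hx).1)
  have hAO : A ≤ O := by rw [hA, ← ncl_top]; exact ncl_le inf_le_left hOn
  have h1 : O ⊓ Y ⊔ O ⊓ cj g Y ≤ O := sup_le inf_le_left inf_le_left
  have e2 : A = O ⊓ Y ⊔ O ⊓ cj g Y := by
    rw [hA, ← ncl_top]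
    refine le_antisymm (ncl_le le_sup_left (hgen ▸ sup_le (le_norm_of_comm_le ?_) (le_norm_of_comm_le ?_)))
      (sup_le (le_ncl _ _) ?_)
    · exact (commutator_mono h1 le_rfl).trans ((le_inf (comm_le_left (le_top.trans hOn))
        (comm_le_right hOY)).trans le_sup_left)
    · exact (commutator_mono h1 le_rfl).trans ((le_inf (comm_le_left (le_top.trans hOn))
        (comm_le_right hOY')).trans le_sup_right)
    · rw [← cj_eq_of_norm (hOn (mem_top g)), ← cj_inf, cj_eq_of_norm (hOn (mem_top g))]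
      exact cj_le_ncl _ (mem_top g)
  have e3 : A ⊓ Y = O ⊓ Y := le_antisymm (inf_le_inf_right _ hAO) (le_inf (e2 ▸ le_sup_left) inf_le_right)
  have e4 : A ⊓ cj g Y = O ⊓ cj g Y :=
    le_antisymm (inf_le_inf_right _ hAO) (le_inf (e2 ▸ le_sup_right) inf_le_right)
  have hn1 : O ≤ N(O ⊓ Y) := le_normalizer_inf' le_normalizer hOY
  have hn2 : O ≤ N(O ⊓ cj g Y) := le_normalizer_inf' le_normalizer hOY'
  have h2 : ⁅O ⊓ Y, O ⊓ cj g Y⁆ ≤ Y ⊓ C(⊤) := e1 ▸ le_inf ((comm_le_left (inf_le_left.trans hn1)).trans inf_le_right)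
    ((comm_le_right (inf_le_left.trans hn2)).trans inf_le_right)
  have hD : ∀ X : Subgroup L, X ≤ N(⁅O ⊓ Y, O ⊓ cj g Y⁆) := fun X =>
    le_norm_of_cent' (h2.trans (inf_le_right.trans (cent_anti le_top)))
  have e5 : ⁅O ⊓ Y, A⁆ = ⁅O ⊓ Y, O ⊓ cj g Y⁆ := le_antisymm (e2 ▸ comm_sup_right_le
    (by rw [comm_eq_bot (cent_mono hc inf_le_right inf_le_right)]; exact bot_le) le_rfl (hD _) (hD _))
    (commutator_mono le_rfl (e2 ▸ le_sup_right))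
  have e6 : ⁅A, A⁆ = ⁅O ⊓ Y, O ⊓ cj g Y⁆ := by
    refine le_antisymm ?_ (commutator_mono (e2 ▸ le_sup_left) (e2 ▸ le_sup_right))
    nth_rw 1 [e2]
    refine comm_sup_left_le e5.le (e2 ▸ comm_sup_right_le (commutator_comm_le _ _) ?_ (hD _) (hD _)) (hD _) (hD _)
    rw [comm_eq_bot (cent_mono hc' inf_le_right inf_le_right)]; exact bot_le
  have hZ : C(⊤) ≤ O := (cent_anti le_top).trans hchar
  rw [e3, e4, e5, e6]
  refine ⟨le_antisymm (map_frattini_le (p := p) e6.le fun x hx => ?_) (e6 ▸ commutator_le_map_frattini (hOp.to_le hAO)),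
    rfl, rfl, h2, e1, ?_, le_antisymm (fun x hx => ?_) (le_inf ?_ inf_le_right)⟩
  · obtain ⟨a, ha, b, hb, rfl⟩ := (mem_sup_of_normalizer (inf_le_left.trans hn1)).1 (e2 ▸ hx)
    have h3 : b⁻¹ * a⁻¹ * b * a ∈ ⁅O ⊓ Y, O ⊓ cj g Y⁆ :=
      commutator_comm_le _ _ (inv_mul_inv_mul_mem_commutator hb ha)
    have h4 := mem_cent.1 (mem_inf.1 (h2 h3)).2
    rw [mul_pow_class_two (c := b⁻¹ * a⁻¹ * b * a) (by group) (h4 a (mem_top a)).symm (h4 b (mem_top b)).symm,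
      hYel.2 a (mem_inf.1 ha).2, (ea_cj hYel g).2 b (mem_inf.1 hb).2, one_mul, one_mul]
    exact pow_mem h3 _
  · rw [← inf_inf_distrib_left, e1, inf_eq_right.2 (inf_le_right.trans hZ)]
  · obtain ⟨a, ha, b, hb, rfl⟩ := (mem_sup_of_normalizer (inf_le_left.trans hn1)).1 (e2 ▸ (mem_inf.1 hx).1)
    have h3 : b ∈ C(Y) := by
      simpa using mul_mem (inv_mem (hc (mem_inf.1 ha).2)) (cent_anti le_top (mem_inf.1 hx).2)
    have h4 : b ∈ C(⊤) := hgen ▸ cent_sup Y (cj g Y) ▸ mem_inf.2 ⟨h3, hc' (mem_inf.1 hb).2⟩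
    exact mem_inf.2 ⟨mul_mem (mem_inf.1 ha).2 ((mem_cj_iff_of_cent (mem_top g) h4).1 (mem_inf.1 hb).2),
      (mem_inf.1 hx).2⟩
  · exact (le_inf (inf_le_right.trans hZ) inf_le_left).trans (e2 ▸ le_sup_left)


end Cfsg.Agent.S2837
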