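import Cfsg.Statements.S2839
import Cfsg.Agent.H2.WClosed

set_option autoImplicit false
open Cfsg

namespace Cfsg.Agent.S2839
open Subgroup CfsgH2
open scoped commutatorElement

open CfsgFT

/-- Let Q be a nontrivial p-subgroup of the finite group H that is a weakly closed subgroup, K a subgroup containing Q and N a normal subgroup of H. Then Q is a weakly closed subgroup of K; every H-conjugate of Q contained in K is a K-conjugate of Q; N_K(Q) contains a Sylow p-subgroup of K; N = N_N(Q)·O^p(N); and QN/N is a weakly closed subgroup of H/N. -/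
theorem result {H : Type*} [Group H] [Finite H] {p : ℕ} [Fact p.Prime] (Q : Subgroup H) (hQp : IsPGroup p ↥Q) (hQ1 : Q ≠ ⊥) (hwc : Cfsg.IsWeaklyClosedSubgroup p Q) (K : Subgroup H) (hQK : Q ≤ K) (N' : Subgroup H) [N'.Normal] : Cfsg.IsWeaklyClosedSubgroup p (Q.subgroupOf K) ∧ (∀ g : H, ((Q : Subgroup H).map (MulAut.conj (g : H)).toMonoidHom) ≤ K → ∃ k ∈ K, ((Q : Subgroup H).map (MulAut.conj (g : H)).toMonoidHom) = ((Q : Subgroup H).map (MulAut.conj (k : H)).toMonoidHom)) ∧ Cfsg.IsParabolic p ((Subgroup.normalizer ((Q : Subgroup H) : Set H)).subgroupOf K) ∧ (N' ⊓ Subgroup.normalizer ((Q : Subgroup H) : Set H)) ⊔ (Cfsg.pResidual p ↥N').map N'.subtype = N' ∧ Cfsg.IsWeaklyClosedSubgroup p (Q.map (QuotientGroup.mk' N')) := by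
  have h := (wc_top_iff hQp).1 hwc
  refine ⟨(wc_iff hQp hQK).2 (h.mono le_top), fun g hg => h.exists_cj hQp le_top hQK (mem_top g) hg, ?_, ?_, ?_⟩
  · obtain ⟨S, h1, h2⟩ := IsSylowIn.exists_le hQp hQK
    exact ⟨h1.toSylow, comap_mono (h.le_norm h1.pgroup h2 le_top)⟩
  · obtain ⟨S, h1, h2⟩ := IsSylowIn.exists_le hQp le_top
    rw [map_pResidual]
    refine le_antisymm (sup_le inf_le_left (resIn_le _)) (le_of_sylow_res
      (h1.inf_of_normalizer' le_top (by rw [normalizer_eq_top])) (le_sup_left.trans' ?_) le_sup_right)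
    exact le_inf inf_le_right (inf_le_left.trans (h.le_norm h1.pgroup h2 le_top))
  · have hs := QuotientGroup.mk'_surjective N'
    refine (wc_top_iff (hQp.map _)).2 fun x _ hx => ?_
    obtain ⟨g, rfl⟩ := hs x
    obtain ⟨P, hP⟩ : ∃ P, P = Q.map (QuotientGroup.mk' N') ⊔ cj (QuotientGroup.mk' N' g) (Q.map (QuotientGroup.mk' N')) :=
      ⟨_, rfl⟩
    have h1 : Q ≤ P.comap (QuotientGroup.mk' N') := map_le_iff_le_comap.1 (hP ▸ le_sup_left)
    have h2 : cj g Q ≤ P.comap (QuotientGroup.mk' N') := map_le_iff_le_comap.1 (by rw [map_cj, hP]; exact le_sup_right)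
    obtain ⟨k, hk, e⟩ := h.exists_cj hQp le_top h1 (mem_top g) h2
    obtain ⟨S, h3, h4⟩ := IsSylowIn.exists_le hQp h1
    have h5 := h3.map (QuotientGroup.mk' N')
    rw [map_comap_eq_self_of_surjective hs] at h5
    have h6 := map_le_norm (QuotientGroup.mk' N') (h.le_norm h3.pgroup h4 le_top)
    rw [h5.eq_of_isPGroup (hP ▸ hx)] at h6
    rw [← map_cj, e, map_cj, cj_eq_of_norm (h6 hk)]


end Cfsg.Agent.S2839
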