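import Cfsg.Statements.S2841
import Cfsg.Agent.H2.WClosed

set_option autoImplicit false
open Cfsg

namespace Cfsg.Agent.S2841
open Subgroup CfsgH2
open scoped commutatorElement

open CfsgFT

/-- Let Q be a nontrivial p-subgroup of the finite group H that is a weakly closed subgroup and N a normal subgroup of H. Then N = N_N(Q)·[N, Q] and [N, Q] = (Q ∩ [N, Q])·[N, Q, Q]. -/
theorem result {H : Type*} [Group H] [Finite H] {p : ℕ} [Fact p.Prime] (Q : Subgroup H) (hQp : IsPGroup p ↥Q) (hQ1 : Q ≠ ⊥) (hwc : Cfsg.IsWeaklyClosedSubgroup p Q) (N' : Subgroup H) [N'.Normal] : (∀ n : H, n ∈ N' → ∃ a ∈ N' ⊓ Subgroup.normalizer ((Q : Subgroup H) : Set H), ∃ b ∈ ⁅N', Q⁆, n = a * b) ∧ (∀ c : H, c ∈ ⁅N', Q⁆ → ∃ a ∈ Q ⊓ ⁅N', Q⁆, ∃ b ∈ ⁅⁅N', Q⁆, Q⁆, c = a * b) := by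
  have h := (wc_top_iff hQp).1 hwc
  have hn : Q ≤ N(N') := by rw [normalizer_eq_top]; exact le_top
  refine ⟨fun n hn' => ?_, fun c hc => ?_⟩
  · obtain ⟨b, hb, e⟩ := h.exists_mul hQp le_top le_top (inv_mem hn')
    refine ⟨n * b, mem_inf.2 ⟨mul_mem hn' (comm_le_left hn hb), ?_⟩, b⁻¹, inv_mem hb, by group⟩
    simpa using inv_mem e
  · have h1 := (h.mono (le_top (a := Q ⊔ N'))).ncl_ncl hQp le_sup_left
    have h0 := normalizer_commutator_ge_right N' Q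
    rw [ncl_sup_of_norm le_normalizer hn, ncl_eq_sup N', sup_comm, ncl_sup_of_norm le_normalizer h0,
      ncl_eq_sup] at h1
    have h2 := inf_sup_left (comm_le_left h0) (normalizer_commutator_ge_right ⁅N', Q⁆ Q)
    rw [h1, inf_eq_left.2 le_sup_right, sup_comm, inf_comm] at h2
    obtain ⟨a, ha, b, hb, e⟩ := (mem_sup_of_normalizer'
      (inf_le_left.trans (normalizer_commutator_ge_right ⁅N', Q⁆ Q))).1 (h2.le hc)
    exact ⟨a, ha, b, hb, e.symm⟩


end Cfsg.Agent.S2841
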