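import Cfsg.Statements.S2843
import Cfsg.Agent.H2.WClosed

set_option autoImplicit false
open Cfsg

namespace Cfsg.Agent.S2843
open Subgroup CfsgH2
open scoped commutatorElement

open CfsgFT

/-- Let Q be a nontrivial large p-subgroup of the finite group H, Q ≤ L ≤ H, and Y a nontrivial p-subgroup of H normalized by L. Let L° be the weak closure of Q in L (generated by the conjugates of Q inside L). Then L° equals the weak closure of Q in L·C_H(Y), and [L°, C_H(Y)] ≤ O_p(L°); in particular C_H(Y) normalizes L°. -/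
theorem result {H : Type*} [Group H] [Finite H] {p : ℕ} [Fact p.Prime] (Q : Subgroup H) (hQp : IsPGroup p ↥Q) (hQ1 : Q ≠ ⊥) (hL : Cfsg.IsLarge Q) (L : Subgroup H) (hQL : Q ≤ L) (Y : Subgroup H) (hYp : IsPGroup p ↥Y) (hY1 : Y ≠ ⊥) (hLY : L ≤ Subgroup.normalizer ((Y : Subgroup H) : Set H)) : Cfsg.weakClosure Q L = Cfsg.weakClosure Q (L ⊔ Subgroup.centralizer ((Y : Subgroup H) : Set H)) ∧ ⁅Cfsg.weakClosure Q L, Subgroup.centralizer ((Y : Subgroup H) : Set H)⁆ ≤ (Cfsg.pCoreOf p (Cfsg.weakClosure Q L)) ∧ Subgroup.centralizer ((Y : Subgroup H) : Set H) ≤ Subgroup.normalizer (((Cfsg.weakClosure Q L) : Subgroup H) : Set H) := by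
  have h := large_wc hL hQp hQ1
  rw [h.weakClosure hQp hQL, h.weakClosure hQp (hQL.trans le_sup_left)]
  have h1 : ∀ l ∈ L, C(Y) ≤ N(cj l Q) := fun l hl => large_cent_le (large_cj hL l) (IsPGroup_cj hQp l) hYp hY1
    ((cj_le_of_mem hl hQL).trans hLY)
  have h2 : C(Y) ≤ N(ncl L Q) := le_norm_sSup (by
    rintro a ha _ ⟨g, hg, rfl⟩
    exact ⟨g, hg, cj_eq_of_norm (h1 g hg ha)⟩)
  have h3 := ncl_le_of_le hQL
  have h4 : L ≤ N(C(Y)) := le_normalizer_centralizer' hLY
  refine ⟨le_antisymm (ncl_mono le_sup_left le_rfl) (ncl_le (le_ncl _ _) (sup_le (le_norm_ncl _ _) h2)), ?_, h2⟩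
  have h5 : ncl L Q ≤ N(pCoreOf p C(Y) ⊓ ncl L Q) :=
    le_normalizer_inf' (h3.trans (le_norm_Op h4)) le_normalizer
  refine le_trans ?_ (le_Op inf_le_right h5 ((Op_pg _).to_le inf_le_left))
  rw [← le_centMod_iff h5]
  refine ncl_le_iff.2 fun g hg => (le_centMod_iff ((cj_le_ncl Q hg).trans h5)).2 (le_inf ?_ ?_)
  · refine le_trans (le_inf (comm_le_left (h1 g hg)) (comm_le_right ((cj_le_of_mem hg hQL).trans h4))) ?_
    exact le_Op inf_le_right (le_normalizer_inf' (h1 g hg) le_normalizer) ((IsPGroup_cj hQp g).to_le inf_le_left)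
  · exact (comm_le_left (h1 g hg)).trans (cj_le_ncl Q hg)


end Cfsg.Agent.S2843
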