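import Cfsg.Statements.S2844
import Cfsg.Agent.H2.WClosed

set_option autoImplicit false
open Cfsg

namespace Cfsg.Agent.S2844
open Subgroup CfsgH2
open scoped commutatorElement

open CfsgFT

/-- Let Q be a nontrivial large p-subgroup of the finite group H and Q• = O_p(N_H(Q)). Then for every g ∈ H outside N_H(Q): C_H(Q) ∩ C_H(gQg⁻¹) = 1, C_H(Q•) ∩ C_H(gQ•g⁻¹) = 1, Z(Q) ∩ Z(gQg⁻¹) = 1 and Z(Q•) ∩ Z(gQ•g⁻¹) = 1; moreover N_H(Q) = N_H(Q•) and Q• is large in H. -/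
theorem result {H : Type*} [Group H] [Finite H] {p : ℕ} [Fact p.Prime] (Q : Subgroup H) (hQp : IsPGroup p ↥Q) (hQ1 : Q ≠ ⊥) (hL : Cfsg.IsLarge Q) (Qb : Subgroup H) (hQb : Qb = Cfsg.largeBullet p Q) : (∀ g : H, g ∉ Subgroup.normalizer ((Q : Subgroup H) : Set H) → Subgroup.centralizer ((Q : Subgroup H) : Set H) ⊓ Subgroup.centralizer ((((Q : Subgroup H).map (MulAut.conj (g : H)).toMonoidHom) : Subgroup H) : Set H) = ⊥ ∧ Subgroup.centralizer ((Qb : Subgroup H) : Set H) ⊓ Subgroup.centralizer ((((Qb : Subgroup H).map (MulAut.conj (g : H)).toMonoidHom) : Subgroup H) : Set H) = ⊥ ∧ (Q ⊓ Subgroup.centralizer ((Q : Subgroup H) : Set H)) ⊓ (((Q : Subgroup H).map (MulAut.conj (g : H)).toMonoidHom) ⊓ Subgroup.centralizer ((((Q : Subgroup H).map (MulAut.conj (g : H)).toMonoidHom) : Subgroup H) : Set H)) = ⊥ ∧ (Qb ⊓ Subgroup.centralizer ((Qb : Subgroup H) : Set H)) ⊓ (((Qb : Subgroup H).map (MulAut.conj (g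 : H)).toMonoidHom) ⊓ Subgroup.centralizer ((((Qb : Subgroup H).map (MulAut.conj (g : H)).toMonoidHom) : Subgroup H) : Set H)) = ⊥) ∧ Subgroup.normalizer ((Q : Subgroup H) : Set H) = Subgroup.normalizer ((Qb : Subgroup H) : Set H) ∧ Cfsg.IsLarge Qb := by
  have h := large_wc hL hQp hQ1
  have h1 : Q ≤ Qb := hQb ▸ le_Op le_normalizer le_rfl hQp
  have h2 : IsPGroup p Qb := hQb ▸ Op_pg _
  have h3 : N(Q) = N(Qb) := le_antisymm (hQb ▸ le_norm_Op_self _) (by simpa using h.norm_le h2 h1)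
  refine ⟨fun g hg => ?_, h3, (cent_anti h1).trans (hL.1.trans h1),
    fun U h4 h5 => h3 ▸ hL.2 U (h4.trans (cent_anti h1)) h5⟩
  have h4 : C(Q) ⊓ C(cj g Q) = ⊥ := by
    by_contra hne
    have h5 := (large_cj hL g).2 _ inf_le_right hne
    exact hg (mem_norm_iff_cj.2 (h g (mem_top g) (pg_sup' hQp (IsPGroup_cj hQp g)
      ((le_norm_of_cent' inf_le_left).trans h5))))
  have h5 : C(Qb) ⊓ C(cj g Qb) = ⊥ :=
    le_bot_iff.1 ((inf_le_inf (cent_anti h1) (cent_anti (cj_mono g h1))).trans h4.le)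
  exact ⟨h4, h5, le_bot_iff.1 ((inf_le_inf inf_le_right inf_le_right).trans h4.le),
    le_bot_iff.1 ((inf_le_inf inf_le_right inf_le_right).trans h5.le)⟩


end Cfsg.Agent.S2844
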