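import Cfsg.Statements.S2849
import Cfsg.Agent.H2.WClosed

set_option autoImplicit false
open Cfsg

namespace Cfsg.Agent.S2849
open Subgroup CfsgH2
open scoped commutatorElement

open CfsgFT

/-- Standing hypotheses: G a finite group, S a Sylow p-subgroup, Q a nontrivial large p-subgroup of G contained in S (C_G(Q) ≤ Q and N_G(U) ≤ N_G(Q) for all nontrivial U ≤ C_G(Q)), and M a subgroup containing S with the basic property (M ∈ 𝔐_G(S)); Y_M denotes the largest p-reduced normal subgroup of M and M† = M·C_G(Y_M). Suppose Y_M is asymmetric in G. Then for every subgroup R with Y_M ≤ R ≤ M†, the normal closure of Y_M in N_G(R) is elementary abelian. -/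
theorem result {G : Type*} [Group G] [Finite G] {p : ℕ} [Fact p.Prime] (S : Sylow p G) (Q : Subgroup G) (hQp : IsPGroup p ↥Q) (hQ1 : Q ≠ ⊥) (hQS : Q ≤ (S : Subgroup G)) (hQ : Cfsg.IsLarge Q) (M : Subgroup G) (hSM : (S : Subgroup G) ≤ M) (hM : Cfsg.IsInFrakM p M) (hasym : ¬ Cfsg.IsSymmetricIn (Cfsg.largestPReducedOf p M)) (R : Subgroup G) (hYR : (Cfsg.largestPReducedOf p M) ≤ R) (hRM : R ≤ (M ⊔ Subgroup.centralizer (((Cfsg.largestPReducedOf p M) : Subgroup G) : Set G))) : Cfsg.IsElementaryAbelian p ((Subgroup.normalClosure ((((Cfsg.largestPReducedOf p M)).subgroupOf (Subgroup.normalizer ((R : Subgroup G) : Set G)) : Subgroup ↥(Subgroup.normalizer ((R : Subgroup G) : Set G))) : Set ↥(Subgroup.normalizer ((R : Subgroup G) : Set G)))).map (Subgroup.normalizer ((R : Subgroup G) : Set G)).subtype) := by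
  have h := fm_of S hQ hQp hQ1 hSM hM
  rw [map_normalClosure_subgroupOf (hYR.trans le_normalizer)]
  have h1 : ∀ a ∈ N(R), ∀ b ∈ N(R), cj a (largestPReducedOf p M) ≤ N(cj b (largestPReducedOf p M)) :=
    fun a ha b hb => (cj_le_of_norm ha hYR).trans (le_norm_cj_of_norm (hRM.trans h.predF.norm) hb)
  refine ea_mono (oz_ea (ncl N(R) (largestPReducedOf p M))) (ncl_le_iff.2 fun a ha =>
    le_oz (ea_cj h.pred.ea a) (cj_le_ncl _ ha) (cent_symm (ncl_le_iff.2 fun b hb => ?_)))
  exact comm_of_asym hasym (h1 b hb a ha) (h1 a ha b hb)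


end Cfsg.Agent.S2849
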