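import Cfsg.Statements.S2850
import Cfsg.Agent.H2.WClosed

set_option autoImplicit false
open Cfsg

namespace Cfsg.Agent.S2850
open Subgroup CfsgH2
open scoped commutatorElement

open CfsgFT

/-- Standing hypotheses: G a finite group, S a Sylow p-subgroup, Q a nontrivial large p-subgroup of G contained in S (C_G(Q) ≤ Q and N_G(U) ≤ N_G(Q) for all nontrivial U ≤ C_G(Q)), and M a subgroup containing S with the basic property (M ∈ 𝔐_G(S)); Y_M denotes the largest p-reduced normal subgroup of M and M† = M·C_G(Y_M). Suppose Y_M is asymmetric in G. Then N_G(L) ≤ N_G(O_p(M)) ≤ M† for every p-subgroup L containing O_p(M); O_p(M) is a weakly closed subgroup of G; for every subgroup L containing O_p(M), L ∩ M† contains a Sylow p-subgroup of L; and two elements of Y_M conjugate in G are conjugate in M. -/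
theorem result {G : Type*} [Group G] [Finite G] {p : ℕ} [Fact p.Prime] (S : Sylow p G) (Q : Subgroup G) (hQp : IsPGroup p ↥Q) (hQ1 : Q ≠ ⊥) (hQS : Q ≤ (S : Subgroup G)) (hQ : Cfsg.IsLarge Q) (M : Subgroup G) (hSM : (S : Subgroup G) ≤ M) (hM : Cfsg.IsInFrakM p M) (hasym : ¬ Cfsg.IsSymmetricIn (Cfsg.largestPReducedOf p M)) : (∀ L : Subgroup G, IsPGroup p ↥L → (Cfsg.pCoreOf p M) ≤ L → Subgroup.normalizer ((L : Subgroup G) : Set G) ≤ Subgroup.normalizer (((Cfsg.pCoreOf p M) : Subgroup G) : Set G) ∧ Subgroup.normalizer (((Cfsg.pCoreOf p M) : Subgroup G) : Set G) ≤ (M ⊔ Subgroup.centralizer (((Cfsg.largestPReducedOf p M) : Subgroup G) : Set G))) ∧ Cfsg.IsWeaklyClosedSubgroup p (Cfsg.pCoreOf p M) ∧ (∀ L : Subgroup G, (Cfsg.pCoreOf p M) ≤ L → Cfsg.IsParabolic p ((L ⊓ (M ⊔ Subgroup.centralizer (((Cfsg.largestPReducedOf p M) : Subgroup G) : Set G))).subgroupOf L)) ∧ (∀ x ∈ (Cfsg.largestPReducedOf p M), ∀ g : G, g * x * g⁻¹ ∈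 (Cfsg.largestPReducedOf p M) → ∃ m ∈ M, m * x * m⁻¹ = g * x * g⁻¹) := by
  have h := fm_of S hQ hQp hQ1 hSM hM
  refine ⟨fun L h1 h2 => ⟨h.norm_le_norm hasym h1 h2, h.norm_O⟩, (wc_top_iff h.O_pg).2 (h.wcG hasym),
    fun L h1 => ?_, fun x hx g hg => ?_⟩
  · obtain ⟨T, h2, -, h3⟩ := h.exists_sylow hasym h1
    exact ⟨h2.toSylow, comap_mono (le_inf h2.le h3)⟩
  · have h1 : cj g (pCoreOf p M) ≤ C1(g * x * g⁻¹) := by
      rw [← cj_centralizer_singleton]; exact cj_mono g (h.O_le_cent.trans (cent_le_cent1 hx))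
    obtain ⟨k, hk, e⟩ := (h.wcG hasym).exists_cj h.O_pg le_top (h.O_le_cent.trans (cent_le_cent1 hg))
      (mem_top g) h1
    have h2 : k⁻¹ * g ∈ N(pCoreOf p M) := mem_norm_iff_cj.2 (by rw [← cj_cj, e, cj_inv_cj])
    obtain ⟨m, hm, c, hc, e2⟩ := (mem_sup_of_normalizer' h.pred.normC).1 (h.norm_O h2)
    refine ⟨m, hm, ?_⟩
    have h3 := mem_cent.1 hc x hx
    have h4 := mem_cent1.1 hk
    calc m * x * m⁻¹ = m * (x * c) * (m * c)⁻¹ := by group
      _ = (m * c) * x * (m * c)⁻¹ := by rw [h3]; group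
      _ = k⁻¹ * (g * x * g⁻¹ * k) := by rw [e2]; group
      _ = g * x * g⁻¹ := by rw [h4]; group


end Cfsg.Agent.S2850
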