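import Cfsg.Statements.S2851
import Cfsg.Agent.H2.WClosed

set_option autoImplicit false
open Cfsg

namespace Cfsg.Agent.S2851
open Subgroup CfsgH2
open scoped commutatorElement

open CfsgFT

/-- Standing hypotheses: G a finite group, S a Sylow p-subgroup, Q a nontrivial large p-subgroup of G contained in S, M a subgroup containing S with the basic property (M ∈ 𝔐_G(S)); Y_M the largest p-reduced normal subgroup of M and M† = M·C_G(Y_M). Let F be the preimage in M† of the generalized Fitting subgroup of M†/C_{M†}(Y_M). If Y_M is asymmetric in G and H is a subgroup of characteristic p containing F, then Y_M ≤ Y_H. -/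
theorem result {G : Type*} [Group G] [Finite G] {p : ℕ} [Fact p.Prime] (S : Sylow p G) (Q : Subgroup G) (hQp : IsPGroup p ↥Q) (hQ1 : Q ≠ ⊥) (hQS : Q ≤ (S : Subgroup G)) (hQ : Cfsg.IsLarge Q) (M : Subgroup G) (hSM : (S : Subgroup G) ≤ M) (hM : Cfsg.IsInFrakM p M) (hasym : ¬ Cfsg.IsSymmetricIn (Cfsg.largestPReducedOf p M)) [hn : ((Subgroup.centralizer (((Cfsg.largestPReducedOf p M) : Subgroup G) : Set G)).subgroupOf (M ⊔ Subgroup.centralizer (((Cfsg.largestPReducedOf p M) : Subgroup G) : Set G))).Normal] (F : Subgroup G) (hF : F = ((Cfsg.generalizedFittingSubgroup (↥(M ⊔ Subgroup.centralizer (((Cfsg.largestPReducedOf p M) : Subgroup G) : Set G)) ⧸ (Subgroup.centralizer (((Cfsg.largestPReducedOf p M) : Subgroup G) : Set G)).subgroupOf (M ⊔ Subgroup.centralizer (((Cfsg.largestPReducedOf p M) : Subgroup G) : Set G)))).comap (QuotientGroup.mk' ((Subgroup.centralizer (((Cfsg.largestPReducedOf p M) : Subgroup G) : Set G)).subgroupOf (M ⊔ Subgroup.centralizer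 (((Cfsg.largestPReducedOf p M) : Subgroup G) : Set G))))).map ((M ⊔ Subgroup.centralizer (((Cfsg.largestPReducedOf p M) : Subgroup G) : Set G))).subtype) (H : Subgroup G) (hFH : F ≤ H) (hH : Subgroup.centralizer (Cfsg.pCore p ↥H : Set ↥H) ≤ Cfsg.pCore p ↥H) : (Cfsg.largestPReducedOf p M) ≤ Cfsg.largestPReducedOf p H := by
  have h := fm_of S hQ hQp hQ1 hSM hM
  generalize largestPReducedOf p M = Y at *
  obtain ⟨D, hD⟩ : ∃ D, D = M ⊔ C(Y) := ⟨_, rfl⟩
  rw [← hD] at h
  have hred := h.predF.red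
  subst hD
  have hp0 := red_iff.2 hred
  have hCF : C(Y) ≤ F := hF ▸ le_map_of_subgroupOf_le le_sup_right (CfsgH1.le_comap_mk' _ _)
  have hFD : F ≤ M ⊔ C(Y) := hF ▸ map_subtype_le _
  obtain ⟨T, h1, h2, h3⟩ := h.exists_sylow hasym (h.O_le_cent.trans (hCF.trans hFH))
  have h4 : H ⊓ (M ⊔ C(Y)) ≤ N(Y) := inf_le_right.trans h.predF.norm
  refine PRed.le_YL_of_le (R := H ⊓ (M ⊔ C(Y))) ⟨h.Y_le.trans (h2.trans (le_inf h1.le h3)), h4, h.pred.ea,
    red_of_normal (le_normalizer_centralizer' h4) fun X a b c => ?_⟩ (chP_iff.1 hH) h1 (le_inf h1.le h3) inf_le_left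
  obtain ⟨f, hf⟩ : ∃ f, f = QuotientGroup.mk' (C(Y).subgroupOf (M ⊔ C(Y))) := ⟨_, rfl⟩
  have hs : Function.Surjective f := hf ▸ QuotientGroup.mk'_surjective _
  obtain ⟨E, hE⟩ : ∃ E, E = generalizedFittingSubgroup (↥(M ⊔ C(Y)) ⧸ C(Y).subgroupOf (M ⊔ C(Y))) := ⟨_, rfl⟩
  haveI : E.Normal := hE ▸ CfsgLead.genFitting_normal _
  have hEc : C(E) ≤ E := hE ▸ CfsgLead.centralizer_genFitting_le _
  rw [← hf, ← hE] at hF
  have h5 : IsPGroup p ((X.subgroupOf (M ⊔ C(Y))).map f) := by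
    rw [← resIn_eq_bot_iff, ← map_resIn, hf, CfsgH1.map_mk'_eq_bot_iff]
    refine resIn_le_of_pow_mem fun x hx => ?_
    obtain ⟨k, hk⟩ := exists_pow_mem_resIn (p := p) (mem_subgroupOf.1 hx)
    exact ⟨k, c hk⟩
  have h6 : E ≤ N((X.subgroupOf (M ⊔ C(Y))).map f) := by
    have := map_le_norm f (subgroupOf_le_norm (M ⊔ C(Y)) ((le_inf hFH hFD).trans b))
    rwa [hF, subgroupOf_map_subtype_self, map_comap_eq_self_of_surjective hs] at this
  have hEn : ⊤ ≤ N(E) := by rw [normalizer_eq_top]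
  have h7 : (X.subgroupOf (M ⊔ C(Y))).map f ⊓ E = ⊥ := by
    rw [← le_bot_iff, ← hp0, ← Op_top]
    exact le_Op_of_sn ((CfsgLead.SN.of_normal inf_le_right (le_normalizer_inf' h6 le_normalizer)).trans
      (CfsgLead.SN.of_normal le_top hEn)) (h5.to_le inf_le_left)
  have h8 := cent_of_comm_eq_bot (le_bot_iff.1 ((le_inf (comm_le_left h6) (comm_le_right (le_top.trans hEn))).trans h7.le))
  rw [inf_eq_left.2 (h8.trans hEc), hf, CfsgH1.map_mk'_eq_bot_iff] at h7
  exact le_of_subgroupOf_le (a.trans inf_le_right) h7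


end Cfsg.Agent.S2851
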