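import Cfsg.Statements.S2854
import Cfsg.Agent.H2.WClosed

set_option autoImplicit false
open Cfsg

namespace Cfsg.Agent.S2854
open Subgroup CfsgH2
open scoped commutatorElement

open CfsgFT

/-- Standing hypotheses: G a finite group, S a Sylow p-subgroup, Q a nontrivial large p-subgroup of G contained in S, M a subgroup containing S with the basic property (M ∈ 𝔐_G(S)); Y_M the largest p-reduced normal subgroup of M and M† = M·C_G(Y_M). Suppose Y_M is asymmetric in G, H ∈ ℌ_G(O_p(M)), and H ≤ N_G(gQg⁻¹) for some g ∈ G. Then gQg⁻¹ ≤ O_p(H·gQg⁻¹) ≤ N_G(O_p(M)) ≤ N_G(Y_M) = M†; H is normal in H·gQg⁻¹ with O^p(H) = O^p(H·gQg⁻¹); and H·gQg⁻¹ is p-irreducible. -/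
theorem result {G : Type*} [Group G] [Finite G] {p : ℕ} [Fact p.Prime] (S : Sylow p G) (Q : Subgroup G) (hQp : IsPGroup p ↥Q) (hQ1 : Q ≠ ⊥) (hQS : Q ≤ (S : Subgroup G)) (hQ : Cfsg.IsLarge Q) (M : Subgroup G) (hSM : (S : Subgroup G) ≤ M) (hM : Cfsg.IsInFrakM p M) (hasym : ¬ Cfsg.IsSymmetricIn (Cfsg.largestPReducedOf p M)) (H : Subgroup G) (hH : Cfsg.IsInFrakH p M H) (g : G) (hHQ : H ≤ Subgroup.normalizer ((((Q : Subgroup G).map (MulAut.conj (g : G)).toMonoidHom) : Subgroup G) : Set G)) : ((Q : Subgroup G).map (MulAut.conj (g : G)).toMonoidHom) ≤ Cfsg.pCoreOf p (H ⊔ ((Q : Subgroup G).map (MulAut.conj (g : G)).toMonoidHom)) ∧ Cfsg.pCoreOf p (H ⊔ ((Q : Subgroup G).map (MulAut.conj (g : G)).toMonoidHom)) ≤ Subgroup.normalizer (((Cfsg.pCoreOf p M) : Subgroup G) : Set G) ∧ Subgroup.normalizer (((Cfsg.pCoreOf p M) : Subgroup G) : Set G) ≤ Subgroup.normalizer (((Cfsg.largestPReducedOf p M) : Subgroup G) : Set G) ∧ Subgroup.normalizer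 (((Cfsg.largestPReducedOf p M) : Subgroup G) : Set G) = (M ⊔ Subgroup.centralizer (((Cfsg.largestPReducedOf p M) : Subgroup G) : Set G)) ∧ (H.subgroupOf (H ⊔ ((Q : Subgroup G).map (MulAut.conj (g : G)).toMonoidHom))).Normal ∧ (Cfsg.pResidual p ↥H).map H.subtype = (Cfsg.pResidual p ↥(H ⊔ ((Q : Subgroup G).map (MulAut.conj (g : G)).toMonoidHom))).map (H ⊔ ((Q : Subgroup G).map (MulAut.conj (g : G)).toMonoidHom)).subtype ∧ Cfsg.IsPIrreducible p ↥(H ⊔ ((Q : Subgroup G).map (MulAut.conj (g : G)).toMonoidHom)) := by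
  have h := fm_of S hQ hQp hQ1 hSM hM
  obtain ⟨h1, h2, h3, h4⟩ := hH
  obtain ⟨h5, h6, h7⟩ := frakH_basic h3 h4 h2 h.O_pg h.Y_le h.O_le_cent
  rw [cj_def] at hHQ ⊢
  have hQg := IsPGroup_cj hQp g
  generalize cj g Q = Qg at *
  generalize largestPReducedOf p M = Y at *
  generalize pCoreOf p M = O at *
  rw [map_pResidual, map_pResidual, pirr_iff]
  obtain ⟨P, hP⟩ : ∃ P, P = pCoreOf p (H ⊔ Qg) := ⟨_, rfl⟩
  rw [← hP]
  have hPp : IsPGroup p P := hP ▸ Op_pg _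
  have hPn : H ⊔ Qg ≤ N(P) := hP ▸ le_norm_Op_self _
  have hPK : P ≤ H ⊔ Qg := hP ▸ Op_le _
  have a1 : Qg ≤ P := hP ▸ le_Op le_sup_right (sup_le hHQ le_normalizer) hQg
  have a2 : P ≤ N(O) := h.le_norm_O hasym hPp (h2.trans (le_sup_left.trans hPn))
  have a3 : N(O) ≤ N(Y) := h.norm_O.trans h.predF.norm
  have hHR := le_normalizer_resIn (p := p) H
  have hYH := h.Y_le.trans h2
  have a4 : P ≤ N(ncl H Y) := le_norm_sSup (by
    rintro a ha _ ⟨x, hx, rfl⟩
    exact ⟨x, hx, cj_eq_of_norm (le_norm_cj_of_norm (a2.trans a3) (hPn (mem_sup_left hx)) ha)⟩)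
  have a5 : P ≤ N(resIn p H) := by
    have := le_norm_resIn (p := p) a4
    rwa [← h7, sup_comm, resIn_sup_of_isPGroup h.pred.pg (hYH.trans hHR), resIn_resIn] at this
  have a6 : P ≤ N(H) := h6 ▸ le_normalizer_sup' a5 a2
  have a7 : resIn p (H ⊔ Qg) = resIn p H := by rw [sup_comm, resIn_sup_of_isPGroup hQg (a1.trans a6)]
  refine ⟨a1, a2, a3, h.norm_Y, normal_subgroupOf (sup_le le_normalizer (a1.trans a6)), a7.symm, fun e => ?_,
    fun X b1 b2 b3 => ?_⟩
  · obtain ⟨T, c1, c2⟩ := IsSylowIn.exists_le h.O_pg h2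
    exact h3 (h.Y_le.trans (c2.trans ((e.mono le_sup_left).eq_Op c1).le))
  · rw [a7]
    by_contra hne
    obtain ⟨D, hD⟩ : ∃ D, D = (P ⊔ X) ⊓ H := ⟨_, rfl⟩
    have c1 : D ≤ H := hD ▸ inf_le_right
    have c2 : H ≤ N(D) := hD ▸ le_normalizer_inf' (le_sup_left.trans (le_normalizer_sup' hPn b2)) le_normalizer
    have c3 : X ≤ P ⊔ D := by
      rw [hD, ← inf_sup_left le_sup_left (le_sup_left.trans hPn)]
      exact le_inf le_sup_right (b1.trans (sup_le le_sup_right (a1.trans le_sup_left)))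
    have c4 : O ⊔ D < H := lt_of_le_of_ne (sup_le h2 c1) fun e => hne (by
      rw [← e, resIn_sup_of_isPGroup h.O_pg (h2.trans c2)]
      refine (resIn_mono (hD ▸ inf_le_left)).trans ?_
      rw [resIn_sup_of_isPGroup hPp (hPK.trans b2)]; exact resIn_le X)
    have c5 : ⁅Y, D⁆ ≤ pCoreOf p H := (le_inf ((commutator_mono (h4 _ le_sup_left c4) le_rfl).trans
      (comm_le_left (le_sup_right.trans (le_norm_Op_self _)))) (comm_le_right (hYH.trans c2))).trans
      ((Op_inf_le le_sup_right).trans (Op_le_Op_of_normal c1 c2))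
    have c6 := le_norm_Op_self (p := p) H
    have c7 : ⁅ncl H Y, D⁆ ≤ pCoreOf p H := by
      rw [← le_centMod_iff ((ncl_le_of_le hYH).trans c6)]
      refine ncl_le_iff.2 fun x hx => (le_centMod_iff ((cj_le_of_mem hx hYH).trans c6)).2 ?_
      rw [← cj_eq_of_norm (c2 hx), ← cj_commutator]
      exact cj_le_of_norm (c6 hx) c5
    refine b3 (((pcl_of_comm_le (Op_pg H) (c1.trans c6) ?_).sup hPp (c1.trans (le_sup_left.trans hPn))).mono c3)
    rw [commutator_comm]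
    exact (commutator_mono ((resIn_mono c1).trans (le_sup_left.trans h7.le)) le_rfl).trans c7


end Cfsg.Agent.S2854
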