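import Cfsg.Statements.S2855
import Cfsg.Agent.H2.SPE

set_option autoImplicit false
open Cfsg

namespace Cfsg.Agent.S2855
open Subgroup CfsgH2
open scoped commutatorElement

open CfsgFT CfsgLead

/-- Let H be a finite group, p a prime, and 𝒦 a nonempty set of subgroups of H permuted transitively by conjugation, with R the subgroup generated by the members of 𝒦. Suppose O^p(H) ≤ R, each E ∈ 𝒦 has E·O_p(H) normal in R·O_p(H), and each E ∈ 𝒦 is p-minimal (generated by the conjugates of a Sylow p-subgroup T_E of E, with T_E in exactly one maximal subgroup of E). Then H is p-minimal in the same sense. If instead each E ∈ 𝒦 is strongly p-irreducible, then H is p-irreducible and, for E, K ∈ 𝒦, either O^p(E·O_p(H)) = O^p(K·O_p(H)) or [E, K] ≤ O_p(H). -/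
theorem result {H : Type*} [Group H] [Finite H] {p : ℕ} [Fact p.Prime] (𝒦 : Set (Subgroup H)) (hne : 𝒦.Nonempty) (hinv : ∀ h : H, ∀ E ∈ 𝒦, E.map (MulAut.conj h).toMonoidHom ∈ 𝒦) (htr : ∀ E ∈ 𝒦, ∀ K ∈ 𝒦, ∃ h : H, K = E.map (MulAut.conj h).toMonoidHom) (hres : Cfsg.pResidual p H ≤ sSup 𝒦) (hnorm : ∀ E ∈ 𝒦, sSup 𝒦 ⊔ Cfsg.pCore p H ≤ Subgroup.normalizer ((E ⊔ Cfsg.pCore p H : Subgroup H) : Set H)) : ((∀ E ∈ 𝒦, ∀ T : Sylow p ↥E, Cfsg.IsMinimalOver (T : Subgroup ↥E)) → ∀ T : Sylow p H, Cfsg.IsMinimalOver (T : Subgroup H)) ∧ ((∀ E ∈ 𝒦, Cfsg.IsStronglyPIrreducible p ↥E) → Cfsg.IsPIrreducible p H ∧ ∀ E ∈ 𝒦, ∀ K ∈ 𝒦, (Cfsg.pResidual p ↥(E ⊔ Cfsg.pCore p H)).map (E ⊔ Cfsg.pCore p H).subtype = (Cfsg.pResidual p ↥(K ⊔ Cfsg.pCore p H)).map (K ⊔ Cfsg.pCore p H).subtype ∨ ⁅E, K⁆ ≤ Cfsg.pCore p H) := by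
  obtain ⟨O, hO⟩ : ∃ O, O = pCore p H := ⟨_, rfl⟩
  obtain ⟨R, hR⟩ : ∃ R, R = sSup 𝒦 := ⟨_, rfl⟩
  haveI : O.Normal := hO ▸ inferInstance
  have hOn : ⊤ ≤ N(O) := by rw [normalizer_eq_top]
  have hOp : IsPGroup p O := hO ▸ CfsgH1.isPGroup_pCore p H
  have hRn : ⊤ ≤ N(R) := hR ▸ le_norm_sSup fun a _ X hX => hinv a X hX
  have hE : ∀ E ∈ 𝒦, E ≤ R := fun E a => hR ▸ le_sSup a
  rw [← resIn_top, ← hR] at hres
  rw [← hO, ← hR] at hnorm
  have hRO : ⊤ ≤ N(R ⊔ O) := le_normalizer_sup' hRn hOn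
  have hsn : ∀ E ∈ 𝒦, SN (E ⊔ O) ⊤ := fun E a =>
    (SN.of_normal (sup_le_sup_right (hE E a) _) (hnorm E a)).trans (SN.of_normal le_top hRO)
  refine ⟨fun h T => ?_, fun h => ?_⟩
  · have hT := IsSylowIn.of_sylow_top T
    have hOT : O ≤ T := hO ▸ CfsgH1.pCore_le_sylow T
    have key : ∀ E ∈ 𝒦, ∃ M, YM ((T : Subgroup H) ⊓ (E ⊔ O)) (E ⊔ O) M := fun E a => by
      obtain ⟨S⟩ : Nonempty (Sylow p E) := inferInstance
      obtain ⟨M, b⟩ := ym_map_iff.1 (h E a S)
      have c := IsSylowIn.of_sylow_map S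
      have d := b.sup_pg c hOp (le_top.trans hOn)
      rw [sup_comm O E] at d
      refine d.of_sylow (IsSylowIn.of_maximal d.Y_le (pg_sup hOp c.pgroup (le_top.trans hOn)) fun Q e f g => ?_)
        (sylow_inf_sn hT (hsn E a))
      have := CfsgFT.inf_sup_left (le_sup_left.trans f) (le_top.trans hOn : E ≤ _)
      rw [sup_comm O E, inf_eq_left.2 g,
        c.eq_of_le (e.to_le inf_le_left) (le_inf (le_sup_right.trans f) c.le) inf_le_right] at this
      exact this.le
    have hTR : (T : Subgroup H) ⊔ R = ⊤ := top_le_iff.1 (le_of_sylow_res hT le_sup_left (hres.trans le_sup_right))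
    obtain ⟨E, a⟩ := hne
    obtain ⟨M, b⟩ := key E a
    have h1 : ∀ X, (T : Subgroup H) ≤ X → ¬ E ≤ X → X ⊓ (R ⊔ O) ≤ N(M) := fun X c d x hx => by
      have e : X ⊓ (E ⊔ O) ≤ M := b.max _ (inf_le_inf_right _ c) (inf_lt_right.2 fun e => d (le_sup_left.trans e))
      have f := hnorm E a (mem_inf.1 hx).2
      have g := b.max (cj x⁻¹ M) (cj_le_iff_le_cj_inv.1 (le_trans ?_ e)) (by
        have := (b.cj x⁻¹).lt
        rwa [cj_eq_of_norm (inv_mem f)] at this)
      · simpa using inv_mem (mem_normalizer_of_cj_le g)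
      · rw [cj_inf, cj_eq_of_norm f]
        exact inf_le_inf_right _ (cj_le_of_mem (mem_inf.1 hx).1 c)
    have h2 : ∀ X, (T : Subgroup H) ≤ X → X < ⊤ → ¬ E ≤ X := fun X c d e => by
      refine d.not_ge (hTR.ge.trans (sup_le c (hR ▸ sSup_le fun K f => ?_)))
      obtain ⟨g, rfl⟩ := htr E a K f
      obtain ⟨t, ht, r, hr, rfl⟩ := (mem_sup_of_normalizer' (le_top.trans hRn)).1 (hTR.ge (mem_top g))
      rw [cj_def, ← cj_cj]
      exact cj_le_of_mem (c ht) ((cj_le_of_norm (hnorm E a (mem_sup_left hr)) le_sup_left).trans (sup_le e (hOT.trans c)))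
    obtain ⟨W, hW⟩ : ∃ W, W = sSup {Z | Z ≤ (R ⊔ O) ⊓ N(M) ∧ (T : Subgroup H) ≤ N(Z)} := ⟨_, rfl⟩
    have w1 : W ≤ (R ⊔ O) ⊓ N(M) := hW ▸ sSup_le fun Z c => c.1
    have w2 : (T : Subgroup H) ≤ N(W) := hW ▸ le_norm_sSup fun t ht Z c => by rwa [cj_eq_of_norm (c.2 ht)]
    have hTE : ¬ E ≤ T := fun e => b.not_le ((le_inf (sup_le e hOT) le_rfl).trans b.le)
    refine ym_top_iff.2 ⟨W ⊔ T, ⟨le_sup_right, lt_top_iff_ne_top.2 fun e => b.not_le_norm ?_, fun X c d => ?_⟩,
      top_le_iff.1 (hTR.ge.trans (sup_le (le_ncl _ _) (hR ▸ sSup_le fun K f => ?_)))⟩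
    · have := CfsgFT.inf_sup_left (w1.trans inf_le_left) w2
      rw [e, inf_top_eq] at this
      exact (sup_le_sup_right (hE E a) _).trans (this.le.trans (sup_le (w1.trans inf_le_right)
        (inf_comm (R ⊔ O) _ ▸ h1 _ le_rfl hTE)))
    · have := CfsgFT.inf_sup_right c (le_top.trans hRO)
      rw [sup_right_comm, sup_comm R, hTR, top_sup_eq, inf_top_eq] at this
      rw [this, hW]
      refine sup_le_sup_right (le_sSup ?_) _
      exact ⟨le_inf inf_le_right (h1 X c (h2 X c d)), le_normalizer_inf' (le_norm_of_le c) (le_top.trans hRO)⟩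
    · obtain ⟨M', g⟩ := key K f
      exact le_sup_left.trans (g.gen.ge.trans (ncl_mono le_top inf_le_left))
  · simp only [spirr_iff, map_pResidual, ← hO] at h ⊢
    obtain ⟨f, hf⟩ : ∃ f, f = QuotientGroup.mk' O := ⟨_, rfl⟩
    have hs : Function.Surjective f := hf ▸ QuotientGroup.mk'_surjective O
    have hk : f.ker = O := hf ▸ QuotientGroup.ker_mk' O
    have hm : ∀ X : Subgroup H, (X ⊔ O).map f = X.map f := fun X => by
      rw [Subgroup.map_sup, (Subgroup.map_eq_bot_iff O).2 hk.ge, sup_bot_eq]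
    have hc : ∀ X : Subgroup H, (X.map f).comap f = X ⊔ O := fun X => by rw [comap_map_eq, hk]
    have h0 : pCoreOf p (⊤ : Subgroup (H ⧸ O)) = ⊥ := by
      rw [Op_top]; subst hO; exact CfsgH1.pCore_quotient_pCore p H
    have ht := map_top_of_surjective f hs
    have a1 : ∀ E ∈ 𝒦, SN (E.map f) ⊤ := fun E a => by simpa only [hm, ht] using (hsn E a).map f
    have a2 : ∀ E ∈ 𝒦, R.map f ≤ N(E.map f) := fun E a => by simpa only [hm] using map_le_norm f (hnorm E a)
    have a3 : ∀ E ∈ 𝒦, ∀ X ≤ E.map f, E.map f ≤ N(X) → ⁅X, E.map f⁆ ≠ ⊥ → resIn p (E.map f) ≤ X :=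
      fun E a X b c d => by
      have e : (E ⊓ X.comap f).map f = X := le_antisymm (map_le_iff_le_comap.2 inf_le_right) fun y hy => by
        obtain ⟨x, hx, rfl⟩ := b hy
        exact mem_map_of_mem f (mem_inf.2 ⟨hx, hy⟩)
      rw [← map_resIn, map_le_iff_le_comap]
      refine ((h E a).2 (E ⊓ X.comap f) inf_le_left (le_normalizer_inf' le_normalizer
        ((map_le_iff_le_comap.1 c).trans (le_normalizer_comap f))) fun g => d ?_).trans inf_le_right
      rw [← e, ← map_commutator, ← le_bot_iff, ← h0]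
      exact (map_mono g).trans ((map_Op_le f E).trans (Op_le_Op_of_sn (a1 E a)))
    have a4 : ∀ E ∈ 𝒦, ¬ PCl p (E.map f) := fun E a e => (h E a).1 (e.of_map f (hOp.to_le (inf_le_right.trans hk.le)))
    have a5 : ∀ E ∈ 𝒦, pElementClosure p (E.map f) = E.map f := fun E a => by
      obtain ⟨S, b⟩ := IsSylowIn.exists_sylowIn p (E.map f)
      refine le_antisymm (pec_le _) (le_of_sylow_res b (le_pec b.pgroup b.le) (a3 E a _ (pec_le _)
        (le_norm_pec le_normalizer) fun e => a4 E a (pcl_of_normal b (le_norm_of_cent'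
          ((le_pec b.pgroup b.le).trans (cent_of_comm_eq_bot e))))))
    have a6 : ∀ E ∈ 𝒦, ∀ X Z : Subgroup (H ⧸ O), ⁅X, E.map f⁆ ≤ Z → Z ≤ C(Z) → SN Z ⊤ → Z ≤ C(E.map f) →
        X ≤ C(E.map f) := fun E a X Z b c d e => le_cent_of_comm_le_p' (a5 E a) (not_dvd_of_comm_sn h0 c d) b e
    have a7 : ∀ E ∈ 𝒦, ∀ X : Subgroup (H ⧸ O), X ≤ N(E.map f) → E.map f ≤ N(X) →
        resIn p (E.map f) ≤ X ∨ X ≤ C(E.map f) := fun E a X b c => by
      by_cases d : ⁅X ⊓ E.map f, E.map f⁆ = ⊥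
      · have e := cent_of_comm_eq_bot d
        exact Or.inr (a6 E a X _ (le_inf (comm_le_left c) (comm_le_right b)) (e.trans (cent_anti inf_le_right))
          ((SN.of_normal inf_le_right (le_normalizer_inf' c le_normalizer)).trans (a1 E a)) e)
      · exact Or.inl ((a3 E a _ inf_le_right (le_normalizer_inf' c le_normalizer) d).trans inf_le_left)
    have a8 : ∀ X Y : Subgroup H, resIn p (X.map f) ≤ Y.map f → resIn p (X ⊔ O) ≤ Y ⊔ O := fun X Y a => by
      rw [← hc Y, ← map_le_iff_le_comap, map_resIn, hm]; exact a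
    obtain ⟨E₀, b0⟩ := hne
    refine ⟨pirr_top_iff.2 ⟨fun e => (h E₀ b0).1 (e.mono le_top), fun X _ b c => ?_⟩, fun E a K b => ?_⟩
    · have d := map_le_norm f b
      rw [ht] at d
      have hRf : ⊤ ≤ N(R.map f) := ht ▸ map_le_norm f hRn
      by_cases e : ∃ E ∈ 𝒦, resIn p (E.map f) ≤ X.map f
      · obtain ⟨E, a, e⟩ := e
        haveI := normal_of_top_le (le_normalizer_sup' b hOn)
        obtain ⟨φ, hφ⟩ : ∃ φ, φ = QuotientGroup.mk' (X ⊔ O) := ⟨_, rfl⟩
        have k1 : φ.ker = X ⊔ O := hφ ▸ QuotientGroup.ker_mk' _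
        have k2 : IsPGroup p (R.map φ) := (Op_pg (R.map φ)).to_le (by
          rw [map_le_iff_le_comap, hR]
          refine sSup_le fun K g => le_sup_left.trans (map_le_iff_le_comap.1 (le_Op
            (by rw [Subgroup.map_sup, (Subgroup.map_eq_bot_iff O).2 (le_sup_right.trans k1.ge), sup_bot_eq]
                exact map_mono (le_sSup g))
            (map_le_norm φ (hR ▸ le_sup_left.trans (hnorm K g))) ?_))
          obtain ⟨x, rfl⟩ := htr E a K g
          rw [← resIn_eq_bot_iff, ← map_resIn, Subgroup.map_eq_bot_iff, k1]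
          refine a8 _ _ ?_
          rw [cj_def, map_cj, ← cj_resIn]
          exact cj_le_of_norm (d (mem_top _)) e)
        rw [← resIn_eq_bot_iff, ← map_resIn, Subgroup.map_eq_bot_iff, k1, resIn_eq_of_le_of_le hres le_top,
          sup_comm] at k2
        exact le_of_res_sup hOp (le_top.trans b) k2
      · exfalso
        have k1 : X.map f ⊓ R.map f ≤ C(R.map f) := cent_symm (by
          rw [map_le_iff_le_comap]
          nth_rw 1 [hR]
          refine sSup_le fun K g => map_le_iff_le_comap.1 (cent_symm ((a7 K g _ (inf_le_right.trans (a2 K g))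
            (le_top.trans (le_normalizer_inf' d hRf))).resolve_left fun i => e ⟨K, g, i.trans inf_le_left⟩)))
        have k2 : X.map f ≤ C(R.map f) := cent_symm (by
          rw [map_le_iff_le_comap]
          nth_rw 1 [hR]
          refine sSup_le fun K g => map_le_iff_le_comap.1 (cent_symm (a6 K g _ _ (le_inf (comm_le_left (le_top.trans d))
            ((commutator_mono le_rfl (map_mono (hE K g))).trans (comm_le_right (le_top.trans hRf))))
            (k1.trans (cent_anti inf_le_right)) (SN.of_normal le_top (le_normalizer_inf' d hRf))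
            (k1.trans (cent_anti (map_mono (hE K g)))))))
        refine c (PCl.of_map f (hOp.to_le (inf_le_right.trans hk.le)) (pcl_of_comm_le isPGroup_bot' (le_norm_bot _)
          (comm_eq_bot (k2.trans (cent_anti ?_))).le))
        rw [← map_resIn]; exact map_mono ((resIn_mono le_top).trans hres)
    · have c := (map_mono (f := f) (hE E a)).trans (a2 K b)
      have d := (map_mono (f := f) (hE K b)).trans (a2 E a)
      have e : ∀ X Y : Subgroup H, X.map f ≤ C(Y.map f) → ⁅X, Y⁆ ≤ O := fun X Y e => by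
        rw [← hk, ← Subgroup.map_eq_bot_iff, map_commutator]; exact comm_eq_bot e
      rcases a7 E a _ d c with g | g
      · rcases a7 K b _ c d with i | i
        · refine Or.inl (le_antisymm ?_ ?_)
          · rw [← resIn_resIn]; exact resIn_mono (a8 _ _ g)
          · rw [← resIn_resIn]; exact resIn_mono (a8 _ _ i)
        · exact Or.inr (e _ _ i)
      · exact Or.inr (e _ _ (cent_symm g))


end Cfsg.Agent.S2855
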