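import Cfsg.Statements.S2856
import Cfsg.Agent.H2.Coset

set_option autoImplicit false
open Cfsg

namespace Cfsg.Agent.S2856
open Subgroup CfsgH2
open scoped commutatorElement

open CfsgFT

/-- Let (M₁, M₂) be an amalgam pair in X satisfying the rank-two standing hypothesis (characteristic p, the normalizers in M₁ and in M₂ of a Sylow p-subgroup of M₁ ∩ M₂ equal and contained in M₁ ∩ M₂, and strongly p-embedded residues), λ a vertex of the coset graph, L_λ the subgroup of its stabilizer generated by the p-elements, Q_λ = O_p of the stabilizer, O^p(L_λ) the subgroup of L_λ generated by its elements of order prime to p, and V_λ^{(k)} the subgroup generated by the Z_μ over the vertices μ at distance at most k from λ (Z_μ being generated by the Ω₁(Z(S)), S a Sylow p-subgroup of the stabilizer of μ). If n ≥ 1 and V_λ^{(n)} ≤ Q_λ, then O^p(L_λ) does not centralize V_λ^{(n)}/[V_λ^{(n)}, Q_λ], that is, [V_λ^{(n)}, O^p(L_λ)] is not contained in [V_λ^{(n)},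 Q_λ]. -/
theorem result {X : Type*} [Group X] {p : ℕ} [Fact p.Prime] (M₁ M₂ : Subgroup X) (h : Cfsg.IsSpeAmalgamPair p M₁ M₂) (lam : Cfsg.CosetVertex M₁ M₂) (n : ℕ) (hn : 1 ≤ n) (V : Subgroup X) (hV : V = Cfsg.vertexVIter p M₁ M₂ n lam) (hVQ : V ≤ Cfsg.vertexQ p lam) : ¬ ⁅V, ((Cfsg.pResidual p ↥(Cfsg.pElementClosure p (MulAction.stabilizer X lam))).map (Cfsg.pElementClosure p (MulAction.stabilizer X lam)).subtype)⁆ ≤ ⁅V, Cfsg.vertexQ p lam⁆ := by
  have hp0 := ap_of h.1
  have hcon := cg_connected hp0.sup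
  obtain ⟨μ, hμ⟩ := cg_exists_adj lam
  have hp := hp0.adj hμ
  have hn' := (nc_of h).adj hμ
  haveI := hp.finA
  obtain ⟨m, rfl⟩ : ∃ m, n = m + 1 := ⟨n - 1, by omega⟩
  rw [map_pResidual]
  intro hc
  obtain ⟨W, hW⟩ : ∃ W, W = vertexVIter p M₁ M₂ m μ := ⟨_, rfl⟩
  have w1 : W ≤ V := hW ▸ hV ▸ V_le_V hcon m hμ.symm
  have w2 : MulAction.stabilizer X μ ≤ N(W) := hW ▸ hp0.le_norm_V m μ
  have w3 : vertexZ p μ ≤ W := hW ▸ Z_le_V (by simp)
  have z1 : vertexZ p lam ≤ V := hV ▸ Z_le_V (by simp)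
  have z2 : vertexZ p lam ≤ C(vertexQ p lam) := ZL_le_cent
  have q1 : vertexQ p lam ≤ MulAction.stabilizer X μ := hp.Op_le
  have v1 : V ≤ (W ⊔ vertexZ p lam) ⊔ ⁅V, vertexQ p lam⁆ := by
    rw [hV]
    refine iSup_le fun ν => ?_
    rw [← hV]
    by_cases e : lam = ν
    · rw [← e]; exact le_sup_right.trans le_sup_left
    obtain ⟨μ', b1, b2⟩ := exists_adj_dist hcon e
    obtain ⟨g, hg, rfl⟩ := cg_trans hμ b1
    obtain ⟨r, hr, hr'⟩ := hp.fac hn' hg
    have e1 : g • μ = r • μ := by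
      have : (r⁻¹ * g) • μ = μ := hr'.2
      rw [mul_smul, inv_smul_eq_iff] at this
      exact this
    have c1 : vertexZ p (ν : CosetVertex M₁ M₂) ≤ vertexVIter p M₁ M₂ m (r • μ) :=
      Z_le_V (by have := ν.2; rw [← e1]; omega)
    have c2 := hp0.cj_V m r⁻¹ (r • μ)
    rw [inv_smul_smul, cj_le_iff_le_cj_inv, inv_inv, ← hW] at c2
    refine c1.trans (c2.trans ((cj_le_ncl W hr).trans ?_))
    rw [ncl_eq_sup]
    refine sup_le (le_sup_of_le_right ?_) (le_sup_left.trans le_sup_left)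
    rw [Subgroup.commutator_comm]
    exact (commutator_mono w1 le_rfl).trans hc
  haveI : Finite (vertexQ p lam) := finite_le (Op_le _)
  have v2 : V ≤ W ⊔ vertexZ p lam := le_of_le_sup_comm (Op_pg _) ((sup_le w1 z1).trans hVQ) hVQ
    (le_normalizer_sup' (q1.trans w2) (le_norm_of_cent' z2)) v1
  have v3 : ⁅V, vertexQ p lam⁆ ≤ W := (commutator_mono v2 le_rfl).trans
    (comm_sup_left_le (comm_le_left (q1.trans w2)) ((comm_eq_bot z2).le.trans bot_le) le_normalizer
      (z1.trans (hVQ.trans (q1.trans w2))))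
  have w0 : W = ⊥ := hp.eq_bot_of_res hn' (w1.trans (hVQ.trans (le_inf (Op_le _) q1)))
    (le_norm_of_comm_le ((commutator_mono w1 le_rfl).trans (hc.trans v3))) w2
  exact hp.symm.ZL_ne_bot (le_bot_iff.1 (w3.trans w0.le))


end Cfsg.Agent.S2856
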