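import Cfsg.Statements.S2857
import Cfsg.Agent.H2.Coset

set_option autoImplicit false
open Cfsg

namespace Cfsg.Agent.S2857
open Subgroup CfsgH2
open scoped commutatorElement

open CfsgFT

/-- Let (M₁, M₂) be an amalgam pair in X satisfying the rank-two standing hypothesis (characteristic p, the normalizers in M₁ and in M₂ of a Sylow p-subgroup of M₁ ∩ M₂ equal and contained in M₁ ∩ M₂, and strongly p-embedded residues), λ a vertex of the coset graph, L_λ the subgroup of its stabilizer generated by the p-elements, Q_λ = O_p of the stabilizer, O^p(L_λ) the subgroup of L_λ generated by its elements of order prime to p, and V_λ^{(k)} the subgroup generated by the Z_μ over the vertices μ at distance at most k from λ (Z_μ being generated by the Ω₁(Z(S)), S a Sylow p-subgroup of the stabilizer of μ). If n ≥ 2 and V_λ^{(n)} ≤ Q_λ, then O^p(L_λ) does not centralize V_λ^{(n)}/V_λ^{(n-2)}, that is, [V_λ^{(n)}, O^p(L_λ)] is not contained in V_λ^{(n-2)}. -/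
theorem result {X : Type*} [Group X] {p : ℕ} [Fact p.Prime] (M₁ M₂ : Subgroup X) (h : Cfsg.IsSpeAmalgamPair p M₁ M₂) (lam : Cfsg.CosetVertex M₁ M₂) (n : ℕ) (hn : 2 ≤ n) (hVQ : Cfsg.vertexVIter p M₁ M₂ n lam ≤ Cfsg.vertexQ p lam) : ¬ ⁅Cfsg.vertexVIter p M₁ M₂ n lam, ((Cfsg.pResidual p ↥(Cfsg.pElementClosure p (MulAction.stabilizer X lam))).map (Cfsg.pElementClosure p (MulAction.stabilizer X lam)).subtype)⁆ ≤ Cfsg.vertexVIter p M₁ M₂ (n - 2) lam := by
  have hp0 := ap_of h.1
  have hcon := cg_connected hp0.sup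
  obtain ⟨μ, hμ⟩ := cg_exists_adj lam
  have hp := hp0.adj hμ
  have hn' := (nc_of h).adj hμ
  obtain ⟨m, rfl⟩ : ∃ m, n = m + 2 := ⟨n - 2, by omega⟩
  rw [map_pResidual, Nat.add_sub_cancel]
  intro hc
  have w1 := V_le_V (p := p) hcon (m + 1) hμ.symm
  have w0 := hp.eq_bot_of_res hn' (w1.trans (hVQ.trans (le_inf (Op_le _) hp.Op_le)))
    (le_norm_of_comm_le ((commutator_mono w1 le_rfl).trans (hc.trans (V_le_V hcon m hμ))))
    (hp0.le_norm_V (m + 1) μ)
  exact hp.symm.ZL_ne_bot (le_bot_iff.1 ((Z_le_V (by simp)).trans w0.le))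


end Cfsg.Agent.S2857
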