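import Cfsg.Statements.S2859
import Cfsg.Agent.H2.SPE

set_option autoImplicit false
open Cfsg

namespace Cfsg.Agent.S2859
open Subgroup CfsgH2
open scoped commutatorElement

open CfsgFT

/-- Let Q be a nontrivial p-subgroup of the finite group H that is a weakly closed subgroup, H° the weak closure of Q in H (generated by the conjugates of Q) and H_∘ = O^p(H°). Suppose H₁, H₂ are normal subgroups of H° with H° = H₁H₂ and [H₁, H₂] ≤ N_H(Q), and put Kᵢ = O^p of the weak closure of Q in HᵢQ. Then for i = 1, 2: Kᵢ = [Kᵢ, Q] = [Kᵢ, Hᵢ] ≤ Hᵢ′ and Kᵢ is normal in H°; H_∘ = K₁K₂; and [K₁, K₂] ≤ O_p(H°). -/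
theorem result {G : Type*} [Group G] [Finite G] {p : ℕ} [Fact p.Prime] (Q : Subgroup G) (hQp : IsPGroup p ↥Q) (hQ1 : Q ≠ ⊥) (hwc : Cfsg.IsWeaklyClosedSubgroup p Q) (Hc : Subgroup G) (hHc : Hc = Cfsg.weakClosure Q ⊤) (H₁ H₂ : Subgroup G) (hn₁ : H₁ ≤ Hc ∧ Hc ≤ Subgroup.normalizer ((H₁ : Subgroup G) : Set G)) (hn₂ : H₂ ≤ Hc ∧ Hc ≤ Subgroup.normalizer ((H₂ : Subgroup G) : Set G)) (hprod : H₁ ⊔ H₂ = Hc) (hcomm : ⁅H₁, H₂⁆ ≤ Subgroup.normalizer ((Q : Subgroup G) : Set G)) (K₁ K₂ : Subgroup G) (hK₁ : K₁ = ((Cfsg.pResidual p ↥(Cfsg.weakClosure Q (H₁ ⊔ Q))).map ((Cfsg.weakClosure Q (H₁ ⊔ Q))).subtype)) (hK₂ : K₂ = ((Cfsg.pResidual p ↥(Cfsg.weakClosure Q (H₂ ⊔ Q))).map ((Cfsg.weakClosure Q (H₂ ⊔ Q))).subtype)) : (⁅K₁, Q⁆ = K₁ ∧ ⁅K₁, H₁⁆ = K₁ ∧ K₁ ≤ ⁅H₁, H₁⁆ ∧ Hc ≤ Subgroup.normalizer ((K₁ : Subgroup G) : Set G)) ∧ (⁅K₂, Q⁆ = K₂ ∧ ⁅K₂, H₂⁆ = K₂ ∧ K₂ ≤ ⁅H₂, H₂⁆ ∧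 Hc ≤ Subgroup.normalizer ((K₂ : Subgroup G) : Set G)) ∧ K₁ ⊔ K₂ = ((Cfsg.pResidual p ↥Hc).map (Hc).subtype) ∧ ⁅K₁, K₂⁆ ≤ (Cfsg.pCoreOf p Hc) := by
  have h := (wc_top_iff hQp).1 hwc
  rw [h.weakClosure hQp le_top] at hHc
  rw [map_pResidual, h.weakClosure hQp le_sup_right] at hK₁ hK₂
  rw [map_pResidual]
  have hQ : Q ≤ Hc := hHc ▸ le_ncl _ _
  have hcc : ncl Hc Q = Hc := hHc ▸ h.ncl_ncl hQp le_top
  obtain ⟨P, hP⟩ : ∃ P, P = pCoreOf p Hc := ⟨_, rfl⟩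
  rw [← hP]
  have hPp : IsPGroup p P := hP ▸ Op_pg _
  have hPn : Hc ≤ N(P) := hP ▸ le_norm_Op_self _
  have hPH : P ≤ Hc := hP ▸ Op_le _
  have key : ∀ A B K : Subgroup G, A ≤ Hc → Hc ≤ N(A) → B ≤ Hc → Hc ≤ N(B) → A ⊔ B = Hc → ⁅A, B⁆ ≤ N(Q) →
      K = resIn p (ncl (A ⊔ Q) Q) → (⁅K, Q⁆ = K ∧ ⁅K, A⁆ = K ∧ K ≤ ⁅A, A⁆ ∧ Hc ≤ N(K)) ∧ ⁅K, B⁆ ≤ P ∧
        K ≤ resIn p Hc ∧ A ≤ N(K ⊔ Q) := by
    intro A B K a1 a2 b1 b2 e c hK
    have d1 : ⁅K, Q⁆ = K := hK ▸ (h.mono le_top).comm_res hQp le_sup_right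
    have d0 : resIn p K = K := hK ▸ resIn_resIn _
    have d2 : K ⊔ Q = ncl (A ⊔ Q) Q := hK ▸ (h.mono le_top).res_sup hQp le_sup_right
    have d3 : K ≤ A := by
      rw [hK, sup_comm, ncl_sup_of_norm le_normalizer (hQ.trans a2), ncl_eq_sup, sup_comm,
        resIn_sup_of_isPGroup hQp (normalizer_commutator_ge_right _ _)]
      exact (resIn_le _).trans (comm_le_left (hQ.trans a2))
    have d4 : A ≤ N(K) := hK ▸ le_norm_resIn (le_sup_left.trans (le_norm_ncl _ _))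
    have hD : Hc ≤ N(⁅A, B⁆) := le_normalizer_commutator' a2 b2
    have hD' : ⁅A, B⁆ ≤ Hc := (commutator_mono a1 b1).trans (der_le _)
    have d5 : ⁅⁅A, B⁆, Hc⁆ ≤ P := by
      rw [commutator_comm, ← hcc]
      refine ncl_comm_le ?_ (hcc.symm ▸ hD) (hcc.symm ▸ hPn) (hQ.trans hPn)
      refine (le_inf (comm_le_left c) (comm_le_right (hQ.trans hD))).trans ((le_Op inf_le_right
        (le_normalizer_inf' c le_normalizer) (hQp.to_le inf_le_left)).trans (hP ▸ Op_le_Op_of_normal hD' hD))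
    have hAA : Hc ≤ N(⁅A, A⁆) := le_normalizer_commutator' a2 a2
    have hAA' : ⁅A, A⁆ ≤ Hc := (der_le A).trans a1
    have d6 : K ≤ ⁅A, A⁆ ⊔ ⁅A, B⁆ := d1.ge.trans ((commutator_mono d3 (hQ.trans e.ge)).trans
      (comm_sup_right_le le_sup_left le_sup_right (a1.trans (le_normalizer_sup' hAA hD))
        (b1.trans (le_normalizer_sup' hAA hD))))
    have d7 : K ≤ ⁅A, A⁆ := d0 ▸ le_of_res_sup hPp (hPH.trans hAA) (d0.le.trans (d1.ge.trans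
      ((commutator_mono d6 hQ).trans (comm_sup_left_le ((comm_le_left hAA).trans le_sup_right) (d5.trans le_sup_left)
        (hAA'.trans (le_normalizer_sup' hPn hAA)) (hD'.trans (le_normalizer_sup' hPn hAA))))))
    have d8 : ⁅K, B⁆ ≤ P := (commutator_mono d7 le_rfl).trans (three_mod (a1.trans hPn) (a1.trans hPn) (b1.trans hPn)
      ((commutator_mono le_rfl a1).trans d5) ((commutator_mono (commutator_comm_le _ _) a1).trans d5))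
    have d9 : P ≤ N(K) := by
      have := Op_le_norm_res (p := p) ((CfsgLead.SN.of_normal d3 d4).trans (CfsgLead.SN.of_normal a1 a2))
      rwa [d0, ← hP] at this
    have d10 : Hc ≤ N(K) := e.ge.trans (sup_le d4 (by
      have := le_norm_resIn (p := p) (le_norm_of_comm_le (comm_sup_left_le ((comm_le_left (b1.trans hPn)).trans
        le_sup_left) (d8.trans le_sup_left) (le_norm_of_le (le_sup_left (b := K))) (le_norm_of_le le_sup_right)))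
      rwa [resIn_sup_of_isPGroup hPp d9, d0] at this))
    have hKA : Hc ≤ N(⁅K, A⁆) := le_normalizer_commutator' d10 a2
    refine ⟨⟨d1, le_antisymm (comm_le_left d4) (d0 ▸ le_of_res_sup hPp (hPH.trans (d0.symm ▸ hKA)) ?_), d7, d10⟩, d8,
      d0.ge.trans (resIn_mono (d3.trans a1)), d2 ▸ le_sup_left.trans (le_norm_ncl _ _)⟩
    rw [d0]
    exact d1.ge.trans ((commutator_mono le_rfl (hQ.trans e.ge)).trans (comm_sup_right_le le_sup_right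
      (d8.trans le_sup_left) (a1.trans (le_normalizer_sup' hPn hKA)) (b1.trans (le_normalizer_sup' hPn hKA))))
  obtain ⟨a1, a2, a3, a4⟩ := key H₁ H₂ K₁ hn₁.1 hn₁.2 hn₂.1 hn₂.2 hprod hcomm hK₁
  obtain ⟨b1, b2, b3, b4⟩ := key H₂ H₁ K₂ hn₂.1 hn₂.2 hn₁.1 hn₁.2 ((sup_comm _ _).trans hprod)
    ((commutator_comm_le _ _).trans hcomm) hK₂
  refine ⟨a1, b1, le_antisymm (sup_le a3 b3) ?_, (commutator_mono le_rfl (b1.2.2.1.trans (der_le _))).trans a2⟩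
  refine le_of_res_sup hQp (hQ.trans (le_normalizer_sup' a1.2.2.2 b1.2.2.2)) ((resIn_le _).trans
    (hcc.ge.trans (ncl_le le_sup_left (hprod.ge.trans (sup_le ?_ ?_)))))
  · rw [← sup_assoc, sup_comm Q]; exact le_normalizer_sup' a4 (hn₁.1.trans b1.2.2.2)
  · rw [sup_comm K₁, ← sup_assoc, sup_comm Q]; exact le_normalizer_sup' b4 (hn₂.1.trans a1.2.2.2)


end Cfsg.Agent.S2859
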