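import Cfsg.Statements.S2860
import Cfsg.Agent.H2.SPE
import Cfsg.Agent.S2843

set_option autoImplicit false
open Cfsg

namespace Cfsg.Agent.S2860
open Subgroup CfsgH2
open scoped commutatorElement

open CfsgFT CfsgLead

/-- Let Q be a nontrivial large p-subgroup of the finite group H, U a nontrivial elementary abelian p-subgroup of H, and Q ≤ E ≤ N_H(U) with Q not normal in E. Suppose O_p(E/C_E(U)) = 1 and O^p(E)·C_E(U)/C_E(U) is quasisimple. Let E° be the weak closure of Q in E (generated by the conjugates of Q inside E) and E_∘ = O^p(E°). Then O^p(E)·C_E(U) = E_∘·C_E(U); E_∘ is perfect and equals O^p(E_∘); E_∘/C_{E_∘}(U) and E_∘/O_p(E_∘) are quasisimple; and E_∘ = [E_∘, Y] for every p-subgroup Y of E not centralizing U. -/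
theorem result {G : Type*} [Group G] [Finite G] {p : ℕ} [Fact p.Prime] (Q : Subgroup G) (hQp : IsPGroup p ↥Q) (hQ1 : Q ≠ ⊥) (hQ : Cfsg.IsLarge Q) (U : Subgroup G) (hU : Cfsg.IsElementaryAbelian p U) (hU1 : U ≠ ⊥) (E : Subgroup G) (hQE : Q ≤ E) (hEU : E ≤ Subgroup.normalizer ((U : Subgroup G) : Set G)) (hQn : ¬ E ≤ Subgroup.normalizer ((Q : Subgroup G) : Set G)) [hn : ((Subgroup.centralizer ((U : Subgroup G) : Set G)).subgroupOf E).Normal] (hred : Cfsg.pCore p (↥E ⧸ (Subgroup.centralizer ((U : Subgroup G) : Set G)).subgroupOf E) = ⊥) (hqs : Cfsg.IsQuasisimple ↥(((Cfsg.pResidual p ↥E) ⊔ (Subgroup.centralizer ((U : Subgroup G) : Set G)).subgroupOf E).map (QuotientGroup.mk' ((Subgroup.centralizer ((U : Subgroup G) : Set G)).subgroupOf E)))) (Er : Subgroup G) (hEr : Er = ((Cfsg.pResidual p ↥(Cfsg.weakClosure Q E)).map ((Cfsg.weakClosure Q E)).subtype)) [hn2 : ((Subgroup.centralizer ((U : Subgroup G) : Set G)).subgroupOf Er).Normal] : ((Cfsg.pResidual p ↥E).map (E).subtype)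 ⊔ (E ⊓ Subgroup.centralizer ((U : Subgroup G) : Set G)) = Er ⊔ (E ⊓ Subgroup.centralizer ((U : Subgroup G) : Set G)) ∧ ⁅Er, Er⁆ = Er ∧ ((Cfsg.pResidual p ↥Er).map (Er).subtype) = Er ∧ Cfsg.IsQuasisimple (↥Er ⧸ (Subgroup.centralizer ((U : Subgroup G) : Set G)).subgroupOf Er) ∧ Cfsg.IsQuasisimple (↥Er ⧸ Cfsg.pCore p ↥Er) ∧ ∀ Y : Subgroup G, Y ≤ E → IsPGroup p ↥Y → ¬ Y ≤ Subgroup.centralizer ((U : Subgroup G) : Set G) → ⁅Er, Y⁆ = Er := by
  have h := large_wc hQ hQp hQ1
  obtain ⟨-, h1, h2⟩ := Cfsg.Agent.S2843.result Q hQp hQ1 hQ E hQE U (ea_isPGroup hU) hU1 hEU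
  rw [map_pResidual, h.weakClosure hQp hQE] at hEr
  rw [h.weakClosure hQp hQE] at h1 h2
  have hEC : E ≤ N(C(U)) := le_normalizer_centralizer' hEU
  rw [qs_quo_iff hEC, Subgroup.map_sup, map_pResidual, subgroupOf_map_subtype, sup_comm] at hqs
  have hR := (resIn_le (p := p) E).trans hEC
  have e0 : quo C(U) (C(U) ⊓ E ⊔ resIn p E) = resIn p (quo C(U) E) := by
    rw [quo_sup (le_norm_of_le inf_le_left) hR, (quo_eq_bot_iff (le_norm_of_le inf_le_left)).2 inf_le_left,
      bot_sup_eq, quo_res hEC]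
  rw [e0] at hqs
  have hO := (red_iff.1 hred).Op_quo hEC
  have hn0 := le_normalizer_resIn (p := p) (quo C(U) E)
  have key : ∀ Y ≤ E, IsPGroup p Y → ¬ Y ≤ C(U) → ⁅resIn p (quo C(U) E), quo C(U) Y⁆ = resIn p (quo C(U) E) := by
    intro Y a b c
    have d := quo_mono (K := C(U)) a
    refine (qs_normal hqs (comm_le_left (d.trans hn0)) (normalizer_commutator_ge_left _ _)).resolve_right fun e => c ?_
    have f := cent_symm (cent_of_comm_eq_bot (commutator_eq_bot_of_perfect (qs_perfect hqs)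
      (by rwa [commutator_comm (quo C(U) Y)])))
    have g := le_normalizer_inf' le_normalizer (le_normalizer_centralizer' hn0)
    have i : PCl p (quo C(U) E ⊓ C(resIn p (quo C(U) E))) := pcl_of_comm_le isPGroup_bot' (le_norm_bot _)
      (comm_eq_bot (cent_mono le_rfl inf_le_right (resIn_mono inf_le_left))).le
    exact (quo_eq_bot_iff (a.trans hEC)).1 (le_bot_iff.1 ((i _ (le_inf d f) (pgroup_quo b _)).trans
      ((Op_le_Op_of_normal inf_le_left g).trans hO.le)))
  have hQC : ¬ Q ≤ C(U) := fun e => hQn (by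
    have a := large_cent_le hQ hQp (ea_isPGroup hU) hU1 (hQE.trans hEU)
    have b := (le_Op (le_inf hQE e) (inf_le_right.trans a) hQp).trans
      (Op_le_Op_of_normal inf_le_left (le_normalizer_inf' le_normalizer hEC))
    exact (le_inf le_top (le_norm_Op_self E)).trans (h.norm_le (Op_pg E) b))
  have hJ := ncl_le_of_le hQE
  have hEr1 : Er ≤ ncl E Q := hEr ▸ resIn_le _
  have hEr2 : Er ≤ E := hEr1.trans hJ
  have hErn : E ≤ N(Er) := hEr ▸ le_norm_resIn (le_norm_ncl E Q)
  have e1 : quo C(U) Er = resIn p (quo C(U) E) := by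
    rw [hEr, quo_res (hJ.trans hEC)]
    refine le_antisymm (resIn_mono (quo_mono hJ)) ?_
    rw [← resIn_resIn, ← key Q hQE hQp hQC, ← quo_res hEC, ← quo_comm hR (hQE.trans hEC)]
    exact resIn_mono (quo_mono ((commutator_mono (resIn_le E) le_rfl).trans (comm_le_ncl E Q)))
  have e2 : resIn p Er = Er := hEr ▸ resIn_resIn _
  have e3 : ⁅Er, Q⁆ = Er := hEr ▸ (h.mono le_top).comm_res hQp hQE
  have hErC := hEr2.trans hEC
  have sp : ∀ X ≤ Er, quo C(U) X = quo C(U) Er → Er ≤ (Er ⊓ C(U)) ⊔ X := fun X a b => by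
    rw [← CfsgFT.inf_sup_right a (a.trans hErC)]
    exact le_inf le_rfl ((quo_le_quo_iff hErC (a.trans hErC)).1 b.ge)
  have hP := le_norm_Op_self (p := p) (ncl E Q)
  have hEE : E ≤ N(⁅Er, Er⁆) := le_normalizer_commutator' hErn hErn
  have e4 : ⁅Er, Er⁆ = Er := le_antisymm (der_le _) (e2.ge.trans (le_of_res_sup (Op_pg (ncl E Q))
    (((Op_le _).trans hJ).trans hEE) (e2.le.trans (e3.ge.trans ((commutator_mono (sp _ (der_le _)
      (by rw [quo_comm hErC hErC, e1, qs_perfect hqs])) le_rfl).trans (comm_sup_left_le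
      (((commutator_comm_le _ _).trans ((commutator_mono (le_ncl E Q) inf_le_right).trans h1)).trans le_sup_left)
      ((comm_le_left (hQE.trans hEE)).trans le_sup_right)
      ((inf_le_left.trans hEr1).trans (le_normalizer_sup' hP (hJ.trans hEE)))
      (le_norm_of_le le_sup_right)))))))
  have h3 : ⁅Er ⊓ C(U), Er⁆ ≤ pCoreOf p Er := (le_inf ((commutator_comm_le _ _).trans
    ((commutator_mono hEr1 inf_le_right).trans h1)) (comm_le_right (le_norm_of_le inf_le_left))).trans (Op_inf_le hEr1)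
  have hPE := le_norm_Op_self (p := p) Er
  have sp2 : ∀ X ≤ Er, Er ≤ N(X) → quo C(U) X = quo C(U) Er → X = Er := fun X a b c =>
    le_antisymm a (e2.ge.trans (le_of_res_sup (Op_pg Er) ((Op_le _).trans b) (e2.le.trans (e4.ge.trans
      ((commutator_mono (sp X a c) le_rfl).trans (comm_sup_left_le (h3.trans le_sup_left)
        ((comm_le_left b).trans le_sup_right) (inf_le_left.trans (le_normalizer_sup' hPE b))
        (le_norm_of_le le_sup_right)))))))
  refine ⟨?_, e4, by rw [map_pResidual, e2], isQuasisimple_of_equiv (quotEquivQuo hErC).symm (e1 ▸ hqs), ?_,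
    fun Y a b c => sp2 _ (comm_le_left (a.trans hErn)) (normalizer_commutator_ge_left _ _)
      (by rw [quo_comm hErC (a.trans hEC), e1, key Y a b c])⟩
  · rw [map_pResidual, sup_comm, sup_comm Er, ← CfsgFT.inf_sup_right (resIn_le E) hR, ← CfsgFT.inf_sup_right hEr2 hErC,
      ← unq_quo hR, ← unq_quo hErC, e1, quo_res hEC]
  · have a : (pCoreOf p Er).subgroupOf Er = pCore p Er := Op_subgroupOf_self Er
    haveI : ((pCoreOf p Er).subgroupOf Er).Normal := a ▸ inferInstance
    refine isQuasisimple_of_equiv ((quotEquivQuo hPE).symm.trans (QuotientGroup.quotientMulEquivOfEq a))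
      (isQuasisimple_subgroup_iff.2 ⟨by rw [← quo_comm hPE hPE, e4], fun e => qs_ne_bot hqs ?_, fun X b c => ?_⟩)
    · rw [← e1, ← e2, resIn_eq_bot_iff.2 ((Op_pg Er).to_le ((quo_eq_bot_iff hPE).1 e)), quo_bot]
    · have d := unq_le_of_le_quo hPE (Op_le Er) b
      have f := le_norm_unq hPE c
      rw [← quo_unq X]
      rcases qs_normal (e1 ▸ hqs) (quo_mono d) (quo_le_norm f) with g | g
      · exact Or.inl (by rw [sp2 _ d f g])
      · rw [← quo_comm (d.trans hErC) hErC, quo_eq_bot_iff (((commutator_mono d le_rfl).trans (der_le _)).trans hErC)] at g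
        refine Or.inr ?_
        rw [commutator_comm]
        refine commutator_eq_bot_of_perfect (by rw [← quo_comm hPE hPE, e4]) ?_
        have i := (commutator_mono d le_rfl).trans (der_le Er)
        rw [← quo_comm (d.trans hPE) hPE, ← quo_comm (i.trans hPE) hPE,
          quo_eq_bot_iff (((commutator_mono i le_rfl).trans (der_le _)).trans hPE)]
        exact (commutator_mono (le_inf i g) le_rfl).trans h3


end Cfsg.Agent.S2860
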