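import Cfsg.Statements.S2862
import Cfsg.Agent.H2.SPE

set_option autoImplicit false
open Cfsg

namespace Cfsg.Agent.S2862
open Subgroup CfsgH2
open scoped commutatorElement

open CfsgFT CfsgLead

/-- Standing hypotheses: G a finite group, S a Sylow p-subgroup, Q a nontrivial large p-subgroup of G contained in S, M a subgroup containing S with the basic property (M ∈ 𝔐_G(S)); Y_M the largest p-reduced normal subgroup of M and M† = M·C_G(Y_M). Suppose Y_M is char-p-tall and asymmetric in G, H ∈ ℌ_G(O_p(M)), and L is minimal among the subgroups of H containing Y_M with Y_M ≰ O_p(L). Then H = ⟨L, O_p(M)⟩ = ⟨hY_Mh⁻¹, O_p(M)⟩ for every h ∈ L outside N_L(Y_M); L is Y_M-minimal and of characteristic p, with N_L(Y_M) the unique maximal subgroup of L containing Y_M; [V, O^p(L)] ≠ 1 for every noncentral chief factor V/W of H inside O_p(H) (that is, O^p(L) does not act trivially on V/W); and the normal closure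 of O_p(L) ∩ Y_M in L lies in O_p(H). -/
theorem result {G : Type*} [Group G] [Finite G] {p : ℕ} [Fact p.Prime] (S : Sylow p G) (Q : Subgroup G) (hQp : IsPGroup p ↥Q) (hQ1 : Q ≠ ⊥) (hQS : Q ≤ (S : Subgroup G)) (hQ : Cfsg.IsLarge Q) (M : Subgroup G) (hSM : (S : Subgroup G) ≤ M) (hM : Cfsg.IsInFrakM p M) (htall : Cfsg.IsCharPTall p (Cfsg.largestPReducedOf p M)) (hasym : ¬ Cfsg.IsSymmetricIn (Cfsg.largestPReducedOf p M)) (H : Subgroup G) (hH : Cfsg.IsInFrakH p M H) (L : Subgroup G) (hLH : L ≤ H) (hYL : (Cfsg.largestPReducedOf p M) ≤ L) (hYO : ¬ (Cfsg.largestPReducedOf p M) ≤ (Cfsg.pCoreOf p L)) (hmin : ∀ L' : Subgroup G, L' ≤ L → (Cfsg.largestPReducedOf p M) ≤ L' → ¬ (Cfsg.largestPReducedOf p M) ≤ (Cfsg.pCoreOf p L') → L' = L) : (L ⊔ (Cfsg.pCoreOf p M) = H ∧ ∀ h ∈ L, h ∉ Subgroup.normalizer (((Cfsg.largestPReducedOf p M) : Subgroup G) : Set G) → (((Cfsg.largestPReducedOf p M) : Subgroup G).map (MulAut.conj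 (h : G)).toMonoidHom) ⊔ (Cfsg.pCoreOf p M) = H) ∧ (Cfsg.IsMinimalOver (((Cfsg.largestPReducedOf p M)).subgroupOf L) ∧ Subgroup.centralizer (Cfsg.pCore p ↥L : Set ↥L) ≤ Cfsg.pCore p ↥L ∧ L ⊓ Subgroup.normalizer (((Cfsg.largestPReducedOf p M) : Subgroup G) : Set G) < L ∧ ∀ X : Subgroup G, (Cfsg.largestPReducedOf p M) ≤ X → X < L → X ≤ L ⊓ Subgroup.normalizer (((Cfsg.largestPReducedOf p M) : Subgroup G) : Set G)) ∧ (∀ V W' : Subgroup G, V ≤ (Cfsg.pCoreOf p H) → H ≤ Subgroup.normalizer ((V : Subgroup G) : Set G) → H ≤ Subgroup.normalizer ((W' : Subgroup G) : Set G) → W' < V → (∀ Z' : Subgroup G, H ≤ Subgroup.normalizer ((Z' : Subgroup G) : Set G) → W' ≤ Z' → Z' ≤ V → Z' = W' ∨ Z' = V) → ¬ ⁅V, H⁆ ≤ W' → ¬ ⁅V, ((Cfsg.pResidual p ↥L).map (L).subtype)⁆ ≤ W') ∧ (Subgroup.normalClosure (((((Cfsg.pCoreOf p L) ⊓ (Cfsg.largestPReducedOf p M)).subgroupOf L : Subgroup ↥L)) : Set ↥L)).map L.subtype ≤ (Cfsg.pCoreOf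 p H) := by
  have h := fm_of S hQ hQp hQ1 hSM hM
  obtain ⟨h1, h2, h3, h4⟩ := hH
  rw [chP_iff] at h1 ⊢
  rw [map_pResidual, map_normalClosure_subgroupOf (inf_le_right.trans hYL)]
  generalize largestPReducedOf p M = Y at *
  generalize pCoreOf p M = O at *
  obtain ⟨U, hU⟩ : ∃ U, U = pCoreOf p H := ⟨_, rfl⟩
  rw [← hU] at h3 ⊢
  have hUp : IsPGroup p U := hU ▸ Op_pg H
  have hUn : H ≤ N(U) := hU ▸ le_norm_Op_self H
  have hUH : U ≤ H := hU ▸ Op_le H
  have hUc : H ⊓ C(U) ≤ U := hU ▸ h1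
  have hOY : N(O) ≤ N(Y) := h.norm_O.trans h.predF.norm
  have hUO : U ≤ N(O) := h.le_norm_O hasym hUp (h2.trans hUn)
  have hYp := h.pred.pg
  have hYc := h.pred.comm
  have hOc := h.O_le_cent
  have hYH := hYL.trans hLH
  have a1 : L ⊔ O = H := by
    by_contra e
    exact hYO ((le_inf (h4 _ le_sup_right (lt_of_le_of_ne (sup_le hLH h2) e)) hYL).trans (Op_inf_le le_sup_left))
  have a2 : ∀ X, Y ≤ X → X < L → Y ≤ pCoreOf p X := fun X a b => by
    by_contra e; exact b.ne (hmin X b.le a e)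
  obtain ⟨L₀, b1, b2, b3⟩ := CfsgH1.zipper (lt_of_le_not_ge hYL fun e => hYO (le_Op hYL (le_norm_of_le e) hYp))
    (fun e => hYO (le_Op_of_sn e hYp)) fun V a b =>
      (sn_of_nilpotent (Op_pg V).isNilpotent (a2 V a b)).trans (Op_sn V)
  have hy : YM Y L L₀ := ⟨⟨b1, b2, b3⟩, by
    by_contra e
    exact hYO ((a2 _ (le_ncl L Y) (lt_of_le_of_ne (ncl_le_of_le hYL) e)).trans
      (Op_le_Op_of_normal (ncl_le_of_le hYL) (le_norm_ncl L Y)))⟩
  obtain ⟨g, hg, hg'⟩ := hy.exists_notMem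
  have gen := hy.sup_cj hg hg'
  have hLU := hLH.trans hUn
  have d1 : ⁅U, Y⁆ ≤ Y := comm_le_right (hUO.trans hOY)
  have d2 : ⁅U, Y⁆ ≤ U := comm_le_left (hYH.trans hUn)
  have hq := d1.trans hYc
  have d3 : ∀ x ∈ L, ⁅U, cj x Y⁆ ≤ cj x Y := fun x hx => quad_cj hLU hx ▸ cj_mono x d1
  have d4 : U ≤ N(L) := le_norm_of_comm_le ((commutator_comm_le _ _).trans ((quad_sup hLU gen).ge.trans
    (gen ▸ sup_le_sup d1 (d3 g hg))))
  have e0 : U ⊓ C(Y) = ⁅U, Y⁆ ⊔ (U ⊓ C(L)) := le_antisymm (quad_cent' hLU hg hq gen)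
    (sup_le (le_inf d2 hq) (inf_le_inf_left _ (cent_anti hYL)))
  have hCL : L ≤ N(U ⊓ C(L)) := le_norm_of_cent' inf_le_right
  have d5 : ⁅O, U⁆ ≤ U ⊓ C(Y) := le_inf (comm_le_right (h2.trans hUn)) ((comm_le_left hUO).trans hOc)
  have d6 : Y ⊓ C(L) ≤ C(H) := a1 ▸ le_cent_sup inf_le_right (inf_le_left.trans (cent_symm hOc))
  have hUD : U ≤ N(⁅U, Y⁆) := normalizer_commutator_ge_left _ _
  have hwc : WC p Y L := wc_of_comm' hYL fun x hx e => by
    have c0 : cj x Y ≤ C(Y) := cent_symm (cent_of_comm_eq_bot (not_not.1 fun e' => hasym ⟨x, e', e⟩))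
    have c1 : x ∈ N(⁅U, Y⁆) := mem_normalizer_of_cj_le (by
      rw [quad_cj hLU hx, ← quad_cent hLU hg hq gen]
      exact le_inf (commutator_mono le_rfl (cj_le_of_mem hx hYL)) ((d3 x hx).trans c0))
    obtain ⟨N₁, hN⟩ : ∃ N₁, N₁ = H ⊓ (N(⁅U, Y⁆) ⊓ N(U ⊓ C(Y))) := ⟨_, rfl⟩
    have n1 : N₁ ≤ H := hN ▸ inf_le_left
    have n2 : N₁ ≤ N(⁅U, Y⁆) := hN ▸ inf_le_right.trans inf_le_left
    have n3 : N₁ ≤ N(U ⊓ C(Y)) := hN ▸ inf_le_right.trans inf_le_right
    have n4 : O ≤ N₁ := hN ▸ le_inf h2 (le_inf (le_norm_of_cent (hOc.trans (cent_anti d1)))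
      (le_normalizer_inf' (h2.trans hUn) (le_norm_of_le hOc)))
    have n5 : L ⊓ N(⁅U, Y⁆) ≤ N₁ := hN ▸ le_inf (inf_le_left.trans hLH) (le_inf inf_le_right
      (e0 ▸ le_normalizer_sup' inf_le_right (inf_le_left.trans hCL)))
    have hx1 := n5 (mem_inf.2 ⟨hx, c1⟩)
    obtain ⟨K, hK⟩ : ∃ K, K = ncl N₁ O := ⟨_, rfl⟩
    have k1 : K ≤ N₁ := hK ▸ ncl_le_of_le n4
    have k2 : O ≤ K := hK ▸ le_ncl _ _
    have k3 : ⁅U, Y⁆ ≤ C(K) := hK ▸ ncl_le_cent (d1.trans (cent_symm hOc)) n2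
    have k4 : ⁅K, U⁆ ≤ U ⊓ C(Y) := hK ▸ ncl_comm_le d5 (n1.trans hUn) n3 (n4.trans n3)
    have k5 : ⁅Y, K⁆ ≤ U ⊓ C(U) := by
      have := cent_of_comm_eq_bot (three_subgroups_bot (comm_eq_bot (k4.trans inf_le_right)) (comm_eq_bot k3))
      exact le_inf ((le_inf ((commutator_mono hYH (k1.trans n1)).trans (der_le H)) this).trans hUc) this
    have hZn : H ≤ N(U ⊓ C(U)) := le_normalizer_inf' hUn (le_normalizer_centralizer' hUn)
    have e1 : Y ⊓ U = ⁅U, Y⁆ ⊔ (Y ⊓ (U ⊓ C(L))) := by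
      rw [← CfsgFT.inf_sup_left d1 (inf_le_left.trans hUD), ← e0, ← inf_assoc,
        inf_eq_left.2 (inf_le_left.trans hYc : Y ⊓ U ≤ C(Y))]
    have k6 : Y ⊓ (U ⊓ C(L)) ≤ C(H) := (inf_le_inf_left _ inf_le_right).trans d6
    obtain ⟨C₀, hC⟩ : ∃ C₀, C₀ = Y ⊓ (U ⊓ C(U)) := ⟨_, rfl⟩
    have c2 : N₁ ≤ N(C₀) := by
      rw [hC, ← inf_assoc]
      exact le_normalizer_inf' (e1 ▸ le_normalizer_sup' n2 (n1.trans (le_norm_of_cent' k6)))
        (le_normalizer_centralizer' (n1.trans hUn))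
    have c3 : C₀ ≤ Y := hC ▸ inf_le_left
    have c4 : Y ⊔ (U ⊓ C(U)) ≤ N(C₀) := le_norm_of_cent' (le_cent_sup (c3.trans hYc)
      (hC ▸ inf_le_right.trans (inf_le_right.trans (cent_anti inf_le_left))))
    have c5 : ⁅Y, U ⊓ C(U)⁆ ≤ C₀ := hC ▸ le_inf (comm_le_left (inf_le_left.trans (hUO.trans hOY)))
      (comm_le_right (hYH.trans hZn))
    have c6 : ⁅Y ⊔ (U ⊓ C(U)), K⁆ ≤ U ⊓ C(U) := comm_sup_left_le k5 (comm_le_left ((k1.trans n1).trans hZn))
      (hYH.trans hZn) le_normalizer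
    have c7 : K ≤ N(Y ⊔ (U ⊓ C(U))) := le_norm_of_comm_le (c6.trans le_sup_right)
    have c8 : IsPGroup p (Y ⊔ (U ⊓ C(U)) : Subgroup G) := pg_sup' hYp (hUp.to_le inf_le_left) (hYH.trans hZn)
    have hKC := k1.trans c2
    obtain ⟨T, t1, t2⟩ := IsSylowIn.exists_le h.O_pg k2
    have t3 := (h.norm_le_norm hasym t1.pgroup t2).trans hOY
    obtain ⟨k, hk, e2⟩ := (h.wcG hasym).exists_cj h.O_pg le_top k2 (mem_top x) (hK ▸ cj_le_ncl O hx1)
    have hn : k⁻¹ * x ∈ N₁ := mul_mem (inv_mem (k1 hk)) hx1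
    have hn' : k⁻¹ * x ∈ N(O) := mem_norm_iff_cj.2 (by rw [← cj_cj, e2, cj_inv_cj])
    have sing : ∀ (z : N(C₀)) (X : Subgroup G), (z : G) ∈ N(X) → qm C₀ z ∈ N(quo C₀ X) := fun z X a =>
      quo_le_norm (A := N(X)) le_rfl (qm_mem_quo a)
    have hYC := le_sup_left.trans c4
    have hZC := le_sup_right.trans c4
    have key := graph_norm (Z := quo C₀ ((U ⊓ C(U)) ⊓ (U ⊓ C(Y)))) ((quo_le_cent_iff c4 c4).2
      (comm_sup_left_le (comm_sup_right_le (by rw [comm_eq_bot hYc]; exact bot_le) c5 hYC hZC)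
        (comm_sup_right_le ((commutator_comm_le _ _).trans c5)
          (by rw [comm_eq_bot (cent_mono le_rfl inf_le_right inf_le_left)]; exact bot_le) hYC hZC) hYC hZC))
      (pgroup_quo c8 _) (quo_mono le_sup_left)
      (by rw [← quo_comm c4 hKC, ← le_bot_iff, ← quo_self (K := C₀)]
          refine (inf_le_inf_left _ (quo_mono c6)).trans ?_
          rw [← quo_inf c3, ← hC])
      (quo_le_norm c7) (sylow_quo t1 hKC)
      ((quo_le_cent_iff hYC (t1.le.trans hKC)).2 (hC ▸ le_inf (comm_le_left (le_normalizer.trans t3))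
        ((commutator_mono le_rfl t1.le).trans k5)))
      (by rw [← quo_res hKC, ← quo_comm c4 ((resIn_le K).trans hKC), ← comm_comm_res c8 c7]
          refine quo_mono ((commutator_mono ((commutator_mono le_rfl (resIn_le K)).trans c6) (resIn_le K)).trans ?_)
          exact le_inf (comm_le_left ((k1.trans n1).trans hZn))
            ((commutator_comm_le _ _).trans ((commutator_mono le_rfl inf_le_left).trans k4)))
      (by have := unq_le_norm_unq (inf_le_right : quo C₀ K ⊓ N(quo C₀ T) ≤ _)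
          rw [unq_quo_of_le (t1.le.trans hKC) (c3.trans (h.Y_le.trans t2))] at this
          rw [← quo_unq (quo C₀ K ⊓ N(quo C₀ T))]
          exact quo_le_norm (this.trans t3))
      (qm_mem_quo (x := ⟨k, hKC hk⟩) hk) (sing ⟨_, c2 hn⟩ Y (hOY hn')) (sing ⟨_, c2 hn⟩ K (hK ▸ le_norm_ncl _ _ hn))
      (by rw [← map_mul]
          refine (quo_le_cent_iff (n5.trans c2) (inf_le_left.trans hZC)).2 (hC ▸ le_inf ?_ ?_)
            (qm_mem_quo (by simpa using ⟨hx, c1⟩))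
          · refine (commutator_mono le_rfl (inf_le_right.trans e0.le)).trans (le_trans (comm_sup_right_le
              (comm_le_right inf_le_right) ?_ le_normalizer (inf_le_left.trans hUD)) d1)
            rw [comm_eq_bot (cent_symm (inf_le_right.trans (cent_anti inf_le_left)))]
            exact bot_le
          · exact (commutator_mono le_rfl inf_le_left).trans (comm_le_right ((inf_le_left.trans hLH).trans hZn)))
    rw [← map_mul, ← quo_cj] at key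
    have e3 : ((⟨k, hKC hk⟩ * ⟨_, c2 hn⟩ : N(C₀)) : G) = x := by simp
    rw [e3] at key
    exact eq_of_le_of_card_le (le_of_quo_le (cj_le_of_mem (c2 hx1) hYC) hYC c3 key) (card_cj x Y).ge
  have f1 : L₀ ≤ N(Y) := (le_inf b2.le (le_norm_Op_self L₀)).trans (hwc.norm_le (Op_pg L₀) (a2 _ b1 b2))
  have f2 : L ⊓ N(Y) = L₀ := le_antisymm (hy.norm_le le_rfl b1) (le_inf b2.le f1)
  refine ⟨⟨a1, fun x a b => ?_⟩, ⟨(ym_subgroupOf_iff hYL).2 ⟨_, hy⟩, h1.of_norm hLH (hU ▸ d4), f2 ▸ b2, f2 ▸ b3⟩,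
    fun V W a b c d e f i => ?_, ?_⟩
  · rw [← a1, ← hy.sup_cj a fun e => b (f1 e), sup_comm Y, sup_assoc, sup_eq_right.2 h.Y_le]; rfl
  · have j1 : ⁅ncl H (resIn p L), V⁆ ≤ W := ncl_comm_le ((commutator_comm_le _ _).trans i) b c
      (((resIn_le L).trans hLH).trans c)
    have j2 : H ≤ O ⊔ ncl H (resIn p L) := a1.ge.trans (sup_le ((hy.sup_res hYp).ge.trans
      (sup_le_sup h.Y_le (le_ncl _ _))) le_sup_left)
    have j3 := (e (W ⊔ ⁅V, H⁆) (le_normalizer_sup' c (normalizer_commutator_ge_right _ _)) le_sup_left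
      (sup_le d.le (comm_le_left b))).resolve_left fun j => f (le_sup_right.trans j.le)
    have j4 := pg_sup (hUp.to_le a) h.O_pg (h2.trans b)
    have j5 : V ⊔ O ≤ H := sup_le (a.trans hUH) h2
    obtain ⟨X, x1, ⟨x2, x3⟩, x4⟩ := exists_maximal_subgroup (Φ := fun X => X < V ∧ V ⊔ O ≤ N(X)) ⟨d, j5.trans c⟩
    obtain ⟨Z, z1, z2, z3, z4⟩ := exists_normal_card_succ j4 le_sup_left (j5.trans b) x3 x2
    have z5 : Z = V := by
      by_contra j
      rw [x4 Z ⟨lt_of_le_of_ne z2 j, z3⟩ z1] at z4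
      have := Nat.card_pos (α := X)
      have := (Fact.out : p.Prime).one_lt
      nlinarith
    have j6 := commutator_le_of_card_succ j4 le_sup_left (j5.trans b) x3 x2.le (z5 ▸ z4.le)
    have j7 := (commutator_comm_le _ _).trans (j1.trans x1)
    exact x2.not_ge (j3.ge.trans (sup_le x1 ((commutator_mono le_rfl j2).trans (comm_sup_right_le
      ((commutator_mono le_rfl le_sup_right).trans j6) j7 (le_sup_right.trans x3)
      (le_norm_of_comm_le ((commutator_mono x2.le le_rfl).trans j7))))))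
  · have j1 : pCoreOf p L ≤ N(cj g Y) := le_norm_cj_of_norm ((hy.Op_le hYp).trans f1) (le_norm_Op_self L hg)
    have j2 : ⁅U, cj g Y⁆ ≤ U := comm_le_left ((cj_le_of_mem hg hYL).trans hLU)
    have hZ : H ≤ N(U ⊓ C(H)) := le_norm_of_cent' inf_le_right
    have j3 : ⁅⁅U, cj g Y⁆, pCoreOf p L ⊓ Y⁆ ≤ U ⊓ C(H) := by
      have a : ⁅⁅U, cj g Y⁆, pCoreOf p L ⊓ Y⁆ ≤ ⁅U, Y⁆ := commutator_mono j2 inf_le_right
      have b := (le_inf a (comm_le_left (inf_le_left.trans (le_normalizer_commutator' ((Op_le L).trans hLU)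
        j1)))).trans ((quad_centL hLU hg hq gen).ge.trans inf_le_right)
      exact le_inf (a.trans d2) ((le_inf (a.trans d1) b).trans d6)
    have j4 : U ⊓ C(Y) ⊔ ⁅U, cj g Y⁆ ≤ U := sup_le inf_le_left j2
    have j5 : ⁅U, L⁆ ≤ U ⊓ C(Y) ⊔ ⁅U, cj g Y⁆ := quad_sup hLU gen ▸ sup_le_sup_right (le_inf d2 hq) _
    have j6 := (commutator_comm_le _ _).trans (d5.trans (le_sup_left (b := ⁅U, cj g Y⁆)))
    have j7 := le_norm_of_comm_le ((commutator_mono j4 le_rfl).trans j5)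
    have j8 := le_norm_of_comm_le ((commutator_mono j4 le_rfl).trans j6)
    have j9 : ⁅U, H⁆ ≤ U ⊓ C(Y) ⊔ ⁅U, cj g Y⁆ := a1 ▸ comm_sup_right_le j5 j6 j7 j8
    have hB := (inf_le_right : pCoreOf p L ⊓ Y ≤ Y).trans hYH
    have j10 := ncl_comm_le (L := H) (comm_sup_right_le
      (by rw [comm_eq_bot (cent_mono le_rfl inf_le_right inf_le_right |> cent_symm)]; exact bot_le)
      ((commutator_comm_le _ _).trans j3) ((inf_le_left.trans hUH).trans hZ) ((j2.trans hUH).trans hZ))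
      (a1 ▸ sup_le j7 j8) hZ (hB.trans hZ)
    have hJ := (resIn_le (p := p) _).trans (ncl_le_of_le hB)
    have j11 := res_le_cent_of_comm_le (hUp.to_le j4) ((commutator_mono le_rfl hJ).trans j9)
      (res_le_cent_of_comm_le (hUp.to_le inf_le_left) ((commutator_comm_le _ _).trans
        ((commutator_mono (resIn_le _) le_rfl).trans j10)) (hJ.trans (cent_symm inf_le_right)))
    exact (ncl_mono hLH le_rfl).trans (hU ▸ le_Op (ncl_le_of_le hB) (le_norm_ncl _ _)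
      (h1.pg (ncl_le_of_le hB) (hU ▸ j11)))


end Cfsg.Agent.S2862
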