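import Cfsg.Statements.S2864
import Cfsg.Agent.H2.SPE

set_option autoImplicit false
open Cfsg

namespace Cfsg.Agent.S2864
open Subgroup CfsgH2
open scoped commutatorElement

open CfsgFT

/-- Standing hypotheses: G a finite group, S a Sylow p-subgroup, Q a nontrivial large p-subgroup of G contained in S, M a subgroup containing S with the basic property (M ∈ 𝔐_G(S)); Y_M the largest p-reduced normal subgroup of M and M† = M·C_G(Y_M). Let I be a nontrivial normal p-subgroup of M and Y ≤ O_p(M†); let L be a subgroup of G containing Y and A a normal p-subgroup of L with I ≤ A ≤ M. If [Y, A] ≤ [I, A], then Y ≤ O_p(L). -/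
theorem result {G : Type*} [Group G] [Finite G] {p : ℕ} [Fact p.Prime] (S : Sylow p G) (Q : Subgroup G) (hQp : IsPGroup p ↥Q) (hQ1 : Q ≠ ⊥) (hQS : Q ≤ (S : Subgroup G)) (hQ : Cfsg.IsLarge Q) (M : Subgroup G) (hSM : (S : Subgroup G) ≤ M) (hM : Cfsg.IsInFrakM p M) (I : Subgroup G) (hI1 : I ≠ ⊥) (hIp : IsPGroup p ↥I) (hIM : I ≤ M ∧ M ≤ Subgroup.normalizer ((I : Subgroup G) : Set G)) (Y : Subgroup G) (hY : Y ≤ (Cfsg.pCoreOf p (M ⊔ Subgroup.centralizer (((Cfsg.largestPReducedOf p M) : Subgroup G) : Set G)))) (L : Subgroup G) (hYL : Y ≤ L) (A : Subgroup G) (hAp : IsPGroup p ↥A) (hAL : A ≤ L ∧ L ≤ Subgroup.normalizer ((A : Subgroup G) : Set G)) (hIA : I ≤ A) (hAM : A ≤ M) (hc : ⁅Y, A⁆ ≤ ⁅I, A⁆) : Y ≤ (Cfsg.pCoreOf p L) := by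
  have h := fm_of S hQ hQp hQ1 hSM hM
  have hAA : L ≤ N(⁅A, A⁆) := le_normalizer_commutator' hAL.2 hAL.2
  have h0 := ncl_le_of_le hYL
  have h1 : ⁅ncl L Y, A⁆ ≤ ⁅A, A⁆ := ncl_comm_le (hc.trans (commutator_mono hIA le_rfl)) hAL.2 hAA (hYL.trans hAA)
  have h2 := res_le_cent_of_comm_le_frattini hAp (h0.trans hAL.2)
    ((commutator_comm_le _ _).trans (h1.trans (commutator_le_map_frattini hAp)))
  have h3 := h2.trans ((cent_anti hIA).trans ((cent_le_norm I).trans (h.norm_le hIp hI1 hIM.2)))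
  have h4 : L ≤ N(resIn p (ncl L Y)) := le_norm_resIn (le_norm_ncl L Y)
  have h5 : ⁅Y, resIn p (ncl L Y)⁆ ≤ pCoreOf p L := (le_inf ((commutator_mono hY le_rfl).trans
    (comm_le_left (h3.trans (le_norm_Op_self _)))) (comm_le_right (hYL.trans h4))).trans
    ((Op_inf_le h3).trans (Op_le_Op_of_normal ((resIn_le _).trans h0) h4))
  have h6 := le_norm_Op_self (p := p) L
  exact (pcl_of_comm_le (Op_pg L) (h0.trans h6) (ncl_comm_le h5 h4 h6 (hYL.trans h6)) Y (le_ncl L Y)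
    ((Op_pg _).to_le hY)).trans (Op_le_Op_of_normal h0 (le_norm_ncl L Y))


end Cfsg.Agent.S2864
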