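import Cfsg.Statements.S2872
import Cfsg.Agent.H2.Misc

set_option autoImplicit false
open Cfsg

namespace Cfsg.Agent.S2872
open Subgroup CfsgH2
open scoped commutatorElement

open CfsgFT CfsgLead

/-- Let S be a Sylow 2-subgroup of the finite group G. Then G has a proper normal subgroup of 2-power index (O²(G) ≠ G), or Ω₁(Z(S)) is contained in the Frattini subgroup of S, or N_G(S) acts nontrivially on Ω₁(Z(S)) by conjugation. -/
theorem result {G : Type*} [Group G] [Finite G] (S : Sylow 2 G) : Cfsg.pResidual 2 G ≠ ⊤ ∨ Cfsg.omegaOne 2 ((S : Subgroup G) ⊓ Subgroup.centralizer ((S : Subgroup G) : Set G)) ≤ (frattini ↥(S : Subgroup G)).map (S : Subgroup G).subtype ∨ ∃ g ∈ Subgroup.normalizer ((S : Subgroup G) : Set G), ∃ z ∈ Cfsg.omegaOne 2 ((S : Subgroup G) ⊓ Subgroup.centralizer ((S : Subgroup G) : Set G)), g * z * g⁻¹ ≠ z := by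
  by_contra h
  push Not at h
  obtain ⟨h1, h2, h3⟩ := h
  obtain ⟨z, hz, hz'⟩ := SetLike.not_le_iff_exists.1 h2
  obtain ⟨⟨z1, z2⟩, z3⟩ := mem_oz.1 hz
  obtain ⟨M, m1, m2⟩ : ∃ M : Subgroup S, IsCoatom M ∧ (⟨z, z1⟩ : S) ∉ M := by
    by_contra e
    push Not at e
    exact hz' ⟨⟨z, z1⟩, mem_frattini_iff.2 e, rfl⟩
  obtain ⟨K, k1, k2⟩ := thompson_extremal (IsSylowIn.of_sylow_top S) (map_subtype_le M) (by
    rw [relIndex, subgroupOf_map_subtype_self]; exact (coatom_normal_index S.2 m1).2) (z := z) (by rw [← sq, z3])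
    (le_cent1_iff.2 z2) fun g hg e => by
      have := h3 g⁻¹ (inv_mem hg) z hz
      rw [inv_inv] at this
      rw [this] at e
      obtain ⟨y, hy, e'⟩ := e
      exact m2 (by rwa [show (⟨z, z1⟩ : S) = y from Subtype.ext e'.symm])
  have := pResidual_le_of_index (p := 2) (k := 1) k2
  rw [h1, top_le_iff] at this
  simp [this] at k2


end Cfsg.Agent.S2872
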