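import Cfsg.Statements.S2873
import Cfsg.Agent.H1.PG3
import Cfsg.Agent.H2.Dih

set_option autoImplicit false
open Cfsg

namespace Cfsg.Agent.S2873

/-- Let G be a finite group and r an odd prime such that G ⧸ O₂(G) is dihedral of order 2r, and let R be a Sylow r-subgroup of G with C_{O₂(G)}(R) = 1. Then N_G(R) is dihedral of order 2r; for any involution a of N_G(R), every involution of G outside O₂(G) is conjugate to a; and |C_{O₂(G)}(a)|² = |O₂(G)|. -/
theorem result {G : Type*} [Group G] [Finite G] {r : ℕ} [Fact r.Prime] (hr : r ≠ 2) [hN : (Cfsg.pCore 2 G).Normal] (hquot : Nonempty (G ⧸ Cfsg.pCore 2 G ≃* DihedralGroup r)) (R : Sylow r G) (hC : Cfsg.pCore 2 G ⊓ Subgroup.centralizer ((R : Subgroup G) : Set G) = ⊥) : Nonempty (↥(Subgroup.normalizer ((R : Subgroup G) : Set G)) ≃* DihedralGroup r) ∧ ∀ a : G, a ∈ Subgroup.normalizer ((R : Subgroup G) : Set G) → orderOf a = 2 → (∀ b : G, orderOf b = 2 → b ∉ Cfsg.pCore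 2 G → ∃ g : G, g * a * g⁻¹ = b) ∧ Nat.card ↥(Cfsg.pCore 2 G ⊓ Subgroup.centralizer ({a} : Set G)) ^ 2 = Nat.card ↥(Cfsg.pCore 2 G) := by
  open Subgroup CfsgH1 CfsgFT CfsgH2 DihedralGroup in
  have pp : r.Prime := Fact.out
  haveI : NeZero r := ⟨pp.ne_zero⟩
  obtain ⟨e⟩ := hquot
  set Q := pCore 2 G with hQ
  let π : G →* DihedralGroup r := e.toMonoidHom.comp (QuotientGroup.mk' Q)
  have hs : Function.Surjective π := e.surjective.comp (QuotientGroup.mk'_surjective Q)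
  have hk : ∀ g, π g = 1 ↔ g ∈ Q := fun g => e.map_eq_one_iff.trans (QuotientGroup.eq_one_iff g)
  have kQ : π.ker = Q := Subgroup.ext hk
  have hd : Disjoint (R : Subgroup G) Q := IsPGroup.disjoint_of_ne r 2 hr _ _ R.isPGroup' (isPGroup_pCore 2 G)
  have hS := (IsSylowIn.of_sylow_top R).map π
  rw [map_top_of_surjective π hs] at hS
  have rot : (R : Subgroup G).map π = zpowers (.r 1) := by
    haveI : (zpowers (.r 1 : DihedralGroup r)).Normal := normal_of_index_eq_two (by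
      have := (zpowers (.r 1 : DihedralGroup r)).card_mul_index
      rw [Nat.card_zpowers, orderOf_r_one, nat_card, mul_comm 2] at this
      exact Nat.eq_of_mul_eq_mul_left pp.pos this)
    have h1 := hS.le_of_normalizer (isPGroup_zpowers_of_orderOf (k := 1) (x := .r 1) (by simp)) le_top
      le_normalizer_of_normal
    refine le_antisymm (fun x hx => ?_) h1
    rcases x with i | i
    · exact ⟨i.val, by simp⟩
    · obtain ⟨k, hk⟩ := exists_orderOf_eq_pow hS.pgroup hx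
      rw [orderOf_sr] at hk
      exact absurd ((Nat.prime_two.pow_eq_iff ..).1 hk.symm).1 hr
  have cR : Nat.card R = r := by
    rw [← card_map_of_disjoint π (kQ ▸ hd), rot, Nat.card_zpowers, orderOf_r_one]
  have n1 : N((R : Subgroup G)) ⊔ Q = ⊤ := by
    rw [← kQ, ← comap_normalizer_map_sylow π (IsSylowIn.of_sylow_top R), rot, normalizer_eq_top_iff.2, comap_top]
    exact normal_of_index_eq_two (by
      have := (zpowers (.r 1 : DihedralGroup r)).card_mul_index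
      rw [Nat.card_zpowers, orderOf_r_one, nat_card, mul_comm 2] at this
      exact Nat.eq_of_mul_eq_mul_left pp.pos this)
  have n2 : ∀ g ∈ N((R : Subgroup G)), g ∈ Q → g = 1 := fun g h1 h2 => eq_bot_iff.1 hC ⟨h2, fun x hx => by
    have := disjoint_def.1 hd (mul_mem (inv_mem hx) (CfsgH1.conj_mem_of_mem_normalizer h1 hx))
      (by simpa [mul_assoc] using mul_mem (hN.conj_mem _ h2 x⁻¹) (inv_mem h2))
    rw [inv_mul_eq_one, eq_mul_inv_iff_mul_eq] at this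
    exact this⟩
  have inj : ∀ a ∈ N((R : Subgroup G)), ∀ b ∈ N((R : Subgroup G)), π a = π b → a = b := fun a ha b hb h =>
    mul_inv_eq_one.1 (n2 _ (mul_mem ha (inv_mem hb)) ((hk _).1 (by simp [h])))
  have sur : ∀ y, ∃ n ∈ N((R : Subgroup G)), π n = y := fun y => by
    obtain ⟨g, rfl⟩ := hs y
    obtain ⟨n, hn, q, hq, rfl⟩ := (mem_sup_of_le_normalizer' le_normalizer_of_normal).1 (n1 ▸ mem_top g)
    exact ⟨n, hn, by simp [(hk q).2 hq]⟩
  refine ⟨⟨MulEquiv.ofBijective (π.comp (Subgroup.subtype _)) ⟨fun a b h => Subtype.ext (inj _ a.2 _ b.2 h),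
    fun y => (sur y).elim fun n hn => ⟨⟨n, hn.1⟩, hn.2⟩⟩⟩, fun a ha a2 => ?_⟩
  have sr' : ∀ b, orderOf b = 2 → b ∉ Q → ∃ i, π b = sr i := fun b b2 hb => by
    rcases h : π b with i | i
    · have h1 := orderOf_map_dvd π b
      have h2 : orderOf (π b) ∣ r := by rw [h, orderOf_dvd_iff_pow_eq_one]; simp
      exact absurd ((hk b).1 (orderOf_eq_one_iff.1 (Nat.eq_one_of_dvd_coprimes
        ((Nat.coprime_primes pp Nat.prime_two).2 hr) h2 (b2 ▸ h1)))) hb
    · exact ⟨i, rfl⟩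
  have cj' : ∀ y i, i ≠ 0 → π y = .r i → ∃ s ∈ Q, ∃ ρ ∈ (R : Subgroup G), ρ ≠ 1 ∧ y = s * ρ * s⁻¹ := fun y i hi h => by
    obtain ⟨ρ, hρ, e⟩ := rot.ge (show DihedralGroup.r i ∈ zpowers (.r 1) from ⟨i.val, by simp⟩)
    have ρ1 : ρ ≠ 1 := by rintro rfl; exact hi (DihedralGroup.r.inj (e.symm.trans (map_one π)))
    obtain ⟨s, h1, h2⟩ := exists_conj_of_fpf (K := Q) (x := ρ) (by
      rw [← centralizer_zpowers', eq_of_le_of_card_prime (zpowers_le.2 hρ) (by simpa) cR, hC])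
      ((hk (y * ρ⁻¹)).1 (by simp [h, e]))
    exact ⟨s, h1, ρ, hρ, ρ1, by simpa using h2⟩
  have sq : ∀ {b : G}, orderOf b = 2 → b * b = 1 := fun h => by rw [← pow_two, ← h, pow_orderOf_eq_one]
  obtain ⟨i, hi⟩ := sr' a a2 fun h => by rw [n2 a ha h, orderOf_one] at a2; omega
  have odd : ∀ x y j k, orderOf x = 2 → orderOf y = 2 → π x = sr j → π y = sr k → j ≠ k → IsConj x y :=
    fun x y j k hx hy h1 h2 h3 => isConj_of_odd (sq hx) (sq hy) (by
      obtain ⟨s, -, ρ, hρ, -, e⟩ := cj' (x * y) (k - j) (sub_ne_zero.2 h3.symm) (by simp [h1, h2])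
      rw [e, orderOf_conj']
      exact (pp.odd_of_ne_two hr).of_dvd_nat (cR ▸ Subgroup.orderOf_dvd_natCard _ hρ))
  obtain ⟨n, hn, en⟩ := sur (.r 1)
  have a' : π (n * a * n⁻¹) = sr (i - 2) := by simp [en, hi]; ring
  have ne : i ≠ i - 2 := fun h => hr ((Nat.prime_dvd_prime_iff_eq pp Nat.prime_two).1
    ((ZMod.natCast_eq_zero_iff 2 r).1 (by push_cast; linear_combination h)))
  have cc : Nat.card ↥(Q ⊓ C1(n * a * n⁻¹)) = Nat.card ↥(Q ⊓ C1(a)) := by
    rw [← cj_centralizer_singleton, ← card_cj n (Q ⊓ C1(a)), cj_inf, cj_eq_of_normal n Q]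
  refine ⟨fun b b2 hb => isConj_iff.1 ?_, le_antisymm ?_ ?_⟩
  · obtain ⟨j, hj⟩ := sr' b b2 hb
    by_cases h : i = j
    · exact (isConj_iff.2 ⟨n, rfl⟩).trans (odd _ _ _ _ ((orderOf_conj' n a).trans a2) b2 a' hj (h ▸ ne.symm))
    · exact odd _ _ _ _ a2 b2 hi hj h
  · have := card_mul_le_of_le (inf_le_left : Q ⊓ C1(a) ≤ Q) (inf_le_left : Q ⊓ C1(n * a * n⁻¹) ≤ Q)
    rw [cc, ← pow_two, (card_eq_one (H := Q ⊓ C1(a) ⊓ _)).2 (eq_bot_iff.2 fun x hx => ?_), mul_one] at this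
    · exact this
    obtain ⟨ρ, hρ, e⟩ := rot.ge (show DihedralGroup.r (i - 2 - i) ∈ zpowers (.r 1) from ⟨(i - 2 - i).val, by simp⟩)
    have e2 : ρ = a * (n * a * n⁻¹) := inj _ (le_normalizer hρ) _ (mul_mem ha (mul_mem (mul_mem hn ha) (inv_mem hn)))
      (by rw [map_mul, a', hi, e, sr_mul_sr])
    have ρ1 : ρ ≠ 1 := by rintro rfl; exact ne (sub_eq_zero.1 (DihedralGroup.r.inj (e.symm.trans (map_one π)))).symm
    refine hC.le ⟨hx.1.1, ?_⟩
    rw [← eq_of_le_of_card_prime (zpowers_le.2 hρ) (by simpa) cR, centralizer_zpowers', e2]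
    exact mem_C1.2 (Commute.mul_right (mem_C1.1 hx.1.2) (mem_C1.1 hx.2.2))
  · rw [pow_two]
    nth_rw 2 [← cc]
    rw [← Nat.card_prod]
    refine Nat.card_le_card_of_surjective (fun x => ⟨x.1 * x.2, mul_mem x.1.2.1 x.2.2.1⟩) fun ⟨q, hq⟩ => ?_
    obtain ⟨s, h1, ρ, hρ, ρ1, e⟩ := cj' (a * (q * (n * a * n⁻¹) * q⁻¹)) (i - 2 - i) (sub_ne_zero.2 ne.symm)
      (by rw [map_mul, map_mul π _ q⁻¹, map_mul π q, map_inv, (hk q).2 hq, a', hi]; simp)
    have b2 := sq ((orderOf_conj' q _).trans ((orderOf_conj' n a).trans a2))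
    set b := q * (n * a * n⁻¹) * q⁻¹ with hb
    have e1 : s⁻¹ * a * s = a := inj _ (by
      rw [← eq_of_le_of_card_prime (zpowers_le.2 hρ) (by simpa) cR]
      refine mem_normalizer_of_cj_le (by
        rw [cj_zpowers, zpowers_le, show s⁻¹ * a * s * ρ * (s⁻¹ * a * s)⁻¹ = ρ⁻¹ by
          rw [show ρ = s⁻¹ * (a * b) * s by rw [e]; group]
          simp [mul_assoc, inv_eq_of_mul_eq_one_right (sq a2), inv_eq_of_mul_eq_one_right b2, ← mul_assoc a a, sq a2]]
        exact inv_mem (mem_zpowers ρ))) _ ha (by simp [(hk s).2 h1])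
    have e2 : ρ = a * (n * a * n⁻¹) := inj _ (le_normalizer hρ) _ (mul_mem ha (mul_mem (mul_mem hn ha) (inv_mem hn))) (by
      simpa [hb, (hk s).2 h1, (hk q).2 hq] using congrArg π e.symm)
    have e3 : s * a = a * s := by rw [eq_comm, ← inv_mul_eq_iff_eq_mul, ← mul_assoc, e1]
    refine ⟨(⟨s, h1, mem_C1.2 e3⟩, ⟨s⁻¹ * q, mem_inf.2 ⟨mul_mem (inv_mem h1) hq, mem_C1.2 ?_⟩⟩), by simp⟩
    rw [e2, ← mul_assoc s a, e3, mul_assoc a, mul_assoc a, mul_right_inj] at e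
    rw [← mul_inv_eq_iff_eq_mul, mul_inv_rev, inv_inv, mul_assoc s⁻¹, mul_assoc s⁻¹, ← mul_assoc _ q⁻¹, ← hb, e]; group

end Cfsg.Agent.S2873
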