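import Cfsg.Statements.S2874
import Cfsg.Agent.H2.SylowIn

set_option autoImplicit false
open Cfsg

namespace Cfsg.Agent.S2874
open Subgroup CfsgH2
open scoped commutatorElement

open Matrix

variable {k : ℕ}

theorem unit_of (hk : 2 ∣ 2 ^ k) {x : ZMod (2 ^ k)} (h : ZMod.castHom hk (ZMod 2) x ≠ 0) : IsUnit x := by
  obtain ⟨n, rfl⟩ := ZMod.natCast_zmod_surjective x
  rw [map_natCast, Ne, ZMod.natCast_eq_zero_iff] at h
  exact (ZMod.isUnit_iff_coprime n _).2 (Nat.Coprime.pow_right k ((Nat.prime_two.coprime_iff_not_dvd.2 h).symm))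

theorem ann {x : ZMod (2 ^ (k + 1))} (h : 2 * x = 0) : x = 0 ∨ x = 2 ^ k := by
  obtain ⟨n, rfl⟩ := ZMod.natCast_zmod_surjective x
  have h1 : 2 ^ (k + 1) ∣ 2 * n := (ZMod.natCast_eq_zero_iff _ _).1 (by exact_mod_cast h)
  rw [pow_succ'] at h1
  obtain ⟨m, rfl⟩ := Nat.dvd_of_mul_dvd_mul_left two_pos h1
  have h2 : (2 : ZMod (2 ^ (k + 1))) ^ k * 2 = 0 := by exact_mod_cast ZMod.natCast_self (2 ^ (k + 1))
  obtain ⟨j, rfl | rfl⟩ := Nat.even_or_odd' m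
  · left; push_cast; linear_combination j * h2
  · right; push_cast; linear_combination j * h2

variable {R : Type*} [CommRing R]

def r0 : GL (Fin 2) R := ⟨!![0, -1; 1, -1], !![-1, 1; -1, 0], by simp [one_fin_two], by simp [one_fin_two]⟩
def Bm (a c : R) : Matrix (Fin 2) (Fin 2) R := !![1 + a, c - a; c, 1 - a]

theorem cjB {t : GL (Fin 2) R} {a c : R} (h : t.1 = Bm a c) : (r0 * t * r0⁻¹).1 = Bm (c - a) (-a) := by
  show !![0, -1; 1, -1] * t.1 * !![-1, 1; -1, 0] = _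
  rw [h]; ext i j; fin_cases i <;> fin_cases j <;> simp [Bm] <;> ring

theorem shape (h3 : IsUnit (3 : R)) {t : GL (Fin 2) R} (e1 : t * t = 1)
    (e2 : t * (r0 * t * r0⁻¹) = r0 * (r0 * t * r0⁻¹) * r0⁻¹) (e3 : r0 * t * r0⁻¹ * t = r0 * (r0 * t * r0⁻¹) * r0⁻¹) :
    ∃ a c, t.1 = Bm a c ∧ 2 * a = 0 ∧ 2 * c = 0 := by
  obtain ⟨u, hu⟩ := h3.exists_left_inv
  obtain ⟨x, y, a, c, h⟩ : ∃ x y a c, t.1 = !![x + a, c - a - y; y + c, x - y - a] := by
    refine ⟨u * (t.1 0 0 + 2 * t.1 1 1 + t.1 1 0 - t.1 0 1), u * (t.1 1 1 - t.1 0 0 + 2 * (t.1 1 0 - t.1 0 1)),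
      u * (2 * (t.1 0 0 - t.1 1 1) - t.1 1 0 + t.1 0 1), u * (t.1 0 0 - t.1 1 1 + t.1 1 0 + 2 * t.1 0 1), ?_⟩
    ext i j; fin_cases i <;> fin_cases j <;> simp
    · linear_combination (-t.1 0 0) * hu
    · linear_combination (-t.1 0 1) * hu
    · linear_combination (-t.1 1 0) * hu
    · linear_combination (-t.1 1 1) * hu
  have f1 : t.1 * t.1 = 1 := congrArg Units.val e1
  have f2 : t.1 * (!![0, -1; 1, -1] * t.1 * !![-1, 1; -1, 0]) =
    !![0, -1; 1, -1] * (!![0, -1; 1, -1] * t.1 * !![-1, 1; -1, 0]) * !![-1, 1; -1, 0] := congrArg Units.val e2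
  have f3 : !![0, -1; 1, -1] * t.1 * !![-1, 1; -1, 0] * t.1 =
    !![0, -1; 1, -1] * (!![0, -1; 1, -1] * t.1 * !![-1, 1; -1, 0]) * !![-1, 1; -1, 0] := congrArg Units.val e3
  rw [h] at f1 f2 f3
  simp only [mul_fin_two, one_fin_two, EmbeddingLike.apply_eq_iff_eq, vecCons_inj, and_true] at f1 f2 f3
  obtain ⟨⟨a1, a2⟩, a3, a4⟩ := f1
  obtain ⟨⟨b1, b2⟩, b3, b4⟩ := f2
  obtain ⟨⟨c1, c2⟩, c3, c4⟩ := f3
  have hN : a * a - a * c + c * c = 0 := h3.mul_right_eq_zero.1 (by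
    linear_combination b1 - c1 + 2 * (b4 - c4) + (b3 - c3) - (b2 - c2))
  obtain rfl : x = 1 := sub_eq_zero.1 (h3.mul_right_eq_zero.1 (by
    linear_combination a1 - c1 + 2 * (a4 - c4) + (a3 - c3) - (a2 - c2) - 6 * hN))
  obtain rfl : y = 0 := h3.mul_right_eq_zero.1 (by
    linear_combination a4 - c4 - (a1 - c1) + 2 * (a3 - c3) - 2 * (a2 - c2) - 3 * hN)
  exact ⟨a, c, by rw [h]; simp [Bm], by linear_combination a1 - hN, by linear_combination a3⟩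

theorem cj0 (hk : 2 ∣ 2 ^ k) {ρ : GL (Fin 2) (ZMod (2 ^ k))} (h : ρ ^ 3 = 1) (h1 : ρ ≠ 1) :
    ∃ g, g * ρ * g⁻¹ = r0 := by
  have hd : ∀ M : Matrix (Fin 2) (Fin 2) (ZMod 2), M ^ 3 = 1 →
    (M ^ 2 + M + 1).det ≠ 0 ∨ (M - 1).det ≠ 0 ∧ M 1 0 ≠ 0 := by decide
  have h2 : (ρ.1 ^ 2 + ρ.1 + 1) * (ρ.1 - 1) = 0 := by
    rw [show (ρ.1 ^ 2 + ρ.1 + 1) * (ρ.1 - 1) = ρ.1 ^ 3 - 1 by noncomm_ring]
    exact sub_eq_zero.2 (congrArg Units.val h)
  have hu : ∀ M : Matrix (Fin 2) (Fin 2) (ZMod (2 ^ k)), ((ZMod.castHom hk (ZMod 2)).mapMatrix M).det ≠ 0 → IsUnit M :=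
    fun M hM => (isUnit_iff_isUnit_det M).2 (unit_of hk (by rwa [RingHom.map_det]))
  rcases hd ((ZMod.castHom hk (ZMod 2)).mapMatrix ρ.1) (by
    rw [← map_pow, show ρ.1 ^ 3 = 1 from congrArg Units.val h, map_one]) with e | ⟨e, e'⟩
  · exact absurd (Units.ext (sub_eq_zero.1 ((hu _ (by rwa [map_add, map_add, map_pow, map_one])).mul_right_eq_zero.1 h2))) h1
  have h3 := (hu _ (by rwa [map_sub, map_one])).mul_left_eq_zero.1 h2
  obtain ⟨g, hg⟩ := (isUnit_iff_isUnit_det !![1, ρ.1 0 0; 0, ρ.1 1 0]).2 (by simpa using unit_of hk e')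
  refine ⟨g⁻¹, ?_⟩
  rw [inv_inv, mul_assoc, inv_mul_eq_iff_eq_mul]
  refine Units.ext ?_
  show ρ.1 * g.1 = g.1 * !![0, -1; 1, -1]
  have a1 := congrFun (congrFun h3 0) 0
  have a2 := congrFun (congrFun h3 1) 0
  simp [pow_two, mul_apply] at a1 a2
  rw [hg]; ext i j; fin_cases i <;> fin_cases j <;> simp [mul_apply]
  · linear_combination a1
  · linear_combination a2

def ra : alternatingGroup (Fin 4) := ⟨Equiv.swap 0 1 * Equiv.swap 1 2, Equiv.Perm.mem_alternatingGroup.2 (by decide)⟩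
def sa : alternatingGroup (Fin 4) := ⟨Equiv.swap 0 1 * Equiv.swap 2 3, Equiv.Perm.mem_alternatingGroup.2 (by decide)⟩

theorem main {H : Subgroup (GL (Fin 2) (ZMod (2 ^ (k + 1))))} (e : H ≃* alternatingGroup (Fin 4)) :
    ∃ g t : GL (Fin 2) (ZMod (2 ^ (k + 1))), H.map (MulAut.conj g).toMonoidHom = Subgroup.closure {r0, t} ∧ t ≠ 1 ∧ ∃ a c, t.1 = Bm a c ∧
      (a = 0 ∨ a = 2 ^ k) ∧ (c = 0 ∨ c = 2 ^ k) := by
  have hk : 2 ∣ 2 ^ (k + 1) := dvd_pow_self 2 (Nat.succ_ne_zero k)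
  let φ := H.subtype.comp e.symm.toMonoidHom
  have hφ : Function.Injective φ := Subtype.val_injective.comp e.symm.injective
  obtain ⟨g, hg⟩ := cj0 hk (ρ := φ ra) (by rw [← map_pow, show ra ^ 3 = 1 by decide, map_one])
    ((map_ne_one_iff _ hφ).2 (by decide))
  let ψ := (MulAut.conj g).toMonoidHom.comp φ
  have hr : ψ ra = r0 := hg
  have h1 : Subgroup.closure {ra, sa} = ⊤ := eq_top_iff.2 fun x _ => by
    have a : ra ∈ Subgroup.closure {ra, sa} := Subgroup.subset_closure (by simp)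
    have b : sa ∈ Subgroup.closure {ra, sa} := Subgroup.subset_closure (by simp)
    obtain ⟨i, j, h | h⟩ := (by decide : ∀ x : alternatingGroup (Fin 4), ∃ i j : Fin 3,
      x = ra ^ (i : ℕ) ∨ x = ra ^ (i : ℕ) * sa * ra ^ (j : ℕ)) x
    · exact h ▸ pow_mem a _
    · exact h ▸ mul_mem (mul_mem (pow_mem a _) b) (pow_mem a _)
  obtain ⟨a, c, h2, h3, h4⟩ := shape (unit_of hk (by rw [map_ofNat]; decide)) (t := ψ sa)
    (by rw [← map_mul, show sa * sa = 1 by decide, map_one])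
    (by simp only [← hr, ← map_mul, ← map_inv]; exact congrArg ψ (by decide))
    (by simp only [← hr, ← map_mul, ← map_inv]; exact congrArg ψ (by decide))
  refine ⟨g, ψ sa, ?_, (map_ne_one_iff ψ ((MulAut.conj g).injective.comp hφ)).2 (by decide), a, c, h2, ann h3, ann h4⟩
  rw [← hr, ← Set.image_pair, ← MonoidHom.map_closure, h1, ← Subgroup.map_map, ← Subgroup.map_map, Subgroup.map_top_of_surjective _ e.symm.surjective,
    ← MonoidHom.range_eq_map, range_subtype]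

theorem cle {t u : GL (Fin 2) (ZMod (2 ^ (k + 1)))} {a c b d : ZMod (2 ^ (k + 1))} (t1 : t ≠ 1) (ht : t.1 = Bm a c)
    (ha : a = 0 ∨ a = 2 ^ k) (hc : c = 0 ∨ c = 2 ^ k) (hu : u.1 = Bm b d) (hb : b = 0 ∨ b = 2 ^ k)
    (hd : d = 0 ∨ d = 2 ^ k) : Subgroup.closure {r0, u} ≤ Subgroup.closure {r0, t} := by
  have m1 : r0 ∈ Subgroup.closure {r0, t} := Subgroup.subset_closure (by simp)
  have m2 : t ∈ Subgroup.closure {r0, t} := Subgroup.subset_closure (by simp)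
  have m3 := mul_mem (mul_mem m1 m2) (inv_mem m1)
  have m4 := mul_mem (mul_mem m1 m3) (inv_mem m1)
  have h1 := cjB ht
  have h2 := cjB h1
  have h3 : -(2 : ZMod (2 ^ (k + 1))) ^ k = 2 ^ k := by
    have : (2 : ZMod (2 ^ (k + 1))) ^ k * 2 = 0 := by exact_mod_cast ZMod.natCast_self (2 ^ (k + 1))
    linear_combination -this
  have h4 : Bm (0 : ZMod (2 ^ (k + 1))) 0 = 1 := by simp [Bm, one_fin_two]
  refine (Subgroup.closure_le _).2 ?_
  rintro _ (rfl | rfl)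
  · exact m1
  rcases ha with rfl | rfl <;> rcases hc with rfl | rfl <;> rcases hb with rfl | rfl <;> rcases hd with rfl | rfl
  all_goals simp only [sub_zero, zero_sub, neg_zero, sub_self, h3] at h1 h2
  all_goals first | exact absurd (Units.ext (ht.trans h4)) t1 | exact (Units.ext (hu.trans h4) : _ = (1 : GL _ _)).symm ▸ one_mem _ | exact Units.ext (hu.trans ht.symm) ▸ m2 | exact Units.ext (hu.trans h1.symm) ▸ m3 | exact Units.ext (hu.trans h2.symm) ▸ m4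

/-- For k ≥ 2, any two subgroups of GL₂(ℤ/2ᵏℤ) (the automorphism group of the homocyclic group ℤ/2ᵏ × ℤ/2ᵏ) that are isomorphic to the alternating group of degree 4 are conjugate. -/
theorem result (k : ℕ) (hk : 2 ≤ k) (H₁ H₂ : Subgroup (GL (Fin 2) (ZMod (2 ^ k)))) (h₁ : Nonempty (↥H₁ ≃* ↥(alternatingGroup (Fin 4)))) (h₂ : Nonempty (↥H₂ ≃* ↥(alternatingGroup (Fin 4)))) : ∃ g : GL (Fin 2) (ZMod (2 ^ k)), H₂ = H₁.map (MulAut.conj g).toMonoidHom := by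
  obtain ⟨k, rfl⟩ : ∃ j, k = j + 1 := ⟨k - 1, by omega⟩
  obtain ⟨g, t, a1, a2, a, c, a3, a4, a5⟩ := main h₁.some
  obtain ⟨h, u, b1, b2, b, d, b3, b4, b5⟩ := main h₂.some
  have := a1.trans ((le_antisymm (cle b2 b3 b4 b5 a3 a4 a5) (cle a2 a3 a4 a5 b3 b4 b5)).trans b1.symm)
  refine ⟨h⁻¹ * g, Subgroup.map_injective (f := (MulAut.conj h).toMonoidHom) (MulAut.conj h).injective ?_⟩
  rw [← this, Subgroup.map_map]
  congr 1
  ext1 x
  simp [mul_assoc]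


end Cfsg.Agent.S2874
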