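import Cfsg.Statements.S2879
import Cfsg.Agent.H2.Diag

set_option autoImplicit false
open Cfsg

namespace Cfsg.Agent.S2879
open Subgroup CfsgH2
open scoped commutatorElement

/-- Let G be a finite solvable group with O(G) = 1 whose Sylow 2-subgroup T is dihedral of order at least 8 or semidihedral, with G ≠ T and Z(T) normal in G. Then G has a normal subgroup isomorphic to SL₂(3). -/
theorem result {G : Type*} [Group G] [Finite G] (hsol : IsSolvable G) (hO : Cfsg.oddCore G = ⊥) (T : Sylow 2 G) (hT : (∃ n : ℕ, 4 ≤ n ∧ Nonempty (↥(T : Subgroup G) ≃* DihedralGroup n)) ∨ Cfsg.IsQuasiDihedral ↥(T : Subgroup G)) (hne : (T : Subgroup G) ≠ ⊤) (hZ : ((T : Subgroup G) ⊓ Subgroup.centralizer ((T : Subgroup G) : Set G)).Normal) : ∃ U : Subgroup G, U.Normal ∧ Nonempty (↥U ≃* Matrix.SpecialLinearGroup (Fin 2) (ZMod 3)) := by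
  haveI : Group.IsSolvable G := hsol
  have hs := IsSylowIn.of_sylow_top T
  obtain ⟨a, b, k, m, r, h⟩ : ∃ a b k m r, MC (T : Subgroup G) a b k m r := by
    rcases hT with ⟨n, hn, ⟨e⟩⟩ | hT
    · obtain ⟨a, b, r, h, -⟩ := mc_of_dihedral T.isPGroup' (by omega) e
      exact ⟨_, _, _, _, _, h⟩
    · obtain ⟨a, b, r, -, h⟩ := mc_of_qd hT
      exact ⟨_, _, _, _, _, h⟩
  obtain ⟨g, h1, h2, h3⟩ := oddAct_pCore hO fun h => hne (hs.eq_of_isPGroup (h.to_subgroup ⊤))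
  have hF := CfsgH1.isPGroup_pCore 2 G
  rw [h.inf_centralizer_eq] at hZ
  obtain ⟨j, ⟨-, -, e⟩ | ⟨e0, e1, e2⟩⟩ := h.odd_act (CfsgH1.pCore_le_sylow T) h1 h2 h3
  · exact absurd (zpowers_le.2 (zpow_mem (mem_zpowers a) _) (e ▸ hZ.conj_mem _ (mem_zpowers _) g))
      (h.toIdx2.pow_mul_notMem j)
  have h4 := h.q8_of e0
  rw [← e1] at h4
  have h5 := q8_index_dvd h4 h.orderOf_c (N := ⊤) (by rw [normalizer_eq_top])
  rw [sup_eq_left.2 (CfsgH1.IsPSolvable.centralizer_pCore_le CfsgH1.isPSolvable_of_isSolvable hO),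
    relIndex_top_right] at h5
  have h6 : g ^ 3 = 1 := by
    have h7 : g ^ 6 ∈ pCore 2 G := by
      obtain ⟨c, hc⟩ := h5
      rw [hc, pow_mul]; exact pow_mem (pow_index_mem _ g) c
    have h8 := eq_one_of_odd_of_mem hF h7 (Odd.of_dvd_nat h2 (orderOf_pow_dvd 6))
    exact orderOf_dvd_iff_pow_eq_one.1 ((Nat.Coprime.dvd_of_dvd_mul_right (coprime_two_iff_odd.2 h2)
      (orderOf_dvd_of_pow_eq_one h8)))
  have h9 : g ∉ pCore 2 G := fun hg => h3 (by rw [eq_one_of_odd_of_mem hF hg h2]; exact one_mem _)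
  haveI : Fact (Nat.Prime 3) := ⟨Nat.prime_three⟩
  have h10 := relIndex_mul_index (le_sup_left : pCore 2 G ≤ pCore 2 G ⊔ zpowers g)
  rw [relIndex_sup_zpowers h1 h9 (p := 3) (by rw [h6]; exact one_mem _)] at h10
  refine ⟨pCore 2 G ⊔ zpowers g, ?_, sl23_of_act h4 h.orderOf_c h1 h6 e2⟩
  rw [← h10] at h5
  have h11 : (pCore 2 G ⊔ zpowers g).index ∣ 2 := Nat.dvd_of_mul_dvd_mul_left (by norm_num : 0 < 3) h5
  rcases (Nat.dvd_prime Nat.prime_two).1 h11 with e | e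
  · rw [index_eq_one.1 e]; infer_instance
  · exact normal_of_index_eq_two e


end Cfsg.Agent.S2879
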