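import Cfsg.Statements.S2880
import Cfsg.Agent.H2.Extra2

set_option autoImplicit false
open Cfsg

namespace Cfsg.Agent.S2880
open Subgroup CfsgH2
open scoped commutatorElement

/-- Let E be an extraspecial 2-group of order 2^(2m+1) of plus type, that is, containing an elementary abelian subgroup of order 2^(m+1) (equivalently, a central product of m dihedral groups of order 8). Then E has exactly 2^(2m) − 2^m elements of order 4. -/
theorem result {E : Type*} [Group E] [Finite E] (m : ℕ) (hm : 1 ≤ m) (hE : Cfsg.IsExtraspecial 2 E) (hcard : Nat.card E = 2 ^ (2 * m + 1)) (hplus : ∃ A : Subgroup E, Cfsg.IsElementaryAbelian 2 A ∧ Nat.card A = 2 ^ (m + 1)) : Nat.card {x : E // orderOf x = 4} = 2 ^ (2 * m) - 2 ^ m := by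
  obtain ⟨z, hz, hne⟩ := ES.of_top hE
  have c : Nat.card (⊤ : Subgroup E) = 2 ^ (2 * m + 1) := by rw [Subgroup.card_top, hcard]
  obtain ⟨A, h1, h2⟩ := hplus
  have h3 := (hz.plus_iff c).2 ⟨A, le_top, h1, h2⟩
  have h4 := cnt_add_not (⊤ : Subgroup E) fun x => x ^ 2 = 1
  have h5 : cnt (⊤ : Subgroup E) (fun x => ¬ x ^ 2 = 1) = Nat.card {x : E // orderOf x = 4} := by
    rw [← cnt_top]
    refine cnt_congr fun x hx => ⟨fun h => ?_, fun h h6 => ?_⟩
    · exact orderOf_eq_prime_pow (p := 2) (n := 1) (by simpa using h) (hz.pow_sq hx)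
    · have := orderOf_dvd_of_pow_eq_one h6
      rw [h] at this
      omega
  change nsq _ + _ = _ at h4
  rw [h3, h5, c, pow_succ] at h4
  omega


end Cfsg.Agent.S2880
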