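import Cfsg.Statements.S2881
import Cfsg.Agent.H2.Extra2

set_option autoImplicit false
open Cfsg

namespace Cfsg.Agent.S2881

open Subgroup in
theorem fix_modEq {α : Type*} [Finite α] (f : α → α) (hf : ∀ x, f (f (f (f (f x)))) = x) :
    Nat.card α ≡ Nat.card {x // f x = x} [MOD 5] := by
  classical
  haveI := Fintype.ofFinite α
  haveI : Fact (Nat.Prime 5) := ⟨by norm_num⟩
  have h := Equiv.Perm.card_fixedPoints_modEq (α := α) (f := (f : Function.End α)) (p := 5) (n := 1)
    (by funext x; exact hf x)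
  rw [Nat.card_eq_fintype_card]
  have e : Nat.card {x // f x = x} = Fintype.card (Function.fixedPoints (f : Function.End α)) := by
    rw [← Nat.card_eq_fintype_card]; rfl
  rw [e]; exact h

/-- Let E be an extraspecial 2-group of order 2^(2m+1) of plus type (containing an elementary abelian subgroup of order 2^(m+1)), and let ω be an automorphism of E of order 5 whose fixed points are exactly the centre of E. Then m is divisible by 4. -/
theorem result {E : Type*} [Group E] [Finite E] (m : ℕ) (hm : 1 ≤ m) (hE : Cfsg.IsExtraspecial 2 E) (hcard : Nat.card E = 2 ^ (2 * m + 1)) (hplus : ∃ A : Subgroup E, Cfsg.IsElementaryAbelian 2 A ∧ Nat.card A = 2 ^ (m + 1)) (ω : E ≃* E) (hω : orderOf ω = 5) (hfix : ∀ x : E, ω x = x ↔ x ∈ Subgroup.center E) : 4 ∣ m := by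
  open Subgroup CfsgH2 CfsgFT in
    haveI : Fact (Nat.Prime 2) := ⟨Nat.prime_two⟩
    obtain ⟨z, hz, -⟩ := ES.of_top hE
    have hc : Nat.card (center E) = 2 := by rw [hz.center_eq]; exact hz.toPES.toCZ.card_z
    have hn : Nat.card (⊤ : Subgroup E) = 2 ^ (2 * m + 1) := by rw [Subgroup.card_top, hcard]
    obtain ⟨A, hA, hAc⟩ := hplus
    have hq : nsq (⊤ : Subgroup E) = 2 ^ (2 * m) + 2 ^ m := (hz.plus_iff hn).2 ⟨A, ⟨le_top, hA, hAc⟩⟩
    have h5 : ∀ x, ω (ω (ω (ω (ω x)))) = x := by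
      intro x
      have h1 : ω ^ 5 = 1 := by rw [← hω]; exact pow_orderOf_eq_one ω
      have h2 : (ω ^ 5) x = x := by rw [h1]; rfl
      simpa [pow_succ] using h2
    have e1 := fix_modEq ω h5
    have c1 : Nat.card {x // ω x = x} = 2 := by
      rw [← hc]; exact Nat.card_congr (Equiv.subtypeEquivRight hfix)
    let g : {x : E // x ^ 2 = 1} → {x : E // x ^ 2 = 1} := fun x => ⟨ω x, by rw [← map_pow, x.2, map_one]⟩
    have e2 := fix_modEq g (fun x => Subtype.ext (h5 x))
    have hsq : ∀ x ∈ center E, x ^ 2 = 1 := by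
      intro x hx
      have : (⟨x, hx⟩ : center E) ^ 2 = 1 := by rw [← hc]; exact pow_card_eq_one'
      exact congrArg Subtype.val this
    have c2 : Nat.card {x // g x = x} = 2 := by
      refine Eq.trans ?_ hc
      refine Nat.card_congr ⟨fun x => ⟨x.1.1, (hfix _).1 (congrArg Subtype.val x.2)⟩,
        fun y => ⟨⟨y.1, hsq _ y.2⟩, Subtype.ext ((hfix _).2 y.2)⟩, fun x => rfl, fun y => rfl⟩
    rw [c1, hcard] at e1
    rw [c2, ← nsq_top, hq] at e2
    obtain ⟨k, r, hr, rfl⟩ : ∃ k r, r < 4 ∧ m = 4 * k + r := ⟨m / 4, m % 4, Nat.mod_lt _ (by norm_num), by omega⟩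
    have h16 : 2 ^ (4 * k) % 5 = 1 := by rw [pow_mul, Nat.pow_mod]; simp
    have a1 : 2 ^ (2 * (4 * k + r) + 1) = 2 ^ (4 * k) * 2 ^ (4 * k) * 2 ^ (2 * r + 1) := by ring
    have a2 : 2 ^ (2 * (4 * k + r)) + 2 ^ (4 * k + r) = 2 ^ (4 * k) * 2 ^ (4 * k) * 2 ^ (2 * r) + 2 ^ (4 * k) * 2 ^ r := by ring
    rw [a1] at e1
    rw [a2] at e2
    unfold Nat.ModEq at e1 e2
    generalize 2 ^ (4 * k) = N at *
    obtain ⟨t, rfl⟩ : ∃ t, N = 5 * t + 1 := ⟨N / 5, by omega⟩
    interval_cases r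
    · omega
    · exfalso; ring_nf at e1; omega
    · exfalso; ring_nf at e2; omega
    · exfalso; ring_nf at e1; omega

end Cfsg.Agent.S2881
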