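import Cfsg.Statements.S2882
import Cfsg.Agent.H7.Mj

set_option autoImplicit false
open Cfsg

namespace Cfsg.Agent.S2882

open CfsgH7 MulAction
open scoped Pointwise symmDiff
set_option maxRecDepth 100000
set_option Elab.async false


/-- In the Mathieu group of degree 24 (realised as the automorphism group of the extended binary Golay code) every Sylow 2-subgroup is self-normalizing. -/
theorem result (S : Sylow 2 ↥Cfsg.M24) : Subgroup.normalizer ((S : Subgroup ↥Cfsg.M24) : Set ↥Cfsg.M24) = (S : Subgroup ↥Cfsg.M24) := by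
  obtain ⟨g, e⟩ := sylow_iso S _ (packS2.card.trans (by rw [card_M24]; decide +kernel))
  rw [e, cj_normalizer]
  congr 1
  exact le_antisymm ((packM.refull [(0, [(0x9140bb5ea709a24635ea4506e9c049, 0x94e261dda24914ba200783acc285f5)]),(2, [(0x5992a22265144e16b214bc9d51bec0, 0x38488899c91156abd2b26da131bd80)]),(1, [(0xb29f09dc888b0b458cee6a4c190aa0, 0x95c2c98df4aa0ee5d8d0495b150880)]),(5, [(0x9552b25a344286f3b2ee2ce0d30820, 0x4cad035e256208aa3aaf58cf368820)]),(3, [(0x2520abc52864ccfa9c6bb34ae90820, 0x99d7670e55610cf45230534b748820)]),(14, [(0x8c169ad9d26dccc99d1423caa18820, 0x74a685c2f6345eca9289534a718820)]),(4, [(0xba91094e346b9e63d8955b0a918820, 0xba91094e346b9e63d8955b0a918820), (0xbb1f3a4232ab916218ed4a8ab18820, 0xbb1f3a4232ab916218ed4a8ab18820), (0xbcc8cb2a265b8f47c9096c0b518820, 0xbcc8cb2a265b8f47c9096c0b518820), (0xb926faa22da3a0b6255231cb618820, 0xb926faa22da3a0b6255231cb618820)])] (by decide +kernel)).norm_le packS2 packS2 (z := 0x8daa7492eb78dac82a68a1832700a2) (by decide +kernel)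
    (Act.prunes_all _) (by decide +kernel)) Subgroup.le_normalizer

end Cfsg.Agent.S2882
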