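import Cfsg.Statements.S2896
import Cfsg.Agent.H2.SPE

set_option autoImplicit false
open Cfsg

namespace Cfsg.Agent.S2896
open Subgroup CfsgH2
open scoped commutatorElement

open CfsgFT

/-- Let p be a prime dividing the order of the finite group G, S a Sylow p-subgroup of G and X a subgroup of S. (i) If some nontrivial element z of the centre of X has F*(C_G(z)) = O_p(C_G(z)), then F*(N_G(X)) = O_p(N_G(X)). (ii) G has parabolic characteristic p if and only if F*(C_G(z)) = O_p(C_G(z)) for every nontrivial z ∈ Ω₁(Z(S)). (iii) If F*(C_G(z)) = O_p(C_G(z)) for every element z of S of order p, then G has local characteristic p. -/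
theorem result {G : Type*} [Group G] [Finite G] {p : ℕ} [Fact p.Prime] (hdiv : p ∣ Nat.card G) (S : Sylow p G) (X : Subgroup G) (hX : X ≤ (S : Subgroup G)) : (∀ z : G, z ≠ 1 → z ∈ X → (∀ x ∈ X, x * z = z * x) → Cfsg.generalizedFittingSubgroup ↥(Subgroup.centralizer ({z} : Set G)) = Cfsg.pCore p ↥(Subgroup.centralizer ({z} : Set G)) → Cfsg.generalizedFittingSubgroup ↥(Subgroup.normalizer (X : Set G)) = Cfsg.pCore p ↥(Subgroup.normalizer (X : Set G))) ∧ (Cfsg.IsOfParabolicCharacteristic p G ↔ ∀ z : G, z ≠ 1 → z ∈ Cfsg.omegaOne p ((S : Subgroup G) ⊓ Subgroup.centralizer ((S : Subgroup G) : Set G)) → Cfsg.generalizedFittingSubgroup ↥(Subgroup.centralizer ({z} : Set G)) = Cfsg.pCore p ↥(Subgroup.centralizer ({z} : Set G))) ∧ ((∀ z : G, z ∈ (S : Subgroup G) → orderOf z = p → Cfsg.generalizedFittingSubgroup ↥(Subgroup.centralizer ({z} : Set G)) = Cfsg.pCore p ↥(Subgroup.centralizer ({z} : Set G))) → Cfsg.IsOfLocalCharacteristic p G) := by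
  simp only [fstar_iff_chP]
  have hS := IsSylowIn.of_sylow_top S
  refine ⟨fun z _ a b c => chP_norm_of_cent1 (hS.pgroup.to_le hX) a (mem_cent.2 b) c,
    ⟨fun h z a b => (pc_iff.1 h).chP_cent1 hS a (mem_oz.1 b).1.1 (mem_oz.1 b).1.2,
      fun h => pc_of_cent1 hS fun z a b c d => h z a (mem_oz.2 ⟨⟨b, c⟩, d⟩)⟩, fun h => ⟨hdiv, fun T a b => ?_⟩⟩
  obtain ⟨g, e⟩ := exists_cj_le_sylow S a
  obtain ⟨z, c1, c2, c3, c4⟩ := exists_central_of_ne_bot (IsPGroup_cj a g) le_rfl le_normalizer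
    (by rwa [Ne, cj_eq_bot_iff])
  have := (chP_norm_of_cent1 (IsPGroup_cj a g) c1 c4 (h z (e c1) (orderOf_eq_prime c3 c2))).cj g⁻¹
  rw [cj_normalizer, cj_inv_cj] at this
  exact chP_iff.2 this


end Cfsg.Agent.S2896
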