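import Cfsg.Statements.S2898
import Cfsg.Agent.H2.SPE
import Cfsg.Agent.H2.Large

set_option autoImplicit false
open Cfsg

namespace Cfsg.Agent.S2898
open Subgroup CfsgH2
open scoped commutatorElement

open CfsgFT

/-- Let G be a finite group of even order with parabolic characteristic 2. If the centre of G ⧸ O(G) is trivial, then O(G) = 1. -/
theorem result {G : Type*} [Group G] [Finite G] (h2 : 2 ∣ Nat.card G) (hG : Cfsg.IsOfParabolicCharacteristic 2 G) [hN : (Cfsg.oddCore G).Normal] (hZ : Subgroup.center (G ⧸ Cfsg.oddCore G) = ⊥) : Cfsg.oddCore G = ⊥ := by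
  by_contra hne
  obtain ⟨S, hS⟩ := IsSylowIn.exists_sylowIn 2 (⊤ : Subgroup G)
  obtain ⟨K, hK⟩ : ∃ K, K = oddCore G := ⟨_, rfl⟩
  have hKn : ⊤ ≤ N(K) := hK ▸ by rw [normalizer_eq_top]
  have hK2 : IsPi {2}ᶜ K := hK ▸ isPi_compl_singleton_iff.2 (CfsgH1.not_dvd_card_pPrimeCore 2 G)
  have hKo : Odd (Nat.card K) := coprime_two_iff_odd.1 (isPi_compl_singleton_iff_coprime.1 hK2)
  have key : ∀ z, z ≠ 1 → z ∈ S → z ∈ C(S) → K ⊓ C1(z) = ⊥ := fun z a b c => by
    have h1 := (pc_iff.1 hG).chP_cent1 hS a b c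
    have h2 : K ⊓ C1(z) ≤ pCoreOf 2 C1(z) := h1.le_Op_of_cent inf_le_right (le_centralizer_of_normalize
      (inf_le_right.trans (le_norm_Op_self _))
      ((Op_le _).trans (le_normalizer_inf' (le_top.trans hKn) le_normalizer))
      (by rw [inf_comm]; exact (isPi_singleton_iff.2 (Op_pg _)).inf_eq_bot (hK2.mono inf_le_left)))
    exact (isPi_singleton_iff.2 ((Op_pg _).to_le h2)).eq_bot (hK2.mono inf_le_left)
  have h1 := hS.inf_of_normalizer' le_top (le_normalizer_centralizer' hKn)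
  have h3 : S ⊓ C(K) = ⊥ := by
    by_contra e
    obtain ⟨z, a, b, -, d⟩ := exists_central_of_ne_bot hS.pgroup inf_le_left
      (le_normalizer_inf' le_normalizer (le_top.trans (le_normalizer_centralizer' hKn))) e
    have := key z b (mem_inf.1 a).1 d
    rw [inf_eq_left.2 (le_cent1_iff.2 (mem_inf.1 a).2), hK] at this
    exact hne this
  haveI := normal_of_top_le (le_normalizer_centralizer' hKn)
  have h4 : C(K) ≤ K := hK ▸ CfsgH1.le_pPrimeCore ((Nat.Prime.coprime_iff_not_dvd Nat.prime_two).2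
    (hK ▸ h1.eq_bot_iff.1 h3)).symm
  obtain ⟨z, a, b, c, d⟩ := exists_central_of_ne_bot hS.pgroup le_rfl le_normalizer
    fun e => hS.eq_bot_iff.1 e (by rwa [Subgroup.card_top])
  have h5 : ∀ k ∈ K, z * k * z⁻¹ = k⁻¹ := fun k hk => inverts_of_fpf hKo (by rw [← pow_two, c]) (hKn (mem_top z))
    (fun k a' b' => mem_bot.1 (key z b a d ▸ mem_inf.2 ⟨a', mem_cent1'.2 b'⟩)) hk
  have h6 : QuotientGroup.mk' (oddCore G) z ∈ center (G ⧸ oddCore G) := mem_center_iff.2 fun y => by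
    obtain ⟨g, rfl⟩ := QuotientGroup.mk'_surjective _ y
    rw [← map_mul, ← map_mul, QuotientGroup.mk'_apply, QuotientGroup.mk'_apply, QuotientGroup.eq, ← hK]
    refine h4 (mem_cent.2 fun k hk => ?_)
    have e1 := h5 _ (conj_mem_of_mem_normalizer (hKn (mem_top g)) hk)
    calc k * ((g * z)⁻¹ * (z * g)) = z⁻¹ * (z * k * z⁻¹) * g⁻¹ * z * g := by group
      _ = z⁻¹ * g⁻¹ * (g * k * g⁻¹)⁻¹ * z * g := by rw [h5 k hk]; group
      _ = _ := by rw [← e1]; group
  rw [hZ, mem_bot, QuotientGroup.mk'_apply, QuotientGroup.eq_one_iff, ← hK] at h6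
  exact b (mem_bot.1 (key z b a d ▸ mem_inf.2 ⟨h6, self_mem_cent1 z⟩))


end Cfsg.Agent.S2898
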