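import Cfsg.Statements.S2905
import Cfsg.Agent.H2.PMin

set_option autoImplicit false
open Cfsg

namespace Cfsg.Agent.S2905
open Subgroup CfsgH2
open scoped commutatorElement

open CfsgFT

/-- Let P be a finite p-minimal group (a Sylow p-subgroup S is not normal and lies in a unique maximal subgroup M of P) and let F be the normal core of M. Then: every subnormal subgroup N of P contained in M satisfies N ∩ S ≤ O_p(P); if O^p(P) has a normal Sylow p-subgroup then the order of P has at most two prime divisors; every normal subgroup N of P either contains O^p(P) or is contained in F; and O^p(P)F ⧸ F is a minimal normal subgroup of P ⧸ F. -/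
theorem result {P : Type*} [Group P] [Finite P] {p : ℕ} [Fact p.Prime] (hP : Cfsg.IsPMinimal p P) (S : Sylow p P) (M : Subgroup P) (hM : IsCoatom M) (hSM : (S : Subgroup P) ≤ M) [hF : M.normalCore.Normal] : (∀ N : Subgroup P, N.IsSubnormal → N ≤ M → N ⊓ (S : Subgroup P) ≤ Cfsg.pCore p P) ∧ ((∀ T : Sylow p ↥(Cfsg.pResidual p P), (T : Subgroup ↥(Cfsg.pResidual p P)).Normal) → (Nat.card P).primeFactors.card ≤ 2) ∧ (∀ N : Subgroup P, N.Normal → Cfsg.pResidual p P ≤ N ∨ N ≤ M.normalCore) ∧ (∀ N : Subgroup P, N.Normal → M.normalCore ≤ N → N ≤ Cfsg.pResidual p P ⊔ M.normalCore → N = M.normalCore ∨ N = Cfsg.pResidual p P ⊔ M.normalCore) ∧ M.normalCore < Cfsg.pResidual p P ⊔ M.normalCore := by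
  obtain ⟨M', h⟩ := pmin_top (S := S) hP
  rw [← h.eq_of_coatom rfl hM hSM] at h
  have hS := S.isPGroup'
  have key : ∀ N : Subgroup P, N.Normal → pResidual p P ≤ N ∨ N ≤ M.normalCore := fun N _ => by
    by_cases e : N ≤ M
    · exact Or.inr (normal_le_normalCore.2 e)
    · exact Or.inl (resIn_top (G := P) (p := p) ▸ h.res_le hS le_top (by rw [normalizer_eq_top]) e)
  refine ⟨fun N h1 h2 => ?_, fun h1 => ?_, key, fun N h1 h2 h3 => ?_, right_lt_sup.2 fun e =>
    h.res_not_le hS (resIn_top (G := P) (p := p) ▸ e.trans (normalCore_le M))⟩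
  · obtain ⟨F, a, b, c⟩ := h.exists_normal h2 (CfsgLead.SN.top_iff.2 h1)
    exact (h.pcl hS b c _ (inf_le_left.trans a) (hS.to_le inf_le_right)).trans
      (Op_top (G := P) (p := p) ▸ Op_le_Op_of_normal le_top c)
  · obtain ⟨q, _, R, a, b, c⟩ := h.exists_two (IsSylowIn.of_sylow_top S) (resIn_top (G := P) (p := p) ▸ pcl_iff.1 h1)
    have h2 : IsPi {p, q} (⊤ : Subgroup P) := c ▸ IsPi.sup' (isPi_of_isPGroup hS (by simp))
      (IsPi.sup (isPi_of_isPGroup (Op_pg _) (by simp)) (isPi_of_isPGroup a (by simp))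
        (le_top.trans (le_norm_Op (le_normalizer_resIn ⊤)))) b
    refine le_trans (Finset.card_le_card (t := {p, q}) fun r hr => ?_) Finset.card_le_two
    simpa using h2 r (Nat.prime_of_mem_primeFactors hr) (Subgroup.card_top (G := P) ▸ Nat.dvd_of_mem_primeFactors hr)
  · exact (key N h1).symm.imp (fun e => le_antisymm e h2) fun e => le_antisymm h3 (sup_le e h2)


end Cfsg.Agent.S2905
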