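import Cfsg.Statements.S2906
import Cfsg.Agent.H2.PMin

set_option autoImplicit false
open Cfsg

namespace Cfsg.Agent.S2906
open Subgroup CfsgH2
open scoped commutatorElement

open CfsgFT CfsgLead

/-- Let P be a finite p-minimal group with O_p(P) = 1, S a Sylow p-subgroup of P and K a component of P. Then O^p(P) = F*(P) = E(P) is generated by the S-conjugates of K, and the subgroup K·N_S(K) is again p-minimal. -/
theorem result {P : Type*} [Group P] [Finite P] {p : ℕ} [Fact p.Prime] (hP : Cfsg.IsPMinimal p P) (hOp : Cfsg.pCore p P = ⊥) (S : Sylow p P) (K : Subgroup P) (hK : Cfsg.IsComponent K) : Cfsg.pResidual p P = Cfsg.generalizedFittingSubgroup P ∧ Cfsg.generalizedFittingSubgroup P = Cfsg.layer P ∧ Cfsg.layer P = ⨆ s : ↥(S : Subgroup P), K.map (MulAut.conj (s : P)).toMonoidHom ∧ Cfsg.IsPMinimal p ↥(K ⊔ ((S : Subgroup P) ⊓ Subgroup.normalizer (K : Set P))) := by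
  obtain ⟨M, h⟩ := pmin_top (S := S) hP
  have hS := IsSylowIn.of_sylow_top S
  have hO : pCoreOf p (⊤ : Subgroup P) = ⊥ := Op_top.trans hOp
  have hKs := SN.top_iff.2 hK.1
  have hKp := qs_perfect hK.2
  haveI := layer_normal P
  have hEn : ⊤ ≤ N(layer P) := by rw [normalizer_eq_top]
  have hEK : layer P ≤ N(K) := layerOf_top (G := P) ▸ layerOf_le_normalizer hKs
  have h1 : ¬ ncl ⊤ K ≤ M := fun e => qs_not_le_solvable hK.2
    (isSolvable_of_nilpotent (frattini_nilpotent (G := P))) ((le_ncl ⊤ K).trans (CfsgH1.le_frattini_iff.2 fun X hX =>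
      le_sup_left.trans ((hX.le_iff.1 le_sup_right).resolve_left
        (h.le_of_max hS.pgroup e (le_norm_ncl _ _) hX.1.lt_top (hO ▸ bot_le)).ne).le))
  have h2 := h.res_le hS.pgroup le_top (le_norm_ncl ⊤ K) h1
  have h3 : ncl ⊤ K ≤ layer P := ncl_le (le_layer hK) hEn
  have h4 : layer P ≤ resIn p ⊤ := by
    haveI := pResidual_normal p P
    have a := (isPGroup_quotient_pResidual p P).isNilpotent
    rw [resIn_top, ← CfsgH1.map_mk'_eq_bot_iff]
    refine eq_bot_of_perfect_of_solvable (by rw [← map_commutator, layer_perfect]) inferInstance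
  have e1 : resIn p ⊤ = layer P := le_antisymm (h2.trans h3) h4
  have e2 : generalizedFittingSubgroup P = layer P := le_antisymm (by
    refine sup_le ?_ ?_ <;> first | exact le_rfl | skip
    refine CfsgH1.fitting_le_pCore_sup_pPrimeCore p |>.trans (sup_le (hOp ▸ bot_le) fun x hx => e1 ▸
      mem_resIn_of_coprime (mem_top x) (Nat.Coprime.coprime_dvd_left (orderOf_dvd_natCard _ hx)
        (CfsgH1.coprime_card_pPrimeCore p P)))) layer_le_genFitting
  have hSE : (S : Subgroup P) ⊔ layer P = ⊤ := e1 ▸ hS.sup_resIn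
  have h5 : ∀ s, cj s K ≤ layer P ∧ layer P ≤ N(cj s K) := fun s =>
    ⟨cj_le_of_norm (hEn (mem_top s)) (le_layer hK), le_norm_cj_of_norm hEK (hEn (mem_top s))⟩
  have e3 : layer P = ncl S K := le_antisymm (h4.trans (h2.trans (ncl_le (le_ncl _ _) (hSE ▸ sup_le (le_norm_ncl _ _)
    (le_norm_sSup (by
      rintro a ha _ ⟨s, hs, rfl⟩
      exact ⟨s, hs, cj_eq_of_norm ((h5 s).2 ha)⟩)))))) (ncl_le (le_layer hK) (le_top.trans hEn))
  refine ⟨by rw [e2, ← e1, resIn_top], e2, by rw [iSup_cj_eq_ncl, e3], ?_⟩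
  obtain ⟨T, hT⟩ : ∃ T, T = (S : Subgroup P) ⊓ N(K) := ⟨_, rfl⟩
  rw [← hT]
  have hTK : T ≤ N(K) := hT ▸ inf_le_right
  have hTS : T ≤ S := hT ▸ inf_le_left
  have hSK := sylow_inf_sn hS hKs
  have h6 : (S : Subgroup P) ⊓ K ≤ T := hT ▸ inf_le_inf_left _ le_normalizer
  have h7 : IsSylowIn p T (K ⊔ T) := ⟨le_sup_right, hS.pgroup.to_le hTS,
    relIndex_sup_norm' hTK ▸ CfsgH1.not_dvd_relIndex_of_sylowIn_le hSK h6⟩
  have hKM : ¬ K ≤ M := fun e => h.not_le (hSE.ge.trans (sup_le h.le (e3 ▸ ncl_le_iff.2 fun s hs =>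
    cj_le_of_mem (h.le hs) e)))
  refine (pmin_iff h7).2 ⟨(K ⊔ T) ⊓ M, UM.ym ⟨le_inf le_sup_right (hTS.trans h.le),
    inf_lt_left.2 fun e => hKM (le_sup_left.trans e), fun X a b => le_inf b.le ?_⟩ h7 fun e => ?_⟩
  · have h8 := CfsgFT.inf_sup_right a hTK
    rw [inf_eq_left.2 b.le] at h8
    rw [h8]
    refine sup_le ?_ (hTS.trans h.le)
    by_contra hne
    have h9 := h.sup_eq le_top fun e : ncl S (X ⊓ K) ≤ M => hne ((le_ncl _ _).trans e)
    have h10 : K ≤ ncl S (X ⊓ K) := by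
      refine (le_layer hK).trans (h4.trans ?_)
      rw [← h9, resIn_sup_of_isPGroup hS.pgroup (le_norm_ncl _ _)]; exact resIn_le _
    have h11 : ncl (S : Subgroup P) (X ⊓ K) ≤ C(K) ⊔ (X ⊓ K) := ncl_le_iff.2 fun s hs => by
      rcases component_eq_or_commute (isComponent_map_equiv (MulAut.conj s) hK) hK with e | e
      · have hs' : s ∈ T := hT ▸ mem_inf.2 ⟨hs, mem_norm_iff_cj.2 e⟩
        exact (cj_le_of_norm (le_normalizer_inf' (le_norm_of_le a) hTK hs') le_rfl).trans le_sup_right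
      · exact (cj_mono s inf_le_right).trans ((cent_of_comm_eq_bot e).trans le_sup_left)
    have h12 := CfsgFT.inf_sup_right (inf_le_right : X ⊓ K ≤ K)
      (inf_le_right.trans (le_normalizer_centralizer' (le_normalizer (H := K))))
    rw [inf_eq_left.2 (h10.trans h11)] at h12
    have h13 : X ⊓ K = K := by
      rcases qs_normal hK.2 inf_le_right (h12.le.trans (sup_le (le_norm_of_cent (inf_le_right.trans
        (cent_anti inf_le_right))) le_normalizer)) with e | e
      · exact e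
      · refine absurd ?_ (qs_commutator_ne_bot hK.2)
        nth_rw 1 [h12]
        exact commutator_sup_left_eq_bot (comm_eq_bot inf_le_right) e
    exact b.not_ge (sup_le (h13.ge.trans inf_le_left) a)
  · have h8 : (S : Subgroup P) ⊓ K = ⊥ := by
      rw [← le_bot_iff, ← hO]
      refine le_Op_of_sn ((SN.of_normal inf_le_right ?_).trans hKs) hSK.pgroup
      rw [le_antisymm (le_inf h6 inf_le_right) (inf_le_inf_right K hTS)]
      exact le_normalizer_inf' (le_sup_left.trans e) le_normalizer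
    have h9 : IsPi {p}ᶜ K := isPi_compl_singleton_iff.2 (hSK.eq_bot_iff.1 h8)
    have h10 : IsPi {p}ᶜ (resIn p (⊤ : Subgroup P)) := (isPi_Opi _ ⊤).mono (h2.trans
      (ncl_le (le_Opi_of_sn hKs h9) (le_normalizer_Opi _ _)))
    obtain ⟨q, _, R, a, b, c⟩ := h.exists_two hS (pcl_of_not_dvd (isPi_compl_singleton_iff.1 h10))
    have h11 : pCoreOf p (resIn p (⊤ : Subgroup P)) = ⊥ :=
      le_bot_iff.1 (hO ▸ Op_le_Op_of_normal le_top (le_normalizer_resIn ⊤))
    rw [h11, bot_sup_eq] at b c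
    refine qs_not_le_solvable hK.2 (solvable_of_pgroup a) ((le_layer hK).trans (h4.trans ?_))
    rw [← c, resIn_sup_of_isPGroup hS.pgroup b]; exact resIn_le R


end Cfsg.Agent.S2906
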