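import Cfsg.Statements.S2907
import Cfsg.Agent.H2.Extra

set_option autoImplicit false
open Cfsg

namespace Cfsg.Agent.S2907
open Subgroup CfsgH2
open scoped commutatorElement

/-- Let X be a finite semi-extraspecial p-group and x an element of X outside the centre. Then the index of C_X(x) in X equals the order of Z(X), and the commutators [x, y], y ∈ X, form exactly the centre Z(X). -/
theorem result {X : Type*} [Group X] [Finite X] {p : ℕ} [Fact p.Prime] (hX : Cfsg.IsSemiExtraspecial p X) (x : X) (hx : x ∉ Subgroup.center X) : (Subgroup.centralizer ({x} : Set X)).index = Nat.card ↥(Subgroup.center X) ∧ {z : X | ∃ y : X, z = x * y * x⁻¹ * y⁻¹} = (Subgroup.center X : Set X) := by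
  obtain ⟨⟨hP, h1, h2⟩, hY⟩ := hX
  have hc : ∀ y, x * y * x⁻¹ * y⁻¹ ∈ center X := fun y =>
    h2 ▸ mul_mul_inv_mul_inv_mem_commutator (mem_top x) (mem_top y)
  let f : X →* X := MonoidHom.mk' (fun e => x * e * x⁻¹ * e⁻¹) fun a b => by
    have h1 := mem_center_iff.1 (hc b) a
    calc x * (a * b) * x⁻¹ * (a * b)⁻¹ = x * a * x⁻¹ * a⁻¹ * (a * (x * b * x⁻¹ * b⁻¹)) * a⁻¹ := by group
      _ = _ := by rw [h1]; group
  have hr : f.range = center X := by
    have hle : f.range ≤ center X := by rintro _ ⟨e, rfl⟩; exact hc e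
    by_contra hne
    obtain ⟨M, m1, m2, m3, -⟩ := exists_relIndex_prime (hP.to_subgroup _) (lt_of_le_of_ne hle hne)
    obtain ⟨hn, -, h3⟩ := hY M m2 (isCoatom_of_index_prime m3)
    have h4 : (center X).map (QuotientGroup.mk' M) = center (X ⧸ M) := by
      refine eq_of_le_of_card_le ?_ ?_
      · rintro _ ⟨z, hz, rfl⟩
        refine mem_center_iff.2 fun g => ?_
        obtain ⟨g, rfl⟩ := QuotientGroup.mk'_surjective M g
        rw [← map_mul, ← map_mul, mem_center_iff.1 hz g]
      · rw [h3, ← relIndex_ker, QuotientGroup.ker_mk', m3]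
    have h5 : QuotientGroup.mk' M x ∈ center (X ⧸ M) := mem_center_iff.2 fun g => by
      obtain ⟨g, rfl⟩ := QuotientGroup.mk'_surjective M g
      refine (commute_of_comm_eq_one ?_).symm
      rw [← map_inv, ← map_inv, ← map_mul, ← map_mul, ← map_mul]
      exact (QuotientGroup.eq_one_iff _).2 (m1 ⟨g, rfl⟩)
    rw [← h4, ← mem_comap, comap_map_eq, QuotientGroup.ker_mk', sup_eq_left.2 m2] at h5
    exact hx h5
  have hk : f.ker = centralizer {x} := by
    ext e
    rw [MonoidHom.mem_ker, mem_centralizer_singleton_iff']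
    exact ⟨fun h => (commute_of_comm_eq_one h).symm, fun h => comm_eq_one_of_commute h.symm⟩
  refine ⟨by rw [← hk, index_ker, hr], ?_⟩
  rw [← hr]
  ext z
  exact ⟨fun ⟨y, e⟩ => ⟨y, e.symm⟩, fun ⟨y, e⟩ => ⟨y, e.symm⟩⟩


end Cfsg.Agent.S2907
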