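import Cfsg.Statements.S2908
import Cfsg.Agent.H2.Coset

set_option autoImplicit false
open Cfsg

namespace Cfsg.Agent.S2908
open Subgroup CfsgH2
open scoped commutatorElement

open CfsgFT

/-- Let P be a p-subgroup of a finite group, normalized by a p-subgroup A and by a subgroup B of order prime to p that commutes elementwise with A. If [P, B] ≤ [P, A], then B centralizes P. -/
theorem result {G : Type*} [Group G] [Finite G] {p : ℕ} [Fact p.Prime] (P A B : Subgroup G) (hP : IsPGroup p ↥P) (hA : IsPGroup p ↥A) (hB : ¬ p ∣ Nat.card ↥B) (hnA : A ≤ Subgroup.normalizer (P : Set G)) (hnB : B ≤ Subgroup.normalizer (P : Set G)) (hAB : ⁅A, B⁆ = ⊥) (hcomm : ⁅P, B⁆ ≤ ⁅P, A⁆) : ⁅P, B⁆ = ⊥ := by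
  have hc : (Nat.card B).Coprime (Nat.card P) :=
    coprime_card_of_pgroup hP ((Nat.Prime.coprime_iff_not_dvd Fact.out).2 hB).symm
  have h1 := coprime_comm_comm hnB hc
  have hR : ⁅P, B⁆ ≤ P := comm_le_left hnB
  have hBA : B ≤ N(A) := le_norm_of_cent' (cent_of_comm_eq_bot hAB)
  have hAB' : A ≤ N(B) := le_norm_of_cent (cent_of_comm_eq_bot hAB)
  have n1 : P ≤ N(⁅P, B⁆) := normalizer_commutator_ge_left _ _
  have n2 : A ≤ N(⁅P, B⁆) := le_normalizer_commutator' hnA hAB'
  have n3 : B ≤ N(⁅P, B⁆) := normalizer_commutator_ge_right _ _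
  refine eq_bot_of_le_commutator (pg_sup hP hA hnA).isNilpotent (hR.trans le_sup_left) ?_
  refine h1.ge.trans ((commutator_mono hcomm le_rfl).trans (three_mod
    (le_sup_left.trans (normalizer_commutator_ge_right _ _)) (le_sup_right.trans (normalizer_commutator_ge_right _ _))
    (le_normalizer_commutator' n3 (le_normalizer_sup' hnB hBA)) ?_ ?_))
  · rw [hAB, commutator_bot_left]; exact bot_le
  · rw [Subgroup.commutator_comm B P]; exact commutator_mono le_rfl le_sup_right


end Cfsg.Agent.S2908
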