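import Cfsg.Statements.S2909
import Cfsg.Agent.H2.Coset
import Cfsg.Agent.S2908

set_option autoImplicit false
open Cfsg

namespace Cfsg.Agent.S2909
open Subgroup CfsgH2
open scoped commutatorElement

open CfsgFT

/-- Let p be a prime, E a normal p-subgroup of the finite group G, and U a non-cyclic elementary abelian p-subgroup of G such that either C_E(U) = C_E(u) for every nontrivial u ∈ U, or [E, U] = [E, ⟨u⟩] for every nontrivial u ∈ U. If R is a subgroup of order prime to p normalized by U, then [R, U] centralizes E. -/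
theorem result {G : Type*} [Group G] [Finite G] {p : ℕ} [Fact p.Prime] (E : Subgroup G) [E.Normal] (hE : IsPGroup p ↥E) (U : Subgroup G) (hU : Cfsg.IsElementaryAbelian p U) (hnc : ¬ IsCyclic ↥U) (hcond : (∀ u ∈ U, u ≠ 1 → E ⊓ Subgroup.centralizer (U : Set G) = E ⊓ Subgroup.centralizer ({u} : Set G)) ∨ (∀ u ∈ U, u ≠ 1 → ⁅E, U⁆ = ⁅E, Subgroup.zpowers u⁆)) (R : Subgroup G) (hR : ¬ p ∣ Nat.card ↥R) (hRU : U ≤ Subgroup.normalizer (R : Set G)) : ⁅R, U⁆ ≤ Subgroup.centralizer (E : Set G) := by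
  have hUp : IsPGroup p U := ea_isPGroup hU
  have hUc : U ≤ C(U) := comm_iff.1 hU.1
  haveI := hU.1
  have hcop : (Nat.card R).Coprime p := ((Nat.Prime.coprime_iff_not_dvd Fact.out).2 hR).symm
  have hE1 : ∀ X : Subgroup G, X ≤ N(E) := fun X => le_top.trans (by rw [normalizer_eq_top])
  have hE2 : ∀ X : Subgroup G, X ≤ N(C(E)) := fun X => le_normalizer_centralizer' (hE1 X)
  have key : ∀ u ∈ U, u ≠ 1 → ⁅R ⊓ C1(u), U⁆ ≤ C(E) := by
    intro u hu hu1
    have b1 : ⁅R ⊓ C1(u), U⁆ ≤ R ⊓ C1(u) := comm_le_left (le_normalizer_inf' hRU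
      (le_norm_of_le (le_cent1_iff.2 (hUc hu))))
    have b2 : (Nat.card (⁅R ⊓ C1(u), U⁆ : Subgroup G)).Coprime p :=
      Nat.Coprime.coprime_dvd_left (card_dvd_of_le (b1.trans inf_le_left)) hcop
    have b3 : zpowers u ≤ C(⁅R ⊓ C1(u), U⁆) := cent_symm (by rw [cent_zpowers]; exact b1.trans inf_le_right)
    have b4 : IsPGroup p (zpowers u) := hUp.to_le (zpowers_le.2 hu)
    have b5 : R ⊓ C1(u) ≤ N(zpowers u) := inf_le_right.trans (cent1_le_norm_zpowers u)
    rcases hcond with h | h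
    · refine CfsgH1.thompson_A_times_B b4 b2 hE b3 (hE1 _) (hE1 _) ?_
      rw [cent_zpowers, ← h u hu hu1]
      refine commutator_le_centralizer_of_centralizes ?_ (cent_symm inf_le_right) |> cent_symm
      rw [h u hu hu1]
      exact le_normalizer_inf' (hE1 _) (le_norm_of_le inf_le_right)
    · refine cent_symm (cent_of_comm_eq_bot (Cfsg.Agent.S2908.result E _ _ hE b4
        ((Nat.Prime.coprime_iff_not_dvd Fact.out).1 b2.symm) (hE1 _) (hE1 _) (comm_eq_bot b3) ?_))
      have c1 : R ⊓ C1(u) ≤ N(⁅E, zpowers u⁆) := le_normalizer_commutator' (hE1 _) b5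
      have c2 : U ≤ N(⁅E, zpowers u⁆) := h u hu hu1 ▸ normalizer_commutator_ge_right _ _
      rw [Subgroup.commutator_comm]
      refine three_mod c1 c2 (normalizer_commutator_ge_left _ _) ?_ ?_
      · rw [Subgroup.commutator_comm U E, h u hu hu1]; exact comm_le_left c1
      · exact (commutator_mono (comm_le_left (hE1 _)) le_rfl).trans (h u hu hu1).le
  refine CfsgH1.commutator_le_of_le_iSup (X := fun u : {u // u ∈ U ∧ u ≠ 1} => R ⊓ C1((u : G)))
    (CfsgH1.le_of_noncyclic hnc hRU (coprime_card_of_pgroup hUp hcop).symm fun a ha ha1 =>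
      le_iSup (fun u : {u // u ∈ U ∧ u ≠ 1} => R ⊓ C1((u : G))) ⟨a, ha, ha1⟩) (fun _ => hE2 _)
    fun u => key u u.2.1 u.2.2


end Cfsg.Agent.S2909
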