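import Cfsg.Statements.S2910
import Cfsg.Agent.H2.Coset

set_option autoImplicit false
open Cfsg

namespace Cfsg.Agent.S2910
open Subgroup CfsgH2
open scoped commutatorElement

open CfsgFT CfsgLead

/-- Let p be an odd prime dividing the order of the finite group G and P a Sylow p-subgroup of G. If Ω₁(P) (generated by the elements of order dividing p) is contained in the centre of G, then G has a normal p-complement. In particular, if G is quasisimple then Ω₁(P) is not central in G. -/
theorem result {G : Type*} [Group G] [Finite G] {p : ℕ} [Fact p.Prime] (hp : p ≠ 2) (hdiv : p ∣ Nat.card G) (P : Sylow p G) (hZ : Cfsg.omegaOne p (P : Subgroup G) ≤ Subgroup.center G) : Cfsg.HasNormalPComplement p G ∧ ¬ Cfsg.IsQuasisimple G := by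
  have h1 : HasNormalPComplement p G := frobenius_hasNPC' P fun Q hQ _ g hg ho =>
    zpowers_le.1 (le_centralizer_of_omegaOne' hp (coprime_zp ho) (P.2.to_le hQ) (zpowers_le.2 hg)
      (cent_symm ((omegaOne_mono hQ).trans (hZ.trans (center_le_centralizer _)))))
  refine ⟨h1, fun hq => ?_⟩
  have h2 := isPGroup_quotient_pResidual p G
  have h3 : pResidual p G = ⊤ := by
    by_contra e
    haveI := (QuotientGroup.nontrivial_iff.2 e)
    haveI := h2.isNilpotent
    have h4 := (isQuasisimple_iff.1 hq).1
    have h5 : _root_.commutator (G ⧸ pResidual p G) = ⊤ := by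
      rw [_root_.commutator_def, ← map_top_of_surjective _ (QuotientGroup.mk'_surjective (pResidual p G)),
        ← map_commutator, ← _root_.commutator_def, h4]
    exact (Group.IsSolvable.commutator_lt_top_of_nontrivial _).ne h5
  rw [hasNPC_iff, h3, Subgroup.card_top] at h1
  exact h1 hdiv


end Cfsg.Agent.S2910
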