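import Cfsg.Statements.S2911
import Cfsg.Agent.S2872

set_option autoImplicit false
open Cfsg

namespace Cfsg.Agent.S2911
open Subgroup CfsgH2
open scoped commutatorElement

open CfsgFT CfsgLead

theorem aut_sq (τ : MulAut (Multiplicative (ZMod 2) × DihedralGroup 4)) (w : Multiplicative (ZMod 2) × DihedralGroup 4)
    (hw : ∀ y, y * w = w * y) : τ (τ w) = w := by
  have k : ∀ w : Multiplicative (ZMod 2) × DihedralGroup 4, (∀ y, y * w = w * y) →
      w = 1 ∨ w = (1, DihedralGroup.r 2) ∨ w = (Multiplicative.ofAdd 1, 1) ∨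
        w = (Multiplicative.ofAdd 1, 1) * (1, DihedralGroup.r 2) := by decide
  have sq : ∀ x : Multiplicative (ZMod 2) × DihedralGroup 4, x * x = 1 ∨ x * x = (1, DihedralGroup.r 2) := by decide
  have c : τ (1, DihedralGroup.r 2) = (1, DihedralGroup.r 2) := by
    have e : ((1, DihedralGroup.r 2) : Multiplicative (ZMod 2) × DihedralGroup 4) =
      (1, DihedralGroup.r 1) * (1, DihedralGroup.r 1) := by decide
    refine (sq (τ (1, DihedralGroup.r 1))).elim (fun h => ?_) fun h => by rw [← map_mul, ← e] at h; exact h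
    rw [← map_mul, ← e, map_eq_one_iff _ τ.injective] at h
    exact absurd h (by decide)
  have a : τ (τ (Multiplicative.ofAdd 1, 1)) = (Multiplicative.ofAdd 1, 1) := by
    rcases k (τ (Multiplicative.ofAdd 1, 1)) (fun y => by
      obtain ⟨y, rfl⟩ := τ.surjective y
      rw [← map_mul, ← map_mul]; congr 1; revert y; decide) with h | h | h | h
    · rw [map_eq_one_iff _ τ.injective] at h; exact absurd h (by decide)
    · rw [← c, τ.injective.eq_iff] at h; exact absurd h (by decide)
    · rw [h, h]
    · rw [h, map_mul, h, c]; decide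
  rcases k w hw with rfl | rfl | rfl | rfl
  · simp
  · rw [c, c]
  · exact a
  · rw [map_mul, map_mul, a, c, c]

/-- A finite group whose Sylow 2-subgroups are isomorphic to the direct product of a group of order 2 and a dihedral group of order 8 has a subgroup of index two. -/
theorem result {G : Type*} [Group G] [Finite G] (S : Sylow 2 G) (hS : Nonempty (↥(S : Subgroup G) ≃* Multiplicative (ZMod 2) × DihedralGroup 4)) : ∃ H : Subgroup G, H.index = 2 := by
  obtain ⟨e⟩ := hS
  rcases Cfsg.Agent.S2872.result S with h | h | ⟨g, hg, z, hz, h⟩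
  · obtain ⟨M, hM, -⟩ := CfsgH1.exists_coatom_ge (H := (⊥ : Subgroup (G ⧸ pResidual 2 G))) fun e => h (by
      rw [← QuotientGroup.ker_mk' (pResidual 2 G), ← MonoidHom.comap_bot, e, comap_top])
    obtain ⟨h1, h2⟩ := coatom_normal_index (isPGroup_quotient_pResidual 2 G) hM
    exact ⟨M.comap (QuotientGroup.mk' _), by rw [index_comap_of_surjective _ (QuotientGroup.mk'_surjective _), h2]⟩
  · exfalso
    obtain ⟨a, ha⟩ := e.surjective (Multiplicative.ofAdd 1, 1)
    obtain ⟨b, hb, e'⟩ := h (mem_oz.2 ⟨⟨a.2, fun y hy => congrArg Subtype.val (e.injective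
      (a₁ := ⟨y, hy⟩ * a) (a₂ := a * ⟨y, hy⟩) (by
        rw [map_mul, map_mul, ha]; generalize e ⟨y, hy⟩ = w; revert w; decide))⟩,
      congrArg Subtype.val (e.injective (a₁ := a ^ 2) (a₂ := 1) (by rw [map_pow, map_one, ha]; decide))⟩)
    obtain rfl : b = a := Subtype.ext e'
    have := frattini_le_of (p := 2) (N := ((MonoidHom.fst _ _).comp e.toMonoidHom).ker)
      (Abelianization.commutator_subset_ker _) (fun x => by
        rw [MonoidHom.mem_ker, map_pow]; generalize ((MonoidHom.fst _ _).comp e.toMonoidHom) x = w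
        revert w; decide) hb
    rw [MonoidHom.mem_ker] at this
    change (e b).1 = 1 at this
    rw [ha] at this
    exact absurd this (by decide)
  · exfalso
    obtain ⟨⟨z1, z2⟩, -⟩ := mem_oz.1 hz
    have := aut_sq (MulAut.congr e (normalizerMonoidHom (S : Subgroup G) ⟨g, hg⟩)) (e ⟨z, z1⟩) fun y => by
      obtain ⟨y, rfl⟩ := e.surjective y
      rw [← map_mul, ← map_mul]; congr 1; exact Subtype.ext (z2 y y.2)
    simp only [MulAut.congr_apply, MulEquiv.trans_apply, MulEquiv.symm_apply_apply, e.injective.eq_iff] at this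
    have h2 : g * (g * z * g⁻¹) * g⁻¹ = z := congrArg Subtype.val this
    have h3 : g ^ 2 ∈ C1(z) := mem_cent1'.2 (by rw [sq]; calc
      _ = g * (g * z * g⁻¹) * g⁻¹ * (g * g) := by group
      _ = _ := by rw [h2])
    have h4 := mem_of_pow_mem_of_pow_mem ((Nat.Prime.coprime_iff_not_dvd Nat.prime_two).2
      ((IsSylowIn.of_sylow_top S).mono le_normalizer le_top).not_dvd) h3
      (le_cent1_iff.2 z2 (pow_relIndex_mem' le_rfl hg))
    exact h (by rw [mem_cent1'.1 h4, mul_inv_cancel_right])


end Cfsg.Agent.S2911
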