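import Cfsg.Statements.S2912
import Cfsg.Agent.H2.Mx1

set_option autoImplicit false
open Cfsg

namespace Cfsg.Agent.S2912
open Subgroup CfsgH2
open scoped commutatorElement

open CfsgFT CfsgH2 Subgroup

/-- Let p and r be distinct primes, let E be an extraspecial subgroup of order p^(2w+1) of a finite group, and let A be an elementary abelian r-subgroup normalized by E on which E acts faithfully (C_E(A) = 1). If n ≥ 1 is least with p dividing rⁿ − 1 (the smallest dimension of a faithful representation of a group of order p over the field with r elements), then the order of A is at least r^(n·p^w). -/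
theorem result {G : Type*} [Group G] [Finite G] {p r : ℕ} [Fact p.Prime] [hr : Fact r.Prime] (hpr : p ≠ r) (E A : Subgroup G) (w : ℕ) (hE : Cfsg.IsExtraspecial p ↥E) (hEcard : Nat.card ↥E = p ^ (2 * w + 1)) (hA : Cfsg.IsElementaryAbelian r A) (hnorm : E ≤ Subgroup.normalizer (A : Set G)) (hfaith : E ⊓ Subgroup.centralizer (A : Set G) = ⊥) (n : ℕ) (hn : 1 ≤ n) (hdiv : p ∣ r ^ n - 1) (hmin : ∀ k : ℕ, 1 ≤ k → p ∣ r ^ k - 1 → n ≤ k) : r ^ (n * p ^ w) ≤ Nat.card ↥A := by
  obtain ⟨z, h, ne⟩ := ES.of_isExtraspecial hE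
  have nc : ¬ A ≤ C1(z) := fun c => h.z_ne_one (hfaith.le ⟨h.mem, le_cent1_iff.1 c⟩)
  have cop : (Nat.card (zpowers z)).Coprime (Nat.card A) := IsPGroup.coprime_card_of_ne p r hpr _ _
    (h.isPGroup.to_le h.zle) (ea_pgroup hA)
  have l : ⁅A, zpowers z⁆ ≤ A := comm_le_left (h.zle.trans hnorm)
  refine (es_card_ge hpr hmin w E ⁅A, zpowers z⁆ h hEcard (CfsgH2.ea_mono hA l)
    (nK hnorm ((cent_symm h.zle_cent).trans (cent_le_norm _))) ?_ fun e => nc ?_).trans (card_le_of_le l)
  · rw [← cent_zpowers]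
    exact coprime_comm_inf_cent (ea_comm hA) (h.zle.trans hnorm) cop
  · rw [← cent_zpowers]
    exact cent_of_comm_eq_bot e


end Cfsg.Agent.S2912
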