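import Cfsg.Statements.S2925
import Cfsg.Agent.H2.Coset

set_option autoImplicit false
open Cfsg

namespace Cfsg.Agent.S2925
open Subgroup CfsgH2
open scoped commutatorElement

open CfsgFT CfsgLead

/-- Let K be a component of the finite group X and T a Sylow 2-subgroup of X. If some abelian normal subgroup Y of T does not normalize K, then K ⧸ Z(K) has abelian Sylow 2-subgroups. -/
theorem result {X : Type*} [Group X] [Finite X] (K : Subgroup X) (hK : Cfsg.IsComponent K) (T : Sylow 2 X) (Y : Subgroup X) (hYT : Y ≤ (T : Subgroup X)) (hYn : (Y.subgroupOf (T : Subgroup X)).Normal) (hYab : IsMulCommutative ↥Y) (hnot : ¬ Y ≤ Subgroup.normalizer (K : Set X)) (P : Sylow 2 (↥K ⧸ Subgroup.center ↥K)) : IsMulCommutative ↥(P : Subgroup (↥K ⧸ Subgroup.center ↥K)) := by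
  obtain ⟨y, hy, hyK⟩ := SetLike.not_le_iff_exists.1 hnot
  have hTY : (T : Subgroup X) ≤ N(Y) := le_norm_of_normal_subgroupOf hYT hYn
  have hc : ⁅K, cj y K⁆ = ⊥ := (component_eq_or_commute hK (isComponent_map_equiv (MulAut.conj y) hK)).resolve_left
    fun e => hyK (mem_norm_iff_cj.2 e.symm)
  have hS : IsSylowIn 2 ((T : Subgroup X) ⊓ K) K := sylow_inf_sn (IsSylowIn.of_sylow_top T) (SN.top_iff.2 hK.1)
  have key : ∀ s ∈ (T : Subgroup X) ⊓ K, ∀ t ∈ (T : Subgroup X) ⊓ K, ⁅s, t⁆ ∈ C(K) := by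
    intro s hs t ht
    have m : ∀ a ∈ (T : Subgroup X) ⊓ K, a * (y * a⁻¹ * y⁻¹) ∈ Y := fun a ha => by
      have := mul_mem (conj_mem_of_mem_normalizer (hTY ha.1) hy) (inv_mem hy)
      simpa [mul_assoc] using this
    have c : ∀ a ∈ K, ∀ b ∈ K, Commute a (y * b * y⁻¹) := fun a ha b hb =>
      (mem_cent.1 (cent_of_comm_eq_bot hc ha) _ (conj_mem_cj y hb)).symm
    have e1 : Commute (s * (y * s⁻¹ * y⁻¹)) (t * (y * t⁻¹ * y⁻¹)) :=
      mul_comm_of_isMulCommutative hYab (m s hs) (m t ht)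
    have e2 : s * t * (y * (s⁻¹ * t⁻¹) * y⁻¹) = t * s * (y * (t⁻¹ * s⁻¹) * y⁻¹) := by
      have a1 := (c t ht.2 s⁻¹ (inv_mem hs.2)).eq
      have a2 := (c s hs.2 t⁻¹ (inv_mem ht.2)).eq
      calc _ = s * (t * (y * s⁻¹ * y⁻¹)) * (y * t⁻¹ * y⁻¹) := by group
        _ = (s * (y * s⁻¹ * y⁻¹)) * (t * (y * t⁻¹ * y⁻¹)) := by rw [a1]; group
        _ = (t * (y * t⁻¹ * y⁻¹)) * (s * (y * s⁻¹ * y⁻¹)) := e1.eq
        _ = t * ((y * t⁻¹ * y⁻¹) * s) * (y * s⁻¹ * y⁻¹) := by group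
        _ = _ := by rw [← a2]; group
    have e3 : (t * s)⁻¹ * (s * t) = y * ((t⁻¹ * s⁻¹) * (s⁻¹ * t⁻¹)⁻¹) * y⁻¹ := by
      calc _ = (t * s)⁻¹ * (s * t * (y * (s⁻¹ * t⁻¹) * y⁻¹)) * (y * (s⁻¹ * t⁻¹) * y⁻¹)⁻¹ := by group
        _ = _ := by rw [e2]; group
    have e4 : (t * s)⁻¹ * (s * t) ∈ C(K) := by
      rw [e3]
      exact cent_symm (cent_of_comm_eq_bot hc) (conj_mem_cj y (mul_mem (mul_mem (inv_mem ht.2) (inv_mem hs.2))
        (inv_mem (mul_mem (inv_mem hs.2) (inv_mem ht.2)))))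
    have e5 := conj_mem_of_mem_normalizer (CfsgH2.normalizer_le_normalizer_centralizer K
      (le_normalizer (mul_mem ht.2 hs.2))) e4
    rwa [show t * s * ((t * s)⁻¹ * (s * t)) * (t * s)⁻¹ = ⁅s, t⁆ by rw [commutatorElement_def]; group] at e5
  have h1 := (IsSylowIn.of_sylow_top hS.toSylow).map (QuotientGroup.mk' (center K))
  rw [map_top_of_surjective _ (QuotientGroup.mk'_surjective _)] at h1
  obtain ⟨g, -, e⟩ := h1.exists_cj_eq (IsSylowIn.of_sylow_top P)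
  rw [comm_iff, ← e]
  refine cj_le_cent_cj (cent_of_comm_eq_bot ?_) g
  rw [← map_commutator, Subgroup.map_eq_bot_iff, QuotientGroup.ker_mk', commutator_le]
  intro a ha b hb
  exact mem_center_iff.2 fun z => Subtype.ext (mem_cent.1 (key _ ha _ hb) z z.2)


end Cfsg.Agent.S2925
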