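import Cfsg.Statements.S2928
import Cfsg.Agent.H3.Qa1

set_option autoImplicit false
open Cfsg

namespace Cfsg.Agent.S2928

open CfsgPm CfsgLead CfsgH2 Subgroup Equiv Equiv.Perm Finset
variable {Ω : Type*} [Fintype Ω] [DecidableEq Ω] (P : Sylow 2 (Perm Ω))

theorem dj {s t : Perm Ω} (hs : s ∈ Tr P.1) (ht : t ∈ Tr P.1) (n : s ≠ t) : s.Disjoint t := fun x => or_iff_not_imp_right.2 fun h => (tr_fix P.2 hs ht n h).1
theorem cm {s t : Perm Ω} (hs : s ∈ Tr P.1) (ht : t ∈ Tr P.1) : Commute s t := if h : s = t then h ▸ .refl s else (dj P hs ht h).commute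

theorem fin {L H : Subgroup (Perm Ω)} (hL : IsQuasisimple L) (hn : H ≤ normalizer (L : Set (Perm Ω))) (hP : P.1 ⊓ alternatingGroup Ω ≤ H)
    (k : 2 < Nat.card (Tr P.1)) : ¬ L ≤ normalizer (Tr P.1) := fun h => by
  have a : ∀ l ∈ L, l * l = 1 := fun l hl => (sq l).symm.trans (congrArg Subtype.val (ker_sq P (g := ⟨l, h hl⟩) (Perm.ext fun ⟨s, hs⟩ => Subtype.ext (by_contra fun q => by
    obtain ⟨x, hx⟩ := sw_mv hs.2
    obtain ⟨t, ht, f⟩ := ex_avoid P.2 (s := {x, l⁻¹ x}) (card_le_two.trans_lt k)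
    have := qs_cent hL (hn (hP ⟨mul_mem hs.1 ht.1, sw_mul hs.2 ht.2⟩)) (fun m hm => by
      rw [← conj_mul]; exact ((cm P hs ((h hm _).1 hs)).mul_right (cm P hs ((h hm _).1 ht))).mul_left ((cm P ht ((h hm _).1 hs)).mul_right (cm P ht ((h hm _).1 ht)))) hl
    have := congrArg (· (l⁻¹ x)) (mem_centralizer_singleton_iff.1 this)
    have e := (tr_fix P.2 ((h hl _).1 hs) hs q hx).1
    simp only [mem_insert, mem_singleton, forall_eq_or_imp, forall_eq, mul_apply] at f this e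
    simp only [f, e, show l (l⁻¹ x) = x by simp] at this
    exact hx this.symm))))
  exact qs_commutator_ne_bot hL (commutator_eq_bot_iff_le_centralizer.2 fun x hx y hy => by
    rw [← inv_eq_of_mul_eq_one_right (a _ (mul_mem hy hx)), mul_inv_rev, inv_eq_of_mul_eq_one_right (a x hx), inv_eq_of_mul_eq_one_right (a y hy)])

theorem nrm (k : 2 < Nat.card (Tr P.1)) {g : Perm Ω} (h : ∀ u ∈ Tr P.1, ∀ v ∈ Tr P.1, u ≠ v → ∀ x, u x ≠ x → (u * v) (g x) ≠ g x → (u * v) (g (u x)) ≠ g (u x)) :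
    g ∈ normalizer (Tr P.1) := mem_normalizer_fintype fun u hu => by
  replace h : ∀ v ∈ Tr P.1, u ≠ v → ∀ x, u x ≠ x → (u (g x) = g x → v (g x) ≠ g x) → u (g (u x)) = g (u x) → v (g (u x)) ≠ g (u x) := fun v hv n => by
    simpa only [Ne, (dj P hu hv n).mul_apply_eq_iff, not_and] using h u hu v hv n
  obtain ⟨x, hx, w, hw, m⟩ : ∃ x, u x ≠ x ∧ ∃ w ∈ Tr P.1, w (g x) ≠ g x := by
    obtain ⟨x, hx⟩ := sw_mv hu.2
    by_contra! c
    exact hx (g.injective (unc P (c _ (u.injective.ne hx)) (c x hx)))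
  have : w (g (u x)) ≠ g (u x) := fun q => by
    by_cases e : u = w
    · subst e
      obtain ⟨t, ht, f⟩ := ex_avoid P.2 (s := {x, g (u x)}) (card_le_two.trans_lt k)
      exact h t ht (fun e => hx (e ▸ f x (by simp))) x hx (fun a => (m a).elim) q (f _ (by simp))
    obtain ⟨t, ht, f⟩ := ex_avoid P.2 (s := {x, g x}) (card_le_two.trans_lt k)
    have := h t ht (fun e => hx (e ▸ f x (by simp))) _ (u.injective.ne hx) (fun a => (h w hw e x hx (fun _ => m) a q).elim)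
    rw [sw_sw hu.2] at this
    exact this (tr_fix P.2 hu hw e m).1 (f _ (by simp))
  rw [sw_eq hu.2 hx, ← swap_apply_apply]
  obtain ⟨a, b, n, rfl⟩ := hw.2
  have n := g.injective.ne hx
  obtain e | e := eq_or_eq_of_swap_apply_ne_self m <;> obtain f | f := eq_or_eq_of_swap_apply_ne_self this <;> simp_all [swap_comm b]

theorem exz (F : Finset (Perm Ω)) (h : ∀ u ∈ F, u ∈ Tr P.1) : ∃ z ∈ P.1, sign z = (-1) ^ #F ∧ (∀ u ∈ F, ∀ x, u x ≠ x → z x = u x) ∧ ∀ x, (∀ u ∈ F, u x = x) → z x = x := by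
  induction F using Finset.induction_on with
  | empty => exact ⟨1, one_mem _, by simp⟩
  | insert t F n ih =>
  rw [forall_mem_insert] at h
  obtain ⟨z, hz, s, a, b⟩ := ih h.2
  have d := fun u hu => @tr_fix _ _ _ _ P.2 _ _ h.1 (h.2 u hu) (ne_of_mem_of_not_mem hu n).symm
  refine ⟨t * z, mul_mem h.1.1 hz, by rw [map_mul, s, h.1.2.sign_eq, card_insert_of_notMem n, pow_succ'], ?_, fun x e => ?_⟩
  · rw [forall_mem_insert]
    exact ⟨fun x e => by rw [mul_apply, b x fun u hu => by_contra fun q => e (d u hu q).1], fun u hu x e => by rw [mul_apply, a u hu x e, (d u hu e).2]⟩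
  rw [forall_mem_insert] at e
  rw [mul_apply, b x e.2, e.1]

theorem no3 {L H : Subgroup (Perm Ω)} (hL : IsQuasisimple L) (lH : L ≤ H) (hn : H ≤ normalizer (L : Set (Perm Ω))) (hP : P.1 ⊓ alternatingGroup Ω ≤ H)
    (k : 4 ≤ Nat.card (Tr P.1)) : ∃ c ∈ H, c.IsThreeCycle := by_contra fun q => fin P hL hn hP (by omega) (by
  have D : ∀ h ∈ H, ∀ u ∈ Tr P.1, ∀ v ∈ Tr P.1, u ≠ v → h⁻¹ * (u * v) * h⁻¹⁻¹ ∈ H ∧ #(h⁻¹ * (u * v) * h⁻¹⁻¹).support = 4 := fun h hh u hu v hv n =>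
    ⟨mul_mem (mul_mem (inv_mem hh) (hP ⟨mul_mem hu.1 hv.1, sw_mul hu.2 hv.2⟩)) (by simpa),
      by rw [card_support_conj, (dj P hu hv n).card_support_mul, card_support_eq_two.2 hu.2, card_support_eq_two.2 hv.2]⟩
  have sp : ∀ d ∈ H, ∀ u ∈ Tr P.1, ∀ x, d x ≠ x → d (u x) = u x → ∀ v ∈ Tr P.1, ∃ y, d y ≠ y ∧ v y ≠ y := fun d hd u hu x hx e v hv => by
    have m : u x ≠ x := fun a => hx (a ▸ e)
    by_cases n : u = v
    · exact ⟨x, hx, n ▸ m⟩
    by_contra! c
    have hw := hP ⟨mul_mem hu.1 hv.1, sw_mul hu.2 hv.2⟩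
    refine q ⟨_, mul_mem (mul_mem (mul_mem hd hw) (inv_mem hd)) (inv_mem hw), three_of_meet hx (by simp [c x hx, m]) fun y a b => ?_⟩
    rw [mul_apply, c y a, sw_eq hu.2 m] at b
    exact (eq_or_eq_of_swap_apply_ne_self b).resolve_right fun r => a (r ▸ e)
  by_cases k4 : 4 < Nat.card (Tr P.1)
  · refine fun l hl => nrm P (by omega) fun u hu v hv n x _ a b => ?_
    obtain ⟨d1, d2⟩ := D l (lH hl) u hu v hv n
    obtain ⟨t, ht, f⟩ := ex_avoid P.2 (d2 ▸ k4)
    obtain ⟨y, a, b⟩ := sp _ d1 u hu x (by simpa [symm_apply_eq] using a) (by simpa [symm_apply_eq] using b) t ht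
    exact b (f y (mem_support.2 a))
  obtain ⟨z, hz, s, a, b⟩ := exz P (Set.toFinite (Tr P.1)).toFinset (by simp)
  simp only [Set.Finite.mem_toFinset] at a b
  rw [← Set.ncard_eq_toFinset_card, show (Tr P.1).ncard = 4 from le_antisymm (not_lt.1 k4) k] at s
  have zH := hP ⟨hz, s⟩
  have Z : ∀ d ∈ H, #d.support = 4 → ∀ y, d y ≠ y → d (z y) ≠ z y → ∀ x, d x ≠ x → d (z x) ≠ z x := fun d hd c y h1 h2 x hx e => by
    obtain ⟨u, hu, m⟩ : ∃ u ∈ Tr P.1, u x ≠ x := by by_contra! r; exact hx (b x r ▸ e)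
    obtain ⟨t, ht, f⟩ := ex_avoid P.2 (s := d.support.erase (z y)) (by rw [card_erase_of_mem (mem_support.2 h2)]; omega)
    obtain ⟨w, r, j⟩ := sp d hd u hu x hx (a u hu x m ▸ e) t ht
    obtain rfl : w = z y := by_contra fun n => j (f w (by simp [n, r]))
    by_cases c : ∀ v ∈ Tr P.1, v y = y
    · exact j (by rw [b y c, c t ht])
    push Not at c
    obtain ⟨v, hv, c⟩ := c
    rw [a v hv y c] at j f
    exact c (tr_eq P.2 ht hv j (v.injective.ne c) ▸ f y (by simp [c.symm, h1]))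
  have c := qs_cent hL (hn zH) fun l hl => by
    have w : l * z * l⁻¹ ∈ normalizer (Tr P.1) := nrm P (by omega) fun u hu v hv n x m r => by
      obtain ⟨d1, d2⟩ := D l (lH hl) u hu v hv n
      have j : ∀ y, u y ≠ y → (u * v) y ≠ y := fun y e => mt (dj P hu hv n).mul_apply_eq_iff.1 fun h => e h.1
      simpa [symm_apply_eq] using Z _ d1 d2 (l⁻¹ x) (by simpa using j x m) (by simpa [symm_apply_eq] using r) (l⁻¹ (u x)) (by simpa using j _ (u.injective.ne m))
    generalize l * z * l⁻¹ = g at w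
    refine Perm.ext fun x => ?_
    by_cases c : ∀ v ∈ Tr P.1, v x = x
    · simp [unc_n P w c, b x c]
    push Not at c
    obtain ⟨v, hv, c⟩ := c
    simp [a v hv x c, a _ ((w v).1 hv) (g x) (by simpa)]
  refine fun l hl => nrm P (by omega) fun u hu v hv n x m r => ?_
  rw [← a u hu x m, ← mul_apply l, mem_centralizer_singleton_iff.1 (c hl), mul_apply z]
  rw [Ne, (dj P hu hv n).mul_apply_eq_iff, not_and_or] at r ⊢
  exact r.imp (fun e => by rw [a u hu _ e]; exact u.injective.ne e) fun e => by rw [a v hv _ e]; exact v.injective.ne e)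

/-- Let n ≥ 8 and let H be a subgroup of the symmetric group of degree n whose generalized Fitting subgroup F*(H) is quasisimple. If H contains a Sylow 2-subgroup of the alternating group of degree n, then F*(H) is isomorphic to an alternating group of degree m for some m ∈ {n − 3, n − 2, n − 1, n}. -/
theorem result (n : ℕ) (hn : 8 ≤ n) (H : Subgroup (Equiv.Perm (Fin n))) (hF : Cfsg.IsQuasisimple ↥(Cfsg.generalizedFittingSubgroup ↥H)) (hS : ∃ P : Sylow 2 ↥(alternatingGroup (Fin n)), ((P : Subgroup ↥(alternatingGroup (Fin n))).map (alternatingGroup (Fin n)).subtype) ≤ H) : ∃ m : ℕ, (m = n - 3 ∨ m = n - 2 ∨ m = n - 1 ∨ m = n) ∧ Nonempty (↥(Cfsg.generalizedFittingSubgroup ↥H) ≃* ↥(alternatingGroup (Fin m))) := by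
  obtain ⟨Q, hQ⟩ := hS
  have S := IsSylowIn.of_sylow_map Q
  obtain ⟨P, hP⟩ := S.pgroup.exists_le_sylow
  have e := S.eq_of_le (P.2.to_le inf_le_left) (le_inf hP S.le) inf_le_right
  have hL := (isQuasisimple_map_of_injective H.subtype_injective).2 hF
  have N := le_normalizer.trans (normalizer_le_normalizer_fstarOf H)
  obtain ⟨c, hc, t⟩ := no3 P hL (fstarOf_le H) N (e.le.trans hQ) (by have := card_tr P; simp only [Fintype.card_fin] at this; omega)
  obtain ⟨m, a, b, ⟨e⟩⟩ := qs_main (k := 3) hL N (inf_centralizer_fstarOf_le H) hc t S hQ fun U h => by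
    obtain ⟨g, hg⟩ := (exists_with_cycleType_iff U (m := {2, 2})).2 (by simp; omega)
    exact ⟨ofSubtype g, by rw [mem_alternatingGroup, sign_ofSubtype, sign_of_cycleType, hg]; rfl, by rw [← lcm_cycleType, cycleType_ofSubtype, hg]; rfl,
      Perm.mem_range_ofSubtype_iff.1 ⟨g, rfl⟩⟩
  exact ⟨m, by simp at a b; omega, ⟨(equivMapOfInjective _ _ H.subtype_injective).trans e⟩⟩

end Cfsg.Agent.S2928
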