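import Cfsg.Statements.S2929
import Cfsg.Agent.H3.Qa1

set_option autoImplicit false
open Cfsg

namespace Cfsg.Agent.S2929

open CfsgPm CfsgLead CfsgH2 Subgroup Equiv Finset
theorem ex3 {Ω : Type*} [Fintype Ω] [DecidableEq Ω] (U : Finset Ω) (h : 2 < #U) : ∃ e : Perm Ω, e.IsThreeCycle ∧ e.support ⊆ U := by
  obtain ⟨a, b, c, ha, hb, hc, x, y, z⟩ := two_lt_card_iff.1 h
  refine ⟨_, Perm.isThreeCycle_swap_mul_swap_same x y z, (Perm.support_mul_le _ _).trans ?_⟩
  simp [Perm.support_swap, insert_subset_iff, *]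

/-- Let n ≥ 5 and let H be a subgroup of the symmetric group of degree n whose generalized Fitting subgroup F*(H) is quasisimple. If H contains a Sylow 3-subgroup of the symmetric group, then F*(H) is isomorphic to an alternating group of degree m for some m ∈ {n − 2, n − 1, n}. -/
theorem result (n : ℕ) (hn : 5 ≤ n) (H : Subgroup (Equiv.Perm (Fin n))) (hF : Cfsg.IsQuasisimple ↥(Cfsg.generalizedFittingSubgroup ↥H)) (hS : ∃ P : Sylow 3 (Equiv.Perm (Fin n)), (P : Subgroup (Equiv.Perm (Fin n))) ≤ H) : ∃ m : ℕ, (m = n - 2 ∨ m = n - 1 ∨ m = n) ∧ Nonempty (↥(Cfsg.generalizedFittingSubgroup ↥H) ≃* ↥(alternatingGroup (Fin m))) := by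
  obtain ⟨P, hP⟩ := hS
  obtain ⟨c, t, -⟩ := ex3 (univ : Finset (Fin n)) (by simp; omega)
  obtain ⟨g, hg⟩ := exists_conj_mem_sylow P (k := 1) t.orderOf
  obtain ⟨m, a, b, ⟨e⟩⟩ := qs_main (k := 2) ((isQuasisimple_map_of_injective H.subtype_injective).2 hF) (le_normalizer.trans (normalizer_le_normalizer_fstarOf H))
    (inf_centralizer_fstarOf_le H) (hP hg) (Perm.cycleType_conj.trans t) (.of_sylow_top P) hP fun U h => (ex3 U h).imp fun _ h => ⟨trivial, h.1.orderOf, h.2⟩
  exact ⟨m, by simp at a b; omega, ⟨(equivMapOfInjective _ _ H.subtype_injective).trans e⟩⟩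

end Cfsg.Agent.S2929
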