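import Cfsg.Statements.S2930
import Cfsg.Agent.H3.Sy3
import Cfsg.Agent.H3.An1
import Cfsg.Agent.H3.Ab1
import Cfsg.Agent.S2929

set_option autoImplicit false
open Cfsg

namespace Cfsg.Agent.S2930

open CfsgPm CfsgLead CfsgH2 Subgroup Equiv Equiv.Perm Finset MulAction
variable {Ω : Type} [Fintype Ω] [DecidableEq Ω]
instance : Fact (Nat.Prime 3) := ⟨Nat.prime_three⟩

theorem trip (P : Sylow 3 (Perm Ω)) (h : ∀ x, ∃ p ∈ P.1, p x ≠ x) : ∃ f : Ω → Finset Ω, (∀ x, #(f x) = 3) ∧ (∀ x y, f x = f y ↔ x ∈ f y) ∧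
    ∀ p ∈ P.1, ∀ x y, f (p x) = f (p y) ↔ f x = f y := by
  classical
  have a : ∀ x, ∃ c ∈ P.1, c.IsThreeCycle ∧ c x ≠ x := fun x => by
    by_contra! q
    let U := {x | ∀ c ∈ P.1, c.IsThreeCycle → c x = x}
    have hU : ∀ g ∈ P.1, ∀ x ∈ U, g x ∈ U := fun g hg x hx c hc t => by
      simpa [symm_apply_eq] using hx _ (mul_mem (mul_mem (inv_mem hg) hc) (inv_mem (inv_mem hg))) (cycleType_conj.trans t)
    have m : ∀ {g}, g ∈ fixingSubgroup (Perm Ω) Uᶜ ↔ ∀ z ∉ U, g z = z := mem_fixingSubgroup_iff _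
    have hn : (P : Subgroup (Perm Ω)) ≤ normalizer (fixingSubgroup (Perm Ω) Uᶜ) := le_normalizer_iff.2 fun g hg k hk => m.2 fun z hz => by
      rw [Perm.mul_apply, Perm.mul_apply, m.1 hk _ fun e => hz (by simpa using hU g hg _ e)]
      simp
    have S := ((IsSylowIn.of_sylow_top P).mono le_sup_left le_top).inf_of_normalizer' le_sup_right (sup_le hn le_normalizer)
    obtain ⟨j, hj⟩ := P.2.card_orbit x
    obtain ⟨p, hp, n⟩ := h x
    obtain ⟨e, t, s⟩ := S2929.ex3 U.toFinset (by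
      have := Set.ncard_le_ncard (show orbit P.1 x ⊆ U from fun _ ⟨g, e⟩ => e ▸ hU g g.2 x q)
      have r := (Set.one_lt_ncard (s := orbit P.1 x)).2 ⟨_, ⟨⟨p, hp⟩, rfl⟩, x, mem_orbit_self x, n⟩
      rw [Nat.card_coe_set_eq] at hj
      obtain _ | j := j
      · omega
      rw [← Set.ncard_eq_toFinset_card']; nlinarith [Nat.pow_pos (n := j) three_pos, pow_succ 3 j])
    obtain ⟨k, k1, k2⟩ := S.exists_cj_le (Q := zpowers e) (isPGroup_zpowers_of_orderOf (k := 1) t.orderOf)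
      (zpowers_le.2 (m.2 fun z hz => notMem_support.1 fun e => hz (by simpa using s e)))
    have := k2 (conj_mem_cj k (mem_zpowers _))
    have t := cycleType_conj (τ := k).trans t
    exact IsThreeCycle.ne_one t (Perm.ext fun z => if c : z ∈ U then c _ this.1 t else m.1 this.2 z c)
  have b : ∀ c ∈ P.1, ∀ d ∈ P.1, c.IsThreeCycle → d.IsThreeCycle → ∀ x, c x ≠ x → d x ≠ x → c.support = d.support := fun c hc d hd s t x u v => by
    obtain ⟨j, hj⟩ := (P.2.to_le (sup_le (zpowers_le.2 hc) (zpowers_le.2 hd))).card_orbit x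
    have e : orbit (zpowers c ⊔ zpowers d : Subgroup _) x = ↑(c.support ∪ d.support) := Set.Subset.antisymm (fun _ ⟨g, e⟩ => e ▸ by
      have : zpowers c ⊔ zpowers d ≤ RS fun y _ => y ∈ c.support ∪ d.support := sup_le (zpowers_le.2 fun y _ => by
        by_cases r : c y = y <;> simp [r]) (zpowers_le.2 fun y _ => by by_cases r : d y = y <;> simp [r])
      exact (this g.2 x x).2 (by simp [u])) fun y hy => (mem_union.1 hy).elim
      (fun r => let ⟨i, hi⟩ := s.isCycle.sameCycle u (mem_support.1 r); ⟨⟨_, mem_sup_left (zpow_mem_zpowers c i)⟩, hi⟩)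
      fun r => let ⟨i, hi⟩ := t.isCycle.sameCycle v (mem_support.1 r); ⟨⟨_, mem_sup_right (zpow_mem_zpowers d i)⟩, hi⟩
    rw [e, Nat.card_coe_set_eq, Set.ncard_coe_finset] at hj
    have := card_union_add_card_inter c.support d.support
    have := card_pos.2 ⟨x, mem_inter.2 ⟨mem_support.2 u, mem_support.2 v⟩⟩
    have := card_le_card (subset_union_left (s₁ := c.support) (s₂ := d.support))
    have s := s.card_support
    have t := t.card_support
    have : #(c.support ∪ d.support) = 3 := by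
      obtain _ | _ | j := j
      exacts [by omega, hj, by nlinarith [Nat.pow_pos (n := j) three_pos, pow_add 3 j 2]]
    exact (eq_of_subset_of_card_le subset_union_left (by omega)).trans (eq_of_subset_of_card_le subset_union_right (by omega)).symm
  choose c c1 c2 c3 using a
  have i : ∀ x y, (c x).support = (c y).support ↔ x ∈ (c y).support := fun x y =>
    ⟨fun e => e ▸ mem_support.2 (c3 x), fun e => b _ (c1 x) _ (c1 y) (c2 x) (c2 y) x (c3 x) (mem_support.1 e)⟩
  refine ⟨fun x => (c x).support, fun x => (c2 x).card_support, i, fun p hp x y => ?_⟩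
  rw [i, i, b _ (c1 _) _ (mul_mem (mul_mem hp (c1 y)) (inv_mem hp)) (c2 _) (cycleType_conj.trans (c2 y)) _ (c3 _) (by simpa using c3 y)]
  simp

theorem over3 (P : Sylow 3 (Perm Ω)) (h5 : 5 ≤ Fintype.card Ω) {J : Subgroup (Perm Ω)}
    (hJ : ∀ H, P.1 ≤ H → ¬ alternatingGroup Ω ≤ H → H ⊓ alternatingGroup Ω ≤ J) (n : ¬ alternatingGroup Ω ≤ J) :
    Fintype.card Ω = 6 ∨ Fintype.card Ω = 9 ∨ ∃ a, 2 ≤ a ∧ Fintype.card Ω = 3 ^ a + 1 := by
  classical
  let N := closure {g | g ∈ J ∧ IsThreeCycle g}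
  have R : ∀ {ι : Type} (f : Ω → ι), (∀ p ∈ P.1, ∀ x y, f (p x) = f (p y) ↔ f x = f y) → ∀ u v, f u ≠ f v → ∀ x y, x ≠ y → f x = f y →
      RS (fun x y => f x = f y) ⊓ alternatingGroup Ω ≤ J := fun f h u v q x y n e => hJ _ h fun k => by
    haveI := alternatingGroup.isMultiplyPretransitive Ω
    obtain ⟨g, g1, g2⟩ := is_two_pretransitive_iff.1 (isMultiplyPretransitive_of_le (G := alternatingGroup Ω) (n := Nat.card Ω - 2)
      (by rw [Nat.card_eq_fintype_card]; omega) (by omega)) n (mt (congrArg f) q)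
    exact q (g1 ▸ g2 ▸ (k g.2 x y).2 e)
  have K : ∀ {ι : Type} (f : Ω → ι), (∀ p ∈ P.1, ∀ x y, f (p x) = f (p y) ↔ f x = f y) → ∀ u v, f u ≠ f v → ∀ x, 2 < {y | f y = f x}.ncard →
      ∀ y, f y = f x → oq N y = oq N x := fun f h u v q x c y e => by
    by_cases n : x = y
    · rw [n]
    obtain ⟨z, hz, r⟩ := Set.exists_mem_notMem_of_ncard_lt_ncard (s := {y, x}) ((Set.ncard_pair (Ne.symm n)).trans_lt c)
    rw [Set.mem_insert_iff, Set.mem_singleton_iff, not_or] at r
    have t := isThreeCycle_swap_mul_swap_same (Ne.symm r.2) n r.1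
    have s : ∀ a b, f a = f b → ∀ w, f (swap a b w) = f w := fun a b e w => by rw [swap_apply_def]; split_ifs with k j <;> simp [*]
    exact oq_eq.2 ⟨_, subset_closure ⟨R f h u v q x y n e.symm ⟨fun a b => by simp only [Perm.mul_apply, s x z (Eq.symm hz), s x y e.symm], t.mem_alternatingGroup⟩, t⟩,
      by simp [swap_apply_of_ne_of_ne (Ne.symm n) (Ne.symm r.1)]⟩
  have nt : ∀ x, ¬ ∀ y, oq N y = oq N x := fun x h => by
    haveI : IsPretransitive N Ω := ⟨fun a b => let ⟨g, hg, e⟩ := oq_eq.1 ((h b).trans (h a).symm); ⟨⟨g, hg⟩, e⟩⟩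
    obtain ⟨y, hy⟩ := Fintype.exists_ne_of_one_lt_card (by omega) x
    obtain ⟨t, ht⟩ : {g | g ∈ J ∧ IsThreeCycle g}.Nonempty := Set.nonempty_iff_ne_empty.2 fun e => by
      obtain ⟨g, hg, rfl⟩ := oq_eq.1 (h y)
      simp only [N, e, Subgroup.closure_empty, mem_bot] at hg
      exact hy (hg ▸ rfl)
    exact n ((alt_le_of_gen (N := N) (closure_mono fun g h => ⟨subset_closure h, h.2⟩) (subset_closure ht) ht.2).trans ((closure_le J).2 fun g h => h.1))
  have O : ∀ a b, oq P.1 a ≠ oq P.1 b → ∀ x, 2 < {y | oq P.1 y = oq P.1 a ↔ oq P.1 x = oq P.1 a}.ncard → ∀ y, (oq P.1 y = oq P.1 a ↔ oq P.1 x = oq P.1 a) → oq N y = oq N x :=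
    fun a b q x c y e => K (oq P.1 · = oq P.1 a) (fun p hp x y => by simp only [oq_ap hp]) a b (by simpa using q.symm) x (by simpa using c) y (by simpa using e)
  have pw : ∀ a, ∃ k, {y | oq P.1 y = oq P.1 a}.ncard = 3 ^ k := fun a => (P.2.card_orbit a).imp fun k h => by
    rw [← h]; exact congrArg _ (Set.ext fun y => Quotient.eq)
  have two : ∀ a b c, oq P.1 a ≠ oq P.1 b → oq P.1 c ≠ oq P.1 a → oq P.1 c = oq P.1 b := by
    have t : ∀ a b c, oq P.1 a ≠ oq P.1 b → oq P.1 c ≠ oq P.1 a → oq P.1 c ≠ oq P.1 b → {y | oq P.1 y ≠ oq P.1 a}.ncard ≤ 2 ∨ {y | oq P.1 y ≠ oq P.1 b}.ncard ≤ 2 :=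
      fun a b c x y z => by
        by_contra! q
        exact nt c fun w => if e : oq P.1 w = oq P.1 a then O b a x.symm c (by simpa [z] using q.2) w (by simp [e, x, z]) else O a b x c (by simpa [y] using q.1) w (by simp [e, y])
    have s : ∀ a b, oq P.1 a ≠ oq P.1 b → {y | oq P.1 y ≠ oq P.1 a}.ncard ≤ 2 → ¬ {y | oq P.1 y ≠ oq P.1 b}.ncard ≤ 2 := fun a b x y z => by
      have := Set.ncard_union_le {y | oq P.1 y ≠ oq P.1 a} {y | oq P.1 y ≠ oq P.1 b}
      rw [Set.eq_univ_of_forall (s := _ ∪ _) fun w => by by_contra! r; simp at r; exact x (r.1.symm.trans r.2), Set.ncard_univ, Nat.card_eq_fintype_card] at this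
      omega
    intro a b c x y
    by_contra z
    have := t a b c x y z; have := t b c a (Ne.symm z) x y.symm; have := t c a b y (Ne.symm z) x.symm
    have := s a b x; have := s b c (Ne.symm z); have := s c a y
    tauto
  have cd : ∀ a b, oq P.1 a ≠ oq P.1 b → Fintype.card Ω = {y | oq P.1 y = oq P.1 a}.ncard + {y | oq P.1 y = oq P.1 b}.ncard := fun a b x => by
    rw [← Nat.card_eq_fintype_card, ← Set.ncard_add_ncard_compl {y | oq P.1 y = oq P.1 a}]
    exact congrArg (_ + Set.ncard ·) (Set.ext fun y => ⟨two a b y x, fun h e => x (e.symm.trans h)⟩)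
  by_cases h : ∀ x, ∃ p ∈ P.1, p x ≠ x
  swap
  · push Not at h
    obtain ⟨u, hu⟩ := h
    obtain ⟨x, hx⟩ := Fintype.exists_ne_of_one_lt_card (by omega) u
    have e : {y | oq P.1 y = oq P.1 u} = {u} := Set.ext fun y => oq_eq.trans ⟨fun ⟨p, hp, e⟩ => e.symm.trans (hu p hp), fun e => ⟨1, one_mem _, e.symm⟩⟩
    obtain ⟨k, hk⟩ := pw x
    have := cd x u fun q => hx (e.le q)
    rw [e, hk, Set.ncard_singleton] at this
    exact .inr (.inr ⟨k, by_contra fun q => by have := Nat.pow_le_pow_right three_pos (show k ≤ 1 by omega); omega, this⟩)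
  obtain ⟨f, f3, fm, fp⟩ := trip P h
  have fc : ∀ x, {y | f y = f x}.ncard = 3 := fun x => by simp only [fm]; exact (Set.ncard_coe_finset _).trans (f3 x)
  have W : ∀ x y, oq N y = oq N x → f y = f x := fun x y e => by_contra fun q => nt x fun z => by
    have T := fun w => K f fp y x q w (by simp [fc])
    by_cases c : f z = f x
    · exact T x z c
    let E := fun i => (Finite.card_eq.1 (show Nat.card {w // swap (f y) (f z) (f w) = i} = Nat.card {w // f w = i} by
      simp only [swap_apply_eq_iff]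
      rw [swap_apply_def]
      split_ifs with a b
      exacts [a ▸ (fc z).trans (fc y).symm, b ▸ (fc y).trans (fc z).symm, rfl])).some
    obtain ⟨v, hv, r⟩ := Set.exists_ne_of_one_lt_ncard (s := {w | f w = f x}) (by simp [fc]) x
    obtain ⟨g, g1, g2⟩ : ∃ g ∈ alternatingGroup Ω, ∀ w, f (g w) = swap (f y) (f z) (f w) := by
      by_cases k : ofFiberEquiv E ∈ alternatingGroup Ω
      · exact ⟨_, k, ofFiberEquiv_map E⟩
      refine ⟨ofFiberEquiv E * swap v x, ?_, fun w => (ofFiberEquiv_map E _).trans (congrArg _ ?_)⟩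
      · rw [mem_alternatingGroup] at k ⊢
        rw [map_mul, sign_swap r, (Int.units_eq_one_or _).resolve_left k]; rfl
      rw [swap_apply_def]; split_ifs with a b
      exacts [a ▸ Eq.symm hv, b ▸ hv, rfl]
    have gJ := R f fp y x q v x r hv ⟨fun a b => by simp only [g2, EmbeddingLike.apply_eq_iff_eq], g1⟩
    obtain ⟨u, hu, rfl⟩ := oq_eq.1 e
    exact (T _ z (by rw [g2, swap_apply_left])).trans ((oq_eq.2 ⟨_, normal_three J gJ hu, by simp⟩ : _ = oq N (g x)).trans
      (T x _ (by rw [g2, swap_apply_of_ne_of_ne (Ne.symm q) (Ne.symm c)])))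
  have B : ∀ {ι : Type} (g : Ω → ι), (∀ p ∈ P.1, ∀ x y, g (p x) = g (p y) ↔ g x = g y) → ∀ u v, g u ≠ g v → ∀ x, {y | g y = g x}.ncard ≤ 3 := fun g a u v b x =>
    not_lt.1 fun c => c.not_ge (fc x ▸ Set.ncard_le_ncard fun y e => W x y (K g a u v b x (by omega) y e))
  obtain ⟨x⟩ : Nonempty Ω := Fintype.card_pos_iff.1 (by omega)
  by_cases t : ∀ y, oq P.1 y = oq P.1 x
  swap
  · push Not at t
    obtain ⟨y, t⟩ := t
    have : ∀ a, {y | oq P.1 y = oq P.1 a}.ncard ≤ 3 := B (oq P.1) (fun p hp x y => by simp only [oq_ap hp]) y x t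
    have k : ∀ a, {y | oq P.1 y = oq P.1 a}.ncard = 3 := fun a => by
      obtain ⟨p, hp, n⟩ := h a
      have := (Set.one_lt_ncard (s := {y | oq P.1 y = oq P.1 a})).2 ⟨_, oq_ap hp a, a, rfl, n⟩
      obtain ⟨_ | _ | j, hj⟩ := pw a
      exacts [by omega, hj, by nlinarith [Nat.pow_pos (n := j) three_pos, pow_add 3 j 2, ‹∀ a, _ ≤ 3› a]]
    exact .inl (by rw [cd y x t, k, k])
  obtain ⟨k, hk⟩ := pw x
  rw [Set.eq_univ_of_forall (s := {y | oq P.1 y = oq P.1 x}) t, Set.ncard_univ, Nat.card_eq_fintype_card] at hk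
  by_cases k3 : k < 3
  · interval_cases k <;> omega
  haveI : IsPretransitive P.1 Ω := ⟨fun a b => let ⟨g, hg, e⟩ := oq_eq.1 ((t b).trans (t a).symm); ⟨⟨g, hg⟩, e⟩⟩
  obtain ⟨j, hj⟩ := IsPGroup.iff_card.1 (P.2.to_subgroup (stabilizer P.1 x))
  have c := (stabilizer P.1 x).card_mul_index
  rw [index_stabilizer_of_transitive, Nat.card_eq_fintype_card (α := Ω), hk, hj, ← pow_add] at c
  obtain ⟨Q, q1, q2⟩ := Sylow.exists_subgroup_card_pow_prime_le 3 (m := j + 2) (c ▸ pow_dvd_pow _ (by omega)) _ hj (by omega)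
  choose s hs using exists_smul_eq P.1 x
  have m : ∀ p : P.1, (s (p • x) : P.1 ⧸ Q) = p := fun p => QuotientGroup.eq.2 (q2 (by rw [mem_stabilizer_iff, mul_smul, inv_smul_eq_iff, hs]))
  have a : ∀ (p : P.1) y, (s (p • y) : P.1 ⧸ Q) = p • (s y : P.1 ⧸ Q) := fun p y => by rw [← hs y, smul_smul, m, m]; rfl
  obtain ⟨p, hp⟩ : ∃ p, p ∉ Q := by
    by_contra! r
    rw [(eq_top_iff' Q).2 r, card_top, ← c, Nat.pow_right_inj (by decide)] at q1; omega
  have := B (fun y => (s y : P.1 ⧸ Q)) (fun p hp y z => by rw [show p y = (⟨p, hp⟩ : P.1) • y from rfl, show p z = (⟨p, hp⟩ : P.1) • z from rfl, a, a, smul_left_cancel_iff])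
    ((1 : P.1) • x) (p • x) (by rw [m, m, Ne, QuotientGroup.eq]; simpa) ((1 : P.1) • x)
  rw [show {y | (s y : P.1 ⧸ Q) = s ((1 : P.1) • x)} = orbit Q x from Set.ext fun y => ⟨fun e => ⟨⟨s y, by simpa [QuotientGroup.eq] using e.trans (m 1)⟩, hs y⟩,
    fun ⟨g, e⟩ => e ▸ ((m g.1).trans ((QuotientGroup.eq.2 (by simpa using g.2)).trans (m 1).symm) : (s (g • x) : P.1 ⧸ Q) = _)⟩, ncard_orbit_sub] at this
  have := card_mul_relIndex q2
  rw [hj, q1, pow_add] at this
  nlinarith [Nat.pow_pos (n := j) three_pos]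

/-- Let X be a finite 3-minimal group (a Sylow 3-subgroup is not normal and lies in a unique maximal subgroup) whose generalized Fitting subgroup is isomorphic to an alternating group of degree n ≥ 5. Then X = F*(X), and n = 6, n = 9, or n = 3ᵃ + 1 for some a ≥ 2. -/
theorem result {X : Type*} [Group X] [Finite X] (hX : Cfsg.IsPMinimal 3 X) (n : ℕ) (hn : 5 ≤ n) (hF : Nonempty (↥(Cfsg.generalizedFittingSubgroup X) ≃* ↥(alternatingGroup (Fin n)))) : Cfsg.generalizedFittingSubgroup X = ⊤ ∧ (n = 6 ∨ n = 9 ∨ ∃ a : ℕ, 2 ≤ a ∧ n = 3 ^ a + 1) := by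
  obtain ⟨e⟩ := hF
  haveI := genFitting_normal X
  obtain ⟨S⟩ : Nonempty (Sylow 3 X) := inferInstance
  obtain ⟨nn, M, h1, h2⟩ := hX S
  have a : S.1 ≤ generalizedFittingSubgroup X := fun x hx => by
    obtain ⟨k, hk⟩ := exists_orderOf_eq_pow S.2 hx
    have o : Odd (orderOf (MulAut.congr e (MulAut.conjNormal x))) := (hk ▸ Odd.pow (by decide) : Odd (orderOf x)).of_dvd_nat (by rw [MulEquiv.orderOf_eq]; exact orderOf_map_dvd _ _)
    obtain ⟨σ, hσ⟩ := odd_aut hn _ o
    obtain ⟨m, hm⟩ := exists_pow_eq_self_of_coprime (x := MulAut.congr e (MulAut.conjNormal x)) (Nat.coprime_two_left.2 o)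
    rw [← hσ, ← map_pow, ← map_pow, hσ] at hm
    let y := e.symm ⟨(σ ^ 2) ^ m, pow_mem (by simp [mem_alternatingGroup]) m⟩
    refine (mul_mem_cancel_left (inv_mem y.2)).1 (centralizer_genFitting_le X fun g hg => ?_)
    have : y * ⟨g, hg⟩ * y⁻¹ = MulAut.conjNormal x ⟨g, hg⟩ := e.injective (by
      simp only [map_mul, map_inv, y, MulEquiv.apply_symm_apply]
      exact (Subtype.ext rfl).trans ((DFunLike.congr_fun hm (e ⟨g, hg⟩)).trans (by simp [MulAut.congr])))
    have : y * g * (y : X)⁻¹ = x * g * x⁻¹ := congrArg Subtype.val this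
    show g * ((y : X)⁻¹ * x) = (y : X)⁻¹ * x * g
    rw [show g * ((y : X)⁻¹ * x) = (y : X)⁻¹ * (y * g * (y : X)⁻¹) * x by group, this]; group
  have m : ∀ H, H ≠ ⊤ → S.1 ≤ H → H ≤ M := fun H a b => by
    obtain ⟨L, l1, l2⟩ := (eq_top_or_exists_le_coatom _).resolve_left a
    exact h2 L ⟨l1, b.trans l2⟩ ▸ l2
  have t : generalizedFittingSubgroup X = ⊤ := by_contra fun q => h1.1.1 (top_le_iff.1 ((S.normalizer_sup_eq_top' a).ge.trans
    (sup_le (m _ (mt normalizer_eq_top_iff.1 nn) le_normalizer) (m _ q a))))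
  refine ⟨t, ?_⟩
  let i : X ≃* alternatingGroup (Fin n) := (topEquiv.symm.trans (.subgroupCongr t.symm)).trans e
  let f := (alternatingGroup _).subtype.comp i.toMonoidHom
  have r : (⊤ : Subgroup X).map f = alternatingGroup _ := by rw [← Subgroup.map_map, map_top_of_surjective _ i.surjective, ← MonoidHom.range_eq_map, range_subtype]
  haveI : Nontrivial (Fin n) := Fin.nontrivial_iff_two_le.2 (by omega)
  obtain ⟨P, hP⟩ := (((IsSylowIn.of_sylow_top S).map f).trans_of_not_dvd le_top (by rw [r, relIndex_top_right, alternatingGroup.index_eq_two]; decide)).of_top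
  simpa using over3 P (by simpa) (J := M.map f) (fun H a b g hg => by
    obtain ⟨x, -, rfl⟩ := r.ge hg.2
    exact ⟨x, m (H.comap f) (fun k => b (r.ge.trans (map_le_iff_le_comap.2 k.ge))) (map_le_iff_le_comap.1 (hP ▸ a)) hg.1, rfl⟩)
    fun k => h1.1.1 (map_injective (Subtype.val_injective.comp i.injective) (le_antisymm (map_mono le_top) (r.le.trans k)))

end Cfsg.Agent.S2930
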