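import Cfsg.Statements.S2931
import Cfsg.Agent.H3.U42
import Cfsg.Agent.S0288

set_option autoImplicit false
open Cfsg

namespace Cfsg.Agent.S2931

open CfsgPm.U42 CfsgH5 CfsgH7 Matrix

/-- The Sylow 2-subgroups of the alternating group of degree 8 and of PSp₄(3) are isomorphic, and so are the Sylow 2-subgroups of the symmetric group of degree 8 and of the full isometry group of a non-degenerate quadratic form of minus type in dimension 6 over the field with 2 elements. -/
theorem result (F : Type) [Field F] [Fintype F] (hF : Fintype.card F = 3) (K : Type) [Field K] [Fintype K] (hK : Fintype.card K = 2) (a b : K) (hab : ∀ z₁ z₂ : K, z₁ ^ 2 + a * z₁ * z₂ + b * z₂ ^ 2 = 0 → z₁ = 0 ∧ z₂ = 0) (P : Sylow 2 ↥(alternatingGroup (Fin 8))) (Q : Sylow 2 (Cfsg.PSp 2 F)) (P' : Sylow 2 (Equiv.Perm (Fin 8))) (Q' : Sylow 2 ↥(Cfsg.isometryGroup K (Cfsg.quadFormMinus 2 K a b))) : Nonempty (↥(P : Subgroup ↥(alternatingGroup (Fin 8))) ≃* ↥(Q : Subgroup (Cfsg.PSp 2 F))) ∧ Nonempty (↥(P' : Subgroup (Equiv.Perm (Fin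 8))) ≃* ↥(Q' : Subgroup ↥(Cfsg.isometryGroup K (Cfsg.quadFormMinus 2 K a b)))) := by
  obtain ⟨e⟩ := iso hF
  obtain ⟨f, hf⟩ := hom1
  obtain ⟨g, hg⟩ := hom2
  haveI := packU.finite
  haveI : Finite (PSp 2 F) := Finite.of_equiv _ e.toEquiv
  let r := FiniteField.ringEquivOfCardEq ((ZMod.card 2).trans hK.symm)
  have c : ∀ x : K, x ≠ 0 → x = 1 := fun x h => by simpa [hK] using FiniteField.pow_card_sub_one_eq_one x h
  obtain rfl := c b fun h => by simpa [h] using hab 0 1
  obtain rfl := c a fun h => by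
    have : (1 + 1 : K) = 0 := by simpa [hK, one_add_one_eq_two] using FiniteField.cast_card_eq_zero K
    simpa [h, this] using hab 1 1
  have q : ∀ u, quadFormMinus 2 K 1 1 (r ∘ u) = r (quadFormMinus 2 (ZMod 2) 1 1 u) := fun u => by
    simp only [quadFormMinus, map_add, map_mul, map_sum, map_pow, map_one, Function.comp]
  let j : isometryGroup (ZMod 2) (quadFormMinus 2 (ZMod 2) 1 1) →* isometryGroup K (quadFormMinus 2 K 1 1) :=
    ((GeneralLinearGroup.map r.toRingHom).comp (Subgroup.subtype _)).codRestrict _ fun A u _ => by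
      obtain ⟨u, rfl⟩ : ∃ w, r ∘ w = u := ⟨r.symm ∘ u, by ext; simp⟩
      refine .trans ?_ ((q _).trans ((congrArg r (A.2 u u)).trans (q u).symm))
      exact congrArg _ (funext fun i => (RingHom.map_mulVec r.toRingHom A.1.1 u i).symm)
  have hj : Function.Injective j := fun A B h => Subtype.ext (Units.ext (Matrix.ext fun i k =>
    r.injective (congrArg (fun x => x.1.1 i k) h)))
  exact ⟨⟨(syl P (Subgroup.inclusion le1) (Subgroup.inclusion_injective _) (N := 20160) (by rw [nat_card_alternatingGroup]; simp; rfl)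
      pk1.card (by decide +kernel)).some.trans (syl Q (e.toMonoidHom.comp f) (e.injective.comp hf)
        ((Nat.card_congr e.toEquiv).symm.trans packU.card) pk1.card (by decide +kernel)).some.symm⟩,
    ⟨(syl P' (Subgroup.subtype _) Subtype.val_injective (N := 40320) (by rw [Nat.card_perm, Nat.card_fin]; decide +kernel) pk2.card (by decide +kernel)).some.trans
      (syl Q' (j.comp g) (hj.comp hg) (N := 51840) ((S0288.result hK 3 (by norm_num) 1 1 hab).trans (by decide)) pk2.card
        (by decide +kernel)).some.symm⟩⟩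

end Cfsg.Agent.S2931
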