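import Cfsg.Statements.S2939
import Cfsg.Agent.H2.SylCtl

set_option autoImplicit false
open Cfsg

namespace Cfsg.Agent.S2939
open Subgroup CfsgH2
open scoped commutatorElement

open CfsgFT

/-- Let p be a prime dividing the order of the finite group G and 𝓕 a family of subgroups of G closed under conjugation, with conjugates taken as X^g = g⁻¹Xg. Then 𝓕 controls Sylow p-intersections in G (any two distinct Sylow p-subgroups S and T with S ∩ T ≠ 1 are joined by a chain S = S₀, S₁, …, Sₙ = T of Sylow p-subgroups where, for each i, some member Xᵢ of 𝓕 meets both S_{i-1} and Sᵢ in Sylow p-subgroups of Xᵢ, satisfies S ∩ T ≤ Sᵢ ∩ Xᵢ, and contains an element xᵢ with Sᵢ^{xᵢ} = S_{i-1}) if and only if 𝓕 strongly controls p-fusion in G (whenever A is a subset of a Sylow p-subgroup S, A contains an element other than 1, and A^g ⊆ S, the element g factorises as g = y₁⋯yₙy with y ∈ N_G(S) and each yᵢ in a member Yᵢ of 𝓕 that meets S in a Sylow p-subgroup of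 Yᵢ, with A^{y₁⋯yᵢ} ⊆ S ∩ Yᵢ for each i). -/
theorem result {G : Type*} [Group G] [Finite G] {p : ℕ} [Fact p.Prime] (hdiv : p ∣ Nat.card G) (𝓕 : Set (Subgroup G)) (h𝓕 : Cfsg.IsNormalSet 𝓕) : Cfsg.ControlsSylowIntersections p 𝓕 ↔ Cfsg.FamilyStronglyControlsFusion p 𝓕 := by
  rw [ctl_top_iff]
  constructor
  · intro h S A g hA ⟨a, a1, a2⟩ hg
    have hS := IsSylowIn.of_sylow_top S
    have d : ∀ x ∈ A, x ∈ (S : Subgroup G) ⊓ cj g S := fun x hx => ⟨hA hx, mem_cj.2 (hg ⟨x, hx, rfl⟩)⟩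
    have ch := h _ _ hS (hS.cj_of_mem_normalizer (le_normalizer (mem_top g))) fun e => a2 (mem_bot.1 (e ▸ d a a1))
    generalize (S : Subgroup G) ⊓ cj g S = D at ch d
    have k : ∀ P, Ch p 𝓕 D S P → ∃ h, cj h S = P ∧ Relation.ReflTransGen (fun h h' : G =>
        ∃ Y ∈ sylowMembers p 𝓕 (S : Subgroup G), h⁻¹ * h' ∈ Y ∧ cj h'⁻¹ D ≤ (S : Subgroup G) ⊓ Y) 1 h := fun P c => by
      induction c with
      | refl => exact ⟨1, cj_one _, .refl⟩
      | tail _ s ih =>
        obtain ⟨h, rfl, a⟩ := ih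
        obtain ⟨-, -, f, X, b, c, f', x, d, rfl⟩ := s
        have e := c.cj h⁻¹
        rw [cj_inf, cj_inv_cj] at e
        refine ⟨x * h, (cj_cj _ _ _).symm, a.tail ⟨_, mem_sylowMembers.2 ⟨cj_mem_of_normalSet h𝓕 b _, e⟩,
          mem_cj.2 (by simpa using d), ?_⟩⟩
        rw [cj_le_iff_le_cj_inv, inv_inv, cj_inf, ← cj_cj, ← cj_cj, cj_cj_inv, cj_eq_of_mem d]
        exact le_inf f f'
    obtain ⟨h, h1, h2⟩ := k _ ch
    obtain ⟨n, c, c1, c2, c3⟩ := exists_chain h2
    choose Y y1 y2 y3 using c3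
    have e := Fin.partialProd_left_inv c
    rw [c1, one_smul] at e
    refine ⟨n, Y, fun i => (c i.castSucc)⁻¹ * c i.succ, h⁻¹ * g, ?_, fun i => ⟨y1 i, y2 i⟩, ?_, fun i => ?_⟩
    · rw [← cj_eq_iff_mem_normalizer, ← cj_cj, ← h1, cj_inv_cj]
    · have := congrFun e (Fin.last n)
      rw [Fin.partialProd, List.take_of_length_le (by simp), c2] at this
      rw [this, mul_inv_cancel_left]
    · have := congrFun e i.succ
      rw [Fin.partialProd, Fin.val_succ] at this
      rw [this]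
      rintro _ ⟨x, hx, rfl⟩
      exact y3 i (x := (c i.succ)⁻¹ * x * c i.succ) (mem_cj.2 (by simpa [mul_assoc] using d x hx))
  · intro h S T hS hT hne
    obtain ⟨g, -, rfl⟩ := hS.exists_cj_eq hT
    obtain ⟨S, rfl⟩ := hS.of_top
    obtain ⟨n, Y, y, z, h1, h2, h3, h4⟩ := h S ((S : Subgroup G) ⊓ cj g S : Subgroup G) g (fun x hx => hx.1)
      (by obtain ⟨x, a⟩ := ne_bot_iff_exists_ne_one.1 hne; exact ⟨x, x.2, fun e => a (Subtype.ext e)⟩)
      (by rintro _ ⟨x, hx, rfl⟩; exact mem_cj.1 hx.2)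
    have d : (S : Subgroup G) ⊓ cj g S ≤ S := inf_le_left
    generalize (S : Subgroup G) ⊓ cj g S = D at *
    have := Ch.of_fin (p := p) (𝓕 := 𝓕) (D := D) (fun i => cj (Fin.partialProd y i) S) (by simpa [cj_one] using d)
      fun i hi => by
        obtain ⟨a, b⟩ := h2 i
        rw [mem_sylowMembers] at a
        have c : D ≤ cj (Fin.partialProd y i.succ) ((S : Subgroup G) ⊓ Y i) := fun x hx => mem_cj.2 (h4 i ⟨x, hx, rfl⟩)
        rw [cj_inf] at c
        have e := a.2.cj (Fin.partialProd y i.castSucc)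
        rw [cj_inf] at e
        refine ⟨IsPGroup_cj S.2 _, hi, c.trans inf_le_left, _, cj_mem_of_normalSet h𝓕 a.1 _, e, ?_, _,
          conj_mem_cj _ b, by rw [cj_cj, Fin.partialProd_succ, inv_mul_cancel_right]⟩
        have := c.trans inf_le_right
        rwa [Fin.partialProd_succ, ← cj_cj, cj_eq_of_mem b] at this
    rw [Fin.partialProd_zero, cj_one, Fin.partialProd, List.take_of_length_le (by simp)] at this
    rwa [h3, ← cj_cj, cj_eq_iff_mem_normalizer.2 h1]


end Cfsg.Agent.S2939
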