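import Cfsg.Statements.S2941
import Cfsg.Agent.H1.PG3

set_option autoImplicit false
open Cfsg

namespace Cfsg.Agent.S2941

/-- Let G be a finite group of characteristic 2 type in which every 2-local subgroup is solvable and the centralizer of Ω₁(Z(S)) lies in N_G(S) for every Sylow 2-subgroup S, and let T be a nontrivial 2-subgroup and K a J(T)-component (J the Thompson subgroup generated by the elementary abelian 2-subgroups of largest order). If a subgroup Q is normalized by ⟨K, J(T)⟩ and normalizes J(T), then Q normalizes K. -/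
theorem result {G : Type*} [Group G] [Finite G] (hL : Cfsg.IsCharacteristicTwoType G) (hN : ∀ N : Subgroup G, Cfsg.IsTwoLocal N → Group.IsSolvable ↥N)
    (hZ : ∀ S : Sylow 2 G, Subgroup.centralizer (Cfsg.omegaCenterOf (S : Subgroup G) : Set G) ≤ Subgroup.normalizer ((S : Subgroup G) : Set G)) (T : Subgroup G) (hT : IsPGroup 2 ↥T) (hT1 : T ≠ ⊥) (K : Subgroup G) (hK : Cfsg.IsJComponent T K)
    (Q : Subgroup G) (hQ1 : K ⊔ Cfsg.thompsonSubgroupOf 2 T ≤ Subgroup.normalizer (Q : Set G)) (hQ2 : Q ≤ Subgroup.normalizer (Cfsg.thompsonSubgroupOf 2 T : Set G)) :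
    Q ≤ Subgroup.normalizer (K : Set G) := by
  open Subgroup CfsgH1 CfsgFT CfsgH2 in
  obtain ⟨h1, h2, -⟩ := hK
  have hJ : IsPGroup 2 (thompsonSubgroupOf 2 T) := hT.to_le (map_subtype_le _)
  set J := thompsonSubgroupOf 2 T
  have n1 : J ≤ N(K) := h2 ▸ normalizer_commutator_ge_right K J
  intro q hq
  have n2 : cj q (K ⊔ J) ≤ K ⊔ J := by
    rw [cj_le_iff_le_cj_inv]
    have a : ∀ r ∈ Q, ∀ j ∈ J, r * j * r⁻¹ ∈ K ⊔ J := fun r hr j hj =>
      mem_sup_right (CfsgH1.conj_mem_of_mem_normalizer (hQ2 hr) hj)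
    refine sup_le (h2.ge.trans (commutator_le.2 fun k hk j hj => mem_cj.2 ?_)) fun j hj => mem_cj.2 (by simpa using a q hq j hj)
    have := mul_mem (mul_mem (mul_mem (mem_sup_left hk) (a _ (inv_conj_mem_of_mem_normalizer (hQ1 (mem_sup_left hk)) hq) j hj))
      (inv_mem (mem_sup_left hk))) (a q hq _ (inv_mem hj))
    convert this using 1
    rw [commutatorElement_def]; group
  refine mem_normalizer_of_cj_le ?_
  rw [cj_le_iff_le_cj_inv]
  refine h1.ge.trans ((closure_le _).2 fun g hg => mem_cj.2 ?_)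
  rw [inv_inv]
  haveI := normal_subgroupOf_sup_left n1
  refine mem_of_coprime_orderOf_index (N := K.subgroupOf (K ⊔ J)) (x := ⟨_, n2 (conj_mem_cj q (mem_sup_left hg.1))⟩) ?_
  obtain ⟨k, hk⟩ := hJ.index (K.subgroupOf J)
  rw [← Subgroup.orderOf_coe, orderOf_conj', show (K.subgroupOf (K ⊔ J)).index = 2 ^ k from
    (relIndex_sup_of_normalizer n1).trans hk]
  exact (Nat.coprime_two_right.2 hg.2).pow_right _

end Cfsg.Agent.S2941
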