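import Cfsg.Statements.S2947
import Cfsg.Agent.H4.Coh
import Cfsg.Agent.H2.SPE

set_option autoImplicit false
open Cfsg

namespace Cfsg.Agent.S2947

open CfsgH4 CfsgH3

/-- Let G be a finite group of characteristic 2 type in which every 2-local subgroup is solvable and the centralizer of Ω₁(Z(S)) lies in N_G(S) for every Sylow 2-subgroup S; suppose O₂(G) = 1, fix a Sylow 2-subgroup S and a 2-local subgroup M containing N_G(J(S)) (J the Thompson subgroup generated by the elementary abelian 2-subgroups of largest order). Then M is strongly embedded in G (a proper subgroup of even order whose intersection with each conjugate by an element outside M has odd order) if and only if no nontrivial 2-subgroup of M lies in a 2-local subgroup of G not contained in M. -/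
theorem result {G : Type*} [Group G] [Finite G] (hL : Cfsg.IsCharacteristicTwoType G) (hN : ∀ N : Subgroup G, Cfsg.IsTwoLocal N → Group.IsSolvable ↥N)
    (hZ : ∀ S : Sylow 2 G, Subgroup.centralizer (Cfsg.omegaCenterOf (S : Subgroup G) : Set G) ≤ Subgroup.normalizer ((S : Subgroup G) : Set G)) (hO : Cfsg.pCore 2 G = ⊥) (S : Sylow 2 G) (M : Subgroup G) (hM : Cfsg.IsTwoLocal M)
    (hMJ : Subgroup.normalizer (Cfsg.thompsonSubgroupOf 2 (S : Subgroup G) : Set G) ≤ M) :
    Cfsg.IsStronglyEmbedded M ↔ Cfsg.straddlingTwoSubgroups M = ∅ := by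
  have := Fact.mk Nat.prime_two
  constructor
  · intro h
    obtain ⟨a, b, c⟩ := CfsgH2.se_iff.1 h
    have hS : CfsgH2.SPE 2 M := ⟨a, b.two_dvd, c⟩
    refine Set.eq_empty_of_forall_notMem ?_
    rintro T ⟨t1, t2, t3, L, ⟨U, u1, u2, rfl⟩, l1, l2⟩
    have hp : IsPGroup 2 (T ⊔ U : Subgroup G) := t1.to_sup_of_normal_right' u1 l1
    obtain ⟨t, ht, o⟩ := CfsgH2.exists_orderOf_p t1 t2
    have : Nontrivial (T ⊔ U : Subgroup G) := (Subgroup.nontrivial_iff_ne_bot _).2 fun e =>
      t2 (le_bot_iff.1 (e ▸ le_sup_left))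
    obtain ⟨z, hz, oz⟩ := CfsgH2.exists_orderOf_p (hp.to_subgroup (Subgroup.center _))
      ((Subgroup.nontrivial_iff_ne_bot _).1 hp.center_nontrivial)
    rw [← Subgroup.orderOf_coe] at oz
    have k : ∀ x ∈ T ⊔ U, x * z = z * x := fun x hx =>
      congrArg Subtype.val (Subgroup.mem_center_iff.1 hz ⟨x, hx⟩)
    have hzM : (z : G) ∈ M := hS.cent1_le o (t3 ht)
      (Subgroup.mem_centralizer_singleton_iff.2 (k t (Subgroup.mem_sup_left ht)).symm)
    exact l2 (hS.norm_le' u1 u2 fun x hx => hS.cent1_le oz hzM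
      (Subgroup.mem_centralizer_singleton_iff.2 (k x (Subgroup.mem_sup_right hx))))
  · intro h
    obtain ⟨T, t1, t2, e⟩ := hM
    have hT : T ≤ M := e ▸ Subgroup.le_normalizer
    obtain ⟨R, a, b⟩ := CfsgH2.IsSylowIn.exists_le t1 hT
    have := CfsgH2.spe_of_norm (H := M) (fun e' => t2 (le_bot_iff.1 (hO ▸ le_sSup
      ⟨Subgroup.normalizer_eq_top_iff.1 (e ▸ e'), t1⟩))) a (fun e' => t2 (le_bot_iff.1 (e' ▸ b))) fun Q h1 h2 =>
      by_contra fun hn => (h.le ⟨a.pgroup.to_le h1, h2, h1.trans a.le, _, ⟨Q, a.pgroup.to_le h1, h2, rfl⟩,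
        Subgroup.le_normalizer, hn⟩ : Q ∈ (∅ : Set _))
    exact CfsgH2.se_iff.2 ⟨this.ne, even_iff_two_dvd.2 this.dvd, this.mem⟩

end Cfsg.Agent.S2947
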