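import Cfsg.Statements.S2955
import Cfsg.Agent.H2.SylCtl

set_option autoImplicit false
open Cfsg

namespace Cfsg.Agent.S2955
open Subgroup CfsgH2
open scoped commutatorElement

open CfsgFT

/-- Let p be a prime dividing the order of the finite group G and 𝓕 a conjugation-closed family of subgroups that controls Sylow p-intersections in G. Suppose the Sylow p-subgroups of G are chain-connected: any two of them are joined by a chain of Sylow p-subgroups, consecutive ones distinct with nontrivial intersection, all containing the intersection of the two ends (equivalently, the graph on the Sylow p-subgroups whose edges are the distinct pairs meeting nontrivially is connected). Then for every Sylow p-subgroup S, G is generated by N_G(S) together with the members of 𝓕 that meet S in a Sylow p-subgroup of themselves. -/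
theorem result {G : Type*} [Group G] [Finite G] (p : ℕ) [Fact p.Prime] (hdiv : p ∣ Nat.card G)
    (𝓕 : Set (Subgroup G)) (h𝓕 : Cfsg.IsNormalSet 𝓕) (hc : Cfsg.ControlsSylowIntersections p 𝓕)
    (hconn : Cfsg.IsSylowChainConnected p G) (S : Sylow p G) :
    (⨆ X ∈ Cfsg.sylowMembers p 𝓕 (S : Subgroup G), X) ⊔ Subgroup.normalizer ((S : Subgroup G) : Set G) = ⊤ := by
  rw [ctl_top_iff] at hc
  obtain ⟨H, hH⟩ : ∃ H, H = (⨆ X ∈ sylowMembers p 𝓕 (S : Subgroup G), X) ⊔ N(S) := ⟨_, rfl⟩
  rw [← hH]
  have k : ∀ D P P', Ch p 𝓕 D P P' → (∃ h ∈ H, cj h S = P) → ∃ h ∈ H, cj h S = P' := fun D P P' c h => by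
    induction c with
    | refl => exact h
    | tail _ s ih =>
      obtain ⟨h, a, rfl⟩ := ih
      obtain ⟨-, -, -, X, b, c, -, x, d, rfl⟩ := s
      have e := c.cj h⁻¹
      rw [cj_inf, cj_inv_cj] at e
      have : cj h⁻¹ X ≤ H := hH ▸ le_sup_of_le_left (le_iSup₂_of_le (f := fun X _ => X) _
        (mem_sylowMembers.2 ⟨cj_mem_of_normalSet h𝓕 b _, e⟩) le_rfl)
      rw [cj_le_iff_le_cj_inv, inv_inv, cj_eq_of_mem a] at this
      exact ⟨x * h, H.mul_mem (this d) a, (cj_cj _ _ _).symm⟩
  refine top_le_iff.1 fun g _ => ?_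
  obtain ⟨n, c, h1, h2, -, h3⟩ := hconn S (g • S)
  have l : ∀ j, ∃ h ∈ H, cj h S = c j := fun j => by
    induction j using Fin.induction with
    | zero => exact ⟨1, H.one_mem, by rw [cj_one, h1]⟩
    | succ i ih => exact k _ _ _ (hc _ _ (.of_sylow_top _) (.of_sylow_top _) (h3 i).2) ih
  obtain ⟨h, a, b⟩ := l (Fin.last n)
  rw [h2, sylow_smul_coe, cj_eq_iff_eq_cj_inv, cj_cj, eq_comm, cj_eq_iff_mem_normalizer] at b
  exact (H.mul_mem_cancel_left (H.inv_mem a)).1 (hH ▸ mem_sup_right b)


end Cfsg.Agent.S2955
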