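import Cfsg.Statements.S2956
import Cfsg.Agent.H2.SylCtl

set_option autoImplicit false
open Cfsg

namespace Cfsg.Agent.S2956
open Subgroup CfsgH2
open scoped commutatorElement

open CfsgFT

/-- Let p be a prime dividing the order of the finite group G, and f an assignment to every p-subgroup P of a set f(P) of subgroups of P, each normalized by N_G(P), compatible with conjugation, such that for P ≠ 1 the members of f(P) are nontrivial. Let 𝓕 be the family of the normalizers N_G(F) of the members F of f(S) over the Sylow p-subgroups S of G, and 𝓕' the family of the maximal p-local subgroups M of G that are singular for f (the corresponding family of normalizers inside M does not control Sylow p-intersections in M). Then 𝓕 ∪ 𝓕' controls Sylow p-intersections in G. -/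
theorem result {G : Type*} [Group G] [Finite G] (p : ℕ) [Fact p.Prime] (hdiv : p ∣ Nat.card G)
    (f : Subgroup G → Set (Subgroup G)) (hf : Cfsg.IsNormalizerFunctor p f)
    (hf1 : ∀ P : Subgroup G, IsPGroup p ↥P → P ≠ ⊥ → ∀ F ∈ f P, F ≠ ⊥)
    (𝓕 𝓕' : Set (Subgroup G)) (h𝓕 : 𝓕 = Cfsg.functorFamily p f ⊤)
    (h𝓕' : 𝓕' = {M | Cfsg.IsMaximalPLocal p M ∧ ¬ Cfsg.IsFunctorRegular p f M}) :
    Cfsg.ControlsSylowIntersections p (𝓕 ∪ 𝓕') := by
  rw [ctl_top_iff]
  suffices ∀ D S T : Subgroup G, IsSylowIn p S ⊤ → IsSylowIn p T ⊤ → D ≠ ⊥ → S ⊓ T = D → Ch p (𝓕 ∪ 𝓕') D S T from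
    fun S T a b c => this _ S T a b c rfl
  refine subgroup_induction_down fun D ih S T hS hT hD e => ?_
  have big : ∀ A S T : Subgroup G, IsSylowIn p S ⊤ → IsSylowIn p T ⊤ → D < A → A ≤ S → A ≤ T →
      Ch p (𝓕 ∪ 𝓕') D S T := fun A S T a b c d f => by
    have := c.trans_le (le_inf d f)
    exact (ih _ (card_lt_of_lt this) S T a b (ne_bot_of_gt this) rfl).mono le_rfl this.le
  have key : ∀ Q M : Subgroup G, IsMaximalPLocal p M → IsSylowIn p Q M → ∀ A B S T : Subgroup G, IsSylowIn p S ⊤ →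
      IsSylowIn p T ⊤ → D < A → D < B → A ≤ M → B ≤ M → A ≤ S → B ≤ T → Ch p (𝓕 ∪ 𝓕') D S T := by
    refine subgroup_induction_down fun Q ih2 M hM hQ A B S T hS hT a1 b1 a2 b2 a3 b3 => ?_
    obtain ⟨A', a4, a5⟩ := IsSylowIn.exists_le (hS.pgroup.to_le a3) a2
    obtain ⟨B', b4, b5⟩ := IsSylowIn.exists_le (hT.pgroup.to_le b3) b2
    obtain ⟨S', a6, a7⟩ := IsSylowIn.exists_le a4.pgroup le_top
    obtain ⟨T', b6, b7⟩ := IsSylowIn.exists_le b4.pgroup le_top
    have a8 := a1.trans_le a5
    have b8 := b1.trans_le b5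
    refine ((big A S S' hS a6 a1 a3 (a5.trans a7)).trans ?_).trans (big B T' T b6 hT b1 (b5.trans b7) b3)
    by_cases hr : IsFunctorRegular p f M
    · have ch := (regular_iff.1 hr A' B' a4 b4 fun e => hD (le_bot_iff.1 ((le_inf a8.le b8.le).trans e.le))).mono
        le_rfl (le_inf a8.le b8.le)
      have gt : ∀ P, IsSylowIn p P M → D ≤ P → D < P := fun P h1 h2 => lt_of_le_of_ne h2 fun e => by
        have := card_lt_of_lt a8
        rw [e, h1.card_eq_card a4] at this
        exact lt_irrefl _ this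
      clear b4 b5 b8
      induction ch generalizing T' with
      | refl => exact big A' S' T' a6 b6 a8 a7 b7
      | @tail P P' c s ih3 =>
        have hP := Ch.sylow c (fun _ => functorFamily_le) a4
        have hP' := s.sylow (fun _ => functorFamily_le) hP
        obtain ⟨U, u1, u2⟩ := IsSylowIn.exists_le hP.pgroup le_top
        refine (ih3 U u1 u2).trans ?_
        by_cases hi : p ∣ M.relIndex ⊤
        · obtain ⟨-, c1, c2, X, d, e, -, x, g, rfl⟩ := s
          obtain ⟨R, a', F, b', rfl⟩ := mem_functorFamily.1 d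
          have f1 := (hf R a'.pgroup).1 F b'
          have n : R ≤ M ⊓ N(F) := le_inf a'.le (le_normalizer.trans f1.2)
          have PX : P ≤ N(F) := ((e.trans_of_not_dvd inf_le_left (a'.not_dvd_of_le n inf_le_left)).eq_of_le
            hP.pgroup inf_le_left hP.le).le.trans (inf_le_right.trans inf_le_right)
          have rb : R ≠ ⊥ := fun e => hD (le_bot_iff.1 (c1.trans (hP.eq_bot_iff.2 (a'.eq_bot_iff.1 e)).le))
          obtain ⟨M', m1, m2⟩ := exists_maximalPLocal (p := p) ⟨F, a'.pgroup.to_le f1.1, hf1 R a'.pgroup rb F b', rfl⟩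
          obtain ⟨R', r1, r2⟩ := IsSylowIn.exists_le a'.pgroup le_top
          have r3 := lt_inf_normalizer r1.pgroup (lt_of_le_of_ne r2 fun e => (e ▸ r1).not_dvd_of_le a'.le le_top hi)
          obtain ⟨Q', q1, q2⟩ := IsSylowIn.exists_le (r1.pgroup.to_inf_left (K := N(R)))
            (inf_le_right.trans (f1.2.trans m1))
          exact ih2 Q' (by rw [hQ.card_eq_card a']; exact card_lt_of_lt (r3.trans_le q2)) M' m2 q1 P _ U T' u1 b6
            (gt _ hP c1) (gt _ hP' c2) (PX.trans m1) ((cj_le_of_mem g.2 PX).trans m1) u2 b7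
        · rw [(hP.trans_of_not_dvd le_top hi).eq_of_le u1.pgroup u2 le_top,
            (hP'.trans_of_not_dvd le_top hi).eq_of_le b6.pgroup b7 le_top]
          exact .single ((s.lift hf le_top hi).mono (h𝓕 ▸ Set.subset_union_left) le_rfl)
    · obtain ⟨x, x1, x2⟩ := a4.exists_cj_eq b4
      have x3 : B' ≤ cj x S' := x2 ▸ cj_mono x a7
      refine Relation.ReflTransGen.head ⟨a6.pgroup, a8.le.trans a7, b8.le.trans x3, M, Or.inr (h𝓕' ▸ ⟨hM, hr⟩), ?_,
        a8.le.trans a4.le, x, x1, rfl⟩ (big B' _ _ (a6.cj_of_mem_normalizer (le_normalizer (mem_top x))) b6 b8 x3 b7)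
      rwa [a4.eq_of_le a6.pgroup.to_inf_left (le_inf a7 a4.le) inf_le_right]
  by_cases h : S = T
  · rw [h]
  have d1 : D ≤ S := e ▸ inf_le_left
  have d2 : D ≤ T := e ▸ inf_le_right
  obtain ⟨M, m1, m2⟩ := exists_maximalPLocal (p := p) ⟨D, hS.pgroup.to_le d1, hD, rfl⟩
  obtain ⟨Q, hQ⟩ := IsSylowIn.exists_sylowIn p M
  exact key Q M m2 hQ _ _ S T hS hT (lt_inf_normalizer hS.pgroup (lt_of_le_of_ne d1 fun e' => h
    (hS.eq_of_le hT.pgroup (e' ▸ d2) le_top).symm)) (lt_inf_normalizer hT.pgroup (lt_of_le_of_ne d2 fun e' => h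
      (hT.eq_of_le hS.pgroup (e' ▸ d1) le_top))) (inf_le_right.trans m1) (inf_le_right.trans m1) inf_le_left inf_le_left


end Cfsg.Agent.S2956
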