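import Cfsg.Statements.S2957
import Cfsg.Agent.H2.SylCtl

set_option autoImplicit false
open Cfsg

namespace Cfsg.Agent.S2957
open Subgroup CfsgH2
open scoped commutatorElement

open CfsgFT

/-- Let p be a prime dividing the order of the finite group G, f an equivariant assignment of a set of subgroups f(P) of P to every p-subgroup P, each normalized by N_G(P), and S a Sylow p-subgroup. If G = G₁G₂ for subgroups G₁, G₂ both containing S and both regular for f (in each Gᵢ, the family of normalizers in Gᵢ of the members of f(P), P a Sylow p-subgroup of Gᵢ, controls Sylow p-intersections), then G itself is regular for f. -/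
theorem result {G : Type*} [Group G] [Finite G] (p : ℕ) [Fact p.Prime] (hdiv : p ∣ Nat.card G)
    (f : Subgroup G → Set (Subgroup G)) (hf : Cfsg.IsNormalizerFunctor p f) (S : Sylow p G)
    (G₁ G₂ : Subgroup G) (h₁ : (S : Subgroup G) ≤ G₁) (h₂ : (S : Subgroup G) ≤ G₂)
    (hprod : ∀ g : G, ∃ g₁ ∈ G₁, ∃ g₂ ∈ G₂, g = g₁ * g₂)
    (hr₁ : Cfsg.IsFunctorRegular p f G₁) (hr₂ : Cfsg.IsFunctorRegular p f G₂) :
    Cfsg.IsFunctorRegular p f ⊤ := by
  rw [regular_iff] at *
  intro A B hA hB hne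
  have hS := IsSylowIn.of_sylow_top S
  obtain ⟨a, -, rfl⟩ := hS.exists_cj_eq hA
  obtain ⟨b, -, rfl⟩ := hS.exists_cj_eq hB
  obtain ⟨c, hc, d, hd, e⟩ := hprod (a⁻¹ * b)
  have h3 : cj (a * c) (S : Subgroup G) ≤ cj a G₁ ⊓ cj b G₂ := le_inf (by
    rw [← cj_cj]; exact cj_mono a (cj_le_of_mem hc h₁)) (by
      rw [show a * c = b * d⁻¹ by rw [eq_mul_inv_iff_mul_eq, mul_assoc, ← e]; group, ← cj_cj]
      exact cj_mono b (cj_le_of_mem (G₂.inv_mem hd) h₂))
  have h4 := hS.cj (a * c)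
  rw [cj_top] at h4
  obtain ⟨U, hU, hle⟩ := IsSylowIn.exists_le (hA.pgroup.to_inf_left (K := cj b (S : Subgroup G)))
    (inf_le_inf (cj_mono a h₁) (cj_mono b h₂))
  have h5 := hU.trans_of_not_dvd le_top (h4.not_dvd_of_le h3 le_top)
  have k : ∀ (H : Subgroup G) (g : G), Ctl p (functorFamily p f H) H → (S : Subgroup G) ≤ H → U ≤ cj g H →
      IsSylowIn p (cj g S) ⊤ → cj a S ⊓ cj b S ≤ cj g (S : Subgroup G) →
      Ch p (functorFamily p f ⊤) (cj a S ⊓ cj b S) (cj g S) U := fun H g h1 h2 h3 h6 h7 =>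
    Ch.mono (rtg_lift id (fun _ _ h => h.lift hf le_top (h5.not_dvd_of_le h3 le_top)) (regular_cj hf h1 g _ _
      (h6.mono (cj_mono g h2) le_top) (h5.mono h3 le_top) fun e => hne (le_bot_iff.1 ((le_inf h7 hle).trans e.le))))
        le_rfl (le_inf h7 hle)
  exact (k G₁ a hr₁ h₁ (hU.le.trans inf_le_left) hA inf_le_left).trans
    (k G₂ b hr₂ h₂ (hU.le.trans inf_le_right) hB inf_le_right).symm


end Cfsg.Agent.S2957
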