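import Cfsg.Statements.S2958
import Cfsg.Agent.H2.Coset

set_option autoImplicit false
open Cfsg

namespace Cfsg.Agent.S2958
open Subgroup CfsgH2
open scoped commutatorElement

open CfsgFT

/-- Let X, A, B be subgroups of a group G such that G is generated by the conjugates of X and every conjugate of X is contained in A or in B. Then A = G or B = G. -/
theorem result {G : Type*} [Group G] (X A B : Subgroup G) (hgen : (⨆ g : G, X.map (MulAut.conj g).toMonoidHom) = ⊤) (hcover : ∀ g : G, X.map (MulAut.conj g).toMonoidHom ≤ A ∨ X.map (MulAut.conj g).toMonoidHom ≤ B) : A = ⊤ ∨ B = ⊤ := by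
  simp only [cj_def] at hgen hcover
  by_contra h
  push Not at h
  obtain ⟨B₀, hB⟩ : ∃ B₀, B₀ = sSup {Y | (∃ g, Y = cj g X) ∧ ¬ Y ≤ A} := ⟨_, rfl⟩
  have h1 : B₀ ≤ B := hB ▸ sSup_le (by rintro _ ⟨⟨g, rfl⟩, e⟩; exact (hcover g).resolve_left e)
  have h2 : A ≤ N(B₀) := hB ▸ le_norm_sSup (by
    rintro a ha _ ⟨⟨g, rfl⟩, e⟩
    refine ⟨⟨_, cj_cj _ _ _⟩, fun e' => e ?_⟩
    rwa [cj_le_iff_le_cj_inv, cj_eq_of_mem (inv_mem ha)] at e')
  have h3 : ∀ g, ¬ cj g X ≤ A → cj g X ≤ B₀ := fun g e => by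
    rw [hB]; refine le_sSup ?_; exact ⟨⟨g, rfl⟩, e⟩
  have h4 : ⊤ ≤ N(B₀) := hgen ▸ iSup_le fun g => by
    by_cases e : cj g X ≤ A
    · exact e.trans h2
    · exact le_norm_of_le (h3 g e)
  obtain ⟨g, hg⟩ : ∃ g, ¬ cj g X ≤ A := by
    by_contra e
    push Not at e
    exact h.1 (top_le_iff.1 (hgen ▸ iSup_le e))
  refine h.2 (top_le_iff.1 (hgen ▸ iSup_le fun k => le_trans ?_ h1))
  have := cj_le_of_norm (h4 (mem_top (k * g⁻¹))) (h3 g hg)
  rwa [cj_cj, inv_mul_cancel_right] at this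


end Cfsg.Agent.S2958
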