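import Cfsg.Statements.S2961
import Cfsg.Agent.H2.Coset
import Cfsg.Agent.S2960

set_option autoImplicit false
open Cfsg

namespace Cfsg.Agent.S2961
open Subgroup CfsgH2
open scoped commutatorElement

open CfsgFT

/-- Let G be a finite group of characteristic p (C_G(O_p(G)) ≤ O_p(G)), p prime, T a Sylow p-subgroup of G and Q a normal subgroup of T with C_T(Q) ≤ Q. Then every subgroup L of G containing Q has characteristic p: C_L(O_p(L)) ≤ O_p(L). -/
theorem result {G : Type*} [Group G] [Finite G] {p : ℕ} [Fact p.Prime] (hG : Subgroup.centralizer (Cfsg.pCore p G : Set G) ≤ Cfsg.pCore p G) (T : Sylow p G) (Q : Subgroup G) (hQT : Q ≤ (T : Subgroup G)) (hQn : (T : Subgroup G) ≤ Subgroup.normalizer (Q : Set G)) (hC : (T : Subgroup G) ⊓ Subgroup.centralizer (Q : Set G) ≤ Q) (L : Subgroup G) (hQL : Q ≤ L) : Subgroup.centralizer (Cfsg.pCore p ↥L : Set ↥L) ≤ Cfsg.pCore p ↥L := by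
  have hCQ := Cfsg.Agent.S2960.result hG T Q hQT hQn hC
  have hQ := T.2.to_le hQT
  have hG' := chP_top.2 hG
  rw [chP_iff]
  refine chP_of_res ?_
  obtain ⟨P, hP⟩ : ∃ P, P = pCoreOf p (⊤ : Subgroup G) := ⟨_, rfl⟩
  obtain ⟨O, hO⟩ : ∃ O, O = pCoreOf p L := ⟨_, rfl⟩
  obtain ⟨K, hK⟩ : ∃ K, K = resIn p (L ⊓ C(O)) := ⟨_, rfl⟩
  rw [← hO, ← hK]
  have p1 : ∀ X : Subgroup G, X ≤ N(P) := fun X => hP ▸ le_top.trans (le_norm_Op_self ⊤)
  have p2 : P ≤ N(Q) := hP ▸ (Op_le_sylow (IsSylowIn.of_sylow_top T)).trans hQn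
  have p3 : P ⊓ L ≤ O := hP ▸ hO ▸ Op_inf_le le_top
  have p4 : IsPGroup p P := hP ▸ Op_pg _
  have o1 : L ≤ N(O) := hO ▸ le_norm_Op_self L
  have o2 : IsPGroup p O := hO ▸ Op_pg L
  have k1 : K ≤ L ⊓ C(O) := hK ▸ resIn_le _
  have k2 : L ≤ N(K) := hK ▸ le_norm_resIn (le_normalizer_inf' le_normalizer (le_normalizer_centralizer' o1))
  have k3 : resIn p K = K := hK ▸ resIn_resIn _
  have u1 : L ≤ N(P ⊓ C(O)) := le_normalizer_inf' (p1 L) (le_normalizer_centralizer' o1)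
  have u2 : ⁅Q, P ⊓ C(O)⁆ ≤ O := (le_inf ((commutator_mono le_rfl inf_le_left).trans (comm_le_right (p1 Q)))
    ((comm_le_left (inf_le_left.trans p2)).trans hQL)).trans p3
  have u3 : ⁅ncl L Q, P ⊓ C(O)⁆ ≤ O := ncl_comm_le u2 u1 o1 (hQL.trans o1)
  have r1 : resIn p (K ⊓ ncl L Q) ≤ C(P ⊓ C(O)) := res_le_cent_of_comm_le o2
    ((commutator_comm_le _ _).trans ((commutator_mono ((resIn_le _).trans inf_le_right) le_rfl).trans u3))
    ((resIn_le _).trans (inf_le_left.trans (k1.trans inf_le_right)))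
  have r2 : resIn p (K ⊓ ncl L Q) ≤ C(P) := resIn_le_iff.2 fun x hx ho => zpowers_le.1
    (CfsgH1.thompson_A_times_B o2 (coprime_zp ho) p4 (cent_symm (zpowers_le.2 (k1 hx.1).2)) (p1 _) (p1 _)
      (cent_symm (zpowers_le.2 (r1 (mem_resIn_of_coprime hx ho)))))
  have r3 : K ⊓ ncl L Q ≤ O := hO ▸ le_Op (inf_le_left.trans (k1.trans inf_le_left))
    (le_normalizer_inf' k2 (le_norm_ncl L Q)) (hG'.pg le_top (hP ▸ r2))
  have r4 : resIn p K ≤ C(Q) := res_le_cent_of_comm_le o2 (by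
    rw [k3]
    exact (le_inf (comm_le_right (hQL.trans k2)) ((commutator_comm_le _ _).trans
      ((commutator_mono (k1.trans inf_le_left) le_rfl).trans (comm_le_ncl L Q)))).trans r3)
    (k3.le.trans (k1.trans inf_le_right))
  rw [← k3]
  exact resIn_eq_bot_iff.2 (pg_of_res_le hQ (r4.trans hCQ))


end Cfsg.Agent.S2961
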