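import Cfsg.Statements.S2963
import Cfsg.Agent.H1.PG3

set_option autoImplicit false
open Cfsg

namespace Cfsg.Agent.S2963

/-- Let n be odd. If the symmetric group of degree n is a minimal parabolic group for the prime 2, that is, a Sylow 2-subgroup is not normal and lies in exactly one maximal subgroup, then n = 2^m + 1 for some natural number m. -/
theorem result (n : ℕ) (hn : Odd n) (h : Cfsg.IsPMinimal 2 (Equiv.Perm (Fin n))) : ∃ m : ℕ, n = 2 ^ m + 1 := by
  open Subgroup CfsgH1 CfsgFT CfsgH2 MulAction Pointwise in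
  obtain ⟨S⟩ : Nonempty (Sylow 2 (Equiv.Perm (Fin n))) := inferInstance
  obtain ⟨h0, M, -, hM⟩ := h S
  obtain ⟨x, hx⟩ := S.isPGroup'.nonempty_fixed_point_of_prime_not_dvd_card (Fin n)
    (by simpa using hn.not_two_dvd_nat)
  obtain ⟨a, ha, a1⟩ := (bot_or_exists_ne_one (S : Subgroup (Equiv.Perm (Fin n)))).resolve_left fun e => h0 (by rw [e]; infer_instance)
  obtain ⟨w, hw⟩ : ∃ w, a w ≠ w := by by_contra! c; exact a1 (Equiv.ext c)
  haveI : Nontrivial (Fin n) := ⟨_, _, hw⟩
  have xo : x ∉ orbit S w := fun ⟨g, hg⟩ => hw (by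
    obtain rfl : w = x := (eq_inv_smul_iff.2 hg).trans (hx g⁻¹)
    exact hx ⟨a, ha⟩)
  have sw : ∀ y z, Equiv.swap y z ∈ stabilizer (Equiv.Perm (Fin n)) (orbit S w) ↔ (y ∈ orbit S w ↔ z ∈ orbit S w) :=
    fun y z => Equiv.swap_mem_stabilizer
  obtain ⟨L, hL, l1⟩ := (eq_top_or_exists_le_coatom (stabilizer (Equiv.Perm (Fin n)) (orbit S w))).resolve_left
    fun e => xo (((sw x w).1 (e ▸ mem_top _)).2 (mem_orbit_self w))
  obtain rfl : L = stabilizer _ x := (hM L ⟨hL, le_trans (fun g hg => smul_orbit (⟨g, hg⟩ : S) w) l1⟩).trans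
    (hM _ ⟨IsPreprimitive.isCoatom_stabilizer_of_isPreprimitive _ x, fun g hg => hx ⟨g, hg⟩⟩).symm
  have e : orbit S w = {x}ᶜ := Set.Subset.antisymm (Set.subset_compl_singleton_iff.2 xo) fun y hy => by
    by_contra c
    exact hy (by simpa using l1 ((sw x y).2 (iff_of_false xo c)))
  obtain ⟨m, hm⟩ := S.isPGroup'.index (stabilizer S w)
  rw [index_stabilizer, e] at hm
  have := Set.ncard_add_ncard_compl ({x} : Set (Fin n))
  rw [hm] at this
  exact ⟨m, by simpa [add_comm] using this.symm⟩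

end Cfsg.Agent.S2963
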