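import Cfsg.Statements.S2968
import Cfsg.Agent.H2.Isolated

set_option autoImplicit false
open Cfsg

namespace Cfsg.Agent.S2968
open Subgroup CfsgH2
open scoped commutatorElement

/-- Let G be a finite group, p a prime, P a Sylow p-subgroup of G and x ∈ P an element of p-power order which is isolated in G (the only conjugate of x commuting with x is x itself). Then x lies in the centre of P, and the subgroup generated by x is both strongly closed and weakly closed in P with respect to G. -/
theorem result {G : Type*} [Group G] [Finite G] {p : ℕ} [Fact p.Prime] (P : Sylow p G) (x : G) (hxP : x ∈ (P : Subgroup G)) (hx : ∃ k : ℕ, orderOf x = p ^ k) (hiso : Cfsg.IsIsolated x) : x ∈ (P : Subgroup G) ⊓ Subgroup.centralizer ((P : Subgroup G) : Set G) ∧ Cfsg.IsStronglyClosed (Subgroup.zpowers x) (P : Subgroup G) ∧ Cfsg.IsWeaklyClosed (Subgroup.zpowers x) (P : Subgroup G) := by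
  obtain ⟨k, hk⟩ := hx
  have h1 : ∀ y ∈ zpowers x, ∀ g, g * y * g⁻¹ ∈ (P : Subgroup G) → g * y * g⁻¹ = y :=
    fun y hy g hg => iso_eq_of_mem (iso_zpow hiso hk hy) P.isPGroup'
      (Subgroup.zpowers_le.2 hxP hy) hg
  refine ⟨mem_inf.2 ⟨hxP, iso_mem_centralizer hiso P.isPGroup' hxP⟩,
    ⟨Subgroup.zpowers_le.2 hxP, fun y hy g hg => (h1 y hy g hg).symm ▸ hy⟩,
    Subgroup.zpowers_le.2 hxP, fun g hg => ?_⟩
  rw [cj_def] at hg ⊢
  rw [cj_zpowers, h1 x (mem_zpowers x) g (cj_le_iff.1 hg x (mem_zpowers x))]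


end Cfsg.Agent.S2968
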