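import Cfsg.Statements.S2969
import Cfsg.Agent.H2.Isolated

set_option autoImplicit false
open Cfsg

namespace Cfsg.Agent.S2969
open Subgroup CfsgH2
open scoped commutatorElement

/-- Let G be a finite group, p a prime and x ∈ G an element of p-power order which is isolated in G. If R is a p-subgroup of G containing x, then N_G(R) ≤ C_G(x); in particular x lies in the centre of R. Moreover, if x lies in a normal subgroup N of a subgroup H of G, then H = N·C_H(x). -/
theorem result {G : Type*} [Group G] [Finite G] {p : ℕ} [Fact p.Prime] (x : G) (hx : ∃ k : ℕ, orderOf x = p ^ k) (hiso : Cfsg.IsIsolated x) : (∀ R : Subgroup G, IsPGroup p ↥R → x ∈ R → Subgroup.normalizer (R : Set G) ≤ Subgroup.centralizer ({x} : Set G)) ∧ (∀ H N : Subgroup G, N ≤ H → H ≤ Subgroup.normalizer (N : Set G) → x ∈ N → N ⊔ (H ⊓ Subgroup.centralizer ({x} : Set G)) = H) := by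
  obtain ⟨k, hk⟩ := hx
  refine ⟨fun R hR hxR g hg => mem_centralizer_singleton_iff.2 (mul_inv_eq_iff_eq_mul.1
    (iso_eq_of_mem hiso hR hxR (conj_mem_of_mem_normalizer hg hxR))), fun H N hN hH hxN => ?_⟩
  refine le_antisymm (sup_le hN inf_le_left) fun h hh => ?_
  obtain ⟨l, hl, e⟩ := iso_exists_conj hiso hk hxN (conj_mem_of_mem_normalizer (hH hh) hxN)
  have : l * h ∈ H ⊓ centralizer ({x} : Set G) := mem_inf.2 ⟨mul_mem (hN hl) hh,
    mem_centralizer_singleton_iff.2 (mul_inv_eq_iff_eq_mul.1 (Eq.trans (by group) e))⟩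
  simpa using mul_mem (mem_sup_left (inv_mem hl)) (mem_sup_right this)


end Cfsg.Agent.S2969
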