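import Cfsg.Statements.S2970
import Cfsg.Agent.H2.Isolated

set_option autoImplicit false
open Cfsg

namespace Cfsg.Agent.S2970
open Subgroup CfsgH2
open scoped commutatorElement

/-- Let G be a finite group, p a prime and x ∈ G an element of p-power order which is isolated in G. Then the image of x in any quotient G ⧸ N is isolated in G ⧸ N; and if x ≠ 1 and the Sylow p-subgroups of G are cyclic, then G has a normal p-complement. -/
theorem result {G : Type*} [Group G] [Finite G] {p : ℕ} [Fact p.Prime] (x : G) (hx : ∃ k : ℕ, orderOf x = p ^ k) (hiso : Cfsg.IsIsolated x) : (∀ (N : Subgroup G) [N.Normal], Cfsg.IsIsolated (QuotientGroup.mk x : G ⧸ N)) ∧ (x ≠ 1 → (∀ P : Sylow p G, IsCyclic ↥(P : Subgroup G)) → Cfsg.HasNormalPComplement p G) := by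
  obtain ⟨k, hk⟩ := hx
  have hp : p.Prime := Fact.out
  refine ⟨fun N _ => iso_map hiso hk (QuotientGroup.mk' N) (QuotientGroup.mk'_surjective N),
    fun h1 hc => ?_⟩
  obtain ⟨S, hS, hxS⟩ := IsSylowIn.exists_le (isPGroup_zpowers_of_orderOf hk) le_top
  obtain ⟨P, rfl⟩ := hS.of_top
  obtain ⟨w, hw⟩ := isCyclic_iff_zpowers.1 (hc P)
  haveI : IsMulCommutative (P : Subgroup G) := hw ▸ inferInstance
  refine hasNPC_top_iff.1 (frobenius_hasNPC hS fun Q hQ _ hC g _ hg ho => ?_)
  obtain rfl : Q = P := le_antisymm hQ fun s hs => hC (mem_inf.2 ⟨hs, fun q hq =>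
    mul_comm_of_isMulCommutative inferInstance (hQ hq) hs⟩)
  have := CfsgH1.le_centralizer_of_omega (A := zpowers g) (V := P) (Subgroup.zpowers_le.2 hg)
    (by rw [Nat.card_zpowers]; exact (CfsgH1.IsPGroup.coprime_card_of_coprime hS.pgroup ho).symm)
    fun v hv hvp a ha => by
      have h2 : a * x * a⁻¹ = x := iso_eq_of_mem hiso hS.pgroup (hxS (mem_zpowers x))
        (conj_mem_of_mem_normalizer (Subgroup.zpowers_le.2 hg ha) (hxS (mem_zpowers x)))
      obtain ⟨j, hj⟩ := exists_orderOf_eq_pow hS.pgroup hv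
      have h3 : orderOf v = p := by
        rw [hj] at hvp
        rw [hj, (Nat.Prime.eq_one_of_pow hvp), pow_one]
      obtain ⟨i, rfl⟩ := mem_zpowers_of_orderOf_dvd (v := x) (hw.ge hv) (hw.ge (hxS (mem_zpowers x)))
        (by rw [h3, hk]; refine dvd_pow_self p ?_; rintro rfl; exact h1 (by simpa using hk))
      exact ((commute_iff_conj.2 h2).zpow_right i).eq
  intro s hs
  exact (this hs g (mem_zpowers g)).symm


end Cfsg.Agent.S2970
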