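import Cfsg.Statements.S2971
import Cfsg.Agent.H2.Isolated
import Cfsg.Agent.S2970

set_option autoImplicit false
open Cfsg

namespace Cfsg.Agent.S2971
open Subgroup CfsgH2
open scoped commutatorElement

/-- Let G be a finite group and p an odd prime such that G has p-rank at most 1 (no elementary abelian subgroup of order p²). If x ∈ G is an isolated element of order p, then x is central modulo the largest normal subgroup of G of order prime to p. -/
theorem result {G : Type*} [Group G] [Finite G] {p : ℕ} [Fact p.Prime] (hp : p ≠ 2) (hrk : Cfsg.PRankLE p 1 G) (x : G) (hx : orderOf x = p) (hiso : Cfsg.IsIsolated x) : Cfsg.InZStar p x := by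
  have hp' : p.Prime := Fact.out
  have hx' : orderOf x = p ^ 1 := by rw [hx, pow_one]
  have h := (Cfsg.Agent.S2970.result x ⟨1, hx'⟩ hiso).2 (by
    rintro rfl; exact hp'.one_lt.ne (by simpa using hx)) fun P => by
      by_contra hc
      obtain ⟨A, -, -, hA, hc⟩ := exists_normal_elem_two hp P.isPGroup' le_rfl le_normalizer hc
      have := hrk A hA.1 hA.2
      rw [hc, Nat.pow_le_pow_iff_right hp'.one_lt] at this
      omega
  obtain ⟨S, hS, hxS⟩ := IsSylowIn.exists_le (isPGroup_zpowers_of_orderOf hx') le_top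
  intro g
  have h1 := hS.sup_resIn
  rw [resIn_top, sup_comm] at h1
  obtain ⟨n, hn, s, hs, rfl⟩ := (mem_sup_of_normalizer (by rw [normalizer_eq_top]; exact le_top)).1
    (h1.ge (mem_top g))
  have h2 := iso_eq_of_mem (g := s) hiso hS.pgroup (hxS (mem_zpowers x))
    (mul_mem (mul_mem hs (hxS (mem_zpowers x))) (inv_mem hs))
  refine CfsgH1.le_pPrimeCore ((Nat.Prime.coprime_iff_not_dvd hp').2 (hasNPC_iff.1 h)).symm ?_
  have : n * s * x * (n * s)⁻¹ * x⁻¹ = n * ((s * x * s⁻¹) * n⁻¹ * x⁻¹) := by group
  rw [this, h2]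
  exact mul_mem hn (Normal.conj_mem inferInstance _ (inv_mem hn) x)


end Cfsg.Agent.S2971
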