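import Cfsg.Statements.S2972
import Cfsg.Agent.H2.Isolated
import Cfsg.Agent.Lead.Subnormal

set_option autoImplicit false
open Cfsg

namespace Cfsg.Agent.S2972
open Subgroup CfsgH2
open scoped commutatorElement

/-- Let G be a finite group, p a prime and x ∈ G an isolated element of order p (the only conjugate of x commuting with x is x) which is not central modulo the largest normal subgroup of order prime to p, while x is central modulo the largest normal subgroup of order prime to p in every proper subgroup containing x, and the image of x is so in every quotient of G by a nontrivial normal subgroup (a minimal counterexample to the Z*_p statement). Then the derived subgroup G' is a non-abelian simple group and G = G'⟨x⟩. -/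
theorem result {G : Type*} [Group G] [Finite G] {p : ℕ} [Fact p.Prime] (x : G) (hx : orderOf x = p) (hiso : Cfsg.IsIsolated x) (hnz : ¬ Cfsg.InZStar p x) (hmin : ∀ (H : Subgroup G) (hxH : x ∈ H), H ≠ ⊤ → Cfsg.InZStar p (⟨x, hxH⟩ : ↥H)) (hquot : ∀ (N : Subgroup G) [N.Normal], N ≠ ⊥ → Cfsg.InZStar p (QuotientGroup.mk x : G ⧸ N)) : IsSimpleGroup ↥(commutator G) ∧ ¬ IsMulCommutative ↥(commutator G) ∧ commutator G ⊔ Subgroup.zpowers x = ⊤ := by
  have hp : p.Prime := Fact.out
  have hx' : orderOf x = p ^ 1 := by rw [hx, pow_one]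
  have hO : Cfsg.pPrimeCore p G = ⊥ := by
    by_contra h
    refine hnz (mk_mem_center_iff.1 (mem_center_iff.2 fun g => ?_))
    have := hquot _ h g
    rw [CfsgH1.pPrimeCore_quotient_pPrimeCore, mem_bot, mul_inv_eq_one] at this
    exact mul_inv_eq_iff_eq_mul.1 this
  have hxc : x ∉ center G := fun h => hnz fun g => by
    rw [mem_center_iff.1 h g]; simp
  have hsub : ∀ H N : Subgroup G, x ∈ H → H ≠ ⊤ → N ≤ H → N.Normal → ∀ n ∈ N, n * x = x * n := by
    intro H N hxH hH hN _ n hn
    have h1 : n * x * n⁻¹ * x⁻¹ ∈ (Cfsg.pPrimeCore p H).map H.subtype ⊓ N := mem_inf.2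
      ⟨⟨_, hmin H hxH hH ⟨n, hN hn⟩, rfl⟩, by
        have := mul_mem hn (Normal.conj_mem inferInstance _ (inv_mem hn) x)
        simpa [mul_assoc] using this⟩
    have h2 := CfsgH1.le_map_pPrimeCore (p := p) (H := N)
      (N := (Cfsg.pPrimeCore p H).map H.subtype ⊓ N) inf_le_right
      (le_normalizer_inf' (hN.trans (le_normalizer.trans
        (CfsgH1.normalizer_le_normalizer_pPrimeCore H))) le_normalizer)
      (Nat.Coprime.coprime_dvd_left (card_dvd_of_le inf_le_left)
        (CfsgH1.coprime_card_map_pPrimeCore H))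
    have h3 := CfsgH1.map_pPrimeCore_le_of_normal N (h2 h1)
    rwa [hO, mem_bot, mul_inv_eq_one, mul_inv_eq_iff_eq_mul] at h3
  have key : ∀ N : Subgroup G, N.Normal → N ≠ ⊥ → N ⊔ zpowers x = ⊤ := by
    intro N _ hN
    by_contra h
    have h1 : x ∈ centralizer (N : Set G) :=
      hsub _ N (mem_sup_right (mem_zpowers x)) h le_sup_left inferInstance
    by_cases h2 : centralizer (N : Set G) = ⊤
    · have hc : N ≤ center G := fun n hn => mem_center_iff.2 fun g => (h2.ge (mem_top g) n hn).symm
      have h3 : IsPGroup p N := resIn_eq_bot_iff.1 (by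
        haveI := normal_of_le_center ((resIn_le (p := p) N).trans hc)
        rw [eq_bot_iff, ← hO]
        refine resIn_le_iff.2 fun g hg ho => ?_
        haveI := normal_of_le_center (Subgroup.zpowers_le.2 (hc hg))
        exact CfsgH1.le_pPrimeCore (by rwa [Nat.card_zpowers]) (mem_zpowers g))
      refine hxc (mem_center_of_iso_of_quot hiso hc (mem_center_iff.2 fun g => ?_))
      have := hquot N hN g
      rw [pPrimeCore_quot_eq_bot h3 hc hO, mem_bot, mul_inv_eq_one] at this
      exact mul_inv_eq_iff_eq_mul.1 this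
    · refine hxc (mem_center_iff.2 fun g => mul_inv_eq_iff_eq_mul.1 (hiso g ?_))
      exact (hsub _ _ h1 h2 le_rfl inferInstance _ (Normal.conj_mem inferInstance _ h1 g)).symm
  have hle : ∀ N : Subgroup G, N.Normal → N ≠ ⊥ → _root_.commutator G ≤ N := by
    intro N _ hN
    refine commutator_le_of_sup_zpowers (key N inferInstance hN) (by rw [normalizer_eq_top]) ?_
    exact commutator_le_left N ⊤
  have h0 : _root_.commutator G ≠ ⊥ := fun h => hxc (mem_center_iff.2 fun g =>
    (commute_of_commutator_eq_bot h (mem_top g) (mem_top x)).eq)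
  obtain ⟨S, hS, hxS⟩ := IsSylowIn.exists_le (isPGroup_zpowers_of_orderOf hx') le_top
  have hxC := iso_mem_centralizer hiso hS.pgroup (hxS (mem_zpowers x))
  obtain ⟨K, hK⟩ : ∃ K, K = _root_.commutator G := ⟨_, rfl⟩
  haveI : K.Normal := hK ▸ inferInstance
  rw [← hK] at h0 hle ⊢
  refine ⟨?_, fun hc => ?_, key K inferInstance h0⟩
  · haveI : Nontrivial K := (nontrivial_iff_ne_bot K).2 h0
    refine ⟨fun M hM => or_iff_not_imp_left.2 fun hM0 => ?_⟩
    obtain ⟨L, hL, hL0, hLM, hmin'⟩ := CfsgH1.exists_minNormal_le M hM0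
    have hLK : L.map K.subtype ≤ K := map_subtype_le L
    have hLn : K ≤ normalizer (L.map K.subtype : Set G) := by
      have := CfsgH1.normalizer_le_normalizer_normalizer K
      intro k hk
      refine mem_normalizer_of_conj_mem ?_
      rintro _ ⟨l, hl, rfl⟩
      exact ⟨_, hL.conj_mem l hl ⟨k, hk⟩, rfl⟩
    have h1 := (hS.inf_of_normalizer' (N := K) le_top (by rw [normalizer_eq_top])).inf_of_normalizer'
      hLK hLn
    have h2 : S ⊓ K ⊓ L.map K.subtype ≠ ⊥ := fun h => hL0 (by
      have h3 : L ≤ Cfsg.pPrimeCore p K := CfsgH1.le_pPrimeCore (by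
        have := h1.eq_bot_iff.1 h
        rw [CfsgH1.card_map_subtype] at this
        exact ((Nat.Prime.coprime_iff_not_dvd hp).2 this).symm)
      have h4 := (map_mono h3).trans (CfsgH1.map_pPrimeCore_le_of_normal K)
      rw [hO, le_bot_iff, map_eq_bot_iff_of_injective _ K.subtype_injective] at h4
      exact h4)
    have h3 : ((cj x (L.map K.subtype)).subgroupOf K).Normal := by
      rw [normal_subgroupOf_iff_le_normalizer (by
        simpa [cj_eq_of_normal] using cj_mono x hLK), ← cj_normalizer]
      simpa [cj_eq_of_normal] using cj_mono x hLn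
    have h4 := (hmin' (L ⊓ (cj x (L.map K.subtype)).subgroupOf K) inferInstance inf_le_left).resolve_left
      fun h => h2 (eq_bot_iff.2 fun y hy => by
        obtain ⟨l, hl, rfl⟩ := hy.2
        have : l ∈ L ⊓ (cj x (L.map K.subtype)).subgroupOf K := mem_inf.2 ⟨hl, by
          rw [mem_subgroupOf, mem_cj, mul_assoc]
          have e : (l : G) * x = x * l := hxC _ hy.1.1
          rw [e, inv_mul_cancel_left]; exact hy.2⟩
        rw [h, mem_bot] at this
        rw [this]; exact one_mem _)
    have h5 : x ∈ normalizer (L.map K.subtype : Set G) := by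
      rw [← cj_eq_iff_mem_normalizer]
      refine (eq_of_le_of_card_le ?_ (card_cj _ _).le).symm
      rintro _ ⟨l, hl, rfl⟩
      exact (h4.ge hl).2
    have h6 : (L.map K.subtype).Normal := normalizer_eq_top_iff.1 (eq_top_iff.2
      ((key K inferInstance h0).ge.trans (sup_le hLn (Subgroup.zpowers_le.2 h5))))
    have h7 := hle _ h6 (by rwa [Ne, map_eq_bot_iff_of_injective _ K.subtype_injective])
    refine eq_top_iff.2 fun y _ => ?_
    obtain ⟨l, hl, e⟩ := h7 y.2
    exact Subtype.ext e ▸ hLM hl
  · have h3 : IsPGroup p K := resIn_eq_bot_iff.1 (by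
      haveI := resIn_normal (p := p) K
      rw [eq_bot_iff, ← hO]
      refine CfsgH1.le_pPrimeCore ((Nat.Prime.coprime_iff_not_dvd hp).2 ?_).symm
      obtain ⟨T, hT⟩ := IsSylowIn.exists_sylowIn p K
      exact hasNPC_subgroup_iff.1 (burnside_hasNPC hT fun g hg t ht =>
        mul_comm_of_isMulCommutative hc (hT.le ht) hg.1))
    have h4 := IsPGroup.to_sup_of_normal_left h3 (isPGroup_zpowers_of_orderOf hx')
    rw [key K inferInstance h0] at h4
    exact hxc (mem_center_iff.2 fun g => iso_mem_centralizer hiso h4 (mem_top x) g (mem_top g))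


end Cfsg.Agent.S2972
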