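import Cfsg.Statements.S2998
import Cfsg.Agent.H2.Coset

set_option autoImplicit false
open Cfsg

namespace Cfsg.Agent.S2998
open Subgroup CfsgH2
open scoped commutatorElement

open CfsgFT CfsgLead

/-- Let G be a finite group, p a prime, P a Sylow p-subgroup of G and x ∈ P an element such that N_G(R) ≤ C_G(x) for every nontrivial subgroup R of P. Then P ≤ C_G(x); every G-conjugate of x lying in P equals x (so g ∈ C_G(x) whenever g x g⁻¹ ∈ P); and for every normal subgroup N of G, the image of x in G ⧸ N has the same property with respect to the image of P: the normalizer of every nontrivial subgroup of the image of P centralizes the image of x. -/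
theorem result {G : Type*} [Group G] [Finite G] {p : ℕ} [Fact p.Prime] (P : Sylow p G) (x : G) (hxP : x ∈ (P : Subgroup G)) (hlc : ∀ R : Subgroup G, R ≤ (P : Subgroup G) → R ≠ ⊥ → Subgroup.normalizer (R : Set G) ≤ Subgroup.centralizer ({x} : Set G)) : (P : Subgroup G) ≤ Subgroup.centralizer ({x} : Set G) ∧ (∀ g : G, g * x * g⁻¹ ∈ (P : Subgroup G) → g * x * g⁻¹ = x) ∧ ∀ (N : Subgroup G) [N.Normal], ∀ R : Subgroup (G ⧸ N), R ≤ (P : Subgroup G).map (QuotientGroup.mk' N) → R ≠ ⊥ → Subgroup.normalizer (R : Set (G ⧸ N)) ≤ Subgroup.centralizer ({(QuotientGroup.mk x : G ⧸ N)} : Set (G ⧸ N)) := by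
  have hP := IsSylowIn.of_sylow_top P
  have a : (P : Subgroup G) ≤ C1(x) := by
    by_cases e : (P : Subgroup G) = ⊥
    · rw [e]; exact bot_le
    · exact le_normalizer.trans (hlc P le_rfl e)
  refine ⟨a, fun g hg => ?_, fun K _ R hR hR1 y hy => ?_⟩
  · by_cases e : x = 1
    · simp [e]
    have e1 : g * x * g⁻¹ ≠ 1 := fun h => e (by simpa using h)
    have b1 : C1(g * x * g⁻¹) ≤ C1(x) := (cent1_le_norm_zpowers _).trans
      (hlc _ (zpowers_le.2 hg) (zpowers_ne_bot' e1))
    have b2 : C1(g * x * g⁻¹) = C1(x) := eq_of_le_of_card_le b1 (by rw [← cj_centralizer_singleton, card_cj])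
    have b3 : IsSylowIn p (cj g P) C1(x) := by
      have := (hP.mono a le_top).cj g
      rwa [cj_centralizer_singleton, b2] at this
    obtain ⟨c, hc, e2⟩ := b3.exists_cj_eq (hP.mono a le_top)
    rw [cj_cj, cj_eq_iff_mem_normalizer] at e2
    have b4 := hlc P le_rfl (fun h => e (mem_bot.1 (h ▸ hxP))) e2
    have b5 : g ∈ C1(x) := by simpa using mul_mem (inv_mem hc) b4
    rw [mem_cent1'.1 b5, mul_inv_cancel_right]
  · obtain ⟨y, rfl⟩ := QuotientGroup.mk'_surjective K y
    have s1 := (sn_of_nilpotent (P.2.map (QuotientGroup.mk' K)).isNilpotent hR).comap (QuotientGroup.mk' K)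
    have s2 := sylow_inf_sn (hP.mono (le_comap_map _ _) le_top) s1
    have s3 : y ∈ N(R.comap (QuotientGroup.mk' K)) := le_normalizer_comap _ hy
    obtain ⟨n, hn, e⟩ := s2.frattini s3
    have s4 : (P : Subgroup G) ⊓ R.comap (QuotientGroup.mk' K) ≠ ⊥ := fun h => hR1 (by
      rw [eq_bot_iff]
      intro r hr
      obtain ⟨u, hu, rfl⟩ := hR hr
      have : u ∈ (P : Subgroup G) ⊓ R.comap (QuotientGroup.mk' K) := ⟨hu, hr⟩
      rw [h, mem_bot] at this
      rw [this, map_one]; exact one_mem _)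
    have s5 : ∀ z ∈ C1(x), QuotientGroup.mk' K z ∈ C1((x : G ⧸ K)) := fun z hz => by
      rw [mem_cent1] at hz ⊢
      exact congrArg (QuotientGroup.mk' K) hz
    obtain ⟨u, hu, e'⟩ := hR hn
    have := mul_mem (inv_mem (s5 u (a hu))) (s5 _ (hlc _ inf_le_left s4 e))
    rwa [e', map_mul, inv_mul_cancel_left] at this


end Cfsg.Agent.S2998
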