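import Cfsg.Statements.S3003
import Cfsg.Agent.H2.SPE

set_option autoImplicit false
open Cfsg

namespace Cfsg.Agent.S3003
open Subgroup CfsgH2
open scoped commutatorElement

open CfsgFT

/-- Let G be a finite group, p a prime and Q a large p-subgroup of G: C_G(Q) ≤ Q and N_G(U) ≤ N_G(Q) for every nontrivial subgroup U of C_G(Q). Let Q ≤ G₁ ≤ G, let R be a subgroup of order prime to p normalized by G₁, and let U ≤ G₁ be a p-subgroup. If U contains a nontrivial element which is G₁-conjugate to an element of Z(Q), then C_R(U) = 1. In particular, if U is elementary abelian of order at least p² and every maximal subgroup of U contains a nontrivial element G₁-conjugate into Z(Q), then R = 1. -/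
theorem result {G : Type*} [Group G] [Finite G] {p : ℕ} [Fact p.Prime] (Q : Subgroup G) (hQp : IsPGroup p ↥Q) (hlarge : Cfsg.IsLarge Q) (G₁ : Subgroup G) (hQG : Q ≤ G₁) (R : Subgroup G) (hR : (Nat.card ↥R).Coprime p) (hGR : G₁ ≤ Subgroup.normalizer (R : Set G)) (U : Subgroup G) (hUG : U ≤ G₁) (hUp : IsPGroup p ↥U) : ((∃ x ∈ U, x ≠ 1 ∧ ∃ g ∈ G₁, g * x * g⁻¹ ∈ Q ⊓ Subgroup.centralizer (Q : Set G)) → R ⊓ Subgroup.centralizer (U : Set G) = ⊥) ∧ (Cfsg.IsElementaryAbelian p U → p ^ 2 ≤ Nat.card ↥U → (∀ U₀ : Subgroup G, U₀ ≤ U → IsCoatom (U₀.subgroupOf U) → ∃ x ∈ U₀, x ≠ 1 ∧ ∃ g ∈ G₁, g * x * g⁻¹ ∈ Q ⊓ Subgroup.centralizer (Q : Set G)) → R = ⊥) := by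
  have hR' := isPi_compl_singleton_iff_coprime.2 hR
  have h0 := (isPi_singleton_iff.2 hQp).inf_eq_bot hR'
  have key : ∀ B : Subgroup G, (∃ x ∈ B, x ≠ 1 ∧ ∃ g ∈ G₁, g * x * g⁻¹ ∈ Q ⊓ C(Q)) → R ⊓ C(B) = ⊥ := by
    rintro B ⟨x, a, b, g, c, d⟩
    have h1 : R ⊓ C1(g * x * g⁻¹) ≤ N(Q) := inf_le_right.trans (large_cent1 hlarge
      (fun e => b (by simpa using e)) (mem_inf.1 d).2)
    have h2 : ⁅Q, R ⊓ C1(g * x * g⁻¹)⁆ = ⊥ := le_bot_iff.1 (h0 ▸ le_inf (comm_le_left h1)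
      ((commutator_mono le_rfl inf_le_left).trans (comm_le_right (hQG.trans hGR))))
    have h3 := (le_inf ((cent_symm (cent_of_comm_eq_bot h2)).trans hlarge.1) inf_le_left).trans h0.le
    rw [← cj_centralizer_singleton, ← cj_eq_of_norm (hGR c), ← cj_inf, le_bot_iff, cj_eq_bot_iff] at h3
    exact le_bot_iff.1 (h3 ▸ inf_le_inf_left _ (cent_le_cent1 a))
  refine ⟨key U, fun h1 h2 h3 => ?_⟩
  haveI := h1.1
  refine le_bot_iff.1 (CfsgH1.le_of_cocyclic (hUG.trans hGR) (coprime_pgroup_p' hUp hR') ?_)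
  rintro B a ⟨x, b, c⟩
  refine (key B ?_).le
  by_cases hx : x ∈ B
  · have : 1 < Nat.card U := lt_of_lt_of_le (Nat.one_lt_pow two_ne_zero (Fact.out : p.Prime).one_lt) h2
    obtain ⟨M, -, d, e, -⟩ := exists_relIndex_prime hUp (bot_lt_iff_ne_bot.2 ((one_lt_card_iff_ne_bot U).1 this))
    obtain ⟨y, f, g⟩ := h3 M d (isCoatom_of_index_prime e)
    rw [sup_eq_left.2 (zpowers_le.2 hx)] at c
    exact ⟨y, c ▸ d f, g⟩
  · refine h3 B a (isCoatom_of_index_prime (p := p) ?_)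
    rw [← c]
    exact relIndex_sup_zpowers (le_norm_of_comm (ea_le_centralizer h1) a b) hx (h1.2 x b ▸ one_mem B)


end Cfsg.Agent.S3003
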