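import Cfsg.Statements.S3006
import Cfsg.Agent.H2.CD

set_option autoImplicit false
open scoped Pointwise
open Cfsg

namespace Cfsg.Agent.S3006
open Subgroup CfsgH2
open scoped commutatorElement

open CfsgFT

/-- Let P be a finite p-group, Q a centrally large subgroup of P (|Q|·|Z(Q)| maximal among subgroups of P) and A an abelian subgroup of P of largest order. Then QA = AQ is a centrally large subgroup of P, C_{QA}(Q ∩ A) = Z(Q)·A, and the subgroup generated by all centrally large subgroups of P contains C_P(Z(J(P))), where J(P) is generated by the abelian subgroups of largest order. -/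
theorem result {p : ℕ} [Fact p.Prime] (P : Type*) [Group P] [Finite P] (hP : IsPGroup p P) (Q A : Subgroup P) (hQ : Cfsg.IsCentrallyLarge Q) (hA : A ∈ Cfsg.maxAbelianSubgroups P) : ((Q ⊔ A : Subgroup P) : Set P) = (Q : Set P) * (A : Set P) ∧ Cfsg.IsCentrallyLarge (Q ⊔ A) ∧ (Q ⊔ A) ⊓ Subgroup.centralizer ((Q ⊓ A : Subgroup P) : Set P) = (Q ⊓ Subgroup.centralizer (Q : Set P)) ⊔ A ∧ (((Q ⊓ Subgroup.centralizer (Q : Set P)) ⊔ A : Subgroup P) : Set P) = ((Q ⊓ Subgroup.centralizer (Q : Set P)) : Set P) * (A : Set P) ∧ Subgroup.centralizer ((Cfsg.thompsonSubgroupA P ⊓ Subgroup.centralizer (Cfsg.thompsonSubgroupA P : Set P) : Subgroup P) : Set P) ≤ Cfsg.centrallyLargeJoin P := by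
  rw [cl_iff] at hQ ⊢
  obtain ⟨a, b, c⟩ := hQ.sup_maxAb hA
  have h1 : C(Q) ≤ (Q ⊔ A) ⊓ C(Q ⊓ A) := le_inf (hQ.2.trans le_sup_left) (cent_anti inf_le_left)
  have h2 : A ≤ (Q ⊔ A) ⊓ C(Q ⊓ A) := le_inf le_sup_right ((maxAb_cent hA).ge.trans (cent_anti inf_le_right))
  have hM : CL (centrallyLargeJoin P) := cl_sSup (fun A h => cl_iff.1 h) (cl_iff.2 hQ)
  refine ⟨a.set_eq le_sup_left le_sup_right, b, ?_, ?_, hM.1.cent_ZJ_le (le_sup_right.trans
    (le_sSup (cl_iff.2 hM.sup_J)))⟩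
  · rw [inf_eq_right.2 hQ.2, c.sup h1 h2]
  · rw [inf_eq_right.2 hQ.2, c.sup h1 h2, c.set_eq h1 h2]
    congr 1
    exact (Set.inter_eq_right.2 hQ.2).symm


end Cfsg.Agent.S3006
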