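import Cfsg.Statements.S3008
import Cfsg.Agent.H2.CD

set_option autoImplicit false
open Cfsg

namespace Cfsg.Agent.S3008
open Subgroup CfsgH2
open scoped commutatorElement

open CfsgFT

/-- Let P be a finite p-group, with J(P) generated by its abelian subgroups of largest order and J̃(P) = C_P(Z(J(P))); call R ≤ P centrally large if |R|·|Z(R)| is as large as possible, and let P_MCL be generated by the minimal centrally large subgroups. Then: for every centrally large Q, Q·J(P) ⊇ J̃(P); some minimal centrally large subgroup of P is normalized by both J(P) and P_MCL; if P = J(P) and d(P)² = |P|·|Z(P)|, where d(P) is the largest order of an abelian subgroup, then every minimal centrally large subgroup of P is abelian; and if every minimal centrally large subgroup is abelian then J̃(P) = J(P). -/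
theorem result {p : ℕ} [Fact p.Prime] (P : Type*) [Group P] [Finite P] (hP : IsPGroup p P) : (∀ Q : Subgroup P, Cfsg.IsCentrallyLarge Q → Subgroup.centralizer ((Cfsg.thompsonSubgroupA P ⊓ Subgroup.centralizer (Cfsg.thompsonSubgroupA P : Set P) : Subgroup P) : Set P) ≤ Q ⊔ Cfsg.thompsonSubgroupA P) ∧ (∃ Q : Subgroup P, Cfsg.IsMinimalCentrallyLarge Q ∧ Cfsg.thompsonSubgroupA P ≤ Subgroup.normalizer (Q : Set P) ∧ Cfsg.minimalCentrallyLargeJoin P ≤ Subgroup.normalizer (Q : Set P)) ∧ (Cfsg.thompsonSubgroupA P = ⊤ → (∀ A ∈ Cfsg.maxAbelianSubgroups P, Nat.card ↥A ^ 2 = Nat.card P * Nat.card ↥(Subgroup.center P)) → ∀ Q : Subgroup P, Cfsg.IsMinimalCentrallyLarge Q → IsMulCommutative ↥Q) ∧ ((∀ Q : Subgroup P, Cfsg.IsMinimalCentrallyLarge Q → IsMulCommutative ↥Q) → Subgroup.centralizer ((Cfsg.thompsonSubgroupA P ⊓ Subgroup.centralizer (Cfsg.thompsonSubgroupA P : Set P) : Subgroup P) : Set P) = Cfsg.thompsonSubgroupA P) := by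
  haveI := hP.isNilpotent
  simp only [cl_iff, mcl_iff]
  obtain ⟨Q₀, h₀, h₁⟩ := exists_mcl_norm (G := P)
  refine ⟨fun Q h => h.sup_J.1.cent_ZJ_le le_sup_right, ⟨Q₀, h₀, sSup_le fun A hA => h₁ A _ (comm_iff.1 hA.1)
    (h₀.1.sup_maxAb hA).2.2 (le_inf (h₀.1.2.trans le_sup_left) (cent_anti inf_le_left))
    (le_inf le_sup_right ((maxAb_cent hA).ge.trans (cent_anti inf_le_right))), sSup_le fun R hR => ?_⟩,
    fun a b Q hQ => ?_, fun h => le_antisymm ?_ (cent_symm inf_le_right)⟩
  · have hR' := mcl_iff.1 hR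
    rw [← hR'.inf_sup h₀.1]
    exact sup_le (le_norm_of_le inf_le_right) (h₁ _ _ hR'.1.comm (h₀.1.1.cent.fac hR'.1.1.cent) le_sup_left
      le_sup_right)
  · obtain ⟨A, hA⟩ := exists_maxAb (G := P)
    have c := hQ.1.sup_J
    rw [a, sup_top_eq] at c
    have d : CL A := ⟨c.1.of_le (by
      rw [cdMu, cdMu, maxAb_cent hA, ← sq, b A hA, Subgroup.card_top, coe_top, centralizer_univ]),
      (maxAb_cent hA).le⟩
    obtain ⟨R, r1, r2⟩ := d.exists_mcl
    exact comm_iff.2 (r2.comm hQ (comm_iff.1 (isMulCommutative_of_le hA.1 r1)))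
  · have := h₀.1.sup_J.1.cent_ZJ_le le_sup_right
    exact this.trans (sup_le (le_sSup ((h₀.iff_maxAb (comm_iff.1 (h _ h₀))).1 h₀)) le_rfl)


end Cfsg.Agent.S3008
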