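import Cfsg.Statements.S3009
import Cfsg.Agent.H1.Nat2
import Cfsg.Agent.H1.PSL2a

set_option autoImplicit false
open Cfsg

namespace Cfsg.Agent.S3009

open CfsgH1 CfsgH1.L2 CfsgH1.Nat2 CfsgH2 Subgroup
open scoped IsMulCommutative commutatorElement

/-- Let p be a prime and let G and V be subgroups of a finite group with V elementary abelian and normalized by G, and G isomorphic to SL₂(F) for a finite field F with pⁿ elements. Suppose G acts irreducibly and nontrivially on V by conjugation (no G-invariant subgroups of V other than 1 and V, and [V, G] ≠ 1), and let S be a Sylow p-subgroup of G and V₀ = C_V(S). If [V, S, S] = 1 or |V| ≤ |V₀|², then G acts on V as SL₂(F) on its natural two-dimensional module; in particular |V| = |F|². -/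
theorem result {X : Type*} [Group X] [Finite X] {p : ℕ} [Fact p.Prime] (G V : Subgroup X) (hV : Cfsg.IsElementaryAbelian p V) (hGV : G ≤ Subgroup.normalizer (V : Set X)) (F : Type) [Field F] [Fintype F] (n : ℕ) (hF : Fintype.card F = p ^ n) (hG : Nonempty (↥G ≃* Matrix.SpecialLinearGroup (Fin 2) F)) (hirr : ∀ U : Subgroup X, U ≤ V → G ≤ Subgroup.normalizer (U : Set X) → U = ⊥ ∨ U = V) (hnt : ⁅V, G⁆ ≠ ⊥) (S : Sylow p ↥G) (hyp : ⁅⁅V, (S : Subgroup ↥G).map G.subtype⁆, (S : Subgroup ↥G).map G.subtype⁆ = ⊥ ∨ Nat.card ↥V ≤ Nat.card ↥(V ⊓ Subgroup.centralizer (((S : Subgroup ↥G).map G.subtype : Subgroup X) : Set X)) ^ 2) : Cfsg.ActsAsSL2OnSection F ⊤ G V ⊥ := by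
  classical
  obtain ⟨e0⟩ := hG
  have : CharP F p := charP_of_card_eq_prime_pow hF
  have := hV.1
  obtain ⟨g, hg⟩ := sylow_eq_US p (S.mapSurjective (f := e0.toMonoidHom) e0.surjective)
  let e : G ≃* S2 F := e0.trans (MulAut.conj g⁻¹)
  let ι : S2 F →* X := G.subtype.comp e.symm.toMonoidHom
  have ιG : ∀ s, ι s ∈ G := fun s => (e.symm s).2
  have mT : ∀ x, x ∈ (S : Subgroup G).map G.subtype ↔ ∃ y, ι (u y) = x := fun x => by
    constructor
    · rintro ⟨s, hs, rfl⟩
      have : e0 s ∈ cj g (US F) := hg ▸ ⟨s, hs, rfl⟩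
      obtain ⟨y, k⟩ := mem_US.1 (mem_cj.1 this)
      refine ⟨y, congrArg Subtype.val (e.symm_apply_eq.2 ?_)⟩
      rw [← u_eq]; simpa [e] using k
    · rintro ⟨y, rfl⟩
      have : e0 (e.symm (u y)) ∈ cj g (US F) := mem_cj.2 (mem_US.2 ⟨y, by
        have := e.apply_symm_apply (u y)
        simpa [e, u_eq] using this.symm⟩)
      rw [hg] at this
      obtain ⟨s, hs, k⟩ := this
      exact ⟨_, e0.injective k ▸ hs, rfl⟩
  have cv : ∀ s, ∀ v ∈ V, ι s * v * (ι s)⁻¹ ∈ V := fun s v k => (mem_normalizer_iff.1 (hGV (ιG s)) v).1 k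
  let _ : DistribMulAction (S2 F) (Additive V) :=
    { smul := fun s v => Additive.ofMul ⟨ι s * v.toMul.1 * (ι s)⁻¹, cv s _ v.toMul.2⟩
      one_smul := fun v => Subtype.ext (show ι 1 * _ * (ι 1)⁻¹ = _ by simp; rfl)
      mul_smul := fun s t v => Subtype.ext (show ι (s * t) * _ * (ι (s * t))⁻¹ = ι s * (ι t * _ * (ι t)⁻¹) * (ι s)⁻¹ by
        rw [map_mul]; group)
      smul_zero := fun s => Subtype.ext (show ι s * 1 * (ι s)⁻¹ = 1 by simp)
      smul_add := fun s v w => Subtype.ext (show ι s * (v.toMul.1 * w.toMul.1) * (ι s)⁻¹ =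
        ι s * v.toMul.1 * (ι s)⁻¹ * (ι s * w.toMul.1 * (ι s)⁻¹) by group) }
  have sm : ∀ (s : S2 F) (v : Additive V), (s • v).toMul.1 = ι s * v.toMul.1 * (ι s)⁻¹ := fun _ _ => rfl
  have ιe : ∀ x : G, ι (e x) = x := fun x => congrArg Subtype.val (e.symm_apply_apply x)
  obtain ⟨θ, t1, t2⟩ := Nat2.main (F := F) (A := Additive V) (p := p) (fun a => Subtype.ext (hV.2 _ a.toMul.2))
    (fun W k => by
      rcases hirr ((AddSubgroup.toSubgroup' W).map V.subtype) (map_subtype_le _) (fun x hx =>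
        mem_normalizer_fintype (by
          rintro _ ⟨v, hv, rfl⟩
          exact ⟨_, k (e ⟨x, hx⟩) _ hv, (sm _ _).trans (by rw [ιe]; rfl)⟩)) with j | j
      · left
        rw [map_eq_bot_iff_of_injective _ V.subtype_injective] at j
        exact AddSubgroup.toSubgroup'.injective (j.trans (OrderIso.map_bot _).symm)
      · right
        refine eq_top_iff.2 fun v _ => ?_
        obtain ⟨w, hw, l⟩ := j.ge v.toMul.2
        obtain rfl : w = v.toMul := Subtype.ext l
        exact hw)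
    (by
      by_contra! k
      refine hnt (commutator_eq_bot_iff_le_centralizer.2 fun v hv => mem_centralizer_iff.2 fun x hx => ?_)
      have := (sm (e ⟨x, hx⟩) (Additive.ofMul ⟨v, hv⟩)).symm.trans (congrArg (fun t => t.toMul.1) (k _ _))
      rw [ιe] at this
      exact mul_inv_eq_iff_eq_mul.1 this)
    (hyp.imp (fun k y a z => by
      have k1 := commutator_eq_bot_iff_le_centralizer.1 k (commutator_comm _ V ▸
        commutator_mem_commutator ((mT _).2 ⟨y, rfl⟩) a.toMul.2)
      have k2 := mem_centralizer_iff.1 k1 _ ((mT _).2 ⟨z, rfl⟩)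
      have k3 : (u y • a - a).toMul.1 = ⁅ι (u y), a.toMul.1⁆ := by rw [sub_eq_add_neg]; rfl
      refine Subtype.ext ((sm _ _).trans ?_)
      show _ = (u y • a - a).toMul.1
      rw [k3, k2, mul_inv_cancel_right])
      fun k => k.trans (Nat.pow_le_pow_left (Nat.card_le_card_of_injective
        (fun v => ⟨Additive.ofMul ⟨v.1, v.2.1⟩, fun y => Subtype.ext ((sm _ _).trans
          (mul_inv_eq_iff_eq_mul.2 (mem_centralizer_iff.1 v.2.2 _ ((mT _).2 ⟨y, rfl⟩))))⟩)
        fun a b l => Subtype.ext (congrArg (fun t => t.1.toMul.1) l)) 2))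
  let τ := AddEquiv.ofBijective θ t1
  refine ⟨hGV, bot_le, e.toMonoidHom, MonoidHom.mk' (fun v => Multiplicative.ofAdd (τ.symm (Additive.ofMul v)))
    fun a b => congrArg Multiplicative.ofAdd (τ.symm.map_add _ _), MonoidHom.range_eq_top.2 e.surjective,
    fun x => ⟨(τ x.toAdd).toMul, congrArg Multiplicative.ofAdd (τ.symm_apply_apply _)⟩, fun v => ?_, fun x v => ?_⟩
  · exact (τ.symm.map_eq_zero_iff (x := Additive.ofMul v)).trans ⟨fun k => congrArg Subtype.val k, fun k => Subtype.ext k⟩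
  · refine ⟨(e x • Additive.ofMul v).toMul, (sm _ _).trans (by rw [ιe]; rfl), τ.symm_apply_eq.2 ?_⟩
    exact ((t2 (e x) _).trans (congrArg (e x • ·) (τ.apply_symm_apply (Additive.ofMul v)))).symm

end Cfsg.Agent.S3009
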