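import Cfsg.Statements.S3012
import Cfsg.Agent.H2.Coset

set_option autoImplicit false
open Cfsg

namespace Cfsg.Agent.S3012
open Subgroup CfsgH2
open scoped commutatorElement

open CfsgFT

/-- Let G be a finite group, V a nontrivial elementary abelian 2-subgroup of G satisfying the Sidki pair condition (every odd-order element inverted by an element of V commutes with a nontrivial element of V), and K a normal subgroup of G with V ∩ K = 1. Then the image of V in G/K satisfies the Sidki pair condition in G/K. -/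
theorem result {G : Type*} [Group G] [Finite G] (V K : Subgroup G) [K.Normal] (hV : Cfsg.IsElementaryAbelian 2 V) (hV1 : V ≠ ⊥) (hS : Cfsg.IsSidkiPair V) (hVK : V ⊓ K = ⊥) : Cfsg.IsSidkiPair (V.map (QuotientGroup.mk' K)) := by
  rintro h _ ⟨v, hv, rfl⟩ ho hi
  obtain ⟨h, rfl⟩ := QuotientGroup.mk'_surjective K h
  have v2 : v * v = 1 := by rw [← sq]; exact hV.2 v hv
  have v3 : v⁻¹ = v := inv_eq_of_mul_eq_one_right v2
  obtain ⟨k, hk⟩ := exists_coprime_orderOf_pow (p := 2) (h * (v * h * v⁻¹)⁻¹)
  obtain ⟨w, hw, hw1, e⟩ := hS _ v hv (Nat.coprime_two_right.1 hk) (by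
    rw [← conj_pow, ← inv_pow]
    congr 1
    rw [v3]
    calc _ = v * h * v * h⁻¹ * (v * v) := by rw [mul_inv_rev, mul_inv_rev, v3]; group
      _ = _ := by rw [v2]; group)
  refine ⟨_, mem_map_of_mem _ hw, fun e1 => hw1 ?_, ?_⟩
  · rw [← mem_bot, ← hVK]
    exact ⟨hw, (QuotientGroup.eq_one_iff w).1 e1⟩
  · have e2 := congrArg (QuotientGroup.mk' K) e
    simp only [map_mul, map_pow, map_inv, hi, inv_inv] at e2
    rw [← sq, ← pow_mul, ← pow_succ'] at e2
    exact mem_cent1.1 (mem_of_pow_mem_of_coprime (Nat.Coprime.pow_right _ (Nat.coprime_two_right.2 ho))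
      (mem_cent1.2 e2))


end Cfsg.Agent.S3012
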