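import Cfsg.Statements.S3013
import Cfsg.Agent.H2.Coset

set_option autoImplicit false
open Cfsg

namespace Cfsg.Agent.S3013
open Subgroup CfsgH2
open scoped commutatorElement

open CfsgFT

/-- Let G be a finite group and V a nontrivial elementary abelian 2-subgroup of G satisfying the Sidki pair condition. Let v ∈ V and let x be an element of odd order inverted by v, and put C = C_G(v) ∩ C_G(x), the centralizer of the dihedral subgroup generated by v and x. Then C ∩ V is nontrivial and satisfies the Sidki pair condition inside C: every odd-order element of C inverted by an element of C ∩ V commutes with a nontrivial element of C ∩ V. -/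
theorem result {G : Type*} [Group G] [Finite G] (V : Subgroup G) (hV : Cfsg.IsElementaryAbelian 2 V) (hV1 : V ≠ ⊥) (hS : Cfsg.IsSidkiPair V) (v x : G) (hv : v ∈ V) (hx : Odd (orderOf x)) (hinv : v * x * v⁻¹ = x⁻¹) (C : Subgroup G) (hC : C = Subgroup.centralizer ({v} : Set G) ⊓ Subgroup.centralizer ({x} : Set G)) : C ⊓ V ≠ ⊥ ∧ Cfsg.IsSidkiPair ((C ⊓ V).subgroupOf C) := by
  subst hC
  have hc : ∀ w ∈ V, w ∈ C1(v) := fun w hw => mem_cent1.2 (mul_comm_of_isMulCommutative hV.1 hv hw)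
  refine ⟨?_, ?_⟩
  · obtain ⟨w, hw, hw1, e⟩ := hS x v hv hx hinv
    exact fun h => hw1 (mem_bot.1 (h ▸ (⟨⟨hc w hw, mem_cent1'.2 e⟩, hw⟩ : w ∈ C1(v) ⊓ C1(x) ⊓ V)))
  · rintro ⟨h, h1, h2⟩ ⟨u, u1, u2⟩ ⟨-, hu⟩ ho hi
    have ho' : Odd (orderOf h) := by rwa [← orderOf_coe] at ho
    have hi' : u * h * u⁻¹ = h⁻¹ := congrArg Subtype.val hi
    have c1 : Commute h x := mem_cent1'.1 h2
    have c2 : v * (h * x) * v⁻¹ = h * x⁻¹ := by
      rw [← hinv, ← mul_assoc, mem_cent1.1 h1]; group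
    obtain ⟨w, hw, hw1, e⟩ := hS (h * x) (u * v) (mul_mem hu hv)
      (Odd.of_dvd_nat (ho'.mul hx) c1.orderOf_mul_dvd_mul_orderOf) (by
        calc _ = u * (v * (h * x) * v⁻¹) * u⁻¹ := by group
          _ = (u * h * u⁻¹) * (u * x * u⁻¹)⁻¹ := by rw [c2]; group
          _ = _ := by rw [hi', mem_cent1'.1 u2, mul_inv_cancel_right, ← mul_inv_rev, c1.eq])
    have e1 : h * x ∈ C1(w) := mem_cent1.2 e
    have e2 : h * x⁻¹ ∈ C1(w) := c2 ▸ mul_mem (mul_mem (mem_cent1_symm (hc w hw)) e1)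
      (inv_mem (mem_cent1_symm (hc w hw)))
    have e3 : x ∈ C1(w) := mem_of_pow_mem_of_coprime (Nat.coprime_two_right.2 hx) (by
      simpa [mul_assoc, sq] using mul_mem (inv_mem e2) e1)
    have e4 : h ∈ C1(w) := by simpa using mul_mem e1 (inv_mem e3)
    have e5 : w ∈ C1(v) ⊓ C1(x) := ⟨hc w hw, mem_cent1_symm e3⟩
    exact ⟨⟨w, e5⟩, ⟨e5, hw⟩, fun e => hw1 (congrArg Subtype.val e), Subtype.ext (mem_cent1.1 e4)⟩


end Cfsg.Agent.S3013
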