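import Cfsg.Statements.S3014
import Cfsg.Agent.H2.Misc
import Cfsg.Agent.H2.PGroup2

set_option autoImplicit false
open Cfsg

namespace Cfsg.Agent.S3014
open Subgroup CfsgH2
open scoped commutatorElement

open CfsgFT CfsgLead

/-- Let G be a finite group and H ≤ M ≤ G subgroups such that for every g ∈ G the subgroup generated by H and g H g⁻¹ meets M exactly in H. If H is a maximal subgroup of M and M is a maximal subgroup of G, then the normal closure of H in G meets M exactly in H. -/
theorem result {G : Type*} [Group G] [Finite G] (H M : Subgroup G) (hHM : H ≤ M) (hcl : ∀ g : G, (H ⊔ H.map (MulAut.conj g).toMonoidHom) ⊓ M = H) (hmaxH : IsCoatom (H.subgroupOf M)) (hmaxM : IsCoatom M) : Subgroup.normalClosure (H : Set G) ⊓ M = H := by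
  simp only [cj_def] at hcl
  refine le_antisymm ?_ (le_inf le_normalClosure hHM)
  have hm : ∀ K, H ≤ K → K ≤ M → ¬ K ≤ H → K = M := fun K a b c => by
    have := hmaxH.2 (K.subgroupOf M) (lt_of_le_not_ge (subgroupOf_mono M a) fun e => c (le_of_subgroupOf_le b e))
    exact le_antisymm b (subgroupOf_eq_top.1 this)
  have n1 : M ≤ N(H) := fun g hg => mem_normalizer_of_cj_le
    ((le_inf le_sup_right (cj_le_of_mem hg hHM)).trans (hcl g).le)
  have hx : ∀ x ∈ M, x ∉ H → H ⊔ zpowers x = M := fun x a b => hm _ le_sup_left (sup_le hHM (zpowers_le.2 a))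
    fun e => b (e (mem_sup_right (mem_zpowers x)))
  have k : ∀ T : Subgroup G, T.Normal → H ≤ T → T ⊓ M = H → normalClosure (H : Set G) ⊓ M ≤ H := fun T a b c =>
    (inf_le_inf_right _ (normalClosure_le_normal b)).trans c.le
  by_cases e0 : N(H) = ⊤
  · exact k H (normal_of_top_le e0.ge) le_rfl (inf_eq_left.2 hHM)
  have e1 : N(H) = M := ((hmaxM.le_iff.1 n1).resolve_left e0)
  by_cases e : ∀ g, g ∉ M → M ⊓ cj g M ≤ H
  · obtain ⟨x, x1, x2⟩ := SetLike.not_le_iff_exists.1 fun h : M ≤ H => hmaxH.1 (subgroupOf_eq_top.2 h)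
    obtain ⟨K, a, -, b⟩ := exists_normal_inf_eq hHM (commutator_le_of_sup_zpowers (hx x x1 x2) n1
      (comm_le_left n1)) e
    exact k K a (b.ge.trans inf_le_left) b
  push Not at e
  obtain ⟨g, hg, e⟩ := e
  obtain ⟨x, x1, x2⟩ := SetLike.not_le_iff_exists.1 e
  have t1 : M ≤ N(H ⊔ cj g H) := hx x x1.1 x2 ▸ sup_le (le_norm_of_le le_sup_left) (le_normalizer_sup'
    (zpowers_le.2 (n1 x1.1)) (zpowers_le.2 (cj_le_norm_cj n1 g x1.2)))
  refine k _ (normal_of_top_le (((hmaxM.le_iff.1 t1).resolve_right fun h => hg ?_).ge)) le_sup_left (hcl g)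
  exact e1.le (mem_normalizer_of_cj_le (le_sup_right.trans ((le_inf le_rfl (le_normalizer.trans h.le)).trans
    (hcl g).le)))


end Cfsg.Agent.S3014
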