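import Cfsg.Statements.S3015
import Cfsg.Agent.S3014

set_option autoImplicit false
open Cfsg

namespace Cfsg.Agent.S3015
open Subgroup CfsgH2
open scoped commutatorElement

open CfsgFT CfsgLead

/-- Let G be a finite non-abelian simple group, M a maximal subgroup of G and H a normal subgroup of M of prime index in M. Then G is generated by H together with one of its conjugates. -/
theorem result {G : Type*} [Group G] [Finite G] [IsSimpleGroup G] (hG : ¬ IsMulCommutative G) (M H : Subgroup G) (hmaxM : IsCoatom M) (hHM : H ≤ M) (hHn : (H.subgroupOf M).Normal) (hidx : (H.relIndex M).Prime) : ∃ g : G, H ⊔ H.map (MulAut.conj g).toMonoidHom = ⊤ := by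
  simp only [cj_def]
  by_contra hne
  push Not at hne
  haveI : Fact (H.relIndex M).Prime := ⟨hidx⟩
  have n1 : M ≤ N(H) := le_norm_of_normal_subgroupOf hHM hHn
  have ns : ∀ K : Subgroup G, K ≠ ⊥ → K ≤ M → M ≤ N(K) → N(K) = M := fun K a b c =>
    (hmaxM.le_iff.1 c).resolve_left fun e => hmaxM.1 (top_le_iff.1
      (((normal_of_top_le e.ge).eq_bot_or_eq_top.resolve_left a).ge.trans b))
  have hlt := lt_of_relIndex_prime rfl hHM
  have nM : N(M) = M := ns M (fun e => not_lt_bot (e ▸ hlt)) le_rfl le_normalizer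
  have hcl : ∀ g, (H ⊔ cj g H) ⊓ M = H := fun g => by
    refine (eq_or_eq_of_relIndex_prime rfl (le_inf le_sup_left hHM) inf_le_right).resolve_right fun e => ?_
    have e1 : H ⊔ cj g H = M := (hmaxM.le_iff.1 (e.ge.trans inf_le_left)).resolve_left (hne g)
    have e2 : cj g H ≤ M := e1 ▸ le_sup_right
    have e3 : g ∉ M := fun h => hlt.ne (by rw [← e1, cj_eq_of_norm (n1 h), sup_idem])
    generalize hq : H.relIndex M = q at *
    have r1 : resIn q M ≤ H := resIn_le_of_relIndex n1 (k := 1) (by rw [hq, pow_one])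
    have r2 : resIn q H = resIn q M := resIn_eq_of_le_of_le r1 hHM
    have r3 : resIn q M = ⊥ := by
      by_contra h
      refine e3 ((ns _ h (resIn_le M) (le_normalizer_resIn M)).le (mem_normalizer_of_cj_le ?_))
      conv_lhs => rw [← r2, cj_resIn]
      exact resIn_mono e2
    have r4 : M ≤ N(cj g H) := le_normalizer_of_relIndex_prime (resIn_eq_bot_iff.1 r3) e2
      (relIndex_eq_of_card e2 (by rw [card_cj, ← hq, card_mul_relIndex hHM]))
    have r5 := ns _ (fun h => hlt.ne (by rw [← e1, h, sup_bot_eq])) e2 r4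
    exact e3 (nM.le (mem_normalizer_of_cj_le ((cj_le_norm_cj n1 g).trans r5.le)))
  have h1 := Cfsg.Agent.S3014.result H M hHM hcl (isCoatom_of_index_prime (p := H.relIndex M) rfl) hmaxM
  have h2 : H = ⊥ := le_bot_iff.1 (le_normalClosure.trans (((inferInstance : (normalClosure (H : Set G)).Normal
    ).eq_bot_or_eq_top.resolve_right fun e => hlt.ne (by rw [← h1, e, top_inf_eq])).le))
  subst h2
  have h3 : IsCyclic M := isCyclic_of_prime_card (p := (⊥ : Subgroup G).relIndex M) (by simp)
  obtain ⟨K, k1, k2, k3⟩ := exists_normal_inf_eq hHM (comm_eq_bot (comm_of_cyclic h3)).le fun g hg =>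
    ((eq_or_eq_of_relIndex_prime rfl bot_le inf_le_left).resolve_right fun e => hg (nM.le (mem_norm_iff_cj.2
      (eq_of_le_of_card_le (e.ge.trans inf_le_right) (card_cj g M).le).symm))).le
  rw [k1.eq_bot_or_eq_top.resolve_right fun e => hlt.ne (by rw [← k3, e, top_inf_eq])] at k2
  exact hG ⟨⟨fun a b => mem_cent.1 (cent_of_comm_eq_bot (le_bot_iff.1 k2) (mem_top b)) a (mem_top a)⟩⟩


end Cfsg.Agent.S3015
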