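import Cfsg.Statements.S3020
import Cfsg.Agent.H2.Coset

set_option autoImplicit false
open Cfsg

namespace Cfsg.Agent.S3020
open Subgroup CfsgH2
open scoped commutatorElement

open CfsgFT

/-- Let G be a finite group, p a prime and H an abelian p-subgroup of G that is extremely closed (for every g, the subgroup generated by H and g H g⁻¹ meets N_G(H) exactly in H). Then for every g ∈ G, the subgroup T generated by H and g H g⁻¹ is the product of H with O_{p'}(T), and H meets O_{p'}(T) trivially; that is, O_{p'}(T) is a normal p-complement of H in T. -/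
theorem result {G : Type*} [Group G] [Finite G] {p : ℕ} [Fact p.Prime] (H : Subgroup G) (hHp : IsPGroup p H) (hHab : IsMulCommutative H) (hcl : Cfsg.IsExtremelyClosed H) (g : G) (T : Subgroup G) (hT : T = H ⊔ H.map (MulAut.conj g).toMonoidHom) : H ⊔ (Cfsg.pPrimeCore p ↥T).map T.subtype = T ∧ H ⊓ (Cfsg.pPrimeCore p ↥T).map T.subtype = ⊥ := by
  have h1 : T ⊓ N(H) = H := hT ▸ hcl g
  have h2 : H ≤ T := hT ▸ le_sup_left
  have h3 : IsSylowIn p H T := IsSylowIn.of_maximal h2 hHp fun Q a b c => by
    by_contra e
    exact (lt_inf_normalizer a (lt_of_le_not_ge b e)).not_ge ((inf_le_inf_right _ c).trans h1.le)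
  have h4 := burnside_hasNPC h3 (h1.le.trans (comm_iff.1 hHab))
  rw [← Opi_compl_singleton_eq]
  exact ⟨by rw [sup_comm]; exact npc_sup h4 h3, (isPi_singleton_iff.2 hHp).inf_eq_bot (isPi_Opi _ _)⟩


end Cfsg.Agent.S3020
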