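import Cfsg.Statements.S3021
import Cfsg.Agent.H2.Coset

set_option autoImplicit false
open Cfsg

namespace Cfsg.Agent.S3021
open Subgroup CfsgH2
open scoped commutatorElement

open CfsgFT

/-- Let G be a finite group, p a prime and H a p-subgroup of G that is extremely closed (for every g, the subgroup generated by H and g H g⁻¹ meets N_G(H) exactly in H). Then every p-subgroup Q of G containing H has N_G(Q) ≤ N_G(H); in particular every Sylow p-subgroup P of G containing H normalizes H, and H is strongly closed in P with respect to G. -/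
theorem result {G : Type*} [Group G] [Finite G] {p : ℕ} [Fact p.Prime] (H : Subgroup G) (hHp : IsPGroup p H) (hcl : Cfsg.IsExtremelyClosed H) : (∀ Q : Subgroup G, IsPGroup p Q → H ≤ Q → Subgroup.normalizer (Q : Set G) ≤ Subgroup.normalizer (H : Set G)) ∧ ∀ P : Sylow p G, H ≤ (P : Subgroup G) → (P : Subgroup G) ≤ Subgroup.normalizer (H : Set G) ∧ Cfsg.IsStronglyClosed H (P : Subgroup G) := by
  have h1 : ∀ Q : Subgroup G, IsPGroup p Q → H ≤ Q → N(Q) ≤ N(H) := fun Q a b g hg => by
    refine mem_normalizer_of_cj_le (le_sup_right.trans (?_ : H ⊔ cj g H ≤ H))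
    by_contra e
    exact (lt_inf_normalizer (a.to_le (sup_le b (cj_le_of_norm hg b))) (lt_of_le_not_ge le_sup_left e)).ne'
      (hcl g)
  refine ⟨h1, fun P hP => ?_⟩
  have h2 := le_normalizer.trans (h1 P P.2 hP)
  exact ⟨h2, hP, fun x hx g hg => (hcl g).le ⟨mem_sup_right (conj_mem_cj g hx), h2 hg⟩⟩


end Cfsg.Agent.S3021
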