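import Cfsg.Statements.S3025
import Cfsg.Agent.H2.Misc
import Cfsg.Agent.S0016
import Mathlib.RingTheory.ZMod.UnitsCyclic

set_option autoImplicit false
open Cfsg

namespace Cfsg.Agent.S3025
open Subgroup CfsgH2
open scoped commutatorElement

open CfsgFT CfsgLead

/-- Let F be a finite group and H a nontrivial subgroup of F that is contained in every nontrivial subgroup of F which H normalizes. Then F has a nontrivial normal subgroup N contained in every nontrivial normal subgroup of F (a unique minimal normal subgroup), N is simple, and one of the following holds: C_F(N) = 1; or H = N has prime order p, C_F(N) is cyclic of order a power of p, and F/C_F(N) is cyclic of order dividing p − 1; or H = N has order 2, N is central in F, and F is a generalized quaternion group. -/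
theorem result {F : Type*} [Group F] [Finite F] (H : Subgroup F) (hH : H ≠ ⊥)
    (hmin : ∀ R : Subgroup F, R ≠ ⊥ → H ≤ Subgroup.normalizer (R : Set F) → H ≤ R) :
    ∃ N : Subgroup F, N.Normal ∧ N ≠ ⊥ ∧ (∀ M : Subgroup F, M.Normal → M ≠ ⊥ → N ≤ M) ∧ IsSimpleGroup ↥N ∧
      (Subgroup.centralizer (N : Set F) = ⊥ ∨
       (H = N ∧ (Nat.card N).Prime ∧ IsCyclic ↥(Subgroup.centralizer (N : Set F)) ∧
          (∃ k : ℕ, 1 ≤ k ∧ Nat.card ↥(Subgroup.centralizer (N : Set F)) = Nat.card N ^ k) ∧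
          (∃ g : F, Subgroup.centralizer (N : Set F) ⊔ Subgroup.zpowers g = ⊤) ∧
          (Subgroup.centralizer (N : Set F)).index ∣ Nat.card N - 1) ∨
       (H = N ∧ Nat.card N = 2 ∧ Subgroup.centralizer (N : Set F) = ⊤ ∧
          ∃ k : ℕ, 1 ≤ k ∧ Nonempty (F ≃* QuaternionGroup (2 ^ k)))) := by
  obtain ⟨K, hK⟩ : ∃ K, K = ncl ⊤ H := ⟨_, rfl⟩
  haveI n0 : K.Normal := hK ▸ normal_of_top_le (le_norm_ncl ⊤ H)
  have k1 : H ≤ K := hK ▸ le_ncl _ _
  have k2 : K ≠ ⊥ := fun e => hH (le_bot_iff.1 (k1.trans e.le))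
  have k3 : ∀ R : Subgroup F, R ≠ ⊥ → K ≤ N(R) → K ≤ R := fun R a b => hK ▸ ncl_le_iff.2 fun g _ =>
    cj_le_iff_le_cj_inv.2 (hmin _ (by rwa [Ne, cj_eq_bot_iff]) (k1.trans (le_norm_cj_of_norm b
      (by rw [normalizer_eq_top]; trivial))))
  haveI : Nontrivial K := (Subgroup.nontrivial_iff_ne_bot K).2 k2
  haveI hs : IsSimpleGroup K := ⟨fun R hR => or_iff_not_imp_left.2 fun e => by
    have := k3 (R.map K.subtype) (by rwa [Ne, map_eq_bot_iff_of_injective _ K.subtype_injective])
      (le_norm_map_subtype R)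
    rw [eq_top_iff]
    intro y _
    obtain ⟨z, hz, e⟩ := this y.2
    rwa [← show z = y from Subtype.ext e]⟩
  refine ⟨K, n0, k2, fun M a b => k3 M b (le_top.trans (by rw [normalizer_eq_top])), hs,
    or_iff_not_imp_left.2 fun hc => ?_⟩
  have c1 : K ≤ C(K) := k3 _ hc (le_normalizer_centralizer' le_normalizer)
  haveI := comm_iff.2 c1
  letI : CommGroup K := { (inferInstance : Group _) with mul_comm := mul_comm' }
  have hp : (Nat.card K).Prime := IsSimpleGroup.prime_card
  haveI : Fact (Nat.card K).Prime := ⟨hp⟩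
  have e1 : H = K := (eq_or_eq_of_relIndex_prime (M := ⊥) (p := Nat.card K) (by simp) bot_le k1).resolve_left hH
  have c2 : ∀ R : Subgroup F, R ≠ ⊥ → R ≤ C(K) → K ≤ R := fun R a b => k3 R a (le_norm_of_cent' b)
  have c3 : IsPGroup (Nat.card K) C(K) := isPi_singleton_iff.1 (isPi_of_forall_prime_orderOf fun x a b => by
    have := card_dvd_of_le (c2 _ (zpowers_ne_bot' fun e => by simp [e, Nat.not_prime_one] at b) (zpowers_le.2 a))
    rw [Nat.card_zpowers] at this
    exact ((Nat.prime_dvd_prime_iff_eq hp b).1 this).symm)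
  have c4 : ∀ R : Subgroup C(K), Nat.card R = Nat.card K → R = K.subgroupOf C(K) := fun R e => by
    have := eq_of_le_of_card_le (c2 (R.map C(K).subtype) (ne_bot_of_dvd_card hp (by rw [CfsgH1.card_map_subtype, e]))
      (map_subtype_le R)) (by rw [CfsgH1.card_map_subtype, e])
    exact (subgroupOf_map_subtype_self R).symm.trans (congrArg (fun X : Subgroup F => X.subgroupOf C(K)) this.symm)
  have hker : (MulAut.conjNormal : F →* MulAut K).ker = C(K) := by
    ext g
    rw [MonoidHom.mem_ker, mem_cent, MulEquiv.ext_iff]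
    refine ⟨fun h a ha => ?_, fun h a => Subtype.ext ?_⟩
    · have := congrArg Subtype.val (h ⟨a, ha⟩)
      exact (mul_inv_eq_iff_eq_mul.1 this).symm
    · change g * a * g⁻¹ = a
      rw [← h a a.2, mul_inv_cancel_right]
  have i1 : C(K).index ∣ Nat.card K - 1 := by
    rw [← hker, index_ker, ← Nat.totient_prime hp, ← IsCyclic.card_mulAut]
    exact card_subgroup_dvd_card _
  have cyc : IsCyclic C(K) → H = K ∧ (Nat.card K).Prime ∧ IsCyclic C(K) ∧
      (∃ k : ℕ, 1 ≤ k ∧ Nat.card C(K) = Nat.card K ^ k) ∧ (∃ g : F, C(K) ⊔ zpowers g = ⊤) ∧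
      C(K).index ∣ Nat.card K - 1 := fun h => by
    refine ⟨e1, hp, h, ?_, ?_, i1⟩
    · obtain ⟨k, hk⟩ := c3.exists_card_eq
      refine ⟨k, Nat.one_le_iff_ne_zero.2 ?_, hk⟩
      rintro rfl
      exact hc (card_eq_one.1 hk)
    · haveI := ZMod.isCyclic_units_prime hp
      haveI : IsCyclic (MulAut K) := isCyclic_of_injective (IsCyclic.mulAutMulEquiv K).toMonoidHom
        (IsCyclic.mulAutMulEquiv K).injective
      obtain ⟨⟨_, g, rfl⟩, hg⟩ := IsCyclic.exists_generator (α := (MulAut.conjNormal : F →* MulAut K).range)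
      refine ⟨g, eq_top_iff.2 fun y _ => ?_⟩
      obtain ⟨m, hm⟩ := hg ⟨_, y, rfl⟩
      have : y * (g ^ m)⁻¹ ∈ C(K) := by
        rw [← hker, MonoidHom.mem_ker, map_mul, map_inv, map_zpow, mul_inv_eq_one]
        exact (congrArg Subtype.val hm).symm
      simpa using mul_mem (mem_sup_left this) (mem_sup_right (zpow_mem_zpowers g m))
  rcases Cfsg.Agent.S0016.result _ c3 (fun A B a b => (c4 A a).trans (c4 B b).symm) with h | ⟨h, n, ⟨e⟩⟩
  · exact Or.inl (cyc h)
  rcases n with _ | n
  · haveI := QuaternionGroup.quaternionGroup_one_isCyclic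
    exact Or.inl (cyc (isCyclic_of_injective e.toMonoidHom e.injective))
  · have i2 : C(K) = ⊤ := index_eq_one.1 (by simpa [h] using i1)
    exact Or.inr ⟨e1, h, i2, n + 1, by omega, ⟨(topEquiv.symm.trans (MulEquiv.subgroupCongr i2.symm)).trans e⟩⟩


end Cfsg.Agent.S3025
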