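import Cfsg.Statements.S3027
import Cfsg.Agent.H2.Coset

set_option autoImplicit false
open Cfsg

namespace Cfsg.Agent.S3027
open Subgroup CfsgH2
open scoped commutatorElement

open CfsgFT CfsgLead

/-- Let G be a finite group and D a normal subgroup of G such that G/D is perfect (that is, G = G′D). Then among the subnormal subgroups B of G with BD = G there is a least one, and it is normal in G. -/
theorem result {G : Type*} [Group G] [Finite G] (D : Subgroup G) [D.Normal] (hperf : ⁅(⊤ : Subgroup G), (⊤ : Subgroup G)⁆ ⊔ D = ⊤) :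
    ∃ B : Subgroup G, B.Normal ∧ B ⊔ D = ⊤ ∧ ∀ B' : Subgroup G, B'.IsSubnormal → B' ⊔ D = ⊤ → B ≤ B' := by
  have hD : ∀ X : Subgroup G, X ≤ N(D) := fun X => le_top.trans (by rw [normalizer_eq_top])
  have k0 : ∀ A B : Subgroup G, A ⊔ D = ⊤ → B ⊔ D = ⊤ → ⁅A, B⁆ ⊔ D = ⊤ := fun A B a b => by
    have e : ∀ X : Subgroup G, X ⊔ D = ⊤ ↔ X.map (QuotientGroup.mk' D) = ⊤ := fun X => by
      rw [← comap_injective (QuotientGroup.mk'_surjective D) |>.eq_iff, comap_map_eq, QuotientGroup.ker_mk',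
        comap_top]
    rw [e, map_commutator] at hperf ⊢
    rw [(e ⊤).1 (top_sup_eq _)] at hperf
    rwa [(e _).1 a, (e _).1 b]
  have k1 : ∀ L : Subgroup G, L ⊔ D = ⊤ → ∃ M, (M ≤ L ∧ L ≤ N(M) ∧ M ⊔ D = ⊤) ∧ N(L) ≤ N(M) ∧
      ∀ M', M' ≤ L → L ≤ N(M') → M' ⊔ D = ⊤ → M ≤ M' := fun L hL => by
    obtain ⟨M, -, a, b⟩ := exists_minimal_subgroup (Φ := fun M => M ≤ L ∧ L ≤ N(M) ∧ M ⊔ D = ⊤)
      ⟨le_rfl, le_normalizer, hL⟩
    have c : ∀ M', M' ≤ L → L ≤ N(M') → M' ⊔ D = ⊤ → M ≤ M' := fun M' c1 c2 c3 =>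
      (b (M ⊓ M') ⟨inf_le_left.trans a.1, le_normalizer_inf' a.2.1 c2, top_le_iff.1 ((k0 _ _ a.2.2 c3).ge.trans
        (sup_le_sup_right (le_inf (comm_le_left (c1.trans a.2.1)) (comm_le_right (a.1.trans c2))) _))⟩
        inf_le_left).ge.trans inf_le_right
    refine ⟨M, a, fun g hg => mem_normalizer_of_cj_le ?_, c⟩
    rw [cj_le_iff_le_cj_inv]
    refine c _ (cj_le_of_norm (inv_mem hg) a.1) (le_norm_cj_of_norm a.2.1 (inv_mem hg)) ?_
    rw [← cj_eq_of_normal g⁻¹ D, ← cj_sup, a.2.2, cj_top]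
  obtain ⟨B, ⟨-, b1, b2⟩, -, b3⟩ := k1 ⊤ (top_sup_eq _)
  obtain ⟨M, ⟨m1, -, m2⟩, m3, m4⟩ := k1 B b2
  have b4 : B ≤ M := b3 M le_top (b1.trans m3) m2
  refine ⟨B, normal_of_top_le b1, b2, fun B' h => ?_⟩
  refine SN.induction (P := fun K => K ⊔ D = ⊤ → B ≤ K) (fun _ => le_top) (fun H K a b _ c d => ?_)
    (SN.top_iff.2 h)
  have e := (c (top_le_iff.1 (d.ge.trans (sup_le_sup_right a _)))).trans b
  exact b4.trans ((m4 (B ⊓ H) inf_le_left (le_normalizer_inf' le_normalizer e) (top_le_iff.1 ((k0 _ _ b2 d).ge.trans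
    (sup_le_sup_right (le_inf (comm_le_left (le_top.trans b1)) (comm_le_right e)) _)))).trans inf_le_right)


end Cfsg.Agent.S3027
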