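import Cfsg.Statements.S3028
import Cfsg.Agent.H2.Misc

set_option autoImplicit false
open Cfsg

namespace Cfsg.Agent.S3028
open Subgroup CfsgH2
open scoped commutatorElement

open CfsgFT CfsgLead

/-- Let G be a finite group, p a prime, S a Sylow p-subgroup of G and A₁, A₂ subnormal subgroups of G. Then the join of S ∩ A₁ and S ∩ A₂ is a Sylow p-subgroup of the join of A₁ and A₂; equivalently ⟨A₁, A₂⟩ ∩ S = ⟨A₁ ∩ S, A₂ ∩ S⟩. -/
theorem result {G : Type*} [Group G] [Finite G] {p : ℕ} [Fact p.Prime] (S : Sylow p G) (A₁ A₂ : Subgroup G)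
    (h₁ : A₁.IsSubnormal) (h₂ : A₂.IsSubnormal) :
    (A₁ ⊔ A₂) ⊓ (S : Subgroup G) = (A₁ ⊓ (S : Subgroup G)) ⊔ (A₂ ⊓ (S : Subgroup G)) := by
  have h := CfsgH1.sn_sup (SN.top_iff.2 h₁) (SN.top_iff.2 h₂)
  refine le_antisymm ((inf_comm _ _).le.trans ((syl_sup_sn _ A₁ A₂ _ (SN.of_isSubnormal h₁ le_sup_left)
    (SN.of_isSubnormal h₂ le_sup_right) rfl (sylow_inf_sn (IsSylowIn.of_sylow_top S) h)).trans
      (sup_le_sup (inf_le_inf_left _ inf_le_left) (inf_le_inf_left _ inf_le_left))))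
    (sup_le (inf_le_inf_right _ le_sup_left) (inf_le_inf_right _ le_sup_right))


end Cfsg.Agent.S3028
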