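import Cfsg.Statements.S3053
import Cfsg.Agent.H2.Mx1

set_option autoImplicit false
open Cfsg

namespace Cfsg.Agent.S3053
open Subgroup CfsgH2
open scoped commutatorElement

open CfsgFT CfsgH2 Subgroup

/-- Let p be an odd prime and G a finite group with a Sylow p-subgroup P that is extraspecial of order p³ and exponent p². Then the centre of P is strongly closed in P with respect to G: a G-conjugate of an element of Z(P) that lies in P already lies in Z(P). In particular a nontrivial central element of P is conjugate in G to no noncentral element of P. -/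
theorem result {G : Type*} [Group G] [Finite G]
    {p : ℕ} [Fact p.Prime] (hp : p ≠ 2) (P : Sylow p G) (hE : Cfsg.IsExtraspecial p ↥P)
    (hcard : Nat.card P = p ^ 3) (hexp : Monoid.exponent ↥P = p ^ 2) :
    Cfsg.IsStronglyClosed ((Subgroup.center ↥P).map (P : Subgroup G).subtype) (P : Subgroup G) := by
  obtain ⟨z, h, -⟩ := ES.of_isExtraspecial hE
  refine h.map_center.symm ▸ (?_ : IsStronglyClosed (zpowers z) (P : Subgroup G))
  obtain ⟨a, a1⟩ : ∃ a : P, a ^ p ≠ 1 := by
    by_contra c
    push Not at c
    have := Nat.le_of_dvd (Fact.out : p.Prime).pos (hexp ▸ Monoid.exponent_dvd_of_forall_pow_eq_one c)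
    have := (Fact.out : p.Prime).two_le
    nlinarith
  refine ⟨h.zle, fun w hw g hg => ?_⟩
  by_cases w1 : w = 1
  · simp [w1]
  have e := zpowers_eq_of_prime h.ord hw w1
  have := sc_extra hp (IsSylowIn.of_sylow_top P) h hcard a.2 (fun e => a1 (Subtype.ext e)) (g := g)
    (zpowers_le.2 hg (cj_zpowers g w ▸ conj_mem_cj g (e.ge (mem_zpowers z))))
  exact zpowers_le.2 this (cj_zpowers g z ▸ conj_mem_cj g hw)


end Cfsg.Agent.S3053
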