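import Cfsg.Statements.S3061
import Cfsg.Agent.H2.CD
import Cfsg.Agent.H2.PGroup2

set_option autoImplicit false
open Cfsg

namespace Cfsg.Agent.S3061
open Subgroup CfsgH2
open scoped commutatorElement

open CfsgFT

section
variable {G : Type*} [Group G] {p : ℕ}

/-- ambient form of the defining family of `D*(S)` -/
def DS (S A : Subgroup G) : Prop :=
  A ≤ S ∧ A ≤ C(A) ∧ ∀ x ∈ S, ⁅⁅A ⊔ zpowers x, A ⊔ zpowers x⁆, A ⊔ zpowers x⁆ = ⊥ → x ∈ C(A)

theorem class_two {A : Subgroup G} {x : G} (hA : A ≤ C(A)) (h : ⁅zpowers x, A⁆ ≤ C(A) ⊓ C1(x)) :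
    ⁅⁅A ⊔ zpowers x, A ⊔ zpowers x⁆, A ⊔ zpowers x⁆ = ⊥ := by
  have n1 : A ≤ N(C(A ⊔ zpowers x)) := le_norm_of_cent' (cent_anti le_sup_left)
  have n2 : zpowers x ≤ N(C(A ⊔ zpowers x)) := le_norm_of_cent' (cent_anti le_sup_right)
  rw [← cent_zpowers, ← cent_sup] at h
  exact comm_eq_bot (comm_sup_left_le (comm_sup_right_le ((comm_eq_bot hA).le.trans bot_le)
    ((commutator_comm_le _ _).trans h) n1 n2) (comm_sup_right_le h ((comm_eq_bot
      (comm_of_cyclic inferInstance)).le.trans bot_le) n1 n2) n1 n2)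

theorem DS.mono {S T A : Subgroup G} (h : DS S A) (h1 : A ≤ T) (h2 : T ≤ S) : DS T A :=
  ⟨h1, h.2.1, fun x hx => h.2.2 x (h2 hx)⟩

theorem DS.cj {S A : Subgroup G} (h : DS S A) (g : G) : DS (cj g S) (cj g A) := by
  refine ⟨cj_mono g h.1, cj_le_cent_cj h.2.1 g, ?_⟩
  rintro _ ⟨x, hx, rfl⟩ e
  rw [← cj_centralizer]
  refine conj_mem_cj g (h.2.2 x hx ((cj_eq_bot_iff (g := g)).1 ?_))
  rw [cj_commutator, cj_commutator, cj_sup, cj_zpowers]
  exact e

theorem DS.sup {S A B : Subgroup G} (h : DS S A) (h' : DS S B) (hc : B ≤ C(A)) : DS S (A ⊔ B) := by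
  refine ⟨sup_le h.1 h'.1, sup_le (le_cent_sup h.2.1 (cent_symm hc)) (le_cent_sup hc h'.2.1), fun x hx e => ?_⟩
  have k : ∀ X : Subgroup G, X ≤ A ⊔ B → ⁅⁅X ⊔ zpowers x, X ⊔ zpowers x⁆, X ⊔ zpowers x⁆ = ⊥ := fun X hX =>
    le_bot_iff.1 ((commutator_mono (commutator_mono (sup_le_sup_right hX _) (sup_le_sup_right hX _))
      (sup_le_sup_right hX _)).trans e.le)
  rw [cent_sup]
  exact ⟨h.2.2 x hx (k A le_sup_left), h'.2.2 x hx (k B le_sup_right)⟩

theorem ds_bot (S : Subgroup G) : DS S ⊥ := ⟨bot_le, bot_le, fun _ _ _ => by rw [cent_bot]; trivial⟩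

theorem ds_map {S : Subgroup G} {A : Subgroup S} : A ∈ dStarFamily S ↔ DS S (A.map S.subtype) := by
  have k : ∀ x : S, ⁅⁅A ⊔ zpowers x, A ⊔ zpowers x⁆, A ⊔ zpowers x⁆ = ⊥ ↔
      ⁅⁅A.map S.subtype ⊔ zpowers (x : G), A.map S.subtype ⊔ zpowers (x : G)⁆,
        A.map S.subtype ⊔ zpowers (x : G)⁆ = ⊥ := fun x => by
    rw [← map_eq_bot_iff_of_injective _ S.subtype_injective, map_commutator, map_commutator, Subgroup.map_sup,
      MonoidHom.map_zpowers]; rfl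
  refine ⟨fun h => ⟨map_subtype_le _, map_le_cent _ (comm_iff.1 h.1), fun x hx e => ?_⟩,
    fun h => ⟨isMulCommutative_of_forall fun a ha b hb => Subtype.ext (mem_cent.1 (h.2.1 (mem_map_of_mem _ hb)) _
      (mem_map_of_mem _ ha)), fun x e a ha => Subtype.ext (mem_cent.1 (h.2.2 x x.2 ((k x).1 e)) _
        (mem_map_of_mem _ ha))⟩⟩
  rintro _ ⟨a, ha, rfl⟩
  exact congrArg Subtype.val (h.2 ⟨x, hx⟩ ((k ⟨x, hx⟩).2 e) a ha)

theorem ds_top {A : Subgroup G} : A ∈ dStarFamily G ↔ DS ⊤ A :=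
  ⟨fun h => ⟨le_top, comm_iff.1 h.1, fun x _ e => h.2 x e⟩, fun h => ⟨comm_iff.2 h.2.1, fun x e => h.2.2 x trivial e⟩⟩

variable [Finite G] [Fact p.Prime]

theorem DS.cent_of_norm {S A B : Subgroup G} (h : DS S A) (hS : IsPGroup p S) (h1 : B ≤ S) (h2 : B ≤ C(B))
    (h3 : A ≤ N(B)) : B ≤ C(A) := by
  by_contra e
  obtain ⟨x, hx, hx1, -, hx2⟩ := exists_central_mod (hS.to_le (sup_le h.1 h1)) le_sup_right
    (sup_le h3 le_normalizer) e
  refine hx1 (h.2.2 x (h1 hx) (class_two h.2.1 (le_trans (commutator_zpowers_le (N := C(A) ⊓ B)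
    (le_norm_of_comm h2 inf_le_right hx) fun c hc => ?_)
    (inf_le_inf_left _ (le_cent1_iff.2 (h2 hx))))))
  have := inv_mem (show c * x * c⁻¹ * x⁻¹ ∈ C(A) ⊓ B from ⟨hx2 c (mem_sup_left hc),
    B.mul_mem (conj_mem_of_mem_normalizer (h3 hc) hx) (inv_mem hx)⟩)
  simpa [mul_assoc] using this

theorem exists_ds_max {S : Subgroup G} (hS : IsPGroup p S) :
    ∃ D, DS S D ∧ ∀ B, DS S B → B ≤ D := by
  obtain ⟨D, -, a, b⟩ := exists_maximal_subgroup (ds_bot S)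
  have k : ∀ B, DS S B → B ≤ N(D) → B ≤ D := fun B h1 h2 => le_sup_right.trans
    (b _ (a.sup h1 (cent_symm (h1.cent_of_norm hS a.1 a.2.1 h2))) le_sup_left).le
  have n : S ≤ N(D) := by
    by_contra e
    obtain ⟨g, hg, hg'⟩ := SetLike.exists_of_lt (lt_inf_normalizer hS
      (lt_of_le_not_ge (inf_le_left : S ⊓ N(D) ≤ S) fun h => e (h.trans inf_le_right)))
    have c := a.cj g
    rw [cj_eq_of_mem hg.1] at c
    exact hg' ⟨hg.1, mem_normalizer_of_cj_le (k _ c ((cj_le_of_norm hg.2 (le_inf a.1 le_normalizer)).trans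
      inf_le_right))⟩
  exact ⟨D, a, fun B h => k B h (h.1.trans n)⟩

theorem dStarOf_spec {S : Subgroup G} (hS : IsPGroup p S) :
    DS S (dStarOf S) ∧ ∀ B, DS S B → B ≤ dStarOf S := by
  obtain ⟨D, a, b⟩ := exists_ds_max hS
  have e : dStarOf S = D := le_antisymm (CfsgH1.map_sSup_le _ _ _ fun A hA => b _ (ds_map.1 hA))
    (le_map_of_subgroupOf_le a.1 (le_sSup (ds_map.2 (by rwa [map_subgroupOf_eq_of_le a.1]))))
  rw [e]; exact ⟨a, b⟩

end

/-- Let S be a finite p-group. Then D*(S) itself belongs to the family that generates it: D*(S) is abelian, and every x ∈ S with ⟨D*(S), x⟩ of class at most two centralizes D*(S). Hence D*(S) is the unique maximal member of that family. -/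
theorem result {S : Type*} [Group S] [Finite S] {p : ℕ} [Fact p.Prime] (hS : IsPGroup p S) :
    Cfsg.dStar S ∈ Cfsg.dStarFamily S := by
  obtain ⟨D, a, b⟩ := exists_ds_max (hS.to_subgroup ⊤)
  rw [show dStar S = D from le_antisymm (sSup_le fun A hA => b _ (ds_top.1 hA)) (le_sSup (ds_top.2 a))]
  exact ds_top.2 a


end Cfsg.Agent.S3061
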