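import Cfsg.Statements.S3060
import Cfsg.Agent.S3061
import Cfsg.Agent.H9.PStab2

set_option autoImplicit false
open Cfsg

namespace Cfsg.Agent.S3060
open Subgroup CfsgH2
open scoped commutatorElement

open CfsgFT Cfsg.Agent.S3061

/-- The D*-Theorem. For a finite p-group S let D*(S) be the subgroup generated by the abelian subgroups A of S such that every x ∈ S with ⟨A, x⟩ of nilpotency class at most two centralizes A. Let p be an odd prime and H a finite p-stable group with Sylow p-subgroup S. Here H is p-stable in the following sense: the largest normal p-subgroup O_p(H) contains its centralizer in H, and for every normal p-subgroup P of H, every element acting quadratically on P has image in O_p(H/C_H(P)). Then D*(S) is a normal subgroup of H. -/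
theorem result {G : Type*} [Group G] [Finite G] {p : ℕ} [Fact p.Prime] (hp : p ≠ 2)
    (hc : Subgroup.centralizer (Cfsg.pCore p G : Set G) ≤ Cfsg.pCore p G)
    (hst : ∀ (P : Subgroup G) [P.Normal], IsPGroup p P → Cfsg.IsPStableOn p P) (S : Sylow p G) :
    (Cfsg.dStarOf (S : Subgroup G)).Normal := by
  obtain ⟨a, b⟩ := dStarOf_spec S.2
  generalize dStarOf (S : Subgroup G) = D at *
  have n : (S : Subgroup G) ≤ N(D) := fun g hg => mem_normalizer_of_cj_le (b _ (by
    have := a.cj g
    rwa [cj_eq_of_mem hg] at this))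
  have hT := CfsgH1.isPGroup_pCore p G
  have t1 : pCore p G ≤ S := CfsgH1.pCore_le_sylow S
  have d1 : D ≤ pCore p G := CfsgH9.PSt.le_pCore_of_comm hst hc (comm_iff.2 a.2.1) (t1.trans n)
  obtain ⟨a', b'⟩ := dStarOf_spec hT
  have w1 : ncl ⊤ D ≤ dStarOf (pCore p G) := ncl_le_iff.2 fun g _ => b' _ (by
    have := (a.mono d1 t1).cj g
    rwa [cj_eq_of_normal] at this)
  obtain ⟨W, hW⟩ : ∃ W, W = ncl ⊤ D := ⟨_, rfl⟩
  rw [← hW] at w1
  haveI : W.Normal := hW ▸ normal_of_top_le (le_norm_ncl ⊤ D)
  have w2 : W ≤ C(W) := cent_mono a'.2.1 w1 w1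
  have w3 : W ≤ S := w1.trans (a'.1.trans t1)
  have w4 : D ≤ W := hW ▸ le_ncl _ _
  have w5 : W ≤ D := b W ⟨w3, w2, fun x hx e => by
    have q : ⁅⁅W, zpowers x⁆, zpowers x⁆ = ⊥ := le_bot_iff.1 ((commutator_mono
      (commutator_mono le_sup_left le_sup_right) le_sup_right).trans e.le)
    have x1 := hst W (S.2.to_le w3) x q
    have s1 := (IsSylowIn.of_sylow_top S).map (QuotientGroup.mk' C(W))
    rw [map_top_of_surjective _ (QuotientGroup.mk'_surjective _)] at s1
    have s2 : pCore p (G ⧸ C(W)) ≤ (S : Subgroup G).map (QuotientGroup.mk' C(W)) :=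
      Op_top.ge.trans (Op_le_sylow s1)
    refine zpowers_le.1 (hW ▸ cent_symm (ncl_le_iff.2 fun g _ => ?_))
    rw [cj_le_iff_le_cj_inv, cj_centralizer, cj_zpowers, cent_zpowers, le_cent1_iff]
    have q' := congrArg (cj g⁻¹) q
    rw [cj_commutator, cj_commutator, cj_zpowers, cj_eq_of_normal, cj_bot] at q'
    obtain ⟨y, hy, ey⟩ := s2 ((inferInstance : (pCore p (G ⧸ C(W))).Normal).conj_mem _ x1
      (QuotientGroup.mk' C(W) g⁻¹))
    generalize hx' : g⁻¹ * x * g⁻¹⁻¹ = x' at *
    have ey' : y⁻¹ * x' ∈ C(W) := QuotientGroup.eq.1 (by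
      rw [← hx', QuotientGroup.mk_mul, QuotientGroup.mk_mul, QuotientGroup.mk_inv]; exact ey)
    have c2 : ⁅W, zpowers x'⁆ ≤ W := comm_le_left (le_top.trans (by rw [normalizer_eq_top]))
    have c1 : ⁅zpowers y, W⁆ ≤ ⁅W, zpowers x'⁆ := commutator_zpowers_le (by
      have := mul_mem (normalizer_commutator_ge_right W (zpowers x') (mem_zpowers x'))
        (inv_mem (le_norm_of_cent (cent_anti c2) ey'))
      simpa using this) fun c hc => by
        have e1 : y = x' * (y⁻¹ * x')⁻¹ := by group
        have e2 := mem_cent.1 (inv_mem ey') c hc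
        rw [e1, mul_assoc x', ← e2, Subgroup.commutator_comm]
        simpa [mul_assoc] using mul_mul_inv_mul_inv_mem_commutator (mem_zpowers x') hc
    have c3 : ⁅W, zpowers x'⁆ ≤ C1(y) := le_cent1_iff.2 (by
      have := mul_mem (cent_symm (cent_of_comm_eq_bot q') (mem_zpowers x')) (inv_mem (cent_anti c2 ey'))
      simpa using this)
    have c4 := a.2.2 y hy (class_two a.2.1 ((commutator_mono le_rfl w4).trans (c1.trans
      (le_inf (c2.trans (w2.trans (cent_anti w4))) c3))))
    simpa using mul_mem c4 (cent_anti w4 ey')⟩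
  rwa [le_antisymm w4 w5]


end Cfsg.Agent.S3060
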