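import Cfsg.Statements.S3062
import Cfsg.Agent.H9.SC
import Cfsg.Agent.S3061

set_option autoImplicit false
open Cfsg

namespace Cfsg.Agent.S3062

/-- Let S be a finite p-group, J(S) the subgroup generated by the abelian subgroups of S of largest order and Z(J(S)) its centre. Then Z(S) ≤ D*(S) ≤ Z(J(S)), and every maximal normal abelian subgroup of S contains D*(S). -/
theorem result {S : Type*} [Group S] [Finite S] {p : ℕ} [Fact p.Prime]
    (hS : IsPGroup p S) :
    Subgroup.center S ≤ Cfsg.dStar S ∧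
    Cfsg.dStar S ≤ Cfsg.thompsonSubgroupA S ⊓ Subgroup.centralizer (Cfsg.thompsonSubgroupA S : Set S) ∧
    ∀ A : Subgroup S, A.Normal → IsMulCommutative A →
      (∀ B : Subgroup S, B.Normal → IsMulCommutative B → A ≤ B → B = A) → Cfsg.dStar S ≤ A := by
  open Subgroup CfsgH2 CfsgH9 CfsgFT Cfsg.Agent.S3061 in
  have a := ds_top.1 (S3061.result hS)
  haveI : (dStar S).Normal := ⟨fun x hx g => by
    have := a.cj g
    rw [cj_top] at this
    exact le_sSup (ds_top.2 this) (conj_mem_cj g hx)⟩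
  have k : ∀ A : Subgroup S, IsMulCommutative A → dStar S ≤ normalizer (A : Set S) → A ≤ centralizer (dStar S : Set S) :=
    fun A h1 h2 => a.cent_of_norm (hS.to_subgroup ⊤) le_top (isMulCommutative_iff_le_centralizer.1 h1) h2
  have k2 : ∀ A, MaxA 0 ⊤ A → dStar S ≤ normalizer (A : Set S) → dStar S ≤ A := fun A h1 h2 x hx =>
    h1.mem_of_comm trivial (le_centralizer_iff.1 (k A h1.ea.1 h2) hx) (pow_zero x)
  have k3 : ∀ A : Subgroup S, MaxA 0 ⊤ A → dStar S ≤ normalizer (A : Set S) := fun U u => by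
    by_contra u'
    obtain ⟨A, ⟨a1, a2⟩, a3⟩ := Set.exists_max_image {A : Subgroup S | MaxA 0 ⊤ A ∧ ¬ dStar S ≤ normalizer (A : Set S)}
      (fun A => Nat.card (A ⊓ dStar S : Subgroup S)) (Set.toFinite _) ⟨U, u, u'⟩
    have c := le_centralizer_iff_bot.1 a.2.1
    obtain ⟨A', b1, b2, b3, -⟩ := a1.replace (hS.to_subgroup ⊤) (.inl rfl) le_rfl le_normalizer le_top le_normalizer_of_normal
      (c.le.trans bot_le) (c.symm ▸ inferInstance) (.inr (isMulCommutative_iff_le_centralizer.2 a.2.1))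
      (fun x m b hb => by rw [← a.2.1 hb x m.2, mul_inv_cancel_right]; exact m.1) a2
    exact a2 ((k2 A' b1 (by_contra fun t => (a3 A' ⟨b1, t⟩).not_gt (card_lt_of_lt b2))).trans b3)
  refine ⟨le_sSup ⟨inferInstance, fun x _ a ha => (mem_center_iff.1 ha x).symm⟩, ?_, fun A _ h1 h2 => ?_⟩
  · obtain ⟨A, hA⟩ := exists_maxA (U := (⊤ : Subgroup S)) 0
    rw [thompsonA_eq, ← J_top]
    exact le_inf ((k2 A hA (k3 A hA)).trans hA.le_J) (le_centralizer_iff.1 (J_le_iff.2 fun B b => k B b.ea.1 (k3 B b)))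
  · have c := k A h1 le_normalizer_of_normal
    exact le_sup_right.trans (h2 (A ⊔ dStar S) inferInstance (isMulCommutative_iff_le_centralizer.2 (sup_le (le_cent_sup
      (isMulCommutative_iff_le_centralizer.1 h1) c) (le_cent_sup (le_centralizer_iff.1 c) a.2.1))) le_sup_left).le

end Cfsg.Agent.S3062
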