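import Cfsg.Statements.S3063
import Cfsg.Agent.H9.SC

set_option autoImplicit false
open Cfsg

namespace Cfsg.Agent.S3063

/-- A weak replacement Theorem for metabelian p-groups: let S be a finite p-group whose derived subgroup is abelian and A an abelian subgroup of S of largest possible order. Then the normal closure of A in S contains an abelian subgroup B of the same order as A that is normal in S. -/
theorem result {S : Type*} [Group S] [Finite S] {p : ℕ} [Fact p.Prime]
    (hS : IsPGroup p S) (hmeta : IsMulCommutative ↥(commutator S))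
    (A : Subgroup S) (hA : A ∈ Cfsg.maxAbelianSubgroups S) :
    ∃ B ∈ Cfsg.maxAbelianSubgroups S, B.Normal ∧ B ≤ Subgroup.normalClosure (A : Set S) := by
  open Subgroup CfsgH2 CfsgH9 CfsgFT in
  rw [maxAbelian_eq, ← maxA_top] at hA
  obtain ⟨U, ⟨u1, u2⟩, u3⟩ := Set.exists_min_image {U : Subgroup S | MaxA 0 ⊤ U ∧ U ≤ normalClosure (A : Set S)}
    (fun U => Nat.card (ncl ⊤ U)) (Set.toFinite _) ⟨A, hA, le_normalClosure⟩
  have l : ncl ⊤ U ≤ normalClosure (A : Set S) := ncl_le u2 le_normalizer_of_normal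
  haveI := normal_of_top_le (le_norm_ncl ⊤ U)
  have u4 := u1.mono (le_ncl ⊤ U) le_top
  have up : ∀ B, MaxA 0 (ncl ⊤ U) B → MaxA 0 ⊤ B := fun B b => u1.up (le_ncl ⊤ U) le_top b
  have k : ∀ B, MaxA 0 (ncl ⊤ U) B → ncl ⊤ U ≤ ncl ⊤ U ⊓ commutator S ⊔ B := fun B b =>
    have t : ncl ⊤ B ≤ ncl ⊤ U := ncl_le b.le le_normalizer_of_normal
    (eq_of_le_of_card_le t (u3 B ⟨up B b, b.le.trans l⟩)).ge.trans ((ncl_eq_sup _ _).le.trans (sup_le_sup_right
      (le_inf ((comm_le_ncl _ _).trans t) (commutator_mono le_rfl le_top)) _))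
  generalize ncl ⊤ U = M at *
  have cV : M ⊓ commutator S ≤ centralizer ((M ⊓ commutator S : Subgroup S) : Set S) :=
    inf_le_right.trans ((isMulCommutative_iff_le_centralizer.1 hmeta).trans (centralizer_le inf_le_right))
  obtain ⟨B, b1, b2⟩ := Set.exists_max_image {B : Subgroup S | MaxA 0 M B}
    (fun B => Nat.card (B ⊓ (M ⊓ commutator S) : Subgroup S)) (Set.toFinite _) ⟨U, u4⟩
  have c := le_centralizer_iff_bot.1 cV
  have n : M ≤ normalizer (B : Set S) := (k B b1).trans (sup_le (by_contra fun t => by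
    obtain ⟨A', a1, a2, -⟩ := MaxA.replace (hS.to_subgroup ⊤) (.inl rfl) le_top le_normalizer_of_normal le_top le_normalizer_of_normal
      b1 (c.le.trans bot_le) (c.symm ▸ inferInstance) (.inr (isMulCommutative_iff_le_centralizer.2 cV))
      (fun x m b hb => by rw [← cV hb x m.2, mul_inv_cancel_right]; exact m.1) t
    exact (b2 A' a1).not_gt (card_lt_of_lt a2)) le_normalizer)
  rw [maxAbelian_eq]
  refine ⟨B, maxA_top.1 (up B b1), normal_of_top_le fun x _ => mem_normalizer_of_conj_mem fun b hb => ?_, b1.le.trans l⟩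
  have h := rep_of_mem (b := x) b1.ea.1 b1.le n (le_normalizer_of_normal (mem_top x))
  have b3 := MaxA.cj b1 x⁻¹
  rw [cj_eq_of_normal] at b3
  have m : ∀ a ∈ B, a * x⁻¹ * a⁻¹ * x ∈ M ⊓ commutator S := fun a ha => ⟨sup_le b1.le b3.le (h.c_mem_sup ha), by
    simpa [commutator_def] using mul_mul_inv_mul_inv_mem_commutator (mem_top a) (mem_top x⁻¹)⟩
  have s := k _ (MaxA.of_card b1 (h.star_le_sup.trans (sup_le b1.le b3.le)) (ea_zero_iff.2 (h.comm_star_of fun a ha c hc =>
    cV (m c hc) _ (m a ha))) h.card_le)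
  have s' : M ≤ M ⊓ commutator S ⊔ B ⊓ cb B x := s.trans (sup_le le_sup_left (sup_le le_sup_right ((closure_le _).2 (by
    rintro _ ⟨a, ha, rfl⟩; exact mem_sup_left (m a ha)))))
  obtain ⟨v, v1, y, y1, rfl⟩ := (mem_sup_of_normalizer le_normalizer_of_normal).1 (s' (MaxA.le b1 hb))
  have v2 : v ∈ B := by simpa using B.mul_mem hb (B.inv_mem y1.1)
  exact mem_cb.1 (mul_mem (b3.mem_of_comm v1.1 (centralizer_le (b3.le.trans (k B b1)) (by
    rw [cent_sup]; exact ⟨cV v1, isMulCommutative_iff_le_centralizer.1 b1.ea.1 v2⟩)) (pow_zero v)) y1.2)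

end Cfsg.Agent.S3063
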