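import Cfsg.Statements.S3064
import Cfsg.Agent.H2.Misc
import Cfsg.Agent.H1.Frob

set_option autoImplicit false
open Cfsg

namespace Cfsg.Agent.S3064
open Subgroup CfsgH2
open scoped commutatorElement

open CfsgFT CfsgLead

theorem aux {p : ℕ} [Fact p.Prime] (n : ℕ) : ∀ (G : Type*) [Group G] [Finite G], Nat.card G = n → ∀ x : G,
    IsPGroup p (zpowers x) → (∀ g : G, g * x * g⁻¹ ∈ C1(x) → g * x * g⁻¹ = x) →
    (∀ H : Subgroup G, (Nat.card H).Coprime p → (∀ h ∈ H, x * h * x⁻¹ ∈ H) → ∀ h ∈ H, x * h = h * x) →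
    x ∈ center G := by
  induction n using Nat.strong_induction_on with | h n ih => ?_
  intro G _ _ hn x hx hU hb
  have k : ∀ H : Subgroup G, H ≠ ⊤ → x ∈ H → H ≤ C1(x) := fun H h1 h2 y hy => by
    have := ih _ (by rw [← hn, ← Subgroup.card_top (G := G)]; exact card_lt_of_lt h1.lt_top) H rfl ⟨x, h2⟩
      ((hx.comap_subtype (K := H)).to_le (zpowers_le.2 (mem_zpowers x))) (fun g hg => Subtype.ext (hU g
        (mem_cent1.2 (congrArg Subtype.val (mem_cent1.1 hg))))) fun K a b h hh => Subtype.ext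
          (hb (K.map H.subtype) (by rwa [CfsgH1.card_map_subtype]) (by
            rintro _ ⟨k, hk, rfl⟩; exact mem_map_of_mem _ (b k hk)) h (mem_map_of_mem _ hh))
    exact mem_cent1'.2 (congrArg Subtype.val (mem_center_iff.1 this ⟨y, hy⟩))
  by_contra hne
  have z1 : center G ≤ C1(x) := center_le_centralizer _
  have hs := QuotientGroup.mk'_surjective (center G)
  have c0 : ((C1(x)).map (QuotientGroup.mk' (center G))).comap (QuotientGroup.mk' (center G)) = C1(x) := by
    rw [comap_map_eq, QuotientGroup.ker_mk', sup_eq_left.2 z1]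
  have x1 : QuotientGroup.mk' (center G) x ≠ 1 := fun e => hne ((QuotientGroup.eq_one_iff _).1 e)
  have hF : IsFrobeniusComplement ((C1(x)).map (QuotientGroup.mk' (center G))) := by
    refine ⟨fun e => x1 (mem_bot.1 (e ▸ mem_map_of_mem _ (self_mem_cent1 x))), fun e => hne ?_, fun g hg => ?_⟩
    · rw [e, comap_top] at c0
      exact mem_center_iff.2 fun y => mem_cent1'.1 (c0.le (mem_top y))
    obtain ⟨g, rfl⟩ := hs g
    rw [← cj_eq_smul, ← map_cj, eq_bot_iff]
    rintro _ ⟨⟨y, hy, rfl⟩, hy'⟩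
    have y1 : y ∈ cj g C1(x) := by
      have : y ∈ ((cj g C1(x)).map (QuotientGroup.mk' (center G))).comap (QuotientGroup.mk' (center G)) := hy'
      rwa [comap_map_eq, QuotientGroup.ker_mk', sup_eq_left.2 (le_cj_of_norm
        (by rw [normalizer_eq_top]; trivial) z1)] at this
    rw [cj_centralizer_singleton] at y1
    have e : zpowers x ⊔ zpowers (g * x * g⁻¹) = ⊤ := by
      by_contra e
      refine hg (mem_map_of_mem _ (mem_cent1'.2 ?_))
      rw [← mul_inv_eq_iff_eq_mul]
      exact hU g (k _ e (mem_sup_left (mem_zpowers x)) (mem_sup_right (mem_zpowers _)))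
    refine (QuotientGroup.eq_one_iff _).2 (mem_center_iff.2 fun w => mem_cent.1 (?_ : y ∈ C(⊤)) w (mem_top w))
    rw [← e, cent_sup, cent_zpowers, cent_zpowers]
    exact ⟨hy, y1⟩
  obtain ⟨K, -, k1, k2, k3, k4⟩ := CfsgH1.frob_data hF
  have d1 := CfsgH1.card_dvd_card_sub_one (le_top.trans (by rw [normalizer_eq_top])) k4
  have d2 : ¬ p ∣ Nat.card K := fun h => by
    have a : p ∣ Nat.card ((C1(x)).map (QuotientGroup.mk' (center G))) := (dvd_card_of_isPGroup
      (hx.map (QuotientGroup.mk' (center G))) (by rw [MonoidHom.map_zpowers]; exact zpowers_ne_bot' x1)).trans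
      (card_dvd_of_le (map_mono (zpowers_le.2 (self_mem_cent1 x))))
    exact (Fact.out : p.Prime).one_lt.ne' (Nat.dvd_one.1 ((Nat.dvd_sub_iff_right Nat.card_pos h).1 (a.trans d1)))
  obtain ⟨P, hP⟩ := IsSylowIn.exists_sylowIn p (K.comap (QuotientGroup.mk' (center G)))
  have p1 : P ≤ center G := by
    have := (hP.map (QuotientGroup.mk' (center G))).eq_bot_iff.2 (by rwa [map_comap_eq_self_of_surjective hs])
    rwa [Subgroup.map_eq_bot_iff, QuotientGroup.ker_mk'] at this
  have p2 := hasNPC_subgroup_iff.1 (burnside_hasNPC hP (cent_symm (p1.trans (center_le_centralizer _))))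
  haveI := resIn_normal (p := p) (K.comap (QuotientGroup.mk' (center G)))
  have p3 : resIn p (K.comap (QuotientGroup.mk' (center G))) ≤ C1(x) := fun y hy => mem_cent1.2
    (hb _ ((Nat.Prime.coprime_iff_not_dvd Fact.out).2 p2).symm (fun h hh => this.conj_mem h hh x) y hy)
  have p4 := map_mono (f := QuotientGroup.mk' (center G)) (hP.sup_resIn.ge.trans (sup_le (p1.trans z1) p3))
  rw [map_comap_eq_self_of_surjective hs] at p4
  exact k3 (le_bot_iff.1 (k2.disjoint.le_bot.trans' (le_inf le_rfl p4)))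

/-- Let S be a Sylow p-subgroup of the finite group G and x an element of S such that (i) x is the only G-conjugate of x lying in S, and (ii) x centralizes every subgroup of order prime to p that it normalizes. Then x lies in the centre of G. -/
theorem result {G : Type*} [Group G] [Finite G] {p : ℕ} [Fact p.Prime]
    (S : Sylow p G) (x : G) (hx : x ∈ S)
    (hU : ∀ g : G, g⁻¹ * x * g ∈ S → g⁻¹ * x * g = x)
    (hb : ∀ H : Subgroup G, (Nat.card H).Coprime p → (∀ h ∈ H, x * h * x⁻¹ ∈ H) → ∀ h ∈ H, x * h = h * x) :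
    x ∈ Subgroup.center G := by
  refine aux _ G rfl x (S.2.to_le (zpowers_le.2 hx)) (fun g hg => ?_) hb
  have hp : IsPGroup p (zpowers x) := S.2.to_le (zpowers_le.2 hx)
  obtain ⟨k, hk⟩ := exists_cj_le_sylow S (pg_sup hp (cj_zpowers g x ▸ IsPGroup_cj hp g)
    (zpowers_le.2 (cent1_le_norm_zpowers x hg)))
  have a := hU k⁻¹ (by rw [inv_inv]; exact hk (conj_mem_cj k (mem_sup_left (mem_zpowers x))))
  have b := hU (k * g)⁻¹ (by
    rw [show (k * g)⁻¹⁻¹ * x * (k * g)⁻¹ = k * (g * x * g⁻¹) * k⁻¹ by group]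
    exact hk (conj_mem_cj k (mem_sup_right (mem_zpowers _))))
  calc _ = k⁻¹ * ((k * g)⁻¹⁻¹ * x * (k * g)⁻¹) * k := by group
    _ = k⁻¹ * (k⁻¹⁻¹ * x * k⁻¹) * k := by rw [a, b]
    _ = _ := by group


end Cfsg.Agent.S3064
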