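import Cfsg.Statements.S3065
import Cfsg.Agent.H1.GAut

set_option autoImplicit false
open Cfsg

namespace Cfsg.Agent.S3065

/-- Let G be a finite non-abelian simple group with a nontrivial Sylow 2-subgroup S (that is, G has even order). If the automorphism group of S is solvable, then the outer automorphism group Out(G) = Aut(G)/Inn(G) is solvable. -/
theorem result {G : Type*} [Group G] [Finite G] [IsSimpleGroup G]
    (hG : ¬ IsMulCommutative G) (S : Sylow 2 G) (hS1 : (S : Subgroup G) ≠ ⊥) (hS : Group.IsSolvable (MulAut ↥S)) :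
    Group.IsSolvable (Cfsg.Out G) := by
  open Subgroup CfsgH1 CfsgFT CfsgH2 Pointwise in
  haveI : Fact (Nat.Prime 2) := ⟨Nat.prime_two⟩
  have h0 : pPrimeCore 2 G = ⊥ := by
    rcases IsSimpleGroup.eq_bot_or_eq_top_of_normal (pPrimeCore 2 G) inferInstance with h | h
    · exact h
    · exfalso
      refine not_dvd_card_pPrimeCore 2 G ((dvd_card_of_isPGroup S.isPGroup' hS1).trans ?_)
      rw [h]; exact card_dvd_of_le le_top
  let M : Subgroup (MulAut G) := MulAction.stabilizer (MulAut G) (S : Subgroup G)
  have hM : ∀ φ : M, ∀ s, s ∈ (S : Subgroup G) ↔ (φ : MulAut G) s ∈ (S : Subgroup G) := by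
    intro φ s
    have h : (φ : MulAut G) • (S : Subgroup G) = S := φ.2
    conv_rhs => rw [← h]
    exact (smul_mem_pointwise_smul_iff (a := (φ : MulAut G))).symm
  let f : M →* MulAut S :=
    { toFun := fun φ =>
        { toFun := fun s => ⟨(φ : MulAut G) s, (hM φ s).1 s.2⟩
          invFun := fun s => ⟨(φ⁻¹ : M).1 s, (hM φ⁻¹ s).1 s.2⟩
          left_inv := fun s => by ext; simp
          right_inv := fun s => by ext; simp
          map_mul' := fun s t => by ext; simp }
      map_one' := by ext; simp
      map_mul' := fun a b => by ext; simp }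
  have hk : Group.IsSolvable (f.ker.map M.subtype) := by
    refine gaut_solv h0 (IsSylowIn.of_sylow_top S) _ ?_
    rintro _ ⟨φ, hφ, rfl⟩ s hs
    have := congrArg (fun e : MulAut S => ((e ⟨s, hs⟩ : S) : G)) (MonoidHom.mem_ker.1 hφ)
    exact this
  have hk' : Group.IsSolvable f.ker :=
    isSolvable_of_equiv (f.ker.equivMapOfInjective _ M.subtype_injective).symm
  have hMs : Group.IsSolvable M := by
    haveI := hS
    haveI := hk'
    exact solvable_of_ker_le_range f.ker.subtype f (by simp)
  refine isSolvable_quotient_of_sup_eq_top ?_ hMs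
  rw [eq_top_iff]
  intro φ _
  have h1 : IsSylowIn 2 ((S : Subgroup G).map φ.toMonoidHom) ⊤ := by
    have := (IsSylowIn.of_sylow_top S).map φ.toMonoidHom
    rwa [Subgroup.map_top_of_surjective _ φ.surjective] at this
  obtain ⟨g, -, hg⟩ := h1.exists_cj_eq (IsSylowIn.of_sylow_top S)
  have h2 : MulAut.conj g * φ ∈ M := by
    change (MulAut.conj g * φ) • (S : Subgroup G) = S
    rw [mul_smul]
    exact hg
  have h3 : φ = (MulAut.conj g)⁻¹ * (MulAut.conj g * φ) := by group
  rw [h3]
  exact mul_mem (mem_sup_right (inv_mem ⟨g, rfl⟩)) (mem_sup_left h2)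

end Cfsg.Agent.S3065
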