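import Cfsg.Statements.S3071
import Cfsg.Agent.H9.Control3

set_option autoImplicit false
open Cfsg

namespace Cfsg.Agent.S3071

/-- Let p be an odd prime and S a Sylow p-subgroup of the finite group G such that, for every subgroup P with Z(S) ≤ P ≤ S, the normalizer N_G(P) has no section isomorphic to SL₂(p). Let J(S) be the subgroup generated by the abelian subgroups of S of largest order. Then two elements of S are conjugate in G if and only if they are conjugate in N_G(Z(J(S))). -/
theorem result {G : Type*} [Group G] [Finite G] {p : ℕ} [Fact p.Prime]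
    (hp : p ≠ 2) (S : Sylow p G)
    (hfree : ∀ P : Subgroup G, (S : Subgroup G) ⊓ Subgroup.centralizer ((S : Subgroup G) : Set G) ≤ P → P ≤ S →
      ¬ ∃ (H K : Subgroup G) (hK : (K.subgroupOf H).Normal), H ≤ Subgroup.normalizer (P : Set G) ∧
        Nonempty ((H ⧸ K.subgroupOf H) ≃* Matrix.SpecialLinearGroup (Fin 2) (ZMod p))) :
    ∀ x ∈ S, ∀ y ∈ S, (∃ g : G, g * x * g⁻¹ = y) ↔
      ∃ n ∈ Subgroup.normalizer (Cfsg.centerThompsonAOf (S : Subgroup G) : Set G), n * x * n⁻¹ = y := by
  open CfsgH9 Subgroup in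
  rw [centerThompsonAOf_eq]
  have := (sfun_ZJ (dvd_zero p)).ctrl_of_local S (isStronglyClosed_self _) fun U T₀ h1 _ h2 h3 h4 T D' h5 _ => by
    refine ctrl_ZJ hp (not_sec_qd_of_not_sec_sl2 fun k => hfree U ?_ h1 (sec_iff.1 (sec_subtype.1 k))) T h5 (Or.inl rfl)
    have k := h3.le (CfsgH2.IsSylowIn.of_sylow_top S)
    have k2 : (S : Subgroup G) ⊓ centralizer ((S : Subgroup G) : Set G) ≤ T₀ ⊓ centralizer (T₀ : Set G) :=
      le_inf ((inf_le_inf_left _ (centralizer_le h2)).trans k) (inf_le_right.trans (centralizer_le h2))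
    rcases h4 with rfl | rfl
    · exact k2.trans inf_le_left
    · rw [inf_eq_right.2 h2]; exact k2.trans center_le_ZJ_zero
  intro x hx y hy
  refine ⟨fun ⟨g, e⟩ => ?_, fun ⟨n, _, e⟩ => ⟨n, e⟩⟩
  subst e
  exact this.elt x hx g (mem_top g) hy

end Cfsg.Agent.S3071
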