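import Cfsg.Statements.S3074
import Cfsg.Agent.H9.Qd
import Cfsg.Agent.H2.Blackburn
import Cfsg.Agent.H1.PG1

set_option autoImplicit false
open Cfsg

namespace Cfsg.Agent.S3074

/-- Let p be an odd prime. A Sylow p-subgroup of Qd(p), the split extension of an elementary abelian group of order p² by SL₂(p) acting naturally, is extraspecial of order p³ and exponent p. -/
theorem result (p : ℕ) [Fact p.Prime] (hp : p ≠ 2) (P : Sylow p ↥(Cfsg.qd p)) :
    Cfsg.IsExtraspecial p ↥P ∧ Nat.card P = p ^ 3 ∧ Monoid.exponent ↥P = p := by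
  obtain ⟨e, h⟩ := CfsgH9.exists_sylow_qd (MulEquiv.refl _) P
  have h1 : Nat.card (P : Subgroup (qd p)) = p ^ 3 := by
    rw [← h, Subgroup.card_map_of_injective e.injective, CfsgH9.card_qU, Nat.card_zmod]
  have h2 := CfsgH9.not_comm_of_qd (MulEquiv.refl _) P
  have h3 : ∀ x ∈ (P : Subgroup (qd p)), x ^ p = 1 := fun x hx => by
    obtain ⟨y, hy, rfl⟩ := h.ge hx
    rw [← map_pow, CfsgH9.pow_qU hp hy, map_one]
  obtain ⟨h4, h5⟩ := CfsgH2.der_of_card_cube h1 h2
  refine ⟨CfsgH1.xsp_iff.2 ⟨P.2, h5.symm, h5 ▸ h4, fun x hx => h3 x hx ▸ one_mem _⟩, h1, ?_⟩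
  have : Nontrivial (P : Subgroup (qd p)) := (Subgroup.nontrivial_iff_ne_bot _).2 fun k => h2 (k ▸ bot_le)
  exact (Monoid.exponent_eq_prime_iff Fact.out).2 fun g hg => orderOf_eq_prime (Subtype.ext (h3 _ g.2)) hg

end Cfsg.Agent.S3074
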