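import Cfsg.Statements.S3075
import Cfsg.Agent.H9.Inv

set_option autoImplicit false
open Cfsg

namespace Cfsg.Agent.S3075

/-- Let p be an odd prime and N a finite group with a normal elementary abelian subgroup A of order p² that is its own centralizer in N, such that N/A is isomorphic to SL₂(p) (over any field F with p elements). Then N splits over A: some subgroup U of N satisfies A ∩ U = 1 and AU = N. -/
theorem result {N : Type*} [Group N] [Finite N] {p : ℕ} [Fact p.Prime] (hp : p ≠ 2)
    (A : Subgroup N) [A.Normal] (hAcomm : IsMulCommutative A) (hAcard : Nat.card A = p ^ 2) (hAexp : Monoid.exponent ↥A = p)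
    (hAself : Subgroup.centralizer (A : Set N) = A)
    {F : Type*} [Field F] [Fintype F] (hF : Fintype.card F = p) (e : N ⧸ A ≃* Matrix.SpecialLinearGroup (Fin 2) F) :
    ∃ U : Subgroup N, A ⊓ U = ⊥ ∧ A ⊔ U = ⊤ := by
  open Subgroup CfsgH2 CfsgH9 CfsgFT Matrix in
  have := Fact.mk Nat.prime_two
  have pr : p.Prime := Fact.out
  let f := e.toMonoidHom.comp (QuotientGroup.mk' A)
  have hf : Function.Surjective f := e.surjective.comp (QuotientGroup.mk'_surjective A)
  have ker : ∀ x, f x = 1 ↔ x ∈ A := fun x => e.map_eq_one_iff.trans (QuotientGroup.eq_one_iff x)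
  have pA : IsPGroup p A := .of_card hAcard
  have h2 : (2 : F) ≠ 0 := fun h => by
    have c := charP_of_card_eq_prime hF
    exact hp ((Nat.prime_dvd_prime_iff_eq pr Nat.prime_two).1 ((CharP.cast_eq_zero_iff F p 2).1 h))
  have z1 : (-1 : SpecialLinearGroup (Fin 2) F) ≠ 1 := fun h => h2 (by
    have := congrFun (congrFun (congrArg Subtype.val h) 0) 0
    simp at this
    linear_combination -this)
  obtain ⟨t, ht⟩ := hf (-1)
  obtain ⟨t, -, ⟨k, t1⟩, t2⟩ := exists_p_lift (q := 2) f t (k := 1) (ht ▸ orderOf_eq_prime (p := 2) (by simp) z1)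
  rw [ht] at t2
  have z := isPGroup_zpowers_of_orderOf t1
  have cop : (Nat.card A).Coprime 2 := hAcard ▸ ((Nat.coprime_primes pr Nat.prime_two).2 hp).pow_left _
  have s : IsSylowIn 2 (zpowers t) (A ⊔ zpowers t) := ⟨le_sup_right, z, by
    rw [relIndex_sup_norm' le_normalizer_of_normal]
    exact fun d => Nat.prime_two.coprime_iff_not_dvd.1 cop.symm (d.trans (relIndex_dvd_card _ _))⟩
  have e1 : A ⊔ zpowers t = (zpowers (-1)).comap f := by
    rw [← t2, ← MonoidHom.map_zpowers, comap_map_eq, sup_comm]; congr 1; exact (Subgroup.ext ker).symm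
  have n : (A ⊔ zpowers t).Normal := e1 ▸ (⟨fun x hx g => by
    obtain ⟨i, rfl⟩ := hx
    simp only [((Commute.neg_one_right g).zpow_right i).eq, mul_inv_cancel_right]
    exact ⟨i, rfl⟩⟩ : (zpowers (-1 : SpecialLinearGroup (Fin 2) F)).Normal).comap f
  have top : A ⊔ normalizer (zpowers t : Set N) = ⊤ := eq_top_iff.2 ((sylow_frattini_sup s le_top
    le_normalizer_of_normal).ge.trans (sup_le (sup_le_sup_left le_normalizer _) (inf_le_right.trans le_sup_right)))
  refine ⟨normalizer (zpowers t : Set N), by_contra fun c => ?_, top⟩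
  have cA := isMulCommutative_iff_le_centralizer.1 hAcomm
  have cp := (CfsgH1.IsPGroup.coprime_card_of_coprime z cop)
  have l : A ⊓ normalizer (zpowers t : Set N) ≤ A ⊓ centralizer (zpowers t : Set N) := le_inf inf_le_left
    (le_centralizer_iff_bot.2 (eq_bot_iff.2 ((CfsgH1.disjoint_of_isPGroup_of_coprime z cop).le_bot.trans' (le_inf
    ((commutator_comm _ _).le.trans (commutator_le_of_normalizer inf_le_right)) ((commutator_mono inf_le_left le_rfl).trans
    (commutator_le_of_normalizer le_normalizer_of_normal))))))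
  have s1 := CfsgH1.centralizer_inf_commutator_eq_bot (le_normalizer_of_normal : zpowers t ≤ normalizer (A : Set N)) cp
  have s2 := CfsgH1.commutator_sup_centralizer (le_normalizer_of_normal : zpowers t ≤ normalizer (A : Set N)) cp
    (Or.inr CfsgH1.isSolvable_of_isMulCommutative)
  have lA : ⁅A, zpowers t⁆ ≤ A := commutator_le_of_normalizer le_normalizer_of_normal
  have k : ∀ X Y : Subgroup N, X ≤ A → Y ≤ A → X ⊓ Y = ⊥ → Y ≠ ⊥ → normalizer (zpowers t : Set N) ≤ normalizer (X : Set N) →
      commutator N ≤ centralizer (X : Set N) := fun X Y x y d y0 m => by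
    have m' : ⊤ ≤ normalizer (X : Set N) := top.ge.trans (sup_le (cA.trans ((centralizer_le x).trans
      (centralizer_le_normalizer _))) m)
    refine (commutator_mono m' m').trans (commutator_normalizer_le_centralizer_of_cyclic (isCyclic_of_card_le_prime (pA.to_le x)
      (Nat.le_of_mul_le_mul_right ?_ pr.pos)))
    rw [← sq, ← hAcard]
    refine le_trans (Nat.mul_le_mul_left _ (Nat.le_of_dvd Nat.card_pos (dvd_card_of_isPGroup (pA.to_le y) y0))) ?_
    rw [← CfsgH1.card_sup_of_disjoint (y.trans (cA.trans ((centralizer_le x).trans (centralizer_le_normalizer _)))) (disjoint_iff.2 d)]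
    exact card_le_of_le (sup_le x y)
  have cc : commutator N ≤ A := by
    rw [← hAself, ← s2, cent_sup]
    exact le_inf (k _ _ lA inf_le_left ((inf_comm _ _).trans s1) (fun b => c (eq_bot_iff.2 (l.trans b.le)))
      (le_normalizer_commutator' le_normalizer_of_normal le_rfl)) (k _ _ inf_le_left lA s1 (fun b => z1 (t2.symm.trans ((ker t).2
      (hAself.le (le_centralizer_iff.1 (le_centralizer_iff_bot.2 b) (mem_zpowers t)))))) (le_normalizer_inf'
      le_normalizer_of_normal (normalizer_le_normalizer_centralizer _)))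
  obtain ⟨a, ha⟩ := hf ⟨!![1, 1; 0, 1], by simp [det_fin_two]⟩
  obtain ⟨b, hb⟩ := hf ⟨!![1, 0; 1, 1], by simp [det_fin_two]⟩
  have := (ker _).2 (cc (commutator_mem_commutator (mem_top a) (mem_top b)))
  rw [map_commutatorElement, commutatorElement_eq_one_iff_mul_comm, ha, hb] at this
  have h' : (!![1, 1; 0, 1] * !![1, 0; 1, 1] : Matrix (Fin 2) (Fin 2) F) = !![1, 0; 1, 1] * !![1, 1; 0, 1] :=
    congrArg Subtype.val this
  simpa using congrFun (congrFun h' 0) 0

end Cfsg.Agent.S3075
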