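import Cfsg.Statements.S3076
import Cfsg.Agent.H9.Chain
import Cfsg.Agent.H1.Solv
import Cfsg.Agent.H1.Fact

set_option autoImplicit false
open Cfsg

namespace Cfsg.Agent.S3076

/-- Let P be a Sylow p-subgroup of the finite group G and H ≤ P a subgroup with N_P(H) a Sylow p-subgroup of N_G(H). Let N be the preimage in N_G(H) of O_p(N_G(H)/C_G(H)). Then H is a Sylow p-subgroup of N if and only if C_P(H) ≤ H and O_{p',p}(N_G(H)) = H·C_G(H). -/
theorem result {G : Type*} [Group G] [Finite G] {p : ℕ} [Fact p.Prime]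
    (P : Sylow p G) (H : Subgroup G) (hHP : H ≤ (P : Subgroup G))
    (hSyl : ¬ p ∣ ((P : Subgroup G) ⊓ Subgroup.normalizer (H : Set G)).relIndex (Subgroup.normalizer (H : Set G)))
    [hC : ((Subgroup.centralizer (H : Set G)).subgroupOf (Subgroup.normalizer (H : Set G))).Normal] :
    (H ≤ ((Cfsg.pCore p (↥(Subgroup.normalizer (H : Set G)) ⧸
              (Subgroup.centralizer (H : Set G)).subgroupOf (Subgroup.normalizer (H : Set G)))).comap
            (QuotientGroup.mk' _)).map (Subgroup.normalizer (H : Set G)).subtype ∧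
      ¬ p ∣ H.relIndex (((Cfsg.pCore p (↥(Subgroup.normalizer (H : Set G)) ⧸
              (Subgroup.centralizer (H : Set G)).subgroupOf (Subgroup.normalizer (H : Set G)))).comap
            (QuotientGroup.mk' _)).map (Subgroup.normalizer (H : Set G)).subtype)) ↔
    ((P : Subgroup G) ⊓ Subgroup.centralizer (H : Set G) ≤ H ∧
      (Cfsg.pPrimePCore p ↥(Subgroup.normalizer (H : Set G))).map (Subgroup.normalizer (H : Set G)).subtype =
        H ⊔ Subgroup.centralizer (H : Set G)) := by
  open Subgroup CfsgH1 CfsgH2 CfsgFT CfsgH9 in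
    set K := (pCore p (N(H) ⧸ (C(H)).subgroupOf N(H))).comap (QuotientGroup.mk' ((C(H)).subgroupOf N(H))) with hK
    have hH := P.2.to_le hHP
    have s : IsSylowIn p ((P : Subgroup G) ⊓ N(H)) N(H) := ⟨inf_le_right, P.2.to_inf_left, hSyl⟩
    have l := Subgroup.centralizer_le_normalizer (H : Set G)
    have k1 : ∀ x ∈ K, ∃ k, x ^ p ^ k ∈ (C(H)).subgroupOf N(H) := fun x hx => by
      obtain ⟨k, hk⟩ := CfsgH1.isPGroup_pCore p _ ⟨_, hx⟩
      exact ⟨k, (QuotientGroup.eq_one_iff _).1 (congrArg Subtype.val hk)⟩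
    have k2 : ∀ L ≤ N(H), N(H) ≤ N(L) → (∀ x ∈ L, ∃ k, x ^ p ^ k ∈ C(H)) → L ≤ K.map N(H).subtype := fun L h1 h2 h3 => by
      haveI := (normal_subgroupOf_iff_le_normalizer h1).2 h2
      haveI := (inferInstance : (L.subgroupOf N(H)).Normal).map _ (QuotientGroup.mk'_surjective ((C(H)).subgroupOf N(H)))
      rw [← map_subgroupOf_eq_of_le h1]
      refine map_mono (map_le_iff_le_comap.1 (CfsgH1.le_pCore ?_))
      rintro ⟨_, x, hx, rfl⟩
      obtain ⟨k, hk⟩ := h3 x hx
      exact ⟨k, Subtype.ext ((QuotientGroup.eq_one_iff _).2 hk)⟩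
    have c := k2 _ l (CfsgH2.normalizer_le_normalizer_centralizer H) fun x hx => ⟨0, by simpa using hx⟩
    constructor
    · rintro ⟨h1, h2⟩
      have s2 : IsSylowIn p H (K.map N(H).subtype) := ⟨h1, hH, h2⟩
      have e := s2.eq_of_le (P.2.to_inf_left (K := K.map N(H).subtype)) (le_inf hHP h1) inf_le_right
      obtain ⟨a1, a2, a3⟩ := radical_core hH s fun L h1 h2 h3 => (inf_le_inf_left _ (k2 L h1 h2 h3)).trans e.le
      exact ⟨(inf_le_inf_left _ c).trans e.le, le_antisymm (a3.ge.trans (sup_le (le_sup_of_le_right a2) le_sup_left))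
        (sup_le (le_sup_right.trans a3.le) a1)⟩
    · rintro ⟨h1, h2⟩
      have h3 := k2 H le_normalizer le_rfl fun x hx => by
        obtain ⟨k, hk⟩ := hH ⟨x, hx⟩
        exact ⟨k, by rw [show x ^ p ^ k = 1 from congrArg Subtype.val hk]; exact one_mem _⟩
      have h4 : K ≤ pPrimePCore p N(H) := CfsgH1.le_pPrimePCore (by
        rintro ⟨_, x, hx, rfl⟩
        obtain ⟨k, hk⟩ := k1 x hx
        have : x ^ p ^ k ∈ pPrimePCore p N(H) := by
          obtain ⟨y, hy, e⟩ := (le_sup_right.trans h2.ge) hk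
          exact (Subtype.ext e : y = x ^ p ^ k) ▸ hy
        obtain ⟨j, hj⟩ := isPGroup_quotient_pPrimePCore p N(H) ⟨_, _, this, rfl⟩
        exact ⟨k + j, Subtype.ext (by rw [pow_add, pow_mul]; simpa using congrArg Subtype.val hj)⟩)
      have s1 := s.inf_of_normalizer' l (CfsgH2.normalizer_le_normalizer_centralizer H)
      rw [inf_assoc, inf_eq_right.2 l] at s1
      rw [le_antisymm ((map_mono h4).trans h2.le) (sup_le h3 c), (Fac.of_norm l).symm.relIndex le_sup_right le_sup_left |>.symm,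
        ← inf_relIndex_right]
      exact ⟨le_sup_left, s1.not_dvd_of_le (le_inf h1 inf_le_right) inf_le_right⟩

end Cfsg.Agent.S3076
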