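import Cfsg.Statements.S3078
import Cfsg.Agent.H9.SC
import Cfsg.Agent.H9.NPC

set_option autoImplicit false
open Cfsg

namespace Cfsg.Agent.S3078

/-- A replacement Theorem for abelian subgroups of p-groups, p odd. Let G be a finite p-group with p odd, A an abelian subgroup of G, and B a subgroup of nilpotency class at most 2 with [B, B] ≤ A, such that A normalizes B but B does not normalize A. Then there is an abelian subgroup A* of G of the same order as A with A ∩ B strictly contained in A* ∩ B, A* contained in N_G(A) and in the normal closure of A, the exponent of A* dividing the exponent of A, and with the subgroup generated by the elements of order dividing p in A of order at most that of the corresponding subgroup of A* (the rank of A is at most the rank of A*). -/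
theorem result {G : Type*} [Group G] [Finite G] {p : ℕ} [Fact p.Prime] (hp : p ≠ 2) (hG : IsPGroup p G) (A B : Subgroup G) (hA : IsMulCommutative A) (hB2 : ⁅⁅B, B⁆, B⁆ = ⊥) (hBA : ⁅B, B⁆ ≤ A) (hAB : A ≤ Subgroup.normalizer (B : Set G)) (hBnA : ¬ B ≤ Subgroup.normalizer (A : Set G)) : ∃ Astar : Subgroup G, IsMulCommutative Astar ∧ Nat.card Astar = Nat.card A ∧ A ⊓ B < Astar ⊓ B ∧ Astar ≤ Subgroup.normalizer (A : Set G) ∧ Astar ≤ Subgroup.normalClosure (A : Set G) ∧ Monoid.exponent Astar ∣ Monoid.exponent A ∧ Nat.card (Cfsg.omegaOne p A) ≤ Nat.card (Cfsg.omegaOne p Astar) := by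
  open Subgroup CfsgH2 CfsgH9 CfsgFT in
  obtain ⟨b, hb, h1, h⟩ := exists_rep (hG.to_subgroup (A ⊔ B)) hA le_sup_left le_sup_right (sup_le hAB le_normalizer) hBnA
  have cB : ∀ x ∈ B, ∀ y ∈ B, x * y * x⁻¹ * y⁻¹ ∈ A := fun x hx y hy => hBA (mul_mul_inv_mul_inv_mem_commutator hx hy)
  have od := (Fact.out : p.Prime).odd_of_ne_two hp
  have h' : Rep (omegaOne p A) b := ⟨isMulCommutative_of_forall fun x hx y hy => h.cm (omegaOne_le _ hx) (omegaOne_le _ hy),
    (map_mono (omegaOne_le _)).trans (h.h1.trans (normalizer_le_normalizer_omegaOne _)), by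
      rw [cb, map_omegaOne_of_injective _ (MulAut.conj b⁻¹).injective]
      exact (omegaOne_le _).trans (h.h2.trans (normalizer_le_normalizer_omegaOne _))⟩
  have l : star (omegaOne p A) b ≤ star A b := sup_le_sup (inf_le_inf (omegaOne_le _) (map_mono (omegaOne_le _)))
    (closure_mono fun _ ⟨a, ha, e⟩ => ⟨a, omegaOne_le _ ha, e⟩)
  refine ⟨star A b, h.comm_star hAB hb (hBA.trans (isMulCommutative_iff_le_centralizer.1 hA)) (isMulCommutative_of_forall
    fun x hx y hy => h.cm (hBA hx) (hBA hy)) fun x hx => odd_orderOf_of_isPGroup hp (hG.to_subgroup B) hx,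
    h.card_eq fun a ha => ?_, h.inf_lt hAB hb h1 fun x m => by simpa using mul_mem (cB _ hb _ m.2) m.1, h.star_le_normalizer,
    h.star_le_sup.trans (sup_le le_normalClosure fun x hx => by
      simpa [mul_assoc] using Normal.conj_mem' inferInstance _ (le_normalClosure (mem_cb.1 hx)) b), ?_,
    h'.card_le.trans (card_le_of_le fun x hx => Subgroup.subset_closure ⟨l hx, h'.pow_star od (fun a ha => (ea_omegaOne_of_comm hA p).2 a ha) hx⟩)⟩
  · have c1 : b * a * b⁻¹ * a⁻¹ ∈ B := by
      simpa [mul_assoc] using mul_mem hb (CfsgH2.conj_mem_of_mem_normalizer (hAB ha.1) (inv_mem hb))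
    have := A.mul_mem (A.inv_mem (A.mul_mem (cB _ (inv_mem hb) _ c1) (A.mul_mem (mem_cb.1 ha.2) (A.inv_mem ha.1)))) ha.1
    simpa [mul_assoc] using this
  · obtain ⟨k, hk⟩ := (hG.to_subgroup A).exists_card_eq
    exact Monoid.exponent_dvd_of_forall_pow_eq_one fun x => Subtype.ext (h.pow_star ((od.pow (n := k)).of_dvd_nat
      (hk ▸ Group.exponent_dvd_nat_card)) (fun a ha => congrArg Subtype.val (Monoid.pow_exponent_eq_one (⟨a, ha⟩ : A))) x.2)

end Cfsg.Agent.S3078
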