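import Cfsg.Statements.S3085
import Cfsg.Agent.H2.Extra3

set_option autoImplicit false
open Cfsg

namespace Cfsg.Agent.S3085
open Subgroup CfsgH2
open scoped commutatorElement

theorem conj_cases {Q : Type*} [Group Q] {z : Q} (h : ES 2 ⊤ z) (a x : Q) :
    (Commute a x ∧ a * x * a⁻¹ = x) ∨ (¬ Commute a x ∧ a * x * a⁻¹ = x * z) := by
  have hz := h.toPES.toCZ.cent x (mem_top x)
  by_cases hc : Commute a x
  · exact Or.inl ⟨hc, by rw [hc.eq]; group⟩
  · rcases h.toPES.comm_cases (mem_top a) (mem_top x) with h1 | h1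
    · exact absurd h1 hc
    · refine Or.inr ⟨hc, ?_⟩
      rw [← hz.eq, ← h1]; group

theorem exists_rho {Q : Type*} [Group Q] [Finite Q] {z g : Q} (h : ES 2 ⊤ z) (hg : g ^ 2 = z) :
    ∃ ρ : MulAut Q, (∀ x, Commute x g → ρ x = x) ∧ (∀ x, ¬ Commute x g → ρ x = x * g) := by
  classical
  have hzz := h.toPES.zz
  have hc := fun x => h.toPES.toCZ.cent x (mem_top x)
  have key : ∀ x, ¬ Commute x g → g * x = x * g * z := by
    intro x hx
    rcases conj_cases h g x with ⟨h1, -⟩ | ⟨-, h1⟩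
    · exact absurd h1.symm hx
    · calc g * x = (g * x * g⁻¹) * g := by group
        _ = x * (z * g) := by rw [h1]; group
        _ = x * g * z := by rw [(hc g).eq]; group
  have two : ∀ x y, ¬ Commute x g → ¬ Commute y g → Commute (x * y) g := by
    intro x y hx hy
    have h1 := key x hx
    have h2 := key y hy
    show x * y * g = g * (x * y)
    calc x * y * g = x * (y * g * z) * z := by
          rw [mul_assoc x (y * g * z), mul_assoc (y * g), hzz]; group
      _ = x * g * (y * z) := by rw [← h2]; group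
      _ = x * g * z * y := by rw [← (hc y).eq]; group
      _ = g * (x * y) := by rw [← h1]; group
  let f : Q →* Q := MonoidHom.mk' (fun x => if Commute x g then x else x * g) (by
    intro x y
    by_cases hx : Commute x g <;> by_cases hy : Commute y g
    · simp only [hx, hy, hx.mul_left hy, if_true]
    · have : ¬ Commute (x * y) g := fun h' => hy (by simpa using hx.inv_left.mul_left h')
      simp only [hx, hy, this, if_true, if_false, mul_assoc]
    · have : ¬ Commute (x * y) g := fun h' => hx (by simpa using h'.mul_left hy.inv_left)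
      simp only [hx, hy, this, if_true, if_false, mul_assoc, hy.eq]
    · simp only [hx, hy, two x y hx hy, if_true, if_false]
      have h2 := key y hy
      calc x * y = x * y * (z * z) := by rw [hzz, mul_one]
        _ = x * y * (g ^ 2 * z) := by rw [hg]
        _ = x * y * g * (g * z) := by rw [sq]; group
        _ = x * (y * g * z) * g := by rw [← (hc g).eq]; group
        _ = x * g * (y * g) := by rw [← h2]; group)
  have hf1 : ∀ x, Commute x g → f x = x := fun x hx => if_pos hx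
  have hf2 : ∀ x, ¬ Commute x g → f x = x * g := fun x hx => if_neg hx
  have hinj : Function.Injective f := by
    rw [injective_iff_map_eq_one]
    intro x hx
    by_cases hxg : Commute x g
    · rwa [hf1 x hxg] at hx
    · rw [hf2 x hxg] at hx
      exact absurd (by rw [eq_inv_of_mul_eq_one_left hx]; exact (Commute.refl g).inv_left) hxg
  exact ⟨MulEquiv.ofBijective f (Finite.injective_iff_bijective.1 hinj), hf1, hf2⟩

theorem exists_lift {Q : Type*} [Group Q] {L : Subgroup (MulAut Q)} (hL : (Cfsg.Inn Q).IsComplement' L)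
    (ρ : MulAut Q) : ∃ k ∈ L, ∃ v : Q, k = MulAut.conj v * ρ := by
  obtain ⟨⟨⟨i, ⟨u, rfl⟩⟩, ⟨k, hk⟩⟩, he⟩ := hL.2 ρ
  refine ⟨k, hk, u⁻¹, ?_⟩
  simp only at he
  rw [← he, map_inv]; group

theorem mk_conj {Q : Type*} [Group Q] (v : Q) (ρ : MulAut Q) :
    (QuotientGroup.mk' (Cfsg.Inn Q)) (MulAut.conj v * ρ) = QuotientGroup.mk' (Cfsg.Inn Q) ρ := by
  rw [map_mul, (QuotientGroup.eq_one_iff (N := Cfsg.Inn Q) (MulAut.conj v)).2 ⟨v, rfl⟩ |>.trans rfl |> fun h => (show QuotientGroup.mk' (Cfsg.Inn Q) (MulAut.conj v) = 1 from h), one_mul]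

/-- Let Q be an extraspecial 2-group of order 2^(2n+1) with n ≥ 3 that is of plus type (it contains an elementary abelian subgroup of order 2^(n+1)). Then the group of inner automorphisms of Q has no complement in the full automorphism group of Q: the extension of the inner automorphism group (elementary abelian of order 2^(2n)) by the outer automorphism group (the orthogonal group of plus type) does not split. -/
theorem result {Q : Type*} [Group Q] [Finite Q] (n : ℕ) (hn : 3 ≤ n) (hQ : Cfsg.IsExtraspecial 2 Q) (hcard : Nat.card Q = 2 ^ (2 * n + 1)) (hplus : ∃ E : Subgroup Q, Cfsg.IsElementaryAbelian 2 E ∧ Nat.card ↥E = 2 ^ (n + 1)) (L : Subgroup (MulAut Q)) : ¬ (Cfsg.Inn Q).IsComplement' L := by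
  intro hL
  haveI : Fact (Nat.Prime 2) := ⟨Nat.prime_two⟩
  obtain ⟨z, h, hne⟩ := ES.of_top hQ
  have hzz := h.toPES.zz
  have hz1 : z ≠ 1 := h.toPES.toCZ.z_ne_one
  have hc := fun x => h.toPES.toCZ.cent x (mem_top x)
  obtain ⟨g, hg⟩ : ∃ g : Q, g ^ 2 = z := by
    obtain ⟨x, hx, y, hy, hxy, ⟨h1, h2⟩ | ⟨h1, -⟩⟩ := h.toPES.exists_pair_two (h.not_comm hne)
    · exact ⟨x * y, by rw [h.toPES.mul_sq hx hy hxy, h1, h2]; simp⟩
    · exact ⟨x, h1⟩
  have triv : ∀ k ∈ L, QuotientGroup.mk' (Cfsg.Inn Q) k = 1 → k = 1 := by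
    intro k hk h1
    have h2 : k ∈ Cfsg.Inn Q := (QuotientGroup.eq_one_iff k).1 h1
    exact (disjoint_def.1 hL.disjoint) h2 hk
  have hgz : g ∉ zpowers z := by
    intro hm
    rcases (mem_zpowers_two h.ord).1 hm with rfl | rfl
    · exact hz1 (by simpa using hg.symm)
    · exact hz1 (by rw [← hg, sq, hzz])
  obtain ⟨ρ, hρ1, hρ2⟩ := exists_rho h hg
  obtain ⟨k, hk, v, rfl⟩ := exists_lift hL ρ
  have hρρ : ρ * ρ = MulAut.conj g * 1 := by
    ext x
    simp only [MulAut.mul_apply, MulAut.conj_apply, MulAut.one_apply]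
    rcases conj_cases h g x with ⟨h1, h2⟩ | ⟨h1, h2⟩
    · rw [h2, hρ1 x h1.symm, hρ1 x h1.symm]
    · rw [h2, hρ2 x (fun h' => h1 h'.symm), map_mul, hρ2 x (fun h' => h1 h'.symm), hρ1 g (Commute.refl g),
        mul_assoc, ← sq, hg]
  have hkk : (MulAut.conj v * ρ) * (MulAut.conj v * ρ) = 1 :=
    triv _ (L.mul_mem hk hk) (by rw [map_mul, mk_conj, ← map_mul, hρρ, mk_conj, map_one])
  have hvg : ¬ Commute g v := by
    intro hgv
    obtain ⟨x, -, hx⟩ := h.exists_comm' (mem_top g) hgz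
    have hx' : ¬ Commute x g := fun h' => h.toPES.toCZ.not_commute hx h'.symm
    have h1 := DFunLike.congr_fun hkk x
    simp only [MulAut.mul_apply, MulAut.conj_apply, MulAut.one_apply, map_mul, map_inv,
      hρ1 v hgv.symm, hρ2 x hx', hρ1 g (Commute.refl g)] at h1
    have h2 : v ^ 2 * (x * z) * (v ^ 2)⁻¹ = x := by
      refine Eq.trans ?_ h1
      rw [← hg, sq, sq]; group
    have h3 : Commute (v ^ 2) (x * z) := h.toPES.toCZ.pow_commute (mem_top _) (mem_top _)
    rw [h3.eq] at h2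
    exact hz1 (by simpa using h2)
  have hgv : g * v * g⁻¹ * v⁻¹ = z :=
    (h.toPES.comm_cases (mem_top g) (mem_top v)).resolve_left hvg
  obtain ⟨m, rfl⟩ : ∃ m, n = m + 2 + 1 := ⟨n - 3, by omega⟩
  have hC := h.cc_es (mem_top g) (mem_top v) hgv
  have hCc := h.card_cc' (mem_top g) (mem_top v) hgv (n := m + 2) (by rw [card_top, hcard])
  obtain ⟨s, hs, hs2, hsz⟩ := hC.exists_invol hCc
  obtain ⟨x, hx, hsx⟩ := hC.exists_comm' hs hsz
  obtain ⟨-, hsg, hsv⟩ := mem_cc.1 hs
  obtain ⟨-, hxg, hxv⟩ := mem_cc.1 hx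
  have hw : (g * s) ^ 2 = z := by rw [hsg.symm.mul_pow, hs2, hg, mul_one]
  have hwg : Commute (g * s) g := (Commute.refl g).mul_left hsg
  have hxw : ¬ Commute x (g * s) := fun h' =>
    h.toPES.toCZ.not_commute hsx (by simpa using (hxg.inv_right.mul_right h').symm)
  have hvw : ¬ Commute v (g * s) := fun h' =>
    hvg (by simpa using (h'.mul_right hsv.symm.inv_right).symm)
  obtain ⟨σ, hσ1, hσ2⟩ := exists_rho h hw
  obtain ⟨k', hk', u, rfl⟩ := exists_lift hL σ
  have hρσ : ρ * σ = σ * ρ := by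
    ext y
    simp only [MulAut.mul_apply]
    by_cases h1 : Commute y g <;> by_cases h2 : Commute y (g * s)
    · rw [hσ1 y h2, hρ1 y h1, hσ1 y h2]
    · rw [hσ2 y h2, map_mul, hρ1 y h1, hρ1 _ hwg, hσ2 y h2]
    · rw [hσ1 y h2, hρ2 y h1, map_mul, hσ1 y h2, hσ1 g hwg.symm]
    · rw [hσ2 y h2, hρ2 y h1, map_mul, map_mul σ, hσ2 y h2, hρ2 y h1, hρ1 _ hwg, hσ1 g hwg.symm,
        mul_assoc, mul_assoc, hwg.eq]
  have hcm : (MulAut.conj v * ρ) * (MulAut.conj u * σ) * ((MulAut.conj u * σ) * (MulAut.conj v * ρ))⁻¹ = 1 :=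
    triv _ (L.mul_mem (L.mul_mem hk hk') (L.inv_mem (L.mul_mem hk' hk)))
      (by rw [map_mul, map_inv, map_mul, map_mul (QuotientGroup.mk' _) (MulAut.conj u * σ), mk_conj,
        mk_conj, ← map_mul, ← map_mul, hρσ, mul_inv_cancel])
  have h1 := DFunLike.congr_fun (mul_inv_eq_one.1 hcm) x
  have e1 : (MulAut.conj v * ρ) x = x := by
    simp only [MulAut.mul_apply, MulAut.conj_apply, hρ1 x hxg, ← hxv.eq]; group
  have e2 : (MulAut.conj v * ρ) (g * s) = g * s * z := by
    simp only [MulAut.mul_apply, MulAut.conj_apply, hρ1 _ hwg]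
    exact ((conj_cases h v (g * s)).resolve_left (fun h' => hvw h'.1)).2
  have e3 : (MulAut.conj v * ρ) z = z := h.aut_z _
  rw [MulAut.mul_apply, MulAut.mul_apply _ (MulAut.conj u * σ), e1] at h1
  have e4 : (MulAut.conj u * σ) x = x * (g * s) ∨ (MulAut.conj u * σ) x = x * (g * s) * z := by
    simp only [MulAut.mul_apply, MulAut.conj_apply, hσ2 _ hxw]
    rcases conj_cases h u (x * (g * s)) with h' | h'
    · exact Or.inl h'.2
    · exact Or.inr h'.2
  rcases e4 with e4 | e4
  · rw [e4, map_mul, e1, e2] at h1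
    exact hz1 (by simpa using h1)
  · rw [e4, map_mul, map_mul, e1, e2, e3] at h1
    exact hz1 (by simpa using h1)


end Cfsg.Agent.S3085
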