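import Cfsg.Statements.S3110
import Cfsg.Agent.H2.Sig7

set_option autoImplicit false
open Cfsg

namespace Cfsg.Agent.S3110
open Subgroup CfsgH2
open scoped commutatorElement

open CfsgFT CfsgH2 Subgroup

/-- Let G be a finite group in which every 2-local subgroup is 2-constrained and some Sylow 2-subgroup has a self-centralizing abelian normal subgroup of 2-rank at least 3, and let S be any Sylow 2-subgroup of G. Then there is a subgroup W of G of odd order such that, for every subgroup B of S of 2-rank at least 2, W is generated by the largest normal odd-order subgroups O(C_G(b)) of the centralizers of the non-identity elements b of B, and W is normalized by the normalizer of every such B. -/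
theorem result {G : Type*} [Group G] [Finite G]
    (h2c : ∀ T : Subgroup G, IsPGroup 2 T → T ≠ ⊥ → Cfsg.IsPConstrained 2 ↥(Subgroup.normalizer (T : Set G)))
    (S : Sylow 2 G) (A : Subgroup ↥(S : Subgroup G)) (hAn : A.Normal) (hAab : IsMulCommutative ↥A)
    (hAC : Subgroup.centralizer (A : Set ↥(S : Subgroup G)) = A) (hA3 : ¬ Cfsg.PRankLE 2 2 ↥A) (S' : Sylow 2 G) :
    ∃ W : Subgroup G, Odd (Nat.card ↥W) ∧
      ∀ B : Subgroup G, B ≤ (S' : Subgroup G) → ¬ Cfsg.PRankLE 2 1 ↥B →
        W = (⨆ b : {b : G // b ∈ B ∧ b ≠ 1}, Cfsg.centralizerPPrimeCore 2 (b : G)) ∧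
        Subgroup.normalizer (B : Set G) ≤ Subgroup.normalizer (W : Set G) := by
  haveI : Fact (Nat.Prime 2) := inferInstance
  have h2 : ∀ t : G, t * t = 1 → t ≠ 1 → IsPConstrained 2 C1(t) := fun t ht h1 => by
    rw [← cent_zpowers]
    exact con_cent_of_norm (h2c _ (pz_of_inv ht) (by rwa [Ne, zpowers_eq_bot])) (pz_of_inv ht)
  obtain ⟨V, hV, hVe, h8⟩ := exists_ea_of_not_rank
    (B := A.map (S : Subgroup G).subtype) (p := 2) (k := 2) (fun h => hA3 (fun B hB1 hB2 => by
      let e := A.equivMapOfInjective _ (S : Subgroup G).subtype_injective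
      have := h (B.map e.toMonoidHom) inferInstance (by
        rintro _ ⟨b, hb, rfl⟩
        rw [← map_pow, hB2 b hb, map_one])
      rwa [card_map_of_injective e.injective] at this))
  obtain ⟨g, hg⟩ := exists_cj_sylow_eq S S'
  have hAc : A.map (S : Subgroup G).subtype ≤ C(A.map (S : Subgroup G).subtype) :=
    comm_iff.1 inferInstance
  have hE := ea_om_of_comm (p := 2) (cj_le_cent_cj hAc g)
  have hn : (S' : Subgroup G) ≤ N(omegaOne 2 (cj g (A.map (S : Subgroup G).subtype))) :=
    hg ▸ le_norm_om (cj_le_norm_cj (le_norm_map_subtype A) g)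
  have h8' : 2 ^ 3 ≤ Nat.card (omegaOne 2 (cj g (A.map (S : Subgroup G).subtype))) := by
    rw [om_cj, card_cj]; exact h8.trans (card_le_of_le (ea_le_om hVe hV))
  obtain ⟨h3, h4⟩ := cores_odd h2 S'.isPGroup' hE h8' hn
  refine ⟨_, h3, fun B hB hr => ?_⟩
  rw [h4 B hB hr]
  exact ⟨by simp only [th_eq]; rfl, norm_le_norm_WW B⟩


end Cfsg.Agent.S3110
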