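import Cfsg.Statements.S3116
import Cfsg.Agent.H2.DihFus

set_option autoImplicit false
open Cfsg

namespace Cfsg.Agent.S3116
open Subgroup CfsgH2
open scoped commutatorElement

/-- The automorphism group of a dihedral 2-group of order at least 8, or of a quasi-dihedral (semidihedral) 2-group of order at least 16, is a 2-group. -/
theorem result {X : Type*} [Group X] [Finite X] (h2 : IsPGroup 2 X)
    (h : (∃ n : ℕ, 4 ≤ n ∧ Nonempty (X ≃* DihedralGroup n)) ∨ Cfsg.IsQuasiDihedral X) : IsPGroup 2 (MulAut X) := by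
  by_contra hc
  obtain ⟨g, h1, h3, h4⟩ := oddAct_hol hc
  rcases h with ⟨n, hn, ⟨e⟩⟩ | h
  · obtain ⟨a, b, r, h, -⟩ := mc_of_dihedral (h2.to_subgroup ⊤) (by omega : 3 ≤ n) (topEquiv.trans e)
    have h' := h.map_inj (SemidirectProduct.inl (φ := MonoidHom.id (MulAut X))) SemidirectProduct.inl_injective
    have h5 := (isKleinFour_iff.1 (h'.dih_klein_of_oddAct le_rfl ⟨g, h1, h3, h4⟩)).1
    rw [h'.card_eq, pow_add] at h5
    have : 0 < 2 ^ r := by positivity
    omega
  · obtain ⟨a, b, r, hr, h⟩ := mc_top_of_qd h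
    have h' := h.map_inj (SemidirectProduct.inl (φ := MonoidHom.id (MulAut X))) SemidirectProduct.inl_injective
    have h5 := h'.card_eq
    obtain ⟨j, ⟨-, e, -⟩ | ⟨-, e, -⟩⟩ := h'.odd_act le_rfl h1 h3 h4
    · rw [e, h'.card_sub le_rfl] at h5
      have := Nat.pow_right_injective le_rfl h5; omega
    · rw [e, h'.card_sub (by omega)] at h5
      have := Nat.pow_right_injective le_rfl h5; omega


end Cfsg.Agent.S3116
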