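import Mathlib
import Cfsg.Statements.S3155

set_option autoImplicit false
open Cfsg

namespace Cfsg.Agent.S3155

/-- Let B be the direct product of three cyclic groups of order 4. Then the automorphism of B inverting every element is not the square of any automorphism of B. -/
theorem result {B : Type*} [CommGroup B] [Finite B] (hB : Nonempty (B ≃* Multiplicative (ZMod 4 × ZMod 4 × ZMod 4)))
    (τ : B ≃* B) : τ.trans τ ≠ MulEquiv.inv B := by
  intro h
  obtain ⟨e⟩ := hB
  let f₀ : (ZMod 4 × ZMod 4 × ZMod 4) →+ (ZMod 4 × ZMod 4 × ZMod 4) := MonoidHom.toAdditive ((e.symm.trans τ).trans e).toMonoidHom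
  let f := f₀.toZModLinearMap 4
  have e1 : f * f = (-1 : ZMod 4) • LinearMap.id := LinearMap.ext fun x => by
    have := congrArg e (DFunLike.congr_fun h (e.symm (Multiplicative.ofAdd x)))
    simp only [MulEquiv.trans_apply, MulEquiv.inv_apply, map_inv, MulEquiv.apply_symm_apply] at this
    rw [LinearMap.smul_apply, neg_one_smul]
    exact (congrArg (fun y => e (τ y)) (e.symm_apply_apply _)).trans this
  have : Fact (1 < 4) := ⟨by norm_num⟩
  have := congrArg LinearMap.det e1
  rw [map_mul, LinearMap.det_smul, LinearMap.det_id] at this
  simp only [Module.finrank_prod, Module.finrank_self] at this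
  generalize LinearMap.det f = d at this
  revert d; decide

end Cfsg.Agent.S3155
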