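import Cfsg.Statements.S3156
import Cfsg.Agent.H5.U3b

set_option autoImplicit false
open Cfsg

namespace Cfsg.Agent.S3156

open CfsgH5

/-- If a finite group T is isomorphic to a Sylow 2-subgroup of the projective special unitary group of dimension 3 with parameter 4 (realised over the field with 16 elements), then no subgroup of the automorphism group of T is isomorphic to the symmetric group of degree 3. -/
theorem result {T : Type*} [Group T] [Finite T] (hT : (∃ (F : Type) (_ : Field F) (_ : Fintype F), Fintype.card F = 16 ∧ ∃ S : Sylow 2 (Cfsg.PSU 3 F 4), Nonempty (T ≃* ↥(S : Subgroup (Cfsg.PSU 3 F 4))))) (H : Subgroup (MulAut T)) : ¬ Nonempty (↥H ≃* Equiv.Perm (Fin 3)) := by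
  obtain ⟨F, _, _, hF, S, ⟨e1⟩⟩ := hT
  have hF' : Fintype.card F = (2 ^ 2) ^ 2 := by rw [hF]; norm_num
  obtain ⟨e2⟩ := sylow_PSU3 (p := 2) (k := 2) hF' rfl S
  let e : MulAut T ≃* MulAut (UHq hF') := MulAut.congr (e1.trans e2.symm)
  rintro ⟨φ⟩
  let ψ : Equiv.Perm (Fin 3) →* MulAut (UHq hF') :=
    e.toMonoidHom.comp (H.subtype.comp φ.symm.toMonoidHom)
  have hψ : Function.Injective ψ := e.injective.comp (H.subtype_injective.comp φ.symm.injective)
  have h := UH16_no_S3 hF' (x := ψ (Equiv.swap 0 1 * Equiv.swap 1 2)) (y := ψ (Equiv.swap 0 1))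
    (by rw [← map_pow, ← map_one ψ]; congr 1; decide)
    (by rw [← map_pow, ← map_one ψ]; congr 1; decide)
    (by rw [← map_mul, ← map_mul, ← map_inv]; congr 1; decide)
  rw [← map_one ψ] at h
  exact absurd (hψ h) (by decide)

end Cfsg.Agent.S3156
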