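import Cfsg.Statements.S3162
import Cfsg.Agent.H5.U3b
import Cfsg.Agent.H1.Cores

set_option autoImplicit false
open Cfsg

namespace Cfsg.Agent.S3162

open CfsgH5

/-- Let S be a Sylow 2-subgroup of the special unitary group of dimension 3 with parameter q = 2^n (n ≥ 2; realised over the field with q² elements). Then the largest normal 2-subgroup of the automorphism group of S is elementary abelian of order 2^(2n²), and the automorphism group has order 2^(2n²) · 2n(q² − 1). -/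
theorem result {S : Type*} [Group S] [Finite S] (n : ℕ) (hn : 2 ≤ n) {F : Type*} [Field F] [Fintype F] (hF : Fintype.card F = 4 ^ n)
    (P : Sylow 2 ↥(Cfsg.SU 3 F (2 ^ n))) (hS : Nonempty (S ≃* ↥(P : Subgroup ↥(Cfsg.SU 3 F (2 ^ n))))) :
    Cfsg.IsElementaryAbelian 2 (Cfsg.pCore 2 (MulAut S)) ∧ Nat.card ↥(Cfsg.pCore 2 (MulAut S)) = 2 ^ (2 * n ^ 2) ∧
      Nat.card (MulAut S) = 2 ^ (2 * n ^ 2) * (2 * n * ((2 ^ n) ^ 2 - 1)) := by
  have hF' : Fintype.card F = (2 ^ n) ^ 2 := by rw [hF, ← pow_mul, mul_comm, pow_mul]; norm_num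
  obtain ⟨e1⟩ := hS
  obtain ⟨e2⟩ := sylow_SU3 hF' rfl P
  let e : MulAut (UHq hF') ≃* MulAut S := MulAut.congr (e2.trans e1.symm)
  have h2 := two_eq_zero_of_sq hF'
  have hne := frobQ_ne hF'
  have h3 := CfsgH1.map_pCore_equiv (p := 2) e
  rw [UH.pCore_aut hne h2] at h3
  rw [← h3]
  refine ⟨⟨⟨⟨?_⟩⟩, ?_⟩, ?_, ?_⟩
  · rintro ⟨_, x, hx, rfl⟩ ⟨_, y, hy, rfl⟩
    apply Subtype.ext
    show e x * e y = e y * e x
    rw [← map_mul, ← map_mul, UH.KA_comm hne h2 hx hy]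
  · rintro _ ⟨x, hx, rfl⟩
    show e x ^ 2 = 1
    rw [← map_pow, UH.KA_sq hne h2 hx, map_one]
  · rw [Subgroup.card_map_of_injective e.injective, card_KA_q]
  · rw [← Nat.card_congr e.toEquiv, card_aut_UH]

end Cfsg.Agent.S3162
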