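import Cfsg.Statements.S3178
import Cfsg.Agent.H2.CycSCN

set_option autoImplicit false
open Cfsg

namespace Cfsg.Agent.S3178
open Subgroup CfsgH2
open scoped commutatorElement

/-- Groups with a modular Sylow 2-subgroup have a normal 2-complement. Let S, of order 2^(n+1) with n ≥ 3, be a Sylow 2-subgroup of a finite group G, and suppose S contains an element a of order 2^n and an involution b with b a b⁻¹ = a^(2^(n-1) + 1); so S is the non-abelian 2-group with a cyclic subgroup of index 2 that is neither dihedral, semidihedral nor generalized quaternion. Then G has a normal 2-complement. -/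
theorem result {G : Type*} [Group G] [Finite G]
    (S : Sylow 2 G) (n : ℕ) (hn : 3 ≤ n) (hS : Nat.card ↥(S : Subgroup G) = 2 ^ (n + 1))
    (a b : G) (ha : a ∈ (S : Subgroup G)) (hb : b ∈ (S : Subgroup G))
    (hao : orderOf a = 2 ^ n) (hbo : orderOf b = 2) (hrel : b * a * b⁻¹ = a ^ (2 ^ (n - 1) + 1)) :
    Cfsg.HasNormalPComplement 2 G := by
  have hs := IsSylowIn.of_sylow_top S
  obtain ⟨r, rfl⟩ : ∃ r, n = r + 1 := ⟨n - 1, by omega⟩
  have hr : 2 ≤ r := by omega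
  have hc : b * a * b⁻¹ = a ^ ((1 : ℤ) + 2 ^ r) := by
    rw [hrel, ← zpow_natCast]; congr 1; simp [add_comm]
  have hba : b ∉ zpowers a := by
    rintro ⟨l, hl⟩
    simp only at hl
    rw [← hl, ((Commute.refl a).zpow_left l).eq, mul_inv_cancel_right, zpow_add, zpow_one, left_eq_mul] at hc
    exact ne_one_of_orderOf_two (Idx2.mod_orderOf_z hao) hc
  have h := idx2_closure hc (m := 0) (by rw [zpow_zero, mul_self_of_orderOf_two hbo]) hba
  rw [eq_of_le_of_card_le (h.le_iff.2 ⟨ha, hb⟩) (by rw [hS, h.card, hao, ← pow_succ'])] at h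
  refine hasNPC_top_iff.1 (frobenius_hasNPC hs fun Q hQ _ hC g _ hg ho => ?_)
  have ho' := coprime_two_iff_odd.1 ho
  have hcen : ∀ i : ℤ, 2 ∣ i → ∀ x ∈ (S : Subgroup G), Commute x (a ^ i) := fun i hi x hx => by
    obtain ⟨j, rfl | rfl⟩ := (h.mem x).1 hx
    · exact Commute.zpow_zpow_self a j i
    · exact h.mod_commute hao hi j
  have hQa : ∀ i : ℤ, 2 ∣ i → a ^ i ∈ Q := fun i hi =>
    hC (mem_inf.2 ⟨h.pow_mem i, fun x hx => hcen i hi x (hQ hx)⟩)
  have hsq : ∀ x ∈ (S : Subgroup G), x * x ∈ zpowers a := fun x hx => by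
    obtain ⟨j, rfl | rfl⟩ := (h.mem x).1 hx
    · exact mul_mem (zpow_mem (mem_zpowers a) j) (zpow_mem (mem_zpowers a) j)
    · rw [h.mul_eq]; exact zpow_mem (mem_zpowers a) _
  have hgsq : ∀ x ∈ Q, Commute g (x * x) := fun x hx => by
    obtain ⟨s, hs, e⟩ := exists_eq_zpowers_prime_pow hao (zpowers_le.2 (hsq x (hQ hx)))
    obtain ⟨t, ht, e'⟩ := exists_eq_zpowers_prime_pow hao
      (zpowers_le.2 (hsq _ (hQ (conj_mem_of_mem_normalizer hg hx))))
    have h1 : g * x * g⁻¹ * (g * x * g⁻¹) = g * (x * x) * g⁻¹ := by group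
    rw [h1] at e'
    have h2 := congrArg (fun X : Subgroup G => Nat.card X) e
    have h3 := congrArg (fun X : Subgroup G => Nat.card X) e'
    simp only [Nat.card_zpowers, orderOf_conj'] at h2 h3
    rw [orderOf_zpow_prime_pow two_ne_zero hao hs] at h2
    rw [orderOf_zpow_prime_pow two_ne_zero hao ht, h2] at h3
    obtain rfl : s = t := by have := Nat.pow_right_injective le_rfl h3; omega
    exact commute_of_odd_of_conj_mem h2 ho' (by rw [e, ← e']; exact mem_zpowers _)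
  obtain ⟨s, rfl⟩ : ∃ s, r = s + 2 := ⟨r - 2, by omega⟩
  have hz : Commute g (a ^ (2 : ℤ) ^ (s + 2)) := by
    have := hgsq _ (hQa (2 ^ (s + 1)) (dvd_pow_self 2 (by omega)))
    rwa [← zpow_add, ← two_mul, ← pow_succ'] at this
  have hK := h.mod_klein hr hao
  have hinv : ∀ x ∈ Q, x * x = 1 → Commute g x := fun x hx h2 => by
    by_cases h1 : x ∈ zpowers (a ^ (2 : ℤ) ^ (s + 2))
    · obtain ⟨i, rfl⟩ := h1
      exact hz.zpow_right i
    have hz1 := ne_one_of_orderOf_two (Idx2.mod_orderOf_z hao)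
    have hzQ := hQa (2 ^ (s + 2)) (dvd_pow_self 2 (by omega))
    have h3 : closure {a ^ (2 : ℤ) ^ (s + 2), b} ≤ Q := by
      rw [kleinFour_eq_closure hK (subset_closure (Set.mem_insert _ _)) (h.mod_mem_klein hr hao (hQ hx) h2)
        hz1 (fun e => h1 (e ▸ one_mem _)) (fun e => h1 (e ▸ mem_zpowers _)), closure_le]
      rintro _ (rfl | rfl) <;> assumption
    refine (mem_centralizer_of_klein hK (mem_normalizer_of_conj_mem fun y hy => h.mod_mem_klein hr hao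
      (hQ (conj_mem_of_mem_normalizer hg (h3 hy))) (conj_mul_self ((isKleinFour_iff.1 hK).2 y hy) g)) ho'
      (subset_closure (Set.mem_insert _ _)) hz1 hz x (h.mod_mem_klein hr hao (hQ hx) h2)).symm
  -- the elements of order less than `2 ^ (s + 3)`
  have hlow : ∀ x ∈ (S : Subgroup G), x ^ 2 ^ (s + 2) = 1 ↔ ∃ i : ℤ, x = a ^ (2 * i) ∨ x = a ^ (2 * i) * b := by
    intro x hx
    have h1 : ∀ i : ℤ, (a ^ i) ^ 2 ^ (s + 2) = 1 ↔ 2 ∣ i := fun i => by
      rw [← zpow_natCast, ← zpow_mul, zpow_eq_one_iff_dvd, hao]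
      push_cast
      rw [pow_succ', mul_dvd_mul_iff_right (by positivity)]
    have h2 : ∀ i : ℤ, (a ^ i * b) ^ 2 ^ (s + 2) = (a ^ i) ^ 2 ^ (s + 2) := fun i => by
      rw [pow_succ' 2 (s + 1), pow_mul, pow_mul, pow_two, h.mul_eq, ← zpow_natCast, ← zpow_natCast,
        ← zpow_natCast, ← zpow_mul, ← zpow_mul, ← zpow_mul, zpow_eq_zpow_iff_dvd, hao]
      exact ⟨2 ^ s * i, by push_cast; ring⟩
    constructor
    · intro h3
      obtain ⟨i, rfl | rfl⟩ := (h.mem x).1 hx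
      · obtain ⟨c, rfl⟩ := (h1 i).1 h3; exact ⟨c, Or.inl rfl⟩
      · obtain ⟨c, rfl⟩ := (h1 i).1 (h2 i ▸ h3); exact ⟨c, Or.inr rfl⟩
    · rintro ⟨i, rfl | rfl⟩
      · exact (h1 _).2 ⟨i, rfl⟩
      · rw [h2]; exact (h1 _).2 ⟨i, rfl⟩
  have hshift : ∀ x ∈ Q, Commute g (g * x * g⁻¹ * x⁻¹) → Commute g x := fun x hx h1 => by
    obtain ⟨k, hk⟩ := S.isPGroup' ⟨_, hQ (mul_mem (conj_mem_of_mem_normalizer hg hx) (inv_mem hx))⟩
    exact commute_of_shift ho' (congrArg Subtype.val hk) h1 (by group)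
  have hconj : ∀ x : G, (g * x * g⁻¹) ^ 2 ^ (s + 2) = 1 ↔ x ^ 2 ^ (s + 2) = 1 := fun x => by
    rw [← orderOf_dvd_iff_pow_eq_one, ← orderOf_dvd_iff_pow_eq_one, orderOf_conj']
  have hlow2 : ∀ x ∈ Q, x ^ 2 ^ (s + 2) = 1 → Commute g x := fun x hx h1 => by
    have hy := conj_mem_of_mem_normalizer hg hx
    refine hshift x hx (hinv _ (mul_mem hy (inv_mem hx)) ?_)
    have h2 : Commute (g * x * g⁻¹) x := by
      obtain ⟨i, e | e⟩ := (hlow x (hQ hx)).1 h1
      · rw [e] at hy ⊢; exact hcen _ ⟨i, rfl⟩ _ (hQ hy)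
      · obtain ⟨j, e' | e'⟩ := (hlow _ (hQ hy)).1 ((hconj x).2 h1)
        · rw [e']; exact (hcen _ ⟨j, rfl⟩ _ (hQ hx)).symm
        · rw [e', e]
          exact (hcen _ ⟨i, rfl⟩ _ (h.pow_mul_mem _)).mul_right
            ((hcen _ ⟨j, rfl⟩ _ hb).symm.mul_left (Commute.refl b))
    calc _ = g * x * g⁻¹ * (x⁻¹ * (g * x * g⁻¹)) * x⁻¹ := by group
      _ = g * (x * x) * g⁻¹ * (x * x)⁻¹ := by rw [← h2.inv_right.eq]; group
      _ = 1 := by rw [(hgsq x hx).eq]; group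
  intro x hx
  by_cases h1 : x ^ 2 ^ (s + 2) = 1
  · exact (hlow2 x hx h1).symm
  have hy := conj_mem_of_mem_normalizer hg hx
  have hu := mul_mem hy (inv_mem hx)
  refine (hshift x hx (hlow2 _ hu ((hlow _ (hQ hu)).2 ?_))).symm
  have h2 := (hlow x⁻¹ (hQ (inv_mem hx))).not.1 (by rwa [inv_pow, inv_eq_one])
  have h3 := (hlow _ (hQ hy)).not.1 ((hconj x).not.2 h1)
  push Not at h2 h3
  have h4 : ∀ y ∈ (S : Subgroup G), (∀ i : ℤ, y ≠ a ^ (2 * i) ∧ y ≠ a ^ (2 * i) * b) →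
      ∃ i : ℤ, y = a ^ (2 * i + 1) ∨ y = a ^ (2 * i + 1) * b := fun y hy h5 => by
    obtain ⟨i, e | e⟩ := (h.mem y).1 hy <;> obtain ⟨d, rfl | rfl⟩ := Int.even_or_odd' i
    · exact absurd e (h5 d).1
    · exact ⟨d, Or.inl e⟩
    · exact absurd e (h5 d).2
    · exact ⟨d, Or.inr e⟩
  obtain ⟨i, e | e⟩ := h4 _ (hQ hy) h3 <;> obtain ⟨j, e' | e'⟩ := h4 _ (hQ (inv_mem hx)) h2 <;> rw [e, e']
  · exact ⟨i + j + 1, Or.inl (by rw [← zpow_add]; congr 1; ring)⟩
  · exact ⟨i + j + 1, Or.inr (by rw [← mul_assoc, ← zpow_add]; congr 2; ring)⟩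
  · exact ⟨i + j + 1 + 2 ^ (s + 1) * (2 * j + 1), Or.inr (by rw [h.mul_eq']; congr 2; ring)⟩
  · exact ⟨i + j + 1 + 2 ^ (s + 1) * (2 * j + 1), Or.inl (by rw [h.mul_eq]; congr 1; ring)⟩


end Cfsg.Agent.S3178
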