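import Cfsg.Statements.S3179
import Cfsg.Agent.H1.PSL2c
import Cfsg.Agent.H1.NatM
import Cfsg.Agent.H7.Sz3
import Cfsg.Agent.H5.U3a
import Cfsg.Agent.S0324

set_option autoImplicit false
open Cfsg

namespace Cfsg.Agent.S3179

open Subgroup CfsgH1 CfsgFT CfsgH2 in
theorem no9 (g : GL (Fin 5) (ZMod 2)) : orderOf g ≠ 9 := fun hg => by
  classical
  let a : GL (Fin 5) (ZMod 2) := ⟨!![0,1,0,0,0;1,1,0,0,0;0,0,1,0,0;0,0,0,1,0;0,0,0,0,1],
    !![1,1,0,0,0;1,0,0,0,0;0,0,1,0,0;0,0,0,1,0;0,0,0,0,1], by decide +kernel, by decide +kernel⟩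
  let b : GL (Fin 5) (ZMod 2) := ⟨!![1,0,0,0,0;0,1,0,0,0;0,0,0,1,0;0,0,1,1,0;0,0,0,0,1],
    !![1,0,0,0,0;0,1,0,0,0;0,0,1,1,0;0,0,1,0,0;0,0,0,0,1], by decide +kernel, by decide +kernel⟩
  have a3 : a ^ 3 = 1 := Units.ext (by decide +kernel)
  have b3 : b ^ 3 = 1 := Units.ext (by decide +kernel)
  have ab : a * b = b * a := Units.ext (by decide +kernel)
  have pg : ∀ x : GL (Fin 5) (ZMod 2), x ^ 3 = 1 → IsPGroup 3 (zpowers x) := fun x hx => by
    rcases (Nat.dvd_prime Nat.prime_three).1 (orderOf_dvd_of_pow_eq_one hx) with e | e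
    exacts [isPGroup_zpowers_of_orderOf (k := 0) e, isPGroup_zpowers_of_orderOf (k := 1) e]
  have p := (pg a a3).to_sup_of_normal_left' (pg b b3) (zpowers_le.2 (cent1_le_norm_zpowers _ (mem_cent1.2 ab)))
  have s : IsSylowIn 3 (zpowers g) ⊤ := ⟨le_top, isPGroup_zpowers_of_orderOf (k := 2) hg, by
    have := (zpowers g).card_mul_index
    rw [Nat.card_zpowers, hg, Matrix.card_GL_field, ZMod.card] at this
    simp [Fin.prod_univ_succ] at this
    rw [relIndex_top_right]; omega⟩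
  obtain ⟨c, -, l⟩ := s.exists_cj_le p le_top
  have : IsCyclic ↥(zpowers a ⊔ zpowers b) :=
    isCyclic_of_surjective _ (cjEquiv c _).symm.surjective (hH := CfsgH1.L2.cyc_of_le inferInstance l)
  have := Fintype.ofFinite ↥(zpowers a ⊔ zpowers b)
  have k := IsCyclic.card_pow_eq_one_le (α := ↥(zpowers a ⊔ zpowers b)) (n := 3) (by norm_num)
  let a' : ↥(zpowers a ⊔ zpowers b) := ⟨a, mem_sup_left (mem_zpowers a)⟩
  let b' : ↥(zpowers a ⊔ zpowers b) := ⟨b, mem_sup_right (mem_zpowers b)⟩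
  refine absurd ((Finset.card_le_card (s := {1, a', a' * a', b'}) ?_).trans k) ?_
  · intro x hx
    simp only [Finset.mem_insert, Finset.mem_singleton] at hx
    rw [Finset.mem_filter]
    refine ⟨Finset.mem_univ _, Subtype.ext ?_⟩
    rcases hx with rfl | rfl | rfl | rfl
    exacts [one_pow _, a3, Units.ext (by decide +kernel), b3]
  · rw [Finset.card_insert_of_notMem, Finset.card_insert_of_notMem, Finset.card_insert_of_notMem]
    · simp
    all_goals simp only [Finset.mem_insert, Finset.mem_singleton, Subtype.ext_iff, Units.ext_iff]; decide +kernel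

/-- Let X be a section of the general linear group GL(5, 2), that is, a quotient of a subgroup of it. If X is isomorphic to PSL(2, 2^n) for some n ≥ 2, to a Suzuki group over the field with 2^(2m+1) elements for some m ≥ 1, or to PSU(3, 2^n) for some n ≥ 2, then X is isomorphic to PSL(2, 4). -/
theorem result {H : Subgroup (GL (Fin 5) (ZMod 2))}
    {K : Subgroup ↥H} [K.Normal]
    (hX : (∃ (n : ℕ) (F : Type) (_ : Field F) (_ : Fintype F), 2 ≤ n ∧ Fintype.card F = 2 ^ n ∧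
        Nonempty (↥H ⧸ K ≃* Matrix.ProjectiveSpecialLinearGroup (Fin 2) F)) ∨
      (∃ (m : ℕ) (F : Type) (_ : Field F) (_ : Fintype F), 1 ≤ m ∧ Fintype.card F = 2 ^ (2 * m + 1) ∧
        Nonempty (↥H ⧸ K ≃* ↥(Cfsg.Lie.Sz F (2 ^ (m + 1))))) ∨
      (∃ (n : ℕ) (F : Type) (_ : Field F) (_ : Fintype F), 2 ≤ n ∧ Fintype.card F = 4 ^ n ∧
        Nonempty (↥H ⧸ K ≃* Cfsg.PSU 3 F (2 ^ n)))) :
    ∃ (F : Type) (_ : Field F) (_ : Fintype F), Fintype.card F = 4 ∧
      Nonempty (↥H ⧸ K ≃* Matrix.ProjectiveSpecialLinearGroup (Fin 2) F) := by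
  open Subgroup CfsgH1 CfsgFT CfsgH2 CfsgH1.L2 in
  classical
  have c : Nat.card (H ⧸ K) ∣ 9999360 := by
    have := (card_quotient_dvd_card K).trans (card_subgroup_dvd_card H)
    rw [Matrix.card_GL_field, ZMod.card] at this
    simpa [Fin.prod_univ_succ] using this
  have pw : ∀ k, 2 ^ k ∣ 9999360 → k ≤ 10 := fun k hk => by
    by_contra n
    exact absurd ((pow_dvd_pow 2 (show 11 ≤ k by omega)).trans hk) (by norm_num)
  rcases hX with ⟨n, F, _, _, hn, hF, ⟨e⟩⟩ | ⟨m, F, _, _, hm, hF, ⟨e⟩⟩ | ⟨n, F, _, _, hn, hF, ⟨e⟩⟩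
  · refine ⟨F, inferInstance, inferInstance, ?_, ⟨e⟩⟩
    have k := card_P2 (F := F)
    have d := d_even (F := F) (by rw [hF]; exact (Nat.even_pow' (by omega)).2 even_two)
    rw [d, mul_one, ← Nat.card_congr e.toEquiv, hF] at k
    rw [k] at c
    have := pw n (((dvd_mul_right _ _).trans (dvd_mul_right _ _)).trans c)
    by_cases n3 : n = 3
    · obtain ⟨w, hw, h⟩ := exists_ellS' (F := F)
      obtain ⟨g, -, o⟩ := hw.exists_order (m := 9) (by rw [d, h, hF, n3]; norm_num)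
      obtain ⟨x, hx⟩ := (e.surjective.comp QuotientGroup.mk_surjective) g
      obtain ⟨y, -, k⟩ := exists_order_dvd (a := x.1) (m := 9) (by
        rw [Subgroup.orderOf_coe, ← o, ← hx]
        exact orderOf_map_dvd (e.toMonoidHom.comp (QuotientGroup.mk' K)) x)
      exact (no9 y k).elim
    · rw [hF]; interval_cases n <;> first | rfl | omega | exact absurd c (by norm_num)
  · have := charP_of_card hF
    obtain ⟨f, -⟩ := CfsgH7.SzM.lie_iso hm hF
    rw [Nat.card_congr (e.trans f.symm).toEquiv, Cfsg.Agent.S0324.result hm hF] at c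
    have := pw _ (pow_mul 2 _ _ ▸ ((dvd_mul_right _ _).trans (dvd_mul_right _ _)).trans c)
    have : m ≤ 2 := by omega
    interval_cases m <;> exact absurd c (by norm_num)
  · have k := CfsgH5.card_PSU3_mul (F := F) (q := 2 ^ n) (by rw [hF, ← pow_mul, mul_comm, pow_mul]; rfl)
    rw [← Nat.card_congr e.toEquiv] at k
    have c' : (2 ^ n) ^ 3 * (((2 ^ n) ^ 2 - 1) * ((2 ^ n) ^ 3 + 1)) ∣ 9999360 * 3 :=
      k ▸ mul_dvd_mul c (Nat.gcd_dvd_left _ _)
    have := pw _ ((Nat.Coprime.pow_left _ (by norm_num : Nat.Coprime 2 3)).dvd_of_dvd_mul_right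
      (pow_mul 2 _ _ ▸ (dvd_mul_right _ _).trans c'))
    have : n ≤ 3 := by omega
    interval_cases n <;> exact absurd c' (by norm_num)

end Cfsg.Agent.S3179
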