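import Cfsg.Statements.S3180
import Cfsg.Agent.H2.SylowIn

set_option autoImplicit false
open Cfsg

namespace Cfsg.Agent.S3180

open Subgroup CfsgH2 MulAction

/-- Let P be a Sylow p-subgroup of a finite group J and P₁ a subgroup of P that is weakly closed in P with respect to J. If J acts on a set and two points, each fixed by every element of P₁, lie in one J-orbit, then they lie in one orbit of the normalizer of P₁ in J. -/
theorem result {J : Type*} [Group J] [Finite J]
    {p : ℕ} [Fact p.Prime] (P : Sylow p J) (P₁ : Subgroup J) (hW : Cfsg.IsWeaklyClosed P₁ (P : Subgroup J))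
    {Ω : Type*} [MulAction J Ω] (x y : Ω) (hx : ∀ g ∈ P₁, g • x = x) (hy : ∀ g ∈ P₁, g • y = y)
    (hc : ∃ g : J, g • x = y) :
    ∃ g ∈ Subgroup.normalizer (P₁ : Set J), g • x = y := by
  obtain ⟨g, rfl⟩ := hc
  have hp := P.2.to_le hW.1
  obtain ⟨S, hS, h1⟩ := IsSylowIn.exists_le hp (H := stabilizer J (g • x)) hy
  obtain ⟨h, hh, h2⟩ := hS.exists_cj_le (IsPGroup_cj hp g) (cj_le_iff.2 fun k hk => by simp [mul_smul, hx k hk])
  obtain ⟨k, h3⟩ := exists_cj_le_sylow P hS.pgroup
  refine ⟨h * g, cj_eq_iff_mem_normalizer.1 ((cj_inj k).1 ?_), by rw [mul_smul, hh]⟩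
  rw [cj_cj] at h2 ⊢
  exact (hW.2 _ (by rw [cj_def, ← cj_cj]; exact (cj_mono k h2).trans h3)).trans (hW.2 k ((cj_mono k h1).trans h3)).symm

end Cfsg.Agent.S3180
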