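import Cfsg.Statements.S3183
import Cfsg.Agent.H2.Isolated

set_option autoImplicit false
open Cfsg

namespace Cfsg.Agent.S3183
open Subgroup CfsgH2
open scoped commutatorElement

theorem mem_z {G : Type*} [Group G] {S : Subgroup G} {x : G} :
    x ∈ (center S).map S.subtype ↔ x ∈ S ∧ S ≤ centralizer ({x} : Set G) := by
  constructor
  · rintro ⟨y, hy, rfl⟩
    exact ⟨y.2, fun s hs => mem_centralizer_singleton_iff.2
      (congrArg Subtype.val (mem_center_iff.1 hy ⟨s, hs⟩))⟩
  · rintro ⟨h1, h2⟩
    exact ⟨⟨x, h1⟩, mem_center_iff.2 fun s => Subtype.ext (mem_centralizer_singleton_iff.1 (h2 s.2)),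
      rfl⟩

/-- Let G be a finite group in which the intersection of any two distinct Sylow 2-subgroups is contained in the centre of some Sylow 2-subgroup, and let S be a Sylow 2-subgroup. Then for every x in S the centralizer of x in S is a Sylow 2-subgroup of the centralizer of x in G (no 2-subgroup centralizing x is larger), and for every other Sylow 2-subgroup T the intersection S ∩ T lies in both the centre of S and the centre of T. -/
theorem result {G : Type*} [Group G] [Finite G]
    (hCI : ∀ S T : Sylow 2 G, S ≠ T → ∃ U : Sylow 2 G,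
      (S : Subgroup G) ⊓ (T : Subgroup G) ≤ (Subgroup.center ↥(U : Subgroup G)).map (U : Subgroup G).subtype)
    (S : Sylow 2 G) :
    (∀ x ∈ (S : Subgroup G), ∀ P : Subgroup G, IsPGroup 2 ↥P → P ≤ Subgroup.centralizer ({x} : Set G) →
        Nat.card ↥P ≤ Nat.card ↥((S : Subgroup G) ⊓ Subgroup.centralizer ({x} : Set G))) ∧
    (∀ T : Sylow 2 G, T ≠ S →
        (S : Subgroup G) ⊓ (T : Subgroup G) ≤
          (Subgroup.center ↥(S : Subgroup G)).map (S : Subgroup G).subtype ⊓
            (Subgroup.center ↥(T : Subgroup G)).map (T : Subgroup G).subtype) := by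
  have key : ∀ S : Sylow 2 G, ∀ x ∈ (S : Subgroup G), IsSylowIn 2
      ((S : Subgroup G) ⊓ centralizer ({x} : Set G)) (centralizer ({x} : Set G)) := by
    intro S x hx
    refine IsSylowIn.of_maximal inf_le_right (S.isPGroup'.to_le inf_le_left) fun T hT h1 h2 => ?_
    obtain ⟨S', hS'⟩ := hT.exists_le_sylow
    by_cases e : S = S'
    · exact le_inf (e ▸ hS') h2
    obtain ⟨U, hU⟩ := hCI S S' e
    obtain ⟨A, hA⟩ : ∃ A, A = (S : Subgroup G) ⊓ centralizer ({x} : Set G) := ⟨_, rfl⟩
    have h3 : (U : Subgroup G) ≤ centralizer (A : Set G) := fun u hu a ha =>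
      (mem_centralizer_singleton_iff.1 ((mem_z.1 (hU (mem_inf.2
        ⟨(hA.le ha).1, hS' (h1 (hA.le ha))⟩))).2 hu)).symm
    have h4 := (IsSylowIn.of_sylow U (h3.trans (centralizer_le_normalizer _))).exists_cj_le
      (Q := (S : Subgroup G) ⊓ normalizer (A : Set G)) (S.isPGroup'.to_le inf_le_left) inf_le_right
    obtain ⟨n, hn, h5⟩ := h4
    have h6 : (S : Subgroup G) ⊓ normalizer (A : Set G) ≤ centralizer (A : Set G) := by
      rw [← cj_le_cj_iff n, cj_eq_iff_mem_normalizer.2 (normalizer_le_normalizer_centralizer A hn)]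
      exact h5.trans h3
    have h7 : A = S := by
      by_contra h
      refine (lt_inf_normalizer S.isPGroup' (lt_of_le_of_ne (hA.le.trans inf_le_left) h)).not_ge
        fun s hs => hA.ge (mem_inf.2 ⟨hs.1, mem_centralizer_singleton_iff.2
          (h6 hs x (hA.ge (mem_inf.2 ⟨hx, mem_centralizer_singleton_iff.2 rfl⟩))).symm⟩)
    rw [← hA, h7] at h1 ⊢
    exact ((IsSylowIn.of_sylow_top S).eq_of_le hT h1 le_top).le
  have key2 : ∀ S U : Sylow 2 G, ∀ x ∈ (S : Subgroup G),
      x ∈ (center (U : Subgroup G)).map (U : Subgroup G).subtype →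
      x ∈ (center (S : Subgroup G)).map (S : Subgroup G).subtype := by
    intro S U x hx hU
    refine mem_z.2 ⟨hx, (eq_of_le_of_card_le inf_le_left ?_).ge.trans inf_le_right⟩
    rw [(IsSylowIn.of_sylow_top S).card_eq_card (IsSylowIn.of_sylow_top U)]
    exact (key S x hx).card_le U.isPGroup' (mem_z.1 hU).2
  refine ⟨fun x hx P hP h => (key S x hx).card_le hP h, fun T hT x hx => ?_⟩
  obtain ⟨U, hU⟩ := hCI S T hT.symm
  exact mem_inf.2 ⟨key2 S U x hx.1 (hU hx), key2 T U x hx.2 (hU hx)⟩


end Cfsg.Agent.S3183
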