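import Cfsg.Statements.S3184
import Cfsg.Agent.H2.Isolated
import Cfsg.Agent.H2.Critical
import Cfsg.Agent.S3183

set_option autoImplicit false
open Cfsg

namespace Cfsg.Agent.S3184
open Subgroup CfsgH2
open scoped commutatorElement

/-- Let G be a finite group in which the intersection of any two distinct Sylow 2-subgroups is contained in the centre of some Sylow 2-subgroup, and let S be a Sylow 2-subgroup. If C is a nontrivial cyclic characteristic subgroup of S, then the involution of C is central modulo the largest normal subgroup of odd order of G: each of its conjugates has the same image in G/O(G). -/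
theorem result {G : Type*} [Group G] [Finite G]
    (hCI : ∀ S T : Sylow 2 G, S ≠ T → ∃ U : Sylow 2 G,
      (S : Subgroup G) ⊓ (T : Subgroup G) ≤ (Subgroup.center ↥(U : Subgroup G)).map (U : Subgroup G).subtype)
    (S : Sylow 2 G) (C : Subgroup ↥(S : Subgroup G)) (hC : C ≠ ⊥) (hCc : IsCyclic ↥C) (hCh : C.Characteristic)
    (c : ↥(S : Subgroup G)) (hc : c ∈ C) (hc2 : orderOf c = 2) :
    ∀ g : G, (QuotientGroup.mk (s := Cfsg.oddCore G) (g * (c : G) * g⁻¹)) =
      QuotientGroup.mk (s := Cfsg.oddCore G) (c : G) := by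
  have hS := IsSylowIn.of_sylow_top S
  have h1 : ∀ n ∈ normalizer ((S : Subgroup G) : Set G), n * c * n⁻¹ = c := fun n hn =>
    congrArg Subtype.val (uniqInv_of_isCyclic hCc _ (apply_mem_of_characteristic hCh
      ((S : Subgroup G).normalizerMonoidHom ⟨n, hn⟩) hc) _ hc (by rw [MulEquiv.orderOf_eq, hc2]) hc2)
  have h2 : (c : G) ∈ centralizer ((S : Subgroup G) : Set G) := fun s hs =>
    mul_inv_eq_iff_eq_mul.1 (h1 s (le_normalizer hs))
  have h3 : Cfsg.IsIsolatedInvolution (c : G) := by
    refine isolated_of_sylow S (by rw [Subgroup.orderOf_coe, hc2]) c.2 fun g hg => ?_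
    by_cases e : g • S = S
    · exact h1 g (Sylow.smul_eq_iff_mem_normalizer.1 e)
    have h4 := ((Cfsg.Agent.S3183.result hCI S).2 _ e (mem_inf.2 ⟨hg, by
      rw [sylow_smul_coe]; exact conj_mem_cj g c.2⟩)).1
    obtain ⟨n, hn, h5⟩ := S.conj_eq_normalizer_conj_of_mem_centralizer c g⁻¹ h2 (by
      rw [inv_inv]
      exact fun s hs => mem_centralizer_singleton_iff.1 ((Cfsg.Agent.S3183.mem_z.1 h4).2 hs))
    rw [inv_inv] at h5
    rw [h5]
    simpa using h1 n⁻¹ (inv_mem hn)
  intro g
  rw [eq_comm, QuotientGroup.eq]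
  have := zstar h3 g
  rw [inv_eq_of_mul_self (isolated_mul_self h3)] at this ⊢
  simpa [mul_assoc] using this


end Cfsg.Agent.S3184
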