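import Cfsg.Statements.S3190
import Cfsg.Agent.H1.Coprime
import Cfsg.Agent.H1.Cores
import Cfsg.Agent.H2.PGroup
import Cfsg.Agent.Lead.GenFitting

set_option autoImplicit false
open Cfsg

namespace Cfsg.Agent.S3190

open Subgroup CfsgH1

/-- Let p be an odd prime and, inside a finite group, let P be a p-subgroup normalized by a Klein four-group T. Let R be a subgroup of P, normal in P and normalized by T, such that P is the product of R with the centralizer of T in P. If T centralizes the centre of P, then T centralizes the centre of R. -/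
theorem result {X : Type*} [Group X] [Finite X]
    {p : ℕ} (hp : p.Prime) (hodd : Odd p) (P T R : Subgroup X) (hP : IsPGroup p ↥P) (hT : IsKleinFour ↥T)
    (hTP : T ≤ Subgroup.normalizer (P : Set X)) (hRP : R ≤ P) (hRn : (R.subgroupOf P).Normal)
    (hTR : T ≤ Subgroup.normalizer (R : Set X)) (hfac : R ⊔ (P ⊓ Subgroup.centralizer (T : Set X)) = P)
    (hZ : T ≤ Subgroup.centralizer (((Subgroup.center ↥P).map P.subtype : Subgroup X) : Set X)) :
    T ≤ Subgroup.centralizer (((Subgroup.center ↥R).map R.subtype : Subgroup X) : Set X) := by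
  have := Fact.mk hp
  have hTZ := hTR.trans (normalizer_le_normalizer_map_of_characteristic (center R))
  have h0 : (center R).map R.subtype ≤ P := (map_subtype_le _).trans hRP
  have h1 := commutator_le_left_of_le_normalizer hTZ
  have h2 : R ≤ centralizer ((center R).map R.subtype : Set X) := by
    rintro r hr _ ⟨z, hz, rfl⟩; exact (congrArg Subtype.val (mem_center_iff.1 hz ⟨r, hr⟩)).symm
  rw [le_centralizer_iff, ← commutator_eq_bot_iff_le_centralizer]
  by_contra h
  obtain ⟨x, hx, x1, -, h3⟩ := CfsgH2.exists_central_of_ne_bot hP (h1.trans h0) (hfac.ge.trans (sup_le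
    (h2.trans ((centralizer_le h1).trans (centralizer_le_normalizer _))) (le_normalizer_commutator (inf_le_left.trans
      (((normal_subgroupOf_iff_le_normalizer hRP).1 hRn).trans (normalizer_le_normalizer_map_of_characteristic _)))
      (inf_le_right.trans (centralizer_le_normalizer _))))) h
  obtain ⟨k, hk⟩ := IsPGroup.iff_card.1 (hP.to_le h0)
  refine x1 ((centralizer_inf_commutator_eq_bot hTZ (by
    rw [hT.card_four, hk]; exact (Nat.coprime_two_left.2 hodd).pow 2 k)).le ⟨⟨h1 hx, le_centralizer_iff.1 hZ
      ⟨⟨x, h0 (h1 hx)⟩, mem_center_iff.2 fun y => Subtype.ext (h3 y y.2), rfl⟩⟩, hx⟩)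

end Cfsg.Agent.S3190
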