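import Cfsg.Statements.S3200
import Cfsg.Agent.Lead.KW2

set_option autoImplicit false
open Cfsg

namespace Cfsg.Agent.S3200

open Subgroup CfsgFT CfsgH1 CfsgKW

/-- Let H be a finite group in which a Sylow 2-subgroup has an abelian complement (an abelian subgroup meeting it trivially whose product with it is all of H). Then H is solvable, and every subgroup and every quotient group of H again has a Sylow 2-subgroup with an abelian complement. -/
theorem result {H : Type*} [Group H] [Finite H]
    (S : Sylow 2 H) (C : Subgroup H) (hC : IsMulCommutative ↥C) (hSC : Subgroup.IsComplement' (S : Subgroup H) C) :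
    Group.IsSolvable H ∧
    (∀ L : Subgroup H, ∃ (P : Sylow 2 ↥L) (D : Subgroup ↥L), IsMulCommutative ↥D ∧ Subgroup.IsComplement' (P : Subgroup ↥L) D) ∧
    (∀ (N : Subgroup H) [N.Normal], ∃ (P : Sylow 2 (H ⧸ N)) (D : Subgroup (H ⧸ N)),
      IsMulCommutative ↥D ∧ Subgroup.IsComplement' (P : Subgroup (H ⧸ N)) D) := by
  have hh := hall_of_compl S hSC
  have c := comm_iff.1 hC
  haveI hs : Group.IsSolvable H := kw (A := S) (B := C) (fac_top.2 fun g => by
    obtain ⟨⟨a, b⟩, e⟩ := hSC.2 g
    exact ⟨a, a.2, b, b.2, e.symm⟩) S.isPGroup'.isNilpotent (nilpotent_of_comm c)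
  refine ⟨hs, fun L => ?_, fun N _ => ?_⟩
  · obtain ⟨D, hD⟩ := exists_hall (isSolvable_top L) {2}ᶜ
    obtain ⟨g, -, hg⟩ := hh.exists_le_cj (isSolvable_top ⊤) hD.isPi le_top
    obtain ⟨P⟩ : Nonempty (Sylow 2 L) := inferInstance
    refine ⟨P, D.subgroupOf L, comm_iff.2 (subgroupOf_le_cent L (cent_mono (cj_le_cent_cj c g) hg hg)),
      compl_of_hall P ?_⟩
    have := hD.subgroupOf le_rfl
    rwa [subgroupOf_self] at this
  · obtain ⟨P⟩ : Nonempty (Sylow 2 (H ⧸ N)) := inferInstance
    refine ⟨P, C.map (QuotientGroup.mk' N), comm_iff.2 (map_le_cent _ c), compl_of_hall P ?_⟩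
    have := hh.map (QuotientGroup.mk' N)
    rwa [map_top_of_surjective _ (QuotientGroup.mk'_surjective N)] at this

end Cfsg.Agent.S3200
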