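import Cfsg.Statements.S3208
import Cfsg.Agent.H1.Cores
import Cfsg.Agent.H2.SylowIn
import Cfsg.Agent.H2.Dih

set_option autoImplicit false
open Cfsg

namespace Cfsg.Agent.S3208

open Subgroup CfsgH1 CfsgH2

/-- Let j be an involution of a finite group G, H a subgroup of G, and T a Sylow 2-subgroup of H ∩ C_G(j) containing j such that ⟨j⟩ is a characteristic subgroup of T. Then T is a Sylow 2-subgroup of H. -/
theorem result {G : Type*} [Group G] [Finite G]
    (j : G) (hj : orderOf j = 2) (H T : Subgroup G) (hT : T ≤ H ⊓ Subgroup.centralizer ({j} : Set G)) (h2 : IsPGroup 2 ↥T)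
    (hSyl : ¬ 2 ∣ T.relIndex (H ⊓ Subgroup.centralizer ({j} : Set G))) (hjT : j ∈ T)
    (hchar : ((Subgroup.zpowers j).subgroupOf T).Characteristic) :
    ¬ 2 ∣ T.relIndex H := by
  have : Fact (Nat.Prime 2) := ⟨Nat.prime_two⟩
  obtain ⟨S, hS, h1⟩ := IsSylowIn.exists_le h2 (hT.trans inf_le_left)
  rcases h1.eq_or_lt with rfl | h
  · exact hS.not_dvd
  refine absurd ((IsSylowIn.mk hT h2 hSyl).eq_of_le (hS.pgroup.to_le inf_le_left) (lt_inf_normalizer hS.pgroup h).le
    fun g hg => ⟨hS.le hg.1, ?_⟩) (lt_inf_normalizer hS.pgroup h).ne'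
  have := normalizer_le_normalizer_map_of_characteristic ((zpowers j).subgroupOf T) hg.2
  rw [subgroupOf_map_subtype, inf_eq_left.2 (zpowers_le.2 hjT)] at this
  exact mem_centralizer_singleton_iff.2 (mul_inv_eq_iff_eq_mul.1 (((mem_zpowers_of_mul_self (mul_self_of_orderOf_two hj)).1
    ((mem_normalizer_iff.1 this j).1 (mem_zpowers j))).resolve_left fun e => ne_one_of_orderOf_two hj (by simpa using e)))

end Cfsg.Agent.S3208
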