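import Cfsg.Statements.S3209
import Cfsg.Agent.H1.PSL2e

set_option autoImplicit false
open Cfsg

namespace Cfsg.Agent.S3209

/-- Let L₁ ≅ SL₂(q₁) and L₂ ≅ SL₂(q₂), q₁ and q₂ odd, be elementwise-commuting subgroups of a finite group meeting in ⟨j⟩ for an involution j. Then L₁L₂ has exactly two conjugacy classes of involutions: the central involution j, and one further class (there is an involution x ≠ j in L₁L₂, and every involution of L₁L₂ other than j is conjugate to x by an element of L₁L₂). -/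
theorem result {G : Type*} [Group G] [Finite G]
    {F₁ : Type*} [Field F₁] [Fintype F₁] {F₂ : Type*} [Field F₂] [Fintype F₂]
    (hF₁ : Odd (Fintype.card F₁)) (hF₂ : Odd (Fintype.card F₂)) (L₁ L₂ : Subgroup G)
    (e₁ : ↥L₁ ≃* Matrix.SpecialLinearGroup (Fin 2) F₁) (e₂ : ↥L₂ ≃* Matrix.SpecialLinearGroup (Fin 2) F₂)
    (hc : ∀ x ∈ L₁, ∀ y ∈ L₂, x * y = y * x) (j : G) (hj : orderOf j = 2) (hm : L₁ ⊓ L₂ = Subgroup.zpowers j) :
    ∃ x ∈ L₁ ⊔ L₂, orderOf x = 2 ∧ x ≠ j ∧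
      ∀ y ∈ L₁ ⊔ L₂, orderOf y = 2 → y = j ∨ ∃ g ∈ L₁ ⊔ L₂, g * x * g⁻¹ = y := by
  open Subgroup CfsgH1 CfsgH1.L2 CfsgH2 in
  classical
  have m := hm.ge (mem_zpowers j)
  have h : CP L₁ L₂ j := ⟨hj, sq_of_equiv hF₁ e₁ hj m.1, sq_of_equiv hF₂ e₂ hj m.2, hc, hm⟩
  obtain ⟨j2, j1⟩ := orderOf_two_iff.1 hj
  obtain ⟨a, ha, a2⟩ := h.l.ex
  obtain ⟨b, hb, b2⟩ := h.r.ex
  have n : a * b ∉ zpowers j := fun k => by
    rcases h.zp (hm.le ⟨ha, (mul_mem_cancel_right hb).1 (hm.ge k).2⟩) with k | k <;> rw [k] at a2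
    exacts [j1 (by simpa using a2.symm), j1 (a2.symm.trans j2)]
  refine ⟨a * b, mul_mem_sup ha hb, orderOf_two_of (by rw [h.sq ha hb, a2, b2, j2])
    fun k => n (k ▸ one_mem _), fun k => n (k ▸ mem_zpowers _), fun y hy o => ?_⟩
  obtain ⟨c, hc', d, hd, rfl⟩ := h.dec hy
  obtain ⟨y2, y1⟩ := orderOf_two_iff.1 o
  have e := (h.sq hc' hd).symm.trans y2
  rcases h.sq_mem hc' hd (y2 ▸ one_mem _) with k | k <;> rw [k] at e
  · exact .inl ((h.zp (mul_mem (h.l.inv c hc' k) (h.r.inv d hd (by simpa using e)))).resolve_left y1)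
  obtain ⟨u, hu, rfl⟩ := h.l.conj a ha c hc' a2 k
  obtain ⟨v, hv, rfl⟩ := h.r.conj b hb d hd b2 (mul_left_cancel (e.trans j2.symm))
  refine .inr ⟨u * v, mul_mem_sup hu hv, ?_⟩
  rw [mul_assoc _ u⁻¹, hc _ (inv_mem hu) _ hd, mul_assoc u v, ← mul_assoc v, ← hc a ha v hv]
  group

end Cfsg.Agent.S3209
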