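import Cfsg.Statements.S3210
import Cfsg.Agent.H1.PSL2e

set_option autoImplicit false
open Cfsg

namespace Cfsg.Agent.S3210

/-- Let G be a finite group with subgroups L₁ ≅ SL₂(q₁) and L₂ ≅ SL₂(q₂), q₁ and q₂ odd prime powers, which commute elementwise and meet in ⟨j⟩ for an involution j, and suppose L₁L₂ has index 2 in C_G(j). Then every element n of C_G(j) outside L₁L₂ either normalizes both L₁ and L₂, or conjugates L₁ onto L₂; in the second case q₁ = q₂ and there is an element n′ of C_G(j) outside L₁L₂ conjugating L₁ onto L₂ with n′² ∈ ⟨j⟩. -/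
theorem result {G : Type*} [Group G] [Finite G]
    {F₁ : Type*} [Field F₁] [Fintype F₁] {F₂ : Type*} [Field F₂] [Fintype F₂]
    (hF₁ : Odd (Fintype.card F₁)) (hF₂ : Odd (Fintype.card F₂)) (L₁ L₂ : Subgroup G)
    (e₁ : ↥L₁ ≃* Matrix.SpecialLinearGroup (Fin 2) F₁) (e₂ : ↥L₂ ≃* Matrix.SpecialLinearGroup (Fin 2) F₂)
    (hc : ∀ x ∈ L₁, ∀ y ∈ L₂, x * y = y * x) (j : G) (hj : orderOf j = 2) (hm : L₁ ⊓ L₂ = Subgroup.zpowers j)
    (hle : L₁ ⊔ L₂ ≤ Subgroup.centralizer ({j} : Set G)) (hi : (L₁ ⊔ L₂).relIndex (Subgroup.centralizer ({j} : Set G)) = 2) (n : G) (hn : n ∈ Subgroup.centralizer ({j} : Set G)) (hn' : n ∉ L₁ ⊔ L₂) :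
    (L₁.map (MulAut.conj n).toMonoidHom = L₁ ∧ L₂.map (MulAut.conj n).toMonoidHom = L₂) ∨
      (L₁.map (MulAut.conj n).toMonoidHom = L₂ ∧ Fintype.card F₁ = Fintype.card F₂ ∧
        ∃ n' ∈ Subgroup.centralizer ({j} : Set G), n' ∉ L₁ ⊔ L₂ ∧ L₁.map (MulAut.conj n').toMonoidHom = L₂ ∧ n' ^ 2 ∈ Subgroup.zpowers j) := by
  open Subgroup CfsgH1 CfsgH1.L2 CfsgH2 in
  classical
  have m := hm.ge (mem_zpowers j)
  have h : CP L₁ L₂ j := ⟨hj, sq_of_equiv hF₁ e₁ hj m.1, sq_of_equiv hF₂ e₂ hj m.2, hc, hm⟩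
  have nj : n * j * n⁻¹ = j := by rw [mem_centralizer_singleton_iff.1 hn, mul_inv_cancel_right]
  have h' : CP (cj n L₁) (cj n L₂) j := ⟨hj,
    sq_of_equiv hF₁ ((cjEquiv n L₁).symm.trans e₁) hj (nj ▸ conj_mem_cj n m.1),
    sq_of_equiv hF₂ ((cjEquiv n L₂).symm.trans e₂) hj (nj ▸ conj_mem_cj n m.2), by
      rintro _ ⟨x, hx, rfl⟩ _ ⟨y, hy, rfl⟩; rw [← map_mul, hc x hx y hy, map_mul], by
      rw [← cj_inf, hm, cj_zpowers, nj]⟩
  have nn : (L₁ ⊔ L₂).subgroupOf (centralizer {j}) |>.Normal := normal_of_index_eq_two hi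
  have e : cj n (L₁ ⊔ L₂) = L₁ ⊔ L₂ := cj_eq_iff_mem_normalizer.2 ((normal_subgroupOf_iff_le_normalizer hle).1 nn hn)
  refine (h.perm h' (by rw [← cj_sup, e])).imp_right fun ⟨k1, k2⟩ => ⟨k1, ?_, ?_⟩
  · have c := card_cj n L₁
    rw [k1, Nat.card_congr e₁.toEquiv, Nat.card_congr e₂.toEquiv, card_S2, card_S2] at c
    have mono : ∀ a b : ℕ, 2 ≤ a → a < b → a * (a - 1) * (a + 1) < b * (b - 1) * (b + 1) := fun a b h1 h2 =>
      Nat.mul_lt_mul'' (Nat.mul_lt_mul'' h2 (by omega)) (by omega)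
    rcases lt_trichotomy (Fintype.card F₁) (Fintype.card F₂) with k | k | k
    · exact absurd c (mono _ _ two_le_q k).ne'
    · exact k
    · exact absurd c (mono _ _ two_le_q k).ne
  obtain ⟨a, ha, b, hb, k⟩ := h.dec (show n * n ∈ L₁ ⊔ L₂ from
    mul_self_mem_of_index_two hi (⟨n, hn⟩ : centralizer {j}))
  have a2 : n * a * n⁻¹ ∈ L₂ := k1.le (conj_mem_cj n ha)
  have b1 : n * b * n⁻¹ ∈ L₁ := k2.le (conj_mem_cj n hb)
  have e1 : n * b * n⁻¹ * (n * a * n⁻¹) = a * b := by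
    rw [hc _ b1 _ a2, conj_mul, k]; group
  have z : (n * a * n⁻¹)⁻¹ * b ∈ zpowers j := by
    refine hm.le (mem_inf.2 ⟨?_, mul_mem (inv_mem a2) hb⟩)
    have m := mul_mem (inv_mem ha) b1
    rwa [← inv_mul_cancel_left a b, ← e1, ← mul_assoc a⁻¹, hc _ m _ a2, inv_mul_cancel_left]
  refine ⟨a⁻¹ * n, mul_mem (hle (mem_sup_left (inv_mem ha))) hn, fun k => hn' ((mul_mem_cancel_left
    (mem_sup_left (inv_mem ha))).1 k), ?_, ?_⟩
  · rw [cj_def, ← cj_cj, k1, cj_eq_iff_mem_normalizer]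
    exact h.symm.norm (inv_mem ha)
  · rwa [sq, show a⁻¹ * n * (a⁻¹ * n) = a⁻¹ * (n * a * n⁻¹)⁻¹ * (n * n) by group, ← k,
      hc _ (inv_mem ha) _ (inv_mem a2), mul_assoc, inv_mul_cancel_left]

end Cfsg.Agent.S3210
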