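import Cfsg.Statements.S3213
import Cfsg.Agent.H1.Sp43

set_option autoImplicit false
open Cfsg

namespace Cfsg.Agent.S3213

open CfsgH1.Sp43 Matrix

/-- Let F be the field with 3 elements and K the field with 5 elements. For every injective homomorphism φ from SL₂(K) into the symplectic group Sp₄(F) (4 × 4 matrices g with g J gᵀ = J for the standard alternating matrix J) and every element x of order 3 of SL₂(K), the vectors of F⁴ fixed by φ(x) form a 2-dimensional subspace that is totally isotropic for the alternating form defined by J. -/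
theorem result {F : Type*} [Field F] [Fintype F] (hF : Fintype.card F = 3)
    {K : Type*} [Field K] [Fintype K] (hK : Fintype.card K = 5)
    (φ : Matrix.SpecialLinearGroup (Fin 2) K →* ↥(Matrix.symplecticGroup (Fin 2) F)) (hφ : Function.Injective φ)
    (x : Matrix.SpecialLinearGroup (Fin 2) K) (hx : orderOf x = 3) :
    Module.finrank F ↥(LinearMap.ker (Matrix.toLin' ((φ x : Matrix (Fin 2 ⊕ Fin 2) (Fin 2 ⊕ Fin 2) F)) - LinearMap.id)) = 2 ∧
      ∀ v w : Fin 2 ⊕ Fin 2 → F, (φ x : Matrix (Fin 2 ⊕ Fin 2) (Fin 2 ⊕ Fin 2) F).mulVec v = v →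
        (φ x : Matrix (Fin 2 ⊕ Fin 2) (Fin 2 ⊕ Fin 2) F).mulVec w = w →
          dotProduct v ((Matrix.J (Fin 2) F).mulVec w) = 0 := by
  have e := ZMod.ringEquivOfPrime K (by norm_num : Nat.Prime 5) hK
  let f := Matrix.SpecialLinearGroup.map (n := Fin 2) e.toRingHom
  have fi : Function.Injective f := fun a b k => Subtype.ext (Matrix.ext fun i j => e.injective
    (congrFun (congrFun (congrArg Subtype.val k) i) j))
  obtain ⟨y, rfl⟩ : ∃ y, f y = x := ⟨Matrix.SpecialLinearGroup.map (n := Fin 2) e.symm.toRingHom x,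
    Subtype.ext (Matrix.ext fun i j => e.apply_symm_apply _)⟩
  rw [orderOf_injective f fi] at hx
  have h3 : y ^ 3 = 1 := hx ▸ pow_orderOf_eq_one y
  have h1 : y ≠ 1 := by rintro rfl; simp at hx
  obtain ⟨g, z1, z2⟩ := grp y h3 h1
  let ρ : Matrix.SpecialLinearGroup (Fin 2) (ZMod 5) →* Module.End F (Fin 2 ⊕ Fin 2 → F) :=
    (toLinAlgEquiv' (R := F) (n := Fin 2 ⊕ Fin 2)).toMonoidHom.comp ((symplecticGroup (Fin 2) F).subtype.comp (φ.comp f))
  have hρ : Function.Injective ρ := (toLinAlgEquiv' (R := F) (n := Fin 2 ⊕ Fin 2)).injective.comp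
    (Subtype.val_injective.comp (hφ.comp fi))
  have d := dim hF (by simp) ρ hρ h3 h1 z1 z2
  refine ⟨d, fun v w hv hw => ?_⟩
  have := iso (ρ y) (Matrix.toBilin' (J (Fin 2) F)) (fun v => ?_) (fun v w => ?_)
    (nil hF (by rw [← map_pow, h3, map_one])) (fun k => h1 (hρ (k.trans (map_one ρ).symm))) d (v := v) (w := w) hv hw
  · rwa [Matrix.toBilin'_apply'] at this
  · simp [Matrix.toBilin'_apply', J, dotProduct, mulVec, Fintype.sum_sum_type, fromBlocks, Fin.sum_univ_two, one_apply]
    ring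
  · have k := SymplecticGroup.mem_iff'.1 (φ (f y)).2
    show Matrix.toBilin' _ ((φ (f y)).1 *ᵥ v) ((φ (f y)).1 *ᵥ w) = _
    rw [Matrix.toBilin'_apply', Matrix.toBilin'_apply', mulVec_mulVec, ← vecMul_transpose, dotProduct_mulVec,
      vecMul_vecMul, ← mul_assoc, k, ← dotProduct_mulVec]

end Cfsg.Agent.S3213
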