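import Cfsg.Statements.S3222
import Cfsg.Agent.S3035
import Cfsg.Agent.H3.An1
import Cfsg.Agent.H9.Fpf3
import Cfsg.Agent.H8.Ex3
import Cfsg.Agent.H2.Cls
import Cfsg.Agent.H5.Iso1
import Cfsg.Agent.H5.Iso2
import Cfsg.Agent.H2.Transfer
import Cfsg.Agent.H3.Burnside

set_option autoImplicit false
open Cfsg

namespace Cfsg.Agent.S3222

section
open Equiv
set_option synthInstance.maxSize 2000
abbrev W := Multiplicative (ZMod 2) × Equiv.Perm (Fin 4)
def τ : W := (Multiplicative.ofAdd 1, 1)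
def z0 : W := (1, swap 0 1 * swap 2 3)
def z1 : W := (1, swap 0 2 * swap 1 3)
def a0 : W := (1, swap 0 1)
def x0 : W := (1, swap 0 1 * swap 1 2)
abbrev Cj (a w : W) : Prop := ∃ u : W, u * a * u⁻¹ = w
abbrev P (w : W) : Prop := w.2 = 1 ∨ w.2 = z0.2 ∨ w.2 = z1.2 ∨ w.2 = (z0 * z1).2
theorem d1 : ∀ w : W, (∀ v, v * w = w * v) → w = 1 ∨ w = τ := by decide +kernel
theorem d2 : ∀ w : W, w * w = 1 → P w ∨ Cj a0 w ∨ Cj (τ * a0) w := by decide +kernel
theorem d2' : ∀ w : W, P w → w = 1 ∨ w = τ ∨ Cj z0 w ∨ Cj (τ * z0) w := by decide +kernel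
theorem d3 : ∀ v w : W, P v → P w → P (v * w) := by decide +kernel
theorem d4 : ∀ u v : W, z0 * u = u * z0 → z0 * v = v * z0 → u * v * u⁻¹ * v⁻¹ = 1 ∨ u * v * u⁻¹ * v⁻¹ = z0 := by
  decide +kernel
theorem d7 : ∀ w : W, w ≠ 1 → w = τ ∨ ∃ u v : W, z0 = v * (u * w * u⁻¹ * w⁻¹) * v⁻¹ := by decide +kernel
theorem d8 : ∀ w : W, Cj a0 w ∨ Cj (τ * a0) w → (∃ u : W, u * w * u⁻¹ * w ≠ w * (u * w * u⁻¹)) ∧
    7 ≤ (insert τ (Finset.univ.image fun u => u * w * u⁻¹)).card := by decide +kernel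
theorem d9 : ∀ r : W, r = a0 * z1 ∨ r = τ * (a0 * z1) → (r ^ 4 = 1 ∧ r ^ 2 ≠ 1 ∧ z1 * r * z1⁻¹ = r⁻¹ ∧ z0 * r = r * z0 ∧
    ∀ i : Fin 4, r ^ (i : ℕ) ≠ z1) ∧ ∀ w, z0 * w = w * z0 → ∃ i : Fin 4, w = r ^ (i : ℕ) ∨ w = r ^ (i : ℕ) * z1 ∨
      w = τ * r ^ (i : ℕ) ∨ w = τ * (r ^ (i : ℕ) * z1) := by decide +kernel
abbrev KP (b : Bool) (w : W) : Prop := z0 * w = w * z0 ∧ (w.1 = 1 ↔ (b = true → Perm.sign w.2 = 1))
theorem k1 : ∀ b, KP b 1 ∧ (∀ u v, KP b u → KP b v → KP b (u * v)) ∧ ∀ u, KP b u → KP b u⁻¹ := by decide +kernel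
def K (b : Bool) : Subgroup W where
  carrier := {w | KP b w}
  one_mem' := (k1 b).1
  mul_mem' := (k1 b).2.1 _ _
  inv_mem' := (k1 b).2.2 _
theorem dK : ∀ w : W, w * w = 1 → (KP false w → w = 1 ∨ Cj z0 w ∨ Cj a0 w) ∧
    (KP true w → w = 1 ∨ Cj z0 w ∨ Cj (τ * a0) w) := by decide +kernel
theorem cK (b : Bool) : Nat.card (K b) = 8 := by
  change Nat.card {w : W // KP b w} = 8
  rw [Nat.card_eq_fintype_card]; revert b; decide +kernel
theorem cS : Nat.card (Subgroup.centralizer {z0}) = 16 := by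
  rw [Nat.card_congr (Equiv.subtypeEquivRight fun _ => CfsgFT.mem_cent1), Nat.card_eq_fintype_card]; decide +kernel
def V : Subgroup W where
  carrier := {w | w.1 = 1 ∧ P w}
  one_mem' := by decide +kernel
  mul_mem' := by intro u v; revert u v; decide +kernel
  inv_mem' := by intro u; revert u; decide +kernel
theorem cV : Nat.card V = 4 := by
  change Nat.card {w : W // w.1 = 1 ∧ P w} = 4
  rw [Nat.card_eq_fintype_card]; decide +kernel
theorem dV : ∀ w : W, w.1 = 1 ∧ P w → w = 1 ∨ Cj z0 w := by decide +kernel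
theorem d10 : τ * τ = 1 ∧ τ ≠ 1 ∧ (∀ v, τ * v = v * τ) ∧ z0 * z0 = 1 ∧ z0 ≠ 1 ∧ a0 * z1 * a0⁻¹ * z1⁻¹ = z0 ∧
    z0 * a0 = a0 * z0 ∧ z0 * z1 = z1 * z0 ∧ a0 ≠ τ ∧ (a0 * z1) * (a0 * z1) = z0 ∧ x0 * z0 * x0⁻¹ * z0⁻¹ ≠ 1 ∧
    (x0 * z0 * x0⁻¹ * z0⁻¹) ^ 2 = 1 ∧ x0 ^ 3 = 1 ∧ x0 ≠ 1 ∧ x0⁻¹ * x0⁻¹ = x0 ∧ Cj z0 z1 ∧ z1 * z1 = 1 := by decide +kernel

def y0 : alternatingGroup (Fin 6) := ⟨swap 0 1 * swap 1 2 * (swap 3 4 * swap 4 5), Perm.mem_alternatingGroup.2 (by decide +kernel)⟩

attribute [irreducible] τ z0 z1 a0 x0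

theorem conj3 {y : alternatingGroup (Fin 6)} (h : orderOf y = 3) (n : ¬ y.1.IsThreeCycle) : IsConj y0 y := by
  have k : ∀ y : alternatingGroup (Fin 6), orderOf y = 3 → ¬ y.1.IsThreeCycle → y.1.cycleType = Multiset.replicate 2 3 :=
      fun y h n => by
    rw [← Subgroup.orderOf_coe] at h
    obtain ⟨m, e⟩ := Perm.cycleType_prime_order (σ := y.1) (h ▸ Nat.prime_three)
    have := y.1.sum_cycleType_le
    rw [h] at e
    rw [e, Multiset.sum_replicate, Fintype.card_fin, smul_eq_mul] at this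
    rcases m with _ | m
    · exact (n e).elim
    · rw [e, show m = 0 by omega]
  refine CfsgPm.conjA (Perm.isConj_iff_cycleType_eq.2 ((k y0 (orderOf_eq_prime (by decide +kernel) (by decide +kernel))
    fun c => absurd c.card_support (by decide +kernel)).trans (k y h n).symm)) fun c => ?_
  exact absurd (c (CfsgFT.mem_cent1.2 (by decide +kernel : y0.1 * (swap 0 3 * swap 1 4 * swap 2 5) = _)))
    (Perm.mem_alternatingGroup.not.2 (by decide +kernel))

theorem aut3 (α : MulAut (alternatingGroup (Fin 6))) {x : alternatingGroup (Fin 6)} (h : orderOf x = 3) (e : α x = x) :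
    α ∈ (MulAut.conjNormal : Perm (Fin 6) →* _).range := by
  by_cases n : x.1.IsThreeCycle
  · exact CfsgPm.ind3 le_rfl α n (e.symm ▸ n)
  have c3 := Perm.isThreeCycle_swap_mul_swap_same (a := (0 : Fin 6)) (b := 1) (c := 2) (by decide) (by decide) (by decide)
  refine CfsgPm.ind3 le_rfl α (c := ⟨_, c3.mem_alternatingGroup⟩) c3 (by_contra fun m => n ?_)
  have := (conj3 ((α.orderOf_eq _).trans ((Subgroup.orderOf_coe _).symm.trans c3.orderOf)) m).symm.trans (conj3 h n)
  rw [← e] at this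
  have k := (alternatingGroup (Fin 6)).subtype.map_isConj (α.symm.toMonoidHom.map_isConj this)
  simp only [MulEquiv.coe_toMonoidHom, MulEquiv.symm_apply_apply] at k
  exact (Perm.isConj_iff_cycleType_eq.1 k).symm.trans c3
end

/-- Let G be a finite group of even order such that (1) some involution t lying in the centre of a Sylow 2-subgroup of G has C_G(t) ≅ Z₂ × S₄, and (2) every Sylow 2-subgroup S of G satisfies C_G(S′) = S, where S′ is the derived subgroup of S. Then G = C_G(t) if G is solvable, and G ≅ S₆ otherwise. -/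
theorem result {G : Type*} [Group G] [Finite G] (hev : Even (Nat.card G))
    (t : G) (ht : orderOf t = 2) (T : Sylow 2 G) (htT : t ∈ (T : Subgroup G)) (htc : ∀ s ∈ (T : Subgroup G), s * t = t * s)
    (e : ↥(Subgroup.centralizer ({t} : Set G)) ≃* (Multiplicative (ZMod 2) × Equiv.Perm (Fin 4)))
    (h2 : ∀ S : Sylow 2 G, Subgroup.centralizer ((⁅(S : Subgroup G), (S : Subgroup G)⁆ : Subgroup G) : Set G) = (S : Subgroup G)) :
    (Group.IsSolvable G → Subgroup.centralizer ({t} : Set G) = ⊤) ∧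
      (¬ Group.IsSolvable G → Nonempty (G ≃* Equiv.Perm (Fin 6))) := by
  open Subgroup CfsgH1 CfsgFT CfsgH2 in
  classical
  obtain ⟨t2, t1, tc, z2, zn, zc, za, zz, at', rr, xz1, xz2, x3, x1, xx, cz, z12⟩ := d10
  let f : W →* G := C1(t).subtype.comp e.symm.toMonoidHom
  have fi : Function.Injective f := Subtype.val_injective.comp e.symm.injective
  have fr : ∀ g, t * g = g * t → ∃ w, f w = g := fun g h => ⟨e ⟨g, mem_cent1.2 h⟩, by simp [f]⟩
  have fc : ∀ w, t * f w = f w * t := fun w => mem_cent1.1 (e.symm w).2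
  have ft : f τ = t := by
    obtain ⟨w, k⟩ := fr t rfl
    rcases d1 w fun v => fi (by rw [map_mul, map_mul, k, fc]) with rfl | rfl
    · exact absurd (k.symm.trans (map_one f)) (ne_one_of_orderOf_two ht)
    · exact k
  have c48 : Nat.card C1(t) = 48 := by rw [Nat.card_congr e.toEquiv, Nat.card_eq_fintype_card]; rfl
  have cS' : Nat.card (C1(z0).map f) = 16 := (card_map_of_injective fi).trans cS
  have SC : C1(z0).map f ≤ C1(t) := by rintro _ ⟨w, -, rfl⟩; exact mem_cent1.2 (fc w)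
  have hS0 : IsSylowIn 2 (C1(z0).map f) C1(t) := ⟨SC, IsPGroup.of_card (n := 4) cS', by
    have := CfsgH2.card_mul_relIndex SC
    rw [cS', c48] at this
    omega⟩
  have hS := hS0.trans_of_not_dvd le_top ((IsSylowIn.of_sylow_top T).not_dvd_of_le
    (fun s hs => mem_cent1.2 (htc s hs).symm) le_top)
  have S' : ⁅C1(z0).map f, C1(z0).map f⁆ = zpowers (f z0) := by
    refine le_antisymm (commutator_le.2 ?_) (zpowers_le.2 ?_)
    · rintro _ ⟨u, hu, rfl⟩ _ ⟨v, hv, rfl⟩
      rw [← map_commutatorElement, commutatorElement_def]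
      rcases d4 u v (mem_cent1.1 hu) (mem_cent1.1 hv) with k | k <;> rw [k]
      exacts [map_one f ▸ one_mem _, mem_zpowers _]
    · have := commutator_mem_commutator (mem_map_of_mem f (mem_cent1.2 za)) (mem_map_of_mem f (mem_cent1.2 zz))
      rwa [← map_commutatorElement, commutatorElement_def, zc] at this
  have Cz : C1(f z0) = C1(z0).map f := by
    obtain ⟨R, hR⟩ := hS.of_top
    have := h2 R
    rwa [hR, S', cent_zpowers] at this
  have fj : ∀ {a w}, Cj a w → IsConj (f a) (f w) := fun ⟨u, k⟩ => f.map_isConj (isConj_iff.2 ⟨u, k⟩)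
  have nz : ¬ IsConj t (f z0) := fun k => by have := card_cent1_conj k; rw [Cz] at this; omega
  have ntz : ¬ IsConj t (f (τ * z0)) := fun k => by
    obtain ⟨g, k⟩ := isConj_iff.1 k.symm
    have l : cj g (C1(z0).map f) ≤ C1(t) := by
      rw [← k, ← cj_centralizer_singleton]
      refine cj_mono _ ?_
      rintro _ ⟨w, hw, rfl⟩
      exact mem_cent1.2 (by rw [← map_mul, ← map_mul, mul_assoc, mem_cent1.1 hw, ← mul_assoc, tc w, mul_assoc])
    obtain ⟨c, hc, l⟩ := hS0.exists_cj_le (IsPGroup_cj hS.pgroup g) l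
    rw [cj_cj] at l
    have n := CfsgH1.le_normalizer_commutator le_rfl le_rfl (mem_normalizer_of_cj_le l)
    rw [S'] at n
    have m : c * g ∈ C1(t) := SC (Cz ▸ mem_cent1.2 (by
      rcases (mem_zpowers_of_mul_self (by rw [← map_mul, z2, map_one])).1
        (CfsgH2.conj_mem_of_mem_normalizer n (mem_zpowers _)) with k | k
      · exact absurd (fi ((conj_eq_one_iff.1 k).trans (map_one f).symm)) zn
      · exact (mul_inv_eq_iff_eq_mul.1 k).symm))
    have m' := mem_cent1.1 ((mul_mem_cancel_left hc).1 m)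
    rw [mul_inv_eq_iff_eq_mul, m', mul_right_inj, map_mul, ft, mul_eq_left] at k
    exact zn (fi (k.trans (map_one f).symm))
  have t0 : ¬ IsConj t 1 := fun k => ne_one_of_orderOf_two ht (isConj_one_left.1 k)
  have nP : ∀ w, IsConj t (f w) → P w → w = τ := fun w k p => by
    rcases d2' w p with rfl | m | m | m
    exacts [(t0 (map_one f ▸ k)).elim, m, (nz (k.trans (fj m).symm)).elim, (ntz (k.trans (fj m).symm)).elim]
  have sq : ∀ w, IsConj t (f w) → w * w = 1 := fun w k => fi (by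
    obtain ⟨g, k⟩ := isConj_iff.1 k
    rw [map_mul, ← k, map_one]; exact conj_mul_self (mul_self_of_orderOf_two ht) g)
  have L : (∀ s, IsConj t s → t * s = s * t) → C1(t) = ⊤ := fun h => eq_top_iff.2 fun g _ => by_contra fun n => by
    have c : IsConj t (g * t * g⁻¹) := isConj_iff.2 ⟨g, rfl⟩
    obtain ⟨w, k⟩ := fr _ (h _ c)
    rw [← k] at c
    obtain ⟨u, m⟩ := (d8 w ((d2 w (sq w c)).resolve_left fun p => n (mem_cent1.2
      (eq_mul_inv_iff_mul_eq.1 (ft.symm.trans (nP w c p ▸ k)))))).1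
    have := h _ ((c.trans (fj ⟨u, rfl⟩)).trans (isConj_iff.2 ⟨g⁻¹, rfl⟩))
    refine m (fi ?_)
    rw [map_mul _ _ w, map_mul _ w, k]
    generalize f (u * w * u⁻¹) = y at *
    calc _ = g * (g⁻¹ * y * g⁻¹⁻¹ * t) * g⁻¹ := by group
      _ = _ := by rw [← this]; group
  have L' : ∀ R : Subgroup G, R.Normal → R ≤ C1(t) → R ≠ ⊥ → C1(t) = ⊤ := fun R hR l n => L fun s k => by
    obtain ⟨⟨y, hy⟩, y1⟩ := ne_bot_iff_exists_ne_one.1 n
    obtain ⟨w, rfl⟩ := fr y (mem_cent1.1 (l hy))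
    obtain ⟨g, rfl⟩ := isConj_iff.1 k
    rcases d7 w fun k => y1 (Subtype.ext ((congrArg f k).trans (map_one f))) with rfl | ⟨u, v, k⟩
    · exact mem_cent1.1 (l (hR.conj_mem _ (ft ▸ hy) g))
    · have m : f z0 ∈ R := by
        rw [k]; simp only [map_mul, map_inv]
        exact hR.conj_mem _ (mul_mem (hR.conj_mem _ hy _) (inv_mem hy)) _
      have := mem_cent1.1 (l (hR.conj_mem _ m g⁻¹))
      refine mem_cent1.1 (SC (Cz ▸ mem_cent1.2 ?_))
      calc _ = g * (g⁻¹ * f z0 * g⁻¹⁻¹ * t) * g⁻¹ := by group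
        _ = _ := by rw [← this]; group
  have na : ¬ IsConj t (f a0) ∨ ¬ IsConj t (f (τ * a0)) := by
    by_contra! k
    obtain ⟨h, e1⟩ := isConj_iff.1 k.1.symm
    have q : ∀ w, a0 * w = w * a0 → w * w = 1 → ¬ IsConj t (f w) → ∃ v, f v = h * f w * h⁻¹ ∧ P v := fun w c s n => by
      obtain ⟨v, m⟩ := fr (h * f w * h⁻¹) (by
        rw [← e1, conj_mul, conj_mul, ← map_mul, c, map_mul])
      have i : IsConj (f w) (f v) := isConj_iff.2 ⟨h, m.symm⟩
      refine ⟨v, m, (d2 v (fi (by rw [map_mul, m, conj_mul, ← map_mul, s]; simp))).resolve_right ?_⟩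
      rintro (c | c)
      exacts [n ((k.1.trans (fj c)).trans i.symm), n ((k.2.trans (fj c)).trans i.symm)]
    obtain ⟨v, m, p⟩ := q z0 za.symm z2 nz
    obtain ⟨v', m', p'⟩ := q (τ * z0) (by rw [← mul_assoc, ← tc, mul_assoc, ← za, mul_assoc])
      (by rw [mul_assoc, ← mul_assoc z0, ← tc, mul_assoc, z2, mul_one, t2]) ntz
    have b : f (v' * v) = h * t * h⁻¹ := by rw [map_mul, m, m', conj_mul, ← map_mul, mul_assoc τ, z2, mul_one, ft]
    rw [nP _ (isConj_iff.2 ⟨h, b.symm⟩) (d3 _ _ p' p), ft] at b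
    exact at' (fi ((mul_left_cancel (mul_right_cancel (e1.trans b))).trans ft.symm))
  obtain ⟨N, hN, i2, tN⟩ : ∃ N : Subgroup G, N.Normal ∧ N.index = 2 ∧ t ∉ N := by
    have k : ∀ b, (∀ w, IsConj t (f w) → w ∉ K b) → ∃ N : Subgroup G, N.Normal ∧ N.index = 2 ∧ t ∉ N := fun b h => by
      have l : (K b).map f ≤ C1(z0).map f := map_mono fun w hw => mem_cent1.2 hw.1
      refine (thompson_transfer' hS l ?_ ht ⟨τ, mem_cent1.2 (tc _).symm, ft⟩).resolve_right ?_
      · have := CfsgH2.card_mul_relIndex l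
        rw [card_map_of_injective fi, cK] at this
        omega
      · rintro ⟨g, w, hw, m⟩
        exact h w (isConj_iff.2 ⟨g, m.symm⟩) hw
    rcases na with n | n
    · refine k false fun w c hw => ?_
      rcases (dK w (sq w c)).1 hw with rfl | m | m
      exacts [t0 (map_one f ▸ c), nz (c.trans (fj m).symm), n (c.trans (fj m).symm)]
    · refine k true fun w c hw => ?_
      rcases (dK w (sq w c)).2 hw with rfl | m | m
      exacts [t0 (map_one f ▸ c), nz (c.trans (fj m).symm), n (c.trans (fj m).symm)]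
  have sN : ∀ w, f (w * w) ∈ N := fun w => map_mul f w w ▸ mul_self_mem_of_index_two i2 _
  have zN : f z0 ∈ N := rr ▸ sN _
  have xN : f x0 ∈ N := xx ▸ sN _
  have z1N : f z1 ∈ N := by
    obtain ⟨u, k⟩ := cz
    rw [← k, map_mul, map_mul, map_inv]; exact hN.conj_mem _ zN _
  obtain ⟨r, hr, rN⟩ : ∃ r, (r = a0 * z1 ∨ r = τ * (a0 * z1)) ∧ f r ∈ N := by
    by_cases k : f (a0 * z1) ∈ N
    · exact ⟨_, Or.inl rfl, k⟩
    · exact ⟨_, Or.inr rfl, by rw [map_mul, ft]; exact (mul_mem_iff_of_index_two i2).2 (iff_of_false tN k)⟩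
  obtain ⟨⟨r4, r2, r1, rz, rn⟩, rw'⟩ := d9 r hr
  have o4 : orderOf (⟨f r, rN⟩ : N) = 4 := by
    rw [← Subgroup.orderOf_coe, orderOf_injective f fi]
    exact orderOf_eq_prime_pow (p := 2) (n := 1) r2 r4
  have dh : Nonempty (C1((⟨f z0, zN⟩ : N)) ≃* DihedralGroup 4) := by
    refine Idx2.dihedral (a := ⟨f r, rN⟩) (b := ⟨f z1, z1N⟩) ⟨fun y => ⟨fun hy => ?_, ?_⟩, fun k => ?_, Subtype.ext ?_,
      Subtype.ext ?_⟩ o4
    · obtain ⟨y, yN⟩ := y
      obtain ⟨w, hw, rfl⟩ : y ∈ C1(z0).map f := Cz ▸ mem_cent1.2 (congrArg Subtype.val (mem_cent1.1 hy))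
      obtain ⟨i, rfl | rfl | rfl | rfl⟩ := rw' w (mem_cent1.1 hw)
      · exact ⟨(i : ℕ), Or.inl (Subtype.ext (by simp))⟩
      · exact ⟨(i : ℕ), Or.inr (Subtype.ext (by simp))⟩
      · rw [map_mul, map_pow, ft] at yN
        exact (tN ((mul_mem_cancel_right (pow_mem rN _)).1 yN)).elim
      · rw [map_mul, map_mul, map_pow, ft] at yN
        exact (tN ((mul_mem_cancel_right (mul_mem (pow_mem rN _) z1N)).1 yN)).elim
    · have m1 : (⟨f r, rN⟩ : N) ∈ C1((⟨f z0, zN⟩ : N)) :=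
        mem_cent1.2 (Subtype.ext (by simp only [coe_mul, ← map_mul, rz]))
      have m2 : (⟨f z1, z1N⟩ : N) ∈ C1((⟨f z0, zN⟩ : N)) :=
        mem_cent1.2 (Subtype.ext (by simp only [coe_mul, ← map_mul, zz]))
      rintro ⟨i, rfl | rfl⟩
      exacts [zpow_mem m1 i, mul_mem (zpow_mem m1 i) m2]
    · obtain ⟨i, hi, k⟩ := Finset.mem_image.1 (mem_zpowers_iff_mem_range_orderOf.1 k)
      exact rn ⟨i, o4 ▸ Finset.mem_range.1 hi⟩ (fi (by simpa using congrArg Subtype.val k))
    · simp only [coe_mul, coe_inv, ← map_inv, ← map_mul, r1, zpow_neg_one]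
    · simp only [coe_mul, ← map_mul, z12, map_one, zpow_zero, coe_one]
  have cG := N.card_mul_index
  have cG' := C1(t).card_mul_index
  rw [i2] at cG
  rw [c48] at cG'
  have fin : Nat.card N ≠ 24 → C1(t) ≠ ⊤ := fun h k => by rw [k, index_top] at cG'; omega
  rcases Cfsg.Agent.S3035.result (⟨f z0, zN⟩ : N) (orderOf_two_of (Subtype.ext (by simp only [coe_mul, ← map_mul, z2,
    map_one, coe_one])) fun k => zn (fi ((congrArg Subtype.val k).trans (map_one f).symm))) dh with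
      k | ⟨⟨e'⟩⟩ | ⟨⟨e'⟩⟩ | ⟨⟨e'⟩⟩ | ⟨⟨e'⟩⟩
  · obtain ⟨c, hc, o, ho, k'⟩ := (mem_sup_of_normal_right (s := C1((⟨f z0, zN⟩ : N))) (t := pPrimeCore 2 N)).1
      (k ▸ mem_top (⟨f x0, xN⟩ : N))
    have m : (⟨f x0, xN⟩ : N) * ⟨f z0, zN⟩ * (⟨f x0, xN⟩ : N)⁻¹ * (⟨f z0, zN⟩ : N)⁻¹ ∈ pPrimeCore 2 N := by
      have := mem_cent1.1 hc
      generalize (⟨f z0, zN⟩ : N) = z at *
      have n : (pPrimeCore 2 N).Normal := inferInstance
      rw [← k', show c * o * z * (c * o)⁻¹ * z⁻¹ = c * (o * (z * o⁻¹ * z⁻¹)) * c⁻¹ * (c * z * (z * c)⁻¹) by group,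
        this, mul_inv_cancel, mul_one]
      exact n.conj_mem _ (mul_mem ho (n.conj_mem _ (inv_mem ho) _)) _
    have o2 : orderOf ((⟨f x0, xN⟩ : N) * ⟨f z0, zN⟩ * (⟨f x0, xN⟩ : N)⁻¹ * (⟨f z0, zN⟩ : N)⁻¹) = 2 := by
      rw [← Subgroup.orderOf_coe]
      simp only [coe_mul, coe_inv, ← map_inv, ← map_mul, orderOf_injective f fi]
      exact orderOf_eq_prime xz2 xz1
    exact (not_dvd_card_pPrimeCore 2 N (by have := Subgroup.orderOf_dvd_natCard _ m; rwa [o2] at this)).elim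
  · have : C1(t) = ⊤ := by
      rw [Nat.card_congr e'.toEquiv, Nat.card_eq_fintype_card, Fintype.card_perm, Fintype.card_fin] at cG
      exact index_eq_one.1 (by norm_num [Nat.factorial] at cG; omega)
    exact ⟨fun _ => this, fun n => (n (CfsgH3.isSolvable_of_card_dvd_pow_mul_pow (a := 4) (b := 1) Nat.prime_two
      Nat.prime_three (by rw [← cG', this, index_top]; norm_num))).elim⟩
  · have c : Nat.card N = 120 := by
      rw [Nat.card_congr e'.toEquiv, Nat.card_eq_fintype_card, Fintype.card_perm, Fintype.card_fin]; rfl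
    refine (fin (by omega) (L' _ inferInstance (normalCore_le _) fun k => ?_)).elim
    have := CfsgH8.card_dvd_fact k
    rw [show C1(t).index = 5 by omega, ← cG, c] at this
    exact absurd this (by decide)
  · have c : Nat.card N = 168 := (Nat.card_congr e'.toEquiv).trans (CfsgH5.card_SL_three.trans (by simp))
    have c7 := (card_cls_eq_index t).trans (show C1(t).index = 7 by omega)
    refine (fin (by omega) (L ?_)).elim
    by_cases k : ∃ w, IsConj t (f w) ∧ w ≠ τ
    · obtain ⟨w, k, n⟩ := k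
      have := Set.eq_of_subset_of_ncard_le (s := f '' ↑(insert τ (Finset.univ.image fun u => u * w * u⁻¹)))
        (t := {y | IsConj t y}) (by
          rintro _ ⟨v, hv, rfl⟩
          rcases Finset.mem_insert.1 hv with rfl | hv
          · exact ft ▸ IsConj.refl _
          · obtain ⟨u, -, rfl⟩ := Finset.mem_image.1 hv
            exact k.trans (fj ⟨u, rfl⟩)) (by
          rw [Set.ncard_image_of_injective _ fi, Set.ncard_coe_finset]
          exact c7.le.trans (d8 w ((d2 w (sq w k)).resolve_left fun p => n (nP w k p))).2)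
      intro s hs
      obtain ⟨v, -, rfl⟩ := this.ge hs
      exact fc v
    · have d := CfsgH9.card_dvd_of_free_cj (V.map f) (fun u => IsConj t u ∧ ¬ u = t) (by
        rintro _ ⟨v, -, rfl⟩ u ⟨c, n⟩
        exact ⟨c.trans (isConj_iff.2 ⟨_, rfl⟩), fun m => n (mul_left_cancel (a := f v)
          ((mul_inv_eq_iff_eq_mul.1 m).trans (fc v)))⟩) fun u ⟨c, n⟩ => eq_bot_iff.2 (by
        rintro _ ⟨⟨v, hv, rfl⟩, m⟩
        rcases dV v hv with rfl | ⟨y, rfl⟩
        · exact map_one f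
        · have := mem_cent1.1 m
          rw [map_mul, map_mul, map_inv] at this
          have : (f y)⁻¹ * u * f y ∈ C1(t) := SC (Cz ▸ mem_cent1.2 (by
            calc _ = (f y)⁻¹ * (f y * f z0 * (f y)⁻¹ * u) * f y := by group
              _ = _ := by rw [← this]; group))
          have y' := mem_cent1.2 (fc y)
          obtain ⟨w, rfl⟩ := fr u (mem_cent1.1 ((mul_mem_cancel_left (inv_mem y')).1 ((mul_mem_cancel_right y').1 this)))
          exact (k ⟨w, c, fun m => n (m ▸ ft)⟩).elim)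
      have a := card_add_card_not (fun u => IsConj t u) (fun u => u = t)
      have : Nat.card {u // IsConj t u ∧ u = t} = 1 := Nat.card_eq_one_iff_unique.2
        ⟨⟨fun a b => Subtype.ext (a.2.2.trans b.2.2.symm)⟩, ⟨⟨t, IsConj.refl _, rfl⟩⟩⟩
      rw [card_map_of_injective fi, cV] at d
      omega
  · have c : Nat.card N = 360 := by
      have := two_mul_nat_card_alternatingGroup (α := Fin 6)
      rw [Nat.card_eq_fintype_card (α := Equiv.Perm _), Fintype.card_perm, Fintype.card_fin, ← Nat.card_congr e'.toEquiv] at this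
      norm_num [Nat.factorial] at this; omega
    let φ : G →* MulAut (alternatingGroup (Fin 6)) := (MulAut.congr e').toMonoidHom.comp MulAut.conjNormal
    have φi : Function.Injective φ := (MonoidHom.ker_eq_bot_iff _).1 (by_contra fun n => fin (by omega)
      (L' _ inferInstance (fun g hg => SC (Cz ▸ mem_cent1.2 (eq_mul_inv_iff_mul_eq.1 ?_))) n))
    · let ψ : Equiv.Perm (Fin 6) →* MulAut (alternatingGroup (Fin 6)) := MulAut.conjNormal
      have ψi : Function.Injective ψ := (MonoidHom.ker_eq_bot_iff _).1 (by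
        rcases eq_or_ne ψ.ker ⊥ with k | k
        · exact k
        have := Equiv.Perm.alternatingGroup_le_of_normal (by simp) ((nontrivial_iff_ne_bot _).2 k)
        exact absurd (congrArg (fun α : MulAut _ => (α y0).1) (this (Equiv.Perm.mem_alternatingGroup.2
          (by decide +kernel : Equiv.Perm.sign (Equiv.swap (0 : Fin 6) 3 * Equiv.swap 1 2) = 1)))) (by decide +kernel))
      have m : ∀ g, φ g ∈ ψ.range := fun g => by
        have i : ∀ n ∈ N, φ n ∈ ψ.range := fun n hn => ⟨e' ⟨n, hn⟩, MulEquiv.ext fun y => by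
          obtain ⟨y, rfl⟩ := e'.surjective y
          simp only [φ, ψ, MonoidHom.comp_apply, MulEquiv.coe_toMonoidHom, MulAut.congr_apply, MulEquiv.trans_apply,
            MulEquiv.symm_apply_apply]
          exact (by rw [← map_inv, ← map_mul, ← map_mul]; rfl :
            e' ⟨n, hn⟩ * e' y * (e' ⟨n, hn⟩)⁻¹ = e' (MulAut.conjNormal n y))⟩
        have j : φ t ∈ ψ.range := aut3 _ (x := e' ⟨f x0, xN⟩) (by
          rw [e'.orderOf_eq, ← Subgroup.orderOf_coe, orderOf_injective f fi]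
          exact orderOf_eq_prime x3 x1) (by
          simp only [φ, MonoidHom.comp_apply, MulEquiv.coe_toMonoidHom, MulAut.congr_apply, MulEquiv.trans_apply,
            MulEquiv.symm_apply_apply]
          exact congrArg e' (Subtype.ext (mul_inv_eq_iff_eq_mul.2 (fc x0))))
        by_cases k : g ∈ N
        · exact i g k
        · have := mul_mem (i _ ((mul_mem_iff_of_index_two i2).2 (iff_of_false k (inv_mem_iff.not.2 tN)))) j
          rwa [← map_mul, inv_mul_cancel_right] at this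
      have E : Nonempty (G ≃* Equiv.Perm (Fin 6)) := CfsgH5.equiv_perm_of_inj ((MonoidHom.ofInjective ψi).symm.toMonoidHom.comp
        (φ.codRestrict _ m)) ((MonoidHom.ofInjective ψi).symm.injective.comp fun a b k => φi (congrArg Subtype.val k))
        (n := 6) (by simp) (by norm_num [Nat.factorial]; omega)
      refine ⟨fun s => ?_, fun _ => E⟩
      obtain ⟨E⟩ := E
      exact (Equiv.Perm.not_isSolvable (Fin 6) (by rw [Cardinal.mk_fin]; exact_mod_cast (by norm_num : 5 ≤ 6)) (Group.isSolvable_of_surjective (f := E.toMonoidHom) E.surjective)).elim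
    · have := congrArg (fun α : MulAut _ => (e'.symm (α (e' ⟨f z0, zN⟩)) : G)) (MonoidHom.mem_ker.1 hg)
      simpa [φ] using this.symm

end Cfsg.Agent.S3222
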