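import Cfsg.Statements.S3225
import Cfsg.Agent.H2.Transfer

set_option autoImplicit false
open Cfsg

namespace Cfsg.Agent.S3225
open Subgroup CfsgH2
open scoped commutatorElement

/-- Let G be a finite group of even order with no subgroup of index 2, S a Sylow 2-subgroup of G and M a subgroup of index 2 in S such that, for some n ≥ 1, every element of S outside M has order greater than 2^(n−1). Then every element of S of order 2ⁿ is conjugate in G to an element of M. -/
theorem result {G : Type*} [Group G] [Finite G] (hev : Even (Nat.card G))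
    (hG : ∀ H : Subgroup G, H.index ≠ 2) (S : Sylow 2 G) (M : Subgroup G) (hMS : M ≤ (S : Subgroup G)) (hM : M.relIndex (S : Subgroup G) = 2)
    (n : ℕ) (hn : 1 ≤ n) (hord : ∀ y ∈ (S : Subgroup G), y ∉ M → 2 ^ (n - 1) < orderOf y)
    (x : G) (hx : x ∈ (S : Subgroup G)) (hxn : orderOf x = 2 ^ n) :
    ∃ g : G, g * x * g⁻¹ ∈ M := by
  by_contra h
  push Not at h
  obtain ⟨N, -, h1, -⟩ := thompson_transfer (IsSylowIn.of_sylow_top S) hMS hM hx (fun m a ha => by
    by_contra h2
    have h3 := hord _ ha h2
    have h4 : (x ^ (2 * m)) ^ 2 ^ (n - 1) = 1 := by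
      rw [← pow_mul, mul_comm 2 m, mul_assoc, ← pow_succ', Nat.sub_add_cancel hn, mul_comm, pow_mul, ← hxn,
        pow_orderOf_eq_one, one_pow]
    have := Nat.le_of_dvd (by positivity) (orderOf_dvd_of_pow_eq_one h4)
    rw [orderOf_conj'] at h3
    omega) h
  exact hG N h1


end Cfsg.Agent.S3225
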