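import Cfsg.Statements.S3246
import Cfsg.Agent.H2.Sig7

set_option autoImplicit false
open Cfsg

namespace Cfsg.Agent.S3246
open Subgroup CfsgH2
open scoped commutatorElement

open CfsgFT CfsgH2 Subgroup

/-- Let G be a finite group whose Sylow 2-subgroup S has a self-centralizing normal subgroup of rank at least 3. Suppose that either every maximal 2-local subgroup of G is 2-constrained with no nontrivial normal subgroup of odd order, or the centralizer of every involution of G is 2-constrained with no nontrivial normal subgroup of odd order. Then S normalizes no nontrivial subgroup of G of odd order and every 2-local subgroup of G is 2-constrained. -/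
theorem result {G : Type*} [Group G] [Finite G]
    (S : Sylow 2 G) (A : Subgroup G) (hA : Cfsg.IsSCN (S : Subgroup G) A) (hA3 : ¬ Cfsg.PRankLE 2 2 ↥A)
    (h : (∀ M : Subgroup G, Cfsg.IsMaximalTwoLocal M → Cfsg.IsPConstrained 2 ↥M ∧ Cfsg.oddCore ↥M = ⊥) ∨
      (∀ t : G, orderOf t = 2 → Cfsg.IsPConstrained 2 ↥(Subgroup.centralizer ({t} : Set G)) ∧
        Cfsg.oddCore ↥(Subgroup.centralizer ({t} : Set G)) = ⊥)) :
    (∀ X : Subgroup G, Odd (Nat.card ↥X) → (S : Subgroup G) ≤ Subgroup.normalizer (X : Set G) → X = ⊥) ∧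
      (∀ T : Subgroup G, IsPGroup 2 ↥T → T ≠ ⊥ → Cfsg.IsPConstrained 2 ↥(Subgroup.normalizer (T : Set G))) := by
  haveI : Fact (Nat.Prime 2) := inferInstance
  have h2 : ∀ t : G, orderOf t = 2 → ChP 2 C1(t) := fun t ht => by
    rcases h with h | h
    · have hz : IsPGroup 2 (zpowers t) := isPGroup_zpowers_of_orderOf (k := 1) (by simpa using ht)
      obtain ⟨M, h1, h2, h4⟩ := exists_maximal_subgroup (Φ := fun M : Subgroup G => IsTwoLocal M)
        (A := N(zpowers t)) ⟨_, hz, by
          rw [Ne, zpowers_eq_bot]; rintro rfl; simp at ht, rfl⟩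
      obtain ⟨h5, h6⟩ := h M ⟨h2, h4⟩
      have := (chP_of_constrained h5 h6).inf_cent hz (le_normalizer.trans h1)
      rwa [inf_eq_right.2 ((cent_le_norm _).trans h1), cent_zpowers] at this
    · exact chP_of_constrained (h t ht).1 (h t ht).2
  refine ⟨fun X hX hSX => ?_, fun T hT hT1 => ?_⟩
  · obtain ⟨V, hV, hVe, h8⟩ := exists_ea_of_not_rank hA3
    have hAc : A ≤ C(A) := hA.2.2.ge.trans inf_le_right
    obtain ⟨K, k1, k2, k3⟩ := exists_normal_card' S.isPGroup' ((om_le 2 A).trans hA.1)
      (le_norm_om hA.2.1) (k := 2) (le_trans (by norm_num) (h8.trans (card_le_of_le (ea_le_om hVe hV))))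
    have hK := CfsgH2.ea_mono (ea_om_of_comm hAc) k1
    exact odd_eq_bot (IsSylowIn.of_sylow_top S) hK k3 (k1.trans ((om_le 2 A).trans hA.1)) k2
      (fun v hv v1 => h2 v (ea_orderOf hK hv v1)) hX hSX
  · obtain ⟨x, h1, h5, h3, h4⟩ := exists_central_of_ne_bot hT le_rfl le_normalizer hT1
    have := con_inf_cent (h2 x (orderOf_eq_prime h3 h5)).constrained hT (le_cent1_iff.2 h4)
    rw [inf_eq_right.2 (cent_le_cent1 h1)] at this
    exact con_norm_of_cent this hT


end Cfsg.Agent.S3246
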