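import Cfsg.Statements.S3247
import Cfsg.Agent.H2.Sig7

set_option autoImplicit false
open Cfsg

namespace Cfsg.Agent.S3247
open Subgroup CfsgH2
open scoped commutatorElement

open CfsgFT CfsgH2 Subgroup

/-- Let G be a finite group and p a prime; here a p-local subgroup means the normalizer of a nontrivial p-subgroup, other than G itself. If every p-local subgroup of G that is maximal among p-local subgroups is p-constrained, or if the centralizer of every element of order p of G is p-constrained, then every p-local subgroup of G is p-constrained. -/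
theorem result {G : Type*} [Group G] [Finite G] (p : ℕ) [hp : Fact p.Prime]
    (h : (∀ M : Subgroup G, (∃ T : Subgroup G, IsPGroup p ↥T ∧ T ≠ ⊥ ∧ M = Subgroup.normalizer (T : Set G)) → M ≠ ⊤ →
        (∀ M' : Subgroup G, (∃ T' : Subgroup G, IsPGroup p ↥T' ∧ T' ≠ ⊥ ∧ M' = Subgroup.normalizer (T' : Set G)) → M' ≠ ⊤ → M ≤ M' → M = M') →
        Cfsg.IsPConstrained p ↥M) ∨
      (∀ x : G, orderOf x = p → Cfsg.IsPConstrained p ↥(Subgroup.centralizer ({x} : Set G))))
    (T : Subgroup G) (hT : IsPGroup p ↥T) (hT1 : T ≠ ⊥) (hTG : Subgroup.normalizer (T : Set G) ≠ ⊤) :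
    Cfsg.IsPConstrained p ↥(Subgroup.normalizer (T : Set G)) := by
  rcases h with h | h
  · obtain ⟨M, h1, ⟨h2, h3⟩, h4⟩ := exists_maximal_subgroup
      (Φ := fun M : Subgroup G => (∃ T : Subgroup G, IsPGroup p ↥T ∧ T ≠ ⊥ ∧ M = N(T)) ∧ M ≠ ⊤)
      (A := N(T)) ⟨⟨T, hT, hT1, rfl⟩, hTG⟩
    have := con_inf_norm (h M h2 h3 fun M' a b c => (h4 M' ⟨a, b⟩ c).symm) hT (le_normalizer.trans h1)
    rwa [inf_eq_right.2 h1] at this
  · obtain ⟨x, h1, h2, h3, h4⟩ := exists_central_of_ne_bot hT le_rfl le_normalizer hT1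
    have := con_inf_cent (h x (orderOf_eq_prime h3 h2)) hT (le_cent1_iff.2 h4)
    rw [inf_eq_right.2 (cent_le_cent1 h1)] at this
    exact con_norm_of_cent this hT


end Cfsg.Agent.S3247
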