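import Cfsg.Statements.S3269
import Cfsg.Agent.H2.Isolated

set_option autoImplicit false
open Cfsg

namespace Cfsg.Agent.S3269
open Subgroup CfsgH2
open scoped commutatorElement

/-- Let G be a finite group whose Sylow 2-subgroup S is an internal direct product Q × R with Q generalized quaternion (of order at least 8) and R a subgroup all of whose involutions are central in R. Then G is not simple. In particular no finite simple group has a Sylow 2-subgroup that is a direct product of one or more generalized quaternion groups. -/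
theorem result {G : Type*} [Group G] [Finite G]
    (S : Sylow 2 G) (Q R : Subgroup G) (hQR : Cfsg.IsInternalDirectProduct Q R (S : Subgroup G))
    (n : ℕ) (hn : 1 ≤ n) (eQ : ↥Q ≃* QuaternionGroup (2 ^ n))
    (hR : ∀ r ∈ R, orderOf r = 2 → ∀ s ∈ R, r * s = s * r) :
    ¬ IsSimpleGroup G := by
  intro hG
  have hS := IsSylowIn.of_sylow_top S
  obtain ⟨hQ, hRS, hc, hd, hsup⟩ := hQR
  obtain ⟨a, b, h, ho⟩ := exists_idx2_of_quaternion eQ
  have hU := h.uniqInv (by positivity) ho
  have hz : orderOf (a ^ 2 ^ n) = 2 := orderOf_half' (by positivity) ho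
  have hzQ : a ^ 2 ^ n ∈ Q := pow_mem h.a_mem _
  have hn2 : 2 ≤ 2 ^ n := le_trans (by norm_num) (Nat.pow_le_pow_right two_pos hn)
  have hzd : a ^ 2 ^ n ∈ ⁅Q, Q⁆ := by
    rw [h.commutator_eq_sq]
    obtain ⟨m, rfl⟩ := Nat.exists_eq_add_of_le' hn
    exact ⟨(2 ^ m : ℕ), by simp only; rw [← zpow_mul, ← zpow_natCast]; congr 1; push_cast; ring⟩
  generalize a ^ 2 ^ n = z at hz hzQ hzd
  have hRQ : R ≤ centralizer (Q : Set G) := fun r hr q hq => hc q hq r hr
  have hdec : ∀ s ∈ (S : Subgroup G), ∃ q ∈ Q, ∃ r ∈ R, q * r = s := fun s hs =>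
    (mem_sup_of_normalizer (hRQ.trans (centralizer_le_normalizer _))).1 (hsup.ge hs)
  have hzc : ∀ q ∈ Q, q * z * q⁻¹ = z := fun q hq =>
    hU _ (mul_mem (mul_mem hq hzQ) (inv_mem hq)) _ hzQ ((orderOf_conj' q z).trans hz) hz
  -- involutions of `S` are central
  have hcen : ∀ s ∈ (S : Subgroup G), s * s = 1 → s ∈ centralizer ((S : Subgroup G) : Set G) := by
    intro s hs hss
    obtain ⟨q, hq, r, hr, rfl⟩ := hdec s hs
    have e : q * q = (r * r)⁻¹ := by
      rw [eq_inv_iff_mul_eq_one, ← hss, mul_assoc, mul_assoc, ← mul_assoc q r r, ← mul_assoc r q r,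
        hc q hq r hr]
    have h1 : q * q = 1 := mem_bot.1 (hd.le (mem_inf.2 ⟨mul_mem hq hq,
      e ▸ inv_mem (mul_mem hr hr)⟩))
    have h2 : r * r = 1 := by rwa [h1, eq_comm, inv_eq_one] at e
    rw [← hsup, centralizer_sup']
    refine mul_mem (mem_inf.2 ⟨?_, fun r hr => (hc q hq r hr).symm⟩) (mem_inf.2 ⟨hRQ hr, ?_⟩)
    · by_cases h3 : q = 1
      · rw [h3]; exact one_mem _
      · rw [hU _ hq _ hzQ (orderOf_two_of h1 h3) hz]
        exact fun q hq => mul_inv_eq_iff_eq_mul.1 (hzc q hq)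
    · by_cases h3 : r = 1
      · rw [h3]; exact one_mem _
      · exact fun s hs => (hR r hr (orderOf_two_of h2 h3) s hs).symm
  have hzS := hQ hzQ
  have horb : ∀ g ∈ normalizer ((S : Subgroup G) : Set G), g * z * g⁻¹ = z ∨ g * z * g⁻¹ ∈ R := by
    intro g hg
    by_contra hne
    rw [not_or] at hne
    have h1 : cj g Q ≤ S := (cj_mono g hQ).trans (cj_eq_iff_mem_normalizer.2 hg).le
    have h2 : cj g Q ⊓ R = ⊥ := by
      by_contra h2
      obtain ⟨t, ht, ht2⟩ := exists_invol_of_ne_bot (S.isPGroup'.to_le (inf_le_left.trans h1)) h2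
      exact hne.2 (hU.cj g _ ht.1 _ (conj_mem_cj g hzQ) ht2 ((orderOf_conj' g z).trans hz) ▸ ht.2)
    have hQn : (S : Subgroup G) ≤ normalizer (Q : Set G) :=
      hsup.ge.trans (sup_le le_normalizer (hRQ.trans (centralizer_le_normalizer _)))
    have hRn : (S : Subgroup G) ≤ normalizer (R : Set G) :=
      hsup.ge.trans (sup_le ((le_centralizer_iff.1 hRQ).trans (centralizer_le_normalizer _))
        le_normalizer)
    have h3 : (S : Subgroup G) ≤ normalizer (cj g Q : Set G) := by
      rw [← cj_normalizer]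
      exact (cj_eq_iff_mem_normalizer.2 hg).ge.trans (cj_mono g hQn)
    have h4 : ⁅cj g Q, R⁆ = ⊥ := eq_bot_iff.2 ((le_inf (commutator_le_left_of_normalizer
      (hRS.trans h3)) (by
        rw [commutator_comm]; exact commutator_le_left_of_normalizer (h1.trans hRn))).trans h2.le)
    have h5 : ⁅cj g Q, cj g Q⁆ ≤ Q := by
      refine (commutator_mono le_rfl (h1.trans hsup.ge)).trans ?_
      rw [commutator_comm]
      refine commutator_sup_le (hQ.trans hQn) (hRS.trans hQn)
        (commutator_le_left_of_normalizer (h1.trans hQn)) ?_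
      rw [commutator_comm, h4]; exact bot_le
    rw [← cj_commutator] at h5
    exact hne.1 (hU _ (h5 (conj_mem_cj g hzd)) _ hzQ ((orderOf_conj' g z).trans hz) hz)
  -- an involution fixed by `N(S)`
  obtain ⟨w, hw, hwS, hwN⟩ : ∃ w, orderOf w = 2 ∧ w ∈ (S : Subgroup G) ∧
      ∀ g ∈ normalizer ((S : Subgroup G) : Set G), g * w * g⁻¹ = w := by
    obtain ⟨A, hA⟩ : ∃ A, A = (S : Subgroup G) ⊓ centralizer ((S : Subgroup G) : Set G) := ⟨_, rfl⟩
    have hAn : normalizer ((S : Subgroup G) : Set G) ≤ normalizer (A : Set G) :=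
      hA ▸ le_normalizer_inf' le_rfl (normalizer_le_normalizer_centralizer _)
    haveI : IsMulCommutative A := isMulCommutative_of_forall fun a ha b hb =>
      (hA.le hb).2 a (hA.le ha).1
    letI : CommGroup A := { (inferInstance : Group A) with mul_comm := mul_comm' }
    classical
    letI := Fintype.ofFinite A
    let O : Finset A := Finset.univ.filter fun y =>
      ∃ g ∈ normalizer ((S : Subgroup G) : Set G), g * z * g⁻¹ = y
    have hzA : z ∈ A := hA.ge (mem_inf.2 ⟨hzS, hcen z hzS (mul_self_of_orderOf_two hz)⟩)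
    have hzO : (⟨z, hzA⟩ : A) ∈ O := Finset.mem_filter.2 ⟨Finset.mem_univ _, 1, one_mem _, by simp⟩
    refine ⟨(∏ y ∈ O, y : A), orderOf_two_of ?_ fun h1 => ?_, (hA.le (∏ y ∈ O, y : A).2).1,
      fun g hg => ?_⟩
    · rw [← coe_mul, ← Finset.prod_mul_distrib, Finset.prod_eq_one, coe_one]
      intro y hy
      obtain ⟨g, -, e⟩ := (Finset.mem_filter.1 hy).2
      exact Subtype.ext (by rw [coe_mul, ← e]; exact conj_mul_self (mul_self_of_orderOf_two hz) g)
    · rw [← Finset.mul_prod_erase O _ hzO, coe_mul, mul_eq_one_iff_eq_inv] at h1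
      have h2 : (∏ y ∈ O.erase ⟨z, hzA⟩, y : A) ∈ R.subgroupOf A := prod_mem fun y hy => by
        obtain ⟨g, hg, e⟩ := (Finset.mem_filter.1 (Finset.mem_of_mem_erase hy)).2
        exact mem_subgroupOf.2 (e ▸ (horb g hg).resolve_left fun e2 =>
          Finset.ne_of_mem_erase hy (Subtype.ext (e.symm.trans e2)))
      exact ne_one_of_orderOf_two hz (mem_bot.1 (hd.le (mem_inf.2 ⟨hzQ,
        (show z = _ from h1) ▸ inv_mem (mem_subgroupOf.1 h2)⟩)))
    · let φ := A.normalizerMonoidHom ⟨g, hAn hg⟩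
      have : φ (∏ y ∈ O, y) = ∏ y ∈ O, y := by
        rw [map_prod]
        refine Finset.prod_equiv φ.toEquiv (fun y => ?_) fun _ _ => rfl
        simp only [O, Finset.mem_filter, Finset.mem_univ, true_and]
        constructor
        · rintro ⟨k, hk, e⟩
          refine ⟨g * k, mul_mem hg hk, ?_⟩
          change _ = g * y * g⁻¹
          rw [← e]; group
        · rintro ⟨k, hk, e⟩
          refine ⟨g⁻¹ * k, mul_mem (inv_mem hg) hk, ?_⟩
          change _ = g * y * g⁻¹ at e
          calc g⁻¹ * k * z * (g⁻¹ * k)⁻¹ = g⁻¹ * (k * z * k⁻¹) * g := by group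
            _ = y := by rw [e]; group
      exact congrArg Subtype.val this
  have hww := mul_self_of_orderOf_two hw
  have hiso : Cfsg.IsIsolatedInvolution w := by
    refine isolated_of_sylow S hw hwS fun g hg => ?_
    obtain ⟨n, hn, h5⟩ := S.conj_eq_normalizer_conj_of_mem_centralizer w g⁻¹ (hcen w hwS hww) (by
      rw [inv_inv]; exact hcen _ hg (conj_mul_self hww g))
    rw [inv_inv] at h5
    rw [h5]
    simpa using hwN n⁻¹ (inv_mem hn)
  have hO : Cfsg.pPrimeCore 2 G = ⊥ := pPrimeCore_eq_bot_of fun N hN hodd =>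
    (hN.eq_bot_or_eq_top).resolve_right fun e =>
      odd_card_iff.1 hodd w (e ▸ mem_top w) hw
  have hcen' := ((inferInstance : (center G).Normal).eq_bot_or_eq_top).resolve_left fun e =>
    ne_one_of_orderOf_two hw (mem_bot.1 (e ▸ zstar_center hiso hO))
  have : ⁅Q, Q⁆ ≤ ⊥ := commutator_le.2 fun x _ y _ => mem_bot.2
    (commutatorElement_eq_one_iff_mul_comm.2 (mem_center_iff.1 (hcen'.ge (mem_top y)) x))
  exact ne_one_of_orderOf_two hz (mem_bot.1 (this hzd))


end Cfsg.Agent.S3269
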