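import Cfsg.Statements.S3276
import Cfsg.Agent.H2.Invol
import Cfsg.Agent.H2.PGroup
import Cfsg.Agent.H1.Basic

set_option autoImplicit false
open Cfsg

namespace Cfsg.Agent.S3276

open Subgroup CfsgH2

/-- Let x and y be commuting, non-conjugate involutions of a finite group G, and suppose that for every involution u commuting with x, each conjugate of y that commutes with u also commutes with y. Then the normal closure of y is a proper, normal, elementary abelian 2-subgroup of G; and if y is the only involution of that normal closure commuting with x, it has order at most 4. -/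
theorem result {G : Type*} [Group G] [Finite G] (x y : G) (hx : orderOf x = 2) (hy : orderOf y = 2)
    (hxy : Commute x y) (hnc : ¬ IsConj x y)
    (hstar : ∀ u : G, orderOf u = 2 → Commute u x → ∀ g : G, Commute (g * y * g⁻¹) u → Commute (g * y * g⁻¹) y) :
    Subgroup.normalClosure ({y} : Set G) ≠ ⊤ ∧ Cfsg.IsElementaryAbelian 2 (Subgroup.normalClosure ({y} : Set G)) ∧
      ((∀ u ∈ Subgroup.normalClosure ({y} : Set G), orderOf u = 2 → Commute u x → u = y) →
        Nat.card ↥(Subgroup.normalClosure ({y} : Set G)) ≤ 4) := by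
  have x2 := mul_self_of_orderOf_two hx
  have y2 := mul_self_of_orderOf_two hy
  have h1 : ∀ g, Commute (g * y * g⁻¹) y := fun g => by
    obtain ⟨h1, h2, h3⟩ := exists_central_invol x2 (conj_mul_self y2 g) (Nat.not_odd_iff_even.1 fun h =>
      hnc ((isConj_of_odd x2 (conj_mul_self y2 g) h).trans (isConj_conj y g).symm))
    exact hstar _ h1 h2 g h3.symm
  have h2 : ∀ a ∈ Group.conjugatesOfSet {y}, ∀ b ∈ Group.conjugatesOfSet {y}, a * b = b * a := fun a ha b hb => by
    obtain ⟨_, rfl, h⟩ := Group.mem_conjugatesOfSet_iff.1 ha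
    obtain ⟨_, rfl, h'⟩ := Group.mem_conjugatesOfSet_iff.1 hb
    obtain ⟨g, rfl⟩ := isConj_iff.1 h
    obtain ⟨k, rfl⟩ := isConj_iff.1 h'
    simpa [mul_assoc] using ((h1 (k⁻¹ * g)).conj k).eq
  have hc : IsMulCommutative (normalClosure ({y} : Set G)) := isMulCommutative_closure h2
  have h3 : ∀ a ∈ normalClosure ({y} : Set G), a * a = 1 := fun a ha => by
    induction ha using closure_induction with
    | mem a ha =>
      obtain ⟨_, rfl, h⟩ := Group.mem_conjugatesOfSet_iff.1 ha
      obtain ⟨g, rfl⟩ := isConj_iff.1 h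
      exact conj_mul_self y2 g
    | one => simp
    | mul a b ha hb h h' => exact mul_self_of_commute h h' (mul_comm_of_isMulCommutative hc ha hb)
    | inv a _ h => rw [← mul_inv_rev, h, inv_one]
  refine ⟨fun e => ?_, ⟨hc, fun a ha => (sq a).trans (h3 a ha)⟩, fun h => ?_⟩
  · have : (zpowers y).Normal := ⟨fun n hn g => by
      rwa [mul_comm_of_isMulCommutative hc (e.ge (mem_top g)) (e.ge (mem_top n)), mul_inv_cancel_right]⟩
    rcases (mem_zpowers_of_mul_self y2).1 (normalClosure_le_normal (by simp) (e.ge (mem_top x))) with e | e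
    exacts [ne_one_of_orderOf_two hx e, hnc (e ▸ IsConj.refl _)]
  set N := normalClosure ({y} : Set G)
  have hN : N.Normal := inferInstance
  have h4 : ∀ u ∈ N, Commute u x → u ∈ zpowers y := fun u hu e => (mem_zpowers_of_mul_self y2).2
    (or_iff_not_imp_left.2 fun u1 => h u hu (orderOf_two_of (h3 u hu) u1) e)
  let f : N →* G := MonoidHom.mk' (fun n => n * (x * n * x⁻¹)) fun m n => by
    calc (m * n : G) * (x * (m * n) * x⁻¹) = m * (n * (x * m * x⁻¹)) * (x * n * x⁻¹) := by group
      _ = _ := by rw [mul_comm_of_isMulCommutative hc n.2 (hN.conj_mem _ m.2 x)]; group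
  have e := f.ker.card_mul_index
  rw [index_ker] at e
  have e1 : Nat.card f.ker ≤ 2 := by
    rw [← hy, ← Nat.card_zpowers, ← card_map_of_injective N.subtype_injective]
    refine card_le_of_le ?_
    rintro _ ⟨n, hn, rfl⟩
    exact h4 _ n.2 (mul_inv_eq_iff_eq_mul.1 ((eq_inv_of_mul_eq_one_right hn).trans (inv_eq_of_mul_self (h3 _ n.2)))).symm
  have e2 : Nat.card f.range ≤ 2 := by
    rw [← hy, ← Nat.card_zpowers]
    refine card_le_of_le ?_
    rintro _ ⟨n, rfl⟩
    refine h4 _ (mul_mem n.2 (hN.conj_mem _ n.2 x)) (?_ : n * (x * n * x⁻¹) * x = x * (n * (x * n * x⁻¹)))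
    conv_lhs => rw [mul_comm_of_isMulCommutative hc n.2 (hN.conj_mem _ n.2 x)]
    simp [inv_eq_of_mul_self x2, mul_assoc]
  exact e ▸ Nat.mul_le_mul e1 e2

end Cfsg.Agent.S3276
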