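import Cfsg.Statements.S3277
import Cfsg.Agent.H1.IA4

set_option autoImplicit false
open Cfsg

namespace Cfsg.Agent.S3277

theorem aux {G : Type*} [Group G] [Finite G] (E : Subgroup G) (hE : E.Normal)
    (h1 : ∀ a ∈ E, ∀ b ∈ E, a * b = b * a) (h2 : ∀ a ∈ E, a ^ 2 = 1) (h0 : E ≠ ⊥) (h4 : Nat.card E ≤ 4)
    (hne : ∀ E : Subgroup G, E.Normal → Cfsg.IsElementaryAbelian 2 E → Nat.card ↥E ≠ 2 ∧ Nat.card ↥E ≠ 4) :
    False := by
  have := hne E hE ⟨⟨⟨fun a b => Subtype.ext (h1 _ a.2 _ b.2)⟩⟩, h2⟩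
  obtain ⟨k, hk⟩ := IsPGroup.iff_card.1 (CfsgH1.isPGroup_of_forall_pow_eq_one h2)
  have h3 := mt Subgroup.card_eq_one.1 h0
  rw [hk] at this h4 h3
  have : k < 3 := by
    by_contra c
    have := Nat.pow_le_pow_right (n := 2) two_pos (not_lt.1 c)
    omega
  interval_cases k <;> simp_all

/-- Let G be a finite group containing an involution whose centralizer is elementary abelian of order 4. If G has no normal 2-complement and no normal elementary abelian 2-subgroup of order 2 or 4, then G is isomorphic to the alternating group of degree 5 (that is, to PSL(2, 5)). -/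
theorem result {G : Type*} [Group G] [Finite G] (x : G) (hx : orderOf x = 2)
    (hC4 : Nat.card ↥(Subgroup.centralizer ({x} : Set G)) = 4) (hCe : ∀ c ∈ Subgroup.centralizer ({x} : Set G), c ^ 2 = 1)
    (hnc : ¬ Cfsg.HasNormalPComplement 2 G)
    (hne : ∀ E : Subgroup G, E.Normal → Cfsg.IsElementaryAbelian 2 E → Nat.card ↥E ≠ 2 ∧ Nat.card ↥E ≠ 4) :
    Nonempty (G ≃* ↥(alternatingGroup (Fin 5))) := by
  open Subgroup CfsgH1 CfsgFT CfsgH2 CfsgH1.L2 in
  have sq : ∀ c, Commute c x → c * c = 1 := fun c hc => by rw [← pow_two]; exact hCe c (mem_c1.2 hc)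
  have cm : ∀ a b, Commute a x → Commute b x → Commute a b := fun a b ha hb => by
    have e := inv_eq_of_mul_eq_one_left (sq _ (ha.mul_left hb))
    rw [mul_inv_rev, inv_eq_of_mul_eq_one_left (sq _ ha), inv_eq_of_mul_eq_one_left (sq _ hb)] at e
    exact e.symm
  have pV := isPGroup_of_forall_pow_eq_one hCe
  obtain ⟨P, hP⟩ := pV.exists_le_sylow
  have cc : ∀ s, IsConj x s → Nat.card (centralizer ({s} : Set G)) = 4 := fun s hs => by
    obtain ⟨c, rfl⟩ := isConj_iff.1 hs
    rw [← hC4]; exact (Nat.card_congr (centCongr (MulAut.conj c) x).toEquiv).symm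
  by_cases hPV : (P : Subgroup G) = centralizer ({x} : Set G)
  · have hS := IsSylowIn.of_sylow_top P
    have hK : IsKleinFour (P : Subgroup G) := by
      rw [hPV]
      haveI : Nontrivial (centralizer ({x} : Set G)) := Finite.one_lt_card_iff_nontrivial.1 (by omega)
      refine ⟨hC4, (Monoid.exponent_eq_prime_iff Nat.prime_two).2 fun g hg =>
        orderOf_eq_prime (Subtype.ext (hCe g g.2)) hg⟩
    have hc : ∀ s, orderOf s = 2 → IsConj x s := fun s hs =>
      klein_conj_of_oddAct hS hK (by_contra fun k => hnc (klein_hasNPC hS hK k)) hx hs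
    have sq' : ∀ t : G, orderOf t = 2 → ∀ c, Commute c t → c * c = 1 := fun t ht c h => by
      obtain ⟨d, rfl⟩ := isConj_iff.1 (hc t ht)
      have := sq (d⁻¹ * c * d) (commute_of_cj (g := d) (by simpa [mul_assoc] using h))
      calc c * c = d * (d⁻¹ * c * d * (d⁻¹ * c * d)) * d⁻¹ := by group
        _ = 1 := by rw [this]; group
    obtain ⟨t, t1, -, -, h⟩ := (ia_of_sq sq').exists_ias P IsKleinFour.not_isCyclic fun k =>
      (hne _ k ⟨⟨⟨fun a b => Subtype.ext (cm _ _ (mem_c1.1 (hPV.le a.2)) (mem_c1.1 (hPV.le b.2)))⟩⟩,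
        fun a ha => hCe a (hPV.le ha)⟩).2 (hPV ▸ hC4)
    exact alt5_of_ias h (h.center_bot (sq' t h.ht)) (cc t (hc t h.ht))
  exfalso
  have xV : x ∈ centralizer ({x} : Set G) := mem_c1.2 (Commute.refl x)
  obtain ⟨z, -, z1, z2, z3⟩ := exists_central_of_ne_bot P.2 le_rfl le_normalizer (fun k =>
    ne_one_of_two hx (mem_bot.1 (k.le (hP xV))))
  have hz := orderOf_eq_prime z2 z1
  have zx : Commute z x := (z3 x (hP xV)).symm
  have nc : ∀ s, IsConj x s → ¬ IsConj z s := fun s h1 h2 => by
    have := cc z (h1.trans h2.symm)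
    exact hPV (CfsgH1.eq_of_le_of_card_le hP (by
      rw [hC4, ← this]; exact card_le_of_le fun y hy => mem_c1.2 (z3 y hy))).symm
  have xz : x ≠ z := fun k => nc x (IsConj.refl x) (k ▸ IsConj.refl x)
  have el : ∀ c, Commute c x → c = 1 ∨ c = x ∨ c = z ∨ c = x * z := fun c hc => by
    classical
    haveI := Fintype.ofFinite G
    have : ({1, x, z, x * z} : Finset G) = Finset.univ.filter (· ∈ centralizer ({x} : Set G)) := by
      refine Finset.eq_of_subset_of_card_le (fun y hy => ?_) ?_
      · simp only [Finset.mem_insert, Finset.mem_singleton] at hy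
        simp only [Finset.mem_filter, Finset.mem_univ, true_and]
        rcases hy with rfl | rfl | rfl | rfl
        exacts [one_mem _, xV, mem_c1.2 zx, mul_mem xV (mem_c1.2 zx)]
      · rw [← Fintype.card_subtype, ← Nat.card_eq_fintype_card, hC4, Finset.card_eq_four.2
          ⟨_, _, _, _, (ne_one_of_two hx).symm, z1.symm,
            (ne_one_of_two (two_mul_of hx hz zx.symm xz)).symm, xz, by simpa using z1,
            by simpa using ne_one_of_two hx, rfl⟩]
    have : c ∈ ({1, x, z, x * z} : Finset G) := by rw [this]; simpa using mem_c1.2 hc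
    simpa using this
  have cxz : IsConj x (x * z) := by
    haveI := P.2.isNilpotent
    obtain ⟨n, n1, n2⟩ := SetLike.exists_of_lt (Group.normalizerCondition_of_isNilpotent (G := P)
      ((centralizer ({x} : Set G)).subgroupOf P) (lt_top_iff_ne_top.2 fun k =>
        hPV (le_antisymm (subgroupOf_eq_top.1 k) hP)))
    rw [← subgroupOf_normalizer_eq hP] at n1
    have c := isConj_iff.2 ⟨(n : G), (rfl : (n : G) * x * (n : G)⁻¹ = _)⟩
    rcases el _ (mem_c1.1 (CfsgH1.conj_mem_of_mem_normalizer n1 xV)) with k | k | k | k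
    · exact (cj_ne_one (ne_one_of_two hx) _ k).elim
    · exact (n2 (mem_c1.2 (commute_of_conj_eq k))).elim
    · exact (nc _ c (k ▸ IsConj.refl _)).elim
    · exact k ▸ c
  have eV : centralizer ({x} : Set G) = centralizer ({x * z} : Set G) :=
    CfsgH1.eq_of_le_of_card_le (fun y hy => mem_c1.2 ((mem_c1.1 hy).mul_right (cm _ _ (mem_c1.1 hy) zx)))
      (by rw [cc _ cxz, hC4])
  have c1 : ∀ s, IsConj z s → Commute s z := fun s hs => by
    have s2 : orderOf s = 2 := by
      obtain ⟨c, rfl⟩ := isConj_iff.1 hs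
      exact two_conj hz c
    obtain ⟨w1, w2, w3⟩ := exists_central_invol (sq_of_two hx) (sq_of_two s2)
      (Nat.not_odd_iff_even.1 fun k => nc s (isConj_of_odd (sq_of_two hx) (sq_of_two s2) k) hs)
    rcases el _ w2 with k | k | k | k <;> rw [k] at w1 w3
    · simp at w1
    · exact cm _ _ w3.symm zx
    · exact w3.symm
    · exact cm _ _ (mem_c1.1 (eV.ge (mem_c1.2 w3.symm))) zx
  have c2 : ∀ a ∈ Group.conjugatesOfSet ({z} : Set G), ∀ b ∈ Group.conjugatesOfSet ({z} : Set G),
      a * b = b * a := fun a ha b hb => by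
    simp only [Group.mem_conjugatesOfSet_iff, Set.mem_singleton_iff, exists_eq_left] at ha hb
    obtain ⟨c, rfl⟩ := isConj_iff.1 hb
    have := c1 (c⁻¹ * a * c) (ha.trans (isConj_iff.2 ⟨c⁻¹, by simp⟩))
    simpa [mul_assoc] using (commute_cj this c).eq
  let E := normalClosure ({z} : Set G)
  haveI cE : IsMulCommutative E := isMulCommutative_closure c2
  have zE : z ∈ E := subset_normalClosure rfl
  have sE : ∀ a ∈ E, a ^ 2 = 1 := fun a ha =>
    haveI := omegaOfComm_normal E 2
    (normalClosure_le_normal (N := omegaOfComm E 2) (Set.singleton_subset_iff.2 ⟨zE, z2⟩) ha).2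
  refine aux E inferInstance (fun a ha b hb => setLike_mul_comm ha hb) sE
    (fun k => z1 (mem_bot.1 (k.le zE))) ?_ hne
  by_cases xE : x ∈ E
  · exact hC4 ▸ card_le_of_le fun y hy => mem_c1.2 (setLike_mul_comm hy xE)
  have le : ∀ y ∈ E, Commute y x → y ∈ zpowers z := fun y hy c => by
    rcases el y c with rfl | rfl | rfl | rfl
    exacts [one_mem _, (xE hy).elim, mem_zpowers _, (xE ((mul_mem_cancel_right zE).1 hy)).elim]
  have mE : ∀ y ∈ E, x * y * x⁻¹ ∈ E := fun y hy => Normal.conj_mem inferInstance y hy x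
  let f : E →* zpowers z := MonoidHom.mk' (fun y => ⟨y * (x * y * x⁻¹), le _ (mul_mem y.2 (mE _ y.2))
    (commute_of_conj_eq (by
      rw [← setLike_mul_comm (mE _ y.2) y.2, inv_of_two hx]
      calc x * (x * y * x * y) * x = (x * x) * y * (x * y * x) := by group
        _ = _ := by
          rw [sq_of_two hx, one_mul, setLike_mul_comm y.2]
          simpa [inv_of_two hx] using mE _ y.2)).symm⟩) fun a b => Subtype.ext (by
    simp only [Subgroup.coe_mul]
    calc (a : G) * b * (x * (a * b) * x⁻¹) = a * (b * (x * a * x⁻¹)) * (x * b * x⁻¹) := by group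
      _ = _ := by rw [setLike_mul_comm b.2 (mE _ a.2)]; group)
  have k1 : Nat.card f.ker ≤ 2 := by
    rw [← hz, ← Nat.card_zpowers]
    refine Nat.card_le_card_of_injective (fun y => ⟨y.1.1, le _ y.1.2 (commute_of_conj_eq ?_).symm⟩)
      fun a b e => Subtype.ext (Subtype.ext (congrArg (fun y : zpowers z => y.1) e))
    have := eq_inv_of_mul_eq_one_right (congrArg Subtype.val y.2)
    rw [this]
    exact inv_eq_of_mul_eq_one_left (by rw [← pow_two]; exact sE _ y.1.2)
  have k2 : f.ker.index ≤ 2 := by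
    rw [index_ker, ← hz, ← Nat.card_zpowers]; exact card_le_card_group _
  rw [← f.ker.card_mul_index]
  exact Nat.mul_le_mul k1 k2

end Cfsg.Agent.S3277
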