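import Cfsg.Statements.S3278
import Mathlib
import Cfsg.Agent.H8.BSW7
import Cfsg.Agent.S0494

set_option autoImplicit false
open Cfsg

namespace Cfsg.Agent.S3278

open CfsgH8 CfsgH2 Subgroup

/-- Let G be a finite simple group with an involution x such that a Sylow 2-subgroup of C_G(x) is a Klein four-group which is normal in C_G(x). Then G is isomorphic to the alternating group of degree 5 (that is, to PSL(2, 5)). -/
theorem result {G : Type*} [Group G] [Finite G] [IsSimpleGroup G] (x : G) (hx : orderOf x = 2)
    (S₀ : Subgroup G) (hle : S₀ ≤ Subgroup.centralizer ({x} : Set G)) (hK : IsKleinFour ↥S₀)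
    (hodd : ¬ 2 ∣ S₀.relIndex (Subgroup.centralizer ({x} : Set G))) (hn : (S₀.subgroupOf (Subgroup.centralizer ({x} : Set G))).Normal) :
    Nonempty (G ≃* ↥(alternatingGroup (Fin 5))) := by
  have := Fintype.ofFinite G
  have k4 := (isKleinFour_iff.1 hK).1
  have d4 : 4 ∣ Nat.card G := k4 ▸ card_subgroup_dvd_card S₀
  have S : NAS G := NAS.of_card fun c => by
    rcases (Nat.dvd_prime c).1 d4 with e | e
    exacts [by omega, absurd (e ▸ c) (by norm_num)]
  have hG := index_ne_two_of_simple (G := G) (by omega)
  have h1 : IsSylowIn 2 S₀ (centralizer {x}) := ⟨hle, isPGroup_of_kleinFour hK, hodd⟩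
  have h2 := sylow_of_cent4 hG hx h1 k4
  have h3 : x ∈ S₀ := h1.le_of_normalizer (isPGroup_zpowers_of_orderOf (k := 1) hx)
    (zpowers_le.2 (mem_centralizer_singleton_iff.2 rfl)) (centralizer_zpowers' x ▸ centralizer_le_normalizer _)
    (mem_zpowers x)
  obtain ⟨e⟩ : Nonempty (S₀ ≃* DihedralGroup 2) := IsKleinFour.nonempty_mulEquiv
  have h4 : centralizer (S₀ : Set G) = centralizer {x} := le_antisymm (centralizer_le (by simpa)) (by
    rw [← h1.sup_resIn]
    exact sup_le (fun a ha => mem_centralizer_iff.2 fun b hb => IsKleinFour_comm hK hb ha) (resIn_le_iff.2 fun g a b =>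
      mem_centralizer_of_klein hK ((normal_subgroupOf_iff_le_normalizer hle).1 hn a) (coprime_two_iff_odd.1 b) h3
        (ne_one_of_orderOf_two hx) (mem_centralizer_singleton_iff.1 a)))
  have h5 := card_mul_index (centralizer ({x} : Set G))
  have h6 := k4 ▸ card_dvd_of_le hle
  rcases klein_index h2 hK (fun s t => conj_of_no_index_two h2 le_rfl e hG) hx h3 h4 with c | c
  · obtain ⟨P, hP⟩ := h2.of_top
    have a1 := klein_index_dvd hK le_rfl
    have a2 := relIndex_mul_index (centralizer_le_normalizer (S₀ : Set G))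
    have a3 := fun e => S.burnside P (by omega) (relIndex_eq_one.1 e)
    rw [hP] at a3
    rw [h4] at a1 a2 a3
    rw [c] at a2 h5
    have a4 : (normalizer (S₀ : Set G)).index = 5 := by
      have := Nat.le_of_dvd (by norm_num) a1
      interval_cases (centralizer ({x} : Set G)).relIndex (normalizer (S₀ : Set G)) <;> simp at a1 a3 <;> omega
    have a5 := Nat.le_of_dvd (Nat.factorial_pos _) (S.dvd_fact (H := normalizer (S₀ : Set G)) fun e => by simp [e] at a4)
    rw [a4, show Nat.factorial 5 = 120 from rfl] at a5
    have := Nat.le_of_dvd Nat.card_pos h6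
    exact S0494.result (by omega)
  · have := S.dvd_fact (H := centralizer {x}) fun e => by simp [e] at c
    rw [c, show Nat.factorial 3 = 6 from rfl] at this
    have := (Nat.mul_dvd_mul_left 2 d4).trans this
    omega

end Cfsg.Agent.S3278
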