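import Cfsg.Statements.S3279
import Mathlib
import Cfsg.Agent.H8.BSW7
import Cfsg.Agent.H2.ZStar

set_option autoImplicit false
open Cfsg

namespace Cfsg.Agent.S3279

open CfsgH8 CfsgH2 Subgroup

/-- at most three involutions commute with `x` -/
def T3 {G : Type*} [Group G] (x : G) : Prop := ∀ y u, orderOf y = 2 → orderOf u = 2 → y * x = x * y → u * x = x * u →
  y ≠ x → u = x ∨ u = y ∨ u = x * y

theorem T3.conj {G : Type*} [Group G] {x y : G} (h : T3 x) (c : IsConj x y) : T3 y := by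
  obtain ⟨g, rfl⟩ := isConj_iff.1 c
  intro y u a b c d e
  obtain ⟨y, rfl⟩ := (MulAut.conj g).surjective y
  obtain ⟨u, rfl⟩ := (MulAut.conj g).surjective u
  simp only [← MulAut.conj_apply, ← map_mul, MulEquiv.orderOf_eq, ne_eq, EmbeddingLike.apply_eq_iff_eq] at *
  exact h y u a b c d e

theorem central {G : Type*} [Group G] [Finite G] (hG : ∀ H : Subgroup G, H.index ≠ 2)
    (hI : ∀ u : G, ¬ IsIsolatedInvolution u) {x : G} (hx : orderOf x = 2) (h : T3 x) :
    ∃ S : Sylow 2 G, S.1 ≤ centralizer {x} := by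
  by_contra hc
  have nc : ∀ (S : Sylow 2 G) y, IsConj x y → ¬ S.1 ≤ centralizer {y} := fun S y c e => by
    obtain ⟨g, rfl⟩ := isConj_iff.1 c
    exact hc ⟨g⁻¹ • S, by rwa [sylow_smul_coe, cj_le_iff_le_cj_inv, inv_inv, cj_centralizer_singleton]⟩
  obtain ⟨S, hS⟩ := (isPGroup_zpowers_of_orderOf (p := 2) (k := 1) hx).exists_le_sylow
  have xS := hS (mem_zpowers x)
  have sy := IsSylowIn.of_sylow_top S
  have mc : ¬ IsMC S.1 := fun c => by
    obtain ⟨g, hg⟩ := central_of_mc sy c hG hx xS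
    exact nc S _ (isConj_conj x g) hg
  have na : ¬ IsMulCommutative S.1 := fun c => nc S x (IsConj.refl x) fun s hs =>
    mem_centralizer_singleton_iff.2 (mul_comm_of_isMulCommutative c hs xS)
  obtain ⟨z, zS, z1, z2, zc⟩ := exists_central_of_ne_bot S.isPGroup' le_rfl le_normalizer
    (fun e => ne_one_of_orderOf_two hx (by simpa [e] using xS))
  have hz : orderOf z = 2 := orderOf_eq_prime z2 z1
  have xz : ¬ IsConj x z := fun c => nc S z c fun s hs => mem_centralizer_singleton_iff.2 (mem_centralizer_iff.1 zc s hs)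
  have k : ∀ y ∈ S.1, IsConj x y → IsConj x (y * z) ∧ ∀ u, orderOf u = 2 → u * y = y * u → u = y ∨ u = z ∨ u = y * z :=
    fun y hy c => by
      have a := fun u b d => h.conj c z u hz b (mem_centralizer_iff.1 zc y hy).symm d fun e => xz (e ▸ c)
      have o := (orderOf_eq_of_isConj c).symm.trans hx
      obtain ⟨g, b1, b2⟩ : ∃ g, Commute y (g * y * g⁻¹) ∧ g * y * g⁻¹ ≠ y := by simpa [IsIsolatedInvolution, o] using hI y
      have b3 := c.trans (isConj_conj y g)
      exact ⟨((a _ (by rwa [orderOf_conj']) b1.symm).resolve_left b2).resolve_left (fun e => xz (e ▸ b3)) ▸ b3, a⟩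
  obtain ⟨W, w1, w2, w3⟩ := (klein_or_mc S.isPGroup' na).resolve_left mc
  have w4 := relIndex_centralizer_le_pow S.isPGroup' 2 W w1 w2 (isKleinFour_iff.1 w3).1
  have w5 := relIndex_ne_zero (centralizer (W : Set G)) S.1
  obtain ⟨x', a1, a2, a3⟩ : ∃ y, IsConj x y ∧ y ∈ S.1 ∧ y ∈ centralizer (W : Set G) := by
    by_cases c : (centralizer (W : Set G)).relIndex S.1 = 1
    · exact ⟨x, IsConj.refl x, xS, relIndex_eq_one.1 c xS⟩
    · obtain ⟨g, hg⟩ := (thompson_transfer' sy (inf_le_right (a := centralizer (W : Set G)))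
        (by rw [inf_relIndex_right]; simp at w4; omega) hx xS).resolve_left fun ⟨N, _, c, _⟩ => hG N c
      exact ⟨_, isConj_conj x g, hg.2, hg.1⟩
  obtain ⟨p, b1, b2⟩ : ∃ p ∈ W, IsConj x p := by
    obtain ⟨p, hp, p1, pz⟩ : ∃ p ∈ W, p ≠ 1 ∧ p ≠ z := by
      obtain ⟨p, hp, q, hq, p1, q1, c⟩ := exists_pair_of_kleinFour w3
      by_cases e : p = z
      exacts [⟨q, hq, q1, e ▸ c.symm⟩, ⟨p, hp, p1, e⟩]
    rcases (k x' a2 a1).2 p (orderOf_two_of ((isKleinFour_iff.1 w3).2 p hp) p1) (mem_centralizer_iff.1 a3 p hp)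
      with rfl | c | rfl
    exacts [⟨_, hp, a1⟩, absurd c pz, ⟨_, hp, (k x' a2 a1).1⟩]
  have b3 : (centralizer (W : Set G)).relIndex S.1 = 2 := by
    have : (centralizer (W : Set G)).relIndex S.1 ≠ 1 := fun c =>
      nc S p b2 ((relIndex_eq_one.1 c).trans (centralizer_le (by simpa)))
    simp at w4; omega
  have b4 : ∀ u ∈ centralizer (W : Set G), IsConj z u → u = z := fun u hu c => by
    rcases (k p (w1 b1) b2).2 u ((orderOf_eq_of_isConj c).symm.trans hz) (mem_centralizer_iff.1 hu p b1).symm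
      with rfl | e | rfl
    exacts [absurd (b2.trans c.symm) xz, e, absurd ((k p (w1 b1) b2).1.trans c.symm) xz]
  obtain ⟨g, g1, g2⟩ : ∃ g, g * z * g⁻¹ ∈ S.1 ∧ g * z * g⁻¹ ≠ z := by
    by_contra! c; exact hI z (isolated_of_sylow S hz zS c)
  obtain ⟨c, c1, c2⟩ := (sy.mono (fun s hs => mem_centralizer_singleton_iff.2 (mem_centralizer_iff.1 zc s hs))
    le_top).exists_cj_le (Q := cj g⁻¹ (S.1 ⊓ centralizer {g * z * g⁻¹})) (IsPGroup_cj (S.isPGroup'.to_le inf_le_left) _)
    (by rw [cj_le_iff_le_cj_inv, inv_inv, cj_centralizer_singleton]; exact inf_le_right)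
  rw [cj_cj] at c2
  have c3 : centralizer (W : Set G) ⊓ (S.1 ⊓ centralizer {g * z * g⁻¹}) ≤ zpowers z := fun y hy => by
    have i : ∀ y ∈ centralizer (W : Set G) ⊓ (S.1 ⊓ centralizer {g * z * g⁻¹}), orderOf y = 2 → y = z := fun y hy o => by
      have n : ∀ y ∈ S.1, IsConj x y → g * z * g⁻¹ * y ≠ y * (g * z * g⁻¹) := fun y a b e => by
        rcases (k y a b).2 _ (by rwa [orderOf_conj']) e with e | e | e
        exacts [xz ((e ▸ b).trans (isConj_conj z g).symm), g2 e, xz ((e ▸ (k y a b).1).trans (isConj_conj z g).symm)]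
      have e := (mem_centralizer_singleton_iff.1 hy.2.2).symm
      rcases (k p (w1 b1) b2).2 y o (mem_centralizer_iff.1 hy.1 p b1).symm with rfl | c | rfl
      exacts [absurd e (n _ hy.2.1 b2), c, absurd e (n _ hy.2.1 (k p (w1 b1) b2).1)]
    obtain ⟨n, hn⟩ := exists_orderOf_eq_pow S.isPGroup' hy.2.1
    rcases n with _ | _ | n
    · rw [orderOf_eq_one_iff.1 hn]; exact one_mem _
    · rw [i y hy hn]; exact mem_zpowers z
    have e1 := i _ (pow_mem hy (2 ^ (n + 1))) (by rw [orderOf_pow' _ (by positivity), hn, pow_succ 2 (n + 1),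
      Nat.gcd_mul_right_left, Nat.mul_div_cancel_left _ (by positivity)])
    have e2 : c * g⁻¹ * y ^ 2 ^ n * (c * g⁻¹)⁻¹ * (c * g⁻¹ * y ^ 2 ^ n * (c * g⁻¹)⁻¹) ∈ centralizer (W : Set G) :=
      mul_self_mem_of_index_two b3 ⟨_, c2 (conj_mem_cj _ (pow_mem hy.2 (2 ^ n)))⟩
    have e3 := b4 (c * g⁻¹ * z * (c * g⁻¹)⁻¹) (by
      convert e2 using 1; rw [← e1, pow_succ, pow_mul]; simp [sq, mul_assoc]) (isConj_conj z _)
    refine absurd ?_ g2
    calc _ = g * (c⁻¹ * (c * g⁻¹ * z * (c * g⁻¹)⁻¹) * c) * g⁻¹ := by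
          rw [e3, mul_assoc c⁻¹, ← mem_centralizer_singleton_iff.1 c1, inv_mul_cancel_left]
      _ = _ := by group
  refine mc (mc_of_cent4 S.isPGroup' ((isKleinFour_iff.1 w3).1 ▸ card_lt_of_lt (lt_of_le_of_ne w1 fun e =>
    na (e ▸ isMulCommutative_of_forall fun a ha b hb => IsKleinFour_comm w3 ha hb))) g1 ?_)
  have d1 := card_le_of_le c3
  have d2 := relIndex_le_of_le_right (H := centralizer (W : Set G))
    (inf_le_left (a := S.1) (b := centralizer {g * z * g⁻¹})) w5
  rw [← card_mul_relIndex (inf_le_right (a := centralizer (W : Set G))), inf_relIndex_right]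
  rw [Nat.card_zpowers, hz] at d1
  exact Nat.mul_le_mul d1 (b3 ▸ d2)

/-- Let G be a finite simple group and x an involution of G whose centralizer contains at most three involutions. Then C_G(x) contains a Sylow 2-subgroup of G, and all involutions of G are conjugate. -/
theorem result {G : Type*} [Group G] [Finite G] [IsSimpleGroup G] (x : G) (hx : orderOf x = 2)
    (h3 : Nat.card {u : ↥(Subgroup.centralizer ({x} : Set G)) // orderOf u = 2} ≤ 3) :
    (∃ S : Sylow 2 G, (S : Subgroup G) ≤ Subgroup.centralizer ({x} : Set G)) ∧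
      ∀ u v : G, orderOf u = 2 → orderOf v = 2 → IsConj u v := by
  classical
  have := Fintype.ofFinite G
  by_cases c : Nat.card G = 2
  · obtain ⟨S, hS⟩ := (isPGroup_zpowers_of_orderOf (p := 2) (k := 1) hx).exists_le_sylow
    obtain ⟨y, -, hy⟩ := (Nat.card_eq_two_iff' (1 : G)).1 c
    have k : ∀ u : G, orderOf u = 2 → u = y := fun u hu => hy u (ne_one_of_orderOf_two hu)
    refine ⟨⟨S, fun s _ => mem_centralizer_singleton_iff.2 ?_⟩, fun u v a b => by rw [k u a, k v b]⟩
    by_cases e : s = 1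
    · simp [e]
    · rw [hy s e, k x hx]
  have d2 := hx ▸ orderOf_dvd_natCard x
  have S : NAS G := NAS.of_card fun e => c ((Nat.prime_dvd_prime_iff_eq Nat.prime_two e).1 d2).symm
  have hI : ∀ u : G, ¬ IsIsolatedInvolution u := fun u hu => ne_one_of_orderOf_two hu.1 (S.eq_one_of_central
    fun g => (mem_center_iff.1 (zstar_center hu (S.eq_bot fun e => CfsgH1.not_dvd_card_pPrimeCore 2 G
      (by rwa [e, card_top]))) g).symm)
  have h : T3 x := fun y u a b c d e => by
    by_contra f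
    simp only [not_or] at f
    have xy : orderOf (x * y) = 2 := orderOf_two_of (by
      rw [mul_assoc, ← mul_assoc y, c, mul_assoc, mul_self_of_orderOf_two a, mul_one, mul_self_of_orderOf_two hx])
      fun e' => e (by rw [eq_inv_of_mul_eq_one_right e', inv_eq_of_orderOf_two hx])
    let m : ∀ v : G, orderOf v = 2 → v * x = x * v → {u : centralizer ({x} : Set G) // orderOf u = 2} := fun v a b =>
      ⟨⟨v, mem_centralizer_singleton_iff.2 b⟩, by rwa [← Subgroup.orderOf_coe]⟩
    have := Fintype.ofFinite {u : centralizer ({x} : Set G) // orderOf u = 2}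
    have := Finset.card_le_univ {m u b d, m x hx rfl, m y a c, m _ xy (by rw [mul_assoc, c])}
    rw [Finset.card_insert_of_notMem (by simp [m, f]), Finset.card_eq_three.2 ⟨_, _, _, by simpa [m] using e.symm,
      by simpa [m] using ne_one_of_orderOf_two a, by simpa [m] using ne_one_of_orderOf_two hx, rfl⟩,
      ← Nat.card_eq_fintype_card] at this
    omega
  obtain ⟨P, hP⟩ := central (index_ne_two_of_simple c) hI hx h
  refine ⟨⟨P, hP⟩, ?_⟩
  obtain ⟨g, b1, b2⟩ : ∃ g, Commute x (g * x * g⁻¹) ∧ g * x * g⁻¹ ≠ x := by simpa [IsIsolatedInvolution, hx] using hI x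
  have k : ∀ u ∈ P.1, orderOf u = 2 → IsConj x u ∨ u = x * (g * x * g⁻¹) := fun u a b => by
    rcases h _ u (by rwa [orderOf_conj']) b b1.symm (mem_centralizer_singleton_iff.1 (hP a)) b2 with rfl | rfl | e
    exacts [Or.inl (IsConj.refl _), Or.inl (isConj_conj x g), Or.inr e]
  have k' : ∀ u, orderOf u = 2 → IsConj x u := fun u hu => by
    obtain ⟨a, ha⟩ := exists_conj_mem_sylow P (k := 1) hu
    have o : orderOf (a * u * a⁻¹) = 2 := by rwa [orderOf_conj']
    refine ((k _ ha o).elim id fun e => ?_).trans (isConj_conj u a).symm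
    obtain ⟨b, g1, g2⟩ : ∃ b, b * (a * u * a⁻¹) * b⁻¹ ∈ P.1 ∧ b * (a * u * a⁻¹) * b⁻¹ ≠ a * u * a⁻¹ := by
      by_contra! c; exact hI _ (isolated_of_sylow P o ha c)
    exact ((k _ g1 (by rwa [orderOf_conj'])).resolve_right (e ▸ g2)).trans (isConj_conj _ b).symm
  exact fun u v a b => (k' u a).symm.trans (k' v b)

end Cfsg.Agent.S3279
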