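import Cfsg.Statements.S3282
import Mathlib
import Cfsg.Agent.H8.BSW4

set_option autoImplicit false
open Cfsg

namespace Cfsg.Agent.S3282

open Subgroup CfsgH8 CfsgH2 MulAction

/-- The abstract form of the Brauer–Suzuki–Wall Theorem. Let G be a finite group with an involution t and an abelian subgroup K of H = C_G(t) containing t, such that H = K⟨s⟩ for an involution s ∉ K with C_K(s) = ⟨t⟩ and s inverting every element of K, K ∩ K^g = 1 for every g outside H, and all involutions of G conjugate. Then G has a subgroup Q, of order q say, with |G| = q(q+1)(q−1)/2, C_G(x) = Q for every non-identity x ∈ Q, N_G(Q) = QD for an abelian subgroup D of order (q−1)/2 meeting Q trivially, and for every nontrivial subgroup X of D, N_G(X) = N_G(D) = D⟨u⟩ for some involution u ∉ D inverting D. -/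
theorem result {G : Type*} [Group G] [Finite G] (t : G) (ht : orderOf t = 2)
    (K : Subgroup G) (hKab : IsMulCommutative ↥K) (hKH : K ≤ Subgroup.centralizer ({t} : Set G)) (htK : t ∈ K)
    (s : G) (hs : orderOf s = 2) (hsH : s ∈ Subgroup.centralizer ({t} : Set G)) (hsK : s ∉ K)
    (hH : K ⊔ Subgroup.zpowers s = Subgroup.centralizer ({t} : Set G)) (hCK : K ⊓ Subgroup.centralizer ({s} : Set G) = Subgroup.zpowers t)
    (hinv : ∀ x ∈ K, s * x * s⁻¹ = x⁻¹)
    (hTI : ∀ g : G, g ∉ Subgroup.centralizer ({t} : Set G) → K ⊓ K.map (MulAut.conj g).toMonoidHom = ⊥)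
    (hconj : ∀ x y : G, orderOf x = 2 → orderOf y = 2 → IsConj x y) :
    ∃ Q D : Subgroup G, 2 * Nat.card G = Nat.card ↥Q * (Nat.card ↥Q + 1) * (Nat.card ↥Q - 1) ∧
      (∀ x ∈ Q, x ≠ 1 → Subgroup.centralizer ({x} : Set G) = Q) ∧
      IsMulCommutative ↥D ∧ 2 * Nat.card ↥D + 1 = Nat.card ↥Q ∧ Q ⊓ D = ⊥ ∧
      Subgroup.normalizer (Q : Set G) = Q ⊔ D ∧
      ∀ X : Subgroup G, X ≤ D → X ≠ ⊥ →
        Subgroup.normalizer (X : Set G) = Subgroup.normalizer (D : Set G) ∧
        ∃ u : G, orderOf u = 2 ∧ u ∉ D ∧ (∀ d ∈ D, u * d * u⁻¹ = d⁻¹) ∧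
          Subgroup.normalizer (D : Set G) = D ⊔ Subgroup.zpowers u := by
  have := Fintype.ofFinite G
  have two : ∀ {t x : G}, orderOf t = 2 → x ∈ zpowers t → x = 1 ∨ x = t := fun ht hx =>
    or_iff_not_imp_left.2 fun c => invol_uniq hx (mem_zpowers _) (orderOf_two_of (by
      obtain ⟨k, rfl⟩ := hx; simp [← mul_zpow_self, ← Commute.mul_zpow, mul_self_of_orderOf_two ht]) c) ht
  have h : BW t s K := ⟨ht, fun x a y b => congrArg Subtype.val (hKab.1.1 ⟨x, a⟩ ⟨y, b⟩), htK, hs, hsK, fun g => by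
    rw [← hH, mem_sup_of_normalizer (zpowers_le.2 (mem_normalizer_of_conj_mem fun x hx => hinv x hx ▸ K.inv_mem hx))]
    refine ⟨?_, fun c => c.elim (fun c => ⟨g, c, 1, one_mem _, mul_one g⟩) fun c => ⟨_, c, s, mem_zpowers s, ?_⟩⟩
    · rintro ⟨n, hn, y, hy, rfl⟩
      rcases two hs hy with rfl | rfl <;> simp [mul_assoc, hn, mul_self_of_orderOf_two hs]
    · rw [mul_assoc, mul_self_of_orderOf_two hs, mul_one],
    fun x hx h2 => (two ht (hCK ▸ mem_inf.2 ⟨hx, mem_centralizer_singleton_iff.2 (by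
      have := hinv x hx
      rw [inv_eq_of_orderOf_two h2, mul_inv_eq_iff_eq_mul] at this
      exact this.symm)⟩)).resolve_left (ne_one_of_orderOf_two h2), hinv,
    fun x hx h1 g hg => by_contra fun c => h1 (conj_eq_one_iff.1 (mem_bot.1 (hTI g c ▸ mem_inf.2 ⟨hg, conj_mem_cj g hx⟩))),
    fun x hx => hconj t x ht hx⟩
  obtain ⟨p, _, a, b, u, hab, Z, kd, cc, h1, h2, h3, h4, -⟩ := h.main
  have cm := CfsgH1.comm_of_inverts h4
  refine ⟨a, St2 G a b, ?_, cc, ⟨⟨fun x y => Subtype.ext (mem_centralizer_iff.1 (cm y.2) x x.2)⟩⟩, h1.symm,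
    eq_bot_iff.2 fun x hx => kd.free x hx.1 b hab.symm hx.2.2, le_antisymm (fun g hg => ?_)
    (sup_le le_normalizer (kd.le_norm b)), fun X hX X0 => ?_⟩
  · rw [kd.card_G Z hab.symm, h1]; simp only [Nat.add_sub_cancel]; ring
  · obtain ⟨v, hv, w, hw, rfl⟩ := kd.decomp hab.symm (Sylow.smul_eq_iff_mem_normalizer.2 hg)
    exact mul_mem_sup hv hw
  obtain ⟨x, hx, x1⟩ := X.bot_or_exists_ne_one.resolve_left X0
  rw [Z.norm_eq hab fun e => X0 (le_bot_iff.1 (e ▸ hX))]
  refine ⟨le_antisymm (fun g hg => Z.mem_Sw_of_conj hab (hX hx) x1 (hX (conj_mem_of_mem_normalizer hg hx)))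
    fun g hg => mem_normalizer_of_conj_mem fun y hy => ?_, u, orderOf_two_of h3 fun e => h2.not_mem hab (e ▸ one_mem _),
    h2.not_mem hab, h4, le_antisymm (fun g hg => hg.elim (fun c => mem_sup_left c) fun c => ?_)
    (sup_le St2_le_Sw (zpowers_le.2 (Or.inr h2)))⟩
  · rcases hg with c | c
    · rwa [← mem_centralizer_iff.1 (cm c) y (hX hy), mul_inv_cancel_right]
    · rw [show g * y * g⁻¹ = g * u⁻¹ * (u * y * u⁻¹) * (g * u⁻¹)⁻¹ by group, h4 y (hX hy),
        ← mem_centralizer_iff.1 (cm (c.mul h2.inv)) _ (inv_mem (hX hy)), mul_inv_cancel_right]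
      exact inv_mem hy
  · simpa using mul_mem_sup (c.mul h2.inv) (mem_zpowers u)

end Cfsg.Agent.S3282
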