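import Cfsg.Statements.S3315
import Cfsg.Agent.H5.U3b

set_option autoImplicit false
open Cfsg

namespace Cfsg.Agent.S3315

open CfsgH5

/-- Let S be a Sylow 2-subgroup of SU₃(2ⁿ), n ≥ 2 (realised over the field with 4ⁿ elements). If a finite 2-group R contains a subgroup S' of index 2 isomorphic to S, then the centre of S' is contained in the centre of R. -/
theorem result {R : Type*} [Group R] [Finite R]
    (hR : IsPGroup 2 R) (n : ℕ) (hn : 2 ≤ n) {F : Type*} [Field F] [Fintype F] (hF : Fintype.card F = 4 ^ n)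
    (P : Sylow 2 ↥(Cfsg.SU 3 F (2 ^ n))) (S' : Subgroup R) (hS : Nonempty (↥S' ≃* ↥(P : Subgroup ↥(Cfsg.SU 3 F (2 ^ n)))))
    (hidx : S'.index = 2) :
    (Subgroup.center ↥S').map S'.subtype ≤ Subgroup.center R := by
  have hF' : Fintype.card F = (2 ^ n) ^ 2 := by rw [hF, ← pow_mul, mul_comm, pow_mul]; norm_num
  obtain ⟨e1⟩ := hS
  obtain ⟨e2⟩ := sylow_SU3 hF' rfl P
  let e : S' ≃* UHq hF' := e1.trans e2.symm
  have hne := frobQ_ne hF'
  have hN : S'.Normal := Subgroup.normal_of_index_eq_two hidx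
  rintro _ ⟨z, hz, rfl⟩
  rw [Subgroup.mem_center_iff]
  intro r
  let φ : MulAut (UHq hF') := MulAut.congr e (MulAut.conjNormal r)
  have hφ : ∀ x : S', φ (e x) = e (MulAut.conjNormal r x) := fun x => by simp [φ]
  have hr : r * r ∈ S' := Subgroup.mul_self_mem_of_index_two hidx r
  have h1 : ∀ x, (φ (φ x)).a = x.a := by
    intro x
    obtain ⟨x, rfl⟩ := e.surjective x
    rw [hφ, hφ]
    have : MulAut.conjNormal r (MulAut.conjNormal r x) = ⟨r * r, hr⟩ * x * (⟨r * r, hr⟩ : S')⁻¹ := by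
      apply Subtype.ext
      simp [mul_assoc]
    rw [this, map_mul, map_mul, map_inv]
    simp
  have h2 : (e z).a = 0 := by
    rw [← UH.mem_center_iff hne, Subgroup.mem_center_iff]
    intro y
    obtain ⟨y, rfl⟩ := e.surjective y
    rw [← map_mul, ← map_mul, Subgroup.mem_center_iff.1 hz y]
  have h3 := UH_fix_center hF' h1 h2
  rw [hφ] at h3
  have h4 : r * z * r⁻¹ = z := congrArg Subtype.val (e.injective h3)
  show r * z = z * r
  rw [mul_inv_eq_iff_eq_mul] at h4
  exact h4

end Cfsg.Agent.S3315
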