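import Cfsg.Statements.S3335
import Cfsg.Agent.S2530

set_option autoImplicit false
open Cfsg

namespace Cfsg.Agent.S3335

open Equiv SemidirectProduct
theorem sw {G : Type*} [Group G] {a b : G} {k : ℕ} (h : (a * b) ^ k = 1) : (b * a) ^ k = 1 := by
  rw [show b * a = a⁻¹ * (a * b) * a⁻¹⁻¹ by group, conj_pow, h]; group

theorem aux (m : ℕ) (R : Set (FreeGroup (Fin m))) (hR : ∀ {G : Type} [Group G] (φ : FreeGroup (Fin m) →* G), (∀ r ∈ R, φ r = 1) ↔
    (∀ i : Fin m, φ (.of i) ^ (if i.val = 0 then 3 else 2) = 1) ∧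
      ∀ i j : Fin m, i < j → (φ (.of i) * φ (.of j)) ^ (if j.val = i.val + 1 then 3 else 2) = 1) :
    Nonempty (PresentedGroup R ≃* alternatingGroup (Fin (m + 2))) := by
  obtain ⟨cs, hs⟩ := Cfsg.Agent.S2530.result (m + 1)
  let x : Fin m → PresentedGroup R := .of
  obtain ⟨r1, r2⟩ : (∀ i : Fin m, x i ^ (if i.val = 0 then 3 else 2) = 1) ∧ ∀ i j : Fin m, i < j → (x i * x j) ^ (if j.val = i.val + 1 then 3 else 2) = 1 :=
    (hR (PresentedGroup.mk R)).1 fun w hw => PresentedGroup.one_of_mem hw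
  have M0 : ∀ i : Fin m, CoxeterMatrix.A (m + 1) 0 i.succ = if i.val = 0 then 3 else 2 := fun i => by
    simp [CoxeterMatrix.A, (Fin.succ_ne_zero i).symm]
  have M1 : ∀ i j : Fin m, i < j → CoxeterMatrix.A (m + 1) i.succ j.succ = if j.val = i.val + 1 then 3 else 2 := fun i j h => by
    have : (i : ℕ) ≠ j + 1 := by have := Fin.lt_def.1 h; omega
    simp [CoxeterMatrix.A, h.ne, this, eq_comm]
  have hα : ∀ r ∈ R, FreeGroup.lift (fun i => (x i)⁻¹) r = 1 := (hR _).2 ⟨fun i => by rw [FreeGroup.lift_apply_of, inv_pow, r1, inv_one], fun i j h => by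
    simp only [FreeGroup.lift_apply_of, ← mul_inv_rev, inv_pow, sw (r2 i j h), inv_one]⟩
  have αα : (PresentedGroup.toGroup hα).comp (PresentedGroup.toGroup hα) = .id _ := PresentedGroup.ext fun i => by simp [x]
  let α : MulAut (PresentedGroup R) := MonoidHom.toMulEquiv _ _ αα αα
  have αx : ∀ i, α (x i) = (x i)⁻¹ := fun i => PresentedGroup.toGroup.of hα
  let t : PresentedGroup R ⋊[MonoidHom.id _] MulAut (PresentedGroup R) := inr α
  have tt : t * t = 1 := by rw [← map_mul, show α * α = 1 from MulEquiv.ext fun g => DFunLike.congr_fun αα g, map_one]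
  have tx : ∀ i j, t * inl (x i) * (t * inl (x j)) = inl ((x i)⁻¹ * x j) := fun i j => by
    have := inl_aut (φ := MonoidHom.id _) α (x i)
    rw [map_inv, inv_eq_of_mul_eq_one_right tt] at this
    rw [map_mul, ← αx, ← mul_assoc]
    exact congrArg (· * _) this.symm
  have k : ∀ i j : Fin m, i < j → (t * inl (x i) * (t * inl (x j))) ^ CoxeterMatrix.A (m + 1) i.succ j.succ = 1 := fun i j h => by
    have e : x j = (x j)⁻¹ := eq_inv_of_mul_eq_one_left (by simpa [(Nat.zero_lt_of_lt (Fin.lt_def.1 h)).ne', sq] using r1 j)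
    rw [tx, ← map_pow, M1 i j h, e, ← mul_inv_rev, inv_pow, sw (r2 i j h), inv_one, map_one]
  have k0 : ∀ i : Fin m, (t * (t * inl (x i))) ^ CoxeterMatrix.A (m + 1) 0 i.succ = 1 := fun i => by
    rw [← mul_assoc, tt, one_mul, ← map_pow, M0, r1, map_one]
  have hψ : (CoxeterMatrix.A (m + 1)).IsLiftable (Fin.cons t fun i => t * inl (x i) : Fin (m + 1) → _) := fun i j => by
    refine Fin.cases (Fin.cases ?_ (fun j => k0 j) j) (fun i => Fin.cases ?_ (fun j => ?_) j) i
    · simpa using tt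
    · exact (CoxeterMatrix.A _).symmetric _ _ ▸ sw (k0 i)
    rcases lt_trichotomy i j with h | rfl | h
    · exact k i j h
    · simp [tx]
    · exact (CoxeterMatrix.A _).symmetric _ _ ▸ sw (k j i h)
  have ev : ∀ i, cs.simple 0 * cs.simple i ∈ alternatingGroup (Fin (m + 2)) := fun i => by
    simp [Perm.mem_alternatingGroup, hs, Fin.castSucc_lt_succ.ne]
  have hφ : ∀ r ∈ R, FreeGroup.lift (fun i : Fin m => (⟨_, ev i.succ⟩ : alternatingGroup (Fin (m + 2)))) r = 1 := (hR _).2
    ⟨fun i => Subtype.ext (by rw [FreeGroup.lift_apply_of, SubgroupClass.coe_pow, ← M0]; exact cs.simple_mul_simple_pow 0 i.succ), fun i j h => Subtype.ext (by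
      have c := cs.simple_mul_simple_pow 0 j.succ
      rw [M0, if_neg (Nat.zero_lt_of_lt (Fin.lt_def.1 h)).ne', sq, ← eq_inv_iff_mul_eq_one, mul_inv_rev, cs.inv_simple j.succ] at c
      simp only [FreeGroup.lift_apply_of, SubgroupClass.coe_pow, MulMemClass.coe_mul]
      rw [c]
      rw [show ∀ a b c : Perm (Fin (m + 2)), a * b * (c * a⁻¹) = a * (b * c) * a⁻¹ from fun _ _ _ => by group, conj_pow, ← M1 i j h,
        cs.simple_mul_simple_pow]
      simp)⟩
  let φ := PresentedGroup.toGroup hφ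
  have e : ((cs.lift ⟨_, hψ⟩).comp (alternatingGroup _).subtype).comp φ = inl := PresentedGroup.ext fun i => by
    simp [φ, cs.lift_apply_simple, ← mul_assoc, tt, x]
  refine ⟨.ofBijective φ ⟨Function.Injective.of_comp (f := (cs.lift ⟨_, hψ⟩).comp (alternatingGroup _).subtype)
    (by rw [← MonoidHom.coe_comp, e]; exact inl_injective), fun ⟨g, hg⟩ => ?_⟩⟩
  have m : ∀ i, cs.simple 0 * cs.simple i ∈ ((alternatingGroup _).subtype.comp φ).range :=
    Fin.cases (by simp) fun i => ⟨x i, by simp [φ, x]⟩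
  have := cs.simple_induction_left (p := fun w => w ∈ ((alternatingGroup _).subtype.comp φ).range ∨ cs.simple 0 * w ∈ ((alternatingGroup _).subtype.comp φ).range)
    g (.inl (one_mem _)) fun w i h => h.symm.imp (fun h => by simpa [mul_assoc] using mul_mem (inv_mem (m i)) h) fun h => mul_assoc _ _ w ▸ mul_mem (m i) h
  obtain ⟨y, hy⟩ := this.resolve_right fun ⟨y, hy⟩ => by
    have : cs.simple 0 * g ∈ alternatingGroup _ := (show (φ y).1 = _ from hy) ▸ (φ y).2
    simp [Perm.mem_alternatingGroup, hs, Perm.mem_alternatingGroup.1 hg] at this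
  exact ⟨y, Subtype.ext hy⟩

/-- A presentation of the alternating group of degree n ≥ 3 on generators x_1, …, x_{n−2} (indexed here by 0, …, n−3): the first generator cubes to 1, every other generator squares to 1, the product of two consecutive generators has order dividing 3, and the product of two generators at distance at least 2 has order dividing 2. The group so presented is isomorphic to the alternating group of degree n. -/
theorem result (n : ℕ) (hn : 3 ≤ n) :
    Nonempty (PresentedGroup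
      ({g : FreeGroup (Fin (n - 2)) | ∃ i : Fin (n - 2), i.val = 0 ∧ g = FreeGroup.of i ^ 3} ∪
       {g | ∃ i : Fin (n - 2), 1 ≤ i.val ∧ g = FreeGroup.of i ^ 2} ∪
       {g | ∃ i j : Fin (n - 2), j.val = i.val + 1 ∧ g = (FreeGroup.of i * FreeGroup.of j) ^ 3} ∪
       {g | ∃ i j : Fin (n - 2), i.val + 1 < j.val ∧ g = (FreeGroup.of i * FreeGroup.of j) ^ 2})
      ≃* alternatingGroup (Fin n)) := by
  obtain ⟨m, rfl⟩ : ∃ m, n = m + 2 := ⟨n - 2, by omega⟩
  refine aux m _ fun φ => ⟨fun h => ⟨fun i => ?_, fun i j k => ?_⟩, fun ⟨h, k⟩ => ?_⟩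
  · rw [← map_pow]
    split_ifs with e
    exacts [h _ (.inl (.inl (.inl ⟨i, e, rfl⟩))), h _ (.inl (.inl (.inr ⟨i, Nat.pos_of_ne_zero e, rfl⟩)))]
  · rw [← map_mul, ← map_pow]
    split_ifs with e
    exacts [h _ (.inl (.inr ⟨i, j, e, rfl⟩)), h _ (.inr ⟨i, j, by have := Fin.lt_def.1 k; omega, rfl⟩)]
  rintro _ (((⟨i, e, rfl⟩ | ⟨i, e, rfl⟩) | ⟨i, j, e, rfl⟩) | ⟨i, j, e, rfl⟩)
  · simpa [e] using h i
  · simpa [Nat.ne_zero_of_lt e] using h i
  · simpa [e] using k i j (Fin.lt_def.2 (by omega))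
  · simpa [e.ne'] using k i j (Fin.lt_def.2 (by omega))

end Cfsg.Agent.S3335
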