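import Cfsg.Statements.S3349
import Cfsg.Agent.H2.Extra

set_option autoImplicit false
open Cfsg

namespace Cfsg.Agent.S3349
open Subgroup CfsgH2
open scoped commutatorElement

/-- Let Q be a finite extraspecial p-group and α an automorphism of Q fixing every element of some maximal abelian subgroup of Q. Then the order of α is a power of p. -/
theorem result {Q : Type*} [Group Q] [Finite Q]
    (p : ℕ) [Fact p.Prime] (hQ : Cfsg.IsExtraspecial p Q) (α : MulAut Q)
    (A : Subgroup Q) (hA : IsMulCommutative A) (hmax : ∀ B : Subgroup Q, A ≤ B → IsMulCommutative B → B = A)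
    (hfix : ∀ a ∈ A, α a = a) :
    ∃ k : ℕ, orderOf α = p ^ k := by
  obtain ⟨z, hz, hn⟩ := ES.of_top hQ
  have hC : ∀ x, (∀ a ∈ A, Commute x a) → x ∈ A := fun x hx => by
    have := hmax _ le_sup_left (isMulCommutative_sup_zpowers hA (mem_centralizer_iff'.2 hx))
    exact this ▸ mem_sup_right (mem_zpowers x)
  have hzA : z ∈ A := hC z fun a _ => hz.cent a (mem_top a)
  have h1 : ∀ x, x⁻¹ * α x ∈ A := fun x => hC _ fun a ha => by
    have h2 := hfix _ (hz.conj_mem hzA le_top (mem_top x) ha)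
    rw [map_mul, map_mul, map_inv, hfix a ha] at h2
    show x⁻¹ * α x * a = a * (x⁻¹ * α x)
    calc x⁻¹ * α x * a = x⁻¹ * (α x * a * (α x)⁻¹) * α x := by group
      _ = _ := by rw [h2]; group
  have h2 : ∀ (n : ℕ) x, (α ^ n) x = x * (x⁻¹ * α x) ^ n := by
    intro n x
    induction n with
    | zero => simp
    | succ n ih =>
      rw [pow_succ', MulAut.mul_apply, ih, map_mul, hfix _ (pow_mem (h1 x) n), pow_succ', ← mul_assoc,
        mul_inv_cancel_left]
  have h3 : α ^ p ^ 2 = 1 := MulEquiv.ext fun x => by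
    rw [h2, hz.pow_sq (mem_top _), mul_one]; rfl
  obtain ⟨k, -, hk⟩ := (Nat.dvd_prime_pow Fact.out).1 (orderOf_dvd_of_pow_eq_one h3)
  exact ⟨k, hk⟩


end Cfsg.Agent.S3349
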