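import Cfsg.Statements.S3356
import Cfsg.Agent.H3.Pm4
import Cfsg.Agent.H1.Coprime
import Cfsg.Agent.H1.Fitting
import Cfsg.Agent.FT.PF14c
import Cfsg.Agent.H2.Dih

set_option autoImplicit false
open Cfsg

namespace Cfsg.Agent.S3356

open CfsgPm MulAction Subgroup CfsgH8 CfsgH1

/-- Let G be a finite 3/2-transitive permutation group: G acts faithfully and transitively on a finite set, the point stabilizers are non-trivial, and for each point a all orbits of G_a on the remaining points have the same size. Suppose G has a regular normal subgroup N and G is not a Frobenius group (some two-point stabilizer is non-trivial). Then N is an elementary abelian p-group for some prime p, and every non-trivial normal subgroup of G contains N (so N is the unique minimal normal subgroup). -/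
theorem result {G Ω : Type*} [Group G] [Finite G]
    [MulAction G Ω] [FaithfulSMul G Ω] [Finite Ω] (htrans : MulAction.IsPretransitive G Ω)
    (hne : ∀ a : Ω, MulAction.stabilizer G a ≠ ⊥)
    (hhalf : ∀ a b c : Ω, b ≠ a → c ≠ a →
      Nat.card (MulAction.orbit (MulAction.stabilizer G a) b) = Nat.card (MulAction.orbit (MulAction.stabilizer G a) c))
    (N : Subgroup G) [hN : N.Normal] (hNt : MulAction.IsPretransitive N Ω) (hNr : ∀ a : Ω, MulAction.stabilizer N a = ⊥)
    (hnotF : ∃ a b : Ω, a ≠ b ∧ MulAction.stabilizer G a ⊓ MulAction.stabilizer G b ≠ ⊥) :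
    (∃ p : ℕ, p.Prime ∧ IsMulCommutative N ∧ ∀ x ∈ N, x ^ p = 1) ∧
    (∀ M : Subgroup G, M.Normal → M ≠ ⊥ → N ≤ M) := by
  obtain ⟨a, b, hab, hnf⟩ := hnotF
  simp only [Nat.card_coe_set_eq] at hhalf
  have hprim := prim_of_half hhalf hab hnf
  have irr : ∀ L, L ≤ N → stabilizer G a ≤ normalizer (L : Set G) → L = ⊥ ∨ L = N := fun L => irred_of_regular hprim (hNr a)
  have hN0 : N ≠ ⊥ := by
    rintro rfl
    obtain ⟨g, e⟩ := hNt.1 a b
    exact hab (by rw [← e, Subsingleton.elim g 1, one_smul])
  have cN : Nat.card N = Nat.card Ω := card_eq_of_regular (hNr a)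
  have cen : ∀ g : G, g • a = a → (∀ n ∈ N, n * g = g * n) → g = 1 := fun g h1 h2 => centralizer_semiregular N h2 h1
  have sol : Group.IsSolvable N := by
    rcases (Nat.card N).even_or_odd with h2 | h2
    swap
    · exact CfsgPF.feit_thompson h2
    have : Fact (Nat.Prime 2) := ⟨Nat.prime_two⟩
    rcases (Nat.card (stabilizer G a)).even_or_odd with h3 | h3
    · obtain ⟨⟨t, ht⟩, h4⟩ := exists_prime_orderOf_dvd_card' 2 h3.two_dvd
      rw [← orderOf_coe] at h4
      have t2 : t * t = 1 := CfsgH2.mul_self_of_orderOf_two h4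
      have ti : t⁻¹ = t := CfsgH2.inv_eq_of_mul_self t2
      have h5 : ∀ x ∈ N, Commute t (x⁻¹ * t * x) := fun x hx => by_contra fun hc => by
        have hy : x⁻¹ * t * x * t ∈ N := by simpa [mul_assoc, ti] using mul_mem (inv_mem hx) (hN.conj_mem x hx t)
        set y := x⁻¹ * t * x * t with hy'
        have h6 : ¬ t * y = y * t := fun e => hc (mul_right_cancel (b := t) (by simpa [hy', mul_assoc, t2] using e))
        have h7 : t * y * t⁻¹ = y⁻¹ := by simp [hy', mul_assoc, ti, t2]
        have h8 : y • a ≠ a := fun e => h6 (by rw [eq_of_regular (hNr a) hy N.one_mem (e.trans (one_smul _ _).symm)]; simp)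
        have h9 : (orbit (stabilizer G a) (y • a)).ncard ∣ (Set.univ \ {a}).ncard := dvd_ncard_of_orbits (G := stabilizer G a) _
          (fun g z hz => ⟨trivial, fun e => hz.2 (smul_left_cancel g (e.trans g.2.symm))⟩) fun z hz => (hhalf a _ _ h8 hz.2).dvd
        have h10 : zpowers t ≤ normalizer ((stabilizer G a ⊓ stabilizer G (y • a) : Subgroup G) : Set G) :=
          zpowers_le.2 (mem_normalizer_of_conj_mem fun c hc => by
            have h := mul_mem (mul_mem ht hc.1) (inv_mem ht)
            refine ⟨h, (fix_regular (hNr a) hy h).2 ?_⟩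
            have e : Commute c y⁻¹ := Commute.inv_right ((fix_regular (hNr a) hy hc.1).1 hc.2)
            rw [← inv_inv y, inv_eq_iff_eq_inv.2 (inv_eq_iff_eq_inv.1 h7.symm), show (t * y * t⁻¹)⁻¹ = t * y⁻¹ * t⁻¹ by group]
            exact e.conj t)
        have h11 := relIndex_sup_of_disjoint h10 (disjoint_def.2 fun {g} h1 h2 =>
          ((CfsgH2.mem_zpowers_of_mul_self t2).1 h2).resolve_right fun e => h6 ((fix_regular (hNr a) hy ht).1 (e ▸ h1.2)))
        rw [ncard_orbit_sub, ← inf_relIndex_right, inf_comm, ← relIndex_mul_relIndex _ _ _ le_sup_left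
          (sup_le inf_le_left (zpowers_le.2 ht)), h11, Nat.card_zpowers, h4] at h9
        have := Set.ncard_diff_singleton_add_one (Set.mem_univ a)
        rw [Set.ncard_univ, ← cN] at this
        obtain ⟨k, hk⟩ := (dvd_mul_right 2 _).trans h9
        obtain ⟨l, hl⟩ := h2
        omega
      let C := centralizer {s | ∃ x ∈ N, s = x⁻¹ * t * x}
      have hC : N ≤ normalizer (C : Set G) := fun n hn => mem_normalizer_of_conj_mem fun c hc => by
        rintro _ ⟨x, hx, rfl⟩
        have : Commute ((x * n)⁻¹ * t * (x * n)) c := hc _ ⟨x * n, mul_mem hx hn, rfl⟩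
        simpa [mul_assoc] using (this.conj n).eq
      have hS : ∀ x ∈ N, x⁻¹ * t * x ∈ C ⊓ centralizer (C : Set G) := fun x hx => ⟨by
        rintro _ ⟨z, hz, rfl⟩
        simpa [mul_assoc] using ((h5 (x * z⁻¹) (mul_mem hx (inv_mem hz))).conj z⁻¹).eq, fun c hc => (hc _ ⟨x, hx, rfl⟩).symm⟩
      have : IsMulCommutative (N ⊓ (C ⊓ centralizer (C : Set G)) : Subgroup G) := ⟨⟨fun x y => Subtype.ext (y.2.2.2 _ x.2.2.1)⟩⟩
      have h6 := le_map_fitting (N := N ⊓ (C ⊓ centralizer (C : Set G))) inf_le_left
        (le_normalizer_inf le_normalizer (le_normalizer_inf hC (le_normalizer_centralizer hC))) isNilpotent_of_isMulCommutative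
      rcases irr _ (map_subtype_le (fittingSubgroup N)) le_normalizer_of_normal with h | h
      · refine absurd (cen t ht fun n hn => ?_) (CfsgH2.ne_one_of_orderOf_two h4)
        have := mem_bot.1 (h.le (h6 ⟨(by simpa [mul_assoc] using mul_mem (inv_mem hn) (hN.conj_mem n hn t) : n⁻¹ * t * n * t⁻¹ ∈ N),
          (C ⊓ centralizer (C : Set G)).mul_mem (hS n hn) (Subgroup.inv_mem _ (by simpa using hS 1 N.one_mem))⟩))
        rw [mul_inv_eq_one, mul_assoc, inv_mul_eq_iff_eq_mul] at this
        exact this.symm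
      · have := isNilpotent_map_fitting N
        rw [h] at this
        infer_instance
    have := CfsgPF.feit_thompson h3
    have : Nontrivial (stabilizer G a) := (nontrivial_iff_ne_bot _).2 (hne a)
    obtain ⟨M, q, hq, hM, h0, -, hp, -⟩ := exists_minNormal_of_isSolvable (G := stabilizer G a)
    have := Fact.mk hq
    have h4 : stabilizer G a ≤ normalizer (M.map (stabilizer G a).subtype : Set G) := fun g hg =>
      le_normalizer_map (H := M) (stabilizer G a).subtype ⟨⟨g, hg⟩, le_normalizer_of_normal (mem_top _), rfl⟩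
    have h5 := map_subtype_le M
    have h0' : M.map (stabilizer G a).subtype ≠ ⊥ := mt (map_eq_bot_iff_of_injective _ (subtype_injective _)).1 h0
    replace hp := hp.map (stabilizer G a).subtype
    generalize M.map (stabilizer G a).subtype = A at h4 h5 h0' hp
    have h6 : N ⊓ centralizer (A : Set G) = ⊥ := (irr _ inf_le_left (le_normalizer_inf le_normalizer_of_normal
      (le_normalizer_centralizer h4))).resolve_right fun e => h0' (eq_bot_iff.2 fun g hg => cen g (h5 hg) fun n hn => ((e.ge hn).2 g hg).symm)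
    have h7 := card_modEq_fixed hq hp (Set.univ : Set Ω) fun _ _ _ _ => trivial
    rw [show {x | x ∈ Set.univ ∧ ∀ g ∈ A, g • x = x} = {a} from Set.eq_singleton_iff_unique_mem.2 ⟨⟨trivial, h5⟩, fun x hx => by
      obtain ⟨n, rfl⟩ := hNt.1 a x
      rw [show n = 1 from Subtype.ext (h6.le ⟨n.2, fun g hg => (fix_regular (hNr a) n.2 (h5 hg)).1 (hx.2 g hg)⟩), one_smul]⟩] at h7
    have h8 : (Nat.card A).Coprime (Nat.card N) := by
      obtain ⟨k, hk⟩ := IsPGroup.iff_card.1 hp
      rw [hk, cN]
      refine Nat.Coprime.pow_left _ ((Nat.coprime_of_mul_modEq_one 1 (by simpa using h7)).symm)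
    have h9 := Or.inl (b := Group.IsSolvable N) (isSolvable_of_isPGroup hp)
    obtain ⟨S, hS, hA⟩ := exists_invariant_sylow le_normalizer_of_normal h8 h9 2
    rcases irr S hS.le fun h hh => by
      obtain ⟨c, hc, e⟩ := invariant_sylow_conj le_normalizer_of_normal h8 h9 hS
        (hS.cj_of_mem_normalizer (le_normalizer_of_normal (mem_top h))) hA (by
          rw [← CfsgH2.cj_normalizer, ← CfsgH2.cj_eq_iff_mem_normalizer.2 (h4 hh)]; exact CfsgH2.cj_mono h hA)
      rw [mem_bot.1 (h6.le hc), conj_one_smul] at e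
      exact CfsgH2.cj_eq_iff_mem_normalizer.1 e.symm with h | h
    exacts [absurd h2.two_dvd (hS.eq_bot_iff.1 h), isSolvable_of_isPGroup (h ▸ hS.pgroup)]
  obtain ⟨hc, p, hp, h⟩ := minNormal_elementary sol hN0 fun K _ hK => irr K hK le_normalizer_of_normal
  refine ⟨⟨p, hp, hc, h⟩, fun M hM h0 => ?_⟩
  rcases irr (M ⊓ N) inf_le_right le_normalizer_of_normal with e | e
  · refine absurd (eq_bot_iff.2 fun m hm => e.le ⟨hm, ?_⟩) h0
    obtain ⟨n, hn⟩ := hNt.1 a (m • a)
    rw [← inv_mul_eq_one.1 (cen ((n : G)⁻¹ * m) (by rw [mul_smul, inv_smul_eq_iff]; exact hn.symm) fun k hk =>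
      ((show Commute k n from congrArg Subtype.val (hc.1.1 ⟨k, hk⟩ n)).inv_right.mul_right
        (commute_of_normal_of_disjoint M N hM hN (disjoint_iff.2 e) m k hm hk).symm).eq)]
    exact n.2
  · exact inf_eq_right.1 e

end Cfsg.Agent.S3356
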