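import Cfsg.Statements.S3357
import Cfsg.Agent.H1.FC8

set_option autoImplicit false
open Cfsg

namespace Cfsg.Agent.S3357

open Subgroup CfsgH1 CfsgFT CfsgH2 in
theorem aux {G k V : Type*} [Group G] [Field k] [AddCommGroup V] [Module k V] [FiniteDimensional k V] [Nontrivial V]
    (τ : Representation k G V) (h : ∀ g, g ≠ 1 → ∀ v, τ g v = v → v = 0) :
    ∃ (n : ℕ) (ρ : G →* GL (Fin n) k), 0 < n ∧ Function.Injective ρ ∧
      (∀ W : Submodule k (Fin n → k), (∀ g : G, ∀ w ∈ W, (ρ g).1.mulVec w ∈ W) → W = ⊥ ∨ W = ⊤) ∧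
      ∀ g : G, g ≠ 1 → ∀ v : Fin n → k, (ρ g).1.mulVec v = v → v = 0 := by
  obtain ⟨U, hU, u0, -, u1⟩ := exists_irred_le (ρ := τ) (N := ⊤) (fun _ => le_top) top_ne_bot
  haveI := Submodule.nontrivial_iff_ne_bot.2 u0
  let b := Module.finBasis k U
  let σ := τ.subrepresentation U hU
  let ρ := ((LinearMap.toMatrixAlgEquiv b).toMonoidHom.comp σ).toHomUnits
  have k : ∀ g u, (ρ g).1.mulVec (b.equivFun u) = b.equivFun (σ g u) := fun g u => LinearMap.toMatrix_mulVec_repr b b (σ g) u
  have f : ∀ g : G, g ≠ 1 → ∀ v, (ρ g).1.mulVec v = v → v = 0 := fun g hg v hv => by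
    obtain ⟨u, rfl⟩ := b.equivFun.surjective v
    rw [k, b.equivFun.injective.eq_iff] at hv
    rw [show u = 0 from Subtype.ext (h g hg _ (congrArg Subtype.val hv)), map_zero]
  refine ⟨_, ρ, Module.finrank_pos, (injective_iff_map_eq_one _).2 fun g hg => by_contra fun n => ?_, fun W hW => ?_, f⟩
  · obtain ⟨u, hu⟩ := exists_ne (0 : U)
    exact hu (b.equivFun.map_eq_zero_iff.1 (f g n _ (by rw [hg]; simp)))
  · rcases u1 (W.comap b.equivFun.toLinearMap) fun g u hu => by
      change b.equivFun (σ g u) ∈ W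
      rw [← k]; exact hW g _ hu with e | e
    · exact .inl (by rw [← Submodule.map_comap_eq_of_surjective b.equivFun.surjective W, e, Submodule.map_bot])
    · exact .inr (eq_top_iff.2 fun v _ => (b.equivFun.surjective v).elim fun u hu => hu ▸ e.ge (Submodule.mem_top (x := u)))

/-- Let G be a finite group that occurs as a Frobenius complement. Then G has a faithful irreducible representation over an algebraic closure of the rationals in which no non-identity element of G has 1 as an eigenvalue: there are n ≥ 1 and an injective homomorphism ρ from G to GL(n) over that field, with no invariant subspace other than 0 and the whole space, such that for g ≠ 1 the only vector fixed by ρ(g) is 0. -/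
theorem result {G : Type*} [Group G] [Finite G]
    (hFC : ∃ (L : Type) (_ : Group L) (_ : Finite L) (H : Subgroup L), Cfsg.IsFrobeniusComplement H ∧ Nonempty (G ≃* H)) :
    ∃ (n : ℕ) (ρ : G →* GL (Fin n) (AlgebraicClosure ℚ)), 0 < n ∧ Function.Injective ρ ∧
      (∀ W : Submodule (AlgebraicClosure ℚ) (Fin n → AlgebraicClosure ℚ),
        (∀ g : G, ∀ w ∈ W, ((ρ g : GL (Fin n) (AlgebraicClosure ℚ)) : Matrix (Fin n) (Fin n) (AlgebraicClosure ℚ)).mulVec w ∈ W) → W = ⊥ ∨ W = ⊤) ∧
      ∀ g : G, g ≠ 1 → ∀ v : Fin n → AlgebraicClosure ℚ,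
        ((ρ g : GL (Fin n) (AlgebraicClosure ℚ)) : Matrix (Fin n) (Fin n) (AlgebraicClosure ℚ)).mulVec v = v → v = 0 := by
  open Subgroup CfsgH1 CfsgFT CfsgH2 in
  have h := fc_of_frob hFC
  obtain ⟨L, _, _, H, h0, ⟨e⟩⟩ := hFC
  haveI := (nontrivial_iff_ne_bot H).2 h0.1
  haveI := e.toEquiv.nontrivial
  haveI := Submodule.nontrivial_iff_ne_bot.2 (h.ff (AlgebraicClosure ℚ))
  exact aux (ffRep G _) fun g hg v => ffRep_fpf (Nat.cast_ne_zero.2 Nat.card_pos.ne') hg

end Cfsg.Agent.S3357
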