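import Cfsg.Statements.S3358
import Cfsg.Agent.H1.FC4

set_option autoImplicit false
open Cfsg

namespace Cfsg.Agent.S3358

open Subgroup CfsgH1 CfsgFT CfsgH2 in
theorem cjp {P : Type*} [Group P] {x y : P} {r : ℕ} (h : x⁻¹ * y * x * (y ^ r)⁻¹ = 1) (i : ℕ) :
    y * x ^ i = x ^ i * y ^ r ^ i := by
  induction i with
  | zero => simp
  | succ i ih =>
    rw [pow_succ, ← mul_assoc, ih, pow_succ' r, pow_mul, ← mul_inv_eq_one.1 h, show x⁻¹ * y * x = x⁻¹ * y * x⁻¹⁻¹ by simp,
      conj_pow]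
    simp [mul_assoc]

open Subgroup CfsgH1 CfsgFT CfsgH2 in
theorem aux {P : Type*} [Group P] {x y : P} {n m r : ℕ} (hn : 0 < n) (hm : 0 < m) (g : closure {x, y} = ⊤)
    (r1 : x ^ n = 1) (r2 : y ^ m = 1) (r3 : x⁻¹ * y * x * (y ^ r)⁻¹ = 1) : Finite P ∧ Nat.card P ≤ n * m := by
  have k : ∀ z : P, ∃ i j : ℕ, z = x ^ i * y ^ j := fun z => by
    have a : ∀ (k : ℕ) (z : P), (∃ i j : ℕ, z = x ^ i * y ^ j) → ∃ i j : ℕ, x ^ k * z = x ^ i * y ^ j := by
      rintro k _ ⟨i, j, rfl⟩; exact ⟨k + i, j, by rw [pow_add, mul_assoc]⟩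
    have b : ∀ (k : ℕ) (z : P), (∃ i j : ℕ, z = x ^ i * y ^ j) → ∃ i j : ℕ, y ^ k * z = x ^ i * y ^ j := by
      rintro k _ ⟨i, j, rfl⟩
      exact ⟨i, r ^ i * k + j, by rw [← mul_assoc, (SemiconjBy.pow_right (cjp r3 i).symm k).eq.symm, pow_add, pow_mul,
        mul_assoc]⟩
    induction (g.ge (mem_top z)) using closure_induction_left with
    | one => exact ⟨0, 0, by simp⟩
    | mul_left w hw z _ ih => rcases hw with rfl | rfl; exacts [by simpa using a 1 z ih, by simpa using b 1 z ih]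
    | inv_mul_cancel w hw z _ ih =>
      rcases hw with rfl | rfl
      · rw [show w⁻¹ = w ^ (n - 1) from inv_eq_of_mul_eq_one_left (by rwa [← pow_succ, Nat.sub_add_cancel hn])]
        exact a _ z ih
      · rw [show w⁻¹ = w ^ (m - 1) from inv_eq_of_mul_eq_one_left (by rwa [← pow_succ, Nat.sub_add_cancel hm])]
        exact b _ z ih
  have s : Function.Surjective fun p : Fin n × Fin m => x ^ (p.1 : ℕ) * y ^ (p.2 : ℕ) := fun z =>
    let ⟨i, j, e⟩ := k z
    ⟨(⟨i % n, Nat.mod_lt _ hn⟩, ⟨j % m, Nat.mod_lt _ hm⟩), by rw [e, pow_eq_pow_mod i r1, pow_eq_pow_mod j r2]⟩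
  exact ⟨.of_surjective _ s, by simpa using Nat.card_le_card_of_surjective _ s⟩

open Subgroup CfsgH1 CfsgFT CfsgH2 in
theorem zg {G : Type*} [Group G] [Finite G] [IsZGroup G] (h : FC G) :
    ∃ n m r : ℕ, 0 < n ∧ 0 < m ∧ Nat.Coprime (r - 1) m ∧ Nat.Coprime n m ∧ 1 ≤ r ∧
        r ^ (n / ∏ p ∈ n.primeFactors, p) % m = 1 % m ∧
        Nonempty (G ≃* PresentedGroup
          ({FreeGroup.of (0 : Fin 2) ^ n, FreeGroup.of (1 : Fin 2) ^ m,
            (FreeGroup.of (0 : Fin 2))⁻¹ * FreeGroup.of 1 * FreeGroup.of 0 * (FreeGroup.of (1 : Fin 2) ^ r)⁻¹} :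
            Set (FreeGroup (Fin 2)))) := by
  obtain ⟨y, hy⟩ := L2.exists_gen (IsZGroup.isCyclic_commutator G)
  have cp := IsZGroup.coprime_commutator_index G
  obtain ⟨H, hH⟩ := exists_right_complement'_of_coprime cp
  obtain ⟨x, rfl⟩ := L2.exists_gen (hH.symm.QuotientMulEquiv.isCyclic.1 (IsZGroup.isCyclic_abelianization (G := G)))
  have c := hH.card_mul_card
  have nm : (zpowers y).Normal := hy ▸ inferInstance
  rw [← hH.symm.index_eq_card.symm] at cp
  have t := hH.sup_eq_top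
  have d := comm_eq_of_le_der le_normalizer_of_normal inferInstance cp t le_rfl
  have pr := h.cyc_primes.2
  rw [hy] at c cp t d pr
  rw [Nat.card_zpowers, Nat.card_zpowers] at c cp
  obtain ⟨k, hk⟩ := mem_powers_iff_mem_zpowers.2 (nm.conj_mem' _ (mem_zpowers y) x)
  have e : x⁻¹ * y * x * (y ^ (k + orderOf y))⁻¹ = 1 := by rw [pow_add, pow_orderOf_eq_one, mul_one, ← hk, mul_inv_cancel]
  have r1 : 1 ≤ k + orderOf y := by have := orderOf_pos y; omega
  generalize k + orderOf y = r at *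
  refine ⟨orderOf x, orderOf y, r, orderOf_pos x, orderOf_pos y, ?_, cp.symm, r1, ?_, ?_⟩
  · haveI : (zpowers (y ^ (r - 1))).Normal := normal_of_top_le
      (le_norm_of_cyclic inferInstance (zpowers_le.2 (npow_mem_zpowers y _)) le_normalizer_of_normal)
    refine mem_zpowers_pow_iff.1 (QuotientGroup.ker_mk' (zpowers (y ^ (r - 1))) |>.le
      ((Subgroup.map_eq_bot_iff _).1 ?_ (d.ge (mem_zpowers y))))
    rw [map_commutator, MonoidHom.map_zpowers, MonoidHom.map_zpowers]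
    refine comm_eq_bot ?_
    rw [cent_zpowers, zpowers_le, mem_C1, ← map_mul, ← map_mul]
    refine QuotientGroup.eq.2 ?_
    rw [show y * x = x * y ^ r by simpa using cjp e 1, ← Nat.sub_add_cancel r1, pow_succ', Nat.add_sub_cancel]
    simp [mul_assoc]
  · have dv := Nat.prod_primeFactors_dvd (orderOf x)
    set n' := ∏ p ∈ (orderOf x).primeFactors, p
    have o : orderOf (x ^ (orderOf x / n')) = n' := orderOf_pow_orderOf_div (orderOf_pos x).ne' dv
    have m : x ^ (orderOf x / n') ∈ C(zpowers y) := (CfsgH1.eq_of_le_of_card_le (inf_le_left (b := C(zpowers y))) (by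
      rw [Nat.card_zpowers, o]
      refine Nat.le_of_dvd Nat.card_pos (Finset.prod_primes_dvd _ (fun p hp => (Nat.prime_of_mem_primeFactors hp).prime)
        fun p hp => ?_)
      have o' := orderOf_pow_orderOf_div (orderOf_pos _).ne' (by rw [o]; exact Finset.dvd_prod_of_mem _ hp : p ∣ orderOf (x ^ (orderOf x / n')))
      exact o' ▸ orderOf_dvd_natCard _ (mem_inf.2 ⟨npow_mem_zpowers _ _,
        pr _ (o'.symm ▸ Nat.prime_of_mem_primeFactors hp)⟩))).ge (mem_zpowers _) |>.2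
    have := cjp e (orderOf x / n')
    rw [m y (mem_zpowers y), mul_left_cancel_iff] at this
    exact pow_eq_pow_iff_modEq.1 (this.symm.trans (pow_one y).symm)
  generalize hR : ({_, _, _} : Set (FreeGroup (Fin 2))) = R
  have r : ∀ w ∈ R, PresentedGroup.mk R w = 1 := fun w hw => PresentedGroup.one_of_mem hw
  rw [← hR] at r
  simp only [Set.mem_insert_iff, Set.mem_singleton_iff, forall_eq_or_imp, forall_eq, map_pow, map_mul, map_inv] at r
  rw [hR] at r
  have g := PresentedGroup.closure_range_of R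
  rw [show Set.range (PresentedGroup.of : Fin 2 → PresentedGroup R) = {.of 0, .of 1} by
    ext; simp [Fin.exists_fin_succ, eq_comm]] at g
  obtain ⟨_, l⟩ := aux (orderOf_pos x) (orderOf_pos y) g r.1 r.2.1 r.2.2
  have hf : ∀ r ∈ R, FreeGroup.lift ![x, y] r = 1 := by
    simp only [← hR, Set.mem_insert_iff, Set.mem_singleton_iff, forall_eq_or_imp, forall_eq, map_pow, map_mul, map_inv,
      FreeGroup.lift_apply_of]
    exact ⟨pow_orderOf_eq_one x, pow_orderOf_eq_one y, e⟩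
  let f := PresentedGroup.toGroup hf
  have s : Function.Surjective f := MonoidHom.range_eq_top.1 (top_le_iff.1 (t.ge.trans (sup_le
    (zpowers_le.2 ⟨.of 1, PresentedGroup.toGroup.of _⟩) (zpowers_le.2 ⟨.of 0, PresentedGroup.toGroup.of _⟩))))
  exact ⟨(MulEquiv.ofBijective f ((Nat.bijective_iff_surjective_and_card f).2
    ⟨s, le_antisymm (by rwa [← c, mul_comm]) (Nat.card_le_card_of_surjective _ s)⟩)).symm⟩

/-- Structure of solvable Frobenius complements. Let G be a finite solvable group that occurs as a Frobenius complement. Then G has a normal subgroup G₀ such that G/G₀ is isomorphic to a subgroup of Sym(4) (G₀ is the kernel of a homomorphism to Sym(4)), all Sylow subgroups of G₀ are cyclic, and G₀ has a presentation ⟨x, y | x^n = 1, y^m = 1, x⁻¹ y x = y^r⟩ with n, m ≥ 1, gcd(r − 1, m) = gcd(n, m) = 1 and r^(n/n′) ≡ 1 (mod m), where n′ is the product of the distinct primes dividing n. -/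
theorem result {G : Type*} [Group G] [Finite G] (hsol : Group.IsSolvable G)
    (hFC : ∃ (L : Type) (_ : Group L) (_ : Finite L) (H : Subgroup L), Cfsg.IsFrobeniusComplement H ∧ Nonempty (G ≃* H)) :
    ∃ G₀ : Subgroup G, G₀.Normal ∧
      (∃ f : G →* Equiv.Perm (Fin 4), f.ker = G₀) ∧
      (∀ (p : ℕ) [Fact p.Prime] (P : Sylow p G₀), IsCyclic P) ∧
      ∃ n m r : ℕ, 0 < n ∧ 0 < m ∧ Nat.Coprime (r - 1) m ∧ Nat.Coprime n m ∧ 1 ≤ r ∧
        r ^ (n / ∏ p ∈ n.primeFactors, p) % m = 1 % m ∧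
        Nonempty (G₀ ≃* PresentedGroup
          ({FreeGroup.of (0 : Fin 2) ^ n, FreeGroup.of (1 : Fin 2) ^ m,
            (FreeGroup.of (0 : Fin 2))⁻¹ * FreeGroup.of 1 * FreeGroup.of 0 * (FreeGroup.of (1 : Fin 2) ^ r)⁻¹} :
            Set (FreeGroup (Fin 2)))) := by
  open Subgroup CfsgH1 CfsgFT CfsgH2 in
  have h := fc_of_frob hFC
  obtain ⟨N, h1, h2, h3⟩ := h.solv
  refine ⟨N, h1, ?_, fun p _ P => inferInstance, zg (h.sub N)⟩
  rcases h3 with rfl | ⟨f, -, rfl⟩ | ⟨f, -, rfl⟩ | ⟨f, -, rfl⟩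
  · exact ⟨1, MonoidHom.ker_one⟩
  · exact ⟨_, MonoidHom.ker_comp_of_injective f ((Equiv.permCongrHom (Fintype.equivFinOfCardEq
      (DihedralGroup.card (n := 2)))).toMonoidHom.comp (MulAction.toPermHom _ _))
      fun _ _ e => MulAction.toPerm_injective ((Equiv.permCongrHom _).injective e)⟩
  · exact ⟨_, MonoidHom.ker_comp_of_injective f (Subgroup.subtype _) Subtype.val_injective⟩
  · exact ⟨f, rfl⟩

end Cfsg.Agent.S3358
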