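import Cfsg.Statements.S3361
import Cfsg.Agent.H1.FC7

set_option autoImplicit false
open Cfsg

namespace Cfsg.Agent.S3361

/-- Let q be a prime and V a non-trivial finite vector space over the field with q elements, and let G be a finite solvable group acting faithfully and linearly on V and regularly on the non-zero vectors (transitively, with only the identity fixing a non-zero vector). Then either V can be identified with the additive group of a finite field F so that every element of G acts as x ↦ a·σ(x) (a ∈ F, σ a field automorphism), or V has 5^2, 7^2, 11^2 or 23^2 elements. Moreover, if q ≠ 2 then G has a normal subgroup of index 2, except that when V has 25 elements G may be isomorphic to SL(2,3) and when V has 121 elements G may be isomorphic to SL(2,3) × C₅. -/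
theorem result
    (q : ℕ) [Fact q.Prime] {V : Type*} [AddCommGroup V] [Module (ZMod q) V] [Finite V] [Nontrivial V]
    {G : Type*} [Group G] [Finite G] (hsol : Group.IsSolvable G)
    (ρ : G →* (V ≃ₗ[ZMod q] V)) (hρ : Function.Injective ρ)
    (htrans : ∀ v w : V, v ≠ 0 → w ≠ 0 → ∃ g : G, ρ g v = w)
    (hreg : ∀ v : V, v ≠ 0 → ∀ g : G, ρ g v = v → g = 1) :
    ((∃ (F : Type) (_ : Field F) (_ : Fintype F) (e : V ≃+ F),
        ∀ g : G, ∃ (a : F) (σ : F ≃+* F), ∀ v : V, e (ρ g v) = a * σ (e v)) ∨
      Nat.card V ∈ ({25, 49, 121, 529} : Set ℕ)) ∧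
    (q ≠ 2 → (∃ N : Subgroup G, N.Normal ∧ N.index = 2) ∨
      (Nat.card V = 25 ∧ Nonempty (G ≃* Matrix.SpecialLinearGroup (Fin 2) (ZMod 3))) ∨
      (Nat.card V = 121 ∧ Nonempty (G ≃* Matrix.SpecialLinearGroup (Fin 2) (ZMod 3) × Multiplicative (ZMod 5)))) := by
  open Subgroup CfsgH1 CfsgFT CfsgH2 in
  let e := MonoidHom.ofInjective hρ
  have ht : ∀ v w : V, v ≠ 0 → w ≠ 0 → ∃ h : ρ.range, h.1 v = w := fun v w a b =>
    (htrans v w a b).elim fun g hg => ⟨e g, hg⟩
  have hr : ∀ v w : V, v ≠ 0 → w ≠ 0 → ∃! h : ρ.range, h.1 v = w := fun v w a b => by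
    refine existsUnique_of_exists_of_unique (ht v w a b) fun x y hx hy => ?_
    obtain ⟨x, rfl⟩ := e.surjective x
    obtain ⟨y, rfl⟩ := e.surjective y
    refine congrArg e (inv_mul_eq_one.1 (hreg v a _ ?_)).symm
    rw [map_mul, map_inv]
    exact (ρ y).symm_apply_eq.2 (hx.trans hy.symm)
  haveI := Group.isSolvable_of_surjective (f := e.toMonoidHom) e.surjective
  refine ⟨?_, fun h2 => or_iff_not_imp_left.2 fun n => ?_⟩
  · rcases reg_solv hr with ⟨D, _, _, l, -⟩ | ⟨c, e', -⟩
    · obtain ⟨k, k0, -, d, hd⟩ := lin_semi ht D l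
      exact .inl ⟨_, inferInstance, Fintype.ofFinite _, d, fun g => hd (e g)⟩
    · rcases e' with rfl | rfl | rfl | rfl <;> simp [c]
  · refine (reg_solv' hr h2 fun N hN => ?_).imp (fun h => ⟨h.1, ⟨e.trans h.2.some⟩⟩) fun h => ⟨h.1, ⟨e.trans h.2.some⟩⟩
    have := (N.index_comap_of_surjective (f := e.toMonoidHom) e.surjective).trans hN
    exact n ⟨_, normal_of_index_eq_two this, this⟩

end Cfsg.Agent.S3361
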