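import Cfsg.Statements.S3362
import Cfsg.Agent.H7.Diag

set_option autoImplicit false
open Cfsg

namespace Cfsg.Agent.S3362

open CfsgH7 MulAction Subgroup Equiv
abbrev A := permAct 12 ⟨12, 4, 15⟩ ⟨⟨rfl, by decide⟩, rfl⟩
def L1 : List (ℕ × List (ℕ × ℕ)) := [(1, [(0x876ba9543201, 0x876ba9543201)]), (0, [(0x98ba67540213, 0x98ba67540213)]), (3, [(0x9ba687354210, 0xa9b768435210), (0x543ba9876210, 0x876543ba9210)]), (4, [(0xa74b85963210, 0x8b57a4693210), (0x49865ab73210, 0x56a9487b3210), (0x95746b8a3210, 0x64b597a83210)])]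
def L2 := (2, [(0x687a9b543120, 0x687a9b543120)]) :: L1
theorem c1 : A.F.loChk L1 = true ∧ A.F.hiChk L1 = true ∧ A.F.size (A.F.build L1) = 7920 := by decide +kernel
theorem c2 : A.F.loChk L2 = true ∧ A.F.hiChk L2 = true ∧ A.F.size (A.F.build L2) = 95040 := by decide +kernel
theorem ce {S : List ℕ} {T : Set (Perm (Fin 12))} (h : ∀ t ∈ S, ∃ g ∈ T, A.Rep g t) (k : ∀ g ∈ T, ∃ t ∈ S, A.Rep g t) :
    A.Valid S ∧ A.clo S = closure T :=
  ⟨fun t m => (h t m).imp fun _ => And.right, le_antisymm (Act.clo_le' fun t m => (h t m).imp fun _ q => ⟨subset_closure q.1, q.2⟩) (closure_mono k)⟩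

/-- An explicit construction of the Mathieu groups of degrees 11 and 12. On the points 0, …, 11 let s = (3 4 5)(6 7 8)(9 10 11), t = (3 6 9)(4 7 10)(5 8 11), u = (4 6 5 9)(7 8 11 10), v = (4 7 5 11)(6 10 9 8), w = (4 10 5 8)(6 11 9 7), x₁ = (0 3)(6 7)(8 10)(9 11), x₂ = (0 1)(6 9)(7 10)(8 11), x₃ = (1 2)(6 11)(7 9)(8 10) (each written as a product of transpositions). Then the group M₁₂ generated by all eight permutations is sharply 5-transitive on the 12 points and has order 95040, and the group M₁₁ generated by the first seven has order 7920 and is the stabilizer of the point 2 in M₁₂. -/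
theorem result
    (s t u v w x₁ x₂ x₃ : Equiv.Perm (Fin 12))
    (hs : s = Equiv.swap (3 : Fin 12) 5 * Equiv.swap (3 : Fin 12) 4 * Equiv.swap (6 : Fin 12) 8 * Equiv.swap (6 : Fin 12) 7 * Equiv.swap (9 : Fin 12) 11 * Equiv.swap (9 : Fin 12) 10) (ht : t = Equiv.swap (3 : Fin 12) 9 * Equiv.swap (3 : Fin 12) 6 * Equiv.swap (4 : Fin 12) 10 * Equiv.swap (4 : Fin 12) 7 * Equiv.swap (5 : Fin 12) 11 * Equiv.swap (5 : Fin 12) 8)
    (hu : u = Equiv.swap (4 : Fin 12) 9 * Equiv.swap (4 : Fin 12) 5 * Equiv.swap (4 : Fin 12) 6 * Equiv.swap (7 : Fin 12) 10 * Equiv.swap (7 : Fin 12) 11 * Equiv.swap (7 : Fin 12) 8) (hv : v = Equiv.swap (4 : Fin 12) 11 * Equiv.swap (4 : Fin 12) 5 * Equiv.swap (4 : Fin 12) 7 * Equiv.swap (6 : Fin 12) 8 * Equiv.swap (6 : Fin 12) 9 * Equiv.swap (6 : Fin 12) 10) (hw : w = Equiv.swap (4 : Fin 12) 8 * Equiv.swap (4 : Fin 12) 5 * Equiv.swap (4 : Fin 12) 10 * Equiv.swap (6 : Fin 12) 7 * Equiv.swap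 (6 : Fin 12) 9 * Equiv.swap (6 : Fin 12) 11)
    (hx₁ : x₁ = Equiv.swap (0 : Fin 12) 3 * Equiv.swap (6 : Fin 12) 7 * Equiv.swap (8 : Fin 12) 10 * Equiv.swap (9 : Fin 12) 11) (hx₂ : x₂ = Equiv.swap (0 : Fin 12) 1 * Equiv.swap (6 : Fin 12) 9 * Equiv.swap (7 : Fin 12) 10 * Equiv.swap (8 : Fin 12) 11)
    (hx₃ : x₃ = Equiv.swap (1 : Fin 12) 2 * Equiv.swap (6 : Fin 12) 11 * Equiv.swap (7 : Fin 12) 9 * Equiv.swap (8 : Fin 12) 10)
    (M₁₂ M₁₁ : Subgroup (Equiv.Perm (Fin 12))) (hM₁₂ : M₁₂ = Subgroup.closure {s, t, u, v, w, x₁, x₂, x₃})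
    (hM₁₁ : M₁₁ = Subgroup.closure {s, t, u, v, w, x₁, x₂}) :
    MulAction.IsMultiplyPretransitive M₁₂ (Fin 12) 5 ∧ (∀ y : Fin 5 ↪ Fin 12, MulAction.stabilizer M₁₂ y = ⊥) ∧
    Nat.card M₁₂ = 95040 ∧ Nat.card M₁₁ = 7920 ∧
    M₁₁ = M₁₂ ⊓ MulAction.stabilizer (Equiv.Perm (Fin 12)) (2 : Fin 12) := by
  have rs : A.Rep s 0x9ba687354210 := by subst hs; unfold Act.Rep; decide +kernel
  have rt : A.Rep t 0x543ba9876210 := by subst ht; unfold Act.Rep; decide +kernel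
  have ru : A.Rep u 0xa74b85963210 := by subst hu; unfold Act.Rep; decide +kernel
  have rv : A.Rep v 0x49865ab73210 := by subst hv; unfold Act.Rep; decide +kernel
  have rw : A.Rep w 0x95746b8a3210 := by subst hw; unfold Act.Rep; decide +kernel
  have r1 : A.Rep x₁ 0x98ba67540213 := by subst hx₁; unfold Act.Rep; decide +kernel
  have r2 : A.Rep x₂ 0x876ba9543201 := by subst hx₂; unfold Act.Rep; decide +kernel
  have r3 : A.Rep x₃ 0x687a9b543120 := by subst hx₃; unfold Act.Rep; decide +kernel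
  obtain ⟨v1, e1⟩ := ce (S := Fmt.gens L1) (T := {s, t, u, v, w, x₁, x₂}) (by simp [Fmt.gens_eq, Fmt.gensP_cons, L1, Fmt.gensP, rs, rt, ru, rv, rw, r1, r2])
    (by simp [Fmt.gens_eq, Fmt.gensP_cons, L1, Fmt.gensP, rs, rt, ru, rv, rw, r1, r2])
  obtain ⟨v2, e2⟩ := ce (S := Fmt.gens L2) (T := {s, t, u, v, w, x₁, x₂, x₃}) (by simp [Fmt.gens_eq, Fmt.gensP_cons, L1, L2, Fmt.gensP, rs, rt, ru, rv, rw, r1, r2, r3])
    (by simp [Fmt.gens_eq, Fmt.gensP_cons, L1, L2, Fmt.gensP, rs, rt, ru, rv, rw, r1, r2, r3])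
  have f1 := Act.full_clo v1 c1.1 c1.2.1
  have f2 := Act.full_clo v2 c2.1 c2.2.1
  rw [e1, ← hM₁₁] at f1
  rw [e2, ← hM₁₂] at f2
  have n1 := f1.card.trans c1.2.2
  have n2 := f2.card.trans c2.2.2
  let y : Fin 5 ↪ Fin 12 := ⟨![2, 1, 0, 3, 4], by decide⟩
  have b : stabilizer M₁₂ y = ⊥ := eq_bot_iff.2 fun g hg => Subtype.ext (f2.eq_one g.2 fun b hb => by
    have := DFunLike.congr_fun (show g • y = y from hg)
    simp only [L2, L1, Fmt.build_cons, Fmt.base, List.map_cons, List.mem_cons] at hb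
    rcases hb with rfl | rfl | rfl | rfl | rfl | hb
    exacts [this 0, this 1, this 2, this 3, this 4, nomatch hb])
  have o : orbit M₁₂ y = Set.univ := Set.eq_of_subset_of_ncard_le (Set.subset_univ _) (by
    have := Nat.card_congr (orbitProdStabilizerEquivGroup M₁₂ y)
    rw [Nat.card_prod, b, card_bot, n2, mul_one] at this
    refine (le_of_eq ?_).trans this.ge
    rw [Set.ncard_univ, Nat.card_eq_fintype_card, Fintype.card_embedding_eq]; decide +kernel)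
  refine ⟨(isPretransitive_iff_orbit_eq_univ y).2 o, fun z => ?_, n2, n1, eq_of_le_of_card_ge (le_inf (hM₁₁ ▸ hM₁₂ ▸ closure_mono (by grind)) ?_)
    ((f2.cons.1.card.trans c1.2.2).trans n1.symm).le⟩
  · obtain ⟨g, rfl⟩ : z ∈ orbit M₁₂ y := o ▸ trivial
    exact (stabilizer_smul_eq_stabilizer_map_conj g y).trans (by rw [b, Subgroup.map_bot])
  rw [hM₁₁, ← e1]
  refine Act.clo_le fun t m g q => (q.fix_iff (i := 2) (by decide)).2 ?_
  clear q; revert t; decide +kernel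

end Cfsg.Agent.S3362
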