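import Cfsg.Statements.S3370
import Cfsg.Agent.H2.TwoGroup
import Cfsg.Agent.H2.PGroup
import Cfsg.Agent.H9.Zsig

set_option autoImplicit false
open Cfsg

namespace Cfsg.Agent.S3370
open Subgroup CfsgH2
open scoped commutatorElement

open CfsgFT MulAction

theorem nt1 {p a n : ℕ} (hp : p.Prime) (ha : a ≠ 0) (h : 2 ^ n - 1 = p ^ a) : a = 1 := by
  by_contra h1
  have h0 := Nat.one_le_two_pow (n := n)
  have h2 : 1 < p ^ a := Nat.one_lt_pow ha hp.one_lt
  have hn : n ≠ 0 := by rintro rfl; simp at h; omega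
  have h3 : p ≠ 2 := by
    rintro rfl
    have := dvd_pow_self 2 ha
    have := dvd_pow_self 2 hn
    omega
  obtain ⟨r, hr, r1, r2⟩ := CfsgH9.zsigmondy hp.one_lt (by omega : 1 < a * 2) (fun e => h3 e.1) (fun e => by omega)
  rw [pow_mul, show (p ^ a) ^ 2 - 1 = (p ^ a + 1) * (p ^ a - 1) by simpa using Nat.sq_sub_sq (p ^ a) 1] at r1
  have h4 := ((Nat.Prime.dvd_mul hr).1 r1).resolve_right (r2 a (by omega) (by omega))
  rw [show p ^ a + 1 = 2 ^ n by omega] at h4
  obtain rfl := (Nat.prime_dvd_prime_iff_eq hr Nat.prime_two).1 (hr.dvd_of_dvd_pow h4)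
  have := hp.eq_two_or_odd.resolve_left h3
  exact r2 1 one_pos (by omega) (by rw [pow_one]; omega)

theorem nt2 {q a n : ℕ} (hq : q.Prime) (h2 : q ≠ 2) (hn : 1 < n) (h : q ^ n - 1 = 2 ^ a) : q = 3 ∧ n = 2 := by
  have ho := hq.eq_two_or_odd.resolve_left h2
  have := hq.two_le
  by_cases e : n = 2 ∧ ∃ m : ℕ, q + 1 = 2 ^ m
  · obtain ⟨rfl, m, hm⟩ := e
    rw [show q ^ 2 - 1 = (q + 1) * (q - 1) by simpa using Nat.sq_sub_sq q 1] at h
    obtain ⟨i, -, hi⟩ := (Nat.dvd_prime_pow Nat.prime_two).1 (Dvd.intro_left _ h)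
    refine ⟨?_, rfl⟩
    rcases i with _ | _ | i
    · omega
    · omega
    rcases m with _ | _ | m
    · omega
    · omega
    rw [pow_succ, pow_succ] at hi hm
    omega
  obtain ⟨r, hr, r1, r2⟩ := CfsgH9.zsigmondy hq.one_lt hn (fun e => h2 e.1) e
  obtain rfl := (Nat.prime_dvd_prime_iff_eq hr Nat.prime_two).1 (hr.dvd_of_dvd_pow (h ▸ r1))
  exact absurd (by rw [pow_one]; omega) (r2 1 one_pos hn)

def X : GL (Fin 2) (ZMod 3) := ⟨!![0, 1; 1, 2], !![1, 1; 1, 0], by decide, by decide⟩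
def Y : GL (Fin 2) (ZMod 3) := ⟨!![1, 2; 0, 2], !![1, 2; 0, 2], by decide, by decide⟩

theorem qd {G : Type*} [Group G] (φ : G →* GL (Fin 2) (ZMod 3)) (hφ : Function.Injective φ)
    (h : Nat.card G = 16) : IsQuasiDihedral G := by
  haveI : Fact (Nat.Prime 3) := ⟨Nat.prime_three⟩
  have oX : orderOf X = 2 ^ 3 := orderOf_eq_prime_pow (by decide) (by decide)
  have oY : orderOf Y = 2 := orderOf_eq_prime (by decide) (by decide)
  have hXY : Y * X * Y⁻¹ = X ^ 3 := by decide
  have h1 : IsPGroup 2 (zpowers X ⊔ zpowers Y : Subgroup _) := IsPGroup.to_sup_of_normal_left'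
    (IsPGroup.of_card (n := 3) (by rw [Nat.card_zpowers, oX])) (IsPGroup.of_card (n := 1) (by rw [Nat.card_zpowers, oY]; rfl))
    (zpowers_le_of_mem (mem_normalizer_of_conj_mem fun x hx => by
      obtain ⟨k, rfl⟩ := mem_zpowers_iff.1 hx
      rw [← conj_zpow, hXY]; exact zpow_mem (pow_mem (mem_zpowers X) 3) k))
  obtain ⟨Q, hQ⟩ := h1.exists_le_sylow
  let P : Sylow 2 (GL (Fin 2) (ZMod 3)) := Sylow.ofCard φ.range (by
    rw [← Nat.card_congr (MonoidHom.ofInjective hφ).toEquiv, h, Matrix.card_GL_field]; decide +kernel)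
  obtain ⟨g, hg⟩ := exists_smul_eq (GL (Fin 2) (ZMod 3)) Q P
  have h2 : ∀ x ∈ (Q : Subgroup (GL (Fin 2) (ZMod 3))), ∃ y, φ y = MulAut.conj g x := fun x hx => by
    have : MulAut.conj g x ∈ ((g • Q : Sylow 2 _) : Subgroup (GL (Fin 2) (ZMod 3))) :=
      smul_mem_pointwise_smul x (MulAut.conj g) _ hx
    rw [hg] at this
    exact this
  obtain ⟨x, hx⟩ := h2 X (hQ (mem_sup_left (mem_zpowers X)))
  obtain ⟨y, hy⟩ := h2 Y (hQ (mem_sup_right (mem_zpowers Y)))
  refine ⟨3, le_rfl, h, x, y, by rw [← orderOf_injective φ hφ, hx, MulEquiv.orderOf_eq, oX],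
    by rw [← orderOf_injective φ hφ, hy, MulEquiv.orderOf_eq, oY], hφ ?_⟩
  rw [map_mul, map_mul, map_inv, map_pow, hx, hy, ← map_inv, ← map_mul, ← map_mul, hXY, map_pow]
  rfl

/-- Let q be a prime, V a non-trivial finite vector space over the field with q elements, and G a non-trivial finite p-group (p prime) acting faithfully and linearly on V and transitively on the non-zero vectors. Then either q = 2 and G has prime order p = |V| − 1; or p = 2, V has q elements with q = 2^m + 1 and G is cyclic of order 2^m; or p = 2, q = 3, V has 9 elements and G is cyclic of order 8, quaternion of order 8, or semidihedral of order 16. -/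
theorem result (q : ℕ) [Fact q.Prime] {V : Type*} [AddCommGroup V] [Module (ZMod q) V] [Finite V] [Nontrivial V]
    {G : Type*} [Group G] [Finite G] [Nontrivial G] (p : ℕ) [Fact p.Prime] (hG : IsPGroup p G)
    (ρ : G →* (V ≃ₗ[ZMod q] V)) (hρ : Function.Injective ρ)
    (htrans : ∀ v w : V, v ≠ 0 → w ≠ 0 → ∃ g : G, ρ g v = w) :
    (q = 2 ∧ p = Nat.card V - 1 ∧ Nat.card G = p) ∨
    (p = 2 ∧ Nat.card V = q ∧ (∃ m : ℕ, q = 2 ^ m + 1 ∧ Nat.card G = 2 ^ m) ∧ IsCyclic G) ∨
    (p = 2 ∧ q = 3 ∧ Nat.card V = 9 ∧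
      ((IsCyclic G ∧ Nat.card G = 8) ∨ Nonempty (G ≃* QuaternionGroup 2) ∨ (Cfsg.IsQuasiDihedral G ∧ Nat.card G = 16))) := by
  have hq : q.Prime := Fact.out
  have hp : p.Prime := Fact.out
  letI : MulAction G V := MulAction.compHom V ρ
  have sm : ∀ (g : G) (v : V), g • v = ρ g v := fun _ _ => rfl
  have fa : ∀ g : G, (∀ v, v ≠ 0 → ρ g v = v) → g = 1 := fun g h => hρ (by
    rw [map_one]; ext v; by_cases e : v = 0
    · simp [e]
    · exact h v e)
  have cV := Module.natCard_eq_pow_finrank (K := ZMod q) (V := V)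
  rw [Nat.card_zmod] at cV
  have n0 : 0 < Module.finrank (ZMod q) V := Module.finrank_pos
  have cS : ({0}ᶜ : Set V).ncard = Nat.card V - 1 := by rw [Set.ncard_compl, Set.ncard_singleton]
  have hi : ∀ v : V, v ≠ 0 → (stabilizer G v).index = Nat.card V - 1 := fun v hv => by
    rw [index_stabilizer, ← cS]
    congr 1
    exact Set.ext fun w => ⟨by rintro ⟨g, rfl⟩; exact fun e => hv ((ρ g).map_eq_zero_iff.1 e), htrans v w hv⟩
  obtain ⟨v, hv⟩ := exists_ne (0 : V)
  obtain ⟨a, ha⟩ := hG.index (stabilizer G v)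
  obtain ⟨b, hb⟩ := hG.exists_card_eq
  rw [hi v hv] at ha
  let S : SubMulAction G V := ⟨{0}ᶜ, fun g w hw e => hw ((ρ g).map_eq_zero_iff.1 e)⟩
  have hd : Nat.card G ∣ (Nat.card V - 1).factorial := by
    have := card_dvd_of_injective (toPermHom G S) ((injective_iff_map_eq_one _).2 fun g hg => fa g fun w hw =>
      congrArg Subtype.val (DFunLike.congr_fun hg (⟨w, hw⟩ : S)))
    rwa [Nat.card_perm, show Nat.card S = _ from cS] at this
  have b0 : 1 < Nat.card G := Finite.one_lt_card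
  have a0 : a ≠ 0 := by
    rintro rfl
    rw [ha, pow_zero, Nat.factorial_one, Nat.dvd_one] at hd
    omega
  by_cases h2 : q = 2
  · obtain rfl := nt1 hp a0 (n := Module.finrank (ZMod q) V) (by subst h2; rw [← ha, cV])
    rw [pow_one] at ha
    refine Or.inl ⟨h2, ha.symm, ?_⟩
    rw [ha, hb] at hd
    rcases b with _ | _ | b
    · rw [hb] at b0; simp at b0
    · rw [hb]; simp
    obtain ⟨k, rfl⟩ : ∃ k, p = k + 1 := ⟨p - 1, by have := hp.pos; omega⟩
    rw [Nat.factorial_succ, pow_succ', Nat.mul_dvd_mul_iff_left hp.pos] at hd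
    have := hp.dvd_factorial.1 ((dvd_pow_self _ (Nat.succ_ne_zero b)).trans hd)
    omega
  have qo : Odd (Nat.card V) := cV ▸ (hq.odd_of_ne_two h2).pow
  obtain rfl : p = 2 := ((Nat.prime_dvd_prime_iff_eq Nat.prime_two hp).1 (Nat.prime_two.dvd_of_dvd_pow
    (n := a) (by rw [← ha]; obtain ⟨k, hk⟩ := qo; omega))).symm
  refine Or.inr ?_
  rcases (Nat.succ_le_of_lt n0).eq_or_lt with h1 | h1
  · rw [← h1, pow_one] at cV
    choose c hc using fun g : G => exists_smul_eq_of_finrank_eq_one h1.symm hv (ρ g v)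
    have inj := smul_left_injective (ZMod q) hv
    let χ : G →* ZMod q :=
      { toFun := c
        map_one' := inj (by simp only [hc, map_one, one_smul]; rfl)
        map_mul' := fun g h => inj (by
          simp only [hc]; rw [mul_comm, mul_smul, hc, ← map_smul, hc, map_mul]; rfl) }
    have h3 : ∀ g : G, ρ g v = v → g = 1 := fun g hg => fa g fun w _ => by
      obtain ⟨d, rfl⟩ := exists_smul_eq_of_finrank_eq_one h1.symm hv w
      rw [map_smul, hg]
    refine Or.inl ⟨rfl, cV, ⟨a, by have := hq.pos; omega, ?_⟩, isCyclic_of_injective_ringHom χ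
      ((injective_iff_map_eq_one _).2 fun g hg => h3 g (by rw [← hc, show c g = 1 from hg, one_smul]))⟩
    rw [← ha, ← hi v hv, show stabilizer G v = ⊥ from eq_bot_iff.2 fun g hg => mem_bot.2 (h3 g hg), index_bot]
  obtain ⟨rfl, h3⟩ := nt2 hq h2 h1 (cV ▸ ha)
  rw [h3] at cV
  refine Or.inr ⟨rfl, rfl, cV, ?_⟩
  let φ : G →* GL (Fin 2) (ZMod 3) := ((LinearMap.toMatrixAlgEquiv (Module.finBasisOfFinrankEq (ZMod 3) V h3)).toMonoidHom.comp
    (LinearEquiv.automorphismGroup.toLinearMapMonoidHom.comp ρ)).toHomUnits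
  have hφ : Function.Injective φ := fun g h e => hρ (LinearEquiv.toLinearMap_injective
    ((LinearMap.toMatrixAlgEquiv _).injective (congrArg Units.val e)))
  have h4 := card_dvd_of_injective φ hφ
  rw [Matrix.card_GL_field, show ∏ i : Fin 2, (Fintype.card (ZMod 3) ^ 2 - Fintype.card (ZMod 3) ^ (i : ℕ)) = 16 * 3 by
    decide, hb] at h4
  have h5 := (Nat.pow_dvd_pow_iff_le_right (l := 4) one_lt_two).1
    ((Nat.Coprime.pow_left b (by decide : Nat.Coprime 2 3)).dvd_of_dvd_mul_right h4)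
  have h6 := (stabilizer G v).index_dvd_card
  rw [hi v hv, cV, hb] at h6
  have h7 := (Nat.pow_dvd_pow_iff_le_right (k := 3) one_lt_two).1 h6
  rcases h5.eq_or_lt with rfl | h5
  · exact Or.inr (Or.inr ⟨qd φ hφ hb, hb⟩)
  obtain rfl : b = 3 := by omega
  have h8 : ∀ t : G, orderOf t = 2 → ∀ w, ρ t w = -w := fun t ht w => by
    by_contra e
    have h9 := (stabilizer G (ρ t w + w)).card_mul_index
    rw [hi _ (fun e' => e (eq_neg_of_add_eq_zero_left e')), cV, hb] at h9
    have h10 : t ∈ stabilizer G (ρ t w + w) := by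
      rw [mem_stabilizer_iff, sm, map_add, ← sm t (ρ t w), ← sm t w, smul_smul, ← sq, ← ht, pow_orderOf_eq_one,
        one_smul, add_comm]
    rw [card_eq_one.1 (by omega : Nat.card (stabilizer G (ρ t w + w)) = 1), mem_bot] at h10
    rw [h10, orderOf_one] at ht; omega
  rcases cyclic_or_quat' (hG.to_subgroup ⊤) (fun s _ t _ hs ht => hρ (LinearEquiv.ext fun w => by
    rw [h8 s hs, h8 t ht])) with h | ⟨r, ⟨e⟩⟩
  · exact Or.inl ⟨isCyclic_of_surjective _ topEquiv.surjective, hb⟩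
  have h9 := Nat.card_congr e.toEquiv
  haveI : NeZero (2 ^ (r + 1)) := ⟨by positivity⟩
  rw [card_top, hb, Nat.card_eq_fintype_card, QuaternionGroup.card, pow_succ 2 r] at h9
  obtain rfl : r = 0 := by
    have : 2 ^ r = 1 := by omega
    simpa using this
  exact Or.inr (Or.inl ⟨topEquiv.symm.trans e⟩)


end Cfsg.Agent.S3370
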