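import Cfsg.Statements.S3375
import Cfsg.Agent.H3.Pm1

set_option autoImplicit false
open Cfsg

namespace Cfsg.Agent.S3375

open Subgroup

/-- Let γ be an automorphism of order 2 of a finite group H. (i) If γ fixes only the identity, then H is abelian and γ inverts every element. (ii) If γ has exactly two fixed points and H has a subgroup of index 2, then H has a γ-invariant abelian subgroup of index 2 on which γ acts by inversion. -/
theorem result {H : Type*} [Group H] [Finite H] (γ : MulAut H) (hγ : orderOf γ = 2) :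
    ((∀ h : H, γ h = h → h = 1) → (∀ a b : H, a * b = b * a) ∧ ∀ h : H, γ h = h⁻¹) ∧
    ((Nat.card {h : H // γ h = h} = 2 ∧ ∃ M : Subgroup H, M.index = 2) →
      ∃ A : Subgroup H, A.index = 2 ∧ IsMulCommutative A ∧ (∀ a ∈ A, γ a ∈ A) ∧ ∀ a ∈ A, γ a = a⁻¹) := by
  have inv : ∀ x, γ (γ x) = x := fun x => by rw [← MulAut.mul_apply, ← sq, ← hγ, pow_orderOf_eq_one]; rfl
  refine ⟨fun h => ⟨fun a b => (MonoidHom.FixedPointFree.commute_all_of_involutive (φ := γ) h inv a b).eq, fun x =>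
    congrFun (MonoidHom.FixedPointFree.coe_eq_inv_of_involutive (φ := γ) h inv) x⟩, fun ⟨h1, M, hM⟩ => ?_⟩
  obtain ⟨A, hA, h2⟩ : ∃ A : Subgroup H, A.index = 2 ∧ ∀ x, x⁻¹ * γ x ∈ A := by
    by_cases h : ∀ x, x⁻¹ * γ x ∈ M
    · exact ⟨M, hM, h⟩
    obtain ⟨y, hy⟩ := not_forall.1 h
    simp only [mul_mem_iff_of_index_two hM, inv_mem_iff] at hy
    refine ⟨⟨⟨⟨{x | x ∈ M ↔ γ x ∈ M}, fun {a b} ha hb => ?_⟩, by simp [one_mem]⟩, fun {a} ha => by simpa using ha⟩,
      index_eq_two_iff.2 ⟨y, fun b => ?_⟩, fun x => ?_⟩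
    · simp only [Set.mem_setOf_eq, map_mul, mul_mem_iff_of_index_two hM] at *; tauto
    · simp only [mem_mk, Submonoid.mem_mk, Subsemigroup.mem_mk, Set.mem_setOf_eq, map_mul, mul_mem_iff_of_index_two hM, Xor']; tauto
    · simp only [mem_mk, Submonoid.mem_mk, Subsemigroup.mem_mk, Set.mem_setOf_eq, map_mul, map_inv, inv, mul_mem_iff_of_index_two hM,
        inv_mem_iff]; tauto
  let C := (γ : H →* H).eqLocus (MonoidHom.id H)
  have hC : Nat.card C = 2 := h1
  have key : ∀ a b : H, a⁻¹ * b ∈ C ↔ a⁻¹⁻¹ * γ a⁻¹ = b⁻¹⁻¹ * γ b⁻¹ := fun a b => by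
    change γ (a⁻¹ * b) = a⁻¹ * b ↔ _
    rw [map_mul, map_inv, map_inv, inv_inv, inv_inv, eq_mul_inv_iff_mul_eq, mul_assoc, eq_inv_mul_iff_mul_eq]
  let f : H ⧸ C → A := Quotient.lift (fun x => ⟨_, h2 x⁻¹⟩) fun a b h => Subtype.ext ((key a b).1 (QuotientGroup.leftRel_apply.1 h))
  have hf : Function.Bijective f := (Nat.bijective_iff_injective_and_card f).2 ⟨fun a b => Quotient.inductionOn₂' a b fun a b h =>
    QuotientGroup.eq.2 ((key a b).2 (congrArg Subtype.val h)), by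
      have := C.card_mul_index
      have := A.card_mul_index
      rw [← index]; rw [hA, hC] at *; omega⟩
  have h3 : ∀ a ∈ A, γ a = a⁻¹ := fun a ha => by
    obtain ⟨x, hx⟩ := hf.2 ⟨a, ha⟩
    obtain ⟨x, rfl⟩ := QuotientGroup.mk_surjective x
    rw [← show x⁻¹⁻¹ * γ x⁻¹ = a from congrArg Subtype.val hx]; simp [inv]
  refine ⟨A, hA, ⟨⟨fun a b => Subtype.ext (inv_injective ?_)⟩⟩, fun a ha => h3 a ha ▸ inv_mem ha, h3⟩
  rw [coe_mul, coe_mul, ← h3 _ (mul_mem a.2 b.2), map_mul, h3 _ a.2, h3 _ b.2, mul_inv_rev]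

end Cfsg.Agent.S3375
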