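import Cfsg.Statements.S3376
import Cfsg.Agent.H2.Meta
import Cfsg.Agent.H1.Basic

set_option autoImplicit false
open Cfsg

namespace Cfsg.Agent.S3376
open Subgroup CfsgH2
open scoped commutatorElement

open CfsgFT

theorem cyc {σ : Equiv.Perm (Fin 9)} (h : σ ^ 3 = 1) (h2 : ∀ x, σ x ≠ x) : σ.cycleType = Multiset.replicate 3 3 := by
  haveI : Fact (Nat.Prime 3) := ⟨Nat.prime_three⟩
  have h1 := Equiv.Perm.cycleType_of_pow_prime_eq_one h
  have h3 := σ.sum_cycleType
  rw [h1, Multiset.sum_replicate, Finset.eq_univ_iff_forall.2 fun x => Equiv.Perm.mem_support.2 (h2 x),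
    Finset.card_univ, Fintype.card_fin, smul_eq_mul] at h3
  rw [h1, show σ.cycleType.card = 3 by omega]

/-- Let G be a group of order 162 = 3⁴·2 with Sylow 3-subgroup S and Sylow 2-subgroup T, having an elementary abelian normal subgroup J of order 27, such that Z = Z(S) has order 3, Z centralizes T, and C_S(T) ≠ S. Then G is isomorphic to the centralizer in Sym(9) of a product of three disjoint 3-cycles. -/
theorem result {G : Type*} [Group G] [Finite G] (hG : Nat.card G = 162)
    (S : Sylow 3 G) (T : Sylow 2 G) (J : Subgroup G) [hJn : J.Normal] (hJcomm : IsMulCommutative J)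
    (hJexp : ∀ a ∈ J, a ^ 3 = 1) (hJcard : Nat.card J = 27)
    (Z : Subgroup G) (hZ : Z = (S : Subgroup G) ⊓ Subgroup.centralizer ((S : Subgroup G) : Set G)) (hZcard : Nat.card Z = 3)
    (hZT : Z ≤ Subgroup.centralizer ((T : Subgroup G) : Set G))
    (hST : (S : Subgroup G) ⊓ Subgroup.centralizer ((T : Subgroup G) : Set G) ≠ S) :
    Nonempty (G ≃* Subgroup.centralizer ({Equiv.swap (0 : Fin 9) 1 * Equiv.swap 1 2 * Equiv.swap 3 4 * Equiv.swap 4 5 * Equiv.swap 6 7 * Equiv.swap 7 8} : Set (Equiv.Perm (Fin 9)))) := by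
  haveI : Fact (Nat.Prime 3) := ⟨Nat.prime_three⟩
  haveI : Fact (Nat.Prime 2) := ⟨Nat.prime_two⟩
  have cS : Nat.card S = 81 := by rw [S.card_eq_multiplicity, hG]; decide +kernel
  have cT : Nat.card T = 2 := by rw [T.card_eq_multiplicity, hG]; decide +kernel
  have iS : (S : Subgroup G).index = 2 := by
    have := (S : Subgroup G).card_mul_index
    rw [cS, hG] at this
    omega
  haveI := normal_of_index_eq_two iS
  have pJ : IsPGroup 3 J := IsPGroup.of_card (n := 3) hJcard
  have JS : J ≤ S := pJ.le_sylow_of_normal S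
  have dj : Disjoint (S : Subgroup G) T := IsPGroup.disjoint_of_ne 3 2 (by decide) _ _ S.2 T.2
  have ST : (S : Subgroup G) ⊔ T = ⊤ := eq_top_of_card_eq _ (by
    rw [CfsgH1.card_sup_of_disjoint le_normalizer_of_normal dj, cS, cT, hG])
  have key : ∀ N : Subgroup G, N.Normal → N ≤ S → N ≠ ⊥ → Z ≤ N := fun N _ h1 h2 => by
    obtain ⟨x, a1, a2, -, a3⟩ := exists_central_of_ne_bot S.2 h1 le_normalizer_of_normal h2
    have h3 : zpowers x ≤ Z := zpowers_le_of_mem (hZ ▸ ⟨h1 a1, a3⟩)
    haveI : Fact (Nat.card Z).Prime := ⟨hZcard ▸ Nat.prime_three⟩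
    rcases (zpowers x).subgroupOf Z |>.eq_bot_or_eq_top_of_prime_card with e | e
    · rw [subgroupOf_eq_bot, disjoint_iff, inf_eq_left.2 h3, zpowers_eq_bot] at e
      exact absurd e a2
    · exact (subgroupOf_eq_top.1 e).trans (zpowers_le_of_mem a1)
  have ZJ := key J hJn JS fun e => by rw [e, card_bot] at hJcard; omega
  have ZC : Z ≤ center G := by
    rw [← centralizer_univ, ← coe_top, ← ST, centralizer_sup']
    exact le_inf (hZ ▸ inf_le_right) hZT
  haveI : Z.Normal := ⟨fun x hx g => by rwa [mem_center_iff.1 (ZC hx) g, mul_inv_cancel_right]⟩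
  obtain ⟨A, a1, a2, a3, a4⟩ := maschke (V := J) (A := T) (W := Z) ⟨hJcomm, hJexp⟩ le_normalizer_of_normal
    (by rw [cT]; decide) ZJ le_normalizer_of_normal
  have cA : Nat.card A = 9 := by
    have := CfsgH1.card_sup_of_disjoint (K := Z) (A := A) le_normalizer_of_normal (disjoint_iff.2 a3).symm
    rw [sup_comm, a4, hJcard, hZcard] at this
    omega
  have cK : Nat.card (A ⊔ T : Subgroup G) = 18 := by
    rw [CfsgH1.card_sup_of_disjoint a2 (dj.mono_left (a1.trans JS)), cA, cT]
  have KS : (A ⊔ T) ⊓ S ≤ A := fun x hx => by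
    obtain ⟨a, ha, t, ht, rfl⟩ := (mem_sup_of_normalizer a2).1 hx.1
    rwa [disjoint_def.1 dj ((mul_mem_cancel_left (JS (a1 ha))).1 hx.2) ht, mul_one]
  have iK : Nat.card (G ⧸ (A ⊔ T : Subgroup G)) = 9 := by
    have := (A ⊔ T : Subgroup G).card_mul_index
    rw [cK, hG] at this
    show index _ = 9
    omega
  have core : (A ⊔ T : Subgroup G).normalCore = ⊥ := by
    have h1 : (A ⊔ T : Subgroup G).normalCore ⊓ S = ⊥ := by
      by_contra h
      have := key _ inferInstance inf_le_right h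
      have h2 : Z ≤ A := this.trans ((inf_le_inf_right _ (normalCore_le _)).trans KS)
      rw [inf_eq_right.2 h2] at a3
      rw [a3, card_bot] at hZcard; omega
    by_contra h
    have h2 : (S : Subgroup G) ≤ centralizer ((A ⊔ T : Subgroup G).normalCore : Set G) :=
      le_centralizer_of_commutator_eq_bot (le_bot_iff.1 ((commutator_le_inf _ _).trans (by rw [inf_comm, h1])))
    have h3 : IsPGroup 2 (A ⊔ T : Subgroup G).normalCore := fun y => ⟨1, Subtype.ext (by
      have : (y : G) ^ 2 ∈ (A ⊔ T : Subgroup G).normalCore ⊓ S := ⟨pow_mem y.2 2, by have := pow_index_mem (S : Subgroup G) y.1; rwa [iS] at this⟩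
      rwa [h1] at this)⟩
    have h4 := h3.le_sylow_of_normal T
    have h5 : (A ⊔ T : Subgroup G).normalCore = T := eq_of_le_of_card_ge h4 (by
      rw [cT]; exact (one_lt_card_iff_ne_bot _).2 h)
    exact hST (inf_eq_left.2 (h5 ▸ h2))
  let e : (G ⧸ (A ⊔ T : Subgroup G)) ≃ Fin 9 := Finite.equivFinOfCardEq iK
  let ψ : G →* Equiv.Perm (Fin 9) := e.permCongrHom.toMonoidHom.comp (MulAction.toPermHom G _)
  have hψ : Function.Injective ψ := e.permCongrHom.injective.comp
    ((MonoidHom.ker_eq_bot_iff _).1 ((normalCore_eq_ker _).symm.trans core))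
  obtain ⟨z, z1, z2⟩ := (bot_or_exists_ne_one Z).resolve_left fun h => by rw [h, card_bot] at hZcard; omega
  have h1 := cyc (σ := ψ z) (by rw [← map_pow, hJexp z (ZJ z1), map_one]) fun x hx => by
    obtain ⟨g, hg⟩ := QuotientGroup.mk_surjective (e.symm x)
    have h2 : z • e.symm x = e.symm x := (e.symm_apply_eq.2 hx.symm).symm
    rw [← hg, MulAction.Quotient.smul_mk, QuotientGroup.eq, smul_eq_mul, ← mem_center_iff.1 (ZC z1) g] at h2
    have h3 : z⁻¹ ∈ A ⊓ Z := mem_inf.2 ⟨KS (mem_inf.2 ⟨by simpa using h2, JS (ZJ (inv_mem z1))⟩), inv_mem z1⟩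
    rw [a3, mem_bot, inv_eq_one] at h3
    exact z2 h3
  set σ := Equiv.swap (0 : Fin 9) 1 * Equiv.swap 1 2 * Equiv.swap 3 4 * Equiv.swap 4 5 * Equiv.swap 6 7 * Equiv.swap 7 8
  have h2 := cyc (σ := σ) (by decide) (by decide)
  obtain ⟨c, hc⟩ := isConj_iff.1 (Equiv.Perm.isConj_iff_cycleType_eq.2 (h1.trans h2.symm))
  let χ := ((MulAut.conj c).toMonoidHom.comp ψ).codRestrict (centralizer {σ}) fun g =>
    mem_centralizer_singleton_iff.2 (by
      rw [← hc]
      show c * ψ g * c⁻¹ * _ = _ * (c * ψ g * c⁻¹)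
      rw [conj_mul, conj_mul, ← map_mul, ← map_mul, mem_center_iff.1 (ZC z1) g])
  refine ⟨MulEquiv.ofBijective χ (Function.Injective.bijective_of_nat_card_le
    (fun a b h => hψ ((MulAut.conj c).injective (congrArg Subtype.val h))) ?_)⟩
  rw [Equiv.Perm.nat_card_centralizer, h2, hG]
  decide


end Cfsg.Agent.S3376
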