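import Cfsg.Statements.S3377
import Cfsg.Agent.H1.FC3

set_option autoImplicit false
open Cfsg

namespace Cfsg.Agent.S3377

open Subgroup Equiv

/-- The alternating group of degree 5 has the presentation ⟨x, y | x³ = 1, y⁵ = 1, (xy)² = 1⟩: the group so presented is isomorphic to Alt(5). -/
theorem result :
    Nonempty (PresentedGroup ({FreeGroup.of (0 : Fin 2) ^ 3, FreeGroup.of (1 : Fin 2) ^ 5,
        (FreeGroup.of (0 : Fin 2) * FreeGroup.of 1) ^ 2} : Set (FreeGroup (Fin 2))) ≃* alternatingGroup (Fin 5)) := by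
  generalize hR : ({_, _, _} : Set (FreeGroup (Fin 2))) = R
  have r : ∀ w ∈ R, PresentedGroup.mk R w = 1 := fun w hw => PresentedGroup.one_of_mem hw
  rw [← hR] at r
  simp only [Set.mem_insert_iff, Set.mem_singleton_iff, forall_eq_or_imp, forall_eq, map_pow, map_mul] at r
  rw [hR] at r
  let x : PresentedGroup R := .of 0
  let y : PresentedGroup R := .of 1
  have t : closure {x * y, y⁻¹} = ⊤ := top_le_iff.1 ((PresentedGroup.closure_range_of R).ge.trans ((closure_le _).2 (by
    have m2 : y⁻¹ ∈ closure {x * y, y⁻¹} := subset_closure (by simp)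
    rintro _ ⟨i, rfl⟩
    fin_cases i
    exacts [by simpa using mul_mem (subset_closure (by simp) : x * y ∈ closure {x * y, y⁻¹}) m2, by simpa using inv_mem m2])))
  have a : x * y * (x * y) = 1 := sq (x * y) ▸ r.2.2
  have b : y⁻¹ ^ 5 = 1 := by rw [inv_pow, inv_eq_one]; exact r.2.1
  have c : (x * y * y⁻¹) ^ 3 = 1 := by rw [mul_inv_cancel_right]; exact r.1
  have f := CfsgH1.finite_235 a b c
  have l := CfsgH1.card_le_60 a b c
  rw [t] at f l
  haveI := Finite.of_equiv _ (topEquiv (G := PresentedGroup R)).toEquiv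
  let u : alternatingGroup (Fin 5) := ⟨swap 0 1 * swap 0 3, Perm.mem_alternatingGroup.2 (by decide)⟩
  let v : alternatingGroup (Fin 5) := ⟨finRotate 5, Perm.mem_alternatingGroup.2 (by decide)⟩
  have hf : ∀ r ∈ R, FreeGroup.lift ![u, v] r = 1 := by
    simp only [← hR, Set.mem_insert_iff, Set.mem_singleton_iff, forall_eq_or_imp, forall_eq, map_pow, map_mul, FreeGroup.lift_apply_of]
    decide
  let φ := PresentedGroup.toGroup hf
  have s : φ.range = ⊤ := map_injective (alternatingGroup (Fin 5)).subtype_injective (le_antisymm (map_mono le_top) (by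
    rw [← MonoidHom.range_eq_map, range_subtype]
    have : finRotate 5 ∈ φ.range.map (alternatingGroup (Fin 5)).subtype := ⟨v, ⟨y, PresentedGroup.toGroup.of _⟩, rfl⟩
    haveI : MulAction.IsPretransitive (φ.range.map (alternatingGroup (Fin 5)).subtype) (Fin 5) := ⟨fun a b => by
      obtain ⟨k, e⟩ : ∃ k : Fin 5, (finRotate 5 ^ k.1) a = b := by revert a b; decide
      exact ⟨⟨_, pow_mem this k⟩, e⟩⟩
    exact Perm.alternatingGroup_le_of_isPreprimitive_of_isThreeCycle_mem (.of_prime_card (by rw [Nat.card_fin]; decide))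
      (Perm.isThreeCycle_swap_mul_swap_same (by decide) (by decide) (by decide)) ⟨u, ⟨x, PresentedGroup.toGroup.of _⟩, rfl⟩))
  rw [MonoidHom.range_eq_top] at s
  exact ⟨.ofBijective φ ((Nat.bijective_iff_surjective_and_card φ).2 ⟨s, le_antisymm
    (by rw [nat_card_alternatingGroup]; simpa [Nat.factorial] using l) (Nat.card_le_card_of_surjective _ s)⟩)⟩

end Cfsg.Agent.S3377
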