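import Cfsg.Statements.S3378
import Cfsg.Agent.H1.FC3

set_option autoImplicit false
open Cfsg

namespace Cfsg.Agent.S3378

open Subgroup CfsgH1 CfsgFT CfsgH2 in
theorem aux {P : Type*} [Group P] {x y z : P} (g : closure {x, y, z} = ⊤) (r1 : x ^ 3 = 1) (r2 : y ^ 5 = 1)
    (r3 : z ^ 2 = 1) (r4 : z⁻¹ * x * z * x⁻¹ = 1) (r5 : z⁻¹ * y * z * y⁻¹ = 1) (r6 : (x * y) ^ 2 * z⁻¹ = 1) :
    Finite P ∧ Nat.card P ≤ 120 := by
  have c1 : Commute x z := by rw [mul_inv_eq_one, mul_assoc, inv_mul_eq_iff_eq_mul] at r4; exact r4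
  have c2 : Commute y z := by rw [mul_inv_eq_one, mul_assoc, inv_mul_eq_iff_eq_mul] at r5; exact r5
  rw [mul_inv_eq_one, sq] at r6
  have t : closure {x * y, y⁻¹} = ⊤ := top_le_iff.1 (g.ge.trans ((closure_le _).2 (by
    have m1 : x * y ∈ closure {x * y, y⁻¹} := subset_closure (by simp)
    have m2 : y⁻¹ ∈ closure {x * y, y⁻¹} := subset_closure (by simp)
    rintro _ (rfl | rfl | rfl)
    exacts [by simpa using mul_mem m1 m2, by simpa using inv_mem m2, r6 ▸ mul_mem m1 m1])))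
  haveI : (zpowers z).Normal := normalizer_eq_top_iff.1 (top_le_iff.1 (g.ge.trans ((closure_le _).2 (by
    rintro _ (rfl | rfl | rfl) <;> refine Subgroup.centralizer_le_normalizer _ (by
      rintro _ ⟨k, rfl⟩; first | exact (c1.zpow_right k).symm | exact (c2.zpow_right k).symm | exact (Commute.refl _).zpow_left k)))))
  let π := QuotientGroup.mk' (zpowers z)
  have := finite_235 (a := π (x * y)) (c := π y⁻¹) ((QuotientGroup.eq_one_iff _).2 (r6 ▸ mem_zpowers _))
    (by rw [← map_pow, inv_pow, r2, inv_one, map_one]) (by rw [← map_mul, ← map_pow, mul_inv_cancel_right, r1, map_one])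
  rw [← Set.image_pair, ← MonoidHom.map_closure, t, map_top_of_surjective _ (QuotientGroup.mk'_surjective _)] at this
  haveI := Finite.of_equiv _ (topEquiv (G := P ⧸ zpowers z)).toEquiv
  haveI : Finite (zpowers z) := finite_zpowers.2 (isOfFinOrder_iff_pow_eq_one.2 ⟨2, two_pos, r3⟩)
  haveI : Finite P := Finite.of_subgroup_quotient (zpowers z)
  have l := card_le_120 (a := x * y) (c := y⁻¹) (by rw [← r3, ← r6]; simp [pow_succ, mul_assoc])
    (r6 ▸ c2.symm.inv_right) (by rw [inv_pow, r2, inv_one]) (by simpa using r1)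
  rw [t, card_top] at l
  exact ⟨this, l⟩

/-- Every non-solvable group of order 120 whose Sylow 2-subgroups are quaternion of order 8 is isomorphic to SL(2,5), and SL(2,5) has the presentation ⟨x, y, z | x³ = y⁵ = z² = 1, z⁻¹xz = x, z⁻¹yz = y, (xy)² = z⟩. -/
theorem result :
    (∀ (G : Type*) [Group G] [Finite G], Nat.card G = 120 → ¬ Group.IsSolvable G →
      (∀ P : Sylow 2 G, Nonempty ((P : Subgroup G) ≃* QuaternionGroup 2)) →
      Nonempty (G ≃* Matrix.SpecialLinearGroup (Fin 2) (ZMod 5))) ∧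
    Nonempty (PresentedGroup ({FreeGroup.of (0 : Fin 3) ^ 3, FreeGroup.of (1 : Fin 3) ^ 5, FreeGroup.of (2 : Fin 3) ^ 2,
        (FreeGroup.of (2 : Fin 3))⁻¹ * FreeGroup.of 0 * FreeGroup.of 2 * (FreeGroup.of (0 : Fin 3))⁻¹,
        (FreeGroup.of (2 : Fin 3))⁻¹ * FreeGroup.of 1 * FreeGroup.of 2 * (FreeGroup.of (1 : Fin 3))⁻¹,
        (FreeGroup.of (0 : Fin 3) * FreeGroup.of 1) ^ 2 * (FreeGroup.of (2 : Fin 3))⁻¹} : Set (FreeGroup (Fin 3)))
      ≃* Matrix.SpecialLinearGroup (Fin 2) (ZMod 5)) := by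
  open Subgroup CfsgH1 CfsgFT CfsgH2 in
  refine ⟨fun G _ _ h1 h2 h3 => ?_, ?_⟩
  · obtain ⟨P⟩ : Nonempty (Sylow 2 G) := inferInstance
    obtain ⟨a, b, d, o⟩ := exists_idx2_of_quaternion (h3 P).some
    exact sl25_of_quat h1 h2 (IsSylowIn.of_sylow_top P) (d.uniqInv two_ne_zero o)
  generalize hR : ({_, _, _, _, _, _} : Set (FreeGroup (Fin 3))) = R
  have r : ∀ w ∈ R, PresentedGroup.mk R w = 1 := fun w hw => PresentedGroup.one_of_mem hw
  rw [← hR] at r
  simp only [Set.mem_insert_iff, Set.mem_singleton_iff, forall_eq_or_imp, forall_eq, map_pow, map_mul, map_inv] at r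
  rw [hR] at r
  have g := PresentedGroup.closure_range_of R
  rw [show Set.range (PresentedGroup.of : Fin 3 → PresentedGroup R) = {.of 0, .of 1, .of 2} by
    ext; simp [Fin.exists_fin_succ, eq_comm]] at g
  obtain ⟨_, l⟩ := aux g r.1 r.2.1 r.2.2.1 r.2.2.2.1 r.2.2.2.2.1 r.2.2.2.2.2
  obtain ⟨a, c, k1, k2, k3, k4, k5⟩ := gens_120 card_S5 not_solv_S5 fun _ _ a b => (invol_S5 a).trans (invol_S5 b).symm
  have hf : ∀ r ∈ R, FreeGroup.lift ![a * c, c⁻¹, a * a] r = 1 := by
    simp only [← hR, Set.mem_insert_iff, Set.mem_singleton_iff, forall_eq_or_imp, forall_eq, map_pow, map_mul, map_inv,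
      FreeGroup.lift_apply_of]
    refine ⟨k4, by simp [k3], by simpa [pow_succ, mul_assoc] using k1, ?_, ?_, by simp [sq]⟩
    · have : Commute (a * a) (a * c) := ((Commute.refl a).mul_left (Commute.refl a)).mul_right k2
      simp only [Matrix.cons_val]
      rw [mul_assoc _ (a * c), ← this.eq]; group
    · simp only [Matrix.cons_val]
      rw [mul_assoc _ c⁻¹, ← k2.inv_right.eq]; group
  let f := PresentedGroup.toGroup hf
  have f0 : f (.of 0) = a * c := PresentedGroup.toGroup.of _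
  have f1 : f (.of 1) = c⁻¹ := PresentedGroup.toGroup.of _
  have s : Function.Surjective f := MonoidHom.range_eq_top.1 (top_le_iff.1 (k5.ge.trans ((closure_le _).2 (by
    rintro _ (rfl | rfl)
    exacts [⟨.of 0 * .of 1, by rw [map_mul, f0, f1, mul_inv_cancel_right]⟩, ⟨(.of 1)⁻¹, by rw [map_inv, f1, inv_inv]⟩]))))
  exact ⟨MulEquiv.ofBijective f ((Nat.bijective_iff_surjective_and_card f).2
    ⟨s, le_antisymm (card_S5 ▸ l) (Nat.card_le_card_of_surjective _ s)⟩)⟩

end Cfsg.Agent.S3378
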