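import Cfsg.Statements.S3379

set_option autoImplicit false
open Cfsg

namespace Cfsg.Agent.S3379

open Subgroup

/-- Let G be a finite group all of whose Sylow subgroups are cyclic. Then G is generated by two elements x and y of coprime orders n and m with x⁻¹yx = y^r, where gcd(r − 1, m) = 1 and r^n ≡ 1 (mod m). -/
theorem result {G : Type*} [Group G] [Finite G]
    (hZ : ∀ (p : ℕ) [Fact p.Prime] (P : Sylow p G), IsCyclic (P : Subgroup G)) :
    ∃ (x y : G) (n m r : ℕ), Subgroup.closure {x, y} = ⊤ ∧ orderOf x = n ∧ orderOf y = m ∧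
      x⁻¹ * y * x = y ^ r ∧ Nat.Coprime (r - 1) m ∧ Nat.Coprime n m ∧ 1 ≤ r ∧ r ^ n % m = 1 % m := by
  have : IsZGroup G := ⟨fun p hp P => @hZ p ⟨hp⟩ P⟩
  obtain ⟨y, hy⟩ := (isCyclic_iff_exists_zpowers_eq_top.1 (IsZGroup.isCyclic_commutator G))
  replace hy : zpowers y.1 = commutator G := by rw [← coe_subtype, ← MonoidHom.map_zpowers, hy, ← MonoidHom.range_eq_map, range_subtype]
  generalize y.1 = y at hy
  have hc := IsZGroup.coprime_commutator_index G
  obtain ⟨K, hK⟩ := exists_right_complement'_of_coprime hc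
  have : IsCyclic K := @isCyclic_of_surjective _ _ _ _ _ IsZGroup.isCyclic_abelianization _ _ _ hK.symm.QuotientMulEquiv.surjective
  obtain ⟨x, hx⟩ := (isCyclic_iff_exists_zpowers_eq_top.1 this)
  replace hx : zpowers x.1 = K := by rw [← coe_subtype, ← MonoidHom.map_zpowers, hx, ← MonoidHom.range_eq_map, range_subtype]
  generalize x.1 = x at hx
  obtain ⟨r, hr⟩ := mem_powers_iff_mem_zpowers.2 (hy.ge ((inferInstance : (commutator G).Normal).conj_mem' y (hy.le (mem_zpowers y)) x))
  replace hr : x⁻¹ * y * x = y ^ (r + orderOf y) := by rw [pow_add, pow_orderOf_eq_one, mul_one]; exact hr.symm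
  have h0 : 1 ≤ r + orderOf y := (orderOf_pos y).trans_le le_add_self
  generalize r + orderOf y = r at hr h0
  have h1 : closure {x, y} = ⊤ := by rw [Set.insert_eq, Subgroup.closure_union, ← zpowers_eq_closure, ← zpowers_eq_closure, hx, hy, hK.symm.sup_eq_top]
  have h2 : ∀ k, (x ^ k)⁻¹ * y * x ^ k = y ^ r ^ k := fun k => by
    induction k with
    | zero => simp
    | succ k ih => rw [pow_succ' r, pow_mul, ← hr, show x⁻¹ * y * x = x⁻¹ * y * x⁻¹⁻¹ by simp, conj_pow, ← ih]; group
  refine ⟨x, y, _, _, r, h1, rfl, rfl, hr, ?_, ?_, h0, pow_eq_pow_iff_modEq.1 (by rw [← h2]; simp)⟩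
  · have : (zpowers (y ^ (r - 1))).Normal := normalizer_eq_top_iff.1 (top_le_iff.1 (h1.ge.trans ((closure_le _).2 (Set.pair_subset
      ((normalizer _).inv_mem_iff.1 (mem_normalizer_fintype ?_)) (mem_normalizer_fintype ?_)))))
    · refine mem_zpowers_pow_iff.1 ((Normal.quotient_commutative_iff_commutator_le.1 ⟨⟨fun a b => ?_⟩⟩) (hy.le (mem_zpowers y)))
      have := isMulCommutative_closure (k := QuotientGroup.mk' (zpowers (y ^ (r - 1))) '' {x, y}) (by
        have : (x : G ⧸ zpowers (y ^ (r - 1))) * y = y * x := QuotientGroup.eq.2 (by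
          convert mem_zpowers _
          rw [← Nat.sub_add_cancel h0, pow_succ'] at hr
          rw [← mul_right_inj y, ← hr]; group)
        rintro _ ⟨_, rfl | rfl, rfl⟩ _ ⟨_, rfl | rfl, rfl⟩
        exacts [rfl, this, this.symm, rfl])
      rw [← MonoidHom.map_closure, h1, map_top_of_surjective _ (QuotientGroup.mk'_surjective _)] at this
      exact setLike_mul_comm (mem_top a) (mem_top b)
    · rintro _ ⟨k, rfl⟩
      rw [← conj_zpow, ← conj_pow, inv_inv, hr, ← pow_mul, mul_comm r, pow_mul]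
      exact zpow_mem (pow_mem (mem_zpowers _) _) _
    · rintro _ ⟨k, rfl⟩
      rw [← conj_zpow, ← conj_pow, mul_inv_cancel_right]
      exact zpow_mem (mem_zpowers _) _
  rw [← Nat.card_zpowers, ← Nat.card_zpowers, hx, hy, ← hK.symm.index_eq_card]
  exact hc.symm

end Cfsg.Agent.S3379
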