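import Cfsg.Statements.S3380
import Cfsg.Agent.H2.CycSCN
import Cfsg.Agent.H2.Extra

set_option autoImplicit false
open Cfsg

namespace Cfsg.Agent.S3380
open Subgroup CfsgH2
open scoped commutatorElement

theorem exists_noncyclic {P : Type*} [Group P] [Finite P] (p : ℕ) [Fact p.Prime]
    (hP : IsPGroup p P) (hnc : ¬ IsCyclic P) (hnq : ∀ n : ℕ, ¬ Nonempty (P ≃* QuaternionGroup n))
    (hnd : ∀ n : ℕ, ¬ Nonempty (P ≃* DihedralGroup n)) (hnsd : ¬ Cfsg.IsQuasiDihedral P) :
    ∃ A : Subgroup P, A.Normal ∧ IsMulCommutative A ∧ ¬ IsCyclic A := by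
  by_contra hc
  have hn : ∀ A : Subgroup P, A.Normal → IsMulCommutative A → IsCyclic A := fun A h1 h2 => by
    by_contra h3; exact hc ⟨A, h1, h2, h3⟩
  have hna : ¬ IsMulCommutative P := fun h =>
    hnc (topEquiv.isCyclic.1 (hn ⊤ inferInstance (isMulCommutative_top_iff.2 h)))
  obtain ⟨A, -, -, h1, h2, h3⟩ := exists_scn (hP.to_subgroup ⊤) le_rfl le_normalizer (A₀ := ⊥) bot_le
    (by rw [normalizer_eq_top]) inferInstance
  haveI : A.Normal := normalizer_eq_top_iff.1 (top_le_iff.1 h1)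
  obtain ⟨u, rfl⟩ := isCyclic_iff_zpowers.1 (hn A inferInstance h2)
  rw [top_inf_eq, centralizer_zpowers'] at h3
  rcases cyc_scn hP hna u (le_antisymm h3 (zpowers_le.2 (mem_centralizer_singleton_iff.2 rfl))) with
    ⟨h4, -, a, b, r, h | h | ⟨hr, h⟩⟩ | ⟨-, h4, h5, h6⟩
  · exact hnd _ (h.dihedral.map topEquiv.symm.trans)
  · exact hnq _ (h.quaternion.map topEquiv.symm.trans)
  · exact hnsd (qd_of_idx2_top (r := r + 1) (by omega) h.ord h.toIdx2)
  · exact absurd (hn _ inferInstance h4.1) (CfsgFT.not_isCyclic_of_elem (p := p) (k := 2) (H := ⊤)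
      ⟨le_top, h4, h5⟩ le_rfl)

theorem exists_za {P : Type*} [Group P] [Finite P] (p : ℕ) [hp : Fact p.Prime]
    (hP : IsPGroup p P) {A : Subgroup P} [A.Normal] (hc : IsMulCommutative A) (hn : ¬ IsCyclic A) :
    ∃ z a : P, orderOf z = p ∧ (∀ g, Commute z g) ∧ a ∉ zpowers z ∧ a ^ p = 1 ∧
      ∀ g, g * a * g⁻¹ * a⁻¹ ∈ zpowers z := by
  have hO := omegaOne_ea_of_comm (p := p) hc
  have h1 : ¬ Nat.card (omegaOne p A) ≤ p := fun h =>
    hn (isCyclic_of_comm_of_omegaOne (hP.to_subgroup A) hc h)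
  have h2 : (⊤ : Subgroup P) ≤ normalizer (omegaOne p A : Set P) :=
    le_trans (by rw [normalizer_eq_top]) (normalizer_le_normalizer_omegaOne A)
  obtain ⟨z, hz, hz1, hzp, hzc⟩ := exists_central_of_ne_bot (hP.to_subgroup ⊤) le_top h2 (by
    intro e; rw [e, card_bot] at h1; exact h1 hp.out.one_le)
  have hzo : orderOf z = p := orderOf_eq_prime hzp hz1
  obtain ⟨a, ha, haz, -, hac⟩ := exists_central_mod (M := zpowers z) (hP.to_subgroup ⊤) le_top h2 (by
    intro e
    have := card_le_of_le e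
    rw [Nat.card_zpowers, hzo] at this
    exact h1 this)
  exact ⟨z, a, hzo, fun g => (hzc g (mem_top g)).symm, haz, hO.2 a ha, fun g => hac g (mem_top g)⟩

def fx {q : ℕ} {V : Type*} [AddCommGroup V] [Module (ZMod q) V] {G : Type*} [Group G]
    (ρ : G →* (V ≃ₗ[ZMod q] V)) (g : G) : Submodule (ZMod q) V where
  carrier := {v | ρ g v = v}
  add_mem' := fun {a b} ha hb => by
    simp only [Set.mem_ofPred_eq] at *
    rw [map_add, ha, hb]
  zero_mem' := map_zero _
  smul_mem' := fun c {a} ha => by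
    simp only [Set.mem_ofPred_eq] at *
    rw [map_smul, ha]

theorem mem_fx {q : ℕ} {V : Type*} [AddCommGroup V] [Module (ZMod q) V] {G : Type*} [Group G]
    {ρ : G →* (V ≃ₗ[ZMod q] V)} {g : G} {v : V} : v ∈ fx ρ g ↔ ρ g v = v := Iff.rfl

theorem rr {q : ℕ} {V : Type*} [AddCommGroup V] [Module (ZMod q) V] {G : Type*} [Group G]
    (ρ : G →* (V ≃ₗ[ZMod q] V)) (g h : G) (v : V) : ρ g (ρ h v) = ρ (g * h) v := by
  rw [map_mul]; rfl

theorem fx_pow {q : ℕ} {V : Type*} [AddCommGroup V] [Module (ZMod q) V] {G : Type*} [Group G]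
    {ρ : G →* (V ≃ₗ[ZMod q] V)} {g : G} {v : V} (h : v ∈ fx ρ g) (k : ℕ) : ρ (g ^ k) v = v := by
  induction k with
  | zero => simp
  | succ k ih => rw [pow_succ, ← rr, mem_fx.1 h, ih]

theorem sum_mem_fx {q : ℕ} {V : Type*} [AddCommGroup V] [Module (ZMod q) V] {G : Type*} [Group G]
    (ρ : G →* (V ≃ₗ[ZMod q] V)) {g : G} {n : ℕ} (h : g ^ n = 1) (v : V) :
    ∑ j ∈ Finset.range n, ρ (g ^ j) v ∈ fx ρ g := by
  rw [mem_fx, map_sum]
  simp only [rr, ← pow_succ']
  have h1 := Finset.sum_range_succ (fun j => ρ (g ^ j) v) n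
  have h2 := Finset.sum_range_succ' (fun j => ρ (g ^ j) v) n
  rw [h1, h, pow_zero] at h2
  exact (add_right_cancel h2).symm

theorem map_fx {q : ℕ} {V : Type*} [AddCommGroup V] [Module (ZMod q) V] {G : Type*} [Group G]
    (ρ : G →* (V ≃ₗ[ZMod q] V)) (g x : G) :
    (fx ρ x).map (ρ g : V →ₗ[ZMod q] V) = fx ρ (g * x * g⁻¹) := by
  ext v
  constructor
  · rintro ⟨w, hw, rfl⟩
    rw [mem_fx]
    simp only [LinearEquiv.coe_coe]
    rw [rr, inv_mul_cancel_right, ← rr, mem_fx.1 hw]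
  · intro hv
    refine ⟨ρ g⁻¹ v, ?_, by simp only [LinearEquiv.coe_coe]; rw [rr]; simp⟩
    show ρ x (ρ g⁻¹ v) = ρ g⁻¹ v
    conv_rhs => rw [← mem_fx.1 hv]
    rw [rr, rr]; congr 2; group

/-- Let a finite p-group G act faithfully and irreducibly on a non-trivial finite vector space V over the field with q elements (q prime), and suppose G is not cyclic, generalized quaternion, dihedral or semidihedral. Then G has a subgroup H of index p and V is the direct sum of p subspaces, each invariant under H, on none of which H acts faithfully, and which every element of G outside H permutes in a single p-cycle. -/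
theorem result
    (q : ℕ) [Fact q.Prime] {V : Type*} [AddCommGroup V] [Module (ZMod q) V] [Finite V] [Nontrivial V]
    {G : Type*} [Group G] [Finite G] (p : ℕ) [Fact p.Prime] (hG : IsPGroup p G)
    (ρ : G →* (V ≃ₗ[ZMod q] V)) (hρ : Function.Injective ρ)
    (hirr : ∀ W : Submodule (ZMod q) V, (∀ g : G, ∀ w ∈ W, ρ g w ∈ W) → W = ⊥ ∨ W = ⊤)
    (hnc : ¬ IsCyclic G) (hnq : ∀ n : ℕ, ¬ Nonempty (G ≃* QuaternionGroup n))
    (hnd : ∀ n : ℕ, ¬ Nonempty (G ≃* DihedralGroup n)) (hnsd : ¬ Cfsg.IsQuasiDihedral G) :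
    ∃ (H : Subgroup G) (W : Fin p → Submodule (ZMod q) V), H.index = p ∧
      iSup W = ⊤ ∧ iSupIndep W ∧
      (∀ h ∈ H, ∀ i, ∀ w ∈ W i, ρ h w ∈ W i) ∧
      (∀ i, ∃ h ∈ H, h ≠ 1 ∧ ∀ w ∈ W i, ρ h w = w) ∧
      ∀ g : G, g ∉ H → ∃ σ : Equiv.Perm (Fin p), orderOf σ = p ∧ ∀ i, (W i).map (ρ g : V →ₗ[ZMod q] V) = W (σ i) := by
  classical
  have hp : Fact p.Prime := inferInstance
  have hq : Fact q.Prime := inferInstance
  haveI : NeZero p := ⟨hp.out.ne_zero⟩
  obtain ⟨A, hA1, hA2, hA3⟩ := exists_noncyclic p hG hnc hnq hnd hnsd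
  obtain ⟨z, a, hz, hzc, haz, hap, hac⟩ := exists_za p hG hA2 hA3
  have hzp : z ^ p = 1 := hz ▸ pow_orderOf_eq_one z
  have cen : ∀ w : G, w ≠ 1 → (∀ g, Commute w g) → fx ρ w = ⊥ := by
    intro w h1 hc
    refine (hirr (fx ρ w) fun g v hv => ?_).resolve_right fun e => h1 (hρ ?_)
    · rw [mem_fx, rr, (hc g).eq, ← rr, mem_fx.1 hv]
    · rw [map_one]; ext v; exact mem_fx.1 (e.ge Submodule.mem_top)
  have cenz : ∀ k : ℕ, ¬ p ∣ k → fx ρ (z ^ k) = ⊥ := fun k hk =>
    cen _ (fun e => hk (hz ▸ orderOf_dvd_of_pow_eq_one e)) fun g => (hzc g).pow_left k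
  have hz0 : fx ρ z = ⊥ := by simpa using cenz 1 (fun e => hp.out.one_lt.ne' (Nat.dvd_one.1 e))
  have hpq : (p : ZMod q) ≠ 0 := by
    intro e
    have e' : q = p := (Nat.prime_dvd_prime_iff_eq hq.out hp.out).1 ((ZMod.natCast_eq_zero_iff p q).1 e)
    subst e'
    obtain ⟨v, hv⟩ := exists_ne (0 : V)
    haveI : CharP (Module.End (ZMod q) V) q := charP_of_injective_algebraMap
      (FaithfulSMul.algebraMap_injective (ZMod q) _) q
    have h1 : ((ρ z : V →ₗ[ZMod q] V) - 1 : Module.End (ZMod q) V) ^ q = 0 := by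
      rw [sub_pow_char_of_commute _ (Commute.one_right _), one_pow, sub_eq_zero]
      have : ∀ k : ℕ, ((ρ z : V →ₗ[ZMod q] V) ^ k : Module.End (ZMod q) V) = (ρ (z ^ k) : V →ₗ[ZMod q] V) := by
        intro k
        induction k with
        | zero => rw [pow_zero, pow_zero, map_one]; rfl
        | succ k ih => rw [pow_succ, pow_succ, ih, map_mul]; rfl
      rw [this, hzp, map_one]; rfl
    have h2 : Function.Injective ((ρ z : V →ₗ[ZMod q] V) - 1 : Module.End (ZMod q) V) := by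
      rw [injective_iff_map_eq_zero]
      intro w hw
      have : w ∈ fx ρ z := by rw [mem_fx]; simpa [sub_eq_zero] using hw
      rwa [hz0, Submodule.mem_bot] at this
    have h3 := Module.End.iterate_injective h2 q
    rw [h1] at h3
    exact hv (h3 (by simp))
  have hcancel : ∀ v : V, p • v = 0 → v = 0 := fun v hv => by
    rw [← Nat.cast_smul_eq_nsmul (ZMod q)] at hv
    exact (smul_eq_zero.1 hv).resolve_left hpq
  have hb : ∀ i : ℕ, (a * z ^ i) ^ p = 1 := fun i => by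
    rw [((hzc a).symm.pow_right i).mul_pow, hap, ← pow_mul, mul_comm i, pow_mul, hzp, one_pow, one_mul]
  have hb1 : ∀ i : ℕ, a * z ^ i ≠ 1 := fun i e =>
    haz (by rw [eq_inv_of_mul_eq_one_left e]; exact inv_mem (pow_mem (mem_zpowers z) i))
  have hsum : ∀ v : V, ∑ i ∈ Finset.range p, ∑ j ∈ Finset.range p, ρ ((a * z ^ i) ^ j) v = p • v := by
    intro v
    rw [Finset.sum_comm, Finset.sum_eq_single 0]
    · simp
    · intro j hj hj0
      have h1 := sum_mem_fx ρ (g := z ^ j) (n := p) (by rw [← pow_mul, mul_comm, pow_mul, hzp, one_pow])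
        (ρ (a ^ j) v)
      rw [cenz j (fun e => hj0 (Nat.eq_zero_of_dvd_of_lt e (Finset.mem_range.1 hj))),
        Submodule.mem_bot] at h1
      rw [← h1]
      refine Finset.sum_congr rfl fun i _ => ?_
      rw [rr, ((hzc a).symm.pow_right i).mul_pow, ← pow_mul, ← pow_mul, mul_comm i j,
        ((hzc _).pow_left _).eq]
    · intro h; exact absurd (Finset.mem_range.2 hp.out.pos) h
  have htop : (⨆ i : Fin p, fx ρ (a * z ^ (i : ℕ))) = ⊤ := by
    rw [eq_top_iff]
    intro v _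
    have h1 : p • v ∈ ⨆ i : Fin p, fx ρ (a * z ^ (i : ℕ)) := by
      rw [← hsum]
      refine Submodule.sum_mem _ fun i hi => ?_
      exact Submodule.mem_iSup_of_mem (⟨i, Finset.mem_range.1 hi⟩ : Fin p) (sum_mem_fx ρ (hb i) v)
    have h2 := Submodule.smul_mem _ (p : ZMod q)⁻¹ h1
    rwa [← Nat.cast_smul_eq_nsmul (ZMod q), smul_smul, inv_mul_cancel₀ hpq, one_smul] at h2
  have hnc' : ¬ ∀ e ∈ (⊤ : Subgroup G), Commute a e := by
    intro h
    have : (⨆ i : Fin p, fx ρ (a * z ^ (i : ℕ))) = ⊥ := iSup_eq_bot.2 fun i =>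
      cen _ (hb1 i) fun g => (h g (mem_top g)).mul_left ((hzc g).pow_left _)
    exact top_ne_bot (htop.symm.trans this)
  have hidx := (comm_hom (E := ⊤) (x := a) hz (fun e _ => hzc e) (fun e _ => by
    have := inv_mem (hac e)
    rwa [show (e * a * e⁻¹ * a⁻¹)⁻¹ = a * e * a⁻¹ * e⁻¹ by group] at this) hnc').1
  rw [relIndex_top_right] at hidx
  have hboth : ∀ i j : Fin p, i ≠ j → ∀ v ∈ fx ρ (a * z ^ (i : ℕ)), v ∈ fx ρ (a * z ^ (j : ℕ)) → v = 0 := by
    have : ∀ i j : Fin p, (i : ℕ) < j → ∀ v ∈ fx ρ (a * z ^ (i : ℕ)), v ∈ fx ρ (a * z ^ (j : ℕ)) → v = 0 := by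
      intro i j hij v h1 h2
      have h3 : v ∈ fx ρ (z ^ ((j : ℕ) - i)) := by
        rw [mem_fx] at *
        apply (ρ (a * z ^ (i : ℕ))).injective
        rw [rr, mul_assoc, ← pow_add, Nat.add_sub_cancel' hij.le, h1, h2]
      rwa [cenz _ (fun e => by have := Nat.le_of_dvd (by omega) e; have := j.2; omega),
        Submodule.mem_bot] at h3
    intro i j hij v h1 h2
    rcases lt_or_gt_of_ne (Fin.val_ne_of_ne hij) with h | h
    · exact this i j h v h1 h2
    · exact this j i h v h2 h1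
  refine ⟨centralizer {a}, fun i => fx ρ (a * z ^ (i : ℕ)), hidx, htop, ?_, ?_, ?_, ?_⟩
  · intro i
    rw [Submodule.disjoint_def]
    intro v hv hv'
    have key : ∀ w ∈ ⨆ (j : Fin p) (_ : j ≠ i), fx ρ (a * z ^ (j : ℕ)),
        ∑ k ∈ Finset.range p, ρ ((a * z ^ (i : ℕ)) ^ k) w = 0 := by
      intro w hw
      have hle : (⨆ (j : Fin p) (_ : j ≠ i), fx ρ (a * z ^ (j : ℕ))) ≤ LinearMap.ker
          (∑ k ∈ Finset.range p, (ρ ((a * z ^ (i : ℕ)) ^ k) : V →ₗ[ZMod q] V)) := by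
        refine iSup₂_le fun j hj u hu => ?_
        rw [LinearMap.mem_ker, LinearMap.sum_apply]
        refine hboth i j hj.symm _ (sum_mem_fx ρ (hb i) u) (Submodule.sum_mem _ fun k _ => ?_)
        have hc : Commute (a * z ^ (j : ℕ)) ((a * z ^ (i : ℕ)) ^ k) :=
          (((Commute.refl a).mul_right ((hzc a).symm.pow_right _)).mul_left
            ((hzc _).pow_left _)).pow_right k
        rw [mem_fx]
        simp only [LinearEquiv.coe_coe]
        rw [rr, hc.eq, ← rr, mem_fx.1 hu]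
      have := hle hw
      rwa [LinearMap.mem_ker, LinearMap.sum_apply] at this
    have h1 := key v hv'
    rw [Finset.sum_congr rfl fun k _ => fx_pow hv k, Finset.sum_const, Finset.card_range] at h1
    exact hcancel v h1
  · intro h hh i w hw
    have hc : Commute (a * z ^ (i : ℕ)) h :=
      (mem_centralizer_singleton_iff'.1 hh).symm.mul_left ((hzc h).pow_left _)
    rw [mem_fx, rr, hc.eq, ← rr, mem_fx.1 hw]
  · intro i
    exact ⟨a * z ^ (i : ℕ), mem_centralizer_singleton_iff'.2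
      ((Commute.refl a).mul_left ((hzc a).pow_left _)), hb1 i, fun w hw => hw⟩
  · intro g hg
    obtain ⟨c, hc, he⟩ := Finset.mem_image.1 (mem_zpowers_iff_mem_range_orderOf.1 (hac g))
    rw [hz, Finset.mem_range] at hc
    have hc0 : (⟨c, hc⟩ : Fin p) ≠ 0 := by
      intro e
      have : c = 0 := congrArg Fin.val e
      rw [this, pow_zero] at he
      exact hg (mem_centralizer_singleton_iff'.2 (commute_of_comm_eq_one he.symm))
    refine ⟨Equiv.addRight ⟨c, hc⟩, ?_, fun i => ?_⟩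
    · refine orderOf_eq_prime ?_ fun e => hc0 (by simpa using DFunLike.congr_fun e 0)
      have : p • (⟨c, hc⟩ : Fin p) = 0 := by
        have := card_nsmul_eq_zero (x := (⟨c, hc⟩ : Fin p))
        rwa [Fintype.card_fin] at this
      have k : ∀ (m : ℕ) (x : Fin p), (Equiv.addRight (⟨c, hc⟩ : Fin p) ^ m) x = x + m • ⟨c, hc⟩ := by
        intro m
        induction m with
        | zero => simp
        | succ m ih =>
          intro x
          rw [pow_succ', Equiv.Perm.mul_apply, ih, succ_nsmul, ← add_assoc]; rfl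
      refine Equiv.ext fun x => ?_
      rw [k, this, add_zero]; rfl
    · rw [map_fx]
      congr 1
      simp only [Equiv.coe_addRight, Fin.val_add]
      have e : z ^ (((i : ℕ) + c) % p) = z ^ ((i : ℕ) + c) := by
        have := pow_mod_orderOf z ((i : ℕ) + c)
        rwa [hz] at this
      rw [e, pow_add]
      calc g * (a * z ^ (i : ℕ)) * g⁻¹ = g * a * (z ^ (i : ℕ) * g⁻¹) := by group
        _ = (g * a * g⁻¹ * a⁻¹) * (a * z ^ (i : ℕ)) := by rw [((hzc _).pow_left _).eq]; group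
        _ = a * z ^ (i : ℕ) * z ^ c := by rw [← he, ((hzc _).pow_left c).eq]
        _ = _ := mul_assoc _ _ _


end Cfsg.Agent.S3380
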