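import Cfsg.Statements.S3381
import Cfsg.Agent.H2.Extra
import Cfsg.Agent.S3380

set_option autoImplicit false
open Cfsg

namespace Cfsg.Agent.S3381
open Subgroup CfsgH2
open scoped commutatorElement

open Cfsg.Agent.S3380

/-- Let G be a finite group acting faithfully and linearly on a non-trivial finite vector space V over the field with q elements (q prime) so that every non-zero vector has a stabilizer of order 2, and suppose G has a central involution. Then V has q^(2r) elements for some r and G contains exactly q^r + 1 non-central involutions. -/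
theorem result
    (q : ℕ) [Fact q.Prime] {V : Type*} [AddCommGroup V] [Module (ZMod q) V] [Finite V] [Nontrivial V]
    {G : Type*} [Group G] [Finite G] (ρ : G →* (V ≃ₗ[ZMod q] V)) (hρ : Function.Injective ρ)
    (hstab : ∀ v : V, v ≠ 0 → Nat.card {g : G // ρ g v = v} = 2)
    (z : G) (hz : orderOf z = 2) (hzc : z ∈ Subgroup.center G) :
    ∃ r : ℕ, Nat.card V = q ^ (2 * r) ∧
      Nat.card {g : G // orderOf g = 2 ∧ g ∉ Subgroup.center G} = q ^ r + 1 := by
  classical
  have hq : Fact q.Prime := inferInstance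
  have uniq : ∀ v : V, v ≠ 0 → ∀ s t : G, ρ s v = v → ρ t v = v → s ≠ 1 → t ≠ 1 → s = t := by
    intro v hv s t hs ht s1 t1
    obtain ⟨y, -, hy⟩ := (Nat.card_eq_two_iff' (⟨1, by simp⟩ : {g : G // ρ g v = v})).1 (hstab v hv)
    have h1 := hy ⟨s, hs⟩ (fun e => s1 (congrArg Subtype.val e))
    have h2 := hy ⟨t, ht⟩ (fun e => t1 (congrArg Subtype.val e))
    exact congrArg Subtype.val (h1.trans h2.symm)
  have ex : ∀ v : V, v ≠ 0 → ∃ t : G, ρ t v = v ∧ t ≠ 1 ∧ t * t = 1 := by
    intro v hv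
    obtain ⟨⟨t, ht⟩, h1, -⟩ := (Nat.card_eq_two_iff' (⟨1, by simp⟩ : {g : G // ρ g v = v})).1 (hstab v hv)
    have t1 : t ≠ 1 := fun e => h1 (Subtype.ext e)
    refine ⟨t, ht, t1, ?_⟩
    by_contra h2
    exact t1 (by simpa using uniq v hv (t * t) t (by rw [← rr, ht, ht]) ht h2 t1)
  have triv : ∀ g : G, (∀ v, ρ g v = v) → g = 1 := fun g h => hρ (by rw [map_one]; ext v; exact h v)
  have cen0 : ∀ w : G, w ≠ 1 → w * w = 1 → w ∈ center G → ∀ u, ρ w u = u → u = 0 := by
    intro w w1 w2 hw u hu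
    by_contra u0
    have hneg : ∀ v, ρ w v ≠ v → ρ w v = -v := by
      intro v hv
      by_contra hn
      obtain ⟨t, ht, t1, -⟩ := ex v (fun e => hv (by rw [e, map_zero]))
      have h1 : ρ w v + v ≠ 0 := fun e => hn (eq_neg_of_add_eq_zero_left e)
      have h2 := uniq _ h1 t w (by rw [map_add, rr, mem_center_iff.1 hw t, ← rr, ht])
        (by rw [map_add, rr, w2, map_one, add_comm]; rfl) t1 w1
      exact hv (h2 ▸ ht)
    obtain ⟨v, hv⟩ : ∃ v, ρ w v ≠ v := by
      by_contra h; push Not at h; exact w1 (triv w h)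
    have h1 := hneg v hv
    have h2 := hneg (u + v) (by rw [map_add, hu]; simpa using hv)
    rw [map_add, hu, h1, neg_add, add_left_inj] at h2
    have h3 : (2 : ZMod q) • u = 0 := by rw [two_smul]; nth_rewrite 2 [h2]; simp
    have h4 : (2 : ZMod q) = 0 := (smul_eq_zero.1 h3).resolve_right u0
    have h5 : v + v = 0 := by rw [← two_smul (ZMod q), h4, zero_smul]
    exact hv (h1.trans (neg_eq_of_add_eq_zero_left h5))
  have cen : ∀ w : G, w ≠ 1 → w * w = 1 → w ∈ center G → ∀ v, ρ w v = -v := by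
    intro w w1 w2 hw v
    exact eq_neg_of_add_eq_zero_left (cen0 w w1 w2 hw _
      (by rw [map_add, rr, w2, map_one, add_comm]; rfl))
  have z1 : z ≠ 1 := fun e => by rw [e, orderOf_one] at hz; omega
  have zz : z * z = 1 := by rw [← sq, ← hz, pow_orderOf_eq_one]
  have hzv := cen z z1 zz hzc
  have h2 : (2 : ZMod q) ≠ 0 := by
    intro h4
    refine z1 (triv z fun v => (hzv v).trans (neg_eq_of_add_eq_zero_left ?_))
    rw [← two_smul (ZMod q), h4, zero_smul]
  have half : ∀ v : V, v = -v → v = 0 := fun v hv => by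
    have h3 : (2 : ZMod q) • v = 0 := by rw [two_smul]; nth_rewrite 2 [hv]; simp
    exact (smul_eq_zero.1 h3).resolve_left h2
  let I : G → Prop := fun g => orderOf g = 2 ∧ g ∉ center G
  have hI : ∀ g, I g ↔ g * g = 1 ∧ g ∉ center G := fun g =>
    ⟨fun h => ⟨by rw [← sq, ← h.1, pow_orderOf_eq_one], h.2⟩, fun h =>
      ⟨orderOf_eq_prime (by rw [sq, h.1]) (fun e => h.2 (e ▸ one_mem _)), h.2⟩⟩
  have I1 : ∀ g, I g → g ≠ 1 := fun g h e => h.2 (e ▸ one_mem _)
  have Iz : ∀ g, I g → I (z * g) := fun g h => (hI _).2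
    ⟨by rw [mul_assoc, ← mul_assoc g, mem_center_iff.1 hzc g, mul_assoc, ((hI g).1 h).1, mul_one, zz],
      fun e => h.2 (((center G).mul_mem_cancel_left hzc).1 e)⟩
  have exI : ∀ v : V, v ≠ 0 → ∃ t, I t ∧ v ∈ fx ρ t := fun v hv => by
    obtain ⟨t, ht, t1, t2⟩ := ex v hv
    exact ⟨t, (hI t).2 ⟨t2, fun e => hv (cen0 t t1 t2 e v ht)⟩, ht⟩
  have dis : ∀ s t, I s → I t → s ≠ t → Disjoint (fx ρ s) (fx ρ t) := by
    intro s t hs ht hst
    rw [Submodule.disjoint_def]
    intro v h1 h3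
    by_contra hv
    exact hst (uniq v hv s t h1 h3 (I1 s hs) (I1 t ht))
  have zne : ∀ g : G, g ≠ z * g := fun g e => z1 (by simpa using e.symm)
  have cpl : ∀ g, I g → IsCompl (fx ρ g) (fx ρ (z * g)) := by
    intro g hg
    refine ⟨dis _ _ hg (Iz g hg) (zne g), codisjoint_iff.2 (eq_top_iff.2 fun v _ => ?_)⟩
    have gg := ((hI g).1 hg).1
    have e : v = (2 : ZMod q)⁻¹ • ((v + ρ g v) + (v - ρ g v)) := by
      rw [add_add_sub_cancel, ← two_smul (ZMod q), smul_smul, inv_mul_cancel₀ h2, one_smul]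
    rw [e]
    refine Submodule.smul_mem _ _ (Submodule.add_mem_sup ?_ ?_)
    · rw [mem_fx, map_add, rr, gg, map_one, add_comm]; rfl
    · rw [mem_fx, ← rr, hzv, map_sub, rr, gg, map_one, neg_sub]; rfl
  have third : ∀ t, I t → ∃ s, I s ∧ s ≠ t ∧ s ≠ z * t := by
    intro t ht
    obtain ⟨a, ha, a0⟩ : ∃ a ∈ fx ρ t, a ≠ 0 := by
      rw [← Submodule.ne_bot_iff]
      intro e
      have := (cpl t ht).sup_eq_top
      rw [e, bot_sup_eq] at this
      exact I1 _ (Iz t ht) (triv _ fun v => mem_fx.1 (this.ge Submodule.mem_top))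
    obtain ⟨b, hb, b0⟩ : ∃ a ∈ fx ρ (z * t), a ≠ 0 := by
      rw [← Submodule.ne_bot_iff]
      intro e
      have := (cpl t ht).sup_eq_top
      rw [e, sup_bot_eq] at this
      exact I1 _ ht (triv _ fun v => mem_fx.1 (this.ge Submodule.mem_top))
    have d := Submodule.disjoint_def.1 (cpl t ht).disjoint
    have n1 : a + b ∉ fx ρ t := fun h => b0 (d b (by simpa using Submodule.sub_mem _ h ha) hb)
    have n2 : a + b ∉ fx ρ (z * t) := fun h => a0 (d a ha (by simpa using Submodule.sub_mem _ h hb))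
    obtain ⟨s, hs, hm⟩ := exI (a + b) (fun e => n1 (e ▸ Submodule.zero_mem _))
    exact ⟨s, hs, fun e => n1 (e ▸ hm), fun e => n2 (e ▸ hm)⟩
  haveI : Module.Finite (ZMod q) V := Module.Finite.of_finite
  have dimle : ∀ s, I s → 2 * Module.finrank (ZMod q) (fx ρ s) ≤ Module.finrank (ZMod q) V := by
    intro s hs
    obtain ⟨t, ht, h1, h3⟩ := third s hs
    have e1 := Submodule.finrank_add_finrank_le_of_disjoint (dis s t hs ht h1.symm)
    have e2 := Submodule.finrank_add_finrank_le_of_disjoint (dis s (z * t) hs (Iz t ht) (by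
      intro e; apply h3; rw [e, ← mul_assoc, zz, one_mul]))
    have e3 := Submodule.finrank_add_eq_of_isCompl (cpl t ht)
    omega
  have dim : ∀ s, I s → 2 * Module.finrank (ZMod q) (fx ρ s) = Module.finrank (ZMod q) V := by
    intro s hs
    have e1 := dimle s hs
    have e2 := dimle _ (Iz s hs)
    have e3 := Submodule.finrank_add_eq_of_isCompl (cpl s hs)
    omega
  obtain ⟨v0, hv0⟩ := exists_ne (0 : V)
  obtain ⟨t0, ht0, hm0⟩ := exI v0 hv0
  set r := Module.finrank (ZMod q) (fx ρ t0) with hr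
  have cV : Nat.card V = q ^ (2 * r) := by
    rw [dim t0 ht0, Module.natCard_eq_pow_finrank (K := ZMod q), Nat.card_zmod]
  have cF : ∀ s, I s → Nat.card (fx ρ s) = q ^ r := fun s hs => by
    have : Module.finrank (ZMod q) (fx ρ s) = r := by
      have e1 := dim s hs
      have e2 := dim t0 ht0
      omega
    rw [Module.natCard_eq_pow_finrank (K := ZMod q), Nat.card_zmod, this]
  have cne : ∀ (X : Type _) [Finite X] (x : X), Nat.card {y : X // y ≠ x} + 1 = Nat.card X := by
    intro X _ x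
    haveI := Fintype.ofFinite X
    rw [Nat.card_eq_fintype_card, Nat.card_eq_fintype_card, Fintype.card_subtype_compl,
      Fintype.card_subtype_eq]
    have : 0 < Fintype.card X := Fintype.card_pos_iff.2 ⟨x⟩
    omega
  let f : (Σ g : {g : G // I g}, {w : fx ρ g.1 // w ≠ 0}) → {v : V // v ≠ 0} :=
    fun x => ⟨x.2.1.1, fun e => x.2.2 (Subtype.ext e)⟩
  have fb : Function.Bijective f := by
    constructor
    · rintro ⟨⟨s, hs⟩, ⟨v, hv⟩, v0⟩ ⟨⟨t, ht⟩, ⟨w, hw⟩, w0⟩ e
      have e1 : v = w := congrArg Subtype.val e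
      subst e1
      have e2 : s = t := uniq v (fun e => v0 (Subtype.ext e)) s t hv hw (I1 s hs) (I1 t ht)
      subst e2
      rfl
    · rintro ⟨v, hv⟩
      obtain ⟨t, ht, hm⟩ := exI v hv
      exact ⟨⟨⟨t, ht⟩, ⟨v, hm⟩, fun e => hv (congrArg Subtype.val e)⟩, rfl⟩
  have c1 := Nat.card_eq_of_bijective f fb
  haveI := Fintype.ofFinite {g : G // I g}
  rw [Nat.card_sigma, Finset.sum_congr rfl (g := fun _ => q ^ r - 1) (fun g _ => by
    rw [← cF g.1 g.2, ← cne (fx ρ g.1) 0]; rfl), Finset.sum_const, Finset.card_univ,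
    ← Nat.card_eq_fintype_card, smul_eq_mul] at c1
  have c2 := cne V 0
  have hr1 : 1 < q ^ r := by
    rw [← cF t0 ht0]
    exact Finite.one_lt_card_iff_nontrivial.2 ⟨⟨v0, hm0⟩, 0, fun e => hv0 (congrArg Subtype.val e)⟩
  refine ⟨r, cV, ?_⟩
  rw [cV, ← c1, mul_comm 2 r, pow_mul] at c2
  obtain ⟨k, hk⟩ : ∃ k, q ^ r = k + 1 := ⟨q ^ r - 1, by omega⟩
  rw [hk] at c2 hr1 ⊢
  rw [Nat.add_sub_cancel] at c2
  refine Nat.eq_of_mul_eq_mul_right (show 0 < k by omega) ?_
  change Nat.card {g : G // I g} * k = _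
  nlinarith


end Cfsg.Agent.S3381
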