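import Cfsg.Statements.S3382
import Cfsg.Agent.H2.PGroup

set_option autoImplicit false
open Cfsg

namespace Cfsg.Agent.S3382
open Subgroup CfsgH2
open scoped commutatorElement

variable {K : Type*} [Field K]

def Dg (f : (Fin 2 → K) ≃ₗ[K] (Fin 2 → K)) (a b : K) : Prop := ∀ v, f v = ![a * v 0, b * v 1]
def An (f : (Fin 2 → K) ≃ₗ[K] (Fin 2 → K)) (a b : K) : Prop := ∀ v, f v = ![b * v 1, a * v 0]

section
variable {f g : (Fin 2 → K) ≃ₗ[K] (Fin 2 → K)} {a b c d : K}
theorem dd (h : Dg f a b) (k : Dg g c d) : Dg (f * g) (a * c) (b * d) := fun v => by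
  rw [LinearEquiv.mul_apply, h, k]; simp [mul_assoc]
theorem da (h : Dg f a b) (k : An g c d) : An (f * g) (b * c) (a * d) := fun v => by
  rw [LinearEquiv.mul_apply, h, k]; simp [mul_assoc]
theorem ad (h : An f a b) (k : Dg g c d) : An (f * g) (a * c) (b * d) := fun v => by
  rw [LinearEquiv.mul_apply, h, k]; simp [mul_assoc]
theorem aa (h : An f a b) (k : An g c d) : Dg (f * g) (b * c) (a * d) := fun v => by
  rw [LinearEquiv.mul_apply, h, k]; simp [mul_assoc]
theorem d1 : Dg (1 : (Fin 2 → K) ≃ₗ[K] (Fin 2 → K)) 1 1 := fun v => by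
  ext i; fin_cases i <;> simp
theorem dext (h : Dg f a b) (k : Dg g c d) : f = g ↔ a = c ∧ b = d := by
  refine ⟨fun e => ?_, fun e => LinearEquiv.ext fun v => by rw [h, k, e.1, e.2]⟩
  have := (h 1).symm.trans (e ▸ k 1)
  simpa using this
theorem aext (h : An f a b) (k : An g c d) : f = g ↔ a = c ∧ b = d := by
  refine ⟨fun e => ?_, fun e => LinearEquiv.ext fun v => by rw [h, k, e.1, e.2]⟩
  have := (h 1).symm.trans (e ▸ k 1)
  simpa [and_comm] using this
theorem nda (h : Dg f a b) (k : An f c d) : False := by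
  have := (h ![1, 0]).symm.trans (k ![1, 0])
  have h1 : f ![1, 0] = 0 := by
    rw [k]; simp at this; ext i; fin_cases i <;> simp [← this.2]
  simpa using congrFun (f.map_eq_zero_iff.1 h1) 0
theorem dpow (h : Dg f a b) (n : ℕ) : Dg (f ^ n) (a ^ n) (b ^ n) := by
  induction n with
  | zero => simpa using d1
  | succ n ih => simpa only [pow_succ] using dd ih h
end

theorem step {T : Type*} [Group T] (hT : IsPGroup 2 T) {β : MulAut T} {r : ℕ} (hr : Odd r) (hb : β ^ r = 1)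
    {x : T} (h : β (x⁻¹ * β x) = x⁻¹ * β x) : β x = x := by
  have h1 : ∀ k : ℕ, (β ^ k) x = x * (x⁻¹ * β x) ^ k := fun k => by
    induction k with
    | zero => simp
    | succ k ih => rw [pow_succ', MulAut.mul_apply, ih, map_mul, map_pow, h, pow_succ', ← mul_assoc, mul_inv_cancel_left]
  have h2 := h1 r
  rw [hb, MulAut.one_apply, left_eq_mul] at h2
  obtain ⟨k, hk⟩ := hT (x⁻¹ * β x)
  have h3 := (pow_gcd_eq_one.2 ⟨h2, hk⟩)
  rw [(Nat.Coprime.pow_right k (Nat.coprime_two_right.2 hr)).gcd_eq_one, pow_one] at h3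
  exact (inv_mul_eq_one.1 h3).symm

def mk (a b : K) (ha : a ≠ 0) (hb : b ≠ 0) : (Fin 2 → K) ≃ₗ[K] (Fin 2 → K) where
  toFun v := ![a * v 0, b * v 1]
  invFun v := ![a⁻¹ * v 0, b⁻¹ * v 1]
  map_add' u v := by ext i; fin_cases i <;> simp [mul_add]
  map_smul' c v := by ext i; fin_cases i <;> simp [mul_left_comm]
  left_inv v := by ext i; fin_cases i <;> simp [ha, hb]
  right_inv v := by ext i; fin_cases i <;> simp [ha, hb]

/-- Let q = 2^m + 1 be a prime other than 5. Then the automorphism group of the group of linear maps of F_q² of the forms (x, y) ↦ (a x, ± a⁻¹ y) and (x, y) ↦ (± a⁻¹ y, a x) with a ≠ 0 is itself a 2-group. -/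
theorem result (q m : ℕ) [Fact q.Prime] (hq : q = 2 ^ m + 1) (hq5 : q ≠ 5)
    (T : Subgroup ((Fin 2 → ZMod q) ≃ₗ[ZMod q] (Fin 2 → ZMod q)))
    (hT : ∀ f, f ∈ T ↔ ∃ a s : ZMod q, a ≠ 0 ∧ (s = 1 ∨ s = -1) ∧
      ((∀ v, f v = ![a * v 0, s * a⁻¹ * v 1]) ∨ (∀ v, f v = ![s * a⁻¹ * v 1, a * v 0]))) :
    IsPGroup 2 (MulAut T) := by
  have hp : q.Prime := Fact.out
  have hT' : ∀ f : T, ∃ a b : ZMod q, a ≠ 0 ∧ b ≠ 0 ∧ (a * b) ^ 2 = 1 ∧ (Dg f.1 a b ∨ An f.1 a b) := fun f => by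
    obtain ⟨a, s, h1, h2, h3⟩ := (hT f).1 f.2
    refine ⟨a, s * a⁻¹, h1, mul_ne_zero (by rcases h2 with rfl | rfl; exacts [one_ne_zero, neg_ne_zero.2 one_ne_zero]) (inv_ne_zero h1), ?_, h3⟩
    rw [mul_left_comm, mul_inv_cancel₀ h1, mul_one]
    rcases h2 with rfl | rfl <;> simp
  have pw : ∀ a : ZMod q, a ≠ 0 → a ^ 2 ^ m = 1 := fun a ha => by
    have := ZMod.pow_card_sub_one_eq_one ha
    rwa [show q - 1 = 2 ^ m from Nat.sub_eq_of_eq_add hq] at this
  have sq : ∀ f : T, ∃ a : ZMod q, a ≠ 0 ∧ Dg (f * f).1 a a⁻¹ := fun f => by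
    obtain ⟨a, b, h1, h2, h3, h | h⟩ := hT' f
    · refine ⟨a * a, mul_ne_zero h1 h1, ?_⟩
      rw [show (a * a)⁻¹ = b * b from (eq_inv_of_mul_eq_one_right (by rw [← h3]; ring)).symm]
      exact dd h h
    · refine ⟨b * a, mul_ne_zero h2 h1, ?_⟩
      rw [show (b * a)⁻¹ = a * b from (eq_inv_of_mul_eq_one_right (by rw [← h3]; ring)).symm]
      exact aa h h
  have hP : IsPGroup 2 T := fun f => ⟨m + 1, by
    obtain ⟨a, h1, h2⟩ := sq f
    rw [pow_succ', pow_mul, pow_two]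
    exact Subtype.ext ((dext (dpow h2 _) d1).2 ⟨pw a h1, pw _ (inv_ne_zero h1)⟩)⟩
  haveI : Finite T := Finite.of_injective (fun f : T => (f.1 : (Fin 2 → ZMod q) → Fin 2 → ZMod q))
    (DFunLike.coe_injective.comp Subtype.val_injective)
  haveI : Finite (MulAut T) := Finite.of_injective (fun f : MulAut T => (f : T → T)) DFunLike.coe_injective
  suffices h : ∀ (β : MulAut T) (r : ℕ), Odd r → β ^ r = 1 → ∀ x, β x = x by
    intro β
    obtain ⟨k, r, hr, e⟩ := Nat.exists_eq_two_pow_mul_odd (orderOf_pos β).ne'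
    exact ⟨k, MulEquiv.ext (h _ r hr (by rw [← pow_mul, ← e, pow_orderOf_eq_one]))⟩
  intro β r hr hb
  let z : T := ⟨mk (-1) (-1) (by simp) (by simp), (hT _).2 ⟨-1, 1, by simp, .inl rfl, .inl fun v => by simp [mk]⟩⟩
  have hz : Dg z.1 (-1) (-1) := fun v => rfl
  have zz : ∀ f : T, f * f * (f * f) = 1 → f * f = 1 ∨ f * f = z := fun f hf => by
    obtain ⟨a, h1, h2⟩ := sq f
    rcases mul_self_eq_one_iff.1 ((dext (dd h2 h2) d1).1 (congrArg Subtype.val hf)).1 with rfl | rfl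
    · exact .inl (Subtype.ext ((dext h2 d1).2 (by simp)))
    · exact .inr (Subtype.ext ((dext h2 hz).2 (by simp)))
  have bz : β z = z := by
    let w : T := ⟨(LinearEquiv.funCongrLeft _ _ (Equiv.swap 0 1)) * mk 1 (-1) (by simp) (by simp),
      (hT _).2 ⟨1, -1, by simp, .inr rfl, .inr fun v => by
        ext i; fin_cases i <;> simp [mk, LinearEquiv.mul_apply, LinearMap.funLeft]⟩⟩
    have hw : An w.1 1 (-1) := fun v => by
      ext i; fin_cases i <;> simp [w, mk, LinearEquiv.mul_apply, LinearMap.funLeft]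
    have h1 : w * w = z := Subtype.ext ((dext (aa hw hw) hz).2 (by simp))
    have h2 : z * z = 1 := Subtype.ext ((dext (dd hz hz) d1).2 (by simp))
    rcases zz (β w) (by rw [← map_mul, h1, ← map_mul, h2, map_one]) with h | h
    · rw [← map_mul, h1, MulEquiv.map_eq_one_iff] at h; rw [h, map_one]
    · rwa [← map_mul, h1] at h
  have pm : ∀ x : T, β x = x ∨ β x = x * z → β x = x := fun x h => h.elim id fun h =>
    step hP hr hb (by rw [h, inv_mul_cancel_left, bz])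
  have one : ∀ x : T, Dg x.1 1 1 → x = 1 := fun x h => Subtype.ext ((dext h d1).2 ⟨rfl, rfl⟩)
  have isz : ∀ x : T, Dg x.1 (-1) (-1) → x = z := fun x h => Subtype.ext ((dext h hz).2 ⟨rfl, rfl⟩)
  have cen : ∀ x : T, x = 1 ∨ x = z ∨ β x = 1 ∨ β x = z → β x = x := by
    rintro x (rfl | rfl | h | h)
    · exact map_one β
    · exact bz
    · rw [(MulEquiv.map_eq_one_iff β).1 h, map_one]
    · rw [β.injective (h.trans bz.symm), bz]
  rcases Nat.eq_zero_or_pos m with rfl | m0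
  · intro x
    obtain ⟨a, b, h1, h2, -, h⟩ := hT' x
    obtain ⟨c, d, k1, k2, -, k⟩ := hT' (β x)
    have e : ∀ a : ZMod q, a ≠ 0 → a = 1 := fun a ha => by simpa using pw a ha
    rw [e a h1, e b h2] at h
    rw [e c k1, e d k2] at k
    rcases h with h | h
    · exact cen x (.inl (one x h))
    rcases k with k | k
    · exact cen x (.inr (.inr (.inl (one _ k))))
    exact Subtype.ext ((aext k h).2 ⟨rfl, rfl⟩)
  haveI : Fact (2 < q) := ⟨by have := Nat.one_lt_two_pow m0.ne'; omega⟩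
  have n1 : (-1 : ZMod q) ≠ 1 := ZMod.neg_one_ne_one
  by_cases m1 : m = 1
  · subst m1
    have e : ∀ a : ZMod q, a ≠ 0 → a = 1 ∨ a = -1 := fun a ha => mul_self_eq_one_iff.1 (by simpa [pow_two] using pw a ha)
    have cl : ∀ x : T, ∃ a b, (a = 1 ∨ a = -1) ∧ (b = 1 ∨ b = -1) ∧ (Dg x.1 a b ∨ An x.1 a b) := fun x => by
      obtain ⟨a, b, h1, h2, -, h⟩ := hT' x
      exact ⟨a, b, e a h1, e b h2, h⟩
    have c1 : ∀ x : T, x * x ≠ 1 → An x.1 1 (-1) ∨ An x.1 (-1) 1 := fun x hx => by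
      obtain ⟨a, b, rfl | rfl, rfl | rfl, h | h⟩ := cl x
      all_goals first | exact .inl h | exact .inr h | exact absurd (one _ (by simpa using dd h h)) hx | exact absurd (one _ (by simpa using aa h h)) hx
    have s1 : ∀ x : T, x * x ≠ 1 → β x = x := fun x hx => pm x (by
      rcases c1 x hx with h | h <;> rcases c1 (β x) (by rwa [← map_mul, Ne, MulEquiv.map_eq_one_iff]) with k | k
      all_goals first | exact .inl (Subtype.ext ((aext k h).2 ⟨rfl, rfl⟩)) | exact .inr (Subtype.ext ((aext k (ad h hz)).2 (by simp))))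
    have c2 : ∀ x : T, x * x = 1 → x ≠ 1 → x ≠ z → ∃ a b, (Dg x.1 a b ∧ a * b = -1) ∨ (An x.1 a b ∧ a * b = 1) :=
      fun x h1 h2 h3 => by
        obtain ⟨a, b, ha, hb, h | h⟩ := cl x
        · refine ⟨a, b, .inl ⟨h, ?_⟩⟩
          rcases ha with rfl | rfl <;> rcases hb with rfl | rfl
          exacts [absurd (one x h) h2, by simp, by simp, absurd (isz x h) h3]
        · exact ⟨a, b, .inr ⟨h, ((dext (aa h h) d1).1 (congrArg Subtype.val h1)).2⟩⟩
    intro x
    by_contra hx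
    have g1 : x * x = 1 := by_contra fun h => hx (s1 x h)
    have g2 : β (x⁻¹ * β x) ≠ x⁻¹ * β x := fun h => hx (step hP hr hb h)
    obtain ⟨a, b, h⟩ := c2 x g1 (fun h => hx (cen x (.inl h))) fun h => hx (cen x (.inr (.inl h)))
    obtain ⟨c, d, k⟩ := c2 (x⁻¹ * β x) (by_contra fun h => g2 (s1 _ h)) (fun h => g2 (cen _ (.inl h)))
      fun h => g2 (cen _ (.inr (.inl h)))
    obtain ⟨u, v, l⟩ := c2 (β x) (by rw [← map_mul, g1, map_one]) (fun h => hx (cen x (.inr (.inr (.inl h)))))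
      fun h => hx (cen x (.inr (.inr (.inr h))))
    have g3 : (β x).1 = x.1 * (x⁻¹ * β x).1 := congrArg Subtype.val (mul_inv_cancel_left x (β x)).symm
    rw [g3] at l
    rcases h with ⟨h, h'⟩ | ⟨h, h'⟩ <;> rcases k with ⟨k, k'⟩ | ⟨k, k'⟩ <;> rcases l with ⟨l, l'⟩ | ⟨l, l'⟩
    · obtain ⟨rfl, rfl⟩ := (dext l (dd h k)).1 rfl
      exact n1 (by linear_combination (-1) * l' + (c * d) * h' - k')
    · exact nda (dd h k) l
    · exact nda l (da h k)
    · obtain ⟨rfl, rfl⟩ := (aext l (da h k)).1 rfl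
      exact n1 (by linear_combination l' - (c * d) * h' + k')
    · exact nda l (ad h k)
    · obtain ⟨rfl, rfl⟩ := (aext l (ad h k)).1 rfl
      exact n1 (by linear_combination l' - (c * d) * h' - k')
    · obtain ⟨rfl, rfl⟩ := (dext l (aa h k)).1 rfl
      exact n1 (by linear_combination (-1) * l' + (c * d) * h' + k')
    · exact nda (aa h k) l
  have m3 : 3 ≤ m := by
    by_contra h
    obtain rfl : m = 2 := by omega
    exact hq5 hq
  have sB : ∀ (k : ℕ) (f : T), (f * f) ^ 2 ^ k = 1 → β (f * f) = f * f := fun k => by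
    induction k with
    | zero => exact fun f h => cen _ (.inl (by simpa using h))
    | succ k ih =>
      intro f h
      have h1 := ih (f * f) (by rw [← pow_two, ← pow_mul, ← pow_succ', h])
      obtain ⟨a, -, h2⟩ := sq f
      obtain ⟨b, -, h3⟩ := sq (β f)
      rw [← map_mul] at h3
      rw [map_mul] at h1
      rcases mul_self_eq_mul_self_iff.1 ((dext (dd h3 h3) (dd h2 h2)).1 (congrArg Subtype.val h1)).1 with rfl | rfl
      · exact Subtype.ext ((dext h3 h2).2 ⟨rfl, rfl⟩)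
      · exact pm _ (.inr (Subtype.ext ((dext h3 (dd h2 hz)).2 (by simp [inv_neg]))))
  have sC : ∀ f : T, β (f * f) = f * f := fun f => (hP (f * f)).elim fun k hk => sB k f hk
  obtain ⟨u, hu⟩ := IsCyclic.exists_ofOrder_eq_natCard (α := (ZMod q)ˣ)
  rw [Nat.card_eq_fintype_card, ZMod.card_units, show q - 1 = 2 ^ m from Nat.sub_eq_of_eq_add hq] at hu
  let t : T := ⟨mk u (u : ZMod q)⁻¹ u.ne_zero (inv_ne_zero u.ne_zero), (hT _).2 ⟨u, 1, u.ne_zero, .inl rfl,
    .inl fun v => by rw [one_mul]; rfl⟩⟩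
  have ht : Dg t.1 u (u : ZMod q)⁻¹ := fun v => rfl
  have hc := dd ht ht
  have isD : ∀ x : T, (∃ a b, Dg x.1 a b) ↔ x * (t * t) = t * t * x := fun x => by
    refine ⟨fun ⟨a, b, h⟩ => Subtype.ext ((dext (dd h hc) (dd hc h)).2 ⟨mul_comm _ _, mul_comm _ _⟩), fun h => ?_⟩
    obtain ⟨a, b, h1, -, -, k | k⟩ := hT' x
    · exact ⟨a, b, k⟩
    have h2 := ((aext (ad k hc) (da hc k)).1 (congrArg Subtype.val h)).1
    have h3 : u ^ 4 = 1 := Units.ext (by
      have := u.ne_zero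
      rw [mul_comm, mul_left_inj' h1] at h2
      push_cast
      field_simp at h2
      exact h2)
    have h4 := Nat.le_of_dvd (by norm_num) (hu ▸ orderOf_dvd_of_pow_eq_one h3)
    have := Nat.pow_le_pow_right two_pos m3
    omega
  have bD : ∀ x : T, (∃ a b, Dg (β x).1 a b) ↔ ∃ a b, Dg x.1 a b := fun x => by
    rw [isD, isD, ← β.injective.eq_iff (a := x * _), map_mul β x, map_mul β _ x, sC]
  have sE : ∀ (x : T) a b, Dg x.1 a b → x * x = 1 → β x = x := fun x a b h h1 => by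
    obtain ⟨c, d, k⟩ := (bD x).2 ⟨a, b, h⟩
    obtain ⟨a1, b1⟩ := (dext (dd h h) d1).1 (congrArg Subtype.val h1)
    obtain ⟨c1, d2⟩ := (dext (dd k k) d1).1 (congrArg Subtype.val (by rw [← map_mul, h1, map_one] : β x * β x = 1))
    rcases mul_self_eq_one_iff.1 a1 with rfl | rfl <;> rcases mul_self_eq_one_iff.1 b1 with rfl | rfl <;>
      rcases mul_self_eq_one_iff.1 c1 with rfl | rfl <;> rcases mul_self_eq_one_iff.1 d2 with rfl | rfl
    all_goals first | exact cen x (.inl (one x h)) | exact cen x (.inr (.inl (isz x h))) | exact cen x (.inr (.inr (.inl (one _ k)))) | exact cen x (.inr (.inr (.inr (isz _ k)))) | exact Subtype.ext ((dext k h).2 ⟨rfl, rfl⟩) | exact pm x (.inr (Subtype.ext ((dext k (dd h hz)).2 (by simp))))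
  have sD : ∀ (x : T) a b, Dg x.1 a b → β x = x := fun x a b h => by
    have h1 := (isD x).1 ⟨a, b, h⟩
    obtain ⟨c, d, k⟩ := (bD x).2 ⟨a, b, h⟩
    obtain ⟨e, f, l⟩ := (isD (x⁻¹ * β x)).2 (Commute.mul_left (Commute.inv_left h1) ((isD _).1 ⟨c, d, k⟩))
    refine step hP hr hb (sE _ e f l ?_)
    have h2 : Commute x (β x) := Subtype.ext ((dext (dd h k) (dd k h)).2 ⟨mul_comm _ _, mul_comm _ _⟩)
    rw [h2.inv_left.symm.mul_mul_mul_comm, ← map_mul, sC]
    group
  intro x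
  obtain ⟨a, b, -, -, -, h | h⟩ := hT' x
  · exact sD x a b h
  obtain ⟨c, d, -, -, -, k | k⟩ := hT' (x⁻¹ * β x)
  · exact step hP hr hb (sD _ c d k)
  obtain ⟨e, f, l⟩ := (bD x).1 ⟨_, _, by rw [← mul_inv_cancel_left x (β x)]; exact aa h k⟩
  exact (nda l h).elim


end Cfsg.Agent.S3382
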