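import Cfsg.Statements.S3389
import Cfsg.Agent.H3.Pm1

set_option autoImplicit false
open Cfsg

namespace Cfsg.Agent.S3389

open CfsgPm MulAction CfsgH8 Subgroup Finset

/-- Let G be a finite group acting faithfully and transitively on a finite set Ω with fixity k ≥ 1: every non-identity element fixes at most k points and some non-identity element fixes exactly k points. Then |Z(G)| divides k; if k = 2 then |G| is even; and for every prime p > k dividing |G| and every point α, either p does not divide |G_α| or G_α contains a Sylow p-subgroup of G. -/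
theorem result {G : Type*} [Group G] [Finite G] {Ω : Type*} [Fintype Ω] [MulAction G Ω] [FaithfulSMul G Ω]
    (htr : MulAction.IsPretransitive G Ω) (k : ℕ) (hk : 1 ≤ k)
    (hfix : ∀ g : G, g ≠ 1 → Nat.card (MulAction.fixedBy Ω g) ≤ k) (hex : ∃ g : G, g ≠ 1 ∧ Nat.card (MulAction.fixedBy Ω g) = k) :
    Nat.card (Subgroup.center G) ∣ k ∧ (k = 2 → 2 ∣ Nat.card G) ∧
      ∀ (p : ℕ), p.Prime → k < p → p ∣ Nat.card G → ∀ α : Ω,
        ¬ p ∣ Nat.card (MulAction.stabilizer G α) ∨ ¬ p ∣ (MulAction.stabilizer G α).index := by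
  classical
  obtain ⟨g, hg, rfl⟩ := hex
  refine ⟨dvd_ncard_of_orbits (G := center G) (fixedBy Ω g) (fun z a (ha : g • a = a) => show g • (z : G) • a = (z : G) • a by
    rw [← mul_smul, mem_center_iff.1 z.2, mul_smul, ha]) fun a _ => ?_, fun h2 => ?_, fun p hp hkp hd a => ?_⟩
  · have : IsPretransitive (⊤ : Subgroup G) Ω := ⟨fun a b => let ⟨g, h⟩ := exists_smul_eq G a b; ⟨⟨g, trivial⟩, h⟩⟩
    rw [ncard_orbit, show stabilizer (center G) a = ⊥ from eq_bot_iff.2 fun z hz => (Subtype.ext
      (centralizer_semiregular (⊤ : Subgroup G) (fun m _ => mem_center_iff.1 z.2 m) hz) : z = 1), index_bot]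
  · by_contra ho
    obtain ⟨a, b, hab, ha, hb⟩ := two_le_fx.1 h2.ge
    obtain ⟨x, hx⟩ := exists_smul_eq G b a
    have := Fintype.ofFinite G
    have k1 : ∀ c : Ω, (∃ y : G, y ≠ 1 ∧ y • a = a ∧ y • c = c) →
        2 * Nat.card (orbit (stabilizer G a) c) ≤ Nat.card (stabilizer G a) := fun c ⟨y, h1, h2, h3⟩ => by
      rw [Nat.card_coe_set_eq, ncard_orbit, ← (stabilizer (stabilizer G a) c).card_mul_index]
      exact Nat.mul_le_mul_right _ ((one_lt_card_iff_ne_bot _).2 fun e => h1
        (congrArg Subtype.val (mem_bot.1 (e.le (show (⟨y, h2⟩ : stabilizer G a) ∈ stabilizer _ c from h3)))))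
    have k2 := k1 b ⟨g, hg, ha, hb⟩
    have k3 := k1 (x • a) ⟨x * g * x⁻¹, by simpa using hg, by rw [← hx]; simp [mul_smul, hb], by simp [mul_smul, ha]⟩
    have ne : ∀ c : Ω, Nonempty (orbit (stabilizer G a) c) := fun c => ⟨⟨c, mem_orbit_self c⟩⟩
    have k4 := sum_fx_trans (G := stabilizer G a) (Ω := orbit (stabilizer G a) b)
    have k5 := sum_fx_trans (G := stabilizer G a) (Ω := orbit (stabilizer G a) (x • a))
    have k6 : ∀ c ≠ a, ∀ d ∈ orbit (stabilizer G a) c, a ≠ d := by
      rintro c hc _ ⟨y, rfl⟩ e; exact hc (smul_left_cancel y (e.symm.trans y.2.symm))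
    have hxa : x • a ≠ a := fun e => hab (smul_left_cancel x (e.trans hx.symm))
    have k7 : ∀ h ∈ univ.erase (1 : stabilizer G a), fx (orbit (stabilizer G a) b) h +
        fx (orbit (stabilizer G a) (x • a)) h ≤ 1 := fun h hh => by
      have k8 : ∀ c d : Ω, a ≠ c → a ≠ d → h • c = c → h • d = d → c = d := fun c d h1 h3 h4 h5 => by_contra fun h6 => by
        have : ({a, c, d} : Set Ω).ncard ≤ Nat.card (fixedBy Ω (h : G)) := Set.ncard_le_ncard (by
          rintro _ (rfl | rfl | rfl); exacts [h.2, h4, h5])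
        rw [Set.ncard_eq_three.2 ⟨a, c, d, h1, h3, h6, rfl⟩] at this
        have := hfix h fun e => (mem_erase.1 hh).1 (Subtype.ext e)
        omega
      have k9 : ∀ c ≠ a, fx (orbit (stabilizer G a) c) h ≤ 1 := fun c hc => by_contra fun hn => by
        obtain ⟨u, v, h1, h2, h3⟩ := two_le_fx.1 (not_le.1 hn)
        exact h1 (Subtype.ext (k8 u v (k6 c hc u u.2) (k6 c hc v v.2) (congrArg Subtype.val h2) (congrArg Subtype.val h3)))
      have := k9 b hab.symm
      have := k9 _ hxa
      by_contra hn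
      obtain ⟨u, hu⟩ := not_forall.1 (mt (fx_eq_zero (Ω := orbit (stabilizer G a) b) (g := h)).2 (by omega))
      obtain ⟨v, hv⟩ := not_forall.1 (mt (fx_eq_zero (Ω := orbit (stabilizer G a) (x • a)) (g := h)).2 (by omega))
      have e := k8 u v (k6 b hab.symm u u.2) (k6 _ hxa v v.2) (congrArg Subtype.val (not_not.1 hu))
        (congrArg Subtype.val (not_not.1 hv))
      obtain ⟨⟨_, y, rfl⟩, ⟨_, z, rfl⟩⟩ := u, v
      have e : (y : G) • b = (z : G) • x • a := e
      have t1 : ((y : G)⁻¹ * z * x) • a = b := by rw [mul_smul, mul_smul, ← e, inv_smul_smul]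
      have t2 : ((y : G)⁻¹ * z * x) • b = a := by
        rw [mul_smul, mul_smul, hx, show (z : G) • a = a from z.2]; exact (y⁻¹).2
      obtain ⟨m, hm⟩ : Odd (Nat.card G) := Nat.not_even_iff_odd.1 fun h => ho (even_iff_two_dvd.1 h)
      have t3 : ((y : G)⁻¹ * z * x) ^ 2 ∈ stabilizer G a := by rw [mem_stabilizer_iff, sq, mul_smul, t1, t2]
      have t4 := pow_mem t3 (m + 1)
      rw [← pow_mul, show 2 * (m + 1) = Nat.card G + 1 by omega, pow_succ, pow_card_eq_one', one_mul] at t4
      exact hab (t4.symm.trans t1)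
    have k10 := sum_le_card_nsmul _ _ _ k7
    rw [← add_sum_erase _ _ (mem_univ 1), fx_one] at k4 k5
    rw [sum_add_distrib, card_erase_of_mem (mem_univ _), card_univ, ← Nat.card_eq_fintype_card, smul_eq_mul] at k10
    have : 0 < Nat.card (stabilizer G a) := Nat.card_pos
    omega
  · by_contra hc
    push Not at hc
    have := Fact.mk hp
    obtain ⟨x, hx⟩ := exists_prime_orderOf_dvd_card' p hc.1
    have h1 := card_modEq_fixed hp (P := zpowers (x : G)) (IsPGroup.of_card (n := 1) (by
      rw [Nat.card_zpowers, Subgroup.orderOf_coe, hx, pow_one])) (Set.univ : Set Ω) fun _ _ _ _ => trivial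
    rw [show {y | y ∈ Set.univ ∧ ∀ g ∈ zpowers (x : G), g • y = y} = fixedBy Ω (x : G) from Set.ext fun y =>
      ⟨fun h => h.2 _ (mem_zpowers _), fun h => ⟨trivial, fun g hg => (zpowers_le (H := stabilizer G y)).2 h hg⟩⟩,
      Nat.card_univ, card_eq_index (G := G) a] at h1
    have h2 := Nat.le_of_dvd (Nat.pos_of_ne_zero fun e => fx_eq_zero.1 e a x.2) ((h1.dvd_iff dvd_rfl).1 hc.2)
    exact hkp.not_ge (h2.trans (hfix x fun e => by
      rw [show x = 1 from Subtype.ext e, orderOf_one] at hx; exact hp.one_lt.ne hx))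

end Cfsg.Agent.S3389
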