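import Cfsg.Statements.S3420
import Cfsg.Agent.H3.Ram2

set_option autoImplicit false
open Cfsg

namespace Cfsg.Agent.S3420

open CfsgPm Subgroup

/-- Let n ≥ 11 and let G be a finite group with the same order and the same set of element orders as the alternating group of degree n. Then G has normal subgroups N < H such that H/N is a non-abelian simple group whose order is divisible by every prime p with n/2 < p ≤ n. -/
theorem result {G : Type*} [Group G] [Finite G] (n : ℕ) (hn : 11 ≤ n)
    (hcard : Nat.card G = Nat.card ↥(alternatingGroup (Fin n)))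
    (hspec : Set.range (orderOf : G → ℕ) = Set.range (orderOf : ↥(alternatingGroup (Fin n)) → ℕ)) :
    ∃ (N H : Subgroup G) (_ : N.Normal), H.Normal ∧ N < H ∧
      IsSimpleGroup (↥H ⧸ N.subgroupOf H) ∧ ¬ IsMulCommutative (↥H ⧸ N.subgroupOf H) ∧
      ∀ p : ℕ, p.Prime → n < 2 * p → p ≤ n → p ∣ Nat.card (↥H ⧸ N.subgroupOf H) := by
  obtain ⟨p, q, hp, hq, pq, p1, q1⟩ := two_primes n hn
  have one := fun (r : ℕ) (hr : r.Prime) => alt_one (G := G) (by omega) hcard hr
  have dv : ∀ r k : ℕ, r.Prime → (r ^ k ∣ Nat.card G ↔ k ≤ (Nat.card G).factorization r) := fun r k hr =>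
    hr.pow_dvd_iff_le_factorization Nat.card_pos.ne'
  have f1 : ∀ (K : Subgroup G) (r : ℕ), r.Prime → n < 2 * r → r ≤ n → r ∣ Nat.card K → (Nat.card K).factorization r = 1 := fun K r hr r1 r2 d =>
    le_antisymm (one r hr r1 r2 ▸ (Nat.factorization_le_iff_dvd Nat.card_pos.ne' Nat.card_pos.ne').2 K.card_subgroup_dvd_card r)
      (hr.factorization_pos_of_dvd Nat.card_pos.ne' d)
  have key : ∀ (K : Subgroup G) [K.Normal] (r s : ℕ), r.Prime → s.Prime → n < 2 * r → r ≤ n → n < 2 * s → s ≤ n → r ∣ Nat.card K →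
      s ∣ Nat.card K := fun K _ r s hr hs r1 r2 s1 s2 d => by
    by_cases e : r = s
    · exact e ▸ d
    refine ((Nat.Prime.dvd_mul hs).1 (K.card_mul_index ▸ (pow_one s ▸ (dv s 1 hs).2 (one s hs s1 s2).ge))).resolve_right fun i =>
      alt_no hspec hr hs e (by omega) (ord_pq K hr hs e d i ?_)
    rw [f1 K r hr r1 r2 d, pow_one]
    rintro ⟨k, hk⟩
    have := hr.two_le
    have := hr.eq_two_or_odd
    have := hs.eq_two_or_odd
    rcases k with _ | _ | k
    · omega
    · omega
    · have : s * (k + 1 + 1) = s * k + 2 * s := by ring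
      omega
  obtain ⟨N, H, i1, i2, lt, sim, dN, dH⟩ := chief_p (G := G) hp (pow_one p ▸ (dv p 1 hp).2 (one p hp p1 (by omega)).ge)
    fun h => by have := (dv p 2 hp).1 h; rw [one p hp p1 (by omega)] at this; omega
  have all : ∀ r : ℕ, r.Prime → n < 2 * r → r ≤ n → r ∣ Nat.card (H ⧸ N.subgroupOf H) := fun r hr r1 r2 =>
    ((Nat.Prime.dvd_mul hr).1 (card_sec lt.le ▸ key H p r hp hr p1 (by omega) r1 r2 dH)).resolve_right fun d =>
      dN (key N r p hr hp r1 r2 p1 (by omega) d)
  exact ⟨N, H, i1, i2, lt, sim, fun c => alt_no hspec hp hq pq.ne (by omega)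
    (ord_sec c hp hq pq.ne (all p hp p1 (by omega)) (all q hq (by omega) q1)), all⟩

end Cfsg.Agent.S3420
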