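import Cfsg.Statements.S3419
import Cfsg.Agent.H3.Ram2
import Cfsg.Agent.S3420

set_option autoImplicit false
open Cfsg

namespace Cfsg.Agent.S3419

open CfsgPm Subgroup
theorem aux {G : Type*} [Group G] [Finite G] [Group.IsSolvable G] {p q : ℕ} (hp : p.Prime) (hq : q.Prime) (ne : p ≠ q)
    (h1 : (Nat.card G).factorization p = 1) (h2 : 0 < (Nat.card G).factorization q) (h3 : ¬ q ∣ p - 1)
    (h4 : ¬ p ∣ q ^ (Nat.card G).factorization q - 1) : ∃ g : G, orderOf g = p * q := by
  by_contra no
  obtain ⟨N, H, i1, i2, lt, sim, dN, dH⟩ := chief_p (G := G) hp (Nat.dvd_of_factorization_pos (h1 ▸ one_ne_zero))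
    fun h => by have := (hp.pow_dvd_iff_le_factorization Nat.card_pos.ne').1 h; omega
  have a : ¬ q ∣ H.index := fun i => no (ord_pq H hp hq ne dH i (by
    rwa [show (Nat.card H).factorization p = 1 from le_antisymm (h1 ▸ (Nat.factorization_le_iff_dvd Nat.card_pos.ne'
      Nat.card_pos.ne').2 H.card_subgroup_dvd_card p) (hp.factorization_pos_of_dvd Nat.card_pos.ne' dH), pow_one]))
  have b := ((Nat.Prime.dvd_mul hp).1 (card_sec lt.le ▸ dH)).resolve_right dN
  have c : ¬ q ∣ Nat.card (H ⧸ N.subgroupOf H) := fun d =>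
    no (ord_sec ⟨⟨IsSimpleGroup.comm_iff_isSolvable.2 inferInstance⟩⟩ hp hq ne b d)
  have e : (Nat.card G).factorization q = (Nat.card N).factorization q := by
    rw [← H.card_mul_index, card_sec lt.le, Nat.factorization_mul (mul_pos Nat.card_pos Nat.card_pos).ne' index_ne_zero_of_finite,
      Nat.factorization_mul Nat.card_pos.ne' Nat.card_pos.ne']
    simp [Nat.factorization_eq_zero_of_not_dvd a, Nat.factorization_eq_zero_of_not_dvd c]
  refine no (mul_comm p q ▸ ord_pq N hq hp ne.symm (Nat.dvd_of_factorization_pos (e ▸ h2.ne')) ?_ (e ▸ h4))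
  exact ((Nat.Prime.dvd_mul hp).1 (N.card_mul_index ▸ dH.trans H.card_subgroup_dvd_card)).resolve_left dN

/-- Let n ≥ 5 and let G be a finite group with the same order and the same set of element orders as the alternating group of degree n. Then G is not solvable. -/
theorem result {G : Type*} [Group G] [Finite G] (n : ℕ) (hn : 5 ≤ n)
    (hcard : Nat.card G = Nat.card ↥(alternatingGroup (Fin n)))
    (hspec : Set.range (orderOf : G → ℕ) = Set.range (orderOf : ↥(alternatingGroup (Fin n)) → ℕ)) :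
    ¬ Group.IsSolvable G := by
  intro s
  rcases lt_or_ge n 11 with h | h
  · obtain ⟨p, q, hp, hq, ne, p2, q2, lt, h1, h2, h3, h4⟩ : ∃ p q : ℕ, p.Prime ∧ q.Prime ∧ p ≠ q ∧ p ≠ 2 ∧ q ≠ 2 ∧ n < p + q ∧
        padicValNat p n.factorial = 1 ∧ 0 < padicValNat q n.factorial ∧ ¬ q ∣ p - 1 ∧ ¬ p ∣ q ^ padicValNat q n.factorial - 1 := by
      rcases lt_or_ge n 7 with h' | h'
      · refine ⟨5, 3, by norm_num, by norm_num, ?_⟩
        interval_cases n <;> decide +kernel
      · refine ⟨7, 5, by norm_num, by norm_num, ?_⟩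
        interval_cases n <;> decide +kernel
    rw [← Nat.factorization_def _ hp, ← alt_fac hn hcard p2] at h1
    rw [← Nat.factorization_def _ hq, ← alt_fac hn hcard q2] at h2 h4
    exact alt_no hspec hp hq ne lt (aux hp hq ne h1 h2 h3 h4)
  · obtain ⟨N, H, _, -, -, sim, c, -⟩ := S3420.result n h hcard hspec
    exact c ⟨⟨IsSimpleGroup.comm_iff_isSolvable.2 inferInstance⟩⟩

end Cfsg.Agent.S3419
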