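import Cfsg.Statements.S3430
import Cfsg.Agent.H9.Zsig

set_option autoImplicit false
open Cfsg

namespace Cfsg.Agent.S3430

open CfsgH9 in
theorem chk1 : ((List.range 2049).all fun n => n ≤ 151 || 33 ≤ ([1, 2, 3, 5, 7, 11, 13, 17, 19, 23, 29, 31, 37, 41, 43, 47, 53, 59, 61, 67,
    71, 73, 79, 83, 89, 97, 101, 103, 107, 109, 113, 127, 131, 137, 139, 149, 151].filter fun k => n.gcd k == 1).length) = true := by
  decide +kernel

open CfsgH9 in
theorem chk2 : ((List.range 152).all fun n => n ≤ 2 || (List.range 153).all fun a => a ≤ 1 ||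
    n * (n + 1) ≤ (a - 1) ^ ((List.range n).filter fun k => n.gcd k == 1).length || n * (n + 1) % cyF a n n ≠ 0 ||
    (a = 2 ∧ (n = 4 ∨ n = 6 ∨ n = 10 ∨ n = 12 ∨ n = 18)) || (a = 3 ∧ (n = 4 ∨ n = 6)) || (a = 5 ∧ n = 6)) = true := by
  decide +kernel


/-- Let q, n ≥ 2 be integers. Unless (n = 2 and q + 1 = 2^s·3^t for some s ≥ 0 and t ≤ 1), or (q = 2 and n ∈ {4, 6, 10, 12, 18}), or (q = 3 and n ∈ {4, 6}), or (q, n) = (5, 6), there is a prime p dividing q^n − 1 but no q^i − 1 with 1 ≤ i < n (a primitive prime divisor), such that p > n + 1 or p² divides q^n − 1. -/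
theorem result (q n : ℕ) (hq : 2 ≤ q) (hn : 2 ≤ n)
    (h1 : ¬ (n = 2 ∧ ∃ s t : ℕ, t ≤ 1 ∧ q + 1 = 2 ^ s * 3 ^ t))
    (h2 : ¬ (q = 2 ∧ (n = 4 ∨ n = 6 ∨ n = 10 ∨ n = 12 ∨ n = 18)))
    (h3 : ¬ (q = 3 ∧ (n = 4 ∨ n = 6))) (h4 : ¬ (q = 5 ∧ n = 6)) :
    ∃ p : ℕ, p.Prime ∧ p ∣ q ^ n - 1 ∧ (∀ i : ℕ, 1 ≤ i → i < n → ¬ p ∣ q ^ i - 1) ∧ (n + 1 < p ∨ p ^ 2 ∣ q ^ n - 1) := by
  open CfsgH9 in
    by_contra! h
    rcases hn.eq_or_lt with rfl | hn
    · have pr : ∀ p, p.Prime → p ≠ 2 → p ∣ q + 1 → p ≤ 3 ∧ ¬ p ^ 2 ∣ q + 1 := fun p hp ne l => by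
        have d : q + 1 ∣ q ^ 2 - 1 := cyV_two (a := q) ▸ cyV_dvd hq
        have := h p hp (l.trans d) fun k k0 k1 m => ne (by
          obtain rfl : k = 1 := by omega
          rw [pow_one] at m
          exact (Nat.prime_dvd_prime_iff_eq hp Nat.prime_two).1 (by simpa [show q + 1 - (q - 1) = 2 by omega] using Nat.dvd_sub l m))
        exact ⟨this.1, fun c => this.2 (c.trans d)⟩
      obtain ⟨s, m, hm, e⟩ := Nat.exists_eq_pow_mul_and_not_dvd (Nat.succ_ne_zero q) 2 (by decide)
      have hm0 : m ≠ 0 := fun c => hm (c ▸ dvd_zero 2)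
      have l : m ∣ q + 1 := Dvd.intro_left _ e.symm
      have e3 := Nat.eq_prime_pow_of_unique_prime_dvd (p := 3) hm0 fun {p} hp d => by
        have ne : p ≠ 2 := fun c => hm (c ▸ d)
        have := (pr p hp ne (d.trans l)).1
        have := hp.two_le
        omega
      refine h1 ⟨rfl, s, m.primeFactorsList.length, not_lt.1 fun c => ?_, by rw [← e3]; exact e⟩
      have : 3 ^ 2 ∣ q + 1 := (e3 ▸ pow_dvd_pow 3 c :  3 ^ 2 ∣ m).trans l
      exact (pr 3 Nat.prime_three (by decide) ((dvd_pow_self 3 two_ne_zero).trans this)).2 this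
    obtain ⟨r, M, e, g1, g2⟩ := cyV_eq hq hn
    have t0 : 0 < n.totient := Nat.totient_pos.2 (by omega)
    have r1 : r ∣ n ∧ r ≤ n.totient + 1 := by
      rcases g2 with rfl | ⟨hr, k, d, e1, -, -⟩
      · exact ⟨one_dvd _, by omega⟩
      · have l : r ∣ n := e1 ▸ (dvd_pow_self r (Nat.succ_ne_zero k)).mul_right d
        have := Nat.le_of_dvd t0 (Nat.totient_dvd_of_dvd l)
        rw [Nat.totient_prime hr] at this
        exact ⟨l, by omega⟩
    have d := cyV_dvd (n := n) hq
    have c0 : 0 < cyV n q := (Nat.zero_le _).trans_lt (lt_cyV hq (by omega))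
    have M0 : M ≠ 0 := fun c => by simp [e, c] at c0
    have pm : ∀ p, p.Prime → p ∣ M → p = n + 1 ∧ ¬ p ^ 2 ∣ M := fun p hp l => by
      obtain ⟨a1, a2⟩ := g1 p hp l
      have := h p hp a1.1 a1.2
      have b := Nat.le_of_dvd (by have := hp.two_le; omega) a2
      exact ⟨by have := hp.two_le; omega, fun c => this.2 (c.trans ((Dvd.intro_left r e.symm).trans d))⟩
    have M1 : M ∣ n + 1 := by
      by_cases c : M = 1
      · rw [c]; exact one_dvd _
      have p := Nat.minFac_prime c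
      have e3 := Nat.eq_prime_pow_of_unique_prime_dvd (p := n + 1) M0 fun {p} hp d => (pm p hp d).1
      obtain ⟨a1, a2⟩ := pm _ p (Nat.minFac_dvd M)
      rw [a1] at a2
      exact e3.dvd.trans ((pow_dvd_pow _ (not_lt.1 fun c => a2 ((pow_dvd_pow _ c).trans e3.symm.dvd))).trans (pow_one _).dvd)
    have b1 := (le_totient_sq n).2
    have b2 : n.totient ≤ 32 := not_lt.1 fun c => by
      obtain ⟨j, hj⟩ : ∃ j, n.totient = j + 33 := ⟨n.totient - 33, by omega⟩
      have := (two_pow_le_sq hq hn).trans (Nat.pow_le_pow_left (e.le.trans (Nat.mul_le_mul r1.2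
        ((Nat.le_of_dvd (Nat.succ_pos n) M1).trans (Nat.succ_le_succ b1)))) 2)
      rw [hj] at this
      exact (lt_two_pow_33 j).not_ge this
    have b3 : n ≤ 151 := not_lt.1 fun c => by
      have := List.all_eq_true.1 chk1 n (List.mem_range.2 (by nlinarith))
      simp only [Bool.or_eq_true, decide_eq_true_eq] at this
      have := (this.resolve_left c.not_ge).trans (count_le_totient (by decide) fun k hk => by simp at hk; omega)
      omega
    have d2 : cyV n q ∣ n * (n + 1) := e ▸ Nat.mul_dvd_mul r1.1 M1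
    have b4 := (lt_cyV hq (by omega : 1 < n)).trans_le (Nat.le_of_dvd (by positivity) d2)
    have t2 : 2 ≤ n.totient := Nat.le_of_dvd t0 (Nat.totient_even hn).two_dvd
    have b5 : q < 153 := not_le.1 fun c => by
      have := (Nat.pow_le_pow_left (by omega : 152 ≤ q - 1) 2).trans (Nat.pow_le_pow_right (by omega) t2)
      nlinarith
    have := List.all_eq_true.1 chk2 n (List.mem_range.2 (by omega))
    simp only [Bool.or_eq_true, decide_eq_true_eq] at this
    have := List.all_eq_true.1 (this.resolve_left hn.not_ge) q (List.mem_range.2 b5)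
    simp only [Bool.or_eq_true, decide_eq_true_eq] at this
    rw [cyF_eq hq n n (by omega) le_rfl] at this
    rcases this with ((((c | c) | c) | c) | c) | c
    · omega
    · have e4 : ((List.range n).filter fun k => n.gcd k == 1).length = n.totient := by
        rw [← List.toFinset_card_of_nodup (List.nodup_range.filter _)]
        exact congrArg Finset.card (Finset.ext fun k => by simp)
      exact b4.not_ge (e4 ▸ c)
    · exact c (Nat.mod_eq_zero_of_dvd d2)
    · exact h2 c
    · exact h3 c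
    · exact h4 c

end Cfsg.Agent.S3430
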