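import Cfsg.Statements.S3485
import Cfsg.Agent.H7.J2.G

set_option autoImplicit false
open Cfsg

namespace Cfsg.Agent.S3485

open CfsgH7 MulAction
open scoped Pointwise symmDiff
set_option maxRecDepth 100000
set_option Elab.async false

def L2 : List (ℕ × List (ℕ × ℕ)) := [(0, [(0x1595a7, 0xb1ae7)]),(1, [(0x4fcc68, 0xaccdd0)]),(2, [(0xf94748, 0xf94748)]),(3, [(0xeecc88, 0xeecc88)])]
def L3 : List (ℕ × List (ℕ × ℕ)) := [(1, [(0xae72b0, 0x87dc98)]),(4, [(0xba7688, 0x9bd688)])]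
def L5 : List (ℕ × List (ℕ × ℕ)) := [(0, [(0xf4e684, 0xf306a9)])]
def L7 : List (ℕ × List (ℕ × ℕ)) := [(0, [(0x3e0cab, 0xccd0bc)])]
def R3 : List (ℕ × List (ℕ × List (ℕ × ℕ))) := [(0xba7688, [(4, [(0xa0e4e7, 0x1394ee)]),(7, [(0x40cd7b, 0x2d41ee)]),(5, [(0xe740d5, 0xf44473)]),(0, [(0xeec382, 0xeacc19)]),(1, [(0xeecc50, 0xeecc50)]),(2, [(0xeec588, 0xeaccc8)]),(3, [(0xeecc88, 0xeecc88)])]),
  (0xae72b0, [(1, [(0xd79813, 0xbf3062)]),(6, [(0xf56708, 0xf32748)]),(3, [(0x7bd10a, 0xba2e0b)]),(4, [(0xba27c8, 0x5bd708)]),(7, [(0x1ac7ca, 0x5ac60f)]),(5, [(0xf8468d, 0xf8468d)]),(0, [(0xfac60a, 0xfac60a)])])]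
def R5 : List (ℕ × List (ℕ × List (ℕ × ℕ))) := [(0xf4e684, [(0, [(0x7303ea, 0x54ee1c)]),(4, [(0x35e5e0, 0x531af8)]),(6, [(0x6acc78, 0x2ecf90)]),(5, [(0xf8cad0, 0xf9c468)]),(1, [(0x5ac2f8, 0x3ac5d8)]),(2, [(0x5acec8, 0x7ac5c8)]),(3, [(0x7ace88, 0x7ace88)])])]
def R7 : List (ℕ × List (ℕ × List (ℕ × ℕ))) := [(0x3e0cab, [(0, [(0xd2ae19, 0x7ee302)]),(3, [(0x47e958, 0xb133f0)]),(6, [(0xeae660, 0xf29790)]),(7, [(0x5b9760, 0xb917e0)]),(1, [(0xf94668, 0xf8c750)]),(5, [(0xf95708, 0xfa2748)]),(4, [(0xfaa708, 0xfaa708)])])]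

/-- The symmetric group of degree 8 and the Hall–Janko sporadic group J₂ have exactly the same set of element orders (namely 1, 2, 3, 4, 5, 6, 7, 8, 10, 12, 15); in particular J₂ is not determined by its element orders. -/
theorem result : Set.range (orderOf : Equiv.Perm (Fin 8) → ℕ) = Set.range (orderOf : Cfsg.Spor.J2 → ℕ) := by
  have h := (pack_perm 8 ⟨nat_lit 8, nat_lit 3, nat_lit 7⟩ (by decide) (S := [0x5ace19, 0x45ea27]) (L := [(0, [(0xaa6647, 0x13d791)]),(1, [(0x70af70, 0x656f28)]),(2, [(0xcd4bc8, 0x5dcd48)]),(4, [(0xbbb888, 0xbbb888)]),(3, [(0x7ecc88, 0xcece88)]),(5, [(0xbbc688, 0xbbc688)]),(6, [(0xdec688, 0xdec688)])]) (M := 40320) (by decide) (P := [(0, 1), (1, 1), (1, 4), (4, 4), (0, 5), (0, 7), (3, 7), (0, 0), (0, 5), (3, 11), (0, 5), (8, 11), (0, 0), (0, 3), (11, 0), (0, 2), (10, 11), (9, 1), (15, 16), (10, 1), (17, 1), (0, 0), (0, 5), (14,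 15), (0, 2), (9, 10), (10, 2), (17, 28), (0, 29), (2, 27), (0, 0), (0, 3), (16, 24), (17, 1), (0, 0), (0, 4), (9, 11), (0, 0), (0, 3), (35, 41), (21, 0), (0, 2), (3, 34), (0, 2), (6, 1), (6, 7), (7, 2), (45, 28), (0, 23), (0, 11), (31, 25), (0, 6), (0, 6), (10, 17), (0, 28), (0, 17), (30, 18), (18, 31), (42, 1), (0, 14)]) (k := 62) (by decide +kernel))
  rw [Ico.specJ]
  exact h.spec (k2 := 7) (k3 := 2) (k5 := 1) (k7 := 1) (by norm_num) (by norm_num) L2 L3 L5 L7 R3 R5 R7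
    0x5eb234 0x1e2ce9 0x6a89b9 0x1bb362 0x14f59c
    (by decide +kernel) (by decide +kernel) (by decide +kernel) (by decide +kernel) (by decide +kernel)

end Cfsg.Agent.S3485
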