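import Cfsg.Statements.S3495
import Cfsg.Agent.H3.Pm3

set_option autoImplicit false
open Cfsg

namespace Cfsg.Agent.S3495

open CfsgPm MulAction Subgroup CfsgH8
open scoped Pointwise

/-- Let a finite group G act faithfully and primitively on a finite set Ω with non-trivial point stabilizers, each acting primitively on every one of its orbits (an extremely primitive group), and suppose G has an elementary abelian normal p-subgroup N acting regularly on Ω (affine type). Then every non-trivial subgroup M of a point stabilizer G_α that is normal in G_α has the same orbits on Ω as G_α, and normalizes no subgroup of N other than 1 and N. -/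
theorem result {G : Type*} [Group G] [Finite G] {Ω : Type*} [Fintype Ω] [MulAction G Ω] [FaithfulSMul G Ω] (hprim : MulAction.IsPreprimitive G Ω) (hH : ∀ α : Ω, MulAction.stabilizer G α ≠ ⊥) (hep : ∀ (α : Ω) (ω : Ω), MulAction.IsPreprimitive (MulAction.stabilizer G α) (MulAction.orbit (MulAction.stabilizer G α) ω))
    (N : Subgroup G) [N.Normal] (hNc : IsMulCommutative N) (p : ℕ) (hp : p.Prime) (hNp : ∀ n ∈ N, n ^ p = 1)
    (hNtr : MulAction.IsPretransitive N Ω) (hNreg : ∀ ω : Ω, MulAction.stabilizer N ω = ⊥) (α : Ω) (M : Subgroup G) (hM : M ≠ ⊥) (hMle : M ≤ MulAction.stabilizer G α)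
    (hMn : MulAction.stabilizer G α ≤ Subgroup.normalizer (M : Set G)) :
    (∀ ω : Ω, MulAction.orbit M ω = MulAction.orbit (MulAction.stabilizer G α) ω) ∧
    (∀ L : Subgroup G, L ≤ N → M ≤ Subgroup.normalizer (L : Set G) → L = ⊥ ∨ L = N) := by
  have key : ∀ ω : Ω, orbit M ω = orbit (stabilizer G α) ω := fun ω => by
    rcases eq_or_ne ω α with rfl | hω
    · exact Set.Subset.antisymm (fun _ ⟨k, e⟩ => ⟨⟨k, hMle k.2⟩, e⟩) fun _ ⟨k, e⟩ => ⟨1, (one_smul _ _).trans (k.2.symm.trans e)⟩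
    obtain ⟨⟨m, hm⟩, h1⟩ := ne_bot_iff_exists_ne_one.1 hM
    by_contra hne
    exact h1 (Subtype.ext (manning hprim hH hep hω (hMle hm) fun x hx =>
      by_contra fun h => hne (orbit_eq_of_norm hMle hMn (hep α ω) hm hx h)))
  refine ⟨key, fun L hL hML => or_iff_not_imp_left.2 fun h0 => le_antisymm hL fun n hn => ?_⟩
  obtain ⟨⟨l, hl⟩, h1⟩ := ne_bot_iff_exists_ne_one.1 h0
  have h2 := top_of_move hprim (a := α) (g := l) (fun e => h1 (Subtype.ext (eq_of_regular (hNreg α) (hL hl) N.one_mem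
    (e.trans (one_smul _ _).symm)))) (S := stabilizer G (orbit L α)) (fun k hk =>
      (mem_stabilizer_set_iff_smul_set_subset (Set.toFinite _)).2 ?_) (smul_orbit (⟨l, hl⟩ : L) α)
  · obtain ⟨u, e⟩ := (mem_stabilizer_iff.1 (h2.ge (mem_top n))).le ⟨α, mem_orbit_self α, rfl⟩
    exact eq_of_regular (hNreg α) (hL u.2) hn e ▸ u.2
  rintro _ ⟨_, ⟨u, rfl⟩, rfl⟩
  obtain ⟨m, e⟩ := (key (u • α)).ge ⟨⟨k, hk⟩, rfl⟩
  refine ⟨⟨m * u * m⁻¹, (mem_normalizer_iff.1 (hML m.2) _).1 u.2⟩, Eq.trans ?_ e⟩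
  simp [mul_smul, Subgroup.smul_def, show (m : G)⁻¹ • α = α from inv_mem (hMle m.2)]

end Cfsg.Agent.S3495
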