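import Cfsg.Statements.S3497
import Cfsg.Agent.H2.ExPrim
import Cfsg.Agent.H2.Extra

set_option autoImplicit false
open Cfsg

namespace Cfsg.Agent.S3497
open Subgroup CfsgH2
open scoped commutatorElement

open CfsgFT CfsgH2 Subgroup MulAction

/-- Restrictions on the point stabilizer of an extremely primitive group. Let a finite group G act faithfully and primitively on a finite set Ω with point stabilizers H = G_α whose order is neither 1 nor a prime, each acting primitively on every one of its orbits. Then H has trivial center, the Fitting subgroup F(H) is an elementary abelian p-group for some prime p, and if F(H) ≠ 1 has order p ^ e then p ^ e divides the number of points minus one and H / F(H) embeds in GL_e(p) (there is a homomorphism from H to GL_e(p) with kernel exactly F(H)). -/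
theorem result {G : Type*} [Group G] [Finite G] {Ω : Type*} [Fintype Ω] [MulAction G Ω] [FaithfulSMul G Ω] (hprim : MulAction.IsPreprimitive G Ω) (hep : ∀ (α : Ω) (ω : Ω), MulAction.IsPreprimitive (MulAction.stabilizer G α) (MulAction.orbit (MulAction.stabilizer G α) ω)) (α : Ω)
    (hH1 : MulAction.stabilizer G α ≠ ⊥) (hHp : ¬ (Nat.card (MulAction.stabilizer G α)).Prime) :
    Subgroup.center (MulAction.stabilizer G α) = ⊥ ∧
    IsMulCommutative (Cfsg.fittingSubgroup (MulAction.stabilizer G α)) ∧
    ∃ p e : ℕ, p.Prime ∧ Nat.card (Cfsg.fittingSubgroup (MulAction.stabilizer G α)) = p ^ e ∧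
      (∀ x ∈ Cfsg.fittingSubgroup (MulAction.stabilizer G α), x ^ p = 1) ∧
      (Cfsg.fittingSubgroup (MulAction.stabilizer G α) ≠ ⊥ →
        p ^ e ∣ Fintype.card Ω - 1 ∧
        ∃ φ : MulAction.stabilizer G α →* GL (Fin e) (ZMod p), φ.ker = Cfsg.fittingSubgroup (MulAction.stabilizer G α)) := by
  have h : ExP G α := ⟨hprim, hep α, hH1⟩
  refine ⟨?_, ?_⟩
  · have := h.center_eq hHp
    rw [← map_center_eq_inf] at this
    exact (Subgroup.map_eq_bot_iff_of_injective _ (subtype_injective _)).1 this
  by_cases h0 : Cfsg.fittingSubgroup (MulAction.stabilizer G α) = ⊥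
  · rw [h0]
    exact ⟨inferInstance, 2, 0, Nat.prime_two, by simp, fun x hx => by rw [mem_bot.1 hx, one_pow],
      fun e => absurd rfl e⟩
  have h0' : (fittingSubgroup (stabilizer G α)).map (stabilizer G α).subtype ≠ ⊥ := fun e =>
    h0 ((Subgroup.map_eq_bot_iff_of_injective _ (subtype_injective _)).1 e)
  obtain ⟨p, hp, hV⟩ := h.fitting h0'
  haveI := Fact.mk hp
  have hF := ea_of_map (subtype_injective _) hV
  obtain ⟨k, hk⟩ := ea_exists_elem hV le_rfl
  haveI := CfsgH1.fittingSubgroup_characteristic (stabilizer G α)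
  have h2 : stabilizer G α ≤ normalizer ((fittingSubgroup (stabilizer G α)).map (stabilizer G α).subtype : Set G) :=
    le_normalizer.trans (CfsgH1.normalizer_le_normalizer_map_of_characteristic _)
  have h3 := map_subtype_le (fittingSubgroup (stabilizer G α))
  have h4 := h.dvd_card h3 h2 h0' (ea_le_centralizer hV)
  have h5 := h.cent_le h3 h2 h0' (ea_le_centralizer hV)
  refine ⟨hF.1, p, k, hp, by rw [← hk.card, card_map_of_injective (subtype_injective _)], hF.2, fun _ =>
    ⟨by rw [← hk.card, ← Nat.card_eq_fintype_card]; exact h4, ?_⟩⟩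
  have h6 : ∀ x : stabilizer G α, x ∈ fittingSubgroup (stabilizer G α) ↔
      (x : G) ∈ (fittingSubgroup (stabilizer G α)).map (stabilizer G α).subtype := fun x =>
    (mem_map_iff_mem (subtype_injective _)).symm
  generalize (fittingSubgroup (stabilizer G α)).map (stabilizer G α).subtype = V at hV hk h2 h3 h5 h6
  haveI := hV.1
  letI : CommGroup V := { (inferInstance : Group V) with mul_comm := mul_comm' }
  obtain ⟨ρ, hρ⟩ := exists_matrix_rep (p := p) (V := V) (fun v => Subtype.ext (hV.2 v v.2))
    hk.card (CfsgH1.conjHom h2)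
  refine ⟨ρ.toHomUnits, Subgroup.ext fun x => ?_⟩
  rw [MonoidHom.mem_ker, ← Units.val_eq_one, MonoidHom.coe_toHomUnits, hρ, h6]
  exact (CfsgH1.mem_ker_conjHom h2 x).trans ⟨fun e => h5 ⟨x.2, e⟩, fun e => ea_le_centralizer hV e⟩


end Cfsg.Agent.S3497
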