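import Cfsg.Statements.S3498
import Cfsg.Agent.H1.Frob

set_option autoImplicit false
open Cfsg

namespace Cfsg.Agent.S3498

open CfsgH1 Subgroup
open scoped Pointwise

/-- A maximal subgroup of a finite almost simple group does not have prime order. Here G is almost simple in the sense that it has a non-abelian simple normal subgroup T with trivial centralizer. -/
theorem result {G : Type*} [Group G] [Finite G] (T : Subgroup G) [T.Normal] (hT : IsSimpleGroup T) (hTc : ¬ IsMulCommutative T)
    (hC : Subgroup.centralizer (T : Set G) = ⊥) (H : Subgroup G) (hmax : IsCoatom H) : ¬ (Nat.card H).Prime := by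
  intro hp
  have := Fact.mk hp
  have hb : H ≠ ⊥ := fun e => by simp [e] at hp; exact Nat.not_prime_one hp
  have key : ∀ K : Subgroup G, K.Normal → K ≠ ⊥ → T ≤ K := fun K _ hK => by
    rcases (inferInstance : (K.subgroupOf T).Normal).eq_bot_or_eq_top with h | h
    · refine absurd (eq_bot_iff.2 (hC ▸ fun k hk t ht => ?_)) hK
      exact (commute_of_normal_of_disjoint T K inferInstance inferInstance (subgroupOf_eq_bot.1 h).symm t k ht hk).eq
    · exact subgroupOf_eq_top.1 h
  have nil : ∀ K : Subgroup G, K.Normal → K ≠ ⊥ → ¬Group.IsNilpotent K := fun K _ hK _ => by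
    have := isNilpotent_of_le ‹_› (key K ‹_› hK)
    exact hTc ⟨⟨IsSimpleGroup.comm_iff_isSolvable.2 inferInstance⟩⟩
  have hF : IsFrobeniusComplement H := ⟨hb, hmax.1, fun g hg => by
    by_contra hc
    have h1 : H ⊓ MulAut.conj g • H = H := eq_of_le_of_card_ge inf_le_left
      (((Nat.dvd_prime hp).1 (card_dvd_of_le inf_le_left)).resolve_left (mt card_eq_one.1 hc)).ge
    have h2 : g ∈ normalizer (H : Set G) := conj_smul_eq_iff_mem_normalizer.1
      (eq_of_le_of_card_ge (inf_eq_left.1 h1) (card_conj_smul g H).le).symm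
    have := normalizer_eq_top_iff.1 (hmax.2 _ (lt_of_le_of_ne le_normalizer fun e => hg (e ▸ h2)))
    have := isCyclic_of_prime_card (α := H) rfl
    exact nil H ‹_› hb (isNilpotent_of_isMulCommutative)⟩
  obtain ⟨N, -, _, h2, h3, h4⟩ := frob_data hF
  exact nil N ‹_› h3 (nilpotent_of_fpf' le_normalizer_of_normal hb h4)

end Cfsg.Agent.S3498
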