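import Cfsg.Statements.S3501
import Cfsg.Agent.H3.Pm4
import Cfsg.Agent.H1.Frob
import Cfsg.Agent.H1.Coprime
import Cfsg.Agent.H2.PGroup
import Cfsg.Agent.H2.SylowIn

set_option autoImplicit false
open Cfsg

namespace Cfsg.Agent.S3501

open CfsgPm MulAction Subgroup CfsgH8 CfsgH1
open CfsgH2 (cj)
theorem exists_der (G Ω : Type*) [Group G] [Finite G] [MulAction G Ω] [Finite Ω] [Nontrivial Ω] [IsPretransitive G Ω] :
    ∃ g : G, ∀ a : Ω, g • a ≠ a := by
  by_contra h
  obtain ⟨a, b, hab⟩ := exists_pair_ne Ω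
  obtain ⟨g, e⟩ := (out_one (Ω := Ω) (⊥ : Subgroup G) fun g hg => absurd ⟨g, hg⟩ h).1.1 a b
  exact hab (by rw [← e, Subsingleton.elim g 1, one_smul])

/-- Let a finite group G act faithfully and primitively on a finite set Ω with at least two points, and suppose G is not almost simple (it has no non-abelian simple normal subgroup with trivial centralizer). Then the derangements of G form a single conjugacy class if and only if G is sharply 2-transitive (2-transitive, and no non-identity element fixes two points). -/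
theorem result {G : Type*} [Group G] [Finite G] {Ω : Type*} [Fintype Ω] [MulAction G Ω] [FaithfulSMul G Ω] (hΩ : 2 ≤ Fintype.card Ω) (hprim : MulAction.IsPreprimitive G Ω) (hnas : ¬ ∃ T : Subgroup G, T.Normal ∧ IsSimpleGroup T ∧ ¬ IsMulCommutative T ∧ Subgroup.centralizer (T : Set G) = ⊥) :
    Nat.card {c : ConjClasses G // ∃ g : G, ConjClasses.mk g = c ∧ ∀ ω : Ω, g • ω ≠ ω} = 1 ↔ (MulAction.IsMultiplyPretransitive G Ω 2 ∧ ∀ g : G, g ≠ 1 → ∀ a b : Ω, a ≠ b → g • a = a → g • b ≠ b) := by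
  have : Nontrivial Ω := Fintype.one_lt_card_iff_nontrivial.1 hΩ
  rw [Nat.card_eq_one_iff_unique]
  obtain ⟨z, hz⟩ := exists_der G Ω
  have d1 : ∀ y : G, (∀ ω : Ω, y • ω ≠ ω) → y ≠ 1 := fun y hy e => hy (Classical.arbitrary Ω) (by simp [e])
  refine ⟨fun ⟨hsub, _⟩ => ?_, fun ⟨h2, hs⟩ => ⟨⟨?_⟩, ⟨⟨_, z, rfl, hz⟩⟩⟩⟩
  swap
  · rintro ⟨_, x, rfl, hx⟩ ⟨_, y, rfl, hy⟩
    obtain ⟨K, hK, -⟩ := exists_frob_kernel (G := G) (X := Ω) fun g a b h ha hb => by_contra fun e => hs g e a b h ha hb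
    obtain ⟨a⟩ : Nonempty Ω := inferInstance
    obtain ⟨g, h1, h3⟩ := mt_two h2 (hx a).symm (hy a).symm
    refine Subtype.ext (ConjClasses.mk_eq_mk_iff_isConj.2 (isConj_iff.2 ⟨g, eq_of_inv_mul_eq_one (((hK _).1 (mul_mem (inv_mem
      ((hK _).2 (Or.inr fun b e => hx (g⁻¹ • b) (by simpa [mul_smul, eq_inv_smul_iff] using e)))) ((hK y).2 (Or.inr hy)))).resolve_right
      fun h => h a ?_)⟩))
    rw [mul_smul, inv_smul_eq_iff, mul_smul, mul_smul, inv_smul_eq_iff.2 h1.symm, h3]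
  have cl : ∀ x y : G, (∀ ω : Ω, x • ω ≠ ω) → (∀ ω : Ω, y • ω ≠ ω) → ∃ g, g * x * g⁻¹ = y := fun x y hx hy =>
    isConj_iff.1 (ConjClasses.mk_eq_mk_iff_isConj.1 (congrArg Subtype.val (hsub.1 ⟨_, x, rfl, hx⟩ ⟨_, y, rfl, hy⟩)))
  have dN : ∀ M : Subgroup G, M.Normal → M ≠ ⊥ → ∀ y : G, (∀ ω : Ω, y • ω ≠ ω) → y ∈ M := fun M hM h y hy => by
    have := trans_of_normal' hprim M h
    obtain ⟨x, hx⟩ := exists_der M Ω
    obtain ⟨g, rfl⟩ := cl x y hx hy
    exact hM.conj_mem _ x.2 g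
  obtain ⟨N, hN, N0, -, hmin⟩ := exists_minNormal_le (⊤ : Subgroup G) fun e => d1 z hz (e.le trivial)
  have uq : ∀ M : Subgroup G, M.Normal → M ≠ ⊥ → N ≤ M := fun M hM h => inf_eq_left.1 ((hmin (N ⊓ M) inferInstance
    inf_le_left).resolve_left fun e => d1 z hz (e.le ⟨dN N hN N0 z hz, dN M hM h z hz⟩))
  have := trans_of_normal' hprim N N0
  have ab : N ≤ centralizer (N : Set G) := by
    refine uq _ inferInstance fun ab => ?_
    obtain ⟨T, -, ⟨TN, T0, hT⟩, Tm⟩ := CfsgH2.exists_minimal_subgroup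
      (Φ := fun T => T ≤ N ∧ T ≠ ⊥ ∧ N ≤ normalizer (T : Set G)) ⟨le_rfl, N0, le_normalizer⟩
    replace Tm : ∀ K, K ≤ T → N ≤ normalizer (K : Set G) → K = ⊥ ∨ K = T := fun K h1 h2 =>
      or_iff_not_imp_left.2 fun h => Tm K ⟨h1.trans TN, h, h2⟩ h1
    have cN : ∀ g, cj g T ≤ N := fun g => CfsgH2.cj_eq_of_normal g N ▸ CfsgH2.cj_mono g TN
    have cT : ∀ g, cj g T = T ∨ cj g T ≤ centralizer (T : Set G) := fun g => by
      have h : N ≤ normalizer (cj g T : Set G) := by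
        rw [← CfsgH2.cj_normalizer, ← CfsgH2.cj_eq_of_normal g N]; exact CfsgH2.cj_mono g hT
      refine (Tm (T ⊓ cj g T) inf_le_left (le_normalizer_inf hT h)).symm.imp (fun e => (eq_of_le_of_card_le (inf_eq_left.1 e)
        (CfsgH2.card_cj g T).le).symm) fun e => commutator_eq_bot_iff_le_centralizer.1 (eq_bot_iff.2 ((le_inf
        (commutator_le_right_of_le_normalizer ((cN g).trans hT)) (commutator_le_left_of_le_normalizer (TN.trans h))).trans e.le))
    set C := N ⊓ centralizer (T : Set G) with hC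
    have nC : N ≤ normalizer (C : Set G) := le_normalizer_inf le_normalizer (le_normalizer_centralizer hT)
    have NT : N ≤ T ⊔ C := (uq (normalClosure T) inferInstance fun e => T0 (eq_bot_iff.2 (e ▸ le_normalClosure))).trans
      ((closure_le _).2 fun x hx => by
        obtain ⟨t, ht, h⟩ := Group.mem_conjugatesOfSet_iff.1 hx
        obtain ⟨g, rfl⟩ := isConj_iff.1 h
        have := CfsgH2.conj_mem_cj g ht
        rcases cT g with e | e
        exacts [mem_sup_left (e.le this), mem_sup_right ⟨cN g this, e this⟩])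
    have TC : T ⊓ centralizer (T : Set G) = ⊥ := (Tm _ inf_le_left (le_normalizer_inf hT (le_normalizer_centralizer hT))).resolve_right
      fun e => T0 (eq_bot_iff.2 (ab ▸ le_centralizer_iff.1 (NT.trans (sup_le (inf_eq_left.1 e) inf_le_right))))
    obtain ⟨⟨c, hc⟩, c1⟩ := ne_bot_iff_exists_ne_one.1 fun e : C = ⊥ => by
      obtain rfl : N = T := le_antisymm (by simpa [e] using NT) TN
      have := (nontrivial_iff_ne_bot _).2 N0
      refine hnas ⟨N, hN, ⟨fun K hK => ?_⟩, fun h => N0 (eq_bot_iff.2 (ab ▸ le_centralizer N)), ab⟩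
      refine (Tm _ (map_subtype_le K) fun g hg => le_normalizer_map N.subtype ⟨⟨g, hg⟩, le_normalizer_of_normal (mem_top _), rfl⟩).imp
        (map_eq_bot_iff_of_injective _ (subtype_injective _)).1 fun e => map_injective N.subtype_injective (by
          rw [e, ← MonoidHom.range_eq_map, range_subtype])
    by_cases h : ∃ t ∈ T, ∀ c ∈ C, ∀ ω : Ω, (t * c) • ω ≠ ω
    · obtain ⟨t, ht, h⟩ := h
      have h1 := h 1 C.one_mem
      rw [mul_one] at h1
      obtain ⟨g, e⟩ := cl _ _ h1 (h c hc)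
      have := e ▸ CfsgH2.conj_mem_cj g ht
      rcases cT g with e | e
      · exact c1 (Subtype.ext (TC.le ⟨(mul_mem_cancel_left ht).1 (e.le this), hc.2⟩))
      · exact d1 t h1 (TC.le ⟨ht, ((centralizer (T : Set G)).mul_mem_cancel_right hc.2).1 (e this)⟩)
    push Not at h
    have h1 : ∀ t ∈ T, t ≠ 1 → ∀ a : Ω, t • a ≠ a := fun t ht t1 a e => by
      have h2 : ((N ⊓ stabilizer G a) ⊔ C).subgroupOf N = ⊤ := eq_top_of_forall_conj fun n => by
        obtain ⟨u, hu, v, hv, e⟩ := (mem_sup_of_le_normalizer' (TN.trans nC)).1 (NT n.2)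
        obtain ⟨w, hw, ω, e'⟩ := h u hu
        obtain ⟨m, rfl⟩ := exists_smul_eq N a ω
        refine ⟨m, mem_subgroupOf.2 (?_ : (m : G)⁻¹ * n * m ∈ _)⟩
        rw [show (m : G)⁻¹ * n * m = (m : G)⁻¹ * (u * w) * m * ((m : G)⁻¹ * (w⁻¹ * v) * m) by rw [← e]; group]
        exact mul_mem_sup ⟨N.mul_mem (N.mul_mem (N.inv_mem m.2) (N.mul_mem (TN hu) hw.1)) m.2, (mem_stabilizer_smul_iff _ _ _).1 e'⟩
          (inv_conj_mem_of_mem_normalizer (nC m.2) (mul_mem (inv_mem hw) hv))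
      rcases Tm (T ⊓ stabilizer G a) inf_le_left ((subgroupOf_eq_top.1 h2).trans (sup_le (le_normalizer_inf (inf_le_left.trans hT)
        (inf_le_right.trans le_normalizer)) (inf_le_right.trans ((centralizer_le (SetLike.coe_subset_coe.2 inf_le_left)).trans
        (centralizer_le_normalizer _))))) with h3 | h3
      · exact t1 (h3.le ⟨ht, e⟩)
      refine t1 (eq_of_smul_eq_smul (α := Ω) fun b => ?_)
      obtain ⟨m, rfl⟩ := exists_smul_eq N a b
      exact ((mem_stabilizer_smul_iff _ _ _).2 (h3.ge (inv_conj_mem_of_mem_normalizer (hT m.2) ht)).2).trans (one_smul _ _).symm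
    obtain ⟨p, hp, hd⟩ := Nat.exists_prime_and_dvd (mt card_eq_one.1 T0)
    have := Fact.mk hp
    obtain ⟨t, ht⟩ := exists_prime_orderOf_dvd_card' p hd
    have hP : IsPGroup p T := isPGroup_of_forall_pow_eq_one fun x hx => by
      rcases eq_or_ne x 1 with rfl | x1
      · simp
      obtain ⟨g, rfl⟩ := cl t x (h1 t t.2 fun e => hp.ne_one (by rw [← ht, ← orderOf_coe, e, orderOf_one])) (h1 x hx x1)
      rw [conj_pow, ← ht, ← orderOf_coe, pow_orderOf_eq_one]; simp
    have := (nontrivial_iff_ne_bot _).2 T0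
    obtain ⟨x, x1⟩ := ne_bot_iff_exists_ne_one.1 ((nontrivial_iff_ne_bot _).1 hP.center_nontrivial)
    exact x1 (Subtype.ext (Subtype.ext (TC.le ⟨x.1.2, fun y hy => congrArg Subtype.val (mem_center_iff.1 x.2 ⟨y, hy⟩)⟩)))
  have reg : ∀ n ∈ N, n ≠ 1 → ∀ a : Ω, n • a ≠ a := fun n hn h a e => h (centralizer_semiregular N (ab hn) e)
  refine ⟨is_two_pretransitive_iff.2 fun {a b c d} h1 h2 => ?_, fun g hg a b h ha hb => ?_⟩
  · obtain ⟨n, rfl⟩ := exists_smul_eq N a b
    obtain ⟨n', rfl⟩ := exists_smul_eq N c d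
    obtain ⟨g, e⟩ := cl n n' (reg n n.2 fun e => h1 (by rw [Subgroup.smul_def, e, one_smul]))
      (reg n' n'.2 fun e => h2 (by rw [Subgroup.smul_def, e, one_smul]))
    obtain ⟨m, rfl⟩ := exists_smul_eq N (g • a) c
    refine ⟨m * g, mul_smul _ _ _, ?_⟩
    simp only [Subgroup.smul_def, ← mul_smul]
    rw [← mul_assoc (n' : G), ← ab n'.2 m m.2, ← e]
    congr 1; group
  · have := two_le_fx.2 ⟨a, b, h, ha, hb⟩
    rw [(out_one N (dN N hN N0)).2 g fun h => reg g h hg a ha] at this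
    omega

end Cfsg.Agent.S3501
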