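import Cfsg.Statements.S3504

set_option autoImplicit false
open Cfsg

namespace Cfsg.Agent.S3504

open Equiv Equiv.Perm

/-- For n ≥ 5, the fixed-point-free permutations of prime order in the symmetric group of degree n form a single conjugacy class if and only if n is a prime power. -/
theorem result (n : ℕ) (hn : 5 ≤ n) :
    Nat.card {c : ConjClasses (Equiv.Perm (Fin n)) // ∃ g : Equiv.Perm (Fin n), ConjClasses.mk g = c ∧ (orderOf g).Prime ∧ ∀ i : Fin n, g i ≠ i} = 1 ↔ IsPrimePow n := by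
  have c : ∀ g : Perm (Fin n), (orderOf g).Prime → (∀ i, g i ≠ i) → orderOf g ∣ n ∧ g.cycleType = Multiset.replicate (n / orderOf g) (orderOf g) := fun g h1 h2 => by
    obtain ⟨k, hk⟩ := cycleType_prime_order h1
    have := g.sum_cycleType
    rw [hk, Finset.eq_univ_iff_forall.2 fun i => mem_support.2 (h2 i), Multiset.sum_replicate, smul_eq_mul, Finset.card_fin] at this
    exact ⟨Dvd.intro_left _ this, by rw [hk, Nat.div_eq_of_eq_mul_left h1.pos this.symm]⟩
  have e : ∀ p, p.Prime → p ∣ n → ∃ g : Perm (Fin n), orderOf g = p ∧ ∀ i, g i ≠ i := fun p hp h => by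
    have s : (Multiset.replicate (n / p) p).sum = n := by rw [Multiset.sum_replicate, smul_eq_mul, Nat.div_mul_cancel h]
    obtain ⟨g, hg⟩ := (exists_with_cycleType_iff (Fin n) (m := Multiset.replicate (n / p) p)).2
      ⟨by simp [s], fun a ha => Multiset.eq_of_mem_replicate ha ▸ hp.two_le⟩
    refine ⟨g, ?_, fun i => mem_support.1 ?_⟩
    · rw [← lcm_cycleType, hg]
      refine Nat.dvd_antisymm (Multiset.lcm_dvd.2 fun a ha => Multiset.eq_of_mem_replicate ha ▸ dvd_rfl)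
        (Multiset.dvd_lcm (Multiset.mem_replicate.2 ⟨(Nat.div_pos (Nat.le_of_dvd (by omega) h) hp.pos).ne', rfl⟩))
    · rw [Finset.eq_univ_of_card g.support (by rw [← sum_cycleType, hg, s, Fintype.card_fin])]; simp
  rw [isPrimePow_iff_unique_prime_dvd, Nat.card_eq_one_iff_exists]
  refine ⟨fun ⟨⟨_, g, rfl, h1, h2⟩, h⟩ => ⟨_, ⟨h1, (c g h1 h2).1⟩, fun p hp => ?_⟩, fun ⟨p, hp, h⟩ => ?_⟩
  · obtain ⟨k, rfl, h3⟩ := e p hp.1 hp.2
    obtain ⟨u, rfl⟩ := isConj_iff.1 (ConjClasses.mk_eq_mk_iff_isConj.1 (congrArg Subtype.val (h ⟨_, k, rfl, hp.1, h3⟩)))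
    exact ((MulAut.conj u).orderOf_eq k).symm
  obtain ⟨k, rfl, h3⟩ := e p hp.1 hp.2
  refine ⟨⟨_, k, rfl, hp.1, h3⟩, ?_⟩
  rintro ⟨_, g, rfl, h1, h2⟩
  exact Subtype.ext (ConjClasses.mk_eq_mk_iff_isConj.2 (isConj_iff_cycleType_eq.2
    (by rw [(c g h1 h2).2, (c k hp.1 h3).2, h _ ⟨h1, (c g h1 h2).1⟩])))

end Cfsg.Agent.S3504
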