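import Cfsg.Statements.S3508
import Cfsg.Agent.H3.Pm4

set_option autoImplicit false
open Cfsg

namespace Cfsg.Agent.S3508

open CfsgPm MulAction Subgroup CfsgH8 Polynomial Finset
theorem lin {V : Type*} [AddCommGroup V] {p : ℕ} [hp : Fact p.Prime] [Module (ZMod p) V] [Module.Finite (ZMod p) V]
    (φ : Module.End (ZMod p) V) {r k : ℕ} (h : φ ^ p ^ r = 1) (hk : Module.finrank (ZMod p) V < p ^ k) :
    φ ^ p ^ k = 1 ∧ ∑ i ∈ range (p ^ k), φ ^ i = 0 := by
  have e : ∀ r, φ ^ p ^ r - 1 = (φ - 1) ^ p ^ r := fun r => by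
    simpa using congrArg (aeval φ) (sub_pow_char_pow (X : (ZMod p)[X]) 1 (p := p) r).symm
  have h1 : IsNilpotent (φ - 1) := ⟨_, by rw [← e, h, sub_self]⟩
  have h2 := (φ - 1).aeval_self_charpoly
  rw [h1.charpoly_eq_X_pow_finrank, map_pow, aeval_X] at h2
  refine ⟨by rw [← sub_eq_zero, e, pow_eq_zero_of_le hk.le h2], ?_⟩
  have h3 : ∑ i ∈ range (p ^ k), (X : (ZMod p)[X]) ^ i = (X - 1) ^ (p ^ k - 1) := mul_right_cancel₀ (X_sub_C_ne_zero 1) (by
    rw [C_1, geom_sum_mul, ← pow_succ, Nat.sub_add_cancel (by omega), sub_pow_char_pow, one_pow])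
  simpa [pow_eq_zero_of_le (by omega : _ ≤ p ^ k - 1) h2] using congrArg (aeval φ) h3

/-- Let a finite group G act faithfully on a set Ω with p ^ m points (p prime) and have an elementary abelian normal p-subgroup N acting regularly on Ω (so G is a group of affine transformations of an m-dimensional space over the field with p elements). If G contains an element of order p ^ r with r ≥ 1, then p ^ (r − 1) ≤ m. In particular an element of order p ^ m forces m ≤ 2, and m ≤ 1 when p is odd. -/
theorem result {G : Type*} [Group G] [Finite G] {Ω : Type*} [Fintype Ω] [MulAction G Ω] [FaithfulSMul G Ω] (p m : ℕ) (hp : p.Prime) (hcard : Fintype.card Ω = p ^ m)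
    (N : Subgroup G) [N.Normal] (hNc : IsMulCommutative N) (hNp : ∀ n ∈ N, n ^ p = 1)
    (hNtr : MulAction.IsPretransitive N Ω) (hNreg : ∀ ω : Ω, MulAction.stabilizer N ω = ⊥)
    (g : G) (r : ℕ) (hr : 1 ≤ r) (hg : orderOf g = p ^ r) :
    p ^ (r - 1) ≤ m ∧ (r = m → m ≤ 2 ∧ (2 < p → m ≤ 1)) := by
  have key : p ^ (r - 1) ≤ m := by
    by_contra! hlt
    have := Fact.mk hp
    have : Nonempty Ω := Fintype.card_pos_iff.1 (hcard ▸ pow_pos hp.pos m)
    obtain ⟨a⟩ := this
    letI : CommGroup N := { (inferInstance : Group N) with mul_comm := hNc.1.1 }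
    letI : Module (ZMod p) (Additive N) := AddCommGroup.zmodModule (n := p) fun x => Subtype.ext (hNp _ x.toMul.2)
    have : Module.Finite (ZMod p) (Additive N) := Module.Finite.of_finite
    have hm : Module.finrank (ZMod p) (Additive N) = m := Nat.pow_right_injective hp.two_le (by
      have := Module.natCard_eq_pow_finrank (K := ZMod p) (V := Additive N)
      rw [← Nat.card_congr Additive.ofMul, card_eq_of_regular (hNreg a), Nat.card_eq_fintype_card, hcard, Nat.card_zmod] at this
      exact this.symm)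
    obtain ⟨n, hn⟩ := hNtr.1 a (g • a)
    let φ : Module.End (ZMod p) (Additive N) := (MulAut.conjNormal g : N ≃* N).toMonoidHom.toAdditive.toZModLinearMap p
    have h1 : ∀ k (x : Additive N), (((φ ^ k) x).toMul : G) = g ^ k * x.toMul * (g ^ k)⁻¹ := fun k => by
      induction k with
      | zero => simp
      | succ k ih => intro x; rw [pow_succ, Module.End.mul_apply, ih]; simp [φ, pow_succ, mul_assoc]
    have h2 : ∀ k, g ^ k • a = ((((∑ i ∈ range k, φ ^ i) (Additive.ofMul n)).toMul : N) : G) • a := fun k => by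
      induction k with
      | zero => simp
      | succ k ih =>
        rw [sum_range_succ_comm, LinearMap.add_apply, toMul_add, Subgroup.coe_mul, mul_smul, ← ih, h1, pow_succ]
        simp [mul_smul, ← hn, Subgroup.smul_def]
    obtain ⟨h3, h4⟩ := lin φ (r := r) (LinearMap.ext fun x => Additive.toMul.injective (Subtype.ext (by
      rw [h1, ← hg, pow_orderOf_eq_one]; simp))) (hm ▸ hlt)
    have h5 := centralizer_semiregular N (c := g ^ p ^ (r - 1)) (fun x hx => eq_mul_inv_iff_mul_eq.1 (by
      simpa [h3] using h1 (p ^ (r - 1)) (Additive.ofMul ⟨x, hx⟩))) (a := a) (by rw [h2, h4]; simp)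
    have := Nat.le_of_dvd (pow_pos hp.pos _) (hg ▸ orderOf_dvd_of_pow_eq_one h5)
    rw [pow_le_pow_iff_right₀ hp.one_lt] at this
    omega
  refine ⟨key, ?_⟩
  rintro rfl
  obtain ⟨k, rfl⟩ := Nat.exists_eq_add_of_le' hr
  rw [Nat.add_sub_cancel] at key
  refine ⟨by_contra fun h => ?_, fun h2 => by_contra fun h => ?_⟩
  · obtain ⟨k, rfl⟩ := Nat.exists_eq_add_of_le' (show 2 ≤ k by omega)
    have := (Nat.pow_le_pow_left hp.two_le _).trans key
    rw [pow_add] at this
    have := k.lt_two_pow_self
    omega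
  · obtain ⟨k, rfl⟩ := Nat.exists_eq_add_of_le' (show 1 ≤ k by omega)
    have := (Nat.pow_le_pow_left (show 3 ≤ p from h2) _).trans key
    rw [pow_add] at this
    have := Nat.lt_pow_self (n := k) (by norm_num : 1 < 3)
    omega

end Cfsg.Agent.S3508
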