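import Cfsg.Statements.S3511
import Cfsg.Agent.H3.Pm1

set_option autoImplicit false
open Cfsg

namespace Cfsg.Agent.S3511

open Subgroup MulAction

/-- Let a finite group G act faithfully on a set Ω. If every element of G of square-free order has a regular cycle (an orbit of the cyclic group it generates with trivial stabilizer), then every element of G has a regular cycle. -/
theorem result {G : Type*} [Group G] [Finite G] {Ω : Type*} [MulAction G Ω] [FaithfulSMul G Ω]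
    (h : ∀ g : G, Squarefree (orderOf g) → ∃ ω : Ω, MulAction.stabilizer (Subgroup.zpowers g) ω = ⊥) (g : G) :
    ∃ ω : Ω, MulAction.stabilizer (Subgroup.zpowers g) ω = ⊥ := by
  have h0 := (orderOf_pos g).ne'
  obtain ⟨m, hm⟩ := Nat.prod_primeFactors_dvd (orderOf g)
  have m0 : m ≠ 0 := by rintro rfl; exact h0 hm
  obtain ⟨a, ha⟩ := h (g ^ m) (by
    rw [orderOf_pow_of_dvd m0 (Dvd.intro_left _ hm.symm), Nat.div_eq_of_eq_mul_left (Nat.pos_of_ne_zero m0) hm]
    exact Finset.squarefree_prod_of_pairwise_isCoprime (fun p hp q hq h => Nat.coprime_iff_isRelPrime.1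
      ((Nat.coprime_primes (Nat.prime_of_mem_primeFactors hp) (Nat.prime_of_mem_primeFactors hq)).2 h))
      fun p hp => (Nat.prime_of_mem_primeFactors hp).prime.squarefree)
  refine ⟨a, by_contra fun hc => ?_⟩
  obtain ⟨p, hp, hd⟩ := Nat.exists_prime_and_dvd (mt card_eq_one.1 hc)
  have := Fact.mk hp
  obtain ⟨⟨⟨x, hx0⟩, hx⟩, ho⟩ := exists_prime_orderOf_dvd_card' p hd
  rw [Subgroup.orderOf_mk, Subgroup.orderOf_mk] at ho
  obtain ⟨k, rfl⟩ := mem_zpowers_iff.1 hx0
  have h1 : (orderOf g : ℤ) ∣ k * p := by rw [orderOf_dvd_iff_zpow_eq_one, zpow_mul, zpow_natCast, ← ho, pow_orderOf_eq_one]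
  obtain ⟨r, hr⟩ := Finset.dvd_prod_of_mem (fun p => p) (Nat.mem_primeFactors.2 ⟨hp, ho ▸ orderOf_dvd_of_mem_zpowers ⟨k, rfl⟩, h0⟩)
  rw [hm, hr, mul_comm k] at h1
  push_cast at h1
  obtain ⟨j, rfl⟩ := (Dvd.intro_left _ rfl).trans ((mul_dvd_mul_iff_left (by exact_mod_cast hp.ne_zero)).1 (mul_assoc (p : ℤ) _ _ ▸ h1))
  have h2 : (⟨g ^ ((m : ℤ) * j), j, by simp [zpow_mul]⟩ : zpowers (g ^ m)) ∈ stabilizer (zpowers (g ^ m)) a := hx
  rw [ha, mem_bot, Subtype.ext_iff] at h2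
  simp only at h2
  rw [h2, OneMemClass.coe_one, orderOf_one] at ho
  exact hp.one_lt.ne ho

end Cfsg.Agent.S3511
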