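import Cfsg.Statements.S3514
import Cfsg.Agent.H3.Pm1
import Cfsg.Agent.H1.Hall

set_option autoImplicit false
open Cfsg

namespace Cfsg.Agent.S3514

open Subgroup MulAction CfsgPm

/-- Let p be a prime, V a finite vector space over the field with p elements, and H a group of linear transformations of V all of whose orbits on V have size coprime to p. (i) Every normal subgroup K of H has all its orbits on V of size coprime to p. (ii) If N is a group of linear transformations of V of order coprime to p that is normalized by H, then the group generated by N and H has all its orbits on V of size coprime to p. -/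
theorem result (p : ℕ) [Fact p.Prime] {V : Type*} [AddCommGroup V] [Module (ZMod p) V] [Finite V]
    (H : Subgroup (V ≃ₗ[ZMod p] V)) (hH : ∀ v : V, ¬ p ∣ Nat.card {u : V | ∃ h ∈ H, h v = u}) :
    (∀ K : Subgroup (V ≃ₗ[ZMod p] V), K ≤ H → H ≤ Subgroup.normalizer (K : Set (V ≃ₗ[ZMod p] V)) →
        ∀ v : V, ¬ p ∣ Nat.card {u : V | ∃ k ∈ K, k v = u}) ∧
    (∀ N : Subgroup (V ≃ₗ[ZMod p] V), ¬ p ∣ Nat.card N → H ≤ Subgroup.normalizer (N : Set (V ≃ₗ[ZMod p] V)) →
        ∀ v : V, ¬ p ∣ Nat.card {u : V | ∃ x ∈ N ⊔ H, x v = u}) := by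
  have key : ∀ (K : Subgroup (V ≃ₗ[ZMod p] V)) v, Nat.card {u : V | ∃ h ∈ K, h v = u} = (stabilizer _ v).relIndex K := fun K v => by
    rw [← ncard_orbit_sub, ← Nat.card_coe_set_eq]; congr 2; ext u
    exact ⟨fun ⟨h, h1, h2⟩ => ⟨⟨h, h1⟩, h2⟩, fun ⟨h, h2⟩ => ⟨h, h.2, h2⟩⟩
  have : Finite (V ≃ₗ[ZMod p] V) := Finite.of_injective _ DFunLike.coe_injective
  simp only [key] at hH ⊢
  refine ⟨fun K h1 h2 v hd => hH v (hd.trans ?_), fun N h1 h2 v hd => ?_⟩
  · have := (normal_subgroupOf_iff_le_normalizer h1).2 h2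
    have h3 := CfsgH1.relIndex_normal_dvd_index ((stabilizer _ v).subgroupOf H) (K.subgroupOf H)
    rwa [relIndex_subgroupOf h1] at h3
  · have h3 := relIndex_mul_relIndex (stabilizer _ v ⊓ H) H (N ⊔ H) inf_le_right le_sup_right
    rw [inf_relIndex_right] at h3
    rcases (Nat.Prime.dvd_mul Fact.out).1 (h3 ▸ hd.trans (relIndex_dvd_of_le_left _ inf_le_left)) with h | h
    · exact hH v h
    · rw [← CfsgH1.relIndex_eq_relIndex_sup h2] at h
      exact h1 (h.trans (relIndex_dvd_card _ _))

end Cfsg.Agent.S3514
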