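import Cfsg.Statements.S3516

set_option autoImplicit false
open Cfsg

namespace Cfsg.Agent.S3516

theorem affine {F V : Type*} [Field F] [AddCommGroup V] [Module F V] (h2 : (2 : F) ≠ 0) (σ : Equiv.Perm V)
    (h : ∀ t : Fin 3 → V, ∃ (A : V ≃ₗ[F] V) (b : V), ∀ i, σ (t i) = A (t i) + b) : ∃ (A : V ≃ₗ[F] V) (b : V), ∀ x, σ x = A x + b := by
  have k : ∀ (c : F) x y, σ ((1 - c) • x + c • y) = (1 - c) • σ x + c • σ y := fun c x y => by
    obtain ⟨A, b, e⟩ := h ![x, y, (1 - c) • x + c • y]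
    have e0 : σ x = A x + b := e 0
    have e1 : σ y = A y + b := e 1
    have e2 : σ ((1 - c) • x + c • y) = A ((1 - c) • x + c • y) + b := e 2
    rw [e0, e1, e2, map_add, map_smul, map_smul]
    module
  have k1 : ∀ (c : F) y, σ (c • y) - σ 0 = c • (σ y - σ 0) := fun c y => by
    have := k c 0 y
    rw [smul_zero, zero_add] at this
    rw [this]; module
  have e : (1 - 2⁻¹ : F) = 2⁻¹ := by field_simp; norm_num
  refine ⟨LinearEquiv.ofBijective (⟨⟨fun x => σ x - σ 0, fun x y => ?_⟩, k1⟩ : V →ₗ[F] V)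
    ((Equiv.subRight (σ 0)).bijective.comp σ.bijective), σ 0, fun x => (sub_add_cancel _ _).symm⟩
  have := k1 2⁻¹ (x + y)
  have k2 := k 2⁻¹ x y
  rw [e] at k2
  rw [smul_add, k2] at this
  refine smul_right_injective V (inv_ne_zero h2) (this.symm.trans ?_)
  linear_combination (norm := module) e.symm • σ 0

/-- Let p be an odd prime, d ≥ 3, and G a group of affine permutations x ↦ Ax + b of V = F_p^d containing all translations and all maps x ↦ Ax with A of determinant 1. Then the 3-closure of G is the full affine group: a permutation σ of V agrees on every triple of points with some element of G if and only if σ is an affine map. -/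
theorem result (p : ℕ) [Fact p.Prime] (hp : p ≠ 2) (d : ℕ) (hd : 3 ≤ d) (G : Subgroup (Equiv.Perm (Fin d → ZMod p)))
    (haff : (G : Set (Equiv.Perm (Fin d → ZMod p))) ⊆ {τ : Equiv.Perm (Fin d → ZMod p) | ∃ (A : (Fin d → ZMod p) ≃ₗ[ZMod p] (Fin d → ZMod p)) (b : Fin d → ZMod p), ∀ x, τ x = A x + b})
    (htrans : ∀ b : Fin d → ZMod p, ∃ g ∈ G, ∀ x, g x = x + b)
    (hsl : ∀ A : (Fin d → ZMod p) ≃ₗ[ZMod p] (Fin d → ZMod p), LinearMap.det (A : (Fin d → ZMod p) →ₗ[ZMod p] (Fin d → ZMod p)) = 1 → ∃ g ∈ G, ∀ x, g x = A x)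
    (σ : Equiv.Perm (Fin d → ZMod p)) :
    (∀ t : Fin 3 → (Fin d → ZMod p), ∃ g ∈ G, ∀ i, σ (t i) = g (t i)) ↔ σ ∈ {τ : Equiv.Perm (Fin d → ZMod p) | ∃ (A : (Fin d → ZMod p) ≃ₗ[ZMod p] (Fin d → ZMod p)) (b : Fin d → ZMod p), ∀ x, τ x = A x + b} := by
  have h2 : (2 : ZMod p) ≠ 0 := fun e => hp ((Nat.prime_dvd_prime_iff_eq Fact.out Nat.prime_two).1 ((ZMod.natCast_eq_zero_iff 2 p).1 e))
  refine ⟨fun h => affine h2 σ fun t => ?_, fun ⟨A, b, h⟩ t => ?_⟩
  · obtain ⟨g, hg, e⟩ := h t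
    obtain ⟨A, b, h⟩ := haff hg
    exact ⟨A, b, fun i => (e i).trans (h _)⟩
  obtain ⟨f, h1, h3⟩ := (Submodule.span (ZMod p) (Set.range ![t 1 - t 0, t 2 - t 0])).exists_le_ker_of_lt_top
    (Submodule.lt_top_of_finrank_lt_finrank ((finrank_range_le_card _).trans_lt (by simp; omega)))
  have ne : LinearMap.det (A : (Fin d → ZMod p) →ₗ[ZMod p] (Fin d → ZMod p)) ≠ 0 := A.isUnit_det'.ne_zero
  obtain ⟨w, hw⟩ := LinearMap.surjective_iff_ne_zero.2 h1 ((LinearMap.det (A : (Fin d → ZMod p) →ₗ[ZMod p] (Fin d → ZMod p)))⁻¹ - 1)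
  obtain ⟨g, hg, e⟩ := hsl ((LinearEquiv.dilatransvection (f := f) (v := w) (by simp [hw, ne])).trans A) (by
    simp [LinearEquiv.coe_trans, hw, ne])
  obtain ⟨u, hu, e'⟩ := htrans (b - f (t 0) • A w)
  refine ⟨u * g, mul_mem hu hg, fun i => ?_⟩
  have : f (t i) = f (t 0) := by
    have a : f (t 1 - t 0) = 0 := h3 (Submodule.subset_span ⟨0, rfl⟩)
    have b : f (t 2 - t 0) = 0 := h3 (Submodule.subset_span ⟨1, rfl⟩)
    rw [map_sub, sub_eq_zero] at a b
    fin_cases i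
    exacts [rfl, a, b]
  simp [e, e', h, LinearEquiv.dilatransvection.apply, this]

end Cfsg.Agent.S3516
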