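import Cfsg.Statements.S3517
import Cfsg.Agent.H5.Lin

set_option autoImplicit false
open Cfsg

namespace Cfsg.Agent.S3517

/-- For d ≥ 3, the 3-closure of the affine group AGL_d(2) acting on F_2^d is the full symmetric group: every permutation of F_2^d agrees on every ordered triple of points with some affine map (AGL_d(2) is 3-transitive). -/
theorem result (d : ℕ) (hd : 3 ≤ d) (σ : Equiv.Perm (Fin d → ZMod 2)) (t : Fin 3 → (Fin d → ZMod 2)) :
    ∃ (A : (Fin d → ZMod 2) ≃ₗ[ZMod 2] (Fin d → ZMod 2)) (b : Fin d → ZMod 2), ∀ i, σ (t i) = A (t i) + b := by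
  open CfsgH5 in
  have one : ∀ u u' : Fin d → ZMod 2, u ≠ 0 → u' ≠ 0 → ∃ A : (Fin d → ZMod 2) ≃ₗ[ZMod 2] (Fin d → ZMod 2), A u = u' :=
    fun u u' h h' => (exists_gl_map_fam (a := fun _ : Unit => u) (b := fun _ => u') (linearIndependent_unique_iff.2 h)
      (linearIndependent_unique_iff.2 h')).imp fun A hA => hA ()
  have li : ∀ u v : Fin d → ZMod 2, u ≠ 0 → v ≠ 0 → u ≠ v → LinearIndependent (ZMod 2) ![u, v] := fun u v h1 h2 h3 =>
    (LinearIndependent.pair_iff' h1).2 fun a => by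
      fin_cases a
      · exact fun e => h2 (e.symm.trans (zero_smul _ u))
      · exact fun e => h3 ((one_smul _ u).symm.trans e)
  obtain ⟨A, h1, h2⟩ : ∃ A : (Fin d → ZMod 2) ≃ₗ[ZMod 2] (Fin d → ZMod 2),
      A (t 1 - t 0) = σ (t 1) - σ (t 0) ∧ A (t 2 - t 0) = σ (t 2) - σ (t 0) := by
    have ne : ∀ {a b}, a ≠ b → σ a - σ b ≠ 0 := fun h => sub_ne_zero.2 (σ.injective.ne h)
    by_cases e1 : t 1 = t 0 <;> by_cases e2 : t 2 = t 0
    · exact ⟨1, by simp [e1, e2]⟩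
    · exact (one _ _ (sub_ne_zero.2 e2) (ne e2)).imp fun A h => ⟨by simp [e1], h⟩
    · exact (one _ _ (sub_ne_zero.2 e1) (ne e1)).imp fun A h => ⟨h, by simp [e2]⟩
    by_cases e3 : t 1 = t 2
    · exact (one _ _ (sub_ne_zero.2 e1) (ne e1)).imp fun A h => ⟨h, e3 ▸ h⟩
    · exact (exists_gl_map_fam (li _ _ (sub_ne_zero.2 e1) (sub_ne_zero.2 e2) (by simpa using e3))
        (li _ _ (ne e1) (ne e2) (by simpa using e3))).imp fun A h => ⟨h 0, h 1⟩
  refine ⟨A, σ (t 0) - A (t 0), fun i => ?_⟩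
  rw [map_sub] at h1 h2
  fin_cases i
  · simp
  · exact (eq_add_of_sub_eq h1.symm).trans (by simp; abel)
  · exact (eq_add_of_sub_eq h2.symm).trans (by simp; abel)

end Cfsg.Agent.S3517
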