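import Cfsg.Statements.S3518
import Cfsg.Agent.H3.Pd1
import Cfsg.Agent.S0675
import Cfsg.Agent.S0678

set_option autoImplicit false
open Cfsg

namespace Cfsg.Agent.S3518

open Subgroup CfsgPm MulAction
theorem agree {p : ℕ} [Fact p.Prime] {σ g : Equiv.Perm (ZMod p)} (h : σ ∈ affineGroup (ZMod p)) (h' : g ∈ affineGroup (ZMod p))
    (e0 : σ 0 = g 0) (e1 : σ 1 = g 1) : σ = g := by
  obtain ⟨a, b, h⟩ := h
  obtain ⟨c, d, h'⟩ := h'
  simp only [h, h', mul_zero, zero_add, mul_one] at e0 e1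
  subst e0
  ext x
  rw [h, h', add_right_cancel e1]
theorem ex {p : ℕ} [Fact p.Prime] {x y u v : ZMod p} (h : x ≠ y) (h' : u ≠ v) : ∃ g ∈ affineGroup (ZMod p), g x = u ∧ g y = v := by
  have := sub_ne_zero.2 h
  have k := div_ne_zero (sub_ne_zero.2 h') this
  refine ⟨(Equiv.mulLeft₀ _ k).trans (Equiv.addRight (u - (u - v) / (x - y) * x)), ⟨Units.mk0 _ k, _, fun _ => rfl⟩, by simp, ?_⟩
  simp only [Equiv.trans_apply, Equiv.mulLeft₀_apply, Equiv.coe_addRight]
  field_simp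
  ring

/-- Closures of subgroups of the one-dimensional affine group. Let p be a prime and G a group of permutations of F_p lying in the affine group AGL₁(p) = {x ↦ ax + b, a ≠ 0} and containing all translations. (1) If G is a proper subgroup of AGL₁(p), then G is 2-closed: a permutation of F_p agreeing on every ordered pair of points with some element of G lies in G. (2) Every permutation of F_p agrees on every ordered pair with some element of AGL₁(p) (the 2-closure of AGL₁(p) is the symmetric group). (3) AGL₁(p) is 3-closed: a permutation agreeing on every ordered triple with some affine map is affine. -/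
theorem result (p : ℕ) [Fact p.Prime] (G : Subgroup (Equiv.Perm (ZMod p))) (hG : G ≤ Cfsg.affineGroup (ZMod p))
    (htrans : ∀ b : ZMod p, ∃ g ∈ G, ∀ x, g x = x + b) :
    (G ≠ Cfsg.affineGroup (ZMod p) → ∀ σ : Equiv.Perm (ZMod p), (∀ t : Fin 2 → ZMod p, ∃ g ∈ G, ∀ i, σ (t i) = g (t i)) → σ ∈ G) ∧
    (∀ σ : Equiv.Perm (ZMod p), (∀ t : Fin 2 → ZMod p, ∃ g ∈ Cfsg.affineGroup (ZMod p), ∀ i, σ (t i) = g (t i))) ∧
    (∀ σ : Equiv.Perm (ZMod p), (∀ t : Fin 3 → ZMod p, ∃ g ∈ Cfsg.affineGroup (ZMod p), ∀ i, σ (t i) = g (t i)) → σ ∈ Cfsg.affineGroup (ZMod p)) := by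
  have c := Nat.card_zmod p
  refine ⟨fun hne σ hσ => ?_, fun σ t => ?_, fun σ h => ?_⟩
  · let X : Subgroup (Equiv.Perm (ZMod p)) :=
      { carrier := {σ | ∀ x y, ∃ g ∈ G, σ x = g x ∧ σ y = g y}
        one_mem' := fun _ _ => ⟨1, one_mem _, rfl, rfl⟩
        mul_mem' := fun {a b} ha hb x y => by
          obtain ⟨g, hg, h1, h2⟩ := ha (b x) (b y)
          obtain ⟨k, hk, h3, h4⟩ := hb x y
          exact ⟨g * k, mul_mem hg hk, h1.trans (congrArg g h3), h2.trans (congrArg g h4)⟩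
        inv_mem' := fun {a} ha x y => by
          obtain ⟨g, hg, h1, h2⟩ := ha (a⁻¹ x) (a⁻¹ y)
          exact ⟨g⁻¹, inv_mem hg, Equiv.Perm.eq_inv_iff_eq.2 (by simpa using h1.symm), Equiv.Perm.eq_inv_iff_eq.2 (by simpa using h2.symm)⟩ }
    have hX : G ≤ X := fun g hg _ _ => ⟨g, hg, rfl, rfl⟩
    have hs : σ ∈ X := fun x y => (hσ ![x, y]).imp fun g h => ⟨h.1, h.2 0, h.2 1⟩
    have : IsPretransitive X (ZMod p) := ⟨fun x y => by
      obtain ⟨g, hg, h⟩ := htrans (y - x)
      exact ⟨⟨g, hX hg⟩, (h x).trans (by ring)⟩⟩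
    have := (S0675.result (by rw [ZMod.card]; exact Fact.out) X).resolve_right fun h => hne (hG.antisymm fun u hu => by
      obtain ⟨g, h1, h2⟩ := is_two_pretransitive_iff.1 h zero_ne_one (u.injective.ne zero_ne_one)
      obtain ⟨k, hk, h3, h4⟩ := g.2 0 1
      rwa [agree hu (hG hk) (h1.symm.trans h3) (h2.symm.trans h4)])
    obtain ⟨t, ht, h⟩ := htrans 1
    have h0 : ∀ (k : ℕ) x, (t ^ k) x = x + k := fun k x => by
      induction k with
      | zero => simp
      | succ k ih => rw [pow_succ', Equiv.Perm.mul_apply, ih, h, Nat.cast_succ, add_assoc]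
    have h1 : t ≠ 1 := fun e => by simpa [e] using h 0
    have h2 : orderOf (⟨t, hX ht⟩ : X) = p := orderOf_eq_prime (Subtype.ext (Equiv.ext fun x => by simpa using h0 p x))
      fun e => h1 (congrArg Subtype.val e)
    obtain ⟨A, _, hA⟩ := normal_of_solv (G := X) (Ω := ZMod p) (by rw [c]; exact Fact.out) ⊤ fun e => h1 (congrArg Subtype.val (mem_bot.1 (e.le (mem_top ⟨t, hX ht⟩))))
    obtain ⟨P, hP⟩ := (IsPGroup.of_card (p := p) (n := 1) (by rw [hA, c, pow_one]) : IsPGroup p A).exists_le_sylow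
    obtain rfl : A = P := eq_of_le_of_card_ge hP (by rw [hA, card_sylow_of_prime c, c])
    have h3 : zpowers (⟨t, hX ht⟩ : X) = P := eq_of_le_of_card_ge (le_sup_left.trans_eq (P.is_maximal'
      ((IsPGroup.of_card (p := p) (n := 1) (by rw [Nat.card_zpowers, h2, pow_one])).to_sup_of_normal_right P.isPGroup') le_sup_right)) (by rw [hA, c, Nat.card_zpowers, h2])
    obtain ⟨k, hk⟩ := (mem_zpowers_iff_mem_range_orderOf.1 (h3.ge (‹P.1.Normal›.conj_mem _ (h3.le (mem_zpowers _)) ⟨σ, hs⟩)) :)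
      |> Finset.mem_image.1
    have h4 : ∀ x, σ (x + 1) = σ x + k := fun x => by
      rw [← h0, ← h]
      simpa using (congrArg (fun u : X => u.1 (σ x)) hk.2).symm
    have h5 : ∀ x : ZMod p, σ x = k * x + σ 0 := fun x => by
      obtain ⟨m, rfl⟩ := ZMod.natCast_zmod_surjective x
      induction m with
      | zero => simp
      | succ m ih => rw [Nat.cast_succ, h4, ih]; ring
    obtain ⟨g, hg, h6, h7⟩ := hs 0 1
    rwa [agree ⟨Units.mk0 (k : ZMod p) fun e => zero_ne_one (σ.injective (by rw [h5 1, e]; simp)), _, h5⟩ (hG hg) h6 h7]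
  · by_cases e : t 0 = t 1
    · obtain ⟨g, hg, h, -⟩ := ex (succ_ne_self (t 0)).symm (succ_ne_self (σ (t 0))).symm
      exact ⟨g, hg, Fin.forall_fin_two.2 ⟨h.symm, e ▸ h.symm⟩⟩
    · obtain ⟨g, hg, h, h'⟩ := ex e (σ.injective.ne e)
      exact ⟨g, hg, Fin.forall_fin_two.2 ⟨h.symm, h'.symm⟩⟩
  obtain ⟨g, hg, e⟩ := h ![0, 1, 0]
  rwa [show σ = g from Equiv.ext fun x => by
    obtain ⟨k, hk, e'⟩ := h ![0, 1, x]
    rw [agree hg hk ((e 0).symm.trans (e' 0)) ((e 1).symm.trans (e' 1))]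
    exact e' 2]

end Cfsg.Agent.S3518
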