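import Cfsg.Statements.S3532
import Cfsg.Agent.H3.Spc
import Cfsg.Agent.S2475

set_option autoImplicit false
open Cfsg

namespace Cfsg.Agent.S3532

open CfsgPm
theorem spec_prod {A B : Type*} [Group A] [Group B] (d : ℕ) :
    d ∈ Set.range (orderOf : A × B → ℕ) ↔ ∃ a ∈ Set.range (orderOf : A → ℕ), ∃ b ∈ Set.range (orderOf : B → ℕ), d = a.lcm b := by
  constructor
  · rintro ⟨x, rfl⟩
    exact ⟨_, ⟨x.1, rfl⟩, _, ⟨x.2, rfl⟩, Prod.orderOf x⟩
  · rintro ⟨_, ⟨a, rfl⟩, _, ⟨b, rfl⟩, rfl⟩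
    exact ⟨(a, b), Prod.orderOf _⟩

/-- Let q ≥ 4 be a prime power and L = PSL(2,q). There is a finite solvable group with the same set of element orders as L × L (so L × L is not determined by its spectrum). -/
theorem result {F : Type*} [Field F] [Fintype F] (hF : 4 ≤ Fintype.card F) :
    ∃ (H : Type) (_ : Group H) (_ : Finite H), Group.IsSolvable H ∧
      Set.range (orderOf : H → ℕ) = Set.range (orderOf : Matrix.ProjectiveSpecialLinearGroup (Fin 2) F × Matrix.ProjectiveSpecialLinearGroup (Fin 2) F → ℕ) := by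
  obtain ⟨p, hc⟩ := CharP.exists F
  obtain ⟨k, hp, hk⟩ := FiniteField.card F p
  haveI := Fact.mk hp
  set q := Fintype.card F with hq
  have e : p ^ (2 * (k : ℕ)) - 1 = (q + 1) * (q - 1) := by rw [mul_comm 2, pow_mul, ← hk, ← Nat.sq_sub_sq]
  have g1 : Nat.gcd 2 (q - 1) ∣ q - 1 := Nat.gcd_dvd_right _ _
  have g2 : Nat.gcd 2 (q - 1) ∣ q + 1 := by
    have : q + 1 = (q - 1) + 2 := by omega
    rw [this]; exact dvd_add g1 (Nat.gcd_dvd_left _ _)
  have k0 : 2 * (k : ℕ) ≠ 0 := by have := k.2; positivity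
  obtain ⟨H, i1, i2, s, h1⟩ := frob_cyc p _ ((q - 1) / Nat.gcd 2 (q - 1)) k0
    (e ▸ (Nat.div_dvd_of_dvd g1).mul_left _)
  obtain ⟨K, j1, j2, t, h2⟩ := frob_cyc p _ ((q + 1) / Nat.gcd 2 (q - 1)) k0
    (e ▸ (Nat.div_dvd_of_dvd g2).mul_right _)
  refine ⟨H × K, inferInstance, inferInstance, inferInstance, ?_⟩
  ext d
  rw [spec_prod, spec_prod, h1, h2, S2475.result p hF]
  simp only [Set.mem_setOf_eq]
  constructor
  · rintro ⟨a, ha, b, hb, rfl⟩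
    exact ⟨a, by tauto, b, by tauto, rfl⟩
  · rintro ⟨a, ha | ha | ha, b, hb | hb | hb, rfl⟩
    · exact ⟨a, .inl ha, b, .inl hb, rfl⟩
    · exact ⟨b, .inr hb, a, .inl ha, Nat.lcm_comm _ _⟩
    · exact ⟨a, .inl ha, b, .inr hb, rfl⟩
    · exact ⟨a, .inr ha, b, .inl hb, rfl⟩
    · exact ⟨_, .inr (Nat.lcm_dvd ha hb), 1, .inl (one_dvd _), (Nat.lcm_one_right _).symm⟩
    · exact ⟨a, .inr ha, b, .inr hb, rfl⟩
    · exact ⟨b, .inl hb, a, .inr ha, Nat.lcm_comm _ _⟩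
    · exact ⟨b, .inr hb, a, .inr ha, Nat.lcm_comm _ _⟩
    · exact ⟨1, .inl (one_dvd _), _, .inr (Nat.lcm_dvd ha hb), (Nat.lcm_one_left _).symm⟩

end Cfsg.Agent.S3532
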