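import Cfsg.Statements.S3547
import Cfsg.Agent.H3.Pm1

set_option autoImplicit false
open Cfsg

namespace Cfsg.Agent.S3547

open CfsgPm MulAction Finset

/-- Let G act faithfully and transitively on a finite set Ω, let D be the subgroup generated by the derangements, and let r_G and r_D be the numbers of orbits of G and of D on ordered pairs of points (the permutation ranks). Then r_D − 1 = (r_G − 1)·[G : D]. -/
theorem result {G Ω : Type*} [Group G] [Finite G] [MulAction G Ω] [FaithfulSMul G Ω] [Finite Ω]
    (htrans : MulAction.IsPretransitive G Ω) :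
    Nat.card (MulAction.orbitRel.Quotient ↥(Subgroup.closure {g : G | ∀ ω : Ω, g • ω ≠ ω}) (Ω × Ω)) - 1 =
      (Nat.card (MulAction.orbitRel.Quotient G (Ω × Ω)) - 1) * (Subgroup.closure {g : G | ∀ ω : Ω, g • ω ≠ ω}).index := by
  classical
  set D := Subgroup.closure {g : G | ∀ ω : Ω, g • ω ≠ ω}
  rcases isEmpty_or_nonempty Ω with he | he
  · have : ∀ r : Setoid (Ω × Ω), Nat.card (Quotient r) = 0 := fun r =>
      Nat.card_eq_zero.2 (Or.inl ⟨fun x => Quotient.inductionOn' x fun x => he.elim x.1⟩)
    simp [orbitRel.Quotient, this]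
  have := Fintype.ofFinite G
  have h1 := sum_fx_sq (G := G) (Ω := Ω)
  have h2 := sum_fx_sq (G := D) (Ω := Ω)
  simp only [fx_sub] at h2
  rw [sum_sub D (fun g => fx Ω g ^ 2)] at h2
  rw [← sum_filter_add_sum_filter_not univ (· ∈ D), h2, sum_congr rfl (g := fun _ => 1) fun g hg => by
    rw [der_out.2 g (mem_filter.1 hg).2, one_pow], ← card_eq_sum_ones] at h1
  have h4 := card_filter_add_card_filter_not (s := (univ : Finset G)) (· ∈ D)
  rw [card_filter_sub, card_univ, ← Nat.card_eq_fintype_card, ← D.card_mul_index] at h4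
  rw [← D.card_mul_index] at h1
  have h6 := card_orb_pos (G := D) (Ω := Ω × Ω)
  have h7 := card_orb_pos (G := G) (Ω := Ω × Ω)
  have h8 : 0 < Nat.card D := Nat.card_pos
  zify [h6, h7] at *
  exact mul_left_cancel₀ h8.ne' (by linarith)

end Cfsg.Agent.S3547
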