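import Cfsg.Statements.S3548
import Cfsg.Agent.H3.Pm1

set_option autoImplicit false
open Cfsg

namespace Cfsg.Agent.S3548

open CfsgPm MulAction CfsgH8 Subgroup

/-- Let G act faithfully and transitively on a finite set with n ≥ 2 points and let D be the subgroup generated by the derangements. Then the index of D in G divides n − 1, and if it equals n − 1 then n is a prime power. -/
theorem result {G Ω : Type*} [Group G] [Finite G] [MulAction G Ω] [FaithfulSMul G Ω] [Finite Ω]
    (htrans : MulAction.IsPretransitive G Ω) (hΩ : 2 ≤ Nat.card Ω) :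
    (Subgroup.closure {g : G | ∀ ω : Ω, g • ω ≠ ω}).index ∣ Nat.card Ω - 1 ∧
    ((Subgroup.closure {g : G | ∀ ω : Ω, g • ω ≠ ω}).index = Nat.card Ω - 1 → IsPrimePow (Nat.card Ω)) := by
  set D := Subgroup.closure {g : G | ∀ ω : Ω, g • ω ≠ ω}
  have := Finite.one_lt_card_iff_nontrivial.1 hΩ
  obtain ⟨tr, h⟩ := der_out (G := G) (Ω := Ω)
  obtain ⟨a⟩ : Nonempty Ω := inferInstance
  refine ⟨Set.ncard_univ Ω ▸ index_dvd_set D h (Set.mem_univ a) fun _ _ _ _ => trivial, fun e => ?_⟩
  have h1 : ∀ a b : Ω, b ≠ a → orbit (stabilizer G a) b = {a}ᶜ := fun a b hb => Set.eq_of_subset_of_ncard_le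
    (by rintro _ ⟨g, rfl⟩ e; exact hb (smul_left_cancel g (e.trans g.2.symm)))
    (by rw [Set.compl_eq_univ_diff, Set.ncard_sdiff_singleton_of_mem (Set.mem_univ _), Set.ncard_univ, ← e]
        exact Nat.le_of_dvd ((Set.ncard_pos (Set.toFinite _)).2 ⟨b, mem_orbit_self b⟩) (index_dvd_out D h hb))
  have h2 : ∀ a b : Ω, b ≠ a → D ⊓ stabilizer G a ≤ stabilizer G b := fun a b hb => by
    have h3 : stabilizer G b ⊓ stabilizer G a ≤ D ⊓ stabilizer G a := fun g hg => ⟨by_contra fun hd => by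
      have := two_le_fx.2 ⟨b, a, hb, hg.1, hg.2⟩
      rw [h g hd] at this; omega, hg.2⟩
    have h4 := relIndex_mul_relIndex _ _ _ h3 inf_le_right
    rw [inf_relIndex_right, inf_relIndex_right, relIndex_of_trans, ← ncard_orbit_sub, h1 a b hb, Set.compl_eq_univ_diff,
      Set.ncard_sdiff_singleton_of_mem (Set.mem_univ _), Set.ncard_univ, e, mul_eq_right₀ (by omega), relIndex_eq_one] at h4
    exact h4.trans inf_le_left
  obtain ⟨p, j, hp, hj, e, -⟩ := ea_of_regular_normal (G := G) (X := Ω) (by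
    rw [is_two_pretransitive_iff]
    intro a b c d hab hcd
    obtain ⟨g, rfl⟩ := exists_smul_eq G a c
    obtain ⟨x, hx⟩ : g⁻¹ • d ∈ orbit (stabilizer G a) b := by
      rw [h1 a b hab.symm]; exact fun e => hcd (by rw [← show g⁻¹ • d = a from e, smul_inv_smul])
    exact ⟨g * x, by rw [mul_smul, show (x : G) • a = a from x.2], by rw [mul_smul, ← eq_inv_smul_iff, ← hx]; rfl⟩) D
    fun x => eq_bot_iff.2 fun g hg => Subtype.ext (eq_of_smul_eq_smul fun y : Ω => by
      rcases eq_or_ne y x with rfl | hy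
      · exact hg.trans (one_smul G y).symm
      · simpa using h2 x y hy ⟨g.2, hg⟩)
  exact ⟨p, j, hp.prime, hj, e.symm⟩

end Cfsg.Agent.S3548
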