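import Cfsg.Statements.S3549
import Cfsg.Agent.H3.Pm1

set_option autoImplicit false
open Cfsg

namespace Cfsg.Agent.S3549

open CfsgPm MulAction CfsgH8 Subgroup

/-- Let G act faithfully, transitively but imprimitively on a finite set with n points, and let D be the subgroup generated by the derangements. Then the index of D in G is at most √n − 1. -/
theorem result {G Ω : Type*} [Group G] [Finite G] [MulAction G Ω] [FaithfulSMul G Ω] [Finite Ω]
    (htrans : MulAction.IsPretransitive G Ω) (himp : ¬ MulAction.IsPreprimitive G Ω) :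
    ((Subgroup.closure {g : G | ∀ ω : Ω, g • ω ≠ ω}).index : ℝ) ≤ Real.sqrt (Nat.card Ω) - 1 := by
  set D := Subgroup.closure {g : G | ∀ ω : Ω, g • ω ≠ ω}
  have : Nontrivial Ω := by
    by_contra h
    have := not_nontrivial_iff_subsingleton.1 h
    exact himp IsPreprimitive.of_subsingleton
  obtain ⟨tr, h⟩ := der_out (G := G) (Ω := Ω)
  obtain ⟨a⟩ : Nonempty Ω := inferInstance
  rw [← isCoatom_stabilizer_iff_preprimitive G a, IsCoatom, not_and] at himp
  obtain ⟨K, hK, hK'⟩ : ∃ K, stabilizer G a < K ∧ K ≠ ⊤ := by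
    simpa using himp fun e => by
      obtain ⟨b, hb⟩ := exists_ne a
      obtain ⟨g, hg⟩ := exists_smul_eq G a b
      exact hb (hg ▸ (e ▸ mem_top g : g ∈ stabilizer G a))
  have h1 := index_dvd_set D h (mem_orbit_self (M := K) a) fun g hg b hb => mem_orbit_of_mem_orbit (⟨g, hK.le hg⟩ : K) hb
  obtain ⟨tr', h'⟩ := out_one (Ω := G ⧸ K) D fun g hg => subset_closure fun b e => by
    obtain ⟨x, rfl⟩ := exists_smul_eq G a b
    exact hg x (QuotientGroup.eq.2 (hK.le (by
      rw [mem_stabilizer_iff]; simp only [smul_eq_mul, mul_inv_rev, mul_smul, inv_smul_eq_iff]; exact e.symm)))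
  have h2 := index_dvd_set D h' (Set.mem_univ ((1 : G) : G ⧸ K)) fun _ _ _ _ => trivial
  rw [ncard_orbit_sub] at h1
  rw [Set.ncard_univ, ← index] at h2
  have h3 := relIndex_mul_index hK.le
  rw [← card_eq_index] at h3
  have h4 : 1 < K.index := one_lt_index_of_ne_top hK'
  have h5 : 1 < (stabilizer G a).relIndex K := by
    have := mt relIndex_eq_one.1 hK.not_ge
    have : (stabilizer G a).relIndex K ≠ 0 := index_ne_zero_of_finite
    omega
  have h6 := Nat.le_of_dvd (by omega) h1
  have h7 := Nat.le_of_dvd (by omega) h2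
  rw [le_sub_iff_add_le]
  refine Real.le_sqrt_of_sq_le ?_
  rw [← h3, sq]
  exact_mod_cast Nat.mul_le_mul (by omega) (by omega)

end Cfsg.Agent.S3549
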