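import Cfsg.Statements.S3554
import Cfsg.Agent.H3.Pm1

set_option autoImplicit false
open Cfsg

namespace Cfsg.Agent.S3554

open CfsgPm MulAction CfsgH8 Subgroup

/-- Let G act faithfully and transitively on a finite set and suppose G has a non-trivial cyclic normal subgroup. Then some element of G of prime order fixes no point. -/
theorem result {G Ω : Type*} [Group G] [Finite G] [MulAction G Ω] [FaithfulSMul G Ω] [Finite Ω]
    (htrans : MulAction.IsPretransitive G Ω) (C : Subgroup G) (hC : C.Normal) (hC1 : C ≠ ⊥) (hcyc : IsCyclic ↥C) :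
    ∃ g : G, (orderOf g).Prime ∧ ∀ ω : Ω, g • ω ≠ ω := by
  obtain ⟨c, hc⟩ := (isCyclic_iff_exists_zpowers_eq_top (α := C)).1 hcyc
  obtain ⟨p, hp, hd⟩ := Nat.exists_prime_and_dvd (mt card_eq_one.1 hC1)
  have := Fact.mk hp
  obtain ⟨g, hg⟩ := exists_prime_orderOf_dvd_card' p hd
  have key : ∀ x : C, ∃ k : ℤ, (c : G) ^ k = x := fun x => by
    obtain ⟨k, hk⟩ : x ∈ zpowers c := hc ▸ mem_top x
    exact ⟨k, congrArg Subtype.val hk⟩
  have hn : (zpowers (g : G)).Normal := ⟨fun y ⟨m, hm⟩ x => by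
    obtain ⟨k, hk⟩ := key ⟨_, hC.conj_mem c c.2 x⟩
    obtain ⟨j, hj⟩ := key g
    refine ⟨m * k, ?_⟩
    simp only at hm hk ⊢
    rw [← hm, ← hj, ← zpow_mul, ← zpow_mul, ← conj_zpow, ← hk, ← zpow_mul]; congr 1; ring⟩
  refine ⟨g, by rwa [Subgroup.orderOf_coe, hg], fun a e => ?_⟩
  have := eq_bot_of_normal_le_stabilizer (zpowers (g : G)) a (zpowers_le.2 e)
  rw [zpowers_eq_bot, OneMemClass.coe_eq_one] at this
  simp [this] at hg; exact hp.one_lt.ne hg

end Cfsg.Agent.S3554
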