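import Cfsg.Statements.S3555
import Cfsg.Agent.H3.Pm1
import Cfsg.Agent.H1.Frob

set_option autoImplicit false
open Cfsg

namespace Cfsg.Agent.S3555

open CfsgPm MulAction CfsgH8 Subgroup Finset

/-- Let G act faithfully and transitively on a finite set and suppose every element of G fixing no point is an involution. Then either G is an elementary abelian 2-group, or G is a Frobenius group whose Frobenius kernel is an elementary abelian 2-group: G has a Frobenius complement H, and the elements lying in no conjugate of H, together with the identity, pairwise commute and square to the identity. -/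
theorem result {G Ω : Type*} [Group G] [Finite G] [MulAction G Ω] [FaithfulSMul G Ω] [Finite Ω]
    (htrans : MulAction.IsPretransitive G Ω) (hinv : ∀ g : G, (∀ ω : Ω, g • ω ≠ ω) → orderOf g = 2) :
    (IsMulCommutative G ∧ ∀ g : G, g ^ 2 = 1) ∨
    (∃ H : Subgroup G, Cfsg.IsFrobeniusComplement H ∧
      (∀ x ∈ Cfsg.frobeniusKernel H, x ^ 2 = 1) ∧
      ∀ x ∈ Cfsg.frobeniusKernel H, ∀ y ∈ Cfsg.frobeniusKernel H, x * y = y * x) := by
  classical
  rcases subsingleton_or_nontrivial Ω with hs | hs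
  · have h : ∀ g : G, g = 1 := fun g => eq_of_smul_eq_smul fun a : Ω => Subsingleton.elim _ _
    exact Or.inl ⟨⟨⟨fun a b => by rw [h a, h b]⟩⟩, fun g => h _⟩
  have := Fintype.ofFinite G
  have key := (cam_coh (G := G) (Ω := Ω)).2 (by
    have h1 := sum_fx_sq_le (G := G) (Ω := Ω)
    have h2 := sum_fx_trans (G := G) (Ω := Ω)
    rw [← sum_filter_add_sum_filter_not univ (fun g : G => ∀ a : Ω, g • a ≠ a),
      sum_eq_zero fun g hg => fx_eq_zero.2 (mem_filter.1 hg).2] at h2
    rw [sum_fx_sq, ← sum_filter_add_sum_filter_not univ (fun g : G => ∀ a : Ω, g • a ≠ a),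
      sum_congr rfl (g := fun _ => Nat.card Ω) fun g hg => by
        rw [← hinv g (mem_filter.1 hg).2, pow_orderOf_eq_one, fx_one], sum_const, ← card_der, smul_eq_mul] at h1
    have h3 := sum_le_sum (s := univ.filter fun g : G => ¬∀ a : Ω, g • a ≠ a) (f := fun g => fx Ω g)
      (g := fun g => fx Ω (g ^ 2)) fun g _ => Nat.card_mono (Set.toFinite _) fun a (ha : g • a = a) =>
        show g ^ 2 • a = a by rw [sq, mul_smul, ha, ha]
    zify at h1 h2 h3; push_cast at *; linarith)
  have h : ∀ (g : G) (a b : Ω), a ≠ b → g • a = a → g • b = b → g = 1 := fun g a b hab ha hb =>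
    (key g).elim (fun h => by have := two_le_fx.2 ⟨a, b, hab, ha, hb⟩; omega) fun h => eq_of_smul_eq_smul (α := Ω) (by simpa using h)
  have sq1 : ∀ x : G, (x = 1 ∨ ∀ b : Ω, x • b ≠ b) → x ^ 2 = 1 := fun x hx =>
    hx.elim (by rintro rfl; simp) fun hx => by rw [← hinv x hx, pow_orderOf_eq_one]
  obtain ⟨K, hK, -⟩ := exists_frob_kernel h
  have cm : ∀ x ∈ K, ∀ y ∈ K, x * y = y * x := fun x hx y hy => by
    have h1 := fun z hz => inv_eq_of_mul_eq_one_right ((sq z).symm.trans (sq1 z ((hK z).1 hz)))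
    rw [← h1 _ (mul_mem hx hy), mul_inv_rev, h1 x hx, h1 y hy]
  obtain ⟨a⟩ : Nonempty Ω := inferInstance
  by_cases ha : stabilizer G a = ⊥
  · have h2 : ∀ x : G, x = 1 ∨ ∀ b : Ω, x • b ≠ b := fun x => or_iff_not_imp_left.2 fun hx b e =>
      hx (mem_bot.1 (stabilizer_eq_bot_of_eq_bot ha b ▸ e))
    exact Or.inl ⟨⟨⟨fun x y => cm x ((hK x).2 (h2 x)) y ((hK y).2 (h2 y))⟩⟩, fun g => sq1 g (h2 g)⟩
  obtain ⟨h1, h2⟩ := frob_of_fx h ha
  exact Or.inr ⟨_, h1, fun x hx => sq1 x ((h2 x).1 hx), fun x hx y hy =>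
    cm x ((hK x).2 ((h2 x).1 hx)) y ((hK y).2 ((h2 y).1 hy))⟩

end Cfsg.Agent.S3555
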