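import Cfsg.Statements.S3560

set_option autoImplicit false
open Cfsg

namespace Cfsg.Agent.S3560

open Equiv MulAction Function Pointwise
def aut {X : Type*} (W : X → X → Prop) : Subgroup (Perm X) where
  carrier := {g | ∀ x y, W (g x) (g y) ↔ W x y}
  one_mem' _ _ := .rfl
  mul_mem' a b _ _ := (a _ _).trans (b _ _)
  inv_mem' {g} a x y := by rw [← a]; simp

theorem prim {X ι β : Type*} [Finite ι] (c : X ≃ (ι → β)) (h3 : ∀ a b : β, ∃ d, d ≠ a ∧ d ≠ b) :
    IsPreprimitive (aut fun x y => ∃ i, ∀ j ≠ i, c x j = c y j) X := by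
  classical
  have k : ∀ (σ : Perm ι) (φ : ι → Perm β), ∃ g : aut fun x y => ∃ i, ∀ j ≠ i, c x j = c y j, ∀ x j, c (g • x) j = φ j (c x (σ j)) := fun σ φ =>
    ⟨⟨c.symm.permCongr ((σ.symm.arrowCongr (.refl β)).trans (piCongrRight φ)), fun x y => by
      simpa using ⟨fun ⟨i, h⟩ => ⟨σ i, σ.surjective.forall.2 fun j n => h j fun q => n (q ▸ rfl)⟩, fun ⟨i, h⟩ => ⟨σ.symm i, fun j n => h _ fun q => n (by simp [← q])⟩⟩⟩,
      fun x j => by simp [Subgroup.smul_def]⟩
  haveI : IsPretransitive (aut fun x y => ∃ i, ∀ j ≠ i, c x j = c y j) X := ⟨fun x y =>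
    (k 1 fun j => swap (c x j) (c y j)).imp fun g h => c.injective (funext fun j => by simp [h])⟩
  refine ⟨fun {B} hB => or_iff_not_imp_left.2 fun n => ?_⟩
  obtain ⟨x, hx, y, hy, n⟩ := Set.not_subsingleton_iff.1 n
  obtain ⟨i, n⟩ := ne_iff.1 (c.injective.ne n)
  obtain ⟨d, d1, d2⟩ := h3 (c x i) (c y i)
  obtain ⟨g, hg⟩ := k 1 (update 1 i (swap (c y i) d))
  have gy : g • y ∈ B := hB.smul_eq_of_mem hx (show g • x ∈ B by
    rwa [show g • x = x from c.injective (funext fun j => by by_cases e : j = i <;> simp [hg, e, swap_apply_of_ne_of_ne n d1.symm])]) ▸ Set.smul_mem_smul_set hy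
  have P : ∀ u ∈ B, ∀ l a, c.symm (update (c u) l a) ∈ B := fun u hu l a => by
    by_cases e : a = c u l
    · simpa [e]
    obtain ⟨τ, t1, t2⟩ := (is_two_pretransitive_iff.1 (Perm.isMultiplyPretransitive β 2)) d2 e
    obtain ⟨h, hh⟩ := k (swap i l) (update (fun j => swap (c y (swap i l j)) (c u j)) l τ)
    have : h • y = u := c.injective (funext fun j => by by_cases e : j = l <;> simp [hh, e, show τ _ = _ from t2])
    rw [← hB.smul_eq_of_mem hy (this ▸ hu)]
    refine ⟨_, gy, c.injective (funext fun j => ?_)⟩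
    by_cases e : j = l
    · simp [hh, hg, e, show τ _ = _ from t1]
    simp [hh, hg, e, update_of_ne (show swap i l j ≠ i by rwa [Ne, swap_apply_eq_iff, swap_apply_left])]
  haveI := Fintype.ofFinite ι
  have : ∀ z, ∀ s : Finset ι, c.symm (s.piecewise (c z) (c x)) ∈ B := fun z s => by
    induction s using Finset.induction_on with
    | empty => simpa
    | insert j s _ ih => simpa [Finset.piecewise_insert] using P _ ih j (c z j)
  exact Set.eq_univ_of_forall fun z => by simpa using this z Finset.univ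

/-- Let K be a finite group isomorphic to a direct product of r ≥ 2 groups all of the same order m ≥ 3. Then K is not a B-group: there is a primitive but not doubly transitive permutation group (on some finite set) containing a regular subgroup isomorphic to K. -/
theorem result {K : Type*} [Group K] [Finite K] {ι : Type*} [Fintype ι] (F : ι → Type*) [∀ i, Group (F i)]
    (hr : 2 ≤ Fintype.card ι) (m : ℕ) (hm : 3 ≤ m) (hcard : ∀ i, Nat.card (F i) = m) (e : K ≃* (∀ i, F i)) :
    ∃ (n : ℕ) (G R : Subgroup (Equiv.Perm (Fin n))), R ≤ G ∧ Nonempty (↥R ≃* K) ∧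
      MulAction.IsPretransitive ↥R (Fin n) ∧ (∀ a : Fin n, MulAction.stabilizer ↥R a = ⊥) ∧
      MulAction.IsPreprimitive ↥G (Fin n) ∧ ¬ MulAction.IsMultiplyPretransitive ↥G (Fin n) 2 := by
  classical
  haveI := fun i => Nat.finite_of_card_ne_zero (α := F i) (by rw [hcard]; omega)
  let t := fun i => (Finite.equivFin (F i)).trans (finCongr (hcard i))
  let c := (Finite.equivFin (ι → Fin m)).symm
  let b := (e.toEquiv.trans (piCongrRight t)).trans c.symm
  let ρ := b.permCongrHom.toMonoidHom.comp (toPermHom K K)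
  have r : ∀ k a, ρ k (b a) = b (k * a) := fun k a => by simp [ρ]
  refine ⟨_, aut fun x y => ∃ i, ∀ j ≠ i, c x j = c y j, ρ.range, ?_, ⟨(MonoidHom.ofInjective (b.permCongrHom.injective.comp toPerm_injective)).symm⟩,
    ⟨b.surjective.forall₂.2 fun x y => ⟨⟨_, y * x⁻¹, rfl⟩, (r _ _).trans (by simp)⟩⟩, b.surjective.forall.2 fun a => eq_bot_iff.2 ?_, prim c ?_, fun h => ?_⟩
  · rintro _ ⟨k, rfl⟩
    refine b.surjective.forall₂.2 fun x y => ?_
    simp only [r]
    simp [b]
  · rintro ⟨_, k, rfl⟩ h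
    obtain rfl : k = 1 := by simpa using b.injective ((r k a).symm.trans h)
    exact Subtype.ext ρ.map_one
  · intro a b
    by_contra! h
    have := Finset.card_le_card (show Finset.univ ⊆ {a, b} from fun d _ => by simpa [or_iff_not_imp_left] using h d)
    have := @Finset.card_le_two _ _ a b
    simp at *; omega
  obtain ⟨i, j, n⟩ := Fintype.exists_pair_of_one_lt_card hr
  let u : Fin m := ⟨0, by omega⟩
  let v : Fin m := ⟨1, by omega⟩
  have uv : u ≠ v := by simp [u, v]
  obtain ⟨g, g1, g2⟩ := @is_two_pretransitive_iff.1 h (c.symm fun _ => u) (c.symm (update (fun _ => u) i v)) (c.symm fun _ => u)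
    (c.symm fun _ => v) (c.symm.injective.ne fun q => uv (by simpa using congrFun q i)) (c.symm.injective.ne fun q => uv (congrFun q i))
  obtain ⟨l, hl⟩ := (g.2 (c.symm fun _ => u) (c.symm (update (fun _ => u) i v))).2 ⟨i, fun j n => by simp [n]⟩
  rw [show g.1 _ = _ from g1, show g.1 _ = _ from g2] at hl
  by_cases q : i = l
  exacts [uv (by simpa using hl j (q ▸ n.symm)), uv (by simpa using hl i q)]

end Cfsg.Agent.S3560
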