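import Cfsg.Statements.S3573

set_option autoImplicit false
open Cfsg

namespace Cfsg.Agent.S3573

open Equiv Equiv.Perm Finset

/-- Let 1 ≤ k with 2k < n and consider the symmetric group of degree n acting on the k-subsets of an n-set. Let r be a prime dividing the number C(n,k) of k-subsets. If r is odd, then every permutation of order r fixes some k-subset if and only if r ≤ k and the remainder of k modulo r is at most the remainder of n modulo r. If r = 2, then every involution fixes some k-subset if and only if k is even or n is odd. -/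
theorem result (n k : ℕ) (hk : 1 ≤ k) (hkn : 2 * k < n) (r : ℕ) (hr : r.Prime) (hrd : r ∣ Nat.choose n k) :
    (r ≠ 2 → ((∀ σ : Equiv.Perm (Fin n), orderOf σ = r → ∃ s : Finset (Fin n), s.card = k ∧ s.image σ = s) ↔
      (r ≤ k ∧ k % r ≤ n % r))) ∧
    (r = 2 → ((∀ σ : Equiv.Perm (Fin n), orderOf σ = 2 → ∃ s : Finset (Fin n), s.card = k ∧ s.image σ = s) ↔
      (Even k ∨ Odd n))) := by
  have := Fact.mk hr
  have key : (∀ σ : Perm (Fin n), orderOf σ = r → ∃ s : Finset (Fin n), s.card = k ∧ s.image σ = s) ↔ k % r ≤ n % r := by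
    refine ⟨fun h => ?_, fun h σ hσ => ?_⟩
    · have hn : r ≤ n := hr.dvd_factorial.1 (hrd.trans (Dvd.intro _ (by
        rw [← mul_assoc]; exact Nat.choose_mul_factorial_mul_factorial (show k ≤ n by omega))))
      obtain ⟨g, hg⟩ := (exists_with_cycleType_iff (Fin n) (m := Multiset.replicate (n / r) r)).2
        ⟨by simp [Nat.div_mul_le_self], fun a ha => Multiset.eq_of_mem_replicate ha ▸ hr.two_le⟩
      have o : orderOf g = r := by
        rw [← lcm_cycleType, hg]
        exact Nat.dvd_antisymm (Multiset.lcm_dvd.2 fun a ha => Multiset.eq_of_mem_replicate ha ▸ dvd_rfl)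
          (Multiset.dvd_lcm (Multiset.mem_replicate.2 ⟨(Nat.div_pos hn hr.pos).ne', rfl⟩))
      obtain ⟨s, rfl, h2⟩ := h g o
      have h3 : ∀ x, g x ∈ s ↔ x ∈ s := fun x => by
        conv_lhs => rw [← h2]
        exact g.injective.mem_finset_image
      have h4 := card_compl_support_modEq (σ := g.subtypePerm h3) (p := r) (n := 1)
        (by rw [pow_one, subtypePerm_pow]; ext; simp [← o])
      have h5 : #(g.subtypePerm h3).supportᶜ ≤ #g.supportᶜ := card_le_card_of_injOn Subtype.val
        (fun x hx => by simpa [Subtype.ext_iff] using hx) Subtype.val_injective.injOn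
      rw [card_compl g.support, ← sum_cycleType, hg, Multiset.sum_replicate, smul_eq_mul, Fintype.card_fin,
        ← Nat.mod_eq_sub_div_mul] at h5
      rw [Fintype.card_coe] at h4
      exact h4.symm.le.trans ((Nat.mod_le _ _).trans h5)
    obtain ⟨c, hc⟩ := cycleType_prime_order (σ := σ) (hσ ▸ hr)
    have h1 := σ.sum_cycleType
    rw [hc, Multiset.sum_replicate, smul_eq_mul, hσ] at h1
    have h2 : #σ.cycleFactorsFinset = c + 1 := by simpa [cycleType_def] using congrArg Multiset.card hc
    have h3 := card_add_card_compl σ.support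
    rw [Fintype.card_fin] at h3
    obtain ⟨j, i, hj, hi, e⟩ : ∃ j i, j ≤ c + 1 ∧ i ≤ #σ.supportᶜ ∧ j * r + i = k := by
      by_cases a : k / r ≤ c + 1
      · refine ⟨_, _, a, h.trans ?_, Nat.div_add_mod' k r⟩
        generalize #σ.supportᶜ = m at h3
        rw [← h3, ← h1, Nat.mul_add_mod_self_right]
        exact Nat.mod_le _ _
      · have := (Nat.mul_le_mul_right r (not_le.1 a).le).trans (Nat.div_mul_le_self k r)
        exact ⟨_, k - (c + 1) * r, le_rfl, by omega, by omega⟩
    obtain ⟨T, t1, rfl⟩ := exists_subset_card_eq (hj.trans h2.ge)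
    obtain ⟨U, u1, rfl⟩ := exists_subset_card_eq hi
    refine ⟨T.biUnion support ∪ U, ?_, eq_of_subset_of_card_le ?_ (card_image_of_injective _ σ.injective).ge⟩
    · rw [card_union_of_disjoint, card_biUnion, ← e, sum_const_nat]
      · intro x hx
        have : #x.support ∈ σ.cycleType := Multiset.mem_map_of_mem (card ∘ support) (mem_def.1 (t1 hx))
        exact (Multiset.eq_of_mem_replicate (hc ▸ this)).trans hσ
      · exact fun x hx y hy e => (cycleFactorsFinset_pairwise_disjoint σ (t1 hx) (t1 hy) e).disjoint_support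
      · exact disjoint_compl_right.mono (biUnion_subset.2 fun x hx => mem_cycleFactorsFinset_support_le (t1 hx)) u1
    refine image_subset_iff.2 fun x hx => (mem_union.1 hx).elim (fun h => mem_union_left _ ?_) fun h => mem_union_right _ ?_
    · obtain ⟨u, hu, h⟩ := mem_biUnion.1 h
      exact mem_biUnion.2 ⟨u, hu, (mem_cycleFactorsFinset_iff.1 (t1 hu)).2 x h ▸ apply_mem_support.2 h⟩
    · rwa [notMem_support.1 (mem_compl.1 (u1 h))]
  refine ⟨fun _ => key.trans ⟨fun h => ⟨by_contra fun a => ?_, h⟩, fun h => h.2⟩, ?_⟩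
  · have := Choose.choose_modEq_choose_mod_mul_choose_div_nat (n := n) (k := k) (p := r)
    rw [Nat.div_eq_of_lt (not_le.1 a), Nat.choose_zero_right, mul_one] at this
    exact (hr.coprime_iff_not_dvd.1 (hr.coprime_choose_of_lt (Nat.mod_lt _ hr.pos) h)) ((this.dvd_iff dvd_rfl).1 hrd)
  rintro rfl
  rw [key, Nat.even_iff, Nat.odd_iff]
  omega

end Cfsg.Agent.S3573
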