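import Cfsg.Statements.S3589
import Cfsg.Agent.H5.El19

set_option autoImplicit false
open Cfsg

namespace Cfsg.Agent.S3589

open CfsgH5 Pointwise Module Polynomial

/-- Let F be a finite field of characteristic 2 and let a, b ∈ F make the binary form z₁² + a z₁z₂ + b z₂² anisotropic. Then the symplectic group PSp(8,F) (= Sp(8,F)) and the full isometry group of the non-singular quadratic form x₁y₁ + x₂y₂ + x₃y₃ + (z₁² + a z₁z₂ + b z₂²) of minus type in dimension 8 have the same set of element orders. -/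
theorem result {F : Type*} [Field F] [Fintype F]
    [CharP F 2] (a b : F) (han : ∀ z₁ z₂ : F, z₁ ^ 2 + a * z₁ * z₂ + b * z₂ ^ 2 = 0 → z₁ = 0 ∧ z₂ = 0) :
    Set.range (orderOf : Cfsg.PSp 4 F → ℕ) = Set.range (orderOf : ↥(Cfsg.isometryGroup F (Cfsg.quadFormMinus 3 F a b)) → ℕ) := by
  classical
  have h2 : (2 : F) = 0 := CharP.cast_eq_zero F 2
  have hS := minusForm_nondeg 3 han
  have hT := Form.tp_eq_neg_one_iff.2 (minusForm_not_isPlus 3 han)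
  have hE := isometryGroup_eq _ (minusForm_Q 3 a b)
  generalize minusForm 3 F a b = S at hS hT hE
  have hV : finrank F (((Fin 3 ⊕ Fin 3) ⊕ Fin 2) → F) = 8 := by simp
  have hW : finrank F (Fin 4 ⊕ Fin 4 → F) = 8 := by simp
  have hP := spForm_nondeg (F := F) 4
  ext N
  rw [po_range' (spHom 4 F) (sp_center (by omega)) (range_spHom 4), hE]
  refine ⟨fun ⟨g, hg, hN⟩ => ?_, fun ⟨g, hN⟩ => ?_⟩
  swap
  · obtain ⟨φ, hφ⟩ := Form.Nondeg.sp_iso (S0 := S.toSp h2) hS hP (hV.trans hW.symm)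
    obtain ⟨g', a1, a2⟩ := hφ.exists_pr (g := glEquiv _ F g.1) ((spParam_isMax.mem_isom _).2 (Form.isom_B (S := S) g.2)) (pr_ed _)
    refine ⟨g', a1, .trans ?_ (mul_one (po g') ▸ dvd_po_mul (M := 1) fun l hl => Units.ext (sub_eq_zero.1
      (pow_eq_zero_iff two_ne_zero |>.1 ?_)))⟩
    · rw [← hN, ← Subgroup.orderOf_coe, ← (glEquiv _ F).orderOf_eq]
      exact orderOf_dvd_of_pow_eq_one (pow_eq_one_iff_ed.2 (a2.ed_eq (fun _ => pp_ed) ▸
        pow_eq_one_iff_ed.1 (pow_orderOf_eq_one g')))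
    · have : l.1 ^ 2 = 1 := by simpa using congrArg Units.val (sp_scE hP (by omega) l (hl ▸ pow_mem a1 _))
      simp only [pow_one, Units.val_one]
      linear_combination this + (1 - l.1) * h2
  suffices ∃ h ∈ S.isom, orderOf g ∣ orderOf h by
    obtain ⟨h, a1, a2⟩ := this
    exact CfsgH8.exists_orderOf_eq_of_dvd (x := ⟨(glEquiv _ F).symm h, by simpa using a1⟩) (by
      rw [← Subgroup.orderOf_coe, MulEquiv.orderOf_eq]; exact hN.trans (po_dvd_ord.trans a2))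
  obtain ⟨t, u, e, ht, h6, hu⟩ := sd_split hP hg
  have p1 : ∀ a ∈ t, a ∈ ed g.toLinearMap := fun a ha => by simp [e, ha]
  have p2 : (X ^ 2 - 1 : F[X]) = (X - C 1) ^ 2 := by rw [sub_pow_char, C_1, one_pow]
  have p3 : ∀ s : Multiset F[X], (∀ a ∈ s, PP a ∧ ∃ k, 0 < k ∧ a ^ k ∈ t) → s.map (du (RingHom.id F)) = s →
      ∃ ε, ExT s ε := fun s a1 a2 => exT_of_self h2 (fun a ha => (a1 a ha).1) (fun a ha =>
    let ⟨_, _, b1, b2⟩ := a1 a ha; coeff_of_pow b1 (coeff_ed_ne g _ (p1 _ b2))) a2 fun a ha =>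
      let ⟨_, _, b1, b2⟩ := a1 a ha; p2 ▸ ((irreducible_X_sub_C 1).coprime_iff_not_dvd.2 fun c =>
        ht _ b2 (c.trans (dvd_pow_self a b1.ne'))).symm.pow_right
  have p4 := (dg0_ed g.toLinearMap).trans hW
  rw [e, dg0_add] at p4
  by_cases e2 : u = 0
  swap
  · obtain ⟨ε, a1⟩ := p3 t (fun a ha => ⟨pp_ed (p1 a ha), 1, one_pos, by simpa⟩) h6
    obtain ⟨h, a2, a3⟩ := hS.o_ext a1 (dg0_pos (fun a ha => pp_ed (e ▸ Multiset.mem_add.2 (.inr ha))) e2) (p4.trans hV.symm)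
    exact ⟨h, a2, a3 g fun a k b1 b2 _ b4 => (Multiset.mem_add.1 (e ▸ b4)).imp_right fun c => (hu a k b1 b2 c).imp_right .inr⟩
  subst e2
  rw [add_zero] at e
  replace p4 : dg0 t = 8 := p4
  by_cases e3 : ∃ (a : F[X]) (k : ℕ), a.Monic ∧ Irreducible a ∧ 0 < k ∧ a ^ (k + 1) ∈ t
  · obtain ⟨a, k, a1, a2, a3, a4⟩ := e3
    obtain ⟨s, u, rfl, b1, b2, b3, b4, b5, -⟩ := sd_blk (fun _ => rfl) h6 a1 a2 (coeff_of_pow k.succ_pos
      (coeff_ed_ne g _ (p1 _ a4))) k.succ_pos a4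
    have c1 : ∀ a ∈ s, PP a ∧ ∃ j, 0 < j ∧ a ^ j ∈ s.map (· ^ (k + 1)) + u := fun b hb =>
      ⟨pp_of_irr (b4 b hb).1 (b4 b hb).2.1, _, k.succ_pos, Multiset.mem_add.2 (.inl (Multiset.mem_map_of_mem _ hb))⟩
    obtain ⟨_, -, ⟨j, hj⟩, -⟩ := p3 s c1 b1
    have c2 := dg0_pos (fun b hb => (c1 b hb).1) (by rintro rfl; simp at b3)
    obtain ⟨ε, c3⟩ := p3 (s + u) (fun b hb => (Multiset.mem_add.1 hb).elim (c1 b) fun c =>
      ⟨pp_ed (p1 b (by simp [c])), 1, one_pos, by simp [c]⟩) ((Multiset.map_add _ _ _).trans (congrArg₂ _ b1 b2))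
    obtain ⟨h, d1, d2⟩ := hS.o_ext c3 (e := k * dg0 s) (by positivity) (by rw [hV, dg0_add]; linarith)
    refine ⟨h, d1, d2 g fun a' k' f1 f2 f3 f4 => (Multiset.mem_add.1 (e ▸ f4)).symm.imp (by simp +contextual) fun f4 => ?_⟩
    obtain ⟨b, f5, f6⟩ := Multiset.mem_map.1 f4
    obtain rfl := irr_eq f1 (b4 b f5).1 f2 (b4 b f5).2.1 (f2.prime.dvd_of_dvd_pow (f6 ▸ dvd_pow_self a' f3.ne'))
    exact ⟨((pow_dvd_pow_iff f2.ne_zero f2.not_isUnit).1 f6.symm.dvd).trans ((by omega : k + 1 ≤ k * 2).trans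
      (Nat.mul_le_mul_left k (by omega))), .inl (by simp [f5])⟩
  have blk : ∀ t' : Multiset F[X], (∀ a ∈ t', a ∈ t) → t'.map (du (RingHom.id F)) = t' → ∀ a ∈ t', ∃ s u d N,
      t' = s + u ∧ u.map (du (RingHom.id F)) = u ∧ dg0 t' = 2 * d + dg0 u ∧ 0 < d ∧ a ∈ s ∧ (∀ b ∈ s, ro b ∣ N) ∧
        (N = Fintype.card F ^ d - 1 ∨ N = Fintype.card F ^ d + 1) := fun t' a1 a2 a a3 => by
    obtain ⟨c, k, c1, c2, c3, rfl⟩ := pp_ed (p1 a (a1 a a3))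
    obtain rfl : k = 1 := by_contra fun e => e3 ⟨c, k - 1, c1, c2, by omega, by rw [Nat.sub_add_cancel c3]; exact a1 _ a3⟩
    have c4 := coeff_of_pow c3 (coeff_ed_ne g _ (p1 _ (a1 _ a3)))
    obtain ⟨s, u, rfl, b1, b2, b3, b4, b5, b6⟩ := sd_blk (fun _ => rfl) a2 c1 c2 c4 c3 a3
    simp only [pow_one, Multiset.map_id', one_mul] at a1 a3 b5 ⊢
    have c5 := c2.natDegree_pos
    rcases b6 with ⟨d1, d2⟩ | ⟨-, -, d2⟩
    · obtain ⟨_, -, ⟨j, hj⟩, -⟩ := p3 s (fun b hb => ⟨pp_of_irr (b4 b hb).1 (b4 b hb).2.1, 1, one_pos,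
        by simpa using a1 b (by simp [hb])⟩) b1
      exact ⟨s, u, j, _, rfl, b2, by omega, by omega, b3, fun b hb => (b4 b hb).2.2 ▸ sd_sp' c1 c2 c4 d1 (fun e =>
        ht c (a1 c a3) (irr_eq c1 (monic_X_sub_C 1) c2 (irreducible_X_sub_C 1) (c2.prime.dvd_of_dvd_pow (p2 ▸ e)) ▸
          dvd_rfl)) (by omega), .inr rfl⟩
    · exact ⟨s, u, _, _, rfl, b2, d2 ▸ b5, c5, b3, fun b hb => (b4 b hb).2.2 ▸ ro_dvd_card c1 c2 c4, .inl rfl⟩
  suffices ∃ h ∈ S.isom, ∀ b ∈ t, ro b ∣ orderOf h from this.imp fun h c =>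
    ⟨c.1, orderOf_dvd_of_pow_eq_one (pow_eq_one_iff_ed.2 fun b hb => ro_dvd.1 (c.2 b (e ▸ hb)))⟩
  have H2 : ∀ i j, 0 < i → 0 < j → i + j = 4 → ∃ h ∈ S.isom, Fintype.card F ^ i - 1 ∣ orderOf h ∧
      Fintype.card F ^ j + 1 ∣ orderOf h := fun i j a1 a2 a3 => by
    obtain ⟨s, b1, b2, x, b3, b4⟩ := exT_plus (F := F) a1
    obtain ⟨s', c1, c2, y, c3, c4⟩ := exT_minus h2 a2
    obtain ⟨h, d1, d2⟩ := ExT.ex (S := S) (hT ▸ one_mul (-1 : ℤˣ) ▸ b1.add c1) hS (by rw [dg0_add]; omega)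
    exact ⟨h, d1, b4 ▸ ro_dvd_ord (b := x) (by simp [d2, b3]) dvd_rfl, c4 ▸ ro_dvd_ord (b := y) (by simp [d2, c3]) dvd_rfl⟩
  have D1 := fun i j (h : i ∣ j) => Nat.pow_sub_one_dvd_pow_sub_one (Fintype.card F) h
  have D2 : ∀ i, Fintype.card F ^ (2 * i) - 1 = (Fintype.card F ^ i + 1) * (Fintype.card F ^ i - 1) := fun i => by
    rw [mul_comm, pow_mul]; exact Nat.sq_sub_sq _ 1
  by_cases c : ∀ a ∈ t, ro a ∣ Fintype.card F ^ 4 - 1
  · obtain ⟨h, a1, a2, a3⟩ := H2 2 2 two_pos two_pos rfl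
    refine ⟨h, a1, fun b hb => (c b hb).trans (D2 2 ▸ Nat.Coprime.mul_dvd_of_dvd_of_dvd ?_ a3 a2)⟩
    obtain ⟨y, hy⟩ := (p_dvd_card (F := F) 2).trans (dvd_pow_self _ two_ne_zero)
    have := pow_pos (Fintype.card_pos (α := F)) 2
    rw [show Fintype.card F ^ 2 + 1 = 2 + (Fintype.card F ^ 2 - 1) by omega, Nat.coprime_add_self_left, Nat.coprime_two_left]
    exact ⟨y - 1, by omega⟩
  push Not at c
  obtain ⟨x, a1, a2⟩ := c
  obtain ⟨s, u, d, N, rfl, b1, b2, b3, b4, b5, b6⟩ := blk t (fun _ h => h) h6 x a1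
  have b7 := mt (b5 x b4).trans a2
  have b8 : ∀ b ∈ u, 2 + 2 * d ≤ 8 ∧ (d = 3 → ro b ∣ Fintype.card F ^ 1 - 1 ∨ ro b ∣ Fintype.card F ^ 1 + 1) := fun b hb => by
    obtain ⟨s', u', d', N', -, -, c1, c2, c3, c4, c5⟩ := blk u (by simp +contextual) b1 b hb
    refine ⟨by omega, fun _ => ?_⟩
    obtain rfl : d' = 1 := by omega
    rcases c5 with rfl | rfl
    exacts [.inl (c4 b c3), .inr (c4 b c3)]
  obtain rfl | rfl | rfl | rfl : d = 1 ∨ d = 2 ∨ d = 3 ∨ d = 4 := by omega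
  · rcases b6 with rfl | rfl
    · exact (b7 (D1 _ _ (by decide))).elim
    · exact (b7 (.trans ⟨_, D2 1⟩ (D1 _ _ (by decide)))).elim
  · rcases b6 with rfl | rfl
    · exact (b7 (D1 _ _ (by decide))).elim
    · exact (b7 ⟨_, D2 2⟩).elim
  · rcases b6 with rfl | rfl
    · obtain ⟨h, c1, c2, c3⟩ := H2 3 1 three_pos one_pos rfl
      exact ⟨h, c1, fun b hb => (Multiset.mem_add.1 hb).elim (fun c => (b5 b c).trans c2) fun c =>
        ((b8 b c).2 rfl).elim (·.trans ((D1 _ _ (by decide)).trans c2)) (·.trans c3)⟩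
    · obtain ⟨h, c1, c2, c3⟩ := H2 1 3 one_pos three_pos rfl
      exact ⟨h, c1, fun b hb => (Multiset.mem_add.1 hb).elim (fun c => (b5 b c).trans c3) fun c =>
        ((b8 b c).2 rfl).elim (·.trans c2) (·.trans (.trans (by
          simpa using Odd.nat_add_dvd_pow_add_pow (Fintype.card F) 1 (n := 3) (by decide)) c3))⟩
  · rcases b6 with rfl | rfl
    · exact (b7 dvd_rfl).elim
    obtain ⟨s', c1, c2, y, c3, c4⟩ := exT_minus h2 (j := 4) (by omega)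
    obtain ⟨h, d1, d2⟩ := ExT.ex (S := S) (hT ▸ c1) hS (by omega)
    exact ⟨h, d1, fun b hb => (Multiset.mem_add.1 hb).elim (fun c => (b5 b c).trans (c4 ▸ ro_dvd_ord (d2 ▸ c3) dvd_rfl))
      fun c => by have := (b8 b c).1; omega⟩

end Cfsg.Agent.S3589
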