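import Cfsg.Statements.S3590
import Cfsg.Agent.H5.El20
import Cfsg.Agent.S3589

set_option autoImplicit false
open Cfsg

namespace Cfsg.Agent.S3590

open CfsgH5 Pointwise Module Polynomial

/-- Let F be a finite field of characteristic 2. Then PSp(8,F) is not determined by its set of element orders, not even up to finitely many groups: for every bound there is a finite group of larger order with exactly the same set of element orders as PSp(8,F). -/
theorem result {F : Type*} [Field F] [Fintype F]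
    [CharP F 2] (M : ℕ) :
    ∃ (H : Type) (_ : Group H) (_ : Fintype H), M < Fintype.card H ∧ Set.range (orderOf : H → ℕ) = Set.range (orderOf : Cfsg.PSp 4 F → ℕ) := by
  classical
  obtain ⟨b, hb⟩ := exists_aniso_pair F
  have hS := minusForm_nondeg 3 hb
  have hE := isometryGroup_eq _ (minusForm_Q 3 1 b)
  rw [Cfsg.Agent.S3589.result 1 b hb, hE]
  generalize minusForm 3 F 1 b = S at hS
  have hV : finrank F (((Fin 3 ⊕ Fin 3) ⊕ Fin 2) → F) = 8 := by simp
  let φ : S.om →* MulAut (Multiplicative (((Fin 3 ⊕ Fin 3) ⊕ Fin 2) → F)) :=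
    { toFun := fun g => AddEquiv.toMultiplicative g.1.toAddEquiv
      map_one' := rfl
      map_mul' := fun _ _ => rfl }
  haveI : Finite ((((Fin 3 ⊕ Fin 3) ⊕ Fin 2) → F) ≃ₗ[F] (((Fin 3 ⊕ Fin 3) ⊕ Fin 2) → F)) :=
    Finite.of_injective _ DFunLike.coe_injective
  haveI : Finite (Multiplicative (((Fin 3 ⊕ Fin 3) ⊕ Fin 2) → F) ⋊[φ] S.om) :=
    Finite.of_equiv _ SemidirectProduct.equivProd.symm
  obtain ⟨H, i1, i2, h1, h2⟩ := CfsgH8.exists_large_isospectral (SemidirectProduct.rightHom (φ := φ)) Nat.prime_two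
    (fun x hx => by
      obtain ⟨v, rfl⟩ : x ∈ (SemidirectProduct.inl (φ := φ)).range := (SemidirectProduct.range_inl_eq_ker_rightHom (φ := φ)).ge hx
      rw [← map_pow, ← map_one SemidirectProduct.inl]
      refine congrArg _ (Multiplicative.toAdd.injective ?_)
      rw [toAdd_pow, toAdd_one, ← Nat.cast_smul_eq_nsmul F, CharP.cast_eq_zero F 2, zero_smul])
    ⟨.inl (.ofAdd 1), fun c => one_ne_zero (congrFun (congrArg (·.left.toAdd) c) (.inr 0)), by simp⟩ M
  · refine ⟨H, i1, i2, h1, h2.trans ?_⟩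
    ext N
    rw [aff_range S.om.subtype Subtype.val_injective (fun _ _ => rfl) S.om.range_subtype, hS.aff_om (by omega)]
    refine ⟨fun ⟨h, a1, a2⟩ => CfsgH8.exists_orderOf_eq_of_dvd (x := ⟨(glEquiv _ F).symm h, by simpa using a1⟩) (by
      rw [← Subgroup.orderOf_coe, MulEquiv.orderOf_eq]; exact a2), fun ⟨g, hg⟩ => ⟨glEquiv _ F g.1, g.2, ?_⟩⟩
    rw [← hg, ← Subgroup.orderOf_coe, (glEquiv _ F).orderOf_eq]

end Cfsg.Agent.S3590
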