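import Cfsg.Statements.S3619

set_option autoImplicit false
open Cfsg

namespace Cfsg.Agent.S3619

open MulAction Subgroup
open scoped Pointwise

/-- Let G act faithfully on a finite set in such a way that every non-trivial normal subgroup of G is transitive (G is quasiprimitive). Let Γ be a subset with more than one point and not the whole set, such that the pointwise stabilizer of the complement of Γ acts transitively on Γ (a Jordan set). If that pointwise stabilizer acts primitively on Γ, then G is k-fold transitive where k is one more than the number of points outside Γ (the Jordan set is a trivial one). -/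
theorem result {G Ω : Type*} [Group G] [Finite G] [MulAction G Ω] [FaithfulSMul G Ω] [Finite Ω]
    (hqp : ∀ N : Subgroup G, N.Normal → N ≠ ⊥ → MulAction.IsPretransitive ↥N Ω)
    (Γ : Set Ω) (hΓ1 : 1 < Γ.ncard) (hΓ2 : Γ.ncard < Nat.card Ω)
    (hJ : MulAction.IsPretransitive ↥(fixingSubgroup G Γᶜ) ↥(SubMulAction.ofFixingSubgroup G Γᶜ))
    (hJp : MulAction.IsPreprimitive ↥(fixingSubgroup G Γᶜ) ↥(SubMulAction.ofFixingSubgroup G Γᶜ)) :
    MulAction.IsMultiplyPretransitive G Ω (Nat.card Ω - Γ.ncard + 1) := by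
  obtain ⟨x, hx, y, hy, n⟩ := (Set.one_lt_ncard).1 hΓ1
  obtain ⟨k, hk⟩ := hJ.1 ⟨x, not_not.2 hx⟩ ⟨y, not_not.2 hy⟩
  have h1 : k.1 ≠ 1 := fun e => n (by simpa [Subgroup.smul_def, e] using congrArg Subtype.val hk)
  have t := hqp ⊤ inferInstance fun e => h1 (mem_bot.1 (e.le (mem_top _)))
  have : IsPretransitive G Ω := ⟨fun a b => (t.1 a b).elim fun g h => ⟨g, h⟩⟩
  have hp : IsPreprimitive G Ω := ⟨fun {B} hB => or_iff_not_imp_left.2 fun h => by
    let N : Subgroup G := ⨅ g : G, stabilizer G (g • B)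
    have := hqp N ⟨fun a ha b => mem_iInf.2 fun g => by
      have := mem_iInf.1 ha (b⁻¹ * g)
      rw [mem_stabilizer_iff, mul_smul] at this
      rw [mem_stabilizer_iff, mul_smul, mul_smul, this, smul_inv_smul]⟩ fun e => h1 (mem_bot.1 (e.le (mem_iInf.2 fun g => by
        by_cases c : g • B ⊆ Γ
        · rcases hJp.isTrivialBlock_of_isBlock ((hB.translate g).preimage (SubMulAction.ofFixingSubgroup_equivariantMap G Γᶜ)) with e | e
          · obtain ⟨a, ha, b, hb, n⟩ := Set.not_subsingleton_iff.1 h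
            exact (n (MulAction.injective g (congrArg Subtype.val (@e ⟨_, not_not.2 (c ⟨a, ha, rfl⟩)⟩ ⟨a, ha, rfl⟩
              ⟨_, not_not.2 (c ⟨b, hb, rfl⟩)⟩ ⟨b, hb, rfl⟩)))).elim
          · exact (hB.translate g).smul_eq_of_mem (e.ge (Set.mem_univ ⟨x, not_not.2 hx⟩))
              (e.ge (Set.mem_univ (k • ⟨x, not_not.2 hx⟩)))
        · obtain ⟨a, ha, h⟩ := Set.not_subset.1 c
          exact (hB.translate g).smul_eq_of_mem ha (((mem_fixingSubgroup_iff G).1 k.2 a h).symm ▸ ha))))
    obtain ⟨a, ha⟩ := (Set.not_subsingleton_iff.1 h).nonempty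
    refine Set.eq_univ_of_forall fun z => ?_
    obtain ⟨g, rfl⟩ := this.1 a z
    have := mem_iInf.1 g.2 1
    rw [one_smul, mem_stabilizer_iff] at this
    exact this ▸ ⟨a, ha, rfl⟩⟩
  have := (hp.isMultiplyPreprimitive (s := Γᶜ) (n := Nat.card Ω - Γ.ncard - 1) (by rw [Set.ncard_compl]; omega) (by omega) hJp).1
  rwa [show Nat.card Ω - Γ.ncard - 1 + 2 = Nat.card Ω - Γ.ncard + 1 by omega] at this

end Cfsg.Agent.S3619
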