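import Cfsg.Statements.S3627
import Cfsg.Agent.H3.J1b
import Cfsg.Agent.H3.Spc

set_option autoImplicit false
open Cfsg

namespace Cfsg.Agent.S3627

open CfsgPm CfsgPm.J1
theorem dv {G : Type*} [Group G] [Finite G] (u : G) {d : ℕ} (h : d ∣ orderOf u) : d ∈ Set.range (orderOf : G → ℕ) :=
  ⟨_, orderOf_pow_orderOf_div (orderOf_pos u).ne' h⟩
theorem fr (N : ℕ) : ∃ (F : Type) (_ : Group F) (_ : Finite F), N < Nat.card F ∧ (∀ f : F, orderOf f ∣ 2 ∨ orderOf f ∣ 7) ∧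
    (∃ f : F, orderOf f = 2) ∧ ∃ f : F, orderOf f = 7 := by
  let K := GaloisField 2 3
  let V := Fin (N + 1) → K
  have cK : Nat.card K = 8 := GaloisField.card 2 3 (by norm_num)
  have cA : Nat.card Kˣ = 7 := by rw [Nat.card_units, cK]
  let φ := (MulAutMultiplicative V).symm.toMonoidHom.comp (DistribMulAction.toAddAut Kˣ V)
  have e := spec_frob φ fun a v e => or_iff_not_imp_right.2 fun hv => by
    obtain ⟨i, hi⟩ := Function.ne_iff.1 (show v.toAdd ≠ 0 from hv)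
    exact Units.ext (mul_right_cancel₀ hi ((congrFun e i).trans (one_mul _).symm))
  have k : ∀ v : Multiplicative V, v ^ 2 = 1 := fun v => funext fun i => (by rw [two_nsmul]; exact CharTwo.add_self_eq_zero _ : 2 • v.toAdd i = 0)
  haveI := Fact.mk Nat.prime_seven
  refine ⟨_, inferInstance, Finite.of_equiv _ (SemidirectProduct.equivProd (φ := φ)).symm, ?_, fun f => ?_,
    e.ge (.inl ⟨.ofAdd 1, orderOf_eq_prime (k _) fun h => one_ne_zero (congrFun h 0)⟩),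
    e.ge (.inr (exists_prime_orderOf_dvd_card' 7 cA.symm.dvd))⟩
  · rw [SemidirectProduct.card, cA, Nat.card_congr Multiplicative.toAdd, Nat.card_fun, cK, Nat.card_fin]
    have := Nat.lt_pow_self (n := N + 1) (show 1 < 8 by norm_num)
    omega
  · rcases e.le ⟨f, rfl⟩ with ⟨v, h⟩ | ⟨v, h⟩
    exacts [.inl (h ▸ orderOf_dvd_of_pow_eq_one (k v)), .inr (h ▸ cA ▸ orderOf_dvd_natCard v)]

/-- Let J be the first Janko group. Then there are finite groups of arbitrarily large order with exactly the same set of element orders as J × J × J × J. -/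
theorem result (N : ℕ) : ∃ (H : Type) (_ : Group H) (_ : Fintype H), N < Fintype.card H ∧
      Set.range (orderOf : H → ℕ) = Set.range (orderOf : ↥Cfsg.Spor.J1 × ↥Cfsg.Spor.J1 × ↥Cfsg.Spor.J1 × ↥Cfsg.Spor.J1 → ℕ) := by
  obtain ⟨F, _, _, c, hF, ⟨f2, h2⟩, f7, h7⟩ := fr N
  have ex : ∀ g : Spor.J1 × Spor.J1 × Spor.J1 × Spor.J1, orderOf g ∣ 43890 := fun g => by
    simp only [Prod.orderOf]
    exact Nat.lcm_dvd (expo _) (Nat.lcm_dvd (expo _) (Nat.lcm_dvd (expo _) (expo _)))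
  obtain ⟨o6, o10, o15, o7, o11, o19, -⟩ := os
  by_cases h : ∃ g : Spor.J1 × Spor.J1 × Spor.J1 × Spor.J1, orderOf g = 43890
  · obtain ⟨u, hu⟩ := h
    refine ⟨(Spor.J1 × Spor.J1 × Spor.J1 × Spor.J1) × F, inferInstance, Fintype.ofFinite _, ?_, Set.Subset.antisymm ?_ ?_⟩
    · rw [← @Nat.card_eq_fintype_card, Nat.card_prod]
      exact c.trans_le (Nat.le_mul_of_pos_left _ Nat.card_pos)
    · rintro _ ⟨g, rfl⟩
      refine dv u ?_
      rw [hu, Prod.orderOf]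
      exact Nat.lcm_dvd (ex _) ((hF _).elim (·.trans (by norm_num)) (·.trans (by norm_num)))
    · rintro _ ⟨g, rfl⟩
      exact ⟨(g, 1), by simp [Prod.orderOf_mk]⟩
  refine ⟨Spor.J1 × Spor.J1 × Spor.J1 × F, inferInstance, Fintype.ofFinite _, ?_, Set.Subset.antisymm ?_ ?_⟩
  · rw [← @Nat.card_eq_fintype_card, Nat.card_prod, Nat.card_prod, Nat.card_prod, ← mul_assoc, ← mul_assoc]
    exact c.trans_le (Nat.le_mul_of_pos_left _ (by rw [card]; norm_num))
  · rintro _ ⟨⟨a, b, c, f⟩, rfl⟩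
    obtain ⟨d, e⟩ : orderOf f ∈ Set.range (orderOf : Spor.J1 → ℕ) :=
      (hF f).elim (fun h => dv (ev 30) (h.trans (by rw [ord_ev o6]; norm_num))) fun h => dv (ev 2) (by rwa [ord_ev o7])
    exact ⟨(a, b, c, d), by simp only [Prod.orderOf_mk, e]⟩
  rintro _ ⟨g, rfl⟩
  have k : ∀ {a b c m n l r : ℕ} {f : F}, ordc a m → ordc b n → ordc c l → orderOf f = r → orderOf g ∣ m.lcm (n.lcm (l.lcm r)) →
      orderOf g ∈ Set.range (orderOf : Spor.J1 × Spor.J1 × Spor.J1 × F → ℕ) := fun {a b c _ _ _ _ f} h1 h2 h3 h4 d =>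
    dv (ev a, ev b, ev c, f) (by simpa only [Prod.orderOf_mk, ord_ev h1, ord_ev h2, ord_ev h3, h4] using d)
  obtain ⟨s, e⟩ := ex g
  obtain ⟨p, hp, t, rfl⟩ := Nat.exists_prime_and_dvd (n := s) fun e' => h ⟨g, by rw [e, e', mul_one]⟩
  have d : orderOf g ∣ 43890 / p := ⟨t, by rw [e, mul_left_comm, Nat.mul_div_cancel_left _ hp.pos]⟩
  rcases (by decide +kernel : ∀ p ∈ Nat.primeFactorsList 43890, p = 2 ∨ p = 3 ∨ p = 5 ∨ p = 7 ∨ p = 11 ∨ p = 19) p
    ((Nat.mem_primeFactorsList (by norm_num)).2 ⟨hp, _, e.trans (mul_left_comm _ _ _)⟩) with rfl | rfl | rfl | rfl | rfl | rfl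
  exacts [k o15 o11 o19 h7 d, k o10 o11 o19 h7 d, k o6 o11 o19 h7 d, k o15 o11 o19 h2 d, k o15 o7 o19 h2 d, k o15 o7 o11 h2 d]

end Cfsg.Agent.S3627
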