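import Cfsg.Statements.S3633
import Cfsg.Agent.H2.Mx1

set_option autoImplicit false
open Cfsg

namespace Cfsg.Agent.S3633
open Subgroup CfsgH2
open scoped commutatorElement

open CfsgFT CfsgH2 Subgroup

/-- Let G be a finite group and ρ a set of at least three prime divisors of the order of G that are pairwise non-adjacent in the prime graph (no element of order rs for distinct r, s ∈ ρ). Then at most one prime of ρ divides the order of any given solvable normal subgroup of G; in particular G is not solvable. -/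
theorem result {G : Type*} [Group G] [Finite G] (ρ : Finset ℕ) (hρ : 3 ≤ ρ.card) (hc : ((∀ r ∈ ρ, r.Prime ∧ r ∣ Nat.card G) ∧ (∀ r ∈ ρ, ∀ s ∈ ρ, r ≠ s → ¬ ∃ x : G, orderOf x = r * s)))
    (K : Subgroup G) [K.Normal] (hK : Group.IsSolvable ↥K) :
    (∀ r ∈ ρ, ∀ s ∈ ρ, r ∣ Nat.card ↥K → s ∣ Nat.card ↥K → r = s) ∧ ¬ Group.IsSolvable G := by
  have k : ∀ K : Subgroup G, Group.IsSolvable K → ⊤ ≤ N(K) → ∀ r ∈ ρ, ∀ s ∈ ρ, r ∣ Nat.card K → s ∣ Nat.card K → r = s := by
    intro K hK nK r hr s hs r1 s1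
    by_contra ne
    obtain ⟨t, ht, t1⟩ := Finset.exists_mem_notMem_of_card_lt_card (s := {r, s}) (t := ρ)
      (lt_of_le_of_lt Finset.card_le_two hρ)
    simp only [Finset.mem_insert, Finset.mem_singleton, not_or] at t1
    exact cocl_normal (ρ := ρ) hc.2 hK nK (hc.1 r hr).1 (hc.1 s hs).1 (hc.1 t ht).1 ne (Ne.symm t1.1) (Ne.symm t1.2)
      hr hs ht r1 s1 (hc.1 t ht).2
  refine ⟨k K hK (normalizer_eq_top K).ge, fun h => ?_⟩
  obtain ⟨r, hr, s, hs, ne⟩ := Finset.one_lt_card.1 (lt_of_lt_of_le (by norm_num) hρ)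
  exact ne (k ⊤ inferInstance (le_norm_top _) r hr s hs (card_top (G := G) ▸ (hc.1 r hr).2) (card_top (G := G) ▸ (hc.1 s hs).2))


end Cfsg.Agent.S3633
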