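import Cfsg.Statements.S3634
import Cfsg.Agent.H1.Frob
import Cfsg.Agent.H2.SylowIn

set_option autoImplicit false
open Cfsg

namespace Cfsg.Agent.S3634

open Subgroup CfsgH1 CfsgH2
theorem ord {G : Type*} [Group G] [Finite G] {p r : ℕ} (hp : p.Prime) (hr : r.Prime) (h : p ≠ r) {S : Subgroup G} (hS : IsPGroup p S) {y : G}
    (hy : orderOf y = r) (e : S ⊓ centralizer {y} ≠ ⊥) : ∃ x : G, orderOf x = p * r := by
  have := Fact.mk hp
  obtain ⟨x, o⟩ := exists_prime_orderOf_dvd_card' p ((hS.to_inf_left (K := centralizer {y})).card_eq_or_dvd.resolve_left (card_eq_one.not.2 e))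
  rw [← Subgroup.orderOf_coe] at o
  exact ⟨x * y, by rw [Commute.orderOf_mul_eq_mul_orderOf_of_coprime (mem_centralizer_singleton_iff.1 x.2.2)
    (by rw [o, hy]; exact (Nat.coprime_primes hp hr).2 h), o, hy]⟩
theorem fr {G : Type*} [Group G] [Finite G] {p : ℕ} [Fact p.Prime] {S L H : Subgroup G} (M : Subgroup G) [M.Normal] (hS : IsSylowIn p S L) (h1 : L ≤ M)
    (h2 : L ≤ H) (h3 : H ≤ normalizer (L : Set G)) : M.relIndex H ∣ M.relIndex (H ⊓ normalizer (S : Set G)) := by
  rw [← relIndex_sup_left, ← relIndex_sup_left (H ⊓ _)]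
  refine dvd_of_eq (congrArg _ (le_antisymm (sup_le le_sup_left fun g hg => ?_) (sup_le_sup_left inf_le_left _)))
  obtain ⟨n, hn, h⟩ := hS.frattini (h3 hg)
  simpa using mul_mem (mem_sup_left (inv_mem (h1 hn))) (mem_sup_right (show n * g ∈ H ⊓ _ from ⟨mul_mem (h2 hn) hg, h⟩))

/-- Let G be a finite group with normal subgroups K ≤ M, and let p, q, r be distinct primes with p dividing the order of K, q dividing the order of M/K and r dividing the order of G/M. Then p, q, r are not pairwise non-adjacent in the prime graph of G: G has an element of order pq, pr or qr. -/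
theorem result {G : Type*} [Group G] [Finite G] (K M : Subgroup G) [K.Normal] [M.Normal] (hKM : K ≤ M)
    (p q r : ℕ) (hp : p.Prime) (hq : q.Prime) (hr : r.Prime) (hpq : p ≠ q) (hpr : p ≠ r) (hqr : q ≠ r)
    (hpK : p ∣ Nat.card ↥K) (hqM : q ∣ Nat.card ↥M / Nat.card ↥K) (hrG : r ∣ Nat.card G / Nat.card ↥M) :
    (∃ x : G, orderOf x = p * q) ∨ (∃ x : G, orderOf x = p * r) ∨ (∃ x : G, orderOf x = q * r) := by
  have := Fact.mk hp
  have := Fact.mk hq
  have := Fact.mk hr
  rw [← Nat.card_congr (subgroupOfEquivOfLe hKM).toEquiv, ← (K.subgroupOf M).card_mul_index, Nat.mul_div_cancel_left _ Nat.card_pos] at hqM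
  rw [← M.card_mul_index, Nat.mul_div_cancel_left _ Nat.card_pos, ← relIndex_top_right] at hrG
  obtain ⟨P, hP⟩ := IsSylowIn.exists_sylowIn (p := p) K
  obtain ⟨Q, hQ⟩ := IsSylowIn.exists_sylowIn (p := q) (M ⊓ normalizer (P : Set G))
  have q1 := hqM.trans ((fr K hP le_rfl hKM le_normalizer_of_normal).trans (relIndex_dvd_card _ _))
  have r1 := (hrG.trans (fr M hP hKM le_top le_normalizer_of_normal)).trans ((fr M hQ inf_le_left (le_inf le_top inf_le_right)
    (inf_le_right.trans (le_normalizer_inf le_normalizer_of_normal le_normalizer))).trans (relIndex_dvd_card _ _))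
  obtain ⟨⟨x, hx⟩, o⟩ := exists_prime_orderOf_dvd_card' r r1
  rw [← Subgroup.orderOf_coe] at o
  by_contra n
  simp only [not_or] at n
  have P0 := hP.eq_bot_iff.not.2 (not_not.2 hpK)
  obtain ⟨⟨y, hy⟩, o'⟩ := exists_prime_orderOf_dvd_card' q (hQ.pgroup.card_eq_or_dvd.resolve_left
    (card_eq_one.not.2 (hQ.eq_bot_iff.not.2 (not_not.2 q1))))
  rw [← Subgroup.orderOf_coe] at o'
  have := hP.pgroup.isNilpotent
  refine n.2.1 (ord hp hr hpr hP.pgroup o fun e => inf_cent_ne_bot_of_frob (U := Q) (E := zpowers x) inferInstance P0 (hQ.le.trans inf_le_right)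
    (zpowers_le.2 hx.1.2) (zpowers_le.2 hx.2) (fun e => hr.ne_one (o.symm.trans (orderOf_eq_one_iff.2 (zpowers_eq_bot.1 e))))
    (IsPGroup.coprime_card_of_ne q p hpq.symm _ _ hQ.pgroup hP.pgroup) (fun z hz z1 => by_contra fun e => n.2.2 (ord hq hr hqr hQ.pgroup
      (((Nat.dvd_prime hr).1 (o ▸ orderOf_dvd_of_mem_zpowers hz)).resolve_left (orderOf_eq_one_iff.not.2 z1)) e))
    (by_contra fun e => n.1 (ord hp hq hpq hP.pgroup o' fun e' => e (eq_bot_iff.2 (e' ▸ inf_le_inf_left _ (centralizer_le (by simpa))))))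
    (eq_bot_iff.2 (e ▸ inf_le_inf_left _ (centralizer_le (by simp)))))

end Cfsg.Agent.S3634
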