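import Cfsg.Statements.S3660
import Mathlib

set_option autoImplicit false
open Cfsg

namespace Cfsg.Agent.S3660

open Subgroup Matrix
theorem sq_of_fix {F : Type*} [Field F] [CharP F 2] (A : SpecialLinearGroup (Fin 2) F) {w : Fin 2 → F} (hw : w ≠ 0) (h : A • w = w) : A ^ 2 = 1 := by
  have h1 := Matrix.exists_mulVec_eq_zero_iff.1 ⟨w, hw, (by rw [Matrix.sub_mulVec, Matrix.one_mulVec]; exact sub_eq_zero.2 h : (A.1 - 1) *ᵥ w = 0)⟩
  have h2 := A.2
  have h3 : (2 : F) = 0 := CharTwo.two_eq_zero
  simp only [Matrix.det_fin_two, Matrix.sub_apply, Matrix.one_apply_eq, Matrix.one_apply_ne (show (0 : Fin 2) ≠ 1 by decide),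
    Matrix.one_apply_ne (show (1 : Fin 2) ≠ 0 by decide)] at h1 h2
  ext i j
  rw [pow_two]
  fin_cases i <;> fin_cases j <;> simp [Matrix.mul_apply, Fin.sum_univ_two]
  · linear_combination (-A.1 0 0) * h1 + (A.1 0 0 - 1) * h2 + (A.1 0 0 - 1) * h3
  · linear_combination (-A.1 0 1) * h1 + A.1 0 1 * h2 + A.1 0 1 * h3
  · linear_combination (-A.1 1 0) * h1 + A.1 1 0 * h2 + A.1 1 0 * h3
  · linear_combination (-A.1 1 1) * h1 + (A.1 1 1 - 1) * h2 + (A.1 1 1 - 1) * h3

/-- The prime graph of a finite group has the prime divisors of its order as vertices, two distinct primes p, q being joined when the group has an element of order pq; two groups have the same prime graph when they have the same prime divisors and the same joined pairs. Let F be a finite field of characteristic 2 with at least 4 elements. Then there are finite groups of arbitrarily large order with the same prime graph as PSL(2,F); in particular PSL(2,F) is not determined by its prime graph. -/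
theorem result {F : Type*} [Field F] [Fintype F] [CharP F 2] (hF : 4 ≤ Fintype.card F) (N : ℕ) :
    ∃ (H : Type) (_ : Group H) (_ : Finite H), N < Nat.card H ∧
      ((∀ p : ℕ, p.Prime → (p ∣ Nat.card (Matrix.ProjectiveSpecialLinearGroup (Fin 2) F) ↔ p ∣ Nat.card H)) ∧
      (∀ p q : ℕ, p.Prime → q.Prime → p ≠ q → ((∃ g : (Matrix.ProjectiveSpecialLinearGroup (Fin 2) F), orderOf g = p * q) ↔ (∃ g : H, orderOf g = p * q)))) := by
  classical
  let φ : SpecialLinearGroup (Fin 2) F →* MulAut (Multiplicative (Fin N → Fin 2 → F)) :=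
    MonoidHom.mk' (fun A => AddEquiv.toMultiplicative (DistribMulAction.toAddEquiv _ A)) fun _ _ => by ext; simp [mul_smul]
  have : Finite (Multiplicative (Fin N → Fin 2 → F) ⋊[φ] SpecialLinearGroup (Fin 2) F) := Finite.of_equiv _ SemidirectProduct.equivProd.symm
  have hc : center (SpecialLinearGroup (Fin 2) F) = ⊥ := eq_bot_iff.2 fun A hA => by
    obtain ⟨r, h1, h2⟩ := Matrix.SpecialLinearGroup.mem_center_iff.1 hA
    obtain rfl : r = 1 := by simpa [CharTwo.neg_eq] using h1
    exact Subtype.ext (h2.symm.trans (map_one _))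
  have e : ProjectiveSpecialLinearGroup (Fin 2) F ≃* SpecialLinearGroup (Fin 2) F :=
    (QuotientGroup.quotientMulEquivOfEq hc).trans QuotientGroup.quotientBot
  have s := Shrink.mulEquiv.{0} (α := Multiplicative (Fin N → Fin 2 → F) ⋊[φ] SpecialLinearGroup (Fin 2) F)
  have sq : ∀ v : Multiplicative (Fin N → Fin 2 → F), v ^ 2 = 1 := fun v => by ext; simp [CharTwo.two_eq_zero]
  refine ⟨_, inferInstance, Finite.of_equiv _ s.symm.toEquiv, ?_, fun p hp => ?_, fun p q hp hq n => ⟨fun ⟨g, h⟩ => ⟨s.symm (.inr (e g)), by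
    rw [MulEquiv.orderOf_eq, orderOf_injective _ SemidirectProduct.inr_injective, MulEquiv.orderOf_eq, h]⟩, fun ⟨g, h⟩ => ?_⟩⟩
  · rw [Nat.card_congr s.toEquiv, SemidirectProduct.card]
    refine lt_of_lt_of_le ?_ (Nat.le_mul_of_pos_right _ Nat.card_pos)
    simpa using Nat.lt_pow_self (by nlinarith)
  · rw [Nat.card_congr s.toEquiv, SemidirectProduct.card, Nat.card_congr e.toEquiv, hp.dvd_mul, or_iff_right_of_imp fun h => ?_]
    have := Fact.mk hp
    obtain ⟨v, hv⟩ := exists_prime_orderOf_dvd_card' p h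
    rw [(Nat.prime_dvd_prime_iff_eq hp Nat.prime_two).1 (hv ▸ orderOf_dvd_of_pow_eq_one (sq v))]
    exact (orderOf_eq_prime (sq_of_fix (⟨!![1, 1; 0, 1], by simp⟩ : SpecialLinearGroup (Fin 2) F) (w := ![1, 0]) (by simp) (by
        show !![1, 1; 0, 1] *ᵥ _ = _
        ext i; fin_cases i <;> simp [vecHead])) fun e => by simpa using congrArg (·.1 0 1) e).symm.dvd.trans
      (orderOf_dvd_natCard _)
  rw [← s.orderOf_eq] at h
  generalize s g = g at h
  have k : ∀ p q : ℕ, p.Prime → q.Prime → p ≠ q → orderOf g = p * q → g.right ^ p ≠ 1 := fun p q hp hq n h c => by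
    have e1 : g ^ p = .inl (g ^ p).left := SemidirectProduct.ext rfl ((map_pow SemidirectProduct.rightHom g p).trans c)
    have o : orderOf (g ^ p) = q := by rw [orderOf_pow_of_dvd hp.ne_zero ⟨q, h⟩, h, Nat.mul_div_cancel_left _ hp.pos]
    obtain rfl : q = 2 := (Nat.prime_dvd_prime_iff_eq hq Nat.prime_two).1 (o ▸ orderOf_dvd_of_pow_eq_one (by rw [e1, ← map_pow, sq, map_one]))
    obtain ⟨i, hi⟩ := Function.ne_iff.1 (show (g ^ p).left.toAdd ≠ 0 from fun e => by
      rw [e1, toAdd_eq_zero.1 e, map_one, orderOf_one] at o; omega)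
    have e2 := congrArg (·.left) (Commute.self_pow g p).eq
    rw [e1] at e2
    have e4 : φ g.right (g ^ p).left = (g ^ p).left := by simpa [mul_comm] using e2
    have := sq_of_fix g.right hi (congrFun (congrArg Multiplicative.toAdd e4) i)
    have := Nat.eq_one_of_dvd_coprimes ((Nat.coprime_primes hp hq).2 n) (orderOf_dvd_of_pow_eq_one c) (orderOf_dvd_of_pow_eq_one this)
    have e3 : g = .inl g.left := SemidirectProduct.ext rfl (orderOf_eq_one_iff.1 this)
    have := Nat.le_of_dvd two_pos (h ▸ orderOf_dvd_of_pow_eq_one (show g ^ 2 = 1 by rw [e3, ← map_pow, sq, map_one]))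
    have := hp.two_le
    omega
  refine ⟨e.symm g.right, (e.symm.orderOf_eq _).trans ?_⟩
  obtain ⟨a, b, ha, hb, c⟩ := exists_dvd_and_dvd_of_dvd_mul (h ▸ orderOf_map_dvd SemidirectProduct.rightHom g : orderOf g.right ∣ p * q)
  rcases (Nat.dvd_prime hp).1 ha with rfl | rfl
  · exact (k q p hq hp n.symm (h.trans (mul_comm _ _)) (orderOf_dvd_iff_pow_eq_one.1 (by rwa [c, one_mul]))).elim
  rcases (Nat.dvd_prime hq).1 hb with rfl | rfl
  · exact (k _ q hp hq n h (orderOf_dvd_iff_pow_eq_one.1 (by rw [c, mul_one]))).elim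
  exact c

end Cfsg.Agent.S3660
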