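import Cfsg.Statements.S3663
import Cfsg.Agent.H3.Pg1
import Cfsg.Agent.H3.U33b
import Cfsg.Agent.S1119
import Cfsg.Agent.S0157
import Cfsg.Agent.S3419

set_option autoImplicit false
open Cfsg

namespace Cfsg.Agent.S3663

open CfsgPm CfsgH3 CfsgH5 Subgroup MulAction
theorem dv : ∀ d ∈ Nat.divisors 62400, (d % 13 = 1 → ¬ ((d : ℤ) - 63).natAbs ∣ 62400) ∧ (d % 13 = 12 → d + 63 ∣ 62400 → d = 12) := by
  decide +kernel
theorem dv2 : ∀ n ∈ Nat.divisors 4800, n % 13 = 1 → ∀ e ∈ Nat.divisors 12, ∀ c ∈ Nat.divisors 62400, c % 2 = 1 → 13 ∣ c →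
    c * (e * n) = 62400 → e = 3 ∨ e = 1 := by decide +kernel
theorem main {G Ω : Type} [Group G] [Fintype G] [MulAction G Ω] [Finite Ω] {a : Ω} {t : G} {Q : Subgroup G} (hS : IsRankOneSetup G Ω a t Q)
    (hc : Nat.card G = 62400) (hp : commutator G = ⊤) (hQ : Nat.card Q = 64) :
    (∃ χ, IsCharacter G χ ∧ χ 1 = (12 : ℕ) ∧ ∀ c, orderOf c = 13 → ∑ i ∈ Finset.range 13, χ (c ^ i) = 0) ∧
      (∃ g : G, orderOf g = 5 * 2) ∧ ∃ g : G, orderOf g = 5 * 3 := by
  obtain ⟨-, cΩ, cG, -⟩ := S1119.result hS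
  rw [hQ] at cΩ cG
  have cD : Nat.card ↥(stabilizer G a ⊓ stabilizer G (t • a)) = 15 := by omega
  haveI := hS.two_transitive
  haveI : IsPretransitive G Ω := isPretransitive_of_is_two_pretransitive
  have cS : ∀ b : Ω, Nat.card (stabilizer G b) = 960 := fun b => by
    have := (stabilizer G b).card_mul_index
    rw [index_stabilizer_of_transitive, cΩ, hc] at this; omega
  have nf : ∀ (g : G) (b : Ω), 13 ∣ orderOf g → g • b ≠ b := fun g b d e =>
    absurd (cS b ▸ d.trans (orderOf_dvd_natCard (stabilizer G b) e)) (by norm_num)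
  refine ⟨?_, ?_, ?_⟩
  rotate_left
  · haveI : (Q.subgroupOf (stabilizer G a)).Normal := ⟨fun x hx g => hS.conj_mem g g.2 x hx⟩
    have c : Nat.card (Q.subgroupOf (stabilizer G a)) = 64 := by rw [Nat.card_congr (subgroupOfEquivOfLe hS.le).toEquiv, hQ]
    have := (Q.subgroupOf (stabilizer G a)).card_mul_index
    obtain ⟨g, e⟩ := ord_pq (Q.subgroupOf (stabilizer G a)) Nat.prime_two Nat.prime_five (by norm_num) (by rw [c]; norm_num)
      (by rw [c, cS] at this; omega) (by rw [c, Nat.factorization_def _ Nat.prime_two]; decide +kernel)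
    exact ⟨g, (orderOf_coe g).trans e⟩
  · haveI := S0144.result 3 5 1 1 Nat.prime_three Nat.prime_five cD
    obtain ⟨g, e⟩ := S3419.aux (G := ↥(stabilizer G a ⊓ stabilizer G (t • a))) Nat.prime_five Nat.prime_three (by norm_num)
      (by rw [cD, Nat.factorization_def _ Nat.prime_five]; decide +kernel)
      (by rw [cD, Nat.factorization_def _ Nat.prime_three]; decide +kernel) (by norm_num)
      (by rw [cD, Nat.factorization_def _ Nat.prime_three]; decide +kernel)
    exact ⟨g, (orderOf_coe g).trans e⟩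
  haveI := Fact.mk (show Nat.Prime 13 by norm_num)
  haveI := Fact.mk Nat.prime_two
  obtain ⟨P⟩ : Nonempty (Sylow 13 G) := inferInstance
  have cP : Nat.card P = 13 := by rw [P.card_eq_multiplicity, hc, Nat.factorization_def _ Fact.out]; decide +kernel
  haveI := isCyclic_of_prime_card cP
  obtain ⟨x, hx⟩ := exists_prime_orderOf_dvd_card' (G := P) 13 cP.symm.dvd
  rw [← orderOf_coe] at hx
  have e : (centralizer (P : Set G)).relIndex (normalizer (P : Set G)) = 3 := by
    have o : ¬ 2 ∣ Nat.card (centralizer (P : Set G)) := fun d => by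
      obtain ⟨y, hy⟩ := exists_prime_orderOf_dvd_card' 2 d
      rw [← orderOf_coe] at hy
      obtain ⟨b, hb⟩ := (IsPGroup.of_card (n := 1) (G := zpowers (y : G)) (p := 2) (by rw [Nat.card_zpowers, hy]; rfl)
        ).nonempty_fixed_point_of_prime_not_dvd_card Ω (by rw [cΩ]; norm_num)
      have hb : (y : G) • b = b := hb ⟨_, mem_zpowers _⟩
      obtain ⟨g, g1, g2⟩ := is_two_pretransitive_iff.1 hS.two_transitive (nf x b hx.symm.dvd).symm (fun h => hS.not_mem h.symm)
      have := orderOf_dvd_natCard (stabilizer G a ⊓ stabilizer G (t • a)) (x := g * y * g⁻¹) ⟨by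
        rw [← g1]; simp [mul_smul, hb], by
        rw [← g2]; show (g * y * g⁻¹) • g • (x : G) • b = g • (x : G) • b
        rw [mul_smul, mul_smul, inv_smul_smul, ← mul_smul (y : G), ← y.2 x x.2, mul_smul, hb]⟩
      rw [cD, ← MulAut.conj_apply, MulEquiv.orderOf_eq, hy] at this
      omega
    have d7 : 13 ∣ Nat.card (centralizer (P : Set G)) :=
      cP.symm.dvd.trans (card_dvd_of_le (H := P.1) (le_centralizer_iff_isMulCommutative.2 inferInstance))
    have a : (centralizer (P : Set G)).relIndex (normalizer (P : Set G)) ∣ 12 := by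
      have := card_subgroup_dvd_card (P : Subgroup G).normalizerMonoidHom.range
      rwa [IsCyclic.card_mulAut, cP, ← index_ker, normalizerMonoidHom_ker] at this
    have b := relIndex_mul_index (centralizer_le_normalizer (P : Set G))
    have c := (centralizer (P : Set G)).card_mul_index
    have d := card_sylow_modEq_one 13 G
    rw [P.card_eq_index_normalizer] at d
    have f := (index_dvd_of_le (le_normalizer (H := P.1))).trans (show P.1.index = 4800 by
      have := P.1.card_mul_index; rw [cP, hc] at this; omega).dvd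
    rw [hc, ← b] at c
    refine (dv2 _ (Nat.mem_divisors.2 ⟨f, by norm_num⟩) d _ (Nat.mem_divisors.2 ⟨a, by norm_num⟩) _
      (Nat.mem_divisors.2 ⟨hc ▸ card_subgroup_dvd_card _, by norm_num⟩) (by omega) d7 c).resolve_right fun h => ?_
    have h := relIndex_eq_one.1 h
    refine MonoidHom.not_dvd_card_ker_transferSylow P h ?_
    rw [show (MonoidHom.transferSylow P h).ker = ⊤ from eq_top_iff.2 (hp.ge.trans ((commutator_le (H₁ := ⊤) (H₂ := ⊤)).2 fun u _ v _ => by
      rw [MonoidHom.mem_ker, map_commutatorElement, commutatorElement_eq_one_iff_mul_comm]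
      exact (inferInstance : IsMulCommutative P).1.1 _ _)), card_top, hc]
    norm_num
  obtain ⟨M, hM⟩ := CfsgH4.exists_isPModular 13
  haveI := hM.2.1
  obtain ⟨X, Y, hB, -, cX, cY, v, ε, hX, hε, hY, -, hs⟩ := S4441.result 13 M hM (by norm_num) P cP 3 e
  have E := fun χ : IrrCharacter G => CfsgH4.charDegree_eq (deg_spec χ)
  obtain ⟨θ, hθ⟩ : Y.Nonempty := Set.nonempty_of_ncard_ne_zero (by rw [← Nat.card_coe_set_eq, cY]; norm_num)
  let o : IrrCharacter G := ⟨_, isIrr_one⟩
  let s : IrrCharacter G := ⟨_, (S0157.result Ω (by omega)).2 hS.two_transitive⟩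
  have o1 : deg o = 1 := by have : (1 : ℂ) = deg o := deg_spec o; exact_mod_cast this.symm
  have s1 : deg s = 64 := by
    have : ((Nat.card (fixedBy Ω (1 : G)) : ℂ) - 1) = deg s := deg_spec s
    rw [fixedBy_one_eq_univ, Nat.card_univ, cΩ] at this
    exact_mod_cast (by linear_combination -this : (deg s : ℂ) = 64)
  have nY : ∀ χ ∈ Y, deg χ ≠ 1 ∧ deg χ ≠ 64 := fun χ h => by
    have := hY χ h
    rw [E, Int.ModEq] at this
    rcases hε with rfl | rfl <;> omega
  have oX : o ∈ X := (hB.le CfsgH4.one_mem_principal).resolve_right fun h => (nY _ h).1 o1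
  have vo : v o = 1 := by
    obtain ⟨h1, h2, -⟩ := hX o oX
    rw [E, o1, Int.ModEq] at h2; omega
  have fX : X.Finite := Set.toFinite _
  have sX : s ∈ X := by
    by_contra n
    have z : classInner ((∑ χ ∈ fX.toFinset, (v χ : ℂ) • χ.1) - (ε : ℂ) • θ.1) (s.1 + o.1) = 0 := by
      rw [classInner, Finset.sum_eq_zero, mul_zero]
      intro g _
      by_cases d : 13 ∣ orderOf g
      · have : Nat.card (fixedBy Ω g) = 0 := Nat.card_eq_zero.2 (.inl ⟨fun b => nf g b d b.2⟩)
        have z : (s.1 + o.1) g = 0 := by show ((Nat.card (fixedBy Ω g) : ℂ) - 1) + 1 = 0; rw [this]; simp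
        rw [z]; simp
      · simp [hs θ hθ g d, finsum_mem_eq_finite_toFinset_sum _ fX]
    have n1 : θ ≠ s := fun h => (nY θ hθ).2 (h ▸ s1)
    have n2 : θ ≠ o := fun h => (nY θ hθ).1 (h ▸ o1)
    rw [ip_sub_left, ip_sum_left, Finset.sum_eq_single o (fun χ h n3 => by
      have n4 : χ ≠ s := fun e => n (e ▸ fX.mem_toFinset.1 h)
      simp [ip_smul_left, ip_add_right, inner_irr, n3, n4]) fun h => (h (fX.mem_toFinset.2 oX)).elim] at z
    have n5 : o ≠ s := fun e => n (e ▸ oX)
    simp [ip_smul_left, ip_add_right, inner_irr, n1, n2, n5, vo] at z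
  have vs : v s = -1 := by
    obtain ⟨h1, h2, -⟩ := hX s sX
    rw [E, s1, Int.ModEq] at h2; omega
  have os : o ≠ s := fun h => by rw [h, s1] at o1; omega
  obtain ⟨ψ, hψ⟩ := Set.ncard_eq_one.1 (show (X \ {o, s}).ncard = 1 by
    rw [Set.ncard_diff (Set.pair_subset oX sX), Set.ncard_pair os, ← Nat.card_coe_set_eq, cX])
  obtain ⟨pX, pn⟩ := hψ.ge rfl
  have eX : X = insert ψ {o, s} := by rw [Set.insert_eq, ← hψ, Set.diff_union_of_subset (Set.pair_subset oX sX)]
  have q := hs θ hθ 1 (by simp)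
  rw [eX, finsum_mem_insert _ pn (Set.toFinite _), finsum_mem_pair os] at q
  simp only [deg_spec, o1, s1, vo, vs] at q
  replace q : ε * deg θ = v ψ * deg ψ + (1 * 1 + -1 * 64) := by exact_mod_cast q
  obtain ⟨h1, h2, h3⟩ := hX ψ pX
  rw [E, Int.ModEq] at h2
  have D := dv _ (Nat.mem_divisors.2 ⟨hc ▸ deg_dvd_card ψ, by norm_num⟩)
  have T : deg θ ∣ 62400 := hc ▸ deg_dvd_card θ
  rcases h1 with h1 | h1 <;> rw [h1] at h2 q h3
  · exact (D.1 (by omega) (by rwa [show ((deg ψ : ℤ) - 63).natAbs = deg θ by rcases hε with rfl | rfl <;> omega])).elim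
  have d := D.2 (by omega) (by rwa [show deg ψ + 63 = deg θ by rcases hε with rfl | rfl <;> omega])
  have val : ∀ c : G, orderOf c = 13 → ψ.1 c = -1 := fun c h => by
    obtain ⟨R, hR⟩ := (IsPGroup.of_card (n := 1) (G := zpowers c) (p := 13) (by rw [Nat.card_zpowers, h]; rfl)).exists_le_sylow
    obtain ⟨g, rfl⟩ := exists_smul_eq G P R
    have := h3 (g⁻¹ * c * g) (by simpa [Sylow.coe_subgroup_smul, mem_pointwise_smul_iff_inv_smul_mem] using hR (mem_zpowers c))
      (fun e => by rw [show c = 1 by simpa [mul_assoc, inv_mul_eq_one] using e] at h; simp at h) 1 (one_mem _) (by simp)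
    rw [mul_one, ψ.2.isChar.classFun.conj'] at this
    simpa using this
  refine ⟨ψ, ψ.2.isChar, d ▸ deg_spec ψ, fun c h => ?_⟩
  rw [Finset.sum_range_succ', Finset.sum_congr rfl fun i hi => val _ (by
    rw [(Nat.Coprime.orderOf_pow (by
      rw [h]; exact (Nat.Prime.coprime_iff_not_dvd (by norm_num)).2 (Nat.not_dvd_of_pos_of_lt (by omega) (by have := Finset.mem_range.1 hi; omega)))), h])]
  simp [deg_spec, d]

/-- The prime graph of a finite group has the prime divisors of its order as vertices, two distinct primes p, q being joined when the group has an element of order pq; two groups have the same prime graph when they have the same prime divisors and the same joined pairs. Let F be the field with 16 elements and L = PSU(3,4) realised over F. There are finite groups of arbitrarily large order with the same prime graph as L. -/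
theorem result {F : Type*} [Field F] [Fintype F] (hF : Fintype.card F = 16) (N : ℕ) :
    ∃ (H : Type) (_ : Group H) (_ : Finite H), N < Nat.card H ∧
      ((∀ p : ℕ, p.Prime → (p ∣ Nat.card (Cfsg.PSU 3 F 4) ↔ p ∣ Nat.card H)) ∧
      (∀ p q : ℕ, p.Prime → q.Prime → p ≠ q → ((∃ g : (Cfsg.PSU 3 F 4), orderOf g = p * q) ↔ (∃ g : H, orderOf g = p * q)))) := by
  classical
  letI := Fintype.ofFinite (GaloisField 2 4)
  have c : Fintype.card (GaloisField 2 4) = (2 ^ 2) ^ 2 := by rw [← Nat.card_eq_fintype_card, GaloisField.card 2 4 (by norm_num)]; rfl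
  obtain ⟨Ω, _, _, a, t, Q, hS, -, -, hQ, -⟩ := psu3_setup c
  letI := Fintype.ofFinite (PSU 3 (GaloisField 2 4) (2 ^ 2))
  have hc : Nat.card (PSU 3 (GaloisField 2 4) (2 ^ 2)) = 62400 := by simpa using card_PSU3_mul c
  obtain ⟨⟨χ, h1, h2, h3⟩, h4, h5⟩ := main hS hc (by
    have := congrArg (map (QuotientGroup.mk' (center _))) (commutator_SU c (n := 3) le_rfl (by simp))
    rwa [_root_.commutator_def, map_commutator, map_top_of_surjective _ (QuotientGroup.mk'_surjective _)] at this) hQ
  obtain ⟨H, i1, i2, a1, a2, a3⟩ := pg_char Nat.prime_five (by norm_num) h1 h2 (by norm_num) h3 (by rw [hc]; norm_num)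
    (fun s hs n1 n2 d => by
      rcases (by decide +kernel : ∀ p ∈ Nat.primeFactorsList 62400, p = 2 ∨ p = 3 ∨ p = 5 ∨ p = 13) s
        ((Nat.mem_primeFactorsList (by norm_num)).2 ⟨hs, hc ▸ d⟩) with rfl | rfl | rfl | rfl
      exacts [h4, h5, (n1 rfl).elim, (n2 rfl).elim]) N
  have e : PSU 3 F 4 ≃* PSU 3 (GaloisField 2 4) (2 ^ 2) := qcCongr (CfsgH8.suCongr (FiniteField.ringEquivOfCardEq (hF.trans c.symm)))
  exact ⟨H, i1, i2, a1, fun p hp => by rw [Nat.card_congr e.toEquiv, a2 p hp],
    fun p q hp hq n => (Set.ext_iff.1 (spec_congr e) _).trans (a3 p q hp hq n)⟩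

end Cfsg.Agent.S3663
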