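import Cfsg.Statements.S3669
import Cfsg.Agent.H1.PSL2d
import Cfsg.Agent.H1.Dk6
import Cfsg.Agent.H4.Deg2
import Cfsg.Agent.H2.SylNum
import Cfsg.Agent.FT.Hall
import Cfsg.Agent.H4.Ord3

set_option autoImplicit false
open Cfsg

namespace Cfsg.Agent.S3669

/-- The character degree graph of a finite group has as vertices the primes dividing some irreducible complex character degree, two distinct primes being joined when their product divides some irreducible character degree; two groups have the same character degree graph when they have the same vertices and the same joined pairs. A finite group of order 60 with the same character degree graph as the alternating group A₅ (whose character degrees are 1, 3, 4, 5, so the graph has vertices 2, 3, 5 and no edges) is isomorphic to A₅. -/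
theorem result {G : Type*} [Group G] [Finite G] (hcard : Nat.card G = 60)
    (hΓ : Cfsg.degreePrimes G = Cfsg.degreePrimes (alternatingGroup (Fin 5)) ∧ Cfsg.degreeGraph G = Cfsg.degreeGraph (alternatingGroup (Fin 5))) : Nonempty (G ≃* alternatingGroup (Fin 5)) := by
  open Subgroup CfsgH1 CfsgFT CfsgH2 CfsgH1.L2 CfsgH3 in
  classical
  have : Fact (Nat.Prime 5) := ⟨by norm_num⟩
  refine alt5_of_not_solv hcard fun hs => ?_
  have : Fintype (GaloisField 2 2) := Fintype.ofFinite _
  have q4 : Fintype.card (GaloisField 2 2) = 4 := by rw [← Nat.card_eq_fintype_card, GaloisField.card 2 2 two_ne_zero]; rfl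
  have c := card_P2 (F := GaloisField 2 2)
  rw [q4] at c
  obtain ⟨e⟩ := (ncn_P2 (F := GaloisField 2 2) (by omega)).alt5 (by simpa using c)
  have h5 : 5 ∈ degreePrimes G := by
    rw [hΓ.1, (deg_graph (F := GaloisField 2 2) (by omega) (by rw [q4]; decide) (.inl ⟨e.symm⟩)).1, q4]
    exact ⟨by norm_num, by norm_num⟩
  obtain ⟨-, _, ⟨χ, rfl⟩, h5⟩ := h5
  obtain ⟨P⟩ : Nonempty (Sylow 5 G) := inferInstance
  have cP : Nat.card P = 5 := (P.card_eq_multiplicity.trans (by rw [hcard]; decide +kernel))
  have iP := P.1.card_mul_index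
  rw [cP, hcard] at iP
  obtain ⟨H, hH, l⟩ := exists_hall_ge (π := {2}ᶜ) (K := P.1) (M := ⊤) inferInstance (fun r hr hd => by
    rw [cP] at hd; rw [(Nat.prime_dvd_prime_iff_eq hr (by norm_num : Nat.Prime 5)).1 hd]; simp) le_top
  have c3 := hH.dvd_card Nat.prime_three (by simp) (by rw [card_top, hcard]; norm_num)
  have c2 : ¬ 2 ∣ Nat.card H := fun k => hH.isPi 2 Nat.prime_two k rfl
  have cH := CfsgH2.card_mul_relIndex l
  have s := card_sylow_in ((IsSylowIn.of_sylow_top P).mono l le_top)
  have s1 := card_sylow_modEq_one 5 H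
  have s2 : N(P.1).relIndex H ∣ P.1.relIndex H := relIndex_dvd_of_le_left _ le_normalizer
  have s3 : P.1.relIndex H ∣ 12 := by rw [show 12 = P.1.index by omega]; exact relIndex_dvd_index_of_le l
  have s4 : P.1.relIndex H = 3 := by
    have := Nat.le_of_dvd (by norm_num) s3
    rw [cP] at cH
    interval_cases P.1.relIndex H <;> omega
  rw [s4, ← s] at s2
  have s5 : H ≤ N(P.1) := by
    rw [← relIndex_eq_one, ← s]
    rcases (Nat.dvd_prime Nat.prime_three).1 s2 with k | k
    · exact k
    · rw [k] at s1; exact absurd s1 (by decide)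
  have n1 := card_sylow_modEq_one 5 G
  have n2 : N(P.1).index ∣ 4 := by
    have := H.card_mul_index
    rw [show 4 = H.index by rw [s4, cP] at cH; rw [← cH, hcard] at this; omega]
    exact index_dvd_of_le s5
  rw [card_sylow_top (IsSylowIn.of_sylow_top P)] at n1
  have : P.1.Normal := normalizer_eq_top_iff.1 (index_eq_one.1 (by
    have := Nat.le_of_dvd (by norm_num) n2
    interval_cases N(P.1).index <;> first | rfl | exact absurd n1 (by decide) | exact absurd n2 (by decide)))
  obtain ⟨θ, k, h1, h2, h3⟩ := CfsgH4.exists_under' χ.2 P.1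
  have : IsCyclic P := isCyclic_of_prime_card cP
  rw [(CfsgH4.charDegree_eq_one_iff h1.isChar).2 (h1.deg_one_of_comm fun a b => by
    exact Subtype.ext (comm_of_cyclic this b.2 a a.2)), mul_one] at h2
  have := (h2 ▸ h5).trans h3
  omega

end Cfsg.Agent.S3669
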