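import Cfsg.Statements.S3670
import Cfsg.Agent.H3.U33b
import Cfsg.Agent.H1.PSL2d

set_option autoImplicit false
open Cfsg

namespace Cfsg.Agent.S3670

open CfsgPm CfsgH7 CfsgH5 CfsgH3 Subgroup
abbrev A := permAct 14 ⟨14, 4, 15⟩ ⟨⟨rfl, by decide⟩, rfl⟩
abbrev B := permAct 8 ⟨8, 3, 7⟩ ⟨⟨rfl, by decide⟩, rfl⟩
def L : List (ℕ × List (ℕ × ℕ)) := [(0, [(62095608644977441, 62111100019351816)]), (1, [(62113161298863136, 62113149225165136)]),
  (12, [(57907534208709136, 57907534208709136)])]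
def L' : List (ℕ × List (ℕ × ℕ)) := [(0, [(14570689, 14570689)]), (1, [(12369168, 13609064)])]
def ps (F : Fmt) (L : List (ℕ × List (ℕ × ℕ))) (f f' : ℕ → ℕ) : ℕ := F.srchSum Fmt.okAll (fun t => f t *ₙ f' t) (F.build L) [] F.one
theorem c0 : lall A.F.isPerm (Fmt.gens L) = true ∧ A.F.loChk L = true ∧ A.F.hiChk L = true ∧ A.F.size (A.F.build L) = 108 ∧
    blkChk A.F (Fmt.gens L) 0 9 = true ∧ blkChk A.F (Fmt.gens L) 9 3 = true ∧ fxT A.F 0 9 A.F.one = 9 ∧ fxT A.F 9 3 A.F.one = 3 ∧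
    ps A.F L (fxT A.F 0 9) (fxT A.F 0 9) = A.F.size (A.F.build L) * 3 ∧ ps A.F L (fxT A.F 0 9) (fxT A.F 9 3) = A.F.size (A.F.build L) * 2 ∧
    ps A.F L (fxT A.F 9 3) (fxT A.F 0 9) = A.F.size (A.F.build L) * 2 ∧
    ps A.F L (fxT A.F 9 3) (fxT A.F 9 3) = A.F.size (A.F.build L) * 2 := by decide +kernel
theorem c1 : lall B.F.isPerm (Fmt.gens L') = true ∧ B.F.loChk L' = true ∧ B.F.hiChk L' = true ∧ B.F.size (B.F.build L') = 56 ∧
    blkChk B.F (Fmt.gens L') 0 8 = true ∧ fxT B.F 0 8 B.F.one = 8 ∧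
    ps B.F L' (fxT B.F 0 8) (fxT B.F 0 8) = B.F.size (B.F.build L') * 2 ∧ ps B.F L' (fxT B.F 0 8) (fun _ => 1) = B.F.size (B.F.build L') * 1 ∧
    ps B.F L' (fun _ => 1) (fxT B.F 0 8) = B.F.size (B.F.build L') * 1 := by decide +kernel
theorem gX : Nat.card (A.clo (Fmt.gens L)) = 108 ∧ ∃ χ, IsIrrCharacter (A.clo (Fmt.gens L)) χ ∧ χ 1 = 6 := by
  obtain ⟨a1, a2, a3, a4, a5, a6, a7, a8, b1, b2, b3, b4⟩ := c0
  have f := Act.full_clo (A := A) (permAct_valid a1) a2 a3
  haveI := Fintype.ofFinite (A.clo (Fmt.gens L))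
  have r1 := fx_rep (A := A) (a := 0) (k := 9) (by decide)
  have r2 := fx_rep (A := A) (a := 9) (k := 3) (by decide)
  have d : ((fun g : A.clo (Fmt.gens L) => (fx A 0 9 g : ℂ)) - fun g : A.clo (Fmt.gens L) => (fx A 9 3 g : ℂ)) 1 = 6 := by
    rw [Pi.sub_apply, OneMemClass.coe_one, ← r1 _ _ Act.rep_one, ← r2 _ _ Act.rep_one, a7, a8]; norm_num
  refine ⟨f.card.trans a4, _, ((fx_char a5).isGen.sub (fx_char a6).isGen).irr_of_inner_eq_one ?_ (by rw [d]; norm_num), d⟩
  rw [ip_sub_left, ip_sub_right, ip_sub_right, ip_full f r1 r1 b1, ip_full f r1 r2 b2, ip_full f r2 r1 b3, ip_full f r2 r2 b4]; norm_num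
theorem gY : Nat.card (B.clo (Fmt.gens L')) = 56 ∧ ∃ χ, IsIrrCharacter (B.clo (Fmt.gens L')) χ ∧ χ 1 = 7 := by
  obtain ⟨a1, a2, a3, a4, a5, a7, b1, b2, b3⟩ := c1
  have f := Act.full_clo (A := B) (permAct_valid a1) a2 a3
  haveI := Fintype.ofFinite (B.clo (Fmt.gens L'))
  have r1 := fx_rep (A := B) (a := 0) (k := 8) (by decide)
  have d : ((fun g : B.clo (Fmt.gens L') => (fx B 0 8 g : ℂ)) - fun _ : B.clo (Fmt.gens L') => (1 : ℂ)) 1 = 7 := by
    rw [Pi.sub_apply, OneMemClass.coe_one, ← r1 _ _ Act.rep_one, a7]; norm_num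
  refine ⟨f.card.trans a4, _, ((fx_char a5).isGen.sub isGen_one).irr_of_inner_eq_one ?_ (by rw [d]; norm_num), d⟩
  have e1 := ip_full f (ψ := fun _ => 1) r1 (fun _ _ _ => rfl) b2
  have e2 := ip_full f (φ := fun _ => 1) (fun _ _ _ => rfl) r1 b3
  rw [Nat.cast_one] at e1 e2
  rw [ip_sub_left, ip_sub_right, ip_sub_right, ip_full f r1 r1 b1, e1, e2, isIrr_one.inner_self]; norm_num

/-- The character degree graph of a finite group has as vertices the primes dividing some irreducible complex character degree, two distinct primes being joined when their product divides some irreducible character degree; two groups have the same character degree graph when they have the same vertices and the same joined pairs. Let F be the field with 9 elements and L = PSU(3,3) realised over F (order 6048). There is a finite solvable group of order 6048 with the same character degree graph as L; so L is not determined by its order together with its character degree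 graph. -/
theorem result {F : Type*} [Field F] [Fintype F] (hF : Fintype.card F = 9) :
    ∃ (H : Type) (_ : Group H) (_ : Fintype H), Group.IsSolvable H ∧ Nat.card H = 6048 ∧ Cfsg.degreePrimes H = Cfsg.degreePrimes (Cfsg.PSU 3 F 3) ∧ Cfsg.degreeGraph H = Cfsg.degreeGraph (Cfsg.PSU 3 F 3) := by
  obtain ⟨c1, φ, h1, d1⟩ := gX
  obtain ⟨c2, ψ, h2, d2⟩ := gY
  haveI := S0144.result 2 3 2 3 Nat.prime_two Nat.prime_three c1
  haveI := S0144.result 2 7 3 1 Nat.prime_two (by norm_num) c2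
  letI := Fintype.ofFinite (A.clo (Fmt.gens L) × B.clo (Fmt.gens L'))
  have c : Nat.card (A.clo (Fmt.gens L) × B.clo (Fmt.gens L')) = 6048 := by rw [Nat.card_prod, c1, c2]
  have m := mem_cd (CfsgH4.irr_prod h1 h2) (d := 42) (by simp [d1, d2]; norm_num)
  obtain ⟨a1, a2⟩ := graph_eq c ⟨_, m, by norm_num⟩ ⟨_, m, by norm_num⟩ ⟨_, m, by norm_num⟩
  obtain ⟨f⟩ := U33.iso hF
  obtain ⟨g⟩ := U33.isoAB
  letI := Fintype.ofFinite (U33.BU.clo U33.SB)
  have hp : commutator (U33.BU.clo U33.SB) = ⊤ := by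
    have := congrArg (map g.toMonoidHom) (commutator_SU CfsgH8.card_F9 le_rfl (by simp) : commutator (SU 3 CfsgH8.F9 3) = ⊤)
    rwa [_root_.commutator_def, map_commutator, map_top_of_surjective _ g.surjective] at this
  obtain ⟨b1, b2⟩ := graph_eq U33.packB.card (six U33.packB.card hp fun x => by
    obtain ⟨m, hm, d⟩ := U33.spec.le ⟨x, rfl⟩
    constructor <;> intro e <;> rw [e] at d <;> revert m <;> decide) (U33.degs hp).1 (U33.degs hp).2
  have e := CfsgH1.L2.cd_equiv f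
  refine ⟨_, inferInstance, inferInstance, inferInstance, c, ?_, ?_⟩
  · rw [a1, ← b1, degreePrimes, degreePrimes, e]
  · ext p q
    rw [a2, ← b2]
    simp only [degreeGraph, e]

end Cfsg.Agent.S3670
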