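import Cfsg.Statements.S3678
import Cfsg.Agent.S3660
import Cfsg.Agent.S2475

set_option autoImplicit false
open Cfsg

namespace Cfsg.Agent.S3678

open Subgroup Matrix
theorem pr {G : Type*} [Group G] [Finite G] {a b c : ℕ} (h : Set.range (orderOf : G → ℕ) = {m | m ∣ a ∨ m ∣ b ∨ m ∣ c}) :
    (∀ p : ℕ, p.Prime → (p ∣ Nat.card G ↔ p ∣ a ∨ p ∣ b ∨ p ∣ c)) ∧ ∀ m, (∃ g : G, orderOf g = m) ↔ m ∣ a ∨ m ∣ b ∨ m ∣ c :=
  ⟨fun p hp => ⟨fun d => have := Fact.mk hp; h.le (exists_prime_orderOf_dvd_card' p d), fun d => (h.ge d).elim fun g e =>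
    e ▸ orderOf_dvd_natCard g⟩, fun _ => Set.ext_iff.1 h _⟩
theorem ne {p q r k : ℕ} (hp : p.Prime) (hq : q.Prime) (n : p ≠ q) (hr : r.Prime) : ¬ p * q ∣ r ^ k := fun h =>
  n (((Nat.prime_dvd_prime_iff_eq hp hr).1 (hp.dvd_of_dvd_pow ((dvd_mul_right _ _).trans h))).trans
    ((Nat.prime_dvd_prime_iff_eq hq hr).1 (hq.dvd_of_dvd_pow ((dvd_mul_left _ _).trans h))).symm)

/-- The prime graph of a finite group has the prime divisors of its order as vertices, two distinct primes p, q being joined when the group has an element of order pq; two groups have the same prime graph when they have the same prime divisors and the same joined pairs. Let F be the field with 7 elements. There are finite groups of arbitrarily large order with the same prime graph as PSL(2,F) (the graph on {2, 3, 7} with no edges, which is also the prime graph of PSL(2,8)). -/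
theorem result {F : Type*} [Field F] [Fintype F] (hF : Fintype.card F = 7) (N : ℕ) :
    ∃ (H : Type) (_ : Group H) (_ : Finite H), N < Nat.card H ∧
      ((∀ p : ℕ, p.Prime → (p ∣ Nat.card (Matrix.ProjectiveSpecialLinearGroup (Fin 2) F) ↔ p ∣ Nat.card H)) ∧
      (∀ p q : ℕ, p.Prime → q.Prime → p ≠ q → ((∃ g : (Matrix.ProjectiveSpecialLinearGroup (Fin 2) F), orderOf g = p * q) ↔ (∃ g : H, orderOf g = p * q)))) := by
  classical
  have := Fintype.ofFinite (GaloisField 2 3)
  have c : Fintype.card (GaloisField 2 3) = 8 := by rw [← Nat.card_eq_fintype_card, GaloisField.card 2 3 (by norm_num)]; rfl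
  obtain ⟨H, _, _, h1, h2, h3⟩ := S3660.result (F := GaloisField 2 3) (by omega) N
  have : Fact (Nat.Prime 7) := ⟨by norm_num⟩
  have : CharP F 7 := charP_of_card_eq_prime hF
  have a := S2475.result (F := F) 7 (by omega)
  have b := S2475.result (F := GaloisField 2 3) 2 (by omega)
  rw [hF] at a
  rw [c] at b
  refine ⟨H, ‹_›, ‹_›, h1, fun p hp => ?_, fun p q hp hq n => ?_⟩
  · rw [← h2 p hp, (pr a).1 p hp, (pr b).1 p hp]
    have h4 : p ∣ 2 ^ 2 ↔ p ∣ 2 := hp.prime.dvd_pow_iff_dvd two_ne_zero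
    have h9 : p ∣ 3 ^ 2 ↔ p ∣ 3 := hp.prime.dvd_pow_iff_dvd two_ne_zero
    norm_num at h4 h9 ⊢
    tauto
  rw [← h3 p q hp hq n, (pr a).2, (pr b).2]
  have h4 := ne (k := 2) hp hq n Nat.prime_two
  have h5 := ne (k := 1) hp hq n Nat.prime_two
  have h6 := ne (k := 2) hp hq n Nat.prime_three
  have h7 := ne (k := 1) hp hq n Nat.prime_three
  have h8 := ne (k := 1) hp hq n (Fact.out : Nat.Prime 7)
  norm_num at h4 h5 h6 h7 h8 ⊢
  tauto

end Cfsg.Agent.S3678
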