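import Cfsg.Statements.S3680
import Mathlib
import Cfsg.Agent.H8.MinNormal

set_option autoImplicit false
open Cfsg

namespace Cfsg.Agent.S3680

/-- The socle of a finite primitive permutation group. Let a finite group G act faithfully and primitively on a set Ω, and let N be the subgroup generated by the minimal normal subgroups of G. Then either N is an elementary abelian p-group for some prime p and acts regularly on Ω (transitively with trivial point stabilizers), or N is isomorphic to a direct product of m ≥ 1 copies of a non-abelian simple group. -/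
theorem result {G Ω : Type*} [Group G] [Finite G] [MulAction G Ω] [FaithfulSMul G Ω] [Finite Ω]
    (hprim : MulAction.IsPreprimitive G Ω) (N : Subgroup G)
    (hN : N = sSup {V : Subgroup G | V.Normal ∧ V ≠ ⊥ ∧ ∀ M : Subgroup G, M.Normal → M ≤ V → M = ⊥ ∨ M = V}) :
    (∃ p : ℕ, p.Prime ∧ IsMulCommutative N ∧ (∀ x : N, x ^ p = 1) ∧
      MulAction.IsPretransitive N Ω ∧ ∀ ω : Ω, MulAction.stabilizer N ω = ⊥) ∨
    (∃ (T : Type) (_ : Group T) (m : ℕ), 1 ≤ m ∧ IsSimpleGroup T ∧ ¬ IsMulCommutative T ∧ Nonempty (N ≃* (Fin m → T))) := by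
  by_cases hG : Subsingleton G
  · refine Or.inl ⟨2, Nat.prime_two, ⟨⟨fun a b => Subsingleton.elim _ _⟩⟩, fun x => Subsingleton.elim _ _,
      ⟨fun a b => ?_⟩, fun ω => Subsingleton.elim _ _⟩
    obtain ⟨g, hg⟩ := MulAction.exists_smul_eq G a b
    exact ⟨1, by rw [← hg, Subsingleton.elim g 1, one_smul, one_smul]⟩
  rw [not_subsingleton_iff_nontrivial] at hG
  obtain ⟨M, ⟨hM, hM1⟩, hm⟩ := Set.exists_min_image {M : Subgroup G | M.Normal ∧ M ≠ ⊥}
    (fun M => Nat.card M) (Set.toFinite _) ⟨⊤, inferInstance, top_ne_bot⟩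
  have hMm : ∀ L : Subgroup G, L.Normal → L ≤ M → L = ⊥ ∨ L = M := fun L h1 h2 =>
    or_iff_not_imp_left.2 fun h => Subgroup.eq_of_le_of_card_ge h2 (hm L ⟨h1, h⟩)
  clear hm
  obtain ⟨g, hg⟩ := exists_ne (1 : G)
  obtain ⟨a, -⟩ := CfsgH8.exists_moved (α := Ω) hg
  have hcomm : ∀ L L' : Subgroup G, L.Normal → L'.Normal → L ≠ ⊥ → L ≠ L' →
      (∀ M : Subgroup G, M.Normal → M ≤ L → M = ⊥ ∨ M = L) →
      (∀ M : Subgroup G, M.Normal → M ≤ L' → M = ⊥ ∨ M = L') →
      L ⊓ L' = ⊥ ∧ ∀ x ∈ L, ∀ y ∈ L', x * y = y * x := fun L L' h1 h2 h3 h4 h5 h6 => by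
    have : L ⊓ L' = ⊥ := (h5 _ inferInstance inf_le_left).resolve_right fun h =>
      h4 ((h6 L h1 (inf_eq_left.1 h)).resolve_left h3)
    exact ⟨this, fun x hx y hy => (Subgroup.commute_of_normal_of_disjoint L L' h1 h2
      (disjoint_iff.2 this) x y hx hy).eq⟩
  haveI := CfsgH8.trans_of_normal' hprim M hM1
  obtain ⟨T, _, m, h1, h2, ⟨e⟩⟩ := CfsgH8.min_normal_pow M hM1 hMm
  by_cases hT : IsMulCommutative T
  · have hc : ∀ x ∈ M, ∀ y ∈ M, x * y = y * x := fun x hx y hy => congrArg Subtype.val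
      (e.injective (by rw [map_mul, map_mul]; exact funext fun i => hT.is_comm.comm _ _) :
        (⟨x, hx⟩ * ⟨y, hy⟩ : M) = ⟨y, hy⟩ * ⟨x, hx⟩)
    obtain rfl : N = M := by
      rw [hN]
      refine le_antisymm (sSup_le fun L hL => ?_) (le_sSup ⟨hM, hM1, hMm⟩)
      by_cases h : M = L
      · exact h.ge
      · exact fun x hx => CfsgH8.mem_of_cent a hc fun y hy =>
          (hcomm M L hM hL.1 hM1 h hMm hL.2.2).2 y hy x hx
    haveI : Finite T := Finite.of_surjective (fun x => e x ⟨0, h2⟩) fun t =>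
      ⟨e.symm fun _ => t, by simp⟩
    letI : CommGroup T := { (inferInstance : Group T) with mul_comm := hT.is_comm.comm }
    refine Or.inl ⟨Nat.card T, IsSimpleGroup.prime_card, ⟨⟨fun x y => Subtype.ext (hc _ x.2 _ y.2)⟩⟩,
      fun x => e.injective (by rw [map_pow, map_one]; exact funext fun i => pow_card_eq_one'),
      inferInstance, fun ω => (Subgroup.eq_bot_iff_forall _).2 fun g hg => Subtype.ext
        (CfsgH8.centralizer_semiregular N (fun m hm => hc m hm g g.2) hg)⟩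
  refine Or.inr ⟨T, inferInstance, ?_⟩
  by_cases hu : ∀ L : Subgroup G, L.Normal → L ≠ ⊥ → (∀ M : Subgroup G, M.Normal → M ≤ L → M = ⊥ ∨ M = L) →
      L = M
  · obtain rfl : N = M := by
      rw [hN]
      exact le_antisymm (sSup_le fun L hL => (hu L hL.1 hL.2.1 hL.2.2).le) (le_sSup ⟨hM, hM1, hMm⟩)
    exact ⟨m, h2, h1, hT, ⟨e⟩⟩
  push Not at hu
  obtain ⟨L, hL, hL1, hLm, hLM⟩ := hu
  haveI := CfsgH8.trans_of_normal' hprim L hL1
  obtain ⟨h3, h4⟩ := hcomm M L hM hL hM1 hLM.symm hMm hLm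
  obtain rfl : N = M ⊔ L := by
    rw [hN]
    refine le_antisymm (sSup_le fun K hK => ?_) (sup_le (le_sSup ⟨hM, hM1, hMm⟩)
      (le_sSup ⟨hL, hL1, hLm⟩))
    by_cases h : M = K
    · exact h.ge.trans le_sup_left
    · exact le_trans (fun x hx => CfsgH8.mem_of_cent a h4 fun y hy =>
        (hcomm M K hM hK.1 hM1 h hMm hK.2.2).2 y hy x hx) le_sup_right
  obtain ⟨f⟩ := CfsgH8.sup_equiv_prod M L h4 h3
  obtain ⟨u⟩ := CfsgH8.equiv_of_cent a h4
  exact ⟨m + m, by omega, h1, hT, ⟨f.trans ((e.prodCongr (u.symm.trans e)).trans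
    (CfsgH8.finAddMulEquiv T m m).symm)⟩⟩

end Cfsg.Agent.S3680
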