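import Cfsg.Statements.S3681
import Cfsg.Agent.H3.Sn1

set_option autoImplicit false
open Cfsg

namespace Cfsg.Agent.S3681

open Subgroup MulAction

/-- Bochert's bound for primitive groups. Let a finite group G act faithfully and primitively on a finite set Ω with n elements, and suppose the image of G in the symmetric group of Ω does not contain the alternating group of Ω. Then |G| · ⌊(n + 1)/2⌋! ≤ n!, that is, the index of G in the symmetric group is at least ⌊(n + 1)/2⌋!. -/
theorem result {G Ω : Type*} [Group G] [Finite G] [MulAction G Ω] [FaithfulSMul G Ω] [Fintype Ω] [DecidableEq Ω]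
    (hprim : MulAction.IsPreprimitive G Ω) (hA : ¬ alternatingGroup Ω ≤ (MulAction.toPermHom G Ω).range) :
    Nat.card G * Nat.factorial ((Fintype.card Ω + 1) / 2) ≤ Nat.factorial (Fintype.card Ω) := by
  have h := CfsgPm.bochert (toPermHom G Ω).range fun g hg h3 => hA
    (Equiv.Perm.alternatingGroup_le_of_isPreprimitive_of_isThreeCycle_mem (G := (toPermHom G Ω).range)
      (IsPreprimitive.of_surjective (f := (⟨id, fun _ _ => rfl⟩ : Ω →ₑ[(toPermHom G Ω).rangeRestrict] Ω)) Function.surjective_id) h3 hg)
  rw [← Nat.card_eq_fintype_card (α := Ω), ← Nat.card_perm, ← (toPermHom G Ω).range.card_mul_index,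
    Nat.card_congr (MonoidHom.ofInjective (f := toPermHom G Ω) toPerm_injective).toEquiv, Nat.card_eq_fintype_card (α := Ω)]
  exact Nat.mul_le_mul_left _ h

end Cfsg.Agent.S3681
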