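import Cfsg.Statements.S3684
import Cfsg.Agent.H3.Pm3
import Cfsg.Agent.H2.Dih

set_option autoImplicit false
open Cfsg

namespace Cfsg.Agent.S3684

open CfsgPm MulAction Subgroup CfsgH8 CfsgH2

/-- Let a finite group G act faithfully and primitively on a set Ω, and suppose the stabilizer of a point a has an orbit of length 2. Then the stabilizer of a has order 2 and G is isomorphic to the dihedral group of order 2p for some prime p. -/
theorem result {G Ω : Type*} [Group G] [Finite G] [MulAction G Ω] [FaithfulSMul G Ω] [Finite Ω]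
    (hprim : MulAction.IsPreprimitive G Ω) (a b : Ω) (h2 : Nat.card (MulAction.orbit (MulAction.stabilizer G a) b) = 2) :
    Nat.card (MulAction.stabilizer G a) = 2 ∧ ∃ p : ℕ, p.Prime ∧ Nonempty (G ≃* DihedralGroup p) := by
  rw [Nat.card_coe_set_eq] at h2
  have hne : ∀ c, stabilizer G c ≠ ⊥ := fun c e => by
    have := ncard_orbit_mul (stabilizer G a) b
    rw [h2, stabilizer_eq_bot_of_eq_bot e a] at this
    simp at this
  have hab : a ≠ b := by
    rintro rfl
    rw [ncard_orbit_sub, relIndex_self] at h2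
    omega
  have h3 := h2
  rw [ncard_orbit_symm, ncard_orbit_sub, ← inf_relIndex_right] at h3
  have h4 := h2
  rw [ncard_orbit_sub, ← inf_relIndex_right, inf_comm] at h4
  have h5 : stabilizer G a ⊓ stabilizer G b = ⊥ := bot_of_norm_top (top_of_two hprim hab (hne a)
    ((normal_subgroupOf_iff_le_normalizer inf_le_left).1 (normal_of_index_eq_two h4))
    ((normal_subgroupOf_iff_le_normalizer inf_le_right).1 (normal_of_index_eq_two h3))) inf_le_left
  rw [h5, relIndex_bot_left] at h3 h4
  have gen : ∀ c : Ω, Nat.card (stabilizer G c) = 2 → ∃ s : G, s * s = 1 ∧ s ≠ 1 ∧ stabilizer G c = zpowers s := fun c h => by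
    obtain ⟨s, hs⟩ := exists_prime_orderOf_dvd_card' (G := stabilizer G c) 2 h.symm.dvd
    rw [← orderOf_coe] at hs
    exact ⟨s, mul_self_of_orderOf_two hs, ne_one_of_orderOf_two hs,
      (eq_of_le_of_card_ge (zpowers_le.2 s.2) (by rw [h, Nat.card_zpowers, hs])).symm⟩
  obtain ⟨s, s2, s1, hs⟩ := gen a h4
  obtain ⟨t, t2, t1, ht⟩ := gen b h3
  have hst : s * t ≠ 1 := fun e => s1 (mem_bot.1 (h5.le ⟨hs.ge (mem_zpowers s), ht.ge (by
    rw [mul_eq_one_iff_eq_inv.1 e]; exact inv_mem (mem_zpowers t))⟩))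
  obtain ⟨p, hp, hd⟩ := Nat.exists_prime_and_dvd (mt orderOf_eq_one_iff.1 hst)
  have ho := orderOf_pow_orderOf_div (orderOf_pos (s * t)).ne' hd
  set x := (s * t) ^ (orderOf (s * t) / p) with hx
  have hs' : s ∉ zpowers x := fun h => by
    obtain ⟨k, hk⟩ := h
    have hc : Commute s (s * t) := by
      nth_rewrite 1 [← hk]; exact ((Commute.refl _).pow_left _).zpow_left _
    have hc : Commute s t := mul_left_cancel (a := s) (hc.trans (mul_assoc _ _ _))
    refine hne a (bot_of_norm_top (top_of_two hprim hab (hne a) le_normalizer ?_) le_rfl)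
    rw [hs, ht, zpowers_le]
    exact centralizer_le_normalizer _ (by rw [mem_centralizer_iff]; rintro _ ⟨k, rfl⟩; exact hc.zpow_left k)
  have h6 := idx2_closure (a := x) (b := s) (k := -1) (m := 0) (by
    rw [hx, ← conj_pow, invol_inverts s2 t2, inv_pow, zpow_neg_one]) (by simpa using s2) hs'
  have h7 := top_of_move hprim (a := a) (g := x) (fun e => by
    rcases (mem_zpowers_of_mul_self s2).1 (hs.le e) with e | e
    · exact hp.ne_one (by rw [← ho, e, orderOf_one])
    · exact hs' (e ▸ mem_zpowers x)) (hs.le.trans (zpowers_le.2 h6.b_mem)) h6.a_mem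
  rw [h7] at h6
  obtain ⟨e⟩ := h6.dihedral ho
  exact ⟨h4, p, hp, ⟨topEquiv.symm.trans e⟩⟩

end Cfsg.Agent.S3684
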