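import Cfsg.Statements.S3693
import Cfsg.Agent.H2.TW2

set_option autoImplicit false
open Cfsg

namespace Cfsg.Agent.S3693
open Subgroup CfsgH2
open scoped commutatorElement

open CfsgFT CfsgH2 Subgroup

/-- Let a finite group G act faithfully and primitively on a set Ω, let a and b be points such that the orbit Δ of b under the stabilizer H of a has length d ≥ 2, and consider the permutation group induced on Δ by the elements of H fixing b. If that induced group has trivial Fitting subgroup (no non-trivial nilpotent normal subgroup), then the two-point stabilizer of a and b has trivial Fitting subgroup and the order of H divides d! · ((d - 1)!)^d. -/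
theorem result {G Ω : Type*} [Group G] [Finite G] [MulAction G Ω] [FaithfulSMul G Ω] [Finite Ω]
    (hprim : MulAction.IsPreprimitive G Ω) (a b : Ω) (d : ℕ) (hd : Nat.card (MulAction.orbit (MulAction.stabilizer G a) b) = d) (h2 : 2 ≤ d)
    (hF : Cfsg.fittingSubgroup ↥(((MulAction.stabilizer G b).subgroupOf (MulAction.stabilizer G a)).map (MulAction.toPermHom (MulAction.stabilizer G a) (MulAction.orbit (MulAction.stabilizer G a) b))) = ⊥) :
    Cfsg.fittingSubgroup ↥(MulAction.stabilizer G a ⊓ MulAction.stabilizer G b) = ⊥ ∧
      Nat.card (MulAction.stabilizer G a) ∣ Nat.factorial d * (Nat.factorial (d - 1)) ^ d := by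
  obtain ⟨k, -, b1⟩ := tw_setup hprim hd h2
  have z : ∀ (q : ℕ) [Fact q.Prime],
      pCoreOf q (MulAction.stabilizer G a ⊓ MulAction.stabilizer G b : Subgroup G) = ⊥ := fun q _ =>
    k.Op_inf_bot' (MulAction.toPermHom (MulAction.stabilizer G a)
      (MulAction.orbit (MulAction.stabilizer G a) b)) (fun x hx => congrArg Subtype.val
      (Equiv.congr_fun hx ⟨b, MulAction.mem_orbit_self b⟩)) hF
  refine ⟨(map_eq_bot_iff_of_injective _ (subtype_injective _)).1
    (le_bot_iff.1 (fit_le_of fun q _ => (z q).le)), b1.resolve_right ?_⟩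
  rintro ⟨p, p1, p2, p3, -⟩
  haveI := Fact.mk p1
  exact p2 (le_bot_iff.1 ((le_Op (cor2_le _ _) (inf_le_left.trans (le_norm_cor _ _)) p3).trans (z p).le))


end Cfsg.Agent.S3693
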