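import Cfsg.Statements.S3696
import Cfsg.Agent.H1.PG3

set_option autoImplicit false
open Cfsg

namespace Cfsg.Agent.S3696

theorem amgm (x y d e : ℕ) (hd : 0 < d) : x ^ d * y ^ e * (d + e) ^ (d + e) ≤ (x + y) ^ (d + e) * d ^ d * e ^ e := by
  rcases e.eq_zero_or_pos with rfl | he
  · simpa using Nat.mul_le_mul_right _ (Nat.pow_le_pow_left (Nat.le_add_right x y) d)
  rcases (x + y).eq_zero_or_pos with h0 | hs
  · simp [show x = 0 by omega, hd.ne']
  have key : ∀ (a : ℝ) (n : ℕ), 0 ≤ a → a ^ n ≤ Real.exp (n * (a - 1)) := fun a n ha => by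
    rw [Real.exp_nat_mul]; exact pow_le_pow_left₀ ha (by linarith [Real.add_one_le_exp (a - 1)]) n
  have h1 := mul_le_mul (key (x * (d + e) / ((x + y) * d)) d (by positivity)) (key (y * (d + e) / ((x + y) * e)) e
    (by positivity)) (by positivity) (by positivity)
  have hs' : (0 : ℝ) < x + y := by exact_mod_cast hs
  have hd' : (0 : ℝ) < d := by exact_mod_cast hd
  have he' : (0 : ℝ) < e := by exact_mod_cast he
  rw [← Real.exp_add, show (d : ℝ) * (x * (d + e) / ((x + y) * d) - 1) + e * (y * (d + e) / ((x + y) * e) - 1) = 0 by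
    field_simp; ring, Real.exp_zero, div_pow, div_pow, div_mul_div_comm, div_le_one (by positivity)] at h1
  have : (x : ℝ) ^ d * y ^ e * (d + e) ^ (d + e) ≤ (x + y) ^ (d + e) * d ^ d * e ^ e := by
    simp only [mul_pow] at h1
    simp only [pow_add]
    linarith
  exact_mod_cast this

open Subgroup CfsgH1 CfsgFT CfsgH2 MulAction in
theorem aux {Ω : Type*} [Fintype Ω] [DecidableEq Ω] (p : ℕ) (hp : p.Prime) (A : Subgroup (Equiv.Perm Ω)) :
    IsPGroup p A → A ≤ C(A) → ∀ s : Finset Ω, (∀ a ∈ A, ∀ x ∉ s, a x = x) → ∀ E : Subgroup (Equiv.Perm Ω),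
    (∀ x, x ∈ E ↔ x ∈ A ∧ x ^ p = 1) → ∀ k, Nat.card E = p ^ k → Nat.card A * k ^ k ≤ s.card ^ k := by
  haveI := Fact.mk hp
  induction A using subgroup_induction_up with | _ A ih => ?_
  intro hA hc s hs E hE k hk
  by_cases h0 : A = ⊥
  · obtain rfl : E = ⊥ := eq_bot_iff.2 fun x hx => h0 ▸ ((hE x).1 hx).1
    obtain rfl : k = 0 := by rw [card_bot, eq_comm, Nat.pow_eq_one] at hk; exact hk.resolve_left hp.one_lt.ne'
    simp [h0]
  obtain ⟨a, ha, a1, ap, -⟩ := exists_central_of_ne_bot hA le_rfl le_normalizer h0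
  obtain ⟨w, hw⟩ : ∃ w, a w ≠ w := by by_contra! h; exact a1 (Equiv.ext h)
  set S := stabilizer (Equiv.Perm Ω) w
  have EA : E ≤ A := fun x hx => ((hE x).1 hx).1
  obtain ⟨e, he⟩ := (hA.to_le (inf_le_right.trans EA : S ⊓ E ≤ A)).exists_card_eq
  obtain ⟨d, hd⟩ := (hA.to_le EA).index (S.subgroupOf E)
  replace hd : S.relIndex E = p ^ d := hd
  have d0 : 0 < d := Nat.pos_of_ne_zero (by
    rintro rfl
    exact hw (relIndex_eq_one.1 hd ((hE a).2 ⟨ha, ap⟩)))
  have c1 := CfsgH1.card_inf_mul_relIndex S E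
  rw [he, hd, hk, ← pow_add, Nat.pow_right_inj hp.one_lt, add_comm] at c1
  subst c1
  have c2 := CfsgH1.card_inf_mul_relIndex S A
  have c3 : p ^ d ≤ S.relIndex A := hd ▸ relIndex_le_of_le_right EA (CfsgH2.relIndex_ne_zero _ _)
  let O : Finset Ω := (orbit A w).toFinite.toFinset
  have c4 : O.card = S.relIndex A := by
    rw [← Set.ncard_eq_toFinset_card, ← index_stabilizer]; rfl
  have Os : O ⊆ s := fun x hx => by
    obtain ⟨g, rfl⟩ := (Set.Finite.mem_toFinset _).1 hx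
    by_contra h
    refine hw (g.1.injective ?_)
    rw [← Equiv.Perm.mul_apply, hc ha _ g.2]; exact hs a ha _ h
  have h1 := ih (S ⊓ A) (CfsgH1.card_lt_of_lt (inf_le_right.lt_of_ne fun e => hw (e.symm ▸ ha : a ∈ S ⊓ A).1))
    (hA.to_le inf_le_right) (fun x hx y hy => hc hx.2 y hy.2) (s \ O) (fun b hb x hx => by
      by_cases h : x ∈ O
      · obtain ⟨g, rfl⟩ := (Set.Finite.mem_toFinset _).1 h
        change b (g.1 w) = g.1 w
        rw [← Equiv.Perm.mul_apply, ← hc hb.2 _ g.2, Equiv.Perm.mul_apply, show b w = w from hb.1]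
      · exact hs b hb.2 x fun h' => hx (Finset.mem_sdiff.2 ⟨h', h⟩)) (S ⊓ E)
    (fun x => by rw [mem_inf, mem_inf, hE, and_assoc]) e he
  have h2 := amgm O.card (s \ O).card d e d0
  rw [add_comm O.card, Finset.card_sdiff_add_card_eq_card Os] at h2
  have h3 : O.card * d ^ d ≤ O.card ^ d := by
    obtain ⟨d, rfl⟩ := Nat.exists_eq_add_one_of_ne_zero d0.ne'
    rw [pow_succ' O.card]
    refine Nat.mul_le_mul_left _ (le_trans ?_ (Nat.pow_le_pow_left (c4 ▸ c3) d))
    rw [← pow_mul, mul_comm, pow_mul]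
    exact Nat.pow_le_pow_left ((Nat.lt_pow_self hp.one_lt)) _
  have p1 : 0 < d ^ d * e ^ e := Nat.mul_pos (pow_pos d0 _) (e.eq_zero_or_pos.elim (fun h => by simp [h]) fun h => pow_pos h _)
  refine Nat.le_of_mul_le_mul_right ?_ p1
  rw [← mul_assoc (s.card ^ _), ← c2, ← c4]
  refine le_trans ?_ h2
  calc _ = O.card * d ^ d * (Nat.card ↥(S ⊓ A) * e ^ e) * (d + e) ^ (d + e) := by ring
    _ ≤ _ := Nat.mul_le_mul_right _ (Nat.mul_le_mul h3 h1)

/-- Let p be a prime, Ω a finite set with n ≥ p elements, and A an abelian p-subgroup of the symmetric group on Ω whose elements of order dividing p number p^k (so k is the rank of A). Then |A| · k^k ≤ n^k, that is, |A| ≤ (n/k)^k. -/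
theorem result {Ω : Type*} [Fintype Ω] [DecidableEq Ω]
    (p : ℕ) (hp : p.Prime) (hn : p ≤ Fintype.card Ω) (A : Subgroup (Equiv.Perm Ω)) (hA : IsPGroup p A) (hab : IsMulCommutative A)
    (k : ℕ) (hk : Nat.card {x : A // x ^ p = 1} = p ^ k) :
    Nat.card A * k ^ k ≤ Fintype.card Ω ^ k := by
  open Subgroup CfsgH1 CfsgFT CfsgH2 in
  refine aux p hp A hA (isMulCommutative_iff_le_centralizer.1 hab) Finset.univ (by simp) (omegaOfComm A p)
    (fun _ => mem_omegaOfComm) k (hk ▸ Nat.card_congr ⟨fun x => ⟨⟨x.1, x.2.1⟩, Subtype.ext x.2.2⟩,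
      fun x => ⟨x.1.1, x.1.2, congrArg Subtype.val x.2⟩, fun _ => rfl, fun _ => rfl⟩)

end Cfsg.Agent.S3696
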