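import Cfsg.Statements.S3704
import Cfsg.Agent.H3.Pm2

set_option autoImplicit false
open Cfsg

namespace Cfsg.Agent.S3704

open CfsgPm CfsgH3 MulAction Finset CfsgH8

/-- Let G be a finite group acting faithfully and 2-transitively on a finite set Ω of size n, and let H be a subgroup of index n in G which is not transitive on Ω and fixes no point of Ω. Then H has exactly two orbits on Ω. -/
theorem result {G Ω : Type*} [Group G] [Finite G] [MulAction G Ω] [FaithfulSMul G Ω] [Finite Ω] (h2 : MulAction.IsMultiplyPretransitive G Ω 2) (H : Subgroup G) (hidx : H.index = Nat.card Ω) (hnt : ¬ MulAction.IsPretransitive H Ω) (hfix : ∀ a : Ω, ∃ h : H, h • a ≠ a) : Nat.card (MulAction.orbitRel.Quotient H Ω) = 2 := by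
  classical
  have := Fintype.ofFinite G
  have := Fintype.ofFinite Ω
  have h0 : 1 < Nat.card (orbitRel.Quotient H Ω) := not_le.1 fun h => hnt (trans_of_card_orb h)
  have : Nontrivial Ω := by
    by_contra h
    have := not_nontrivial_iff_subsingleton.1 h
    exact hnt ⟨fun a b => ⟨1, Subsingleton.elim _ _⟩⟩
  have : IsPretransitive G Ω := isPretransitive_of_is_two_pretransitive
  have hc : IsCharacter G (permChar Ω) := isChar_permChar
  have h1 : classInner (permChar (G := G) Ω) (fun _ => 1) = 1 := by rw [ip_permChar_one, card_orb_one]; simp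
  have h3 : classInner (permChar (G := G) Ω) (permChar Ω) = 2 := by
    have : Nat.card (orbitRel.Quotient G (Ω × Ω)) = 2 := by
      obtain ⟨a, b, hab⟩ := exists_pair_ne Ω
      refine le_antisymm ?_ two_le_rank
      rw [← Set.ncard_univ, show (Set.univ : Set (orbitRel.Quotient G (Ω × Ω))) = {Quotient.mk'' (a, a), Quotient.mk'' (a, b)} from
        (Set.eq_univ_of_forall fun o => Quotient.inductionOn' o fun ⟨x, y⟩ => ?_).symm]
      · exact Set.ncard_insert_le _ _ |>.trans (by simp)
      rcases eq_or_ne x y with rfl | h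
      · obtain ⟨g, rfl⟩ := exists_smul_eq G a x
        exact Or.inl (Quotient.sound' ⟨g, rfl⟩)
      · obtain ⟨g, rfl, rfl⟩ := mt_two h2 hab h
        exact Or.inr (Quotient.sound' ⟨g, rfl⟩)
    simp only [classInner, permChar, map_natCast, ← sq, ← Nat.cast_pow, ← Nat.cast_sum, sum_fx_sq, Nat.cast_mul, this]
    rw [mul_comm, mul_inv_cancel_right₀ (card_ne_zero_complex G)]; simp
  have h4 := (hc.sub_constituent isIrr_one (by simp [h1])).irr_of_inner_eq_one (by
    rw [CfsgH3.inner_sub_left, CfsgH3.inner_sub_right, CfsgH3.inner_sub_right, h3, h1, isChar_one.inner_comm hc, h1, isIrr_one.inner_self]; norm_num)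
  have h5 := ((isChar_one (G := H)).ind).sub_constituent isIrr_one (by simp [ip_indFun_one_one])
  have := h5.mul_deg_le h4 (m := Nat.card (orbitRel.Quotient H Ω) - 1) (a := Nat.card Ω - 1) (b := Nat.card Ω - 1) (by
    rw [CfsgH3.inner_sub_left, CfsgH3.inner_sub_right, CfsgH3.inner_sub_right, ip_indFun_one_one, isChar_one.inner_comm hc, h1,
      isIrr_one.inner_self, inner_indFun_left _ _ hc.classFun, isChar_one.inner_comm (hc.restrict H), Nat.cast_sub h0.le,
      ← ip_permChar_one]; simp; rfl) (by simp [indFun_one, hidx, Nat.cast_sub Fintype.card_pos])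
      (by simp [permChar, Nat.cast_sub Fintype.card_pos])
  have h6 : 1 < Nat.card Ω := Finite.one_lt_card
  have : Nat.card (orbitRel.Quotient H Ω) - 1 ≤ 1 := Nat.le_of_mul_le_mul_right (by simpa using this) (show 0 < Nat.card Ω - 1 by omega)
  omega

end Cfsg.Agent.S3704
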