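import Cfsg.Statements.S3733
import Cfsg.Agent.H1.PG2

set_option autoImplicit false
open Cfsg

namespace Cfsg.Agent.S3733

/-- Let A and V be subgroups of a finite group with V abelian and nontrivial and A normalizing V. Suppose a nonempty finite family of proper subgroups of A partitions A: every non-identity element of A lies in exactly one member. If the number of members minus one is coprime to the order of V, then some member B of the family has a non-identity fixed point on V, that is V ∩ C(B) ≠ 1. -/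
theorem result {G : Type*} [Group G] [Finite G] (A V : Subgroup G) (hVab : IsMulCommutative V) (hV : V ≠ ⊥) (hAV : A ≤ Subgroup.normalizer (V : Set G)) (𝒜 : Finset (Subgroup G)) (hne : 𝒜.Nonempty) (hprop : ∀ B ∈ 𝒜, B < A) (hpart : ∀ a ∈ A, a ≠ 1 → ∃! B, B ∈ 𝒜 ∧ a ∈ B) (hk : (𝒜.card - 1).Coprime (Nat.card V)) : ∃ B ∈ 𝒜, V ⊓ Subgroup.centralizer (B : Set G) ≠ ⊥ := by
  open Subgroup CfsgH1 CfsgFT CfsgH2 IsMulCommutative in
  classical
  by_contra! h
  haveI := Fintype.ofFinite A
  let φ := conjHom hAV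
  have key : ∀ B ∈ 𝒜, ∀ D : Subgroup G, B ≤ D → ∀ v : V, ∏ a : A with a.1 ∈ D, φ a v = 1 :=
    fun B hB D hD v => by
    refine Subtype.ext (mem_bot.1 ((h B hB).le ⟨Subtype.property _, fun b hb => ?_⟩))
    let b' : A := ⟨b, (hprop B hB).le hb⟩
    have : φ b' (∏ a : A with a.1 ∈ D, φ a v) = ∏ a : A with a.1 ∈ D, φ a v := by
      rw [map_prod]
      exact Finset.prod_equiv (Equiv.mulLeft b') (fun a => by simp [b', mul_mem_cancel_left (hD hb)])
        (fun a _ => by simp)
    have := congrArg Subtype.val this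
    rw [conjHom_apply] at this
    exact mul_inv_eq_iff_eq_mul.1 this
  refine hV (eq_bot_iff.2 fun v hv => ?_)
  obtain ⟨B0, h0⟩ := hne
  have e1 := key B0 h0 ⊤ le_top ⟨v, hv⟩
  have e2 : ∏ B ∈ 𝒜, ∏ a : A with a.1 ∈ B, φ a ⟨v, hv⟩ = 1 :=
    Finset.prod_eq_one fun B hB => key B hB B le_rfl _
  rw [Finset.prod_comm' (t' := Finset.univ) (s' := fun a : A => 𝒜.filter ((a : G) ∈ ·)) (by simp)] at e2
  have e3 : ∀ a : A, ∏ B ∈ 𝒜.filter ((a : G) ∈ ·), φ a ⟨v, hv⟩ =
      φ a ⟨v, hv⟩ * if a = 1 then (⟨v, hv⟩ : V) ^ (𝒜.card - 1) else 1 := fun a => by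
    rw [Finset.prod_const]
    split_ifs with e
    · subst e
      have := Finset.card_pos.2 ⟨B0, h0⟩
      simp [← pow_succ', Nat.sub_add_cancel this]
    · obtain ⟨B, hB, e'⟩ := hpart a a.2 fun e' => e (Subtype.ext e')
      rw [Finset.card_eq_one.2 ⟨B, Finset.eq_singleton_iff_unique_mem.2
        ⟨Finset.mem_filter.2 hB, fun D hD => e' D (Finset.mem_filter.1 hD)⟩⟩, pow_one, mul_one]
  simp only [e3, Finset.prod_mul_distrib, Finset.prod_ite_eq', Finset.mem_univ, if_true] at e2
  simp only [mem_top, Finset.filter_true] at e1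
  rw [e1, one_mul] at e2
  exact congrArg Subtype.val (orderOf_eq_one_iff.1 (Nat.eq_one_of_dvd_coprimes hk
    (orderOf_dvd_of_pow_eq_one e2) (orderOf_dvd_natCard _)))

end Cfsg.Agent.S3733
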