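import Cfsg.Statements.S3735
import Cfsg.Agent.H2.Mix
import Cfsg.Agent.H2.PGroup

set_option autoImplicit false
open Cfsg

namespace Cfsg.Agent.S3735
open Subgroup CfsgH2
open scoped commutatorElement

open CfsgFT CfsgH1 CfsgLead

/-- Clifford's Theorem for actions on finite abelian groups, first part. Let H and V be subgroups of a finite group with V abelian and H normalizing V, and let A be a normal subgroup of H. If every H-invariant subgroup of V has an H-invariant complement in V, then every A-invariant subgroup of V has an A-invariant complement in V. -/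
theorem result {G : Type*} [Group G] [Finite G] (H A V : Subgroup G) (hVab : IsMulCommutative V) (hHV : H ≤ Subgroup.normalizer (V : Set G)) (hAH : A ≤ H) (hAn : H ≤ Subgroup.normalizer (A : Set G)) (hss : ∀ U : Subgroup G, U ≤ V → H ≤ Subgroup.normalizer (U : Set G) → ∃ W : Subgroup G, W ≤ V ∧ H ≤ Subgroup.normalizer (W : Set G) ∧ U ⊓ W = ⊥ ∧ U ⊔ W = V) (U : Subgroup G) (hUV : U ≤ V) (hAU : A ≤ Subgroup.normalizer (U : Set G)) : ∃ W : Subgroup G, W ≤ V ∧ A ≤ Subgroup.normalizer (W : Set G) ∧ U ⊓ W = ⊥ ∧ U ⊔ W = V := by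
  have hc := comm_iff.1 hVab
  set T := {X : Subgroup G | X ≤ V ∧ A ≤ N(X) ∧ ∀ Y ≤ X, A ≤ N(Y) → Y = ⊥ ∨ Y = X}
  have h1 : sSup T ≤ V := sSup_le fun X h => h.1
  have h2 : V ≤ sSup T := by
    obtain ⟨W, a, b, c, d⟩ := hss _ h1 (le_norm_sSup fun h hh X ⟨a, b, c⟩ => ⟨cj_le_of_norm (hHV hh) a,
      le_norm_cj_of_norm b (hAn hh), fun Y d e => by
        simpa only [cj_eq_bot_iff, ← cj_eq_iff_eq_cj_inv, cj_eq_iff_eq_cj_inv (g := h⁻¹), inv_inv, cj_bot] using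
          c (cj h⁻¹ Y) (cj_le_iff_le_cj_inv.2 (by rwa [inv_inv])) (le_norm_cj_of_norm e (hAn (inv_mem hh)))⟩)
    by_cases e : W = ⊥
    · rw [← d, e, sup_bot_eq]
    obtain ⟨X, x1, ⟨x2, x3⟩, x4⟩ := exists_minimal_subgroup (Φ := fun X => X ≠ ⊥ ∧ A ≤ N(X)) ⟨e, hAH.trans b⟩
    refine (x2 (eq_bot_iff.2 (le_trans (le_inf (le_sSup (show X ∈ T from ⟨x1.trans a, x3, fun Y y1 y2 => ?_⟩)) x1)
      c.le))).elim
    exact or_iff_not_imp_left.2 fun y3 => x4 Y ⟨y3, y2⟩ y1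
  obtain ⟨W, -, ⟨a, b, c⟩, d⟩ := exists_maximal_subgroup (Φ := fun W => W ≤ V ∧ A ≤ N(W) ∧ U ⊓ W = ⊥)
    (A := ⊥) (And.intro bot_le ⟨le_norm_bot A, inf_bot_eq U⟩)
  refine ⟨W, a, b, c, le_antisymm (sup_le hUV a) (h2.trans (sSup_le fun X ⟨x1, x2, x3⟩ => ?_))⟩
  rcases x3 (X ⊓ (U ⊔ W)) inf_le_left (le_normalizer_inf' x2 (le_normalizer_sup' hAU b)) with e | e
  · refine le_trans (le_sup_right.trans (d (W ⊔ X) (And.intro (sup_le a x1) (And.intro (le_normalizer_sup' b x2)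
      (eq_bot_iff.2 fun u hu => ?_))) le_sup_left).le) le_sup_right
    obtain ⟨w, hw, x, hx, rfl⟩ := (mem_sup_of_normalizer (x1.trans (le_norm_of_comm hc a))).1 hu.2
    have : x ∈ X ⊓ (U ⊔ W) := mem_inf.2 ⟨hx, by
      simpa using mul_mem (inv_mem (mem_sup_right hw)) (mem_sup_left hu.1 : w * x ∈ U ⊔ W)⟩
    rw [e, mem_bot] at this
    rw [← c]
    exact mem_inf.2 ⟨hu.1, by simpa [this] using hw⟩
  · exact e.ge.trans inf_le_right


end Cfsg.Agent.S3735
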