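import Cfsg.Statements.S3736
import Cfsg.Agent.H1.BG36a

set_option autoImplicit false
open Cfsg

namespace Cfsg.Agent.S3736

/-- The Hall–Higman reduction for a minimal non-trivial action. Let B, A and P be subgroups of a finite group with P a p-group, B normalizing P, and A a normal subgroup of B of order prime to p. Suppose A does not centralize P but centralizes every proper B-invariant subgroup of P. Then [P, A] = P; P is elementary abelian or special; B acts irreducibly on P/Φ(P), that is, the only B-invariant subgroups of P containing Φ(P) are Φ(P) and P; and if p is odd then every element of P has order dividing p. -/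
theorem result {X : Type*} [Group X] [Finite X] {p : ℕ} [Fact p.Prime] (B A P : Subgroup X) (hP : IsPGroup p P) (hBP : B ≤ Subgroup.normalizer (P : Set X)) (hAB : A ≤ B) (hAn : B ≤ Subgroup.normalizer (A : Set X)) (hAp : (Nat.card A).Coprime p) (hnt : ⁅P, A⁆ ≠ ⊥) (hmin : ∀ U : Subgroup X, U < P → B ≤ Subgroup.normalizer (U : Set X) → ⁅U, A⁆ = ⊥) : ⁅P, A⁆ = P ∧ (Cfsg.IsElementaryAbelian p P ∨ Cfsg.IsSpecial p ↥P) ∧ (∀ U : Subgroup X, (frattini ↥P).map P.subtype ≤ U → U ≤ P → B ≤ Subgroup.normalizer (U : Set X) → U = (frattini ↥P).map P.subtype ∨ U = P) ∧ (p ≠ 2 → ∀ x ∈ P, x ^ p = 1) := by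
  obtain ⟨e1, e2, e3, e4, e5, e6⟩ := CfsgH1.minimal_action hP hBP hAB hAn hAp hnt hmin
  refine ⟨e1, ?_, fun U h1 h2 h3 => ?_, e6⟩
  · by_cases h : P ≤ Subgroup.centralizer (P : Set X)
    · left
      refine ⟨CfsgFT.comm_iff.mpr h, fun a ha => ?_⟩
      have := CfsgH2.pow_mem_map_frattini hP ha
      rwa [e3, CfsgFT.comm_eq_bot h, Subgroup.mem_bot] at this
    · right
      have h1 : (Subgroup.center P).map P.subtype = ⁅P, P⁆ := by
        rw [← e5 h]
        ext x
        constructor
        · rintro ⟨y, hy, rfl⟩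
          exact ⟨y.2, fun z hz => congrArg Subtype.val (Subgroup.mem_center_iff.mp hy ⟨z, hz⟩)⟩
        · rintro ⟨h1, h2⟩
          exact ⟨⟨x, h1⟩, Subgroup.mem_center_iff.mpr fun z => Subtype.ext (h2 z z.2), rfl⟩
      refine ⟨hP, Subgroup.map_injective P.subtype_injective (by rw [e3, h1]),
        Subgroup.map_injective P.subtype_injective (by rw [h1, CfsgFT.map_commutator_top])⟩
  · rcases h2.lt_or_eq with h | h
    · left
      refine le_antisymm ?_ h1
      rw [e3, ← e2]
      exact le_inf h2 (CfsgFT.cent_of_comm_eq_bot (hmin U h h3))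
    · exact Or.inr h

end Cfsg.Agent.S3736
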