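import Cfsg.Statements.S3737
import Cfsg.Agent.H2.Mix2
import Cfsg.Agent.H1.BG36a

set_option autoImplicit false
open Cfsg

namespace Cfsg.Agent.S3737
open Subgroup CfsgH2
open scoped commutatorElement

open CfsgFT CfsgH1 CfsgLead
variable {X : Type*} [Group X] {K : Subgroup X}

def pal : List X → X
  | [] => 1
  | a :: l => a * pal l * a

theorem pal_mem {l : List X} (h : ∀ a ∈ l, a ∈ K) : pal l ∈ K := by
  induction l with
  | nil => exact one_mem _
  | cons a l ih =>
    exact mul_mem (mul_mem (h a (by simp)) (ih fun b hb => h b (by simp [hb]))) (h a (by simp))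

theorem pal_perm (hK : ⁅K, K⁆ ≤ C(K)) {l l' : List X} (h : l.Perm l') : (∀ a ∈ l, a ∈ K) → pal l = pal l' := by
  induction h with
  | nil => exact fun _ => rfl
  | cons a _ ih => exact fun h => by rw [pal, pal, ih fun b hb => h b (by simp [hb])]
  | swap x y l =>
    intro h
    have hx := h x (by simp)
    have hy := h y (by simp)
    have := mem_cent.1 (hK (commutator_mem_commutator hx hy)) _
      (mul_mem (mul_mem hy hx) (pal_mem (l := l) fun b hb => h b (by simp [hb])))
    simp only [pal]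
    calc _ = y * x * pal l * ⁅x, y⁆ * (y * x) := by rw [commutatorElement_def]; group
      _ = _ := by rw [this, commutatorElement_def]; group
  | trans a _ h1 h2 => exact fun h => (h1 h).trans (h2 fun b hb => h b (a.mem_iff.2 hb))

theorem pal_conj (g : X) (l : List X) : g * pal l * g⁻¹ = pal (l.map fun a => g * a * g⁻¹) := by
  induction l with
  | nil => simp [pal]
  | cons a l ih => rw [List.map_cons, pal, pal, ← ih]; group

theorem pal_mul {z : X} (hz : z ∈ C(K)) {l : List X} (h : ∀ a ∈ l, a ∈ K) :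
    pal (l.map (· * z)) = pal l * z ^ (2 * l.length) := by
  induction l with
  | nil => simp [pal]
  | cons a l ih =>
    have h1 : ∀ b ∈ l, b ∈ K := fun b hb => h b (by simp [hb])
    have h2 : Commute (pal l) z := mem_cent.1 hz _ (pal_mem h1)
    have h3 : Commute a z := mem_cent.1 hz _ (h a (by simp))
    rw [List.map_cons, pal, pal, ih h1, List.length_cons, mul_add, mul_one, pow_add, mul_assoc a z, ← mul_assoc z, ← h2.eq,
      mul_assoc _ z, ← pow_succ', ← mul_assoc, ← mul_assoc, mul_assoc _ _ a, ← (h3.pow_right _).eq]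
    group

theorem perm_map {Q : Type*} [Fintype Q] (σ : Q ≃ Q) : (Finset.univ.toList.map σ).Perm Finset.univ.toList := by
  classical
  exact (List.perm_ext_iff_of_nodup ((Finset.nodup_toList _).map σ.injective) (Finset.nodup_toList _)).2 fun a => by
    simpa using σ.surjective a

/-- Thompson's strengthening of the P × Q lemma for odd primes. Let p be an odd prime and let P, Q and G be subgroups of a finite group with P a p-group, Q of order prime to p and normalized by P, and G a p-group normalized by both P and Q. If every element of G centralized by P is centralized by Q, then Q centralizes G. -/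
theorem result {X : Type*} [Group X] [Finite X] {p : ℕ} [Fact p.Prime] (hp : p ≠ 2) (P Q G : Subgroup X) (hP : IsPGroup p P) (hQ : (Nat.card Q).Coprime p) (hPQ : P ≤ Subgroup.normalizer (Q : Set X)) (hG : IsPGroup p G) (hPG : P ≤ Subgroup.normalizer (G : Set X)) (hQG : Q ≤ Subgroup.normalizer (G : Set X)) (hC : G ⊓ Subgroup.centralizer (P : Set X) ≤ Subgroup.centralizer (Q : Set X)) : Q ≤ Subgroup.centralizer (G : Set X) := by
  have hp' : p.Prime := Fact.out
  induction G using subgroup_induction_up with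
  | h G ih =>
  by_contra c
  obtain ⟨-, e2, -, e4, -⟩ := minimal_action (B := Q ⊔ P) hG (sup_le hQG hPG) le_sup_left (sup_le le_normalizer hPQ) hQ
    (fun e => c (cent_symm (cent_of_comm_eq_bot e))) fun U a b => comm_eq_bot (cent_symm (ih U (CfsgH2.card_lt_of_lt a)
      (hG.to_le a.le) (le_sup_right.trans b) (le_sup_left.trans b) ((inf_le_inf_right _ a.le).trans hC)))
  have e5 := e2 ▸ e4
  obtain ⟨x, hx, x1, -, x2⟩ := exists_central_mod (M := G ⊓ C(Q)) (hP.to_sup_of_normal_right' hG hPG) le_sup_right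
    (sup_le hPG le_normalizer) fun e => c (cent_symm (e.trans inf_le_right))
  haveI := Fintype.ofFinite Q
  obtain ⟨τ, hτ⟩ : ∃ τ : X → X, ∀ y, τ y = pal (Finset.univ.toList.map fun q : Q => q * y * (q : X)⁻¹) := ⟨_, fun _ => rfl⟩
  have m : ∀ y ∈ G, ∀ σ : Q → Q, ∀ a ∈ (Finset.univ.toList.map σ).map fun q : Q => q * y * (q : X)⁻¹, a ∈ G :=
    fun y hy σ a ha => by
      obtain ⟨q, -, rfl⟩ := List.mem_map.1 ha
      exact CfsgH2.conj_mem_of_mem_normalizer (hQG q.2) hy
  have m' := fun y hy => List.map_id (Finset.univ.toList : List Q) ▸ m y hy id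
  have t1 : ∀ y ∈ G, ∀ g ∈ P, g * τ y * g⁻¹ = τ (g * y * g⁻¹) := fun y hy g hg => by
    rw [hτ, hτ, pal_conj, ← pal_perm e4 ((perm_map (conjHom hPQ ⟨g, hg⟩).toEquiv).map _)
      (m _ (CfsgH2.conj_mem_of_mem_normalizer (hPG hg) hy) _), List.map_map, List.map_map]
    congr 2
    ext q
    simp [conjHom_apply, mul_assoc]
  have t2 : ∀ y ∈ G, τ y ∈ G ⊓ C(Q) := fun y hy => ⟨hτ y ▸ pal_mem (m' y hy), fun g hg => by
    rw [← mul_inv_eq_iff_eq_mul, hτ, pal_conj, ← pal_perm e4 ((perm_map (Equiv.mulLeft (⟨g, hg⟩ : Q))).map _) (m _ hy _),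
      List.map_map, List.map_map]
    congr 2
    ext q
    simp [mul_assoc]⟩
  have t3 : ∀ y ∈ G, ∀ z ∈ G ⊓ C(Q), τ (y * z) = τ y * z ^ (2 * Nat.card Q) := fun y hy z hz => by
    have := pal_mul (e5 hz) (m' y hy)
    rw [List.length_map, Finset.length_toList, Finset.card_univ, ← Nat.card_eq_fintype_card, List.map_map] at this
    rw [hτ, hτ, ← this]
    congr 2
    ext q
    have := mem_cent.1 hz.2 _ (inv_mem q.2)
    simp [mul_assoc, this]
  have co : ∀ z ∈ G, (2 * Nat.card Q).Coprime (orderOf z) := fun z hz => by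
    obtain ⟨k, hk⟩ := exists_orderOf_eq_pow hG hz
    exact hk ▸ (((Nat.coprime_primes Nat.prime_two hp').2 hp.symm).mul_left hQ).pow_right _
  obtain ⟨k, hk⟩ := exists_pow_eq_self_of_coprime (co _ (inv_mem (t2 x hx).1))
  have hz := pow_mem (inv_mem (t2 x hx)) k
  rw [← pow_mul, mul_comm, pow_mul] at hk
  have t4 := t3 x hx _ hz
  rw [hk, mul_inv_cancel] at t4
  generalize (τ x)⁻¹ ^ k = z at *
  have hy := mul_mem hx hz.1
  refine x1 ((mul_mem_cancel_right hz).1 (mem_inf.2 ⟨hy, hC (mem_inf.2 ⟨hy, fun g hg => ?_⟩)⟩))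
  have hu := x2 g (mem_sup_left hg)
  have hw := mul_mem (mul_mem (inv_mem hz) hu) (CfsgH2.conj_mem_of_mem_normalizer
    (le_normalizer_inf' hPG (le_normalizer_centralizer' hPQ) hg) hz)
  have t5 := t3 _ hy _ hw
  have e : x * z * (z⁻¹ * (g * x * g⁻¹ * x⁻¹) * (g * z * g⁻¹)) = g * (x * z) * g⁻¹ := by
    calc _ = x * (g * x * g⁻¹ * x⁻¹) * (g * z * g⁻¹) := by group
      _ = _ := by rw [mem_cent.1 (e5 hu) x hx]; group
  rw [e, ← t1 _ hy g hg, t4, mul_one, mul_inv_cancel, one_mul, eq_comm, ← orderOf_dvd_iff_pow_eq_one] at t5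
  rw [orderOf_eq_one_iff.1 (Nat.eq_one_of_dvd_coprimes (co _ hw.1) t5 dvd_rfl), mul_one] at e
  exact mul_inv_eq_iff_eq_mul.1 e.symm


end Cfsg.Agent.S3737
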