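import Cfsg.Statements.S3738
import Cfsg.Agent.H9.Fpf3

set_option autoImplicit false
open Cfsg

namespace Cfsg.Agent.S3738

/-- Let d be a non-identity 3-element of a finite group and P a 2-subgroup normalized by d on which ⟨d⟩ acts faithfully (no non-identity power of d centralizes P) and without non-identity fixed points (C_P(d) = 1). If every abelian subgroup of P has 2-rank at most 2, then d has order 3. -/
theorem result {X : Type*} [Group X] [Finite X] (d : X) (n : ℕ) (hn : 1 ≤ n) (hd : orderOf d = 3 ^ n) (P : Subgroup X) (hP : IsPGroup 2 P) (hdP : d ∈ Subgroup.normalizer (P : Set X)) (hfaith : Subgroup.zpowers d ⊓ Subgroup.centralizer (P : Set X) = ⊥) (hfpf : P ⊓ Subgroup.centralizer {d} = ⊥) (hrank : ∀ V : Subgroup X, V ≤ P → IsMulCommutative V → Cfsg.PRankLE 2 2 V) : orderOf d = 3 := by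
  open Subgroup CfsgH1 CfsgH2 CfsgFT CfsgH9 in
  obtain ⟨n, rfl⟩ : ∃ k, n = k + 1 := ⟨n - 1, by omega⟩
  rw [hd, ord3 hd hP hdP hfaith hfpf fun E hE hc h2 => by
    have := hrank E hE (comm_iff.2 hc) ⊤ (isMulCommutative_of_forall fun a _ b _ =>
      Subtype.ext (mem_cent.1 (hc b.2) a a.2)) fun a _ => Subtype.ext (h2 a a.2)
    rwa [card_top] at this]
  rfl

end Cfsg.Agent.S3738
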