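import Cfsg.Statements.S3739
import Cfsg.Agent.H9.Fpf3
import Cfsg.Agent.FT.Rank
import Cfsg.Agent.H1.Generation

set_option autoImplicit false
open Cfsg

namespace Cfsg.Agent.S3739

/-- Let G be a finite group with C_G(O₂(G)) ≤ O₂(G) containing an element of order 6, and let d be a non-identity 3-element of G normalizing a nontrivial elementary abelian 2-subgroup W with C_W(d) = 1. Then G has an elementary abelian subgroup of order 8. -/
theorem result {G : Type*} [Group G] [Finite G] (hchar : Subgroup.centralizer (Cfsg.pCore 2 G : Set G) ≤ Cfsg.pCore 2 G) (hsix : ∃ g : G, orderOf g = 6) (d : G) (hd1 : d ≠ 1) (hd : IsPGroup 3 ↥(Subgroup.zpowers d)) (W : Subgroup G) (hW : Cfsg.IsElementaryAbelian 2 W) (hW1 : W ≠ ⊥) (hdW : d ∈ Subgroup.normalizer (W : Set G)) (hfpf : W ⊓ Subgroup.centralizer {d} = ⊥) : ∃ E : Subgroup G, Cfsg.IsElementaryAbelian 2 E ∧ Nat.card E = 8 := by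
  open Subgroup CfsgH1 CfsgH2 CfsgFT CfsgH9 in
  by_contra hcon
  haveI := Fact.mk Nat.prime_two
  haveI := Fact.mk Nat.prime_three
  have hr : ∀ E ≤ (⊤ : Subgroup G), E ≤ C(E) → (∀ x ∈ E, x ^ 2 = 1) → Nat.card E ≤ 4 := by
    intro E _ hc h2
    by_contra h
    have hE : IsElementaryAbelian 2 E := ea_iff.2 ⟨fun a ha b hb => mem_cent.1 (hc hb) a ha, h2⟩
    obtain ⟨k, hk⟩ := IsPGroup.iff_card.1 (ea_isPGroup hE)
    obtain ⟨K, k1, -, k2⟩ := exists_normal_card' (ea_isPGroup hE) le_rfl le_normalizer (k := 3) (by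
      rw [hk] at h ⊢
      refine Nat.pow_le_pow_right two_pos ?_
      by_contra h'
      exact h (Nat.pow_le_pow_right two_pos (show k ≤ 2 by omega)))
    exact hcon ⟨K, ea_mono hE k1, k2⟩
  set O := pCore 2 G with hO
  have hO2 : IsPGroup 2 O := CfsgH1.isPGroup_pCore 2 G
  have nO : ∀ A : Subgroup G, A ≤ N(O) := fun A => le_top.trans (normalizer_eq_top _).ge
  have Wc := ea_le_centralizer hW
  have W2 := (ea_iff.1 hW).2
  have Wp := ea_isPGroup hW
  have fp : ∀ {D R : Subgroup G}, IsPGroup 3 D → R ≤ W → D ≤ N(R) → W ⊓ C(D) = ⊥ → R ≠ ⊥ → R = W :=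
    fun {D R} h1 h2 h3 h4 h5 => CfsgH2.eq_of_le_of_card_le h2 ((hr W le_top Wc W2).trans
      (four_le_of_fpf h1 (Wp.to_le h2) h3 (le_bot_iff.1 (h4 ▸ inf_le_inf_right _ h2)) h5))
  rw [← cent_zpowers] at hfpf
  have W4 := four_le_of_fpf hd Wp (zpowers_le.2 hdW) hfpf hW1
  have inW : ∀ x ∈ C(W), x ^ 2 = 1 → x ∈ W := fun x h1 h2 => mem_of_rank hr le_top Wc W2 W4 (mem_top x) h2 h1
  have cW : ∀ T N : Subgroup G, IsPGroup 2 T → IsPGroup 2 N → T ≤ N(N) → N ≠ ⊥ →
      ∃ x ∈ N, x ≠ 1 ∧ x ^ 2 = 1 ∧ x ∈ C(T) := by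
    intro T N h1 h2 h3 h4
    obtain ⟨x, x1, x2, x3, x4⟩ := exists_central_of_ne_bot (V := N ⊔ T) (h2.to_sup_of_normal_left' h1 h3)
      le_sup_left (sup_le le_normalizer h3) h4
    exact ⟨x, x1, x2, x3, cent_anti le_sup_right x4⟩
  have O0 : Z(O) ≠ ⊥ := by
    intro h
    by_cases e : O = ⊥
    · rw [e, cent_bot] at hchar
      exact hW1 (le_bot_iff.1 (le_top.trans hchar))
    · obtain ⟨x, x1, x2, -, x3⟩ := cW O O hO2 hO2 le_normalizer e
      exact x2 (mem_bot.1 (h.le ⟨x1, x3⟩))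
  have nZ : ∀ A : Subgroup G, A ≤ N(Z(O)) := fun A => le_normalizer_inf' (nO A) (le_normalizer_centralizer' (nO A))
  have WZ : W ≤ Z(O) := by
    obtain ⟨x, x1, x2, x3, x4⟩ := cW W _ Wp (hO2.to_le inf_le_left) (nZ W) O0
    exact (fp hd inf_le_left (le_normalizer_inf' (zpowers_le.2 hdW) (nZ _)) hfpf
      fun h => x2 (mem_bot.1 (h.le ⟨inW x x4 x3, x1⟩))).ge.trans inf_le_right
  have OW : O ≤ C(W) := cent_symm (WZ.trans inf_le_right)
  have nW : ∀ A : Subgroup G, A ≤ N(W) := fun A g _ => CfsgH2.mem_normalizer_of_conj_mem fun w hw =>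
    inW _ (OW (CfsgH2.conj_mem_of_mem_normalizer (nO ⊤ (mem_top g)) (WZ hw).1)) (by rw [conj_pow, W2 w hw]; simp)
  have f3 : ∀ b : G, IsPGroup 3 (zpowers b) → b ∉ C(W) → W ⊓ C(zpowers b) = ⊥ ∧ O ⊓ C1(b) = ⊥ := by
    intro b h1 h2
    have k : W ⊓ C(zpowers b) = ⊥ := by
      by_contra h
      have h3 := relIndex_cent_modEq h1 (nW _) (by
        obtain ⟨k, hk⟩ := IsPGroup.iff_card.1 Wp
        rw [hk]; exact fun e => absurd (Nat.prime_three.dvd_of_dvd_pow e) (by decide))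
      have h4 := card_inf_mul_relIndex C(zpowers b) W
      rw [inf_comm, le_antisymm (hr W le_top Wc W2) W4] at h4
      have h5 := (one_lt_card_iff_ne_bot _).2 h
      have h6 : C(zpowers b).relIndex W ≠ 1 := fun e => h2 (zpowers_le.1 (cent_symm (relIndex_eq_one.1 e)))
      have h7 : C(zpowers b).relIndex W ≤ 2 := by nlinarith
      generalize C(zpowers b).relIndex W = r at h3 h6 h7
      interval_cases r <;> simp_all [Nat.ModEq]
    refine ⟨k, ?_⟩
    by_contra h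
    obtain ⟨x, x1, x2, x3, -⟩ := cW ⊥ _ IsPGroup.of_bot (hO2.to_le inf_le_left) bot_le h
    exact x2 (mem_bot.1 (k.le ⟨inW x (OW x1.1) x3, (cent_zpowers b).ge x1.2⟩))
  have faith : ∀ D : Subgroup G, IsPGroup 3 D → D ⊓ C(O) = ⊥ := fun D hD =>
    le_bot_iff.1 ((inf_le_inf_left _ hchar).trans (IsPGroup.disjoint_of_ne 3 2 (by decide) _ _ hD hO2).le_bot)
  have o3 : ∀ b : G, IsPGroup 3 (zpowers b) → b ∉ C(W) → orderOf b = 3 := by
    intro b h1 h2
    obtain ⟨k, hk⟩ := exists_orderOf_eq_pow h1 (mem_zpowers b)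
    obtain ⟨k, rfl⟩ : ∃ j, k = j + 1 := Nat.exists_eq_succ_of_ne_zero (by
      rintro rfl
      rw [pow_zero, orderOf_eq_one_iff] at hk
      exact h2 (hk ▸ one_mem _))
    rw [hk, ord3 hk hO2 (nO ⊤ (mem_top b)) (faith _ h1) (f3 b h1 h2).2 fun E _ => hr E le_top]
    rfl
  obtain ⟨g, hg⟩ := hsix
  have o1 : orderOf (g ^ 2) = 3 ^ 1 := by rw [orderOf_pow_of_dvd (by decide) (by rw [hg]; decide), hg]; rfl
  have o2 : orderOf (g ^ 3) = 2 ^ 1 := by rw [orderOf_pow_of_dvd (by decide) (by rw [hg]; decide), hg]; rfl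
  have xW : g ^ 2 ∈ C(W) := by
    by_contra h
    have p1 := isPGroup_zpowers_of_orderOf o1
    have h1 := (f3 _ p1 h).1
    have cg : zpowers (g ^ 2) ≤ C(zpowers (g ^ 3)) := by
      rw [cent_zpowers, zpowers_le, mem_cent1]; exact (Commute.pow_pow_self g 3 2).eq
    obtain ⟨x, x1, x2, -, x3⟩ := cW _ W (isPGroup_zpowers_of_orderOf o2) Wp (nW _) hW1
    have h2 := fp p1 inf_le_left (le_normalizer_inf' (nW _) (le_normalizer_centralizer' (le_norm_of_cent cg))) h1
      fun e => x2 (mem_bot.1 (e.le ⟨x1, x3⟩))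
    have h3 := mem_bot.1 (h1.le ⟨inW _ (zpowers_le.1 (cent_symm (h2.ge.trans inf_le_right)))
      (by rw [← pow_one 2, ← o2, pow_orderOf_eq_one]), zpowers_le.1 (cent_symm cg)⟩)
    rw [h3, orderOf_one] at o2
    omega
  have dW : d ∉ C(W) := fun h => hW1 (by rw [← hfpf, left_eq_inf]; exact cent_symm (zpowers_le.2 h))
  obtain ⟨S, hS, dS⟩ := IsSylowIn.exists_le hd le_top
  obtain ⟨c, -, hc⟩ := hS.exists_cj_le (isPGroup_zpowers_of_orderOf o1) le_top
  obtain ⟨y, y1, y2, y3, y4⟩ := exists_central_of_ne_bot hS.2 (inf_le_left : S ⊓ C(W) ≤ S)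
    (le_normalizer_inf' le_normalizer (le_normalizer_centralizer' (nW S))) (fun h => by
      have := mem_bot.1 (h.le ⟨hc (conj_mem_cj c (mem_zpowers _)),
        CfsgH2.conj_mem_of_mem_normalizer (le_normalizer_centralizer' (nW ⊤) (mem_top c)) xW⟩)
      rw [conj_eq_one_iff.1 this, orderOf_one] at o1
      omega)
  have oy := orderOf_eq_prime y3 y2
  have BS : zpowers y ⊔ zpowers d ≤ S := sup_le (zpowers_le.2 y1.1) dS
  have dy : d ∈ C(zpowers y) := cent_symm (zpowers_le.2 y4) (dS (mem_zpowers d))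
  have dy' : d ∉ zpowers y := fun h => dW (zpowers_le.2 y1.2 h)
  have cB := card_sup_zpowers (p := 3) (cent_le_norm _ dy) dy' (by
    rw [← o3 d hd dW, pow_orderOf_eq_one]; exact one_mem _)
  rw [Nat.card_zpowers, oy] at cB
  haveI := isMulCommutative_sup_zpowers (A := zpowers y) inferInstance dy
  have hB := hS.2.to_le BS
  have k : ∀ a ∈ zpowers y ⊔ zpowers d, a ∈ C(W) → a ∈ zpowers y := by
    intro a h1 h2
    have : (zpowers y ⊔ zpowers d) ⊓ C(W) = zpowers y := by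
      refine (eq_or_eq_of_relIndex_prime (p := 3) (relIndex_eq_of_card le_sup_left (by
        rw [cB, Nat.card_zpowers, oy])) (le_inf le_sup_left (zpowers_le.2 y1.2)) inf_le_left).resolve_right fun e => ?_
      exact dW (e.ge (mem_sup_right (mem_zpowers d))).2
    exact this.le ⟨h1, h2⟩
  have := CfsgH1.le_of_noncyclic (A := zpowers y ⊔ zpowers d) (K := O) (X := C1(y)) (fun h => by
    obtain ⟨b, hb⟩ := (Subgroup.isCyclic_iff_exists_zpowers_eq_top _).1 h
    have := o3 b (hb ▸ hB) fun e => dW (zpowers_le.2 e (hb.ge (mem_sup_right (mem_zpowers d))))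
    rw [← hb, Nat.card_zpowers] at cB
    omega) (nO _) (coprime_card_of_pgroup hO2 (by rw [cB]; decide)) (fun a ha a1 => by
      by_cases e : a ∈ C(W)
      · have h1 : zpowers a = zpowers y := CfsgH2.eq_of_le_of_card_le (zpowers_le.2 (k a ha e)) (by
          rw [Nat.card_zpowers, Nat.card_zpowers, oy]
          rcases (Nat.dvd_prime Nat.prime_three).1 (oy ▸ orderOf_dvd_of_mem_zpowers (k a ha e)) with h | h
          · exact absurd (orderOf_eq_one_iff.1 h) a1
          · exact h.ge)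
        rw [← cent_zpowers, ← cent_zpowers, h1]; exact inf_le_right
      · exact (f3 a (hB.to_le (zpowers_le.2 ha)) e).2.le.trans bot_le)
  exact y2 (mem_bot.1 ((faith S hS.2).le ⟨y1.1, le_cent1_iff.1 this⟩))

end Cfsg.Agent.S3739
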