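import Cfsg.Statements.S3741
import Cfsg.Agent.H1.PG1

set_option autoImplicit false
open Cfsg

namespace Cfsg.Agent.S3741

/-- Let A and B be subgroups of a finite p-group with [A, B] ≤ A ∩ B and [A, B] of order at most p. Then |A : C_A(B)| = |B : C_B(A)|. -/
theorem result {G : Type*} [Group G] [Finite G] {p : ℕ} [Fact p.Prime] (hG : IsPGroup p G) (A B : Subgroup G) (hAB : ⁅A, B⁆ ≤ A ⊓ B) (hcard : Nat.card ↥⁅A, B⁆ ≤ p) : (A ⊓ Subgroup.centralizer (B : Set G)).relIndex A = (B ⊓ Subgroup.centralizer (A : Set G)).relIndex B := by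
  open Subgroup CfsgH1 CfsgFT CfsgH2 in
  rw [inf_relIndex_left, inf_relIndex_left]
  have h := le_centralizer_of_card_le_prime (V := A ⊔ B) (hG.to_subgroup _)
    (hAB.trans (inf_le_left.trans le_sup_left))
    (sup_le (normalizer_commutator_ge_left A B) (normalizer_commutator_ge_right A B)) hcard
  rw [le_centralizer_iff] at h
  exact relIndex_eq_of_pairing (isCyclic_of_card_le_prime (hG.to_subgroup _) hcard) le_rfl
    (le_sup_left.trans h) (le_sup_right.trans h)

end Cfsg.Agent.S3741
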