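import Cfsg.Statements.S3742
import Cfsg.Agent.H1.PG2

set_option autoImplicit false
open Cfsg

namespace Cfsg.Agent.S3742

open Equiv QuaternionGroup in
def L : List (QuaternionGroup 2 × Perm (Fin 4)) :=
  [(a 1, swap 0 1 * swap 1 2 * swap 2 3), (a 3, swap 2 3 * swap 1 2 * swap 0 1),
   (xa 0, swap 0 1 * swap 1 3 * swap 3 2), (xa 2, swap 3 2 * swap 1 3 * swap 0 1),
   (xa 1, swap 0 2 * swap 2 1 * swap 1 3), (xa 3, swap 1 3 * swap 2 1 * swap 0 2)]

def act (s : Equiv.Perm (Fin 4)) (x : QuaternionGroup 2) : QuaternionGroup 2 :=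
  ((L.find? fun y => y.2 = s * (L.lookup x).getD 1 * s⁻¹).map Prod.fst).getD x

theorem act_mul : ∀ s t x, act (s * t) x = act s (act t x) := by decide +kernel
theorem act_mul' : ∀ s x y, act s (x * y) = act s x * act s y := by decide +kernel
theorem act_one : ∀ x, act 1 x = x := by decide +kernel
theorem act_inj : ∀ s, (∀ x, act s x = x) → s = 1 := by decide +kernel
theorem act_surj : ∀ u v : QuaternionGroup 2, u * v ≠ v * u →
    ∃ s, act s (.a 1) = u ∧ act s (.xa 0) = v := by decide +kernel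
theorem gen : ∀ x : QuaternionGroup 2, ∃ i : Fin 4, ∃ j : Fin 2, x = .a 1 ^ i.1 * .xa 0 ^ j.1 := by
  decide +kernel

def hom : Equiv.Perm (Fin 4) →* MulAut (QuaternionGroup 2) := MonoidHom.mk' (fun s =>
  { toFun := act s
    invFun := act s⁻¹
    left_inv := fun x => by rw [← act_mul, inv_mul_cancel, act_one]
    right_inv := fun x => by rw [← act_mul, mul_inv_cancel, act_one]
    map_mul' := act_mul' s }) fun s t => MulEquiv.ext (act_mul s t)

/-- The automorphism group of the quaternion group of order 8 is isomorphic to the symmetric group of degree 4. -/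
theorem result : Nonempty (MulAut (QuaternionGroup 2) ≃* Equiv.Perm (Fin 4)) := by
  refine ⟨(MulEquiv.ofBijective hom ⟨(injective_iff_map_eq_one _).2 fun s h =>
    act_inj s fun x => MulEquiv.congr_fun h x, fun φ => ?_⟩).symm⟩
  obtain ⟨s, h1, h2⟩ := act_surj (φ (.a 1)) (φ (.xa 0)) (by
    rw [← map_mul, ← map_mul, φ.injective.ne_iff]; decide)
  refine ⟨s, MulEquiv.ext fun x => ?_⟩
  obtain ⟨i, j, rfl⟩ := gen x
  rw [map_mul, map_mul, map_pow, map_pow, map_pow, map_pow, ← h1, ← h2]; rfl

end Cfsg.Agent.S3742
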