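import Cfsg.Statements.S3746
import Cfsg.Agent.H1.PG1

set_option autoImplicit false
open Cfsg

namespace Cfsg.Agent.S3746

/-- Let Z ≤ Z(G) be a central subgroup of a finite group G and E a subgroup of G containing Z whose image E/Z is a component of G/Z (subnormal and quasisimple). Then the derived subgroup [E, E] is a component of G. -/
theorem result {G : Type*} [Group G] [Finite G] (Z : Subgroup G) (hZ : Z ≤ Subgroup.center G) [Z.Normal] (E : Subgroup G) (hZE : Z ≤ E) (hE : Cfsg.IsComponent (E.map (QuotientGroup.mk' Z))) : Cfsg.IsComponent ⁅E, E⁆ := by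
  open Subgroup CfsgH1 CfsgFT CfsgH2 CfsgLead in
  set π := QuotientGroup.mk' Z
  have hk : π.ker = Z := QuotientGroup.ker_mk' Z
  have hc : ∀ H : Subgroup G, ⁅Z, H⁆ = ⊥ := fun H => commutator_eq_bot_iff_le_centralizer.2
    (hZ.trans (center_le_centralizer _))
  have hcm : ∀ H K : Subgroup G, H.map π = K.map π → ⁅H, H⁆ = ⁅K, K⁆ := by
    have : ∀ H K : Subgroup G, H.map π = K.map π → ⁅H, H⁆ ≤ ⁅K, K⁆ := fun H K e => by
      have h1 : H ≤ K ⊔ Z := by rw [← hk, ← comap_map_eq, ← e]; exact le_comap_map _ _
      refine commutator_le.2 fun x hx y hy => ?_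
      obtain ⟨a, ha, z, hz, rfl⟩ := (mem_sup_of_normal_right).1 (h1 hx)
      obtain ⟨b, hb, w, hw, rfl⟩ := (mem_sup_of_normal_right).1 (h1 hy)
      rw [commutatorElement_mul_of_commute (mem_center_iff.1 (hZ hz) _), ← commutatorElement_inv,
        commutatorElement_mul_of_commute (mem_center_iff.1 (hZ hw) _), commutatorElement_inv]
      exact commutator_mem_commutator ha hb
    exact fun H K e => (this H K e).antisymm (this K H e.symm)
  have h1 : ⁅E, E⁆.map π = E.map π := by rw [Subgroup.map_commutator, qs_perfect hE.2]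
  have h2 := hcm _ _ h1
  have h3 : E.IsSubnormal := by
    rw [← comap_map_eq_self (f := π) (hk.le.trans hZE)]; exact hE.1.comap _
  refine ⟨(SN.of_normal (commutator_le_self E) (normalizer_commutator_ge_left E E)).isSubnormal h3,
    isQuasisimple_subgroup_iff.2 ⟨h2, fun e => qs_ne_bot hE.2 (by rw [← h1, e, Subgroup.map_bot]),
      fun N hN hn => ?_⟩⟩
  rcases qs_normal hE.2 (h1 ▸ map_mono hN) (h1 ▸ map_le_normalizer π hn) with h | h
  · exact .inl (le_antisymm hN ((hcm _ _ h).ge.trans (commutator_le_self N)))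
  · right
    rw [← h1, ← Subgroup.map_commutator, Subgroup.map_eq_bot_iff, hk] at h
    rw [Subgroup.commutator_comm]
    exact commutator_eq_bot_of_perfect h2 (eq_bot_iff.2 ((commutator_mono h le_rfl).trans (hc _).le))

end Cfsg.Agent.S3746
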