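import Cfsg.Statements.S3747
import Cfsg.Agent.H1.PG1

set_option autoImplicit false
open Cfsg

namespace Cfsg.Agent.S3747

open Subgroup CfsgH1 CfsgFT CfsgH2 CfsgLead in
theorem aux {G : Type*} [Group G] [Finite G] (S : Finset (Subgroup G))
    (h : ∀ K ∈ S, Cfsg.IsComponent K ∧ K ⊓ C(K) = ⊥) : S.sup id ⊓ C(S.sup id) = ⊥ := by
  classical
  induction S using Finset.induction_on with
  | empty => simp
  | insert K S hK ih =>
    have h1 : S.sup id ≤ C(K) := Finset.sup_le fun L hL => commutator_eq_bot_iff_le_centralizer.1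
      ((component_eq_or_commute (h L (by simp [hL])).1 (h K (by simp)).1).resolve_left
        fun e => hK (e ▸ hL))
    rw [Finset.sup_insert, id, eq_bot_iff, centralizer_sup']
    rintro z ⟨hz, h2, h3⟩
    obtain ⟨k, hk, c, hc, rfl⟩ := (mem_sup_of_normalizer (h1.trans (centralizer_le_normalizer _))).1 hz
    obtain rfl : k = 1 := mem_bot.1 ((h K (by simp)).2.le
      ⟨hk, (mul_mem_cancel_right (h1 hc)).1 h2⟩)
    rw [one_mul] at h3 ⊢
    exact (ih fun L hL => h L (by simp [hL])).le ⟨hc, h3⟩

/-- Let G be a finite group. (a) If K is a component of G with trivial centre, then the normal closure of K in G is a minimal normal subgroup of G. (b) If the Fitting subgroup of G is trivial, then the layer E(G) is generated by the minimal normal subgroups of G. -/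
theorem result {G : Type*} [Group G] [Finite G] : (∀ K : Subgroup G, Cfsg.IsComponent K → Subgroup.center ↥K = ⊥ → (Subgroup.normalClosure (K : Set G) ≠ ⊥ ∧ ∀ N : Subgroup G, N.Normal → N ≤ Subgroup.normalClosure (K : Set G) → N = ⊥ ∨ N = Subgroup.normalClosure (K : Set G))) ∧ (Cfsg.fittingSubgroup G = ⊥ → sSup {N : Subgroup G | N ≠ ⊥ ∧ N.Normal ∧ ∀ N' : Subgroup G, N'.Normal → N' ≤ N → N' = ⊥ ∨ N' = N} = Cfsg.layer G) := by
  open Subgroup CfsgH1 CfsgFT CfsgH2 CfsgLead in
  have key : ∀ K : Subgroup G, IsComponent K → K ⊓ C(K) = ⊥ → (normalClosure (K : Set G) ≠ ⊥ ∧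
      ∀ N : Subgroup G, N.Normal → N ≤ normalClosure (K : Set G) →
        N = ⊥ ∨ N = normalClosure (K : Set G)) := fun K hK hz => by
    refine ⟨fun e => qs_ne_bot hK.2 (eq_bot_iff.2 (le_normalClosure.trans e.le)), fun N hN h => ?_⟩
    rcases component_le_or_commute hK hN.isSubnormal with h1 | h1
    · exact .inr (h.antisymm (normalClosure_le_normal h1))
    left
    let S := (Set.finite_range fun g => cj g K).toFinset
    have h2 := aux S fun L hL => by
      obtain ⟨g, rfl⟩ : ∃ g, cj g K = L := by simpa [S] using hL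
      exact ⟨isComponent_map_equiv (MulAut.conj g) hK, by
        simp only [← cj_centralizer, ← cj_inf, hz, cj_bot]⟩
    have h3 : normalClosure (K : Set G) ≤ S.sup id := (closure_le _).2 fun x hx => by
      obtain ⟨y, hy, hc⟩ := Group.mem_conjugatesOfSet_iff.1 hx
      obtain ⟨g, rfl⟩ := isConj_iff.1 hc
      exact Finset.le_sup (f := id) (b := cj g K) (by simp [S]) (conj_mem_cj g hy)
    refine eq_bot_iff.2 (le_trans (le_inf (h.trans h3) (le_centralizer_iff.1
      (Finset.sup_le fun L hL => ?_))) h2.le)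
    obtain ⟨g, rfl⟩ : ∃ g, cj g K = L := by simpa [S] using hL
    rw [id, ← cj_eq_of_normal g N, ← cj_centralizer]
    exact cj_mono g (commutator_eq_bot_iff_le_centralizer.1 h1)
  refine ⟨fun K hK hz => key K hK (by rw [← map_center_subtype, hz, Subgroup.map_bot]), fun hF => ?_⟩
  refine le_antisymm (sSup_le fun N ⟨h1, h2, h3⟩ => ?_) (layer_le_iff.2 fun K hK => ?_)
  · have := layer_normal G
    by_cases h : ∃ K, IsComponent K ∧ K ≤ N
    · obtain ⟨K, hK, h⟩ := h
      rcases h3 _ inferInstance (normalClosure_le_normal h) with e | e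
      · exact absurd (eq_bot_iff.2 (le_normalClosure.trans e.le)) (qs_ne_bot hK.2)
      · exact e ▸ normalClosure_le_normal (le_layer hK)
    · have h4 : generalizedFittingSubgroup G ≤ layer G := sup_le le_rfl (hF.le.trans bot_le)
      refine le_trans (le_trans ?_ (centralizer_le h4)) ((centralizer_genFitting_le G).trans h4)
      exact le_centralizer_iff.1 (layer_le_iff.2 fun K hK => commutator_eq_bot_iff_le_centralizer.1
        ((component_le_or_commute hK h2.isSubnormal).resolve_left fun e => h ⟨K, hK, e⟩))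
  · have h1 : K ⊓ C(K) = ⊥ := eq_bot_iff.2 (le_trans (le_fitting_of_isSubnormal
      ((SN.of_normal inf_le_left (CfsgH1.le_normalizer_inf le_normalizer
        (CfsgH1.le_normalizer_centralizer le_normalizer))).isSubnormal hK.1)
      (nilpotent_of_comm (inf_le_right.trans (centralizer_le (inf_le_left : K ⊓ C(K) ≤ K))))) hF.le)
    exact le_normalClosure.trans (le_sSup ⟨(key K hK h1).1, inferInstance, (key K hK h1).2⟩)

end Cfsg.Agent.S3747
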