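import Cfsg.Statements.S3748
import Cfsg.Agent.H2.Mix

set_option autoImplicit false
open Cfsg

namespace Cfsg.Agent.S3748
open Subgroup CfsgH2
open scoped commutatorElement

open CfsgFT CfsgH1 CfsgLead

/-- Call a proper subgroup M of G primitive when M = N_G(N) for every non-trivial normal subgroup N of M. If M is a primitive subgroup of the finite group G, then no non-trivial subnormal subgroup of G is contained in M; in particular M ∩ F(G) = 1. -/
theorem result {G : Type*} [Group G] [Finite G] (M : Subgroup G) (hM : M ≠ ⊤) (hprim : ∀ N : Subgroup G, N ≤ M → M ≤ Subgroup.normalizer (N : Set G) → N ≠ ⊥ → Subgroup.normalizer (N : Set G) = M) : (∀ L : Subgroup G, L.IsSubnormal → L ≤ M → L = ⊥) ∧ M ⊓ Cfsg.fittingSubgroup G = ⊥ := by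
  have k : ∀ L : Subgroup G, L.IsSubnormal → L ≤ M → L = ⊥ := fun L a b => by
    have h1 : SN (sSup {L | SN L ⊤ ∧ L ≤ M}) (⊤ : Subgroup G) := sn_sSup fun _ h => h.1
    have h2 : sSup {L | SN L ⊤ ∧ L ≤ M} ≤ M := sSup_le fun _ h => h.2
    have h3 : L ≤ sSup {L | SN L ⊤ ∧ L ≤ M} := le_sSup ⟨SN.top_iff.2 a, b⟩
    by_contra c
    obtain ⟨B, d, e, f⟩ := sn_exists_gt h1 fun c => hM (top_le_iff.1 (c.ge.trans h2))
    rw [hprim _ h2 (le_norm_sSup fun a ha X hX => ⟨sn_cj hX.1 (le_norm_top ⊤ (mem_top a)), cj_le_of_mem ha hX.2⟩)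
      fun c' => c (eq_bot_iff.2 (h3.trans c'.le))] at e
    exact d.not_ge (le_sSup ⟨f, e⟩)
  exact ⟨k, k _ ((sn_of_nilpotent (isNilpotent_fitting G) inf_le_right).isSubnormal
    (Subgroup.Normal.isSubnormal inferInstance)) inf_le_left⟩


end Cfsg.Agent.S3748
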