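import Cfsg.Statements.S3749
import Cfsg.Agent.H2.Mix
import Cfsg.Agent.H1.Coprime

set_option autoImplicit false
open Cfsg

namespace Cfsg.Agent.S3749
open Subgroup CfsgH2
open scoped commutatorElement

open CfsgFT CfsgH1 CfsgLead

/-- Call a proper subgroup M of G primitive when M = N_G(N) for every non-trivial normal subgroup N of M. Let M be a primitive subgroup of the finite group G, p a prime with O_p(M) ≠ 1, and N a normal subgroup of G with M ∩ N = 1. Then p does not divide the order of N; for every prime q there is exactly one Sylow q-subgroup of N normalized by M; and if the order of N has at least two prime divisors then M is not a maximal subgroup of G. -/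
theorem result {G : Type*} [Group G] [Finite G] (M : Subgroup G) (hM : M ≠ ⊤) (hprim : ∀ N : Subgroup G, N ≤ M → M ≤ Subgroup.normalizer (N : Set G) → N ≠ ⊥ → Subgroup.normalizer (N : Set G) = M) {p : ℕ} [Fact p.Prime] (hOp : Cfsg.pCore p ↥M ≠ ⊥) (N : Subgroup G) [N.Normal] (hMN : M ⊓ N = ⊥) : ¬ p ∣ Nat.card N ∧ (∀ q : ℕ, [Fact q.Prime] → ∃! Q : Sylow q ↥N, M ≤ Subgroup.normalizer ((Q : Subgroup ↥N).map N.subtype : Set G)) ∧ ((∃ q r : ℕ, q.Prime ∧ r.Prime ∧ q ≠ r ∧ q ∣ Nat.card N ∧ r ∣ Nat.card N) → ¬ IsCoatom M) := by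
  have hR := isPGroup_map_pCore (p := p) M
  have nR := le_normalizer.trans (normalizer_le_normalizer_pCore (p := p) M)
  have eR := hprim _ (map_subtype_le _) nR fun c => hOp ((Subgroup.map_eq_bot_iff_of_injective _ M.subtype_injective).1 c)
  generalize (pCore p M).map M.subtype = R at *
  have nN : ∀ X : Subgroup G, X ≤ N(N) := fun _ => le_top.trans (normalizer_eq_top _).ge
  have hC : N ⊓ C(R) = ⊥ := eq_bot_iff.2 (le_trans (le_inf (inf_le_right.trans ((cent_le_norm R).trans eR.le)) inf_le_left) hMN.le)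
  have h1 : ¬ p ∣ Nat.card N := fun c => inf_centralizer_ne_bot_of_isPGroup hR (nN R) c hC
  have cop := IsPGroup.coprime_card_of_coprime hR ((Fact.out : p.Prime).coprime_iff_not_dvd.2 h1).symm
  have RM : R ≤ M := le_normalizer.trans eR.le
  have un : ∀ (q : ℕ) [Fact q.Prime] (S T : Subgroup G), IsSylowIn q S N → IsSylowIn q T N → R ≤ N(S) → R ≤ N(T) → S = T :=
    fun q _ S T a b c d => by
      obtain ⟨x, hx, e⟩ := invariant_sylow_conj (nN R) cop (Or.inl (solvable_of_pgroup hR)) a b c d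
      rw [hC, mem_bot] at hx
      rw [← e, ← cj_eq_smul, hx, cj_one]
  have ex : ∀ (q : ℕ) [Fact q.Prime], ∃ S, IsSylowIn q S N ∧ M ≤ N(S) := fun q _ => by
    obtain ⟨S, a, b⟩ := exists_invariant_sylow (nN R) cop (Or.inl (solvable_of_pgroup hR)) q
    exact ⟨S, a, fun m hm => mem_norm_iff_cj.2 (un q _ _ (a.cj_of_mem_normalizer (nN M hm)) a
      (le_norm_cj_of_norm b (nR hm)) b)⟩
  refine ⟨h1, fun q _ => ?_, fun ⟨q, r, hq, hr, ne, dq, dr⟩ hc => ?_⟩
  · obtain ⟨S, a, b⟩ := ex q
    refine ⟨a.toSylow, by simp only [a.toSylow_map]; exact b, fun T hT => Sylow.ext ?_⟩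
    rw [a.toSylow_coe, ← un q _ _ (IsSylowIn.of_sylow_map T) a (RM.trans hT) (RM.trans b), subgroupOf_map_subtype_self]
  · haveI := Fact.mk hq
    obtain ⟨S, a, b⟩ := ex q
    have e : S ⊔ M = ⊤ := hc.2 _ (lt_of_le_of_ne le_sup_right fun c =>
      a.eq_bot_iff.1 (eq_bot_iff.2 (le_trans (le_inf (le_sup_left.trans c.ge) a.le) hMN.le)) dq)
    have := inf_sup_left a.le b
    rw [e, inf_top_eq, inf_comm, hMN, sup_bot_eq] at this
    obtain ⟨k, hk⟩ := IsPGroup.iff_card.1 a.pgroup
    rw [this, hk] at dr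
    exact ne ((Nat.prime_dvd_prime_iff_eq hr hq).1 (hr.dvd_of_dvd_pow dr)).symm


end Cfsg.Agent.S3749
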