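import Cfsg.Statements.S3750
import Cfsg.Agent.H2.TW3

set_option autoImplicit false
open Cfsg

namespace Cfsg.Agent.S3750
open Subgroup CfsgH2
open scoped commutatorElement

open CfsgFT CfsgH2 Subgroup CfsgLead

/-- Call a proper subgroup M of G primitive when M = N_G(N) for every non-trivial normal subgroup N of M. Let M be a primitive subgroup of the finite group G and N a normal subgroup of G with M ∩ F*(N) ≠ 1. Then F(G) = 1 and F*(N) = F*(G) = E(G); in particular every minimal normal subgroup of G is contained in N. -/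
theorem result {G : Type*} [Group G] [Finite G] (M : Subgroup G) (hM : M ≠ ⊤) (hprim : ∀ N : Subgroup G, N ≤ M → M ≤ Subgroup.normalizer (N : Set G) → N ≠ ⊥ → Subgroup.normalizer (N : Set G) = M) (N : Subgroup G) [N.Normal] (hMF : M ⊓ (Cfsg.generalizedFittingSubgroup ↥N).map N.subtype ≠ ⊥) : Cfsg.fittingSubgroup G = ⊥ ∧ (Cfsg.generalizedFittingSubgroup ↥N).map N.subtype = Cfsg.generalizedFittingSubgroup G ∧ Cfsg.generalizedFittingSubgroup G = Cfsg.layer G ∧ ∀ K : Subgroup G, K.Normal → K ≠ ⊥ → (∀ K' : Subgroup G, K'.Normal → K' ≤ K → K' = ⊥ ∨ K' = K) → K ≤ N := by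
  have h : PrS M := fun X a b c => hprim X b c a
  have n : ⊤ ≤ N(N) := (normalizer_eq_top N).ge
  have sn : SN N ⊤ := SN.of_normal le_top n
  have c := h.cent_fstar hM n hMF
  have f1 : fittingOf N = ⊥ := by_contra fun e => center_ne_bot (fit_nilpotent N) e (le_bot_iff.1 (by
    rw [← c, fstar_eq]
    exact le_cent_sup (inf_le_left.trans (cent_symm (CfsgH9.lay_cent (haveI := fit_nilpotent N; inferInstance)
      (fit_le N) ((layerOf_le N).trans (le_normalizer_fit N))))) inf_le_right))
  have e1 : fstarOf N = layerOf N := by rw [fstar_eq, f1, sup_bot_eq]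
  have f2 : fittingOf (⊤ : Subgroup G) = ⊥ := le_bot_iff.1 (by
    rw [← c, e1]
    exact cent_symm ((layerOf_mono_sn sn).trans (CfsgH9.lay_cent (haveI := fit_nilpotent (⊤ : Subgroup G); inferInstance)
      le_top (le_top.trans (le_normalizer_fit ⊤)))))
  have e2 : fstarOf (⊤ : Subgroup G) = layerOf ⊤ := by rw [fstar_eq, f2, sup_bot_eq]
  have e3 : layerOf (⊤ : Subgroup G) ≤ N := layerOf_le_iff.2 fun K k1 k2 =>
    (qs_le_or_commute k2 ⊤ N k1 sn).resolve_right fun e => qs_commutator_ne_bot k2 (by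
      rw [le_bot_iff.1 (((cent_of_comm_eq_bot e).trans (cent_anti (fstarOf_le N))).trans c.le)]
      simp)
  refine ⟨by rw [← fit_top, f2], ?_, ?_, fun K k1 k2 k3 => ?_⟩
  · exact ((fstar_eq_of_sn sn).trans (inf_eq_left.2 (e2 ▸ e3))).trans fstar_top
  · rw [generalizedFittingSubgroup, ← fit_top, f2]; simp
  · refine inf_eq_left.1 ((k3 _ inferInstance inf_le_left).resolve_left fun e => k2 (le_bot_iff.1 ?_))
    rw [← c]
    exact (le_centralizer_of_normalize (le_top.trans n) (le_top.trans (normalizer_eq_top K).ge) e).trans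
      (cent_anti (fstarOf_le N))


end Cfsg.Agent.S3750
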