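import Cfsg.Statements.S3751
import Cfsg.Agent.H2.TW3

set_option autoImplicit false
open Cfsg

namespace Cfsg.Agent.S3751
open Subgroup CfsgH2
open scoped commutatorElement

open CfsgFT CfsgH2 Subgroup

/-- Two distinct subgroups M₁, M₂ of G form a primitive pair when, for {i, j} = {1, 2}, every non-trivial normal subgroup A of M_i contained in M₁ ∩ M₂ satisfies N_{M_j}(A) = M₁ ∩ M₂; the pair has characteristic p when moreover C_{M_i}(O_p(M_i)) ≤ O_p(M_i) for both i and O_p(M₁)O_p(M₂) ≤ M₁ ∩ M₂. Let G be a finite group, p a prime dividing its order, with O_p(G) = 1 and every p-local subgroup of characteristic p. Then either G has a primitive pair of characteristic p, or every maximal p-local subgroup M of G is strongly p-embedded in G: M is a proper subgroup, p divides its order, and for every g ∉ M the order of M ∩ gMg⁻¹ is prime to p. -/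
theorem result {G : Type*} [Group G] [Finite G] {p : ℕ} [Fact p.Prime] (hloc : Cfsg.IsOfLocalCharacteristic p G) (hOp : Cfsg.pCore p G = ⊥) : (∃ M₁ M₂ : Subgroup G, M₁ ≠ M₂ ∧ (∀ A : Subgroup G, A ≠ ⊥ → A ≤ M₁ ⊓ M₂ → (M₁ ≤ Subgroup.normalizer (A : Set G) → M₂ ⊓ Subgroup.normalizer (A : Set G) = M₁ ⊓ M₂) ∧ (M₂ ≤ Subgroup.normalizer (A : Set G) → M₁ ⊓ Subgroup.normalizer (A : Set G) = M₁ ⊓ M₂)) ∧ Subgroup.centralizer (Cfsg.pCore p ↥M₁ : Set ↥M₁) ≤ Cfsg.pCore p ↥M₁ ∧ Subgroup.centralizer (Cfsg.pCore p ↥M₂ : Set ↥M₂) ≤ Cfsg.pCore p ↥M₂ ∧ (Cfsg.pCore p ↥M₁).map M₁.subtype ⊔ (Cfsg.pCore p ↥M₂).map M₂.subtype ≤ M₁ ⊓ M₂) ∨ (∀ M : Subgroup G, (∃ T : Subgroup G, IsPGroup p T ∧ T ≠ ⊥ ∧ M = Subgroup.normalizer (T : Set G)) → (∀ L : Subgroup G, (∃ T : Subgroup G, IsPGroup p T ∧ T ≠ ⊥ ∧ L = Subgroup.normalizer (T : Set G)) → M ≤ L → L = M) → M ≠ ⊤ ∧ p ∣ Nat.card M ∧ ∀ g : G, g ∉ M → ¬ p ∣ Nat.card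 ↥(M ⊓ M.map (MulAut.conj g).toMonoidHom)) := by
  refine or_iff_not_imp_left.2 fun c M h1 h2 => ?_
  have m : MxL p M := ⟨h1, h2⟩
  obtain ⟨T, t1, t2, t3⟩ := h1
  refine ⟨fun e => t2 (le_bot_iff.1 (hOp ▸ le_sSup ⟨normalizer_eq_top_iff.1 (t3 ▸ e), t1⟩)),
    by_contra fun d => t2 (((IsSylowIn.exists_le t1 (t3 ▸ le_normalizer)).elim fun S s =>
      le_bot_iff.1 (s.2.trans (s.1.eq_bot_iff.2 d).le))), fun g g1 g2 => c ?_⟩
  obtain ⟨A, B, S, a, b, ne, s1, s2⟩ := exists_pair m g1 g2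
  exact ⟨A, B, ne, fun X x1 x2 => ⟨fun n => by rw [a.prs hloc X x1 (x2.trans inf_le_left) n, inf_comm],
    fun n => by rw [b.prs hloc X x1 (x2.trans inf_le_right) n]⟩, chP_iff.2 (a.chp hloc),
    chP_iff.2 (b.chp hloc), (sup_le (Op_le_sylow s1) (Op_le_sylow s2)).trans (le_inf s1.le s2.le)⟩


end Cfsg.Agent.S3751
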