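import Cfsg.Statements.S3756
import Cfsg.Agent.H2.SF1

set_option autoImplicit false
open Cfsg

namespace Cfsg.Agent.S3756
open Subgroup CfsgH2
open scoped commutatorElement

open CfsgFT CfsgH2 Subgroup

/-- Let G be a finite group of even order with O₂(G) = 1 such that every 2-local subgroup of G is solvable, of characteristic 2, and has no section isomorphic to the symmetric group of degree 4. Then every maximal 2-local subgroup of G is strongly embedded in G. -/
theorem result {G : Type*} [Group G] [Finite G] (heven : Even (Nat.card G)) (hO : Cfsg.pCore 2 G = ⊥) (hloc : ∀ M : Subgroup G, Cfsg.IsTwoLocal M → Group.IsSolvable M ∧ Cfsg.IsOfCharacteristicTwo ↥M ∧ ¬ Cfsg.Involves (Equiv.Perm (Fin 4)) ↥M) (M : Subgroup G) (hM : Cfsg.IsMaximalTwoLocal M) : Cfsg.IsStronglyEmbedded M := by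
  have h4 : F4 G := fun V a b => (hloc _ ⟨V, a, b, rfl⟩).2.2
  obtain ⟨⟨T, t1, t2, e⟩, hm⟩ := hM
  refine ⟨fun k => t2 ?_, ?_, fun g hg => Nat.not_even_iff_odd.1 fun k =>
    h4.main (fun L l => ⟨(hloc L l.1).1, chP_iff.1 (hloc L l.1).2.1⟩) ⟨⟨T, t1, t2, e⟩, hm⟩ hg
      (even_iff_two_dvd.1 k)⟩
  · rw [eq_bot_iff, ← hO, ← Op_top]
    exact CfsgH2.le_Op le_top (e ▸ k.ge) t1
  · obtain ⟨n, hn⟩ := IsPGroup.iff_card.1 t1
    refine even_iff_two_dvd.2 (Dvd.dvd.trans ?_ (card_dvd_of_le (e ▸ le_normalizer : T ≤ M)))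
    rcases n with _ | n
    · exact absurd (card_eq_one.1 hn) t2
    · rw [hn]; exact dvd_pow_self 2 n.succ_ne_zero


end Cfsg.Agent.S3756
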