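import Cfsg.Statements.S3762
import Cfsg.Agent.H2.Sympl

set_option autoImplicit false
open Cfsg

namespace Cfsg.Agent.S3762
open Subgroup CfsgH2
open scoped commutatorElement

open CfsgFT

/-- Let G be a finite p-group of symplectic type: every characteristic abelian subgroup of G is cyclic. Then G = E ∗ R is a central product of subgroups E and R (they commute elementwise and generate G) where E is extraspecial or trivial, and R is cyclic, or p = 2 and R is dihedral, semidihedral or generalized quaternion of order at least 16. -/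
theorem result {G : Type*} [Group G] [Finite G] {p : ℕ} [Fact p.Prime] (hG : IsPGroup p G) (hsymp : ∀ A : Subgroup G, A.Characteristic → IsMulCommutative A → IsCyclic A) : ∃ E R : Subgroup G, (∀ e ∈ E, ∀ r ∈ R, e * r = r * e) ∧ E ⊔ R = ⊤ ∧ (E = ⊥ ∨ Cfsg.IsExtraspecial p ↥E) ∧ (IsCyclic R ∨ (p = 2 ∧ 16 ≤ Nat.card R ∧ ((∃ m : ℕ, Nonempty (↥R ≃* DihedralGroup m)) ∨ (∃ m : ℕ, Nonempty (↥R ≃* QuaternionGroup m)) ∨ Cfsg.IsQuasiDihedral ↥R))) := by
  rcases subsingleton_or_nontrivial G with h0 | h0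
  · exact ⟨⊥, ⊤, fun e _ r _ => Subsingleton.elim _ _, bot_sup_eq _, Or.inl rfl, Or.inl inferInstance⟩
  obtain ⟨z, -, z1, zp, hz⟩ := exists_central_of_ne_bot (hG.to_subgroup ⊤) le_rfl le_normalizer top_ne_bot
  obtain ⟨E, hE, h1, h2⟩ := hall_sympl hG hsymp (orderOf_eq_prime zp z1)
    (mem_center_iff.2 fun g => hz g trivial)
  have h3 : IsCyclic (centralizer (E : Set G)) ∨ (p = 2 ∧ 16 ≤ Nat.card (centralizer (E : Set G)) ∧
      ((∃ m : ℕ, Nonempty (↥(centralizer (E : Set G)) ≃* DihedralGroup m)) ∨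
      (∃ m : ℕ, Nonempty (↥(centralizer (E : Set G)) ≃* QuaternionGroup m)) ∨
      Cfsg.IsQuasiDihedral ↥(centralizer (E : Set G)))) := h2.imp_right fun ⟨a1, r, hr, hk, a2⟩ => by
    refine ⟨a1, ?_, ?_⟩
    · rw [hk]; exact Nat.pow_le_pow_right (n := 2) two_pos (by omega : 4 ≤ r + 3)
    · obtain ⟨r', -, e | e | e⟩ := a2.cases_top
      exacts [Or.inl ⟨_, e⟩, Or.inr (Or.inl ⟨_, e⟩), Or.inr (Or.inr e)]
  by_cases e : E = zpowers z
  · refine ⟨⊥, centralizer (E : Set G), fun e he r _ => by simp [mem_bot.1 he], ?_, Or.inl rfl, h3⟩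
    rw [bot_sup_eq, ← h1, sup_eq_right.2 (e.le.trans hE.zle_cent)]
  · exact ⟨E, centralizer (E : Set G), fun e he r hr => hr e he, h1, Or.inr (hE.isExtraspecial e), h3⟩


end Cfsg.Agent.S3762
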