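import Cfsg.Statements.S3763
import Cfsg.Agent.H2.Extra2

set_option autoImplicit false
open Cfsg

namespace Cfsg.Agent.S3763
open Subgroup CfsgH2
open scoped commutatorElement

/-- Let E be an extraspecial 2-group of order 2^(2n+1). Then the largest elementary abelian subgroups of E have order 2^n or 2^(n+1); and two extraspecial 2-groups of the same order whose largest elementary abelian subgroups have the same order are isomorphic. -/
theorem result {E : Type*} [Group E] [Finite E] (hE : Cfsg.IsExtraspecial 2 E) (n : ℕ) (hn : Nat.card E = 2 ^ (2 * n + 1)) : ((Cfsg.PRankLE 2 n E ∧ ¬ Cfsg.PRankLE 2 (n - 1) E) ∨ (Cfsg.PRankLE 2 (n + 1) E ∧ ¬ Cfsg.PRankLE 2 n E)) ∧ ∀ (E' : Type*) [Group E'] [Finite E'], Cfsg.IsExtraspecial 2 E' → Nat.card E' = Nat.card E → (∀ k : ℕ, Cfsg.PRankLE 2 k E ↔ Cfsg.PRankLE 2 k E') → Nonempty (E ≃* E') := by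
  obtain ⟨z, hz, hne⟩ := ES.of_top hE
  have c : Nat.card (⊤ : Subgroup E) = 2 ^ (2 * n + 1) := by rw [Subgroup.card_top, hn]
  have h1 := hz.rk_le c
  have h2 := hz.le_rk c
  have h3 : n ≠ 0 := by
    rintro rfl
    exact hne (hz.eq_of_card c)
  refine ⟨?_, fun E' _ _ h' hc hr => equiv_of_extraspecial_rk hE h' hc.symm ?_⟩
  · simp only [← CfsgFT.rk_top_le_iff]
    omega
  · simp only [← CfsgFT.rk_top_le_iff] at hr
    exact le_antisymm ((hr _).2 le_rfl) ((hr _).1 le_rfl)


end Cfsg.Agent.S3763
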