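import Cfsg.Statements.S3764
import Cfsg.Agent.H2.EsDim

set_option autoImplicit false
open Cfsg

namespace Cfsg.Agent.S3764
open Subgroup CfsgH2
open scoped commutatorElement

/-- Let p, q, r be distinct primes and let X, Q, V be subgroups of a finite group with X of order r, Q an extraspecial q-group normalized by X with C_Q(X) = Z(Q), and V an elementary abelian p-group normalized by X and Q on which XQ acts faithfully ((X ⊔ Q) ∩ C(V) = 1). If C_V(X) = 1, then q = 2, r = 2^n + 1 for some n, and Q has order 2^(2n+1). -/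
theorem result {G : Type*} [Group G] [Finite G] {p q r : ℕ} (hp : p.Prime) (hq : q.Prime) (hr : r.Prime) (hpq : p ≠ q) (hpr : p ≠ r) (hqr : q ≠ r) (X Q V : Subgroup G) (hX : Nat.card X = r) (hQ : Cfsg.IsExtraspecial q ↥Q) (hXQ : X ≤ Subgroup.normalizer (Q : Set G)) (hCQ : Q ⊓ Subgroup.centralizer (X : Set G) = (Subgroup.center ↥Q).map Q.subtype) (hV : Cfsg.IsElementaryAbelian p V) (hXV : X ≤ Subgroup.normalizer (V : Set G)) (hQV : Q ≤ Subgroup.normalizer (V : Set G)) (hfaith : (X ⊔ Q) ⊓ Subgroup.centralizer (V : Set G) = ⊥) (hCV : V ⊓ Subgroup.centralizer (X : Set G) = ⊥) : q = 2 ∧ ∃ n : ℕ, r = 2 ^ n + 1 ∧ Nat.card Q = 2 ^ (2 * n + 1) := by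
  haveI : Fact p.Prime := ⟨hp⟩
  haveI : Fact q.Prime := ⟨hq⟩
  haveI : Fact r.Prime := ⟨hr⟩
  obtain ⟨z, h, hne⟩ := ES.of_isExtraspecial hQ
  rw [h.map_center] at hCQ
  obtain ⟨n, hn⟩ := h.exists_card' hne
  haveI : IsCyclic X := isCyclic_of_prime_card hX
  haveI : IsMulCommutative X := ⟨⟨fun a b => by
    letI := (inferInstance : IsCyclic X).commGroup
    exact mul_comm a b⟩⟩
  obtain ⟨W, i1, i2, i3, ρ, -, -, h3, h4⟩ := CfsgH1.exists_rep_of_elementary hV (sup_le hQV hXV)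
  have key := es_dim h ρ (by
      intro hz
      have h1 := (h4 _).1 (zpowers_le.2 hz) ⟨_, mem_zpowers _, rfl⟩
      exact h.toPES.toCZ.z_ne_one (mem_bot.1 (hfaith.le ⟨mem_sup_right h.mem, h1⟩)))
    hXQ (by rw [hX, hn]; exact Nat.Coprime.pow_right _ ((Nat.coprime_primes hr hq).2 hqr.symm))
    (CfsgH1.natCast_algClosure_ne_zero (by
      rw [hn]; exact fun e => hpq ((Nat.prime_dvd_prime_iff_eq hp hq).1 (hp.dvd_of_dvd_pow e))))
    (CfsgH1.natCast_algClosure_ne_zero (by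
      rw [hX]; exact fun e => hpr ((Nat.prime_dvd_prime_iff_eq hp hr).1 e)))
    (fun x hx => ((hCQ.ge (mem_zpowers z)).2 x hx).symm)
    (fun x hx h1 => by
      rw [← hCQ, ← CfsgH1.zpowers_eq_of_prime_card (hX ▸ hr) hx h1, CfsgH1.centralizer_zpowers_eq]) hn
  have h5 := key.2 ((h3 _ le_sup_right).2 hCV)
  have h6 : 1 < q ^ (n + 1) := Nat.one_lt_pow (by omega) hq.one_lt
  have h7 : q ^ (n + 1) + 1 = r := by rw [← hX]; exact h5.resolve_left h6.ne'
  have h8 : q = 2 := by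
    by_contra h2
    have ho : Odd (q ^ (n + 1)) := (hq.odd_of_ne_two h2).pow
    have : r = 2 := (hr.even_iff).1 (h7 ▸ ho.add_one)
    omega
  subst h8
  exact ⟨rfl, n + 1, h7.symm, hn⟩


end Cfsg.Agent.S3764
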