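import Cfsg.Statements.S3765
import Cfsg.Agent.H1.Bridge

set_option autoImplicit false
open Cfsg

namespace Cfsg.Agent.S3765

/-- Let p, q, r be distinct primes and let X, Q, V be subgroups of a finite group with X of order r normalizing the q-group Q and acting faithfully on it (X ∩ C(Q) = 1), and V a nontrivial elementary abelian p-group normalized by X and Q on which XQ acts faithfully. If q = 2 and r has the form 2^n + 1, assume in addition that Q is abelian. Then C_V(X) ≠ 1. -/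
theorem result {G : Type*} [Group G] [Finite G] {p q r : ℕ} (hp : p.Prime) (hq : q.Prime) (hr : r.Prime) (hpq : p ≠ q) (hpr : p ≠ r) (hqr : q ≠ r) (X Q V : Subgroup G) (hX : Nat.card X = r) (hQ : IsPGroup q Q) (hXQ : X ≤ Subgroup.normalizer (Q : Set G)) (hXfaith : X ⊓ Subgroup.centralizer (Q : Set G) = ⊥) (hV : Cfsg.IsElementaryAbelian p V) (hV1 : V ≠ ⊥) (hXV : X ≤ Subgroup.normalizer (V : Set G)) (hQV : Q ≤ Subgroup.normalizer (V : Set G)) (hfaith : (X ⊔ Q) ⊓ Subgroup.centralizer (V : Set G) = ⊥) (hexc : q = 2 → (∃ n : ℕ, r = 2 ^ n + 1) → IsMulCommutative Q) : V ⊓ Subgroup.centralizer (X : Set G) ≠ ⊥ := by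
  haveI := Fact.mk hp
  haveI := Fact.mk hq
  intro hC
  obtain ⟨k, hk⟩ := IsPGroup.iff_card.mp hQ
  have hcop : (Nat.card X).Coprime (Nat.card Q) := by
    rw [hX, hk]; exact ((Nat.coprime_primes hr hq).mpr hqr.symm).pow_right k
  obtain ⟨h1, h2, h3⟩ := CfsgH1.prime_action_elementary hV hQV hXV hXQ (hX ▸ hr) hcop
    (CfsgH1.isSolvable_of_isPGroup hQ)
    (by rw [hk]; exact fun h => hpq ((Nat.prime_dvd_prime_iff_eq hp hq).mp (hp.dvd_of_dvd_pow h)))
    (by rw [hX]; exact fun h => hpr ((Nat.prime_dvd_prime_iff_eq hp hr).mp h)) hC (by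
      intro h
      have h1 : ⁅Q, X⁆ = ⊥ := by
        rw [eq_bot_iff, ← hfaith]
        exact le_inf ((CfsgH1.commutator_le_left_of_le_normalizer hXQ).trans le_sup_right) h
      rw [Subgroup.commutator_comm, Subgroup.commutator_eq_bot_iff_le_centralizer, ← inf_eq_left,
        hXfaith] at h1
      rw [← h1, Subgroup.card_bot] at hX
      exact hr.one_lt.ne hX)
  rw [hX] at h2 h3
  rw [hk] at h3
  obtain ⟨n, -, hn⟩ := (Nat.dvd_prime_pow hq).mp ((dvd_pow_self _ two_ne_zero).trans h3)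
  have h4 : q = 2 := by
    by_contra h
    obtain ⟨a, ha⟩ := (hq.odd_of_ne_two h).pow (n := n)
    obtain ⟨b, hb⟩ := hr.odd_of_ne_two (by omega)
    omega
  exact h1 (hexc h4 ⟨n, by rw [← h4, ← hn]; omega⟩)

end Cfsg.Agent.S3765
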