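import Cfsg.Statements.S3766
import Cfsg.Agent.H2.Mix

set_option autoImplicit false
open Cfsg

namespace Cfsg.Agent.S3766
open Subgroup CfsgH2
open scoped commutatorElement

open CfsgFT CfsgH1 CfsgLead

/-- Let G be a finite solvable group and N a normal subgroup of G. Call a pair V < U of normal subgroups of G a chief factor of G when no normal subgroup of G lies strictly between them; an element g centralizes the chief factor U/V when u g u⁻¹ g⁻¹ ∈ V for all u ∈ U. Then an element of G lies in the Fitting subgroup F(N) if and only if it lies in N and centralizes every chief factor of G; and also if and only if it lies in N and centralizes every chief factor U/V of G with U ≤ F(N). -/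
theorem result {G : Type*} [Group G] [Finite G] (hG : Group.IsSolvable G) (N : Subgroup G) [N.Normal] (g : G) : (g ∈ (Cfsg.fittingSubgroup ↥N).map N.subtype ↔ g ∈ N ∧ ∀ U V : Subgroup G, (U.Normal ∧ V.Normal ∧ V < U ∧ ∀ W : Subgroup G, W.Normal → V ≤ W → W ≤ U → W = V ∨ W = U) → ∀ u ∈ U, u * g * u⁻¹ * g⁻¹ ∈ V) ∧ (g ∈ (Cfsg.fittingSubgroup ↥N).map N.subtype ↔ g ∈ N ∧ ∀ U V : Subgroup G, (U.Normal ∧ V.Normal ∧ V < U ∧ ∀ W : Subgroup G, W.Normal → V ≤ W → W ≤ U → W = V ∨ W = U) → U ≤ (Cfsg.fittingSubgroup ↥N).map N.subtype → ∀ u ∈ U, u * g * u⁻¹ * g⁻¹ ∈ V) := by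
  have hF := isNilpotent_map_fitting N
  have hc : N ⊓ C((fittingSubgroup N).map N.subtype) ≤ (fittingSubgroup N).map N.subtype :=
    inf_centralizer_fit_le (inferInstance : Group.IsSolvable N)
  have hl : ∀ D ≤ N, D.Normal → Group.IsNilpotent D → D ≤ (fittingSubgroup N).map N.subtype := fun D a b c =>
    le_map_fitting a (le_top.trans (normalizer_eq_top _).ge) c
  have FN : (fittingSubgroup N).map N.subtype ≤ N := map_subtype_le _
  have hn : ((fittingSubgroup N).map N.subtype).Normal := inferInstance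
  generalize (fittingSubgroup N).map N.subtype = F at *
  have k1 : g ∈ F → ∀ U V : Subgroup G, (U.Normal ∧ V.Normal ∧ V < U ∧ ∀ W : Subgroup G, W.Normal → V ≤ W → W ≤ U →
      W = V ∨ W = U) → ∀ u ∈ U, u * g * u⁻¹ * g⁻¹ ∈ V := fun h U V ⟨a, b, c, d⟩ u hu =>
    chief_nilpotent ⟨c, a, b, d⟩ hF (commutator_mem_commutator hu h)
  have k2 : (g ∈ N ∧ ∀ U V : Subgroup G, (U.Normal ∧ V.Normal ∧ V < U ∧ ∀ W : Subgroup G, W.Normal → V ≤ W → W ≤ U →
      W = V ∨ W = U) → U ≤ F → ∀ u ∈ U, u * g * u⁻¹ * g⁻¹ ∈ V) → g ∈ F := fun ⟨a, b⟩ => by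
    have DN : normalClosure {g} ≤ N := normalClosure_le_normal (Set.singleton_subset_iff.2 a)
    refine hl _ DN inferInstance (nil_of_hyper ((inf_le_inf_right _ DN).trans hc) fun W hW _ e => ?_)
      (subset_normalClosure rfl)
    by_contra c
    obtain ⟨V, -, hV⟩ := CfsgH9.exists_chief_top (bot_lt_iff_ne_bot.2 c)
    obtain ⟨lt, -, nV, hm⟩ := id hV
    haveI := CfsgH9.centMod_normal (U := W) (V := V)
    refine lt.not_ge (e.trans (CfsgH9.le_centMod_iff'.1 (normalClosure_le_normal (Set.singleton_subset_iff.2 ?_))))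
    exact ⟨by rw [normalizer_eq_top]; exact mem_top _, fun u hu => by
      simpa [mul_assoc] using V.inv_mem (b W V ⟨inferInstance, nV, lt, hm⟩ hW u hu)⟩
  exact ⟨⟨fun h => ⟨FN h, k1 h⟩, fun h => k2 ⟨h.1, fun U V a _ => h.2 U V a⟩⟩, fun h => ⟨FN h, fun U V a _ => k1 h U V a⟩, k2⟩


end Cfsg.Agent.S3766
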