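import Cfsg.Statements.S3767
import Cfsg.Agent.H2.EsDim

set_option autoImplicit false
open Cfsg

namespace Cfsg.Agent.S3767
open Subgroup CfsgH2
open scoped commutatorElement

/-- Let P be an extraspecial p-group of order p^(2n+1) and H a cyclic group of order h prime to p acting on P (inside a common finite group: H normalizes P) so that C_P(x) = Z(P) for every non-identity x ∈ H. Then h divides p^n + 1 or h divides p^n − 1. -/
theorem result {G : Type*} [Group G] [Finite G] {p : ℕ} [Fact p.Prime] (P H : Subgroup G) (hP : Cfsg.IsExtraspecial p ↥P) (n : ℕ) (hn : Nat.card P = p ^ (2 * n + 1)) (hH : IsCyclic H) (hcop : (Nat.card H).Coprime p) (hHP : H ≤ Subgroup.normalizer (P : Set G)) (hfix : ∀ x ∈ H, x ≠ 1 → P ⊓ Subgroup.centralizer {x} = (Subgroup.center ↥P).map P.subtype) : Nat.card H ∣ p ^ n + 1 ∨ Nat.card H ∣ p ^ n - 1 := by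
  have hp : Fact p.Prime := inferInstance
  obtain ⟨z, h, -⟩ := ES.of_isExtraspecial hP
  rw [h.map_center] at hfix
  haveI : IsMulCommutative H := ⟨⟨fun a b => by
    letI := hH.commGroup
    exact mul_comm a b⟩⟩
  have key := es_dim (F := ℂ) h (Representation.leftRegular ℂ ↥(P ⊔ H)) (by
      intro hz
      have h1 := DFunLike.congr_fun (MonoidHom.mem_ker.1 hz) (MonoidAlgebra.single 1 1)
      rw [Representation.leftRegular, Representation.ofMulAction_single] at h1
      have h2 := MonoidAlgebra.single_left_injective (one_ne_zero (α := ℂ)) h1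
      exact h.toPES.toCZ.z_ne_one (by simpa using congrArg Subtype.val h2))
    hHP (by rw [hn]; exact Nat.Coprime.pow_right _ hcop) (Nat.cast_ne_zero.2 Nat.card_pos.ne')
    (Nat.cast_ne_zero.2 Nat.card_pos.ne') (fun x hx => by
      by_cases h1 : x = 1
      · rw [h1]; exact Commute.one_right z
      · exact mem_centralizer_singleton_iff.1 ((hfix x hx h1).ge (mem_zpowers z)).2)
    (fun x hx h1 => (hfix x hx h1).le) hn
  rcases key.1 with e | e
  · left; rw [e]; exact one_dvd _
  · exact e


end Cfsg.Agent.S3767
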