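import Cfsg.Statements.S3768
import Cfsg.Agent.H1.Frob

set_option autoImplicit false
open Cfsg

namespace Cfsg.Agent.S3768

/-- Let G be a finite Frobenius group with Frobenius complement R and Frobenius kernel K (the identity together with the elements in no conjugate of R), and let N be a normal subgroup of G not containing K. Then G/N is a Frobenius group with Frobenius complement RN/N whose Frobenius kernel is the image of K. -/
theorem result {G : Type*} [Group G] [Finite G] (R : Subgroup G) (hR : Cfsg.IsFrobeniusComplement R) (N : Subgroup G) [N.Normal] (hKN : ¬ Cfsg.frobeniusKernel R ⊆ N) : Cfsg.IsFrobeniusComplement (R.map (QuotientGroup.mk' N)) ∧ Cfsg.frobeniusKernel (R.map (QuotientGroup.mk' N)) = QuotientGroup.mk' N '' Cfsg.frobeniusKernel R := by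
  obtain ⟨K, h1, h2, h3, h4, h5⟩ := CfsgH1.frob_data hR
  rw [← h1] at hKN ⊢
  have hNK : N ≤ K := (CfsgH1.frob_normal_le_or h3.sup_eq_top h5 N).resolve_right hKN
  have hcop := CfsgH1.coprime_of_fpf (X := R) (K := K) Subgroup.le_normalizer_of_normal h5
  haveI : (K.map (QuotientGroup.mk' N)).Normal := h2.map _ (QuotientGroup.mk'_surjective N)
  have hc : Subgroup.IsComplement' (K.map (QuotientGroup.mk' N)) (R.map (QuotientGroup.mk' N)) := by
    refine Subgroup.isComplement'_of_disjoint_and_mul_eq_univ (Subgroup.disjoint_of_coprime_natCard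
      ((hcop.symm.of_dvd_left (Subgroup.card_map_dvd _ _)).of_dvd_right (Subgroup.card_map_dvd _ _))) ?_
    rw [← Subgroup.normal_mul, ← Subgroup.map_sup, h3.sup_eq_top,
      Subgroup.map_top_of_surjective _ (QuotientGroup.mk'_surjective N), Subgroup.coe_top]
  have hF : Cfsg.IsFrobeniusComplement (R.map (QuotientGroup.mk' N)) := by
    refine CfsgH1.frob_of_fpf hc (by rwa [Ne, CfsgH1.map_mk'_eq_bot_iff]) ?_ ?_
    · rw [Ne, CfsgH1.map_mk'_eq_bot_iff]
      exact fun h => hR.1 (h3.disjoint.symm.eq_bot_of_le (h.trans hNK))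
    · rintro _ ⟨x, hx, rfl⟩ hx1
      have := CfsgH1.map_inf_centralizer_of_coprime (QuotientGroup.mk' N) (A := Subgroup.zpowers x)
        (K := K) Subgroup.le_normalizer_of_normal
        (CfsgFT.coprime_mono hcop (Subgroup.zpowers_le.2 hx) inf_le_left)
        (Or.inl (CfsgH1.isSolvable_zpowers x))
      rw [MonoidHom.map_zpowers, CfsgFT.cent_zpowers, CfsgFT.cent_zpowers,
        h5 x hx (fun e => hx1 (by simp [e])), Subgroup.map_bot] at this
      exact this.symm
  exact ⟨hF, by rw [CfsgH1.frobKernel_eq hc hF, Subgroup.coe_map]⟩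

end Cfsg.Agent.S3768
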