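import Cfsg.Statements.S3771
import Cfsg.Agent.H2.PGroup2

set_option autoImplicit false
open Cfsg

namespace Cfsg.Agent.S3771
open Subgroup CfsgH2

/-- Let p be a prime and R a finite p-group of p-rank at most 2 (no elementary abelian subgroup of order p³) in which every element has order dividing p. Then R has order at most p³. -/
theorem result {R : Type*} [Group R] [Finite R] {p : ℕ} [Fact p.Prime] (hR : IsPGroup p R) (hrank : Cfsg.PRankLE p 2 R) (hexp : ∀ x : R, x ^ p = 1) : Nat.card R ≤ p ^ 3 := by
  have hT : IsPGroup p (⊤ : Subgroup R) := hR.to_subgroup _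
  obtain ⟨A, -, -, hn, hc, h1⟩ := exists_scn hT le_rfl le_normalizer bot_le
    (by rw [normalizer_eq_top]) (inferInstance : IsMulCommutative (⊥ : Subgroup R))
  obtain ⟨a, ha⟩ := IsPGroup.iff_card.1 (hR.to_subgroup A)
  have h2 := relIndex_centralizer_le_pow hT a A le_top hn ha
  have h3 : centralizer (A : Set R) = A :=
    le_antisymm (by simpa using h1) (isMulCommutative_iff_le_centralizer.1 hc)
  rw [h3, relIndex_top_right] at h2
  have h4 := hrank A hc (fun x _ => hexp x)
  have hp1 : 1 < p := (Fact.out : p.Prime).one_lt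
  rw [ha, Nat.pow_le_pow_iff_right hp1] at h4
  rw [← A.card_mul_index, ha]
  calc p ^ a * A.index ≤ p ^ a * p ^ a.choose 2 := Nat.mul_le_mul_left _ h2
    _ ≤ p ^ 3 := by
      rw [← pow_add]; apply Nat.pow_le_pow_right hp1.le
      interval_cases a <;> simp


end Cfsg.Agent.S3771
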