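import Cfsg.Statements.S3772
import Cfsg.Agent.H2.Extra2

set_option autoImplicit false
open Cfsg

namespace Cfsg.Agent.S3772
open Subgroup CfsgH2
open scoped commutatorElement

/-- Let G be a finite 2-group whose Frattini subgroup Φ(G) has order 2, with |G : Φ(G)| = 2^d, and let j be the number of elements x of G with x² = 1. Then j = 2^d, or j = 2^d + 2^(d−r) or j = 2^d − 2^(d−r) for some positive integer r with 2r ≤ d. Moreover if d = 2r and j is 2^d + 2^r or 2^d − 2^r, then G is extraspecial. -/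
theorem result {G : Type*} [Group G] [Finite G] (hG : IsPGroup 2 G) (hΦ : Nat.card (frattini G) = 2) (d : ℕ) (hd : (frattini G).index = 2 ^ d) : (Nat.card {x : G // x ^ 2 = 1} = 2 ^ d ∨ ∃ r : ℕ, 1 ≤ r ∧ 2 * r ≤ d ∧ (Nat.card {x : G // x ^ 2 = 1} = 2 ^ d + 2 ^ (d - r) ∨ Nat.card {x : G // x ^ 2 = 1} + 2 ^ (d - r) = 2 ^ d)) ∧ (∀ r : ℕ, d = 2 * r → (Nat.card {x : G // x ^ 2 = 1} = 2 ^ d + 2 ^ r ∨ Nat.card {x : G // x ^ 2 = 1} + 2 ^ r = 2 ^ d) → Cfsg.IsExtraspecial 2 G) := by
  have : IsCyclic (frattini G) := isCyclic_of_prime_card hΦ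
  obtain ⟨z, hz⟩ := isCyclic_iff_zpowers.1 this
  have ho : orderOf z = 2 := by rw [← Nat.card_zpowers, hz, hΦ]
  have hP : PES 2 (⊤ : Subgroup G) z := by
    refine ⟨⟨mem_top _, ho, fun x _ => ?_, fun x _ y _ => hz ▸ commutator_le_frattini hG
      (mul_mul_inv_mul_inv_mem_commutator (mem_top x) (mem_top y))⟩, fun x _ => hz ▸ pow_mem_frattini hG x⟩
    have h1 : x * z * x⁻¹ ∈ zpowers z := by
      rw [hz]; exact Normal.conj_mem inferInstance _ (hz ▸ mem_zpowers z) x
    rcases (mem_zpowers_two ho).1 h1 with h2 | h2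
    · have : z = 1 := by simpa using h2
      rw [this]; exact Commute.one_left x
    · exact (mul_inv_eq_iff_eq_mul.1 h2).symm
  have hc : Nat.card (⊤ : Subgroup G) = 2 ^ (d + 1) := by
    rw [Subgroup.card_top, ← (frattini G).card_mul_index, hΦ, hd]; ring
  obtain ⟨r, C, a1, a2, a3, a4, a5, a6⟩ := PES.exists_core _ hP
  obtain ⟨k, hk⟩ := IsPGroup.iff_card.1 a1.isPGroup
  have hk1 : k ≠ 0 := by
    rintro rfl
    have := card_le_of_le a1.zle
    rw [a1.card_z, hk] at this
    omega
  obtain ⟨k, rfl⟩ : ∃ j, k = j + 1 := ⟨k - 1, by omega⟩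
  have hdk : d = k + 2 * r := by
    rw [hc, hk, show 4 = 2 ^ 2 by norm_num, ← pow_mul, ← pow_add] at a4
    have := Nat.pow_right_injective (le_refl 2) a4
    omega
  rw [← nsq_top]
  rw [hc, hk] at a6
  have key : nsq (⊤ : Subgroup G) = 2 ^ d ∨ (1 ≤ r ∧ (nsq (⊤ : Subgroup G) = 2 ^ d + 2 ^ (k + r) ∨
      nsq (⊤ : Subgroup G) + 2 ^ (k + r) = 2 ^ d)) := by
    rcases a1.nsq_of_comm a2 with h | h
    · right
      constructor
      · by_contra h0
        have h1 := a5 (by omega)
        subst h1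
        have h2 : ∀ x : G, x ^ 2 = 1 := by
          intro x
          by_contra h3
          have h4 := cnt_add_not (⊤ : Subgroup G) fun x => x ^ 2 = 1
          change nsq _ + _ = _ at h4
          have h5 : cnt (⊤ : Subgroup G) (fun x => ¬ x ^ 2 = 1) = 0 := by omega
          unfold cnt at h5
          rw [Set.ncard_eq_zero] at h5
          exact (Set.eq_empty_iff_forall_notMem.1 h5) x ⟨mem_top _, h3⟩
        have h3 : frattini G ≤ ⊥ := frattini_le_of (p := 2)
          (by
            rw [_root_.commutator_def]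
            exact (commutator_eq_bot_of_le_centralizer (isMulCommutative_iff_le_centralizer.1 a2)).le)
          fun x => mem_bot.2 (h2 x)
        rw [le_bot_iff.1 h3] at hΦ
        simp at hΦ
      · rw [h, hk] at a6
        push_cast at a6
        have e : (2 : ℤ) ^ r * (2 * 2 ^ (k + 1) - 2 ^ (k + 1)) = 2 * 2 ^ (k + r) := by ring
        rw [e, pow_succ] at a6
        rcases a6 with a6 | a6
        · left; zify; linarith
        · right; zify; linarith
    · left
      rw [hk] at h
      have h' : 2 * (nsq C : ℤ) = 2 ^ (k + 1) := by exact_mod_cast h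
      push_cast at a6
      rw [h', sub_self, mul_zero, neg_zero, or_self, pow_succ] at a6
      zify; linarith
  refine ⟨key.imp id fun ⟨h1, h2⟩ => ⟨r, h1, by omega, by rwa [show d - r = k + r by omega]⟩, ?_⟩
  intro s hs h
  have hs0 : 0 < 2 ^ s := by positivity
  have ht0 : 0 < 2 ^ (k + r) := by positivity
  rcases key with h1 | ⟨h1, h2⟩
  · omega
  have h3 : 2 ^ (k + r) = 2 ^ s := by omega
  have h4 := Nat.pow_right_injective (le_refl 2) h3
  have h5 : k = 0 := by omega
  subst h5
  have h6 : zpowers z = C := eq_of_le_of_card_le a1.zle (by rw [hk, a1.card_z]; rfl)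
  have h7 : ES 2 (⊤ : Subgroup G) z := ⟨hP, fun x hx hcx => h6 ▸ a3 ⟨hx, mem_centralizer_iff'.2 hcx⟩⟩
  refine h7.isExtraspecial_top (h7.ne_of_card (n := r - 1) ?_)
  rw [hc]; congr 1; omega


end Cfsg.Agent.S3772
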