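import Cfsg.Statements.S3773
import Cfsg.Agent.H9.CW

set_option autoImplicit false
open Cfsg

namespace Cfsg.Agent.S3773

/-- Let G be a finite 2-group of nilpotency class at most 2 and exponent dividing 4 in which the elements x with x² = 1 form a subgroup N. Then |G| ≤ |N|³, and |G| < |N|³ unless G is special. -/
theorem result {G : Type*} [Group G] [Finite G] (hG : IsPGroup 2 G) (hcl : (⊤ : Subgroup G).lowerCentralSeries 2 = ⊥) (hexp : ∀ x : G, x ^ 4 = 1) (hN : ∀ x y : G, x ^ 2 = 1 → y ^ 2 = 1 → (x * y) ^ 2 = 1) : Nat.card G ≤ Nat.card {x : G // x ^ 2 = 1} ^ 3 ∧ (¬ Cfsg.IsSpecial 2 G → Nat.card G < Nat.card {x : G // x ^ 2 = 1} ^ 3) := by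
  open Subgroup CfsgH1 CfsgH2 CfsgFT CfsgH9 in
    have c := comm_le_center_of_lcs hcl
    let N : Subgroup G := ⟨⟨⟨{x | x ^ 2 = 1}, fun {a b} => hN a b⟩, one_pow 2⟩, fun {a} h => show a⁻¹ ^ 2 = 1 by rw [inv_pow, h, inv_one]⟩
    have sN : ∀ x : G, x ^ 2 ∈ N := fun x => (pow_mul x 2 2).symm.trans (hexp x)
    have c1 : ∀ x y : G, x * y * x⁻¹ * y⁻¹ ∈ N := fun x y => by
      simpa [sq, mul_assoc] using N.mul_mem (N.mul_mem (N.inv_mem (sN x⁻¹)) (sN (x⁻¹ * y))) (N.inv_mem (sN y))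
    have c2 : frattini G ≤ N := frattini_le_of (commutator_le.2 fun x _ y _ => c1 x y) sN
    have c3 : frattini G ≤ center G := frattini_le_of c fun x => sq x ▸ sq_mem_center c c1 x
    have h1 := cw hG c3 (fun x => sq x ▸ pow_mem_frattini hG x) fun u h => (sq u).symm.trans (c2 h)
    change _ ≤ (_ * Nat.card N) ^ 2 at h1
    change Nat.card G ≤ Nat.card N ^ 3 ∧ (_ → Nat.card G < Nat.card N ^ 3)
    have l2 := card_le_of_le c2
    have l3 := card_le_of_le c3
    have p1 : 0 < Nat.card (frattini G) := Nat.card_pos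
    have p2 : 0 < Nat.card N := Nat.card_pos
    have h2 : Nat.card G ≤ Nat.card (frattini G) * Nat.card N ^ 2 :=
      Nat.le_of_mul_le_mul_right (((Nat.mul_le_mul_left _ l3).trans h1).trans (le_of_eq (by ring))) p1
    have h3 : Nat.card G ≤ Nat.card N ^ 3 := h2.trans ((Nat.mul_le_mul_right _ l2).trans (le_of_eq (by ring)))
    refine ⟨h3, fun ns => h3.lt_of_ne fun e => ns ?_⟩
    have e1 : frattini G = N := CfsgH2.eq_of_le_of_card_le c2 (Nat.le_of_mul_le_mul_right ((le_of_eq (by rw [e]; ring)).trans h2) (pow_pos p2 2))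
    have e2 : frattini G = center G := CfsgH2.eq_of_le_of_card_le c3 (by
      rw [e1] at h1 ⊢
      exact Nat.le_of_mul_le_mul_left (h1.trans (le_of_eq (by rw [e]; ring))) Nat.card_pos)
    refine ⟨hG, e2, le_antisymm c (e2.ge.trans (by_contra fun ne => ?_))⟩
    obtain ⟨M, m1, m2, m3⟩ := exists_maximal_subgroup (Φ := fun B => B < frattini G) ((commutator_le_frattini hG).lt_of_ne fun e => ne e.ge)
    haveI : M.Normal := Normal.of_commutator_le _ m1
    have cM := (Normal.quotient_commutative_iff_commutator_le.2 m1).1.1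
    let f : G →* G ⧸ M := ⟨⟨fun x => (x : G ⧸ M) ^ 2, by simp⟩, fun x y => Commute.mul_pow (cM (x : G ⧸ M) y) 2⟩
    obtain ⟨z, hz, hz'⟩ := SetLike.exists_of_lt m2
    have e3 : M ⊔ zpowers z = frattini G := by_contra fun ne => hz' ((m3 _ (lt_of_le_of_ne (sup_le m2.le (zpowers_le.2 hz)) ne) le_sup_left).le
      (mem_sup_right (mem_zpowers z)))
    have i2 : f.ker.index ≤ 2 := by
      rw [index_ker]
      refine (card_le_of_le (K := zpowers (z : G ⧸ M)) ?_).trans (Nat.card_zpowers (z : G ⧸ M) ▸ orderOf_le_of_pow_eq_one two_pos (by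
        rw [← QuotientGroup.mk_pow, show z ^ 2 = 1 from c2 hz, QuotientGroup.mk_one]))
      rintro _ ⟨x, rfl⟩
      have : (M ⊔ zpowers z).map (QuotientGroup.mk' M) ≤ zpowers (z : G ⧸ M) := by
        rw [Subgroup.map_sup, QuotientGroup.map_mk'_self, bot_sup_eq, MonoidHom.map_zpowers]; rfl
      exact this ⟨x ^ 2, e3 ▸ pow_mem_frattini hG x, rfl⟩
    have lN : N ≤ f.ker := fun x h => show (x : G ⧸ M) ^ 2 = 1 by rw [← QuotientGroup.mk_pow, show x ^ 2 = 1 from h, QuotientGroup.mk_one]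
    have h4 := cw (hG.to_subgroup f.ker) (U := M.subgroupOf _) (fun x h => mem_center_iff.2 fun y => Subtype.ext (mem_center_iff.1 (c3 (m2.le h)) y))
      (fun x => (QuotientGroup.eq_one_iff ((x : G) * x)).1 ((sq (x : G ⧸ M)).symm.trans x.2)) fun u h => Subtype.ext ((sq (u : G)).symm.trans (c2 (m2.le h)))
    have h7 : Nat.card {x : f.ker // x ^ 2 = 1} = Nat.card N := Nat.card_congr ⟨fun x => ⟨x.1, congrArg Subtype.val x.2⟩,
      fun x => ⟨⟨x, lN x.2⟩, Subtype.ext x.2⟩, fun _ => rfl, fun _ => rfl⟩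
    have h8 : Nat.card (N.subgroupOf f.ker) ≤ Nat.card (center f.ker) := card_le_of_le fun x h => mem_center_iff.2 fun y =>
      Subtype.ext (mem_center_iff.1 (c3 (e1.ge h)) y)
    rw [Nat.card_congr (subgroupOfEquivOfLe lN).toEquiv] at h8
    rw [h7, Nat.card_congr (subgroupOfEquivOfLe (m2.le.trans (c2.trans lN))).toEquiv] at h4
    have h5 := CfsgH2.mul_card_le_of_lt (hG.to_subgroup _) m2
    have h6 := (card_mul_index f.ker).symm.le.trans (Nat.mul_le_mul_left _ i2)
    rw [e1] at h5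
    rw [e] at h6
    have h9 := (Nat.mul_le_mul_left _ h8).trans h4
    generalize Nat.card N = n at *
    generalize Nat.card M = m at *
    generalize Nat.card f.ker = k at *
    have a1 := Nat.mul_le_mul_right n h6
    have a2 := Nat.pow_le_pow_left (Nat.mul_le_mul_right n h5) 2
    nlinarith [pow_pos p2 4]

end Cfsg.Agent.S3773
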