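import Cfsg.Statements.S3774
import Cfsg.Agent.H2.StrEmb
import Cfsg.Agent.H2.SPE

set_option autoImplicit false
open Cfsg

namespace Cfsg.Agent.S3774

/-- Let G be a nontrivial finite 2-group whose automorphism group permutes the involutions of G transitively. Then every involution of G is central, so that the involutions together with 1 form the subgroup Ω₁(Z(G)), and if this subgroup has order q then |G| is a power of q. -/
theorem result {G : Type*} [Group G] [Finite G] [Nontrivial G] (hG : IsPGroup 2 G) (htrans : ∀ x y : G, x ≠ 1 → x ^ 2 = 1 → y ≠ 1 → y ^ 2 = 1 → ∃ a : MulAut G, a x = y) : (∀ x : G, x ^ 2 = 1 → x ∈ Subgroup.center G) ∧ ∃ m : ℕ, Nat.card G = Nat.card {z : G // z ^ 2 = 1} ^ m := by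
  open Subgroup CfsgH2 in
    obtain ⟨z, hz, oz⟩ := exists_orderOf_p (hG.to_subgroup (center G)) ((nontrivial_iff_ne_bot _).1 hG.center_nontrivial)
    have z1 := ne_one_of_orderOf_two oz
    have z2 : z ^ 2 = 1 := oz ▸ pow_orderOf_eq_one z
    have c : ∀ x : G, x ^ 2 = 1 → x ∈ center G := fun x hx => by
      by_cases x1 : x = 1
      · exact x1 ▸ one_mem _
      obtain ⟨a, rfl⟩ := htrans z x z1 z2 x1 hx
      exact mem_center_iff.2 fun g => by
        obtain ⟨g, rfl⟩ := a.surjective g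
        rw [← map_mul, ← map_mul, mem_center_iff.1 hz]
    refine ⟨c, ?_⟩
    let N : Subgroup G := ⟨⟨⟨{x | x ^ 2 = 1}, fun {a b} h h' => show (a * b) ^ 2 = 1 by
      rw [Commute.mul_pow (mem_center_iff.1 (c b h') a), h, h', one_mul]⟩, one_pow 2⟩, fun {a} h => show a⁻¹ ^ 2 = 1 by rw [inv_pow, h, inv_one]⟩
    obtain ⟨n, hn⟩ := (hG.to_subgroup N).exists_card_eq
    obtain ⟨m, hm⟩ := hG.exists_card_eq
    change Nat.card {z : G // z ^ 2 = 1} = _ at hn
    have t : ∀ g : G, g ≠ 1 → orderOf (g ^ (orderOf g / 2)) = 2 := fun g g1 => orderOf_half (by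
      obtain ⟨k, hk⟩ := IsPGroup.iff_orderOf.1 hG g
      rcases k with _ | k
      · exact absurd (orderOf_eq_one_iff.1 hk) g1
      · rw [hk]; exact (Nat.even_pow.2 ⟨even_two, k.succ_ne_zero⟩)) (orderOf_pos g).ne'
    let τ : {g : G // True ∧ g ≠ 1} → {g : G // g ^ 2 = 1 ∧ g ≠ 1} := fun g =>
      ⟨g.1 ^ (orderOf g.1 / 2), orderOf_dvd_iff_pow_eq_one.1 (t g g.2.2).dvd, ne_one_of_orderOf_two (t g g.2.2)⟩
    have e := card_eq_mul_of_fiber τ (n := Nat.card {a // τ a = ⟨z, z2, z1⟩}) fun b => by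
      obtain ⟨a, ha⟩ := htrans b z b.2.2 b.2.1 z1 z2
      refine Nat.card_congr ((a.toEquiv.subtypeEquiv fun g => by simp).subtypeEquiv fun g => ?_)
      simp only [τ, Subtype.ext_iff, Equiv.subtypeEquiv_apply, MulEquiv.toEquiv_eq_coe, EquivLike.coe_coe]
      rw [← ha, MulEquiv.orderOf_eq, ← map_pow, a.apply_eq_iff_eq]
    have e1 := card_subtype_ne (P := fun _ : G => True) (a := 1) trivial
    have e2 := card_subtype_ne (P := fun g : G => g ^ 2 = 1) (a := 1) (one_pow 2)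
    rw [Nat.card_congr (Equiv.subtypeUnivEquiv fun _ : G => trivial), hm] at e1
    rw [hn] at e2
    have d : 2 ^ n - 1 ∣ 2 ^ m - 1 := ⟨_, by rw [← e1, ← e2, Nat.add_sub_cancel, Nat.add_sub_cancel, e]⟩
    have := Nat.pow_sub_one_gcd_pow_sub_one 2 n m
    rw [Nat.gcd_eq_left d] at this
    have h1 := Nat.one_le_two_pow (n := n)
    have h2 := Nat.one_le_two_pow (n := n.gcd m)
    obtain ⟨k, rfl⟩ := Nat.gcd_eq_left_iff_dvd.1 (Nat.pow_right_injective le_rfl (show 2 ^ n.gcd m = 2 ^ n by omega))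
    exact ⟨k, by rw [hm, hn, pow_mul]⟩

end Cfsg.Agent.S3774
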