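import Cfsg.Statements.S3775
import Cfsg.Agent.H9.Homo
import Cfsg.Agent.H2.SPE

set_option autoImplicit false
open Cfsg

namespace Cfsg.Agent.S3775

/-- Let A be a finite abelian p-group and X a group of automorphisms of A of order prime to p. Call a subgroup of A invariant when every element of X maps it onto itself. Then the following are equivalent: (i) A is not the direct product of two nontrivial invariant subgroups; (ii) every invariant subgroup of A is one of the subgroups Ω_i(A) = {a : a^(p^i) = 1}; (iii) the subgroup Ω₁(A) of elements of order dividing p has no invariant subgroups other than 1 and itself. -/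
theorem result {A : Type*} [CommGroup A] [Finite A] {p : ℕ} [Fact p.Prime] (hA : IsPGroup p A) (X : Subgroup (MulAut A)) (hX : (Nat.card X).Coprime p) : ((¬ ∃ B C : Subgroup A, B ≠ ⊥ ∧ C ≠ ⊥ ∧ (∀ x ∈ X, B.map x.toMonoidHom = B) ∧ (∀ x ∈ X, C.map x.toMonoidHom = C) ∧ B ⊓ C = ⊥ ∧ B ⊔ C = ⊤) ↔ (∀ B : Subgroup A, (∀ x ∈ X, B.map x.toMonoidHom = B) → ∃ i : ℕ, ∀ a : A, a ∈ B ↔ a ^ p ^ i = 1)) ∧ ((∀ B : Subgroup A, (∀ x ∈ X, B.map x.toMonoidHom = B) → ∃ i : ℕ, ∀ a : A, a ∈ B ↔ a ^ p ^ i = 1) ↔ (∀ B : Subgroup A, (∀ x ∈ X, B.map x.toMonoidHom = B) → (∀ b ∈ B, b ^ p = 1) → B = ⊥ ∨ ∀ a : A, a ∈ B ↔ a ^ p = 1)) := by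
  open Subgroup CfsgH9 in
    simp only [ainv_iff]
    have iB : AInv X ⊥ := fun _ _ _ h => by simp [mem_bot.1 h]
    have h32 : (∀ B : Subgroup A, AInv X B → (∀ b ∈ B, b ^ p = 1) → B = ⊥ ∨ ∀ a : A, a ∈ B ↔ a ^ p = 1) →
        ∀ B : Subgroup A, AInv X B → ∃ i : ℕ, ∀ a : A, a ∈ B ↔ a ^ p ^ i = 1 := fun h B hB => by
      obtain ⟨i, h1, h2⟩ := exists_om hA B ⊥
      have := om_chain iB (fun D hD _ l => (h D hD fun b hb => l hb).imp_right fun e => Subgroup.ext e) i B hB bot_le h1 h2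
      exact ⟨i, fun a => by rw [this]; rfl⟩
    have om : ∀ B : Subgroup A, B ≠ ⊥ → ∀ i, (∀ a : A, a ∈ B ↔ a ^ p ^ i = 1) → ∀ a, a ^ p = 1 → a ∈ B := fun B ne i h a ha => by
      rcases i with _ | i
      · exact absurd (eq_bot_iff.2 fun b hb => by simpa using (h b).1 hb) ne
      · rw [h, pow_succ', pow_mul, ha, one_pow]
    refine ⟨⟨fun h => h32 fun B hB l => (irr_of_indec hA hX (fun B C h1 h2 h3 h4 => by_contra fun c => h ⟨B, C, (not_or.1 c).1, (not_or.1 c).2,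
      h1, h2, h3, h4⟩) B hB l).imp_right fun e a => by rw [e]; rfl, ?_⟩, fun h B hB l => or_iff_not_imp_left.2 fun ne a => ⟨l a, ?_⟩, h32⟩
    · rintro h ⟨B, C, b0, c0, hB, hC, e, -⟩
      obtain ⟨i, hi⟩ := h B hB
      obtain ⟨j, hj⟩ := h C hC
      obtain ⟨x, hx, ox⟩ := CfsgH2.exists_orderOf_p (hA.to_subgroup B) b0
      have := e.le ⟨hx, om C c0 j hj x (ox ▸ pow_orderOf_eq_one x)⟩
      rw [mem_bot.1 this, orderOf_one] at ox
      exact (Fact.out : p.Prime).one_lt.ne ox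
    · obtain ⟨i, hi⟩ := h B hB
      exact om B ne i hi a

end Cfsg.Agent.S3775
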