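import Cfsg.Statements.S3778
import Cfsg.Agent.H2.MaxClass
import Cfsg.Agent.H2.BG5
import Cfsg.Agent.H1.Cores

set_option autoImplicit false
open Cfsg

namespace Cfsg.Agent.S3778

open scoped commutatorElement in
open Subgroup in
def DD {G : Type*} [Group G] (i : ℕ) : Subgroup G where
  carrier := {x | ∀ g ∈ (⊤ : Subgroup G).lowerCentralSeries i, ⁅g, x⁆ ∈ (⊤ : Subgroup G).lowerCentralSeries (i + 2)}
  one_mem' := by intro g _; simp
  mul_mem' := by
    intro x y hx hy g hg
    have e : ⁅g, x * y⁆ = ⁅g, x⁆ * (x * ⁅g, y⁆ * x⁻¹) := by simp only [commutatorElement_def]; group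
    rw [e]
    exact mul_mem (hx g hg) ((normal_of_characteristic _).conj_mem _ (hy g hg) x)
  inv_mem' := by
    intro x hx g hg
    have e : ⁅g, x⁻¹⁆ = x⁻¹ * ⁅g, x⁆⁻¹ * x⁻¹⁻¹ := by simp only [commutatorElement_def]; group
    rw [e]
    exact (normal_of_characteristic _).conj_mem _ (inv_mem (hx g hg)) _

open Subgroup in
theorem card_inf_relIndex {G : Type*} [Group G] (A B : Subgroup G) :
    Nat.card (A ⊓ B : Subgroup G) * A.relIndex B = Nat.card B := by
  rw [← inf_relIndex_right, relIndex, ← Nat.card_congr (subgroupOfEquivOfLe inf_le_right).toEquiv,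
    card_mul_index]

open scoped commutatorElement in
open Subgroup CfsgH2 Classical in
theorem step {G : Type*} [Group G] [Finite G] {p : ℕ} [Fact p.Prime] (hG : IsPGroup p G) (x : G) (k : ℕ) :
    (if x ∉ DD k then p else 1) * (centralizer ({x} : Set G)).relIndex ((⊤ : Subgroup G).lowerCentralSeries (k + 1)) ≤
      (centralizer ({x} : Set G)).relIndex ((⊤ : Subgroup G).lowerCentralSeries k) := by
  set C := centralizer ({x} : Set G) with hC
  set L := (⊤ : Subgroup G).lowerCentralSeries k with hL
  set L' := (⊤ : Subgroup G).lowerCentralSeries (k + 1) with hL'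
  have hle : L' ≤ L := (⊤ : Subgroup G).lowerCentralSeries_antitone (by omega)
  haveI : L'.Normal := normal_of_characteristic _
  have h1 := CfsgH1.card_sup_mul_card_inf (C ⊓ L) L'
  rw [inf_assoc, inf_eq_right.2 hle] at h1
  have h2 := card_inf_relIndex C L
  have h3 := card_inf_relIndex C L'
  have hH : C ⊓ L ⊔ L' ≤ L := sup_le inf_le_right hle
  have h4 : Nat.card (C ⊓ L ⊔ L' : Subgroup G) * (if x ∉ DD k then p else 1) ≤ Nat.card L := by
    split_ifs with hx
    · rw [mul_one]; exact card_le_of_le hH
    · refine CfsgH2.mul_card_le_of_lt (hG.to_subgroup _) (lt_of_le_of_ne hH fun e => hx ?_)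
      intro g hg
      rw [← hL, ← e, ← SetLike.mem_coe, mul_normal] at hg
      obtain ⟨c, hc, l, hl, rfl⟩ := hg
      have hc' : c * x = x * c := mem_centralizer_singleton_iff.1 hc.1
      have e1 : ⁅c * l, x⁆ = c * ⁅l, x⁆ * c⁻¹ := by
        simp only [commutatorElement_def]
        calc c * l * x * (c * l)⁻¹ * x⁻¹ = c * (l * x * l⁻¹) * (x * c)⁻¹ := by group
          _ = _ := by rw [← hc']; group
      show ⁅c * l, x⁆ ∈ _
      rw [e1]
      exact (normal_of_characteristic _).conj_mem _ (commutator_mem_commutator hl (mem_top x)) c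
  have p1 : 0 < Nat.card (C ⊓ L : Subgroup G) := Nat.card_pos
  have p2 : 0 < Nat.card (C ⊓ L' : Subgroup G) := Nat.card_pos
  have h5 : Nat.card (C ⊓ L ⊔ L' : Subgroup G) = Nat.card (C ⊓ L : Subgroup G) * C.relIndex L' := by
    apply Nat.eq_of_mul_eq_mul_right p2
    rw [h1, ← h3]; ring
  apply Nat.le_of_mul_le_mul_left _ p1
  rw [h2]
  refine le_trans (le_of_eq ?_) h4
  rw [h5]; ring

open Subgroup Classical in
theorem steps {G : Type*} [Group G] [Finite G] {p : ℕ} [Fact p.Prime] (hG : IsPGroup p G) (x : G) (k : ℕ) :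
    p ^ ((Finset.range k).filter fun i => x ∉ DD i).card *
      (centralizer ({x} : Set G)).relIndex ((⊤ : Subgroup G).lowerCentralSeries k) ≤
      (centralizer ({x} : Set G)).index := by
  induction k with
  | zero => simp
  | succ k ih =>
    refine le_trans ?_ ih
    refine le_trans (le_of_eq ?_) (Nat.mul_le_mul_left _ (step hG x k))
    rw [Finset.range_add_one, Finset.filter_insert]
    split_ifs with hx
    · simp
    · rw [Finset.card_insert_of_notMem (by simp)]; ring

/-- If G is a finite p-group in which every conjugacy class has at most p^b elements (every element has centralizer of index at most p^b), then G is abelian when b = 0, and when b ≥ 1 its nilpotency class c satisfies (c − 1)(p − 1) < bp, that is c < bp/(p − 1) + 1, and hence c ≤ 2b. -/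
theorem result {G : Type*} [Group G] [Finite G] {p : ℕ} [Fact p.Prime] (hG : IsPGroup p G) (b : ℕ) (hb : ∀ x : G, (Subgroup.centralizer ({x} : Set G)).index ≤ p ^ b) : ∃ c : ℕ, (⊤ : Subgroup G).lowerCentralSeries c = ⊥ ∧ (b ≠ 0 → (c - 1) * (p - 1) < b * p ∧ c ≤ 2 * b) ∧ (b = 0 → c ≤ 1) := by
  open Subgroup CfsgH2 Classical in
  have hp : p.Prime := Fact.out
  haveI := hG.isNilpotent
  refine ⟨Group.nilpotencyClass G, Subgroup.lowerCentralSeries_nilpotencyClass, ?_, ?_⟩
  · intro hb0
    set c := Group.nilpotencyClass G with hc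
    letI := Fintype.ofFinite G
    have k1 : ∀ x : G, ((Finset.range (c - 1)).filter fun i => x ∉ DD i).card ≤ b := by
      intro x
      have h1 := steps hG x (c - 1)
      have h2 : 0 < (centralizer ({x} : Set G)).relIndex ((⊤ : Subgroup G).lowerCentralSeries (c - 1)) :=
        Nat.pos_of_ne_zero index_ne_zero_of_finite
      rw [← Nat.pow_le_pow_iff_right hp.one_lt]
      exact ((Nat.le_mul_of_pos_right _ h2).trans h1).trans (hb x)
    have k2 : ∀ i ∈ Finset.range (c - 1), Fintype.card G * (p - 1) ≤
        (Finset.univ.filter fun x : G => x ∉ DD i).card * p := by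
      intro i hi
      have hne : (⊤ : Subgroup G).lowerCentralSeries (i + 1) ≠ ⊥ := by
        rw [Ne, Subgroup.lowerCentralSeries_eq_bot_iff_nilpotencyClass_le]
        have := Finset.mem_range.1 hi
        omega
      have hD : (DD i : Subgroup G) < ⊤ := by
        rw [lt_top_iff_ne_top]
        intro e
        have h1 := commutator_lt_of_ne_bot (hG.to_subgroup ⊤) le_top (normalizer_eq_top _).ge hne
        refine h1.not_ge ?_
        rw [Subgroup.lowerCentralSeries_succ _ i, commutator_le]
        intro g hg x _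
        have : x ∈ (DD i : Subgroup G) := e ▸ mem_top x
        exact this g hg
      have h2 := CfsgH2.mul_card_le_of_lt (hG.to_subgroup ⊤) hD
      rw [card_top, Nat.card_eq_fintype_card (α := G)] at h2
      have h3 := Finset.card_filter_add_card_filter_not (s := (Finset.univ : Finset G)) (fun x => x ∈ DD i)
      have h4 : (Finset.univ.filter fun x : G => x ∈ DD i).card = Nat.card (DD i : Subgroup G) := by
        rw [Nat.card_eq_fintype_card, Fintype.card_subtype]
      rw [h4, Finset.card_univ] at h3
      obtain ⟨q, rfl⟩ : ∃ q, p = q + 1 := ⟨p - 1, by have := hp.pos; omega⟩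
      rw [Nat.add_sub_cancel]
      nlinarith
    have k3 : ∑ x : G, ((Finset.range (c - 1)).filter fun i => x ∉ DD i).card =
        ∑ i ∈ Finset.range (c - 1), (Finset.univ.filter fun x : G => x ∉ DD i).card := by
      simp only [Finset.card_filter]
      exact Finset.sum_comm
    have k4 : ∑ x : G, ((Finset.range (c - 1)).filter fun i => x ∉ DD i).card < Fintype.card G * b := by
      rw [← Finset.card_univ, ← smul_eq_mul, ← Finset.sum_const]
      refine Finset.sum_lt_sum (fun x _ => k1 x) ⟨1, Finset.mem_univ _, ?_⟩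
      simp [one_mem]; omega
    have k5 := Finset.sum_le_sum k2
    rw [Finset.sum_const, ← Finset.sum_mul, ← k3, Finset.card_range, smul_eq_mul] at k5
    have k6 : (c - 1) * (p - 1) < b * p := by
      have : Fintype.card G * ((c - 1) * (p - 1)) < Fintype.card G * (b * p) := by
        have := hp.pos
        nlinarith
      exact Nat.lt_of_mul_lt_mul_left this
    refine ⟨k6, ?_⟩
    obtain ⟨q, rfl⟩ : ∃ q, p = q + 2 := ⟨p - 2, by have := hp.two_le; omega⟩
    by_contra hcon
    have : 2 * b ≤ c - 1 := by omega
    have : (q + 2 - 1) = q + 1 := rfl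
    rw [this] at k6
    nlinarith
  · rintro rfl
    rw [← Subgroup.lowerCentralSeries_eq_bot_iff_nilpotencyClass_le, Subgroup.lowerCentralSeries_succ,
      Subgroup.lowerCentralSeries_zero, eq_bot_iff, commutator_le]
    intro g _ x _
    have h1 := hb x
    have h2 : 0 < (centralizer ({x} : Set G)).index := Nat.pos_of_ne_zero index_ne_zero_of_finite
    have h3 : centralizer ({x} : Set G) = ⊤ := index_eq_one.1 (by simp at h1; omega)
    have : g ∈ centralizer ({x} : Set G) := h3 ▸ mem_top g
    rw [mem_bot, commutatorElement_eq_one_iff_mul_comm]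
    exact mem_centralizer_singleton_iff.1 this

end Cfsg.Agent.S3778
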