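import Cfsg.Statements.S3780
import Cfsg.Agent.S0014
import Cfsg.Agent.H2.PGroup

set_option autoImplicit false
open Cfsg

namespace Cfsg.Agent.S3780

open Subgroup
theorem card_ker_pow {A : Type*} [AddCommGroup A] [Finite A] (d : AddMonoid.End A) (k : ℕ) :
    Nat.card (AddMonoidHom.ker (d ^ k : AddMonoid.End A)) ≤ Nat.card (AddMonoidHom.ker d) ^ k := by
  induction k with
  | zero => exact (AddSubgroup.card_eq_one.2 (eq_bot_iff.2 fun _ h => h)).le
  | succ k ih =>
    let f := (d : A →+ A).addSubgroupComap (AddMonoidHom.ker (d ^ k : AddMonoid.End A))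
    rw [pow_succ, pow_succ', show AddMonoidHom.ker (d ^ k * d : AddMonoid.End A) = (AddMonoidHom.ker (d ^ k : AddMonoid.End A)).comap d from rfl,
      ← f.ker.card_mul_index, AddSubgroup.index_ker]
    exact Nat.mul_le_mul (Nat.card_le_card_of_injective (fun x => ⟨x.1.1, congrArg Subtype.val x.2⟩) fun x y e =>
      Subtype.ext (Subtype.ext (congrArg Subtype.val e :))) ((AddSubgroup.card_le_card_addGroup _).trans ih)

/-- Let V be a finite abelian p-group and α an automorphism of V of order p whose fixed-point subgroup has order p^n. Then V can be generated by pn elements: some subset of V with at most pn elements generates V. -/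
theorem result {V : Type*} [CommGroup V] [Finite V] {p : ℕ} [Fact p.Prime] (hV : IsPGroup p V) (α : MulAut V) (hα : orderOf α = p) (n : ℕ) (hfix : Nat.card {v : V // α v = v} = p ^ n) : ∃ S : Finset V, S.card ≤ p * n ∧ Subgroup.closure (S : Set V) = ⊤ := by
  classical
  have hp : p.Prime := Fact.out
  obtain ⟨m, hm⟩ := hV.index (frattini V)
  have := Fintype.ofFinite V
  obtain ⟨T, -, h1, h2⟩ := (S0014.result p m hV hm).1 Finset.univ (by simp)
  refine ⟨T, h1 ▸ (pow_le_pow_iff_right₀ hp.one_lt).1 ?_, h2⟩
  let a : MulAut V →* AddMonoid.End (Additive V) := ⟨⟨fun β => MonoidHom.toAdditive β.toMonoidHom, rfl⟩, fun _ _ => rfl⟩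
  have h3 := card_ker_pow (a α + -1) p
  replace h3 := h3.trans_eq (congrArg (· ^ p) ((Nat.card_congr (Equiv.subtypeEquiv Additive.toMul fun v =>
    add_neg_eq_zero)).trans hfix))
  rw [← pow_mul, mul_comm] at h3
  refine le_trans ?_ h3
  rw [← hm]
  refine (index_antitone (H := (powMonoidHom p).range) (by rintro _ ⟨x, rfl⟩; exact CfsgH2.pow_mem_frattini hV x)).trans ?_
  rw [index_range]
  refine Nat.card_le_card_of_injective (fun x => ⟨.ofMul x.1, ?_⟩) fun x y e => Subtype.ext (congrArg Subtype.val e :)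
  obtain ⟨r, hr⟩ := (Commute.neg_one_right (a α)).exists_add_pow_prime_eq hp
  have k : ∀ s : AddMonoid.End (Additive V), (p * s) (.ofMul x.1) = 0 := fun s => by
    rw [(Nat.cast_commute p s).eq]
    exact (congrArg s (show p • Additive.ofMul x.1 = 0 from x.2)).trans (map_zero s)
  show ((a α + -1) ^ p) _ = 0
  rw [hr, ← map_pow, show α ^ p = 1 from hα ▸ pow_orderOf_eq_one α, map_one, mul_assoc, mul_assoc]
  rcases hp.eq_two_or_odd' with rfl | h
  · rw [neg_one_sq, one_add_one_eq_two, ← Nat.cast_two, ← mul_one_add, k]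
  · rw [h.neg_one_pow, add_neg_cancel, zero_add, k]

end Cfsg.Agent.S3780
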