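import Cfsg.Statements.S3781
import Cfsg.Agent.H2.MaxClass
import Cfsg.Agent.H9.KInf
import Cfsg.Agent.H2.BG5

set_option autoImplicit false
open Cfsg

namespace Cfsg.Agent.S3781

open Subgroup in
theorem iter_normal {G : Type*} [Group G] (j : ℕ) : ∀ (K : Subgroup G), K.Normal →
    ((fun X : Subgroup G => ⁅X, (⊤ : Subgroup G)⁆)^[j] K).Normal := by
  induction j with
  | zero => exact fun K h => h
  | succ j ih => intro K h; rw [Function.iterate_succ_apply]; exact ih _ inferInstance

open Subgroup CfsgH9 in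
theorem comm_lcs_le {G : Type*} [Group G] (j : ℕ) : ∀ (K : Subgroup G), K.Normal →
    ⁅K, (⊤ : Subgroup G).lowerCentralSeries j⁆ ≤
      (fun X : Subgroup G => ⁅X, (⊤ : Subgroup G)⁆)^[j + 1] K := by
  induction j with
  | zero => exact fun K h => le_rfl
  | succ j ih =>
    intro K h
    haveI := iter_normal (j + 1 + 1) K h
    rw [Subgroup.commutator_comm, Subgroup.lowerCentralSeries_succ]
    apply three_subgroups_normal
    · rw [Subgroup.commutator_comm ⊤ K, Function.iterate_succ_apply]
      exact ih _ inferInstance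
    · rw [Function.iterate_succ_apply']
      exact commutator_mono (ih K h) le_rfl

open Subgroup CfsgH2 in
theorem iter_card {G : Type*} [Group G] [Finite G] {p : ℕ} [Fact p.Prime] (hG : IsPGroup p G) (j : ℕ) :
    ∀ (K : Subgroup G), K.Normal → (fun X : Subgroup G => ⁅X, (⊤ : Subgroup G)⁆)^[j] K ≠ ⊥ →
    Nat.card ((fun X : Subgroup G => ⁅X, (⊤ : Subgroup G)⁆)^[j] K : Subgroup G) * p ^ j ≤ Nat.card K := by
  induction j with
  | zero => intro K _ _; simp
  | succ j ih =>
    intro K h hne
    rw [Function.iterate_succ_apply] at hne ⊢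
    have h1 := ih _ inferInstance hne
    have h0 : K ≠ ⊥ := by
      rintro rfl
      apply hne
      rw [commutator_bot_left]
      exact Function.iterate_fixed (f := fun X : Subgroup G => ⁅X, (⊤ : Subgroup G)⁆) (commutator_bot_left _) j
    have h2 := CfsgH2.mul_card_le_of_lt (hG.to_subgroup K)
      (commutator_lt_of_ne_bot (hG.to_subgroup ⊤) le_top (normalizer_eq_top K).ge h0)
    rw [pow_succ, ← mul_assoc]
    exact (Nat.mul_le_mul_right _ h1).trans h2

/-- Let G be a finite p-group and n ≥ 1, and write γ_1(G) = G, γ_{k+1}(G) = [γ_k(G), G], and likewise γ_k(N) for a subgroup N. Let N be a normal subgroup of G contained in γ_n(G). If i > 1 and γ_{i+1}(N) ≠ 1, then |γ_i(N) : γ_{i+1}(N)| ≥ p^n. -/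
theorem result {G : Type*} [Group G] [Finite G] {p : ℕ} [Fact p.Prime] (hG : IsPGroup p G) (n : ℕ) (hn : 1 ≤ n) (N : Subgroup G) [N.Normal] (hN : N ≤ (⊤ : Subgroup G).lowerCentralSeries (n - 1)) (i : ℕ) (hi : 1 < i) (hne : N.lowerCentralSeries i ≠ ⊥) : p ^ n ≤ (N.lowerCentralSeries i).relIndex (N.lowerCentralSeries (i - 1)) := by
  open Subgroup CfsgH2 in
  obtain ⟨i, rfl⟩ : ∃ j, i = j + 1 := ⟨i - 1, by omega⟩
  obtain ⟨n, rfl⟩ : ∃ j, n = j + 1 := ⟨n - 1, by omega⟩
  simp only [Nat.add_sub_cancel] at hN ⊢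
  have hn : ∀ j, (N.lowerCentralSeries j).Normal := by
    intro j
    induction j with
    | zero => exact ‹N.Normal›
    | succ j ih => rw [Subgroup.lowerCentralSeries_succ]; infer_instance
  have h1 : N.lowerCentralSeries (i + 1) ≤ _ :=
    (commutator_mono le_rfl hN).trans (comm_lcs_le n _ (hn i))
  have h2 := iter_card hG (n + 1) _ (hn i) (fun e => hne (le_bot_iff.1 (e ▸ h1)))
  have h3 := card_le_of_le h1
  have h4 : N.lowerCentralSeries (i + 1) ≤ N.lowerCentralSeries i := N.lowerCentralSeries_antitone (by omega)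
  have h5 : Nat.card (N.lowerCentralSeries (i + 1)) *
      (N.lowerCentralSeries (i + 1)).relIndex (N.lowerCentralSeries i) = Nat.card (N.lowerCentralSeries i) := by
    rw [relIndex, ← Nat.card_congr (subgroupOfEquivOfLe h4).toEquiv, card_mul_index]
  have h6 : 0 < Nat.card (N.lowerCentralSeries (i + 1)) := Nat.card_pos
  apply Nat.le_of_mul_le_mul_left _ h6
  rw [h5]
  exact (Nat.mul_le_mul_right _ h3).trans h2

end Cfsg.Agent.S3781
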