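import Cfsg.Statements.S3784
import Cfsg.Agent.H1.Basic

set_option autoImplicit false
open Cfsg

namespace Cfsg.Agent.S3784

theorem aux (x : ℤ) (n a : ℕ) (hx : Odd x) (hn : Odd n) (h : x ^ n - 1 ∣ 2 ^ a) : x ^ n - 1 ∣ x - 1 := by
  have h1 := geom_sum_mul x n
  have h2 : Odd (∑ i ∈ Finset.range n, x ^ i) := by
    obtain ⟨k, rfl⟩ := hn
    clear h h1
    induction k with
    | zero => simp
    | succ k ih =>
      rw [show 2 * (k + 1) + 1 = 2 * k + 1 + 1 + 1 by ring, Finset.sum_range_succ, Finset.sum_range_succ, add_assoc]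
      exact ih.add_even (hx.pow.add_odd hx.pow)
  have h3 : IsUnit (∑ i ∈ Finset.range n, x ^ i) :=
    (Int.isCoprime_two_right.2 h2).pow_right.isUnit_of_dvd ((Dvd.intro _ h1).trans h)
  rw [← h1]
  exact (IsUnit.mul_left_dvd h3).2 dvd_rfl

/-- Let p, q be primes and a, b positive integers with p^a = q^b + 1. Then either p = 2, b = 1, a is prime and q = 2^a − 1; or q = 2, a = 1, b is a power of 2 and p = 2^b + 1; or p^a = 9 and q^b = 8. -/
theorem result (p q a b : ℕ) (hp : p.Prime) (hq : q.Prime) (ha : 1 ≤ a) (hb : 1 ≤ b) (h : p ^ a = q ^ b + 1) : (p = 2 ∧ b = 1 ∧ a.Prime ∧ q + 1 = 2 ^ a) ∨ (q = 2 ∧ a = 1 ∧ (∃ m : ℕ, b = 2 ^ m) ∧ p = 2 ^ b + 1) ∨ (p ^ a = 9 ∧ q ^ b = 8) := by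
  rcases hp.eq_two_or_odd' with rfl | hp2
  · left
    have hq2 : Odd q := hq.odd_of_ne_two (by
      rintro rfl
      have : 2 ∣ 2 ^ b + 1 := h ▸ dvd_pow_self 2 (by omega)
      have := (Nat.dvd_add_right (dvd_pow_self 2 (by omega))).1 this
      omega)
    have hb2 : Odd b := by
      by_contra hb2
      obtain ⟨c, rfl⟩ := Nat.not_odd_iff_even.1 hb2
      obtain ⟨d, hd⟩ := (hq2.pow (n := c))
      rw [pow_add, hd] at h
      rcases a with _ | _ | a
      · omega
      · have : 1 < q ^ c := Nat.one_lt_pow (by omega) hq.one_lt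
        rw [hd] at this; norm_num at h; nlinarith
      · have : 4 * 2 ^ a = 4 * (d * d + d) + 2 := by rw [pow_add, pow_add] at h; nlinarith
        omega
    have h1 := aux (-q) b a (by exact_mod_cast (Odd.neg (by exact_mod_cast hq2))) hb2 (by
      rw [hb2.neg_pow, ← neg_add', neg_dvd]; exact_mod_cast h.symm.dvd)
    rw [hb2.neg_pow, ← neg_add', ← neg_add', neg_dvd, dvd_neg] at h1
    have h2 : q ^ b + 1 ≤ q ^ 1 + 1 := Nat.le_of_dvd (by omega) (by rw [pow_one]; exact_mod_cast h1)
    obtain rfl : b = 1 := le_antisymm ((Nat.pow_le_pow_iff_right hq.one_lt).1 (by omega)) hb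
    rw [pow_one] at h
    refine ⟨rfl, rfl, (Nat.prime_of_pow_sub_one_prime (a := 2) (n := a) ?_ ?_).2, h.symm⟩
    · rintro rfl; have := hq.two_le; omega
    · rwa [h]
  · obtain rfl : q = 2 := by
      by_contra h2
      have := (hq.odd_of_ne_two h2).pow (n := b)
      have := hp2.pow (n := a)
      grind
    right
    rcases Nat.even_or_odd a with ⟨c, rfl⟩ | ha2
    · right
      obtain ⟨d, hd⟩ := hp2.pow (n := c)
      rw [pow_add, hd] at h
      have h1 : 2 ^ b = 2 * d * (2 * d + 2) := by nlinarith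
      obtain ⟨i, -, hi⟩ := (Nat.dvd_prime_pow Nat.prime_two).1 (Dvd.intro _ h1.symm)
      obtain ⟨j, -, hj⟩ := (Nat.dvd_prime_pow Nat.prime_two).1 (Dvd.intro_left _ h1.symm)
      obtain rfl : d = 1 := by
        have h0 : d ≠ 0 := by rintro rfl; simp at h1
        rcases i with _ | _ | i
        · omega
        · omega
        · rcases j with _ | _ | j
          · omega
          · omega
          · rw [pow_add, pow_add] at hi hj; omega
      rw [pow_add, hd, h1]; simp
    · left
      have h1 := aux p a b (by exact_mod_cast hp2) ha2 (by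
        rw [show (p : ℤ) ^ a - 1 = 2 ^ b by rw [sub_eq_iff_eq_add]; exact_mod_cast h])
      have h2 := Int.le_of_dvd (by have := hp.one_lt; omega) h1
      have h3 : p ^ a ≤ p ^ 1 := by rw [pow_one]; exact_mod_cast (sub_le_sub_iff_right _).1 h2
      obtain rfl : a = 1 := le_antisymm ((Nat.pow_le_pow_iff_right hp.one_lt).1 h3) ha
      rw [pow_one] at h
      exact ⟨rfl, rfl, Nat.pow_of_pow_add_prime one_lt_two (by omega) (h ▸ hp), h⟩

end Cfsg.Agent.S3784
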