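import Cfsg.Statements.S3785
import Cfsg.Agent.H1.PLay
import Cfsg.Agent.H2.Critical
import Cfsg.Agent.H1.Solv

set_option autoImplicit false
open Cfsg

namespace Cfsg.Agent.S3785

/-- Let G be a finite solvable group whose Fitting subgroup F(G) has odd order. If an element g of G commutes with every element of prime order of F(G), then g ∈ F(G). -/
theorem result {G : Type*} [Group G] [Finite G] (hG : Group.IsSolvable G) (hodd : Odd (Nat.card (Cfsg.fittingSubgroup G))) (g : G) (hg : ∀ x ∈ Cfsg.fittingSubgroup G, (orderOf x).Prime → g * x = x * g) : g ∈ Cfsg.fittingSubgroup G := by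
  open Subgroup CfsgH1 CfsgH2 CfsgFT in
    let K := centralizer {x | x ∈ fittingSubgroup G ∧ (orderOf x).Prime}
    haveI nK : K.Normal := ⟨fun n hn h x hx => by
      have := hn (h⁻¹ * x * h) ⟨(inferInstance : (fittingSubgroup G).Normal).conj_mem' x hx.1 h, by
        have := orderOf_conj' h⁻¹ x; rw [inv_inv] at this; rw [this]; exact hx.2⟩
      calc x * (h * n * h⁻¹) = h * (h⁻¹ * x * h * n) * h⁻¹ := by group
        _ = _ := by rw [this]; group⟩
    have key : ∀ (q : ℕ) [Fact q.Prime], ∀ A ≤ K, (Nat.card A).Coprime q → ∀ R ≤ fittingSubgroup G, IsPGroup q R → R ≤ C(A) :=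
      fun q hq A hA c R l hR => by
        by_cases q2 : q = 2
        · subst q2
          rw [(isPi_singleton_iff.2 hR).eq_bot (isPi_compl_singleton_iff.2 fun d => Nat.not_even_iff_odd.2 hodd
            (even_iff_two_dvd.2 (d.trans (card_dvd_of_le l))))]
          exact bot_le
        refine (le_pCore_of_le_fitting hR l).trans (cent_symm (le_centralizer_of_omegaOne q2 c _ (CfsgH1.isPGroup_pCore q G)
          le_normalizer_of_normal fun x hx xp a ha => ?_))
        by_cases x1 : x = 1
        · simp [x1]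
        exact (hA ha x ⟨CfsgH1.pCore_le_fitting q hx, by rw [orderOf_eq_prime xp x1]; exact hq.out⟩).symm
    refine le_of_forall_sylowIn_le (K := K) (fun p hp _ => ?_) fun x hx => (hg x hx.1 hx.2).symm
    have cp : ∀ {q : ℕ} [Fact q.Prime], q ≠ p → ∀ {Q : Subgroup G}, IsPGroup p Q → (Nat.card Q).Coprime q := fun {q} hq ne {Q} hQ => by
      obtain ⟨k, hk⟩ := hQ.exists_card_eq
      exact hk ▸ Nat.Coprime.pow_left _ ((Nat.coprime_primes hp.out hq.out).2 ne.symm)
    have k2 : ∀ (q : ℕ) [Fact q.Prime], q ≠ p → ∀ R ≤ fittingSubgroup G, IsPGroup q R → R ≤ C(opr p K) := fun q _ ne R l hR =>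
      cent_symm (opr_le_iff.2 fun Q lQ hQ => cent_symm (key q Q lQ (cp ne hQ) R l hR))
    have k3 : resIn p (opr p K) ≤ C(opr p K) := resIn_le_iff.2 fun y hy c => by
      have m : zpowers y ≤ fittingSubgroup G := le_trans (cent_symm (le_of_forall_sylowIn_le fun q _ _ => by
        obtain ⟨R, hR⟩ := IsSylowIn.exists_sylowIn q (fittingSubgroup G)
        refine ⟨R, hR, ?_⟩
        by_cases ne : q = p
        · subst ne
          exact key q _ (zpowers_le.2 (opr_le _ _ hy)) (by rwa [Nat.card_zpowers]) R hR.le hR.pgroup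
        · exact (k2 q ne R hR.le hR.pgroup).trans (cent_anti (zpowers_le.2 hy)))) centralizer_fitting_le
      refine le_of_forall_sylowIn_le (K := zpowers y) (fun q hq d => ?_) (mem_zpowers y)
      obtain ⟨R, hR⟩ := IsSylowIn.exists_sylowIn q (zpowers y)
      refine ⟨R, hR, k2 q (fun e => ?_) R (hR.le.trans m) hR.pgroup⟩
      rw [Nat.card_zpowers, e] at d
      exact hp.out.one_lt.ne' (Nat.eq_one_of_dvd_coprimes c d dvd_rfl)
    obtain ⟨S, hS⟩ := IsSylowIn.exists_sylowIn p K
    have s2 := hS.mono (le_opr hS.le hS.pgroup) (opr_le _ _)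
    have n : opr p K ≤ N(S) := s2.sup_resIn.ge.trans (sup_le le_normalizer ((k3.trans (cent_anti s2.le)).trans (Subgroup.centralizer_le_normalizer _)))
    haveI : S.Normal := normalizer_eq_top_iff.1 (eq_top_iff.2 fun x _ => by
      obtain ⟨m, hm, h⟩ := s2.frattini (le_norm_opr (A := ⊤) le_normalizer_of_normal (mem_top x))
      simpa using mul_mem (inv_mem (n hm)) h)
    exact ⟨S, hS, (CfsgH1.le_pCore hS.pgroup).trans (CfsgH1.pCore_le_fitting p)⟩

end Cfsg.Agent.S3785
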