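import Cfsg.Statements.S3786
import Cfsg.Agent.H9.HH4

set_option autoImplicit false
open Cfsg

namespace Cfsg.Agent.S3786

/-- The Hall–Higman bound on p-length. Let p be an odd prime and G a finite p-soluble group whose Sylow p-subgroups have exponent dividing p^e. (a) If p is not of the form 2^k + 1, or if the Sylow 2-subgroups of G are abelian, then G has p-length at most e. (b) In every case G has p-length at most 2e. -/
theorem result {G : Type*} [Group G] [Finite G] {p : ℕ} [Fact p.Prime] (hp : p ≠ 2) (hG : Cfsg.IsPSolvable p G) (e : ℕ) (hexp : ∀ (P : Sylow p G), ∀ x ∈ (P : Subgroup G), x ^ p ^ e = 1) : (((¬ ∃ k : ℕ, p = 2 ^ k + 1) ∨ ∀ S : Sylow 2 G, IsMulCommutative (S : Subgroup G)) → Cfsg.PLengthLE p e G) ∧ Cfsg.PLengthLE p (2 * e) G := by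
  open Subgroup CfsgH2 CfsgH9 in
  obtain ⟨P⟩ : Nonempty (Sylow p G) := inferInstance
  refine ⟨fun h => pl_of_exp e G P hG (fun q n m a b c d e => ?_) (IsSylowIn.of_sylow_top P) (hexp P),
    pl_of_exp2 hp e G P hG (IsSylowIn.of_sylow_top P) (hexp P)⟩
  have pr : p.Prime := Fact.out
  have d1 : p - 1 ∣ q ^ m := e ▸ Nat.sub_one_dvd_pow_sub_one p n
  obtain rfl : q = 2 := ((Nat.prime_dvd_prime_iff_eq Nat.prime_two a).1 (Nat.prime_two.dvd_of_dvd_pow
    ((pr.even_sub_one hp).two_dvd.trans d1))).symm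
  obtain ⟨Q⟩ : Nonempty (Sylow 2 G) := inferInstance
  obtain ⟨k, -, hk⟩ := (Nat.dvd_prime_pow a).1 d1
  exact ⟨Q, IsSylowIn.of_sylow_top Q, isMulCommutative_iff_le_centralizer.1
    (h.resolve_left (fun n => n ⟨k, by have := pr.pos; omega⟩) Q)⟩

end Cfsg.Agent.S3786
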