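import Cfsg.Statements.S3791
import Cfsg.Agent.H1.PLength
import Cfsg.Agent.H9.DLen2

set_option autoImplicit false
open Cfsg

namespace Cfsg.Agent.S3791

open Subgroup CfsgH1 in
theorem plen_quot {G : Type*} [Group G] [Finite G] {p : ℕ} [Fact p.Prime] {k : ℕ} (h : PLengthLE p (k + 1) G)
    (N : Subgroup G) [N.Normal] (hN : pPrimePCore p G ≤ N) : PLengthLE p k (G ⧸ N) := by
  have := le_ups_of_series (p := p) (fun n => (upperPSeries p G (n + 2)).1.map (QuotientGroup.mk' N)) 0 (2 * k + 1)
    (by rw [ups_zero, zero_add, ups_two, le_bot_iff, Subgroup.map_eq_bot_iff, QuotientGroup.ker_mk']; exact hN)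
    (fun i => Normal.map inferInstance _ (QuotientGroup.mk'_surjective N)) fun i _ => by
      rw [zero_add, ← altSet_add_two]
      refine (isPiNum_relIndex_ups (p := p) (G := G) (i + 2)).of_dvd ?_
      rw [← relIndex_comap]
      exact relIndex_dvd_of_le_left _ (le_comap_map _ _)
  rw [zero_add, show 2 * k + 1 + 2 = 2 * (k + 1) + 1 by ring, h, map_top_of_surjective _ (QuotientGroup.mk'_surjective N)] at this
  exact top_le_iff.1 this

universe u in
open Subgroup CfsgH1 in
theorem main {r : ℕ} (q : Fin r → ℕ) [hq : ∀ i, Fact (q i).Prime] (d : Fin r → ℕ) (n : ℕ) :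
    ∀ (G : Type u) [Group G] [Finite G], Nat.card G = n → Group.IsSolvable G →
    (∀ s : ℕ, s.Prime → s ∣ Nat.card G → ∃ i, q i = s) → ∀ l : Fin r → ℕ,
    (∀ i (S : Sylow (q i) G), derivedSeries S (d i) = ⊥) → (∀ i, PLengthLE (q i) (l i) G) →
    derivedSeries G (∑ i, d i * l i) = ⊥ := by
  induction n using Nat.strong_induction_on with
  | _ n ih =>
  intro G _ _ hn hG hc l hd hl
  have key : ∀ (N : Subgroup G) [N.Normal], N ≠ ⊥ → ∀ l' : Fin r → ℕ, (∀ i, PLengthLE (q i) (l' i) (G ⧸ N)) →
      derivedSeries G (∑ i, d i * l' i) ≤ N := by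
    intro N _ h0 l' hl'
    have h1 := ih _ (hn ▸ card_quotient_lt h0) (G ⧸ N) rfl inferInstance
      (fun s hs h => hc s hs (h.trans (card_quotient_dvd_card N))) l' (fun i S => by
        obtain ⟨T, rfl⟩ := Sylow.mapSurjective_surjective (QuotientGroup.mk'_surjective N) (q i) S
        show derivedSeries ((T : Subgroup G).map (QuotientGroup.mk' N)) _ = ⊥
        rw [← map_derivedSeries_eq ((QuotientGroup.mk' N).subgroupMap_surjective T), hd, Subgroup.map_bot]) hl'
    rw [← map_derivedSeries_eq (QuotientGroup.mk'_surjective N), Subgroup.map_eq_bot_iff, QuotientGroup.ker_mk'] at h1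
    exact h1
  rcases subsingleton_or_nontrivial G with h | h
  · exact Subsingleton.elim _ _
  obtain ⟨M, p, hp, _, h0, -, -, hM, -⟩ := exists_minNormal_elementary (⊤ : Subgroup G) inferInstance top_ne_bot
  have hpG : p ∣ Nat.card G := by
    haveI := Fact.mk hp
    have : Nontrivial M := (nontrivial_iff_ne_bot M).2 h0
    obtain ⟨k, hk, e⟩ := hM.nontrivial_iff_card.1 this
    exact (dvd_pow_self p hk.ne').trans (e ▸ card_subgroup_dvd_card M)
  obtain ⟨i, rfl⟩ := hc p hp hpG
  have h1 : pCore (q i) G ≠ ⊥ := fun e => h0 (le_bot_iff.1 (e ▸ le_pCore hM))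
  by_cases h2 : pPrimeCore (q i) G = ⊥
  swap
  · exact le_bot_iff.1 ((le_inf (key _ h1 l fun j => CfsgH1.PLengthLE.quotient (hl j) _) (key _ h2 l fun j => CfsgH1.PLengthLE.quotient (hl j) _)).trans
      disjoint_pCore_pPrimeCore.le_bot)
  obtain ⟨k, hk⟩ : ∃ k, l i = k + 1 := Nat.exists_eq_succ_of_ne_zero fun e =>
    (Nat.Prime.coprime_iff_not_dvd hp).1 (pLengthLE_zero_iff.1 (e ▸ hl i)).symm hpG
  have h3 := key _ h1 (Function.update l i k) fun j => by
    by_cases hj : j = i
    · subst hj
      rw [Function.update_self]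
      exact plen_quot (hk ▸ hl j) _ (pPrimePCore_eq_pCore h2).le
    · rw [Function.update_of_ne hj]; exact CfsgH1.PLengthLE.quotient (hl j) _
  have h4 : ∑ j, d j * l j = ∑ j, d j * Function.update l i k j + d i := by
    rw [← Finset.add_sum_erase _ _ (Finset.mem_univ i), ← Finset.add_sum_erase _ _ (Finset.mem_univ i),
      Function.update_self, hk, Finset.sum_congr rfl fun j hj => by
        rw [← Function.update_of_ne (Finset.ne_of_mem_erase hj) k l]]
    ring
  obtain ⟨S⟩ := (Sylow.nonempty : Nonempty (Sylow (q i) G))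
  have h5 := CfsgH9.ds_add_le (h3.trans (pCore_le_sylow S)) (d i)
  rw [hd, Subgroup.map_bot] at h5
  exact le_bot_iff.1 (h4 ▸ h5)

/-- The Hall–Higman bound on derived length: let G be a finite solvable group, let p₁, …, p_r be distinct primes that include every prime dividing the order of G, and suppose that for each i the Sylow p_i-subgroups of G have derived length at most d_i and G has p_i-length at most l_i. Then G has derived length at most Σ d_i l_i. -/
theorem result {G : Type*} [Group G] [Finite G] (hG : Group.IsSolvable G) (r : ℕ) (q : Fin r → ℕ) (hq : ∀ i, (q i).Prime) (hinj : Function.Injective q) (hcover : ∀ s : ℕ, s.Prime → s ∣ Nat.card G → ∃ i, q i = s) (d l : Fin r → ℕ) (hd : ∀ i, ∀ P : Subgroup G, (haveI := Fact.mk (hq i); ∃ S : Sylow (q i) G, (S : Subgroup G) = P) → derivedSeries ↥P (d i) = ⊥) (hl : ∀ i, Cfsg.PLengthLE (q i) (l i) G) : derivedSeries G (Finset.univ.sum fun i => d i * l i) = ⊥ := by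
  haveI := fun i => Fact.mk (hq i)
  exact main q d _ G rfl hG hcover l (fun i S => hd i S ⟨S, rfl⟩) hl

end Cfsg.Agent.S3791
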