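import Cfsg.Statements.S3790
import Cfsg.Agent.S3791

set_option autoImplicit false
open Cfsg

namespace Cfsg.Agent.S3790

open Subgroup CfsgH1 in
theorem altSet_add_even (p a i : ℕ) : altSet p (2 * a + i) = altSet p i := by
  induction a with
  | zero => simp
  | succ a ih => rw [show 2 * (a + 1) + i = 2 * a + i + 2 by ring, altSet_add_two, ih]

open Subgroup CfsgH1 in
theorem sub_add {G : Type*} [Group G] [Finite G] {p : ℕ} [Fact p.Prime] {a b : ℕ}
    (N : Subgroup G) [N.Normal] (ha : PLengthLE p a N) (hb : PLengthLE p b (G ⧸ N)) :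
    PLengthLE p (a + b) G := by
  have hc : ∀ n, (upperPSeries p N n).1.Characteristic := fun n =>
    characteristic_iff_map_le.2 fun φ => map_ups_le _ φ.surjective n
  have h1 := le_ups_of_series (p := p) (fun n => (upperPSeries p N n).1.map N.subtype) 0 (2 * a)
    (by rw [ups_zero, ups_zero, Subgroup.map_bot]) (fun i => by haveI := hc i; infer_instance)
    fun i _ => by
      rw [zero_add, relIndex_map_map_of_injective _ _ N.subtype_injective]
      exact isPiNum_relIndex_ups i
  rw [zero_add] at h1
  have h2 : (upperPSeries p (G ⧸ N) 1).1.comap (QuotientGroup.mk' N) ≤ (upperPSeries p G (2 * a + 1)).1 := by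
    apply le_ups_succ
    refine IsPiNum.of_dvd ?_ (relIndex_dvd_of_le_left _ h1)
    have e1 : N ≤ (upperPSeries p (G ⧸ N) 1).1.comap (QuotientGroup.mk' N) := by
      intro x hx
      rw [mem_comap, QuotientGroup.mk'_apply, (QuotientGroup.eq_one_iff x).2 hx]
      exact one_mem _
    rw [← relIndex_mul_relIndex _ N _ (map_subtype_le _) e1]
    apply IsPiNum.mul
    · have := isPiNum_relIndex_ups (p := p) (G := N) (2 * a)
      rw [ha, ← relIndex_map_map_of_injective _ _ N.subtype_injective, ← MonoidHom.range_eq_map,
        subtype_range] at this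
      exact this
    · have := isPiNum_relIndex_comap (QuotientGroup.mk' N) (isPiNum_relIndex_ups (p := p) (G := G ⧸ N) 0)
      rw [ups_zero, MonoidHom.comap_bot, QuotientGroup.ker_mk'] at this
      rw [← add_zero (2 * a), altSet_add_even]
      exact this
  have h3 := le_ups_of_series (p := p)
    (fun n => (upperPSeries p (G ⧸ N) (n + 1)).1.comap (QuotientGroup.mk' N)) (2 * a + 1) (2 * b) h2
    (fun i => inferInstance) fun i _ => by
      rw [add_assoc, altSet_add_even, add_comm 1]
      exact isPiNum_relIndex_comap _ (isPiNum_relIndex_ups (i + 1))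
  rw [hb, comap_top, top_le_iff] at h3
  unfold PLengthLE
  rw [← h3]; congr 2; ring

universe u in
open Subgroup CfsgH1 in
theorem main {p : ℕ} [Fact p.Prime] {r : ℕ} (q : Fin r → ℕ) [hq : ∀ i, Fact (q i).Prime]
    (hqp : ∀ i, q i ≠ p) (l : Fin r → ℕ) (s : Finset (Fin r)) :
    ∀ (G : Type u) [Group G] [Finite G],
    (∀ t : ℕ, t.Prime → t ∣ Nat.card G → t ≠ p → ∃ i ∈ s, q i = t) →
    (∀ i ∈ s, PLengthLE (q i) (l i) G) → PLengthLE p (∏ i ∈ s, (1 + l i)) G := by
  induction s using Finset.induction_on with
  | empty =>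
    intro G _ _ h _
    rw [Finset.prod_empty]
    apply pLengthLE_one_of_isPGroup
    refine IsPGroup.of_card (n := (Nat.card G).primeFactorsList.length) ?_
    refine Nat.eq_prime_pow_of_unique_prime_dvd Nat.card_pos.ne' ?_
    intro d hd hdv
    by_contra e
    simpa using h d hd hdv e
  | insert j s hj ih =>
    have base : ∀ (G : Type u) [Group G] [Finite G], (Nat.card G).Coprime (q j) →
        (∀ t : ℕ, t.Prime → t ∣ Nat.card G → t ≠ p → ∃ i ∈ insert j s, q i = t) →
        (∀ i ∈ s, PLengthLE (q i) (l i) G) → PLengthLE p (∏ i ∈ s, (1 + l i)) G := by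
      intro G _ _ hc h hl
      refine ih G (fun t ht hd hne => ?_) hl
      obtain ⟨i, hi, rfl⟩ := h t ht hd hne
      rcases Finset.mem_insert.1 hi with rfl | hi
      · exact absurd hd ((Nat.Prime.coprime_iff_not_dvd ht).1 hc.symm)
      · exact ⟨i, hi, rfl⟩
    have key : ∀ k, ∀ (G : Type u) [Group G] [Finite G], PLengthLE (q j) k G →
        (∀ t : ℕ, t.Prime → t ∣ Nat.card G → t ≠ p → ∃ i ∈ insert j s, q i = t) →
        (∀ i ∈ s, PLengthLE (q i) (l i) G) → PLengthLE p ((1 + k) * ∏ i ∈ s, (1 + l i)) G := by
      intro k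
      induction k with
      | zero =>
        intro G _ _ h0 h hl
        rw [add_zero, one_mul]
        exact base G (pLengthLE_zero_iff.1 h0) h hl
      | succ k ihk =>
        intro G _ _ h0 h hl
        have h1 := ihk (G ⧸ pPrimePCore (q j) G) (S3791.plen_quot h0 _ le_rfl)
          (fun t ht hd => h t ht (hd.trans (card_quotient_dvd_card _)))
          (fun i hi => CfsgH1.PLengthLE.quotient (hl i hi) _)
        have h2 := base (pPrimeCore (q j) G) (coprime_card_pPrimeCore _ _)
          (fun t ht hd => h t ht (hd.trans (card_subgroup_dvd_card _)))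
          (fun i hi => CfsgH1.PLengthLE.subgroup (hl i hi) _)
        have h3 : PLengthLE p (∏ i ∈ s, (1 + l i)) (pPrimePCore (q j) G) := by
          refine CfsgH1.PLengthLE.of_normal_of_coprime_index
            ((pPrimeCore (q j) G).subgroupOf (pPrimePCore (q j) G)) ?_
            (CfsgH1.PLengthLE.of_injective h2 (subgroupOfEquivOfLe pPrimeCore_le_pPrimePCore).toMonoidHom
              (MulEquiv.injective _))
          have := isPiNum_relIndex_ups (p := q j) (G := G) 1
          rw [ups_one, ups_two, altSet_odd (by decide)] at this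
          rw [Nat.coprime_comm, Nat.Prime.coprime_iff_not_dvd Fact.out]
          intro hd
          exact hqp j (this p Fact.out hd).symm
        have h4 := sub_add _ h3 h1
        rwa [show (1 + (k + 1)) * ∏ i ∈ s, (1 + l i) = ∏ i ∈ s, (1 + l i) + (1 + k) * ∏ i ∈ s, (1 + l i) by ring]
    intro G _ _ h hl
    rw [Finset.prod_insert hj]
    exact key _ G (hl j (Finset.mem_insert_self _ _)) h fun i hi => hl i (Finset.mem_insert_of_mem hi)

/-- Let G be a finite solvable group and p a prime. Suppose p₁, …, p_r are distinct primes, all different from p, that include every prime dividing the order of G other than p, and that G has p_i-length at most l_i for each i. Then G has p-length at most the product of the numbers 1 + l_i. -/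
theorem result {G : Type*} [Group G] [Finite G] (hG : Group.IsSolvable G) (p : ℕ) [Fact p.Prime] (r : ℕ) (q : Fin r → ℕ) (hq : ∀ i, (q i).Prime ∧ q i ≠ p) (hinj : Function.Injective q) (hcover : ∀ s : ℕ, s.Prime → s ∣ Nat.card G → s ≠ p → ∃ i, q i = s) (l : Fin r → ℕ) (hl : ∀ i, Cfsg.PLengthLE (q i) (l i) G) : Cfsg.PLengthLE p (Finset.univ.prod fun i => 1 + l i) G := by
  haveI := fun i => Fact.mk (hq i).1
  exact main q (fun i => (hq i).2) l _ G (fun t ht hd hne => by simpa using hcover t ht hd hne) fun i _ => hl i

end Cfsg.Agent.S3790
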