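import Cfsg.Statements.S3793
import Cfsg.Agent.H9.HH7
import Cfsg.Agent.H2.Hol

set_option autoImplicit false
open Cfsg

namespace Cfsg.Agent.S3793

/-- The Shult–Gross Theorem: let p be an odd prime and G a finite solvable group with an automorphism σ of order p^n fixing only the identity. Then G has Fitting height at most n: G has Fitting height at most m when there is a chain of normal subgroups 1 = F₀ ≤ F₁ ≤ ⋯ ≤ F_m = G with each F_{i+1}/F_i nilpotent. -/
theorem result {G : Type*} [Group G] [Finite G] (hG : Group.IsSolvable G) {p : ℕ} (hp : p.Prime) (hp2 : p ≠ 2) (σ : MulAut G) (n : ℕ) (hσ : orderOf σ = p ^ n) (hfpf : ∀ g : G, σ g = g → g = 1) : ∃ F : Fin (n + 1) → Subgroup G, F 0 = ⊥ ∧ F (Fin.last n) = ⊤ ∧ Monotone F ∧ (∀ i, (F i).Normal) ∧ ∀ i : Fin n, ∃ k : ℕ, (F i.succ).lowerCentralSeries k ≤ F i.castSucc := by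
  open Subgroup CfsgH1 CfsgH2 CfsgH9 CfsgFT in
  haveI := Fact.mk hp
  let φ : zpowers σ →* MulAut G := (zpowers σ).subtype
  let ι : G →* G ⋊[φ] zpowers σ := SemidirectProduct.inl
  let x : G ⋊[φ] zpowers σ := SemidirectProduct.inr ⟨σ, mem_zpowers σ⟩
  have o : orderOf x = p ^ n := by
    rw [← hσ, orderOf_injective _ SemidirectProduct.inr_injective, orderOf_mk]
  have hX : IsPGroup p (zpowers x) := .of_card ((Nat.card_zpowers x).trans o)
  have hx : x ∈ normalizer (sdL φ ⊤ : Set (G ⋊[φ] zpowers σ)) := le_normalizer_sdL_top ⊤ (mem_top _)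
  have hf : sdL φ ⊤ ⊓ centralizer {x} = ⊥ := by
    rw [eq_bot_iff]
    rintro y ⟨hy, hc⟩
    obtain ⟨g, -, rfl⟩ := mem_sdL.1 hy
    have := congrArg SemidirectProduct.left (mem_centralizer_singleton_iff.1 hc)
    rw [hfpf g (by simpa [x, φ] using this.symm), map_one]
    exact one_mem _
  let W : ℕ → Subgroup (G ⋊[φ] zpowers σ) := fun i => ⁅sdL φ ⊤, zpowers (x ^ p ^ i)⁆
  refine ⟨fun i => (W (n - i)).comap ι, ?_, ?_, fun i j l => comap_mono (commutator_mono le_rfl ?_), fun i => ?_, fun i => ?_⟩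
  · simp only [W, Fin.val_zero, Nat.sub_zero, ← o, pow_orderOf_eq_one, zpowers_one_eq_bot, commutator_bot_right]
    exact (MonoidHom.ker_eq_bot_iff ι).2 SemidirectProduct.inl_injective
  · simp only [W, Fin.val_last, Nat.sub_self, pow_zero, pow_one]
    refine eq_top_iff.2 fun g _ => ?_
    obtain ⟨v, hv, e⟩ := fpf_surj hx hf (inl_mem_sdL.2 (mem_top g))
    have := commutator_mem_commutator (inv_mem hv) (mem_zpowers x)
    rw [mem_comap]
    convert this using 1
    rw [e, commutatorElement_def]; group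
  · obtain ⟨c, hc⟩ := pow_dvd_pow p (Nat.sub_le_sub_left (Fin.le_def.1 l) n)
    rw [hc, pow_mul]
    exact zpowers_le.2 (npow_mem_zpowers _ _)
  · exact ⟨fun a ha g => by
      rw [mem_comap, map_mul, map_mul, map_inv]
      exact CfsgH2.conj_mem_of_mem_normalizer (normalizer_commutator_ge_left _ _ (inl_mem_sdL.2 (mem_top g))) ha⟩
  · obtain ⟨k, hk⟩ := chain_fpf hp2 (n - i.succ) (isSolvable_of_equiv (sdLTopEquiv φ)) hx hX hf
    refine ⟨k, map_le_iff_le_comap.1 ?_⟩
    rw [map_lowerCentralSeries]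
    refine (lowerCentralSeries_mono k (map_comap_le _ _)).trans (hk.trans_eq ?_)
    have := i.2
    simp only [W, Fin.val_succ, Fin.val_castSucc]
    rw [show n - (i + 1) + 1 = n - i by omega]

end Cfsg.Agent.S3793
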