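import Cfsg.Statements.S3794
import Cfsg.Agent.H1.Ten2

set_option autoImplicit false
open Cfsg

namespace Cfsg.Agent.S3794

/-- Let G be a finite solvable group with an automorphism σ satisfying σ⁴ = 1 and fixing only the identity. Then the derived subgroup G' is nilpotent. -/
theorem result {G : Type*} [Group G] [Finite G] (hG : Group.IsSolvable G) (σ : MulAut G) (hσ : σ ^ 4 = 1) (hfpf : ∀ g : G, σ g = g → g = 1) : Group.IsNilpotent (commutator G) := by
  open Subgroup CfsgH1 CfsgFT CfsgH2 in
  let φ : zpowers σ →* MulAut G := (zpowers σ).subtype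
  have h := nil_der_four _ (sdL φ ⊤) (SemidirectProduct.inr ⟨σ, mem_zpowers σ⟩) rfl
    (by rw [← map_pow, show (⟨σ, mem_zpowers σ⟩ : zpowers σ) ^ 4 = 1 from Subtype.ext hσ, map_one])
    (isSolvable_of_equiv (sdLTopEquiv φ)) (le_normalizer_sdL_top ⊤ (mem_top _)) (by
      rw [eq_bot_iff]
      rintro x ⟨hx, hc⟩
      obtain ⟨n, -, rfl⟩ := mem_sdL.1 hx
      have h1 := mem_cent1.1 hc
      rw [← mul_inv_eq_iff_eq_mul, sd_conj] at h1
      rw [hfpf n (SemidirectProduct.inl_injective h1), map_one]
      exact one_mem _)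
  rw [← sdL_commutator] at h
  have h' : Group.IsNilpotent (sdL φ (_root_.commutator G)) := h
  exact Group.nilpotent_of_mulEquiv (sdLEquiv φ _).symm

end Cfsg.Agent.S3794
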