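import Cfsg.Statements.S3796
import Cfsg.Agent.H1.Ten3

set_option autoImplicit false
open Cfsg

namespace Cfsg.Agent.S3796

/-- Ward's Theorem: let G be a finite solvable group and A an elementary abelian group of automorphisms of G of order p² (p a prime) with no non-identity common fixed point. Then G has Fitting height at most 2: G has Fitting height at most m when there is a chain of normal subgroups 1 = F₀ ≤ F₁ ≤ ⋯ ≤ F_m = G with each F_{i+1}/F_i nilpotent. -/
theorem result {G : Type*} [Group G] [Finite G] (hG : Group.IsSolvable G) {p : ℕ} (hp : p.Prime) (A : Subgroup (MulAut G)) (hA : Cfsg.IsElementaryAbelian p A) (hcard : Nat.card A = p ^ 2) (hfpf : ∀ g : G, (∀ a ∈ A, a g = g) → g = 1) : ∃ F : Fin (2 + 1) → Subgroup G, F 0 = ⊥ ∧ F (Fin.last 2) = ⊤ ∧ Monotone F ∧ (∀ i, (F i).Normal) ∧ ∀ i : Fin 2, ∃ k : ℕ, (F i.succ).lowerCentralSeries k ≤ F i.castSucc := by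
  open Subgroup CfsgH1 CfsgFT CfsgH2 in
  haveI := Fact.mk hp
  let φ : A →* MulAut G := A.subtype
  have hA' : Cfsg.IsElementaryAbelian p (⊤ : Subgroup A) := by
    have := ea_subgroupOf (H := A) hA
    rwa [subgroupOf_self] at this
  have h := nil_nres_sq (p := p) _ (sdL φ ⊤) (sdR φ ⊤) rfl (ea_map hA' _)
    (by rw [card_sdR, card_top, hcard])
    (isSolvable_of_equiv (sdLTopEquiv φ)) (le_normalizer_sdL_top _) (by
      rw [eq_bot_iff]
      rintro x ⟨hx, hc⟩
      obtain ⟨n, -, rfl⟩ := mem_sdL.1 hx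
      rw [hfpf n fun a ha => inl_mem_centralizer_sdR.1 hc ⟨a, ha⟩ (mem_top _), map_one]
      exact one_mem _)
  rw [sdL, ← map_nres] at h
  have h' : Group.IsNilpotent (sdL φ (nres ⊤)) := h
  have h2 : Group.IsNilpotent (nres (⊤ : Subgroup G)) :=
    Group.nilpotent_of_mulEquiv (sdLEquiv φ _).symm
  haveI : (nres (⊤ : Subgroup G)).Normal :=
    normal_of_top_le ((le_norm_top ⊤).trans (norm_le_norm_nres ⊤))
  refine ⟨![⊥, nres ⊤, ⊤], rfl, rfl, ?_, ?_, ?_⟩
  · refine Fin.monotone_iff_le_succ.2 fun i => ?_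
    fin_cases i <;> simp
  · intro i
    fin_cases i <;> simp <;> infer_instance
  · intro i
    fin_cases i
    · obtain ⟨k, hk⟩ := (isNilpotent_iff_lowerCentralSeries _).1 h2
      exact ⟨k, hk.le⟩
    · exact nres_le_iff.1 le_rfl

end Cfsg.Agent.S3796
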