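import Cfsg.Statements.S3799
import Cfsg.Agent.H1.PG2

set_option autoImplicit false
open Cfsg

namespace Cfsg.Agent.S3799

/-- For every odd prime p and every n ≥ 1 there is an extraspecial p-group of order p^(1+2n) and exponent p; concretely, the general linear group of degree n + 2 over the field with p elements contains such a subgroup. -/
theorem result (p : ℕ) [Fact p.Prime] (hp : p ≠ 2) (n : ℕ) (hn : 1 ≤ n) : ∃ E : Subgroup (Matrix.GeneralLinearGroup (Fin (n + 2)) (ZMod p)), Cfsg.IsExtraspecial p ↥E ∧ Nat.card E = p ^ (1 + 2 * n) ∧ ∀ x ∈ E, x ^ p = 1 := by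
  open Subgroup CfsgH1 CfsgFT CfsgH2 in
  let b := Module.finBasisOfFinrankEq (ZMod p) (ZMod p × (Fin n → ZMod p) × ZMod p) (n := n + 2)
    (by simp; omega)
  let f : Hs n (ZMod p) →* Matrix.GeneralLinearGroup (Fin (n + 2)) (ZMod p) :=
    ((LinearMap.toMatrixAlgEquiv b).toMonoidHom.comp Hs.rho).toHomUnits
  have hf : Function.Injective f := fun x y e =>
    Hs.rho_inj ((LinearMap.toMatrixAlgEquiv b).injective (congrArg Units.val e))
  have hc : Nat.card ((⊤ : Subgroup (Hs n (ZMod p))).map f) = p ^ (1 + 2 * n) := by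
    rw [card_map_of_injective hf, card_top, Hs.card, Nat.card_zmod]
  have h := Hs.es.map f hf (p := p)
  refine ⟨_, h.isExtraspecial fun e => ?_, hc, ?_⟩
  · rw [e, h.card_z] at hc
    have := Nat.pow_right_injective (Fact.out : p.Prime).two_le ((pow_one p).trans hc)
    omega
  · rintro _ ⟨x, -, rfl⟩
    obtain ⟨k, hk⟩ := prime_dvd_choose_two Fact.out hp
    rw [← map_pow, Hs.pow_eq, ← f.map_one, hk]
    congr 1
    ext <;> simp

end Cfsg.Agent.S3799
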