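import Cfsg.Statements.S3802
import Cfsg.Agent.H1.PG1

set_option autoImplicit false
open Cfsg

namespace Cfsg.Agent.S3802

/-- Let G be a finite group, M a maximal subgroup of G and N a subnormal subgroup of G contained in M. Then N is contained in every conjugate of M, that is, N lies in the core of M in G. -/
theorem result {G : Type*} [Group G] [Finite G] (M N : Subgroup G) (hM : IsCoatom M) (hN : N.IsSubnormal) (hNM : N ≤ M) :
    N ≤ Subgroup.normalCore M := by
  open Subgroup CfsgH1 CfsgFT CfsgH2 CfsgLead in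
  set K := sSup {A : Subgroup G | SN A ⊤ ∧ A ≤ M}
  have h1 : SN K ⊤ := sn_sSup fun A hA => hA.1
  have h2 : K ≤ M := sSup_le fun A hA => hA.2
  have h3 : M ≤ N(K) := fun g hg => mem_normalizer_of_cj_le (map_sSup_le _ _ _ fun A hA =>
    le_sSup ⟨sn_cj hA.1 (le_normalizer (mem_top g)), (cj_mono g hA.2).trans (cj_eq_of_mem hg).le⟩)
  have : K.Normal := normalizer_eq_top_iff.1 (by
    by_contra h
    obtain ⟨B, b1, b2, b3⟩ := sn_exists_gt h1 fun e => hM.1 (eq_top_iff.2 (e.ge.trans h2))
    exact b1.not_ge (le_sSup ⟨b3, b2.trans ((hM.le_iff.1 h3).resolve_left h).le⟩))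
  exact (le_sSup ⟨SN.top_iff.2 hN, hNM⟩ : N ≤ K).trans (normal_le_normalCore.2 h2)

end Cfsg.Agent.S3802
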