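import Cfsg.Statements.S3803
import Cfsg.Agent.H2.Meta2
import Cfsg.Agent.H2.TwoLocal
import Cfsg.Agent.H9.SC

set_option autoImplicit false
open Cfsg

namespace Cfsg.Agent.S3803

open Subgroup in
theorem exists_between {X : Type*} [Group X] [Finite X] {E P : Subgroup X} (h : E ≤ P) {i j : ℕ}
    (hE : Nat.card E = 2 ^ i) (hij : i ≤ j) (hj : 2 ^ j ∣ Nat.card P) :
    ∃ R, E ≤ R ∧ R ≤ P ∧ Nat.card R = 2 ^ j := by
  haveI : Fact (Nat.Prime 2) := ⟨Nat.prime_two⟩
  obtain ⟨K, h1, h2⟩ := Sylow.exists_subgroup_card_pow_prime_le 2 hj (E.subgroupOf P)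
    (by rw [CfsgH1.card_subgroupOf_of_le h, hE]) hij
  refine ⟨K.map P.subtype, fun x hx => ⟨⟨x, h hx⟩, h2 hx, rfl⟩, map_subtype_le K, by rw [CfsgH1.card_map_subtype, h1]⟩

open Subgroup CfsgH2 in
theorem key {X : Type*} [Group X] [Finite X] {P A : Subgroup X} (hP : IsPGroup 2 P) (hA : Odd (Nat.card A)) {i : ℕ}
    (hi : 2 ^ (i + 1) ∣ Nat.card P) (hinv : ∀ E ≤ P, Nat.card E = 2 ^ i → A ≤ normalizer (E : Set X))
    {E : Subgroup X} (hE : E ≤ P) (hc : Nat.card E = 2 ^ i) : A ≤ centralizer (E : Set X) := by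
  haveI : Fact (Nat.Prime 2) := ⟨Nat.prime_two⟩
  intro a ha
  have ho : Odd (orderOf a) := Odd.of_dvd_nat hA (orderOf_dvd_natCard A ha)
  obtain ⟨R, h1, h2, h3⟩ := exists_between hE hc (Nat.le_succ i) hi
  by_cases hR : IsCyclic R
  · exact mem_centralizer_of_cyclic_two (hP.to_le hE) (isCyclic_of_le h1) (hinv E hE hc ha) ho
  have hM : ∀ M : Subgroup R, IsCoatom M → a ∈ normalizer (M.map R.subtype : Set X) := fun M hM =>
    hinv _ ((map_subtype_le M).trans h2) (by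
      have := M.card_mul_index
      rw [(coatom_normal_index (hP.to_le h2) hM).2, h3, pow_succ] at this
      rw [CfsgH1.card_map_subtype]; omega) ha
  have hn : a ∈ normalizer (R : Set X) := CfsgH2.mem_normalizer_of_conj_mem fun x hx => by
    rcases eq_top_or_exists_le_coatom (zpowers (⟨x, hx⟩ : R)) with e | ⟨M, h4, h5⟩
    · exact absurd (isCyclic_iff_exists_zpowers_eq_top.2 ⟨_, e⟩) hR
    · exact map_subtype_le M (CfsgH2.conj_mem_of_mem_normalizer (hM M h4) ⟨_, h5 (mem_zpowers _), rfl⟩)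
  refine centralizer_le h1 (cent_of_frattini (hP.to_le h2) hn ho fun x hx => ?_)
  have hx' := CfsgH2.conj_mem_of_mem_normalizer hn hx
  refine ⟨⟨_, hx'⟩ * ⟨x, hx⟩⁻¹, mem_frattini_iff.2 fun M h4 => ?_, rfl⟩
  rw [mul_mem_iff_of_index_two (coatom_normal_index (hP.to_le h2) h4).2, inv_mem_iff]
  have := mem_normalizer_iff.1 (hM M h4) x
  constructor
  · intro h
    obtain ⟨y, hy, e⟩ := this.2 ⟨_, h, rfl⟩
    exact (show y = ⟨x, hx⟩ from Subtype.ext e) ▸ hy
  · intro h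
    obtain ⟨y, hy, e⟩ := this.1 ⟨_, h, rfl⟩
    exact (show y = ⟨_, hx'⟩ from Subtype.ext e) ▸ hy

/-- Let P be a 2-subgroup and A a subgroup of odd order of a finite group, with A normalizing P. Let D ≤ P with 1 < |D| < |P|. If every subgroup of P of order |D|, and also every subgroup of P of order 4 in case |D| = 2, is normalized by A, then A centralizes P. -/
theorem result {X : Type*} [Group X] [Finite X] (P A D : Subgroup X) (hP : IsPGroup 2 P) (hA : Odd (Nat.card A))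
    (hAP : A ≤ Subgroup.normalizer (P : Set X)) (hDP : D ≤ P) (hD1 : 1 < Nat.card D) (hD2 : Nat.card D < Nat.card P)
    (hinv : ∀ E : Subgroup X, E ≤ P → (Nat.card E = Nat.card D ∨ (Nat.card D = 2 ∧ Nat.card E = 4)) → A ≤ Subgroup.normalizer (E : Set X)) :
    A ≤ Subgroup.centralizer (P : Set X) := by
  open Subgroup CfsgH2 CfsgH9 in
    haveI : Fact (Nat.Prime 2) := ⟨Nat.prime_two⟩
    obtain ⟨n, hn⟩ := IsPGroup.iff_card.1 hP
    obtain ⟨d, hd⟩ := IsPGroup.iff_card.1 (hP.to_le hDP)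
    rw [hd] at hD1 hD2 hinv
    rw [hn, pow_lt_pow_iff_right₀ (by norm_num)] at hD2
    have hd0 : d ≠ 0 := fun e => by simp [e] at hD1
    have fin : ∀ i, 2 ≤ i → i ≤ n → (∀ E ≤ P, Nat.card E = 2 ^ i → A ≤ centralizer (E : Set X)) →
        A ≤ centralizer (P : Set X) := fun i h2 h3 h =>
      le_cent_of_small (p := 2) (Nat.coprime_two_right.2 hA) hP hAP fun x hx h4 => by
        obtain ⟨j, hj, e⟩ := (Nat.dvd_prime_pow Nat.prime_two).1
          (orderOf_dvd_of_pow_eq_one (show x ^ 2 ^ 2 = 1 from h4))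
        obtain ⟨R, h5, h6, h7⟩ := exists_between (zpowers_le.2 hx) (by rw [Nat.card_zpowers, e]) (hj.trans h2)
          (hn ▸ pow_dvd_pow 2 h3)
        exact le_centralizer_iff.1 (h R h6 h7) (h5 (mem_zpowers x))
    have k1 := fun E => key hP hA (i := d) (hn ▸ pow_dvd_pow 2 hD2) (fun E h1 h2 => hinv E h1 (Or.inl h2)) (E := E)
    by_cases h2 : 2 ≤ d
    · exact fin d h2 hD2.le k1
    obtain rfl : d = 1 := by omega
    by_cases h3 : n = 2
    · by_cases hc : IsCyclic P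
      · exact fun a ha => mem_centralizer_of_cyclic_two hP hc (hAP ha) (Odd.of_dvd_nat hA (orderOf_dvd_natCard A ha))
      refine le_centralizer_iff.2 fun x hx => ?_
      obtain ⟨j, hj, e⟩ := (Nat.dvd_prime_pow Nat.prime_two).1 (hn ▸ orderOf_dvd_natCard P hx)
      have : j ≠ n := fun e' => hc (isCyclic_of_orderOf_eq_card (⟨x, hx⟩ : P) (by rw [orderOf_mk, e, hn, e']))
      obtain ⟨R, h5, h6, h7⟩ := exists_between (zpowers_le.2 hx) (by rw [Nat.card_zpowers, e]) (show j ≤ 1 by omega)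
        (hn ▸ pow_dvd_pow 2 hD2.le)
      exact le_centralizer_iff.1 (k1 R h6 h7) (h5 (mem_zpowers x))
    · exact fin 2 le_rfl hD2 fun E => key hP hA (i := 2) (hn ▸ pow_dvd_pow 2 (by omega))
        fun E h1 h2 => hinv E h1 (Or.inr ⟨rfl, h2⟩)

end Cfsg.Agent.S3803
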