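import Cfsg.Statements.S3807
import Cfsg.Agent.H1.PG2

set_option autoImplicit false
open Cfsg

namespace Cfsg.Agent.S3807

/-- Let S be a non-abelian finite p-group with an abelian subgroup A of index p. Then [S : Z(S)] = p·#[S,S], and either [S,S] has order p, S/Z(S) is elementary abelian of order p², and S has exactly p + 1 abelian subgroups of index p; or [S,S] has order at least p² and A is the only abelian subgroup of index p in S. -/
theorem result {S : Type*} [Group S] [Finite S] (p : ℕ) [Fact p.Prime] (hS : IsPGroup p S) (hna : ¬ IsMulCommutative S)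
    (A : Subgroup S) (hA : IsMulCommutative ↥A) (hAi : A.index = p) :
    (Subgroup.center S).index = p * Nat.card (commutator S) ∧
      ((Nat.card (commutator S) = p ∧ Cfsg.IsElementaryAbelian p (⊤ : Subgroup (S ⧸ Subgroup.center S)) ∧
          Nat.card (S ⧸ Subgroup.center S) = p ^ 2 ∧
          Nat.card {B : Subgroup S // IsMulCommutative ↥B ∧ B.index = p} = p + 1) ∨
        (p ^ 2 ≤ Nat.card (commutator S) ∧ ∀ B : Subgroup S, IsMulCommutative ↥B → B.index = p → B = A)) := by
  open Subgroup CfsgH1 CfsgFT CfsgH2 in
  have hp : p.Prime := Fact.out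
  have hc : C((⊤ : Subgroup S)) = center S := by rw [coe_top, centralizer_univ]
  have hn : ¬ (⊤ : Subgroup S) ≤ C((⊤ : Subgroup S)) := fun h => hna ⟨⟨fun a b => h (mem_top b) a trivial⟩⟩
  have key := fun (B : Subgroup S) (h1 : IsMulCommutative B) (h2 : B.index = p) =>
    relIndex_center_of_abelian (hS.to_subgroup ⊤) hn (isMulCommutative_iff_le_centralizer.1 h1) le_top
      ((relIndex_top_right _).trans h2)
  simp only [hc, top_inf_eq, relIndex_top_right] at key
  have h1 : (center S).index = p * Nat.card (commutator S) := (key A hA hAi).2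
  refine ⟨h1, ?_⟩
  obtain ⟨k, hk⟩ := (hS.to_subgroup (commutator S)).exists_card_eq
  rcases k with _ | _ | k
  · exact absurd (commutator_eq_bot_iff_le_centralizer.1 (card_eq_one.1 hk)) hn
  · left
    rw [zero_add, pow_one] at hk
    have h2 : Nat.card (S ⧸ center S) = p ^ 2 := by rw [← index_eq_card, h1, hk, pow_two]
    have h3 : Cfsg.IsElementaryAbelian p (⊤ : Subgroup (S ⧸ center S)) :=
      ea_of_card_sq_of_exponent (by rw [card_top, h2]) fun x _ => by
        by_contra h
        have : IsCyclic (S ⧸ center S) := by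
          obtain ⟨j, hj, e⟩ := (Nat.dvd_prime_pow hp).1 (h2 ▸ orderOf_dvd_natCard x)
          refine isCyclic_of_orderOf_eq_card x ?_
          interval_cases j
          · exact absurd (orderOf_dvd_iff_pow_eq_one.1 (by simp [e])) h
          · exact absurd (orderOf_dvd_iff_pow_eq_one.1 (by simp [e])) h
          · rw [e, h2]
        exact hna ((QuotientGroup.mk' (center S)).isMulCommutative_of_isCyclic_of_ker_le_center
          (QuotientGroup.ker_mk' _).le)
    refine ⟨hk, h3, h2, ?_⟩
    rw [← card_lines_sq h3 (by rw [card_top, h2])]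
    have e : ∀ X : Subgroup (S ⧸ center S), X.index = p ↔ Nat.card X = p := fun X => by
      have := X.card_mul_index
      rw [h2, pow_two] at this
      exact ⟨fun h => Nat.eq_of_mul_eq_mul_right hp.pos (h ▸ this),
        fun h => Nat.eq_of_mul_eq_mul_left hp.pos (h ▸ this)⟩
    have hs := QuotientGroup.mk'_surjective (center S)
    have e2 : ∀ X : Subgroup (S ⧸ center S), Nat.card X = p →
        IsMulCommutative (X.comap (QuotientGroup.mk' _)) := fun X hX => by
      obtain ⟨x, hx⟩ := isCyclic_iff_zpowers.1 (isCyclic_of_prime_card hX)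
      obtain ⟨y, rfl⟩ := hs x
      rw [← hx, ← MonoidHom.map_zpowers, comap_map_eq, QuotientGroup.ker_mk']
      exact isMulCommutative_sup inferInstance inferInstance (center_le_centralizer _)
    refine (Nat.card_congr (Equiv.ofBijective (fun X => ⟨X.1.comap (QuotientGroup.mk' _), e2 _ X.2.2,
      by rw [index_comap_of_surjective _ hs, e, X.2.2]⟩) ⟨fun X Y h => Subtype.ext
      (comap_injective hs (congrArg Subtype.val h)), fun B => ?_⟩)).symm
    · have := comap_map_eq_self (f := QuotientGroup.mk' (center S))
        ((QuotientGroup.ker_mk' _).le.trans (key _ B.2.1 B.2.2).1)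
      exact ⟨⟨B.1.map (QuotientGroup.mk' _), le_top, (e _).1 (by
        rw [← index_comap_of_surjective _ hs, this, B.2.2])⟩, Subtype.ext this⟩
  · refine .inr ⟨hk ▸ Nat.pow_le_pow_right hp.pos (by omega), fun B b1 b2 => by_contra fun hne => ?_⟩
    have h2 : B ⊔ A = ⊤ := (isCoatom_of_index_prime hAi).2 _ (right_lt_sup.2 fun h => hne
      (CfsgH1.eq_of_le_of_card_le h (Nat.eq_of_mul_eq_mul_right hp.pos (by
        conv_lhs => rw [← hAi]
        conv_rhs => rw [← b2]
        rw [card_mul_index, card_mul_index])).le))
    have h3 : B ⊓ A ≤ center S := by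
      rw [← hc, ← h2, centralizer_sup']
      exact inf_le_inf (isMulCommutative_iff_le_centralizer.1 b1) (isMulCommutative_iff_le_centralizer.1 hA)
    have h4 := (index_antitone h3).trans index_inf_le
    rw [h1, hk, b2, hAi] at h4
    have := (Nat.pow_le_pow_iff_right hp.one_lt).1 ((Nat.le_of_mul_le_mul_left h4 hp.pos).trans (pow_one p).ge)
    omega

end Cfsg.Agent.S3807
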