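import Cfsg.Statements.S3808
import Cfsg.Agent.H1.PG2

set_option autoImplicit false
open Cfsg

namespace Cfsg.Agent.S3808

/-- Let S be a finite p-group with an extraspecial subgroup Q of index p. Then either Z(S) = Z(Q), or S = Q·Z(S) and Z(S) has order p². -/
theorem result {S : Type*} [Group S] [Finite S] (p : ℕ) [Fact p.Prime] (hS : IsPGroup p S) (Q : Subgroup S) (hQ : Cfsg.IsExtraspecial p ↥Q) (hQi : Q.index = p) :
    Subgroup.center S = (Subgroup.center ↥Q).map Q.subtype ∨
      (Q ⊔ Subgroup.center S = ⊤ ∧ Nat.card (Subgroup.center S) = p ^ 2) := by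
  open Subgroup CfsgH1 CfsgFT CfsgH2 in
  have hp : p.Prime := Fact.out
  have h := xsp_iff.1 hQ
  have := (coatom_normal_index hS (isCoatom_of_index_prime hQi)).1
  have h1 : Q ⊓ C(Q) ≤ center S := by
    have := le_centralizer_of_card_le_prime (K := Q ⊓ C(Q)) (hS.to_subgroup ⊤) le_top le_normalizer_of_normal
      h.card.le
    rwa [coe_top, centralizer_univ] at this
  have h2 : Q ⊓ center S = Q ⊓ C(Q) :=
    le_antisymm (inf_le_inf_left _ (center_le_centralizer _)) (le_inf inf_le_left h1)
  rw [map_center_eq_inf]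
  by_cases e : center S ≤ Q
  · exact .inl (by rw [← h2, inf_eq_right.2 e])
  · have h3 := (isCoatom_of_index_prime hQi).2 _ (left_lt_sup.2 e)
    refine .inr ⟨h3, ?_⟩
    rw [← card_inf_mul_relIndex Q, h2, h.card, ← relIndex_sup_left, h3, relIndex_top_right, hQi, pow_two]

end Cfsg.Agent.S3808
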