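import Cfsg.Statements.S3809
import Cfsg.Agent.H1.PG2

set_option autoImplicit false
open Cfsg

namespace Cfsg.Agent.S3809

/-- Let S be a finite p-group with an extraspecial subgroup of index p. Then S has order p^(2+2n) for some n ≥ 1, derived length at most 3, and exponent dividing p³. -/
theorem result {S : Type*} [Group S] [Finite S] (p : ℕ) [Fact p.Prime] (hS : IsPGroup p S) (Q : Subgroup S) (hQ : Cfsg.IsExtraspecial p ↥Q) (hQi : Q.index = p) :
    (∃ n : ℕ, 1 ≤ n ∧ Nat.card S = p ^ (2 + 2 * n)) ∧ derivedSeries S 3 = ⊥ ∧ ∀ x : S, x ^ (p ^ 3) = 1 := by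
  open Subgroup CfsgH1 CfsgFT CfsgH2 in
  have h := xsp_iff.1 hQ
  have := (coatom_normal_index hS (isCoatom_of_index_prime hQi)).1
  obtain ⟨z, hz, -⟩ := ES.of_isExtraspecial hQ
  obtain ⟨n, h1, h2⟩ := h.exists_card
  refine ⟨⟨n, h1, by rw [← Q.card_mul_index, h2, hQi]; ring⟩, ?_, fun x => ?_⟩
  · have h3 : ⁅(⊤ : Subgroup S), (⊤ : Subgroup S)⁆ ≤ Q := commutator_le_of_card_succ (hS.to_subgroup ⊤) le_rfl
      le_normalizer le_normalizer_of_normal le_top (by rw [card_top, ← hQi, card_mul_index])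
    have h4 := (commutator_mono h3 h3).trans h.der.le
    exact commutator_eq_bot_iff_le_centralizer.2 ((h4.trans inf_le_right).trans
      (centralizer_le (h4.trans inf_le_left)))
  · rw [pow_succ', pow_mul]
    exact hz.pow_sq (hQi ▸ pow_index_mem Q x)

end Cfsg.Agent.S3809
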