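import Cfsg.Statements.S3810
import Cfsg.Agent.H1.PG2

set_option autoImplicit false
open Cfsg

namespace Cfsg.Agent.S3810

/-- Let S be a finite p-group with an extraspecial subgroup of index p. Then S has an abelian subgroup of index p if and only if S has order p⁴. -/
theorem result {S : Type*} [Group S] [Finite S] (p : ℕ) [Fact p.Prime] (hS : IsPGroup p S) (Q : Subgroup S) (hQ : Cfsg.IsExtraspecial p ↥Q) (hQi : Q.index = p) :
    (∃ A : Subgroup S, IsMulCommutative ↥A ∧ A.index = p) ↔ Nat.card S = p ^ 4 := by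
  open Subgroup CfsgH1 CfsgFT CfsgH2 in
  have hp : p.Prime := Fact.out
  refine ⟨fun ⟨A, h1, h2⟩ => ?_, fun h => ?_⟩
  · obtain ⟨z, hz, h3⟩ := ES.of_isExtraspecial hQ
    obtain ⟨n, hn⟩ := hz.exists_card' h3
    have h4 := hz.card_le_of_comm hn inf_le_right (isMulCommutative_of_le h1 inf_le_left)
    have h5 := card_inf_mul_relIndex A Q
    have h6 : A.relIndex Q ≤ p := by
      rw [← h2, ← relIndex_top_right]
      exact relIndex_le_of_le_right le_top (CfsgH2.relIndex_ne_zero _ _)
    have h7 := h5.ge.trans (Nat.mul_le_mul h4 h6)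
    rw [hn, ← pow_succ, Nat.pow_le_pow_iff_right hp.one_lt] at h7
    obtain rfl : n = 0 := by omega
    rw [← Q.card_mul_index, hn, hQi]; ring
  · obtain ⟨A, -, h1, h2⟩ := exists_abelian_index (hS.to_subgroup ⊤) (card_top.trans h)
    exact ⟨A, isMulCommutative_iff_le_centralizer.2 h1, (relIndex_top_right A).symm.trans h2⟩

end Cfsg.Agent.S3810
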