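import Cfsg.Statements.S3815
import Cfsg.Agent.H1.PG1

set_option autoImplicit false
open Cfsg

namespace Cfsg.Agent.S3815

/-- Let G be a finite group, p a prime and d ∈ G an element of order prime to p. If dg has order prime to p for every element g ∈ G of order prime to p, then d ∈ O_{p'}(G). -/
theorem result {G : Type*} [Group G] [Finite G] {p : ℕ} [Fact p.Prime]
    (d : G) (hd : (orderOf d).Coprime p)
    (h : ∀ g : G, (orderOf g).Coprime p → (orderOf (d * g)).Coprime p) :
    d ∈ Cfsg.pPrimeCore p G := by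
  open Subgroup CfsgH1 CfsgFT CfsgH2 in
  let D : Submonoid G :=
    { carrier := {d | ∀ g : G, (orderOf g).Coprime p → (orderOf (d * g)).Coprime p}
      one_mem' := fun g hg => by rwa [one_mul]
      mul_mem' := fun {a b} ha hb g hg => by rw [mul_assoc]; exact ha _ (hb g hg) }
  have hi : ∀ {x}, x ∈ D → x⁻¹ ∈ D := fun {x} hx => by
    rw [mul_eq_one_iff_inv_eq.1 ((mul_pow_sub_one (orderOf_pos x).ne' x).trans (pow_orderOf_eq_one x))]
    exact D.pow_mem hx _
  let D' : Subgroup G := { D with inv_mem' := hi }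
  have : D'.Normal := ⟨fun x hx k g hg => by
    rw [← orderOf_conj' k⁻¹, show k⁻¹ * (k * x * k⁻¹ * g) * k⁻¹⁻¹ = x * (k⁻¹ * g * k⁻¹⁻¹) by group]
    exact hx _ (by rwa [orderOf_conj'])⟩
  refine le_pPrimeCore (N := D') ?_ h
  exact ((Nat.Prime.coprime_iff_not_dvd Fact.out).2 (not_dvd_card_of_coprime_orderOf
    fun x hx => by simpa using hx 1 (by simp))).symm

end Cfsg.Agent.S3815
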