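import Cfsg.Statements.S3821
import Cfsg.Agent.H1.PG1

set_option autoImplicit false
open Cfsg

namespace Cfsg.Agent.S3821

/-- Let A be a normal subgroup of the finite group G and H a subgroup of A. Then H is pronormal in G (H and gHg⁻¹ conjugate inside ⟨H, gHg⁻¹⟩ for every g ∈ G) if and only if H is pronormal in A and G = A · N_G(H). -/
theorem result {G : Type*} [Group G] [Finite G] (A H : Subgroup G) [A.Normal] (hHA : H ≤ A) :
    Cfsg.IsPronormal H ↔ (Cfsg.IsPronormal (H.subgroupOf A) ∧ A ⊔ Subgroup.normalizer (H : Set G) = ⊤) := by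
  open Subgroup CfsgH1 CfsgFT CfsgH2 in
  rw [pronormal_subgroupOf_iff hHA]
  refine ⟨fun h => ⟨fun a _ => h a, (eq_top_iff' _).2 fun g => ?_⟩, fun ⟨h1, h2⟩ g => ?_⟩
  · obtain ⟨x, hx, e⟩ := h g
    simp only [cj_def] at hx e
    rw [show g = x * (x⁻¹ * g) by simp]
    exact mul_mem_sup (sup_le hHA ((cj_mono g hHA).trans (cj_eq_of_normal g A).le) hx)
      (cj_eq_iff_mem_normalizer.1 (by rw [← cj_cj, e, cj_inv_cj]))
  · obtain ⟨a, ha, n, hn, rfl⟩ := mem_sup_of_normal_left.1 (h2.ge (mem_top g))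
    simp only [cj_def, ← cj_cj, cj_eq_iff_mem_normalizer.2 hn]
    exact h1 a ha

end Cfsg.Agent.S3821
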