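import Cfsg.Statements.S3824
import Cfsg.Agent.H3.Burnside
import Cfsg.Agent.H2.PGroup
import Cfsg.Agent.H1.Hall

set_option autoImplicit false
open Cfsg

namespace Cfsg.Agent.S3824

/-- Every finite group having an abelian subgroup whose index is a power of 2 is solvable. -/
theorem result {G : Type*} [Group G] [Finite G]
    (A : Subgroup G) (hA : IsMulCommutative A) (hidx : ∃ k : ℕ, A.index = 2 ^ k) : Group.IsSolvable G := by
  open Subgroup CfsgH2 CfsgH3 in
  refine isSolvable_of_simple_sections (fun G _ => ∃ A : Subgroup G, IsMulCommutative A ∧ ∃ k, A.index ∣ 2 ^ k) ?_ ?_ ?_ G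
    ⟨A, hA, hidx.imp fun _ => dvd_of_eq⟩
  · rintro G _ _ N _ ⟨A, a, k, b⟩
    exact ⟨A.subgroupOf N, inferInstance, k, (CfsgH1.relIndex_normal_dvd_index A N).trans b⟩
  · rintro G _ _ N _ ⟨A, a, k, b⟩
    exact ⟨A.map (QuotientGroup.mk' N), inferInstance, k, (index_map_dvd _ (QuotientGroup.mk'_surjective N)).trans b⟩
  · rintro G _ _ _ ⟨A, a, k, b⟩
    by_cases h : A = ⊥
    · rw [h, index_bot] at b
      obtain ⟨k, -, hk⟩ := (Nat.dvd_prime_pow Nat.prime_two).mp b
      have := (IsPGroup.of_card hk).center_nontrivial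
      obtain ⟨⟨z, hz⟩, hz1⟩ := exists_ne (1 : center G)
      exact comm_of_simple_of_center (fun h => hz1 (Subtype.ext h)) hz
    · obtain ⟨z, hz, z1⟩ := (bot_or_exists_ne_one A).resolve_left h
      obtain ⟨k, -, hk⟩ := (Nat.dvd_prime_pow Nat.prime_two).mp ((index_dvd_of_le (K := centralizer {z}) fun x hx =>
        mem_centralizer_singleton_iff.2 (mul_comm_of_isMulCommutative a hx hz)).trans b)
      exact comm_of_simple_of_center z1 (mem_center_of_simple_of_class_prime_pow Nat.prime_two z1 hk)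

end Cfsg.Agent.S3824
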