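import Cfsg.Statements.S3825
import Cfsg.Agent.H1.PG2

set_option autoImplicit false
open Cfsg

namespace Cfsg.Agent.S3825

/-- Let U be a subgroup of a finite group H and w an involution of H normalizing U and commuting with exactly two elements of U, the identity and y. If V is a non-cyclic elementary abelian 2-subgroup of U containing y which is normal in U and invariant under w, then V is a Sylow 2-subgroup of U, V has order 4, and U/V is abelian. -/
theorem result {H : Type*} [Group H] [Finite H] (U : Subgroup H) (w : H) (hw : orderOf w = 2)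
    (hwU : w ∈ Subgroup.normalizer (U : Set H)) (y : H) (hy : y ≠ 1) (hyU : y ∈ U)
    (hfix : ∀ u ∈ U, w * u * w⁻¹ = u ↔ (u = 1 ∨ u = y))
    (V : Subgroup H) (hVU : V ≤ U) (hVn : (V.subgroupOf U).Normal) (hVw : ∀ v ∈ V, w * v * w⁻¹ ∈ V)
    (hVe : Cfsg.IsElementaryAbelian 2 V) (hVc : ¬ IsCyclic ↥V) (hyV : y ∈ V) :
    ¬ 2 ∣ V.relIndex U ∧ Nat.card ↥V = 4 ∧ ⁅U, U⁆ ≤ V := by
  open Subgroup CfsgH1 CfsgFT CfsgH2 commutatorElement in
  classical
  have w2 : w * w = 1 := by rw [← pow_two, ← hw, pow_orderOf_eq_one]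
  have wi : w⁻¹ = w := inv_eq_of_mul_eq_one_right w2
  have ww : ∀ u, w * (w * u * w⁻¹) * w⁻¹ = u := fun u => by
    rw [show w * (w * u * w⁻¹) * w⁻¹ = (w * w) * u * (w * w)⁻¹ by group, w2]; simp
  obtain ⟨vc, v2⟩ := ea_iff.1 hVe
  have vi : ∀ v ∈ V, v⁻¹ = v := fun v hv => inv_eq_of_mul_eq_one_right (by rw [← pow_two, v2 v hv])
  have hy' : w * y * w⁻¹ = y := (hfix y hyU).2 (.inr rfl)
  have hc : ∀ v ∈ V, w * v * w⁻¹ * v⁻¹ = 1 ∨ w * v * w⁻¹ * v⁻¹ = y := fun v hv =>
    (hfix _ (hVU (mul_mem (hVw v hv) (inv_mem hv)))).1 (by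
      rw [vi v hv, vc _ (hVw v hv) _ hv]
      conv_rhs => rw [vc _ hv _ (hVw v hv), ← ww v]
      rw [ww]
      calc _ = w * v * w⁻¹ * (w * (w * v * w⁻¹) * w⁻¹) := by group
        _ = _ := by rw [ww])
  have hz : ∀ u, u = 1 ∨ u = y → u ∈ zpowers y := by
    rintro _ (rfl | rfl); exacts [one_mem _, mem_zpowers _]
  obtain ⟨v, hv, hv'⟩ : ∃ v ∈ V, v ∉ zpowers y := by
    by_contra! h
    exact hVc (CfsgH2.isCyclic_of_le' inferInstance h)
  have e0 : w * v * w⁻¹ * v⁻¹ = y := (hc v hv).resolve_left fun e =>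
    hv' (hz v ((hfix v (hVU hv)).1 (mul_inv_eq_one.1 e)))
  have oy : orderOf y = 2 := orderOf_eq_prime (v2 y hyV) hy
  have hN : U ≤ N(V) := (normal_subgroupOf_iff_le_normalizer hVU).1 hVn
  have key : ∀ u ∈ U, u⁻¹ * (w * u * w⁻¹) ∈ V → u ∈ V := fun u hu h => by
    have : w * (u⁻¹ * (w * u * w⁻¹)) * w⁻¹ = u⁻¹ * (w * u * w⁻¹) := by
      rw [← vi _ h]
      conv_lhs => rw [vi _ h]
      calc _ = (w * u * w⁻¹)⁻¹ * (w * (w * u * w⁻¹) * w⁻¹) := by group
        _ = _ := by rw [ww]; group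
    rcases (hfix _ (hVU h)).1 this with e | e
    · exact zpowers_le.2 hyV (hz u ((hfix u hu).1 (inv_mul_eq_one.1 e).symm))
    · refine (mul_mem_cancel_right hv).1 (zpowers_le.2 hyV (hz _ ((hfix _ (mul_mem hu (hVU hv))).1 ?_)))
      calc _ = u * (u⁻¹ * (w * u * w⁻¹)) * (w * v * w⁻¹ * v⁻¹) * v := by group
        _ = _ := by rw [e, e0, mul_assoc u, ← pow_two, v2 y hyV, mul_one]
  let φ : U →* U := (conjHom (zpowers_le.2 hwU) ⟨w, mem_zpowers w⟩).toMonoidHom
  have hφ : ∀ u : U, (φ u : H) = w * u * w⁻¹ := fun u => rfl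
  let ψ := QuotientGroup.map (V.subgroupOf U) (V.subgroupOf U) φ fun x hx => hVw x hx
  have h1 : MonoidHom.FixedPointFree ψ := fun x hx => by
    obtain ⟨u, rfl⟩ := QuotientGroup.mk_surjective x
    exact (QuotientGroup.eq_one_iff _).2 (key u u.2 ((QuotientGroup.eq (a := u) (b := φ u)).1 hx.symm))
  have h2 : Function.Involutive ψ := fun x => by
    obtain ⟨u, rfl⟩ := QuotientGroup.mk_surjective x
    exact congrArg QuotientGroup.mk (Subtype.ext (ww u) : φ (φ u) = u)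
  refine ⟨fun h => Nat.not_even_iff_odd.2 (h1.odd_card_of_involutive h2) (even_iff_two_dvd.2 h), ?_,
    commutator_le.2 fun a ha b hb => ?_⟩
  · have e1 : V = zpowers y ⊔ zpowers v := by
      refine le_antisymm (fun x hx => ?_) (sup_le (zpowers_le.2 hyV) (zpowers_le.2 hv))
      rcases hc x hx with e | e
      · exact mem_sup_left (hz x ((hfix x (hVU hx)).1 (mul_inv_eq_one.1 e)))
      · refine (mul_mem_cancel_right (mem_sup_right (mem_zpowers v))).1
          (mem_sup_left (hz _ ((hfix _ (hVU (mul_mem hx hv))).1 ?_)))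
        calc _ = (w * x * w⁻¹ * x⁻¹) * (x * (w * v * w⁻¹ * v⁻¹)) * v := by group
          _ = _ := by rw [e, e0, vc x hx y hyV, ← mul_assoc y, ← pow_two, v2 y hyV, one_mul]
    rw [e1, card_sup_zpowers (p := 2) (centralizer_le_normalizer _ (by
      rw [centralizer_zpowers']; exact mem_C1.2 (vc v hv y hyV))) hv' (by rw [v2 v hv]; exact one_mem _),
      Nat.card_zpowers, oy]
  · have := h1.commute_all_of_involutive h2 (QuotientGroup.mk ⟨a, ha⟩) (QuotientGroup.mk ⟨b, hb⟩)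
    rw [← commutatorElement_eq_one_iff_commute] at this
    exact (QuotientGroup.eq_one_iff (N := V.subgroupOf U) ⁅(⟨a, ha⟩ : U), (⟨b, hb⟩ : U)⁆).1 this

end Cfsg.Agent.S3825
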