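import Cfsg.Statements.S3835
import Cfsg.Agent.H9.Qd

set_option autoImplicit false
open Cfsg

namespace Cfsg.Agent.S3835

/-- Let p be an odd prime and n a natural number. The alternating group of degree n has a subgroup isomorphic to Qd(p) (the natural semidirect product of an elementary abelian group of order p² by SL₂(p)) if and only if n ≥ p²; and if n < p² then Qd(p) is not even involved in it. -/
theorem result {p : ℕ} [Fact p.Prime] (hp : p ≠ 2) (n : ℕ) : ((∃ H : Subgroup (alternatingGroup (Fin n)), Nonempty (↥H ≃* ↥(Cfsg.qd p))) ↔ p ^ 2 ≤ n) ∧ (n < p ^ 2 → ¬ Cfsg.Involves ↥(Cfsg.qd p) ↥(alternatingGroup (Fin n))) := by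
  have key : n < p ^ 2 → ¬ CfsgH9.Sec (qd p) (alternatingGroup (Fin n)) := fun hn k => by
    obtain ⟨S⟩ : Nonempty (Sylow p (⊤ : Subgroup (Equiv.Perm (Fin n)))) := inferInstance
    refine CfsgH9.not_sec_qd_of_comm S ⟨⟨fun x y => ?_⟩⟩ (k.mono le_top)
    rw [← commutatorElement_eq_one_iff_mul_comm]
    ext i
    suffices h : commutator S ≤ MulAction.stabilizer S i from
      congrArg Fin.val (h (Subgroup.commutator_mem_commutator (Subgroup.mem_top x) (Subgroup.mem_top y)))
    obtain ⟨m, hm⟩ := S.2.index (MulAction.stabilizer S i)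
    have h1 : p ^ m < p ^ 2 := by
      rw [← hm, MulAction.index_stabilizer]
      exact lt_of_le_of_lt ((Set.ncard_le_card _).trans (Nat.card_fin n).le) hn
    have h2 := (Nat.pow_lt_pow_iff_right (Fact.out : p.Prime).one_lt).1 h1
    interval_cases m
    · exact le_top.trans (Subgroup.index_eq_one.1 hm).ge
    · exact (CfsgH2.commutator_le_frattini S.2).trans (frattini_le_coatom (CfsgH2.isCoatom_of_index_prime (hm.trans (pow_one p))))
  refine ⟨⟨fun ⟨H, ⟨e⟩⟩ => not_lt.1 fun hn => key hn (CfsgH9.sec_subtype.1 ((CfsgH9.sec_subgroup H).congr e)), fun hn => ?_⟩,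
    fun hn k => key hn (CfsgH9.sec_subtype.1 (CfsgH9.involves_iff.1 k))⟩
  obtain ⟨φ, hφ⟩ := CfsgH9.exists_perm_qdOver (F := ZMod p)
  obtain ⟨ι⟩ : Nonempty ((Fin 2 → ZMod p) ↪ Fin n) := Function.Embedding.nonempty_of_card_le (by simpa using hn)
  let ψ := (Equiv.Perm.viaEmbeddingHom ι).comp φ
  have hψ : Function.Injective ψ := (Equiv.Perm.viaEmbeddingHom_injective ι).comp hφ
  have h : (Equiv.Perm.sign.comp ψ).ker = ⊤ := CfsgH9.qd_eq_top_of_index fun k => hp ((Nat.prime_dvd_prime_iff_eq Fact.out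
    Nat.prime_two).1 (k.trans (by rw [Subgroup.index_ker]; simpa using Subgroup.card_subgroup_dvd_card (Equiv.Perm.sign.comp ψ).range)))
  let χ := ψ.codRestrict (alternatingGroup (Fin n)) fun x => h.ge (Subgroup.mem_top x)
  exact ⟨χ.range, ⟨(MonoidHom.ofInjective (f := χ) fun _ _ e => hψ (congrArg Subtype.val e)).symm⟩⟩

end Cfsg.Agent.S3835
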