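import Cfsg.Statements.S3836
import Cfsg.Agent.H9.Qd

set_option autoImplicit false
open Cfsg

namespace Cfsg.Agent.S3836

/-- Let G be a finite group that is p-stable in the normalizer form: for every p-subgroup Q and every x ∈ N_G(Q) with [Q, x, x] = 1, the image of x in N_G(Q)/C_G(Q) lies in O_p(N_G(Q)/C_G(Q)). Then every subgroup of G is p-stable in the same sense. -/
theorem result {G : Type*} [Group G] [Finite G] {p : ℕ} [Fact p.Prime] (hst : Cfsg.IsNormalizerPStable p G) (H : Subgroup G) : Cfsg.IsNormalizerPStable p ↥H := by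
  intro P hP g hg hq
  have hi := H.subtype_injective
  have k : (g : G) ∈ Subgroup.normalizer ((P.map H.subtype : Subgroup G) : Set G) :=
    Subgroup.le_normalizer_map _ (Subgroup.mem_map_of_mem _ hg)
  have hq' : ⁅⁅P.map H.subtype, Subgroup.zpowers (g : G)⁆, Subgroup.zpowers (g : G)⁆ ≤ ⊥ := by
    rw [show Subgroup.zpowers (g : G) = (Subgroup.zpowers g).map H.subtype from (MonoidHom.map_zpowers H.subtype g).symm,
      ← Subgroup.map_commutator, ← Subgroup.map_commutator, hq, Subgroup.map_bot]
  have := ((CfsgH9.inOp_iff (p := p) (A := Subgroup.zpowers (g : G)) (Subgroup.zpowers_le.2 k)).2 fun x hx =>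
    hst _ (hP.map H.subtype) x.1 x.2 (eq_bot_iff.2 ((Subgroup.commutator_mono (Subgroup.commutator_mono le_rfl
      (Subgroup.zpowers_le.2 (show x.1 ∈ Subgroup.zpowers (g : G) from hx))) (Subgroup.zpowers_le.2 (show x.1 ∈ Subgroup.zpowers (g : G) from hx))).trans hq'))).comap H.subtype
  exact (CfsgH9.inOp_iff (Subgroup.zpowers_le.2 hg)).1 (this.mono (C' := Subgroup.centralizer (P : Set H)) (fun x hx => Subgroup.le_normalizer_map _
    (Subgroup.mem_map_of_mem _ hx)) (fun x hx y hy => Subtype.ext (hx _ (Subgroup.mem_map_of_mem _ hy)))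
    (Subgroup.zpowers_le.2 (Subgroup.mem_zpowers _)) (Subgroup.zpowers_le.2 hg)) (x := ⟨g, hg⟩) (Subgroup.mem_zpowers g)

end Cfsg.Agent.S3836
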