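import Cfsg.Statements.S3838
import Cfsg.Agent.H2.Mix2
import Cfsg.Agent.H2.Transfer2
import Cfsg.Agent.H2.BS16

set_option autoImplicit false
open Cfsg

namespace Cfsg.Agent.S3838
open Subgroup CfsgH2
open scoped commutatorElement

open CfsgFT CfsgH1 CfsgLead

/-- Let G be a finite group with Sylow p-subgroup P such that N_G(P) has a normal p-complement. Then N_G(Q) has a normal p-complement for every subgroup Q with [P, P] ≤ Q ≤ Φ(P). -/
theorem result {G : Type*} [Group G] [Finite G] {p : ℕ} [Fact p.Prime] (P : Sylow p G) (hN : Cfsg.HasNormalPComplement p ↥(Subgroup.normalizer ((P : Subgroup G) : Set G))) (Q : Subgroup G) (h1 : (commutator ↥(P : Subgroup G)).map (P : Subgroup G).subtype ≤ Q) (h2 : Q ≤ (frattini ↥(P : Subgroup G)).map (P : Subgroup G).subtype) : Cfsg.HasNormalPComplement p ↥(Subgroup.normalizer (Q : Set G)) := by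
  rw [map_commutator_top] at h1
  have QP : Q ≤ P := h2.trans (map_subtype_le _)
  have nQ : (P : Subgroup G) ≤ N(Q) := le_norm_of_der_le h1 QP
  have hP := (IsSylowIn.of_sylow_top P).mono nQ le_top
  have h3 : HasNormalPComplement p (quo Q N(Q)) := by
    refine burnside_hasNPC (sylow_quo hP le_rfl) fun y hy => ?_
    obtain ⟨x, -, rfl⟩ := mem_quo.1 hy.1
    have hx : (x : G) ∈ N(Q) ⊓ N(P) := ⟨x.2, by
      have := unq_le_norm_unq (le_refl N(quo Q P)) (mem_unq.2 hy.2)
      rwa [unq_quo_of_le nQ QP] at this⟩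
    have h4 := hP.mono (le_inf nQ le_normalizer) inf_le_left
    have h5 := quo_mono (K := Q) h4.sup_resIn.ge (qm_mem_quo hx)
    rw [quo_sup nQ ((resIn_le _).trans inf_le_left)] at h5
    refine sup_le ((quo_le_cent_iff nQ nQ).2 h1) (quo_le_cent fun g hg => ?_) h5
    exact mem_centralizer_of_hasNPC (hasNPC_mono inf_le_right hN) P.2 h4.le hg (resIn_le _ hg).2
  have h4 : resIn p N(Q) ⊓ P ≤ Q := by
    rw [← quo_eq_bot_iff (inf_le_right.trans nQ), eq_bot_iff, ← (sylow_quo hP le_rfl).hasNPC_iff.1 h3]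
    refine le_inf (quo_mono inf_le_right) ((quo_mono inf_le_left).trans ?_)
    rw [quo, resIn_subgroupOf, ← resIn_top]
    exact (map_resIn_le _ _).trans (resIn_mono (map_mono (subgroupOf_self _).ge))
  have h5 := roquette (N := pResidual p N(Q)) hP.subgroupOf_top (fun x hx => by
    have := CfsgH2.map_frattini_le (H := P) (N := ((frattini ((P : Subgroup G).subgroupOf N(Q))).map (Subgroup.subtype _)).map (Subgroup.subtype _))
      (by rw [← map_subtype_commutator_subgroupOf nQ nQ]
          exact map_mono (commutator_le_map_frattini hP.subgroupOf_top.pgroup))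
      (fun y hy => ⟨_, pow_mem_map_frattini hP.subgroupOf_top.pgroup (x := ⟨y, nQ hy⟩) hy, rfl⟩)
      (h2 (h4 ⟨by rw [← map_pResidual]; exact mem_map_of_mem _ hx.1, hx.2⟩))
    exact (mem_map_iff_mem (subtype_injective _)).1 this)
  exact hasNPC_top_iff.1 (hasNPC_of_resIn_le resIn_top.le h5)


end Cfsg.Agent.S3838
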