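import Cfsg.Statements.S3839
import Cfsg.Agent.H2.Mix2

set_option autoImplicit false
open Cfsg

namespace Cfsg.Agent.S3839
open Subgroup CfsgH2
open scoped commutatorElement

open CfsgFT CfsgH1 CfsgLead

/-- A Frobenius normal p-complement criterion relative to a strongly closed subgroup. Let G be a finite group, S a Sylow p-subgroup and D a subgroup of S strongly closed in S with respect to G. Then G has a normal p-complement if and only if N_G(U) has a normal p-complement for every subgroup U of D with C_D(U) ≤ U. -/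
theorem result {G : Type*} [Group G] [Finite G] {p : ℕ} [Fact p.Prime] (S : Sylow p G) (D : Subgroup G) (hD : Cfsg.IsStronglyClosed D (S : Subgroup G)) : Cfsg.HasNormalPComplement p G ↔ ∀ U : Subgroup G, U ≤ D → D ⊓ Subgroup.centralizer (U : Set G) ≤ U → Cfsg.HasNormalPComplement p ↥(Subgroup.normalizer (U : Set G)) := by
  refine ⟨fun h U _ _ => hasNPC_subgroup h _, fun h => frobenius_radical (IsSylowIn.of_sylow_top S) fun Q hQ _ hr g hg ho => ?_⟩
  have nU : N(Q) ≤ N(Q ⊓ D) := fun a ha => CfsgH2.mem_normalizer_of_conj_mem fun x hx =>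
    have := CfsgH2.conj_mem_of_mem_normalizer ha hx.1
    ⟨this, hD.2 x hx.2 a (hQ this)⟩
  have nD : (S : Subgroup G) ≤ N(D) := fun a ha => CfsgH2.mem_normalizer_of_conj_mem fun x hx =>
    hD.2 x hx a (mul_mem (mul_mem ha (hD.1 hx)) (inv_mem ha))
  have pQ := S.2.to_le hQ
  have k := hr (N(Q) ⊓ C(Q ⊓ D) ⊓ centMod (Q ⊓ D) Q) (inf_le_left.trans inf_le_left)
    (le_normalizer_inf' (le_normalizer_inf' le_normalizer (le_normalizer_centralizer' nU)) fun a ha =>
      CfsgH2.mem_normalizer_of_conj_mem fun x hx => ⟨mul_mem (mul_mem (nU ha) hx.1) (inv_mem (nU ha)), fun s hs => by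
        simpa [mul_assoc] using CfsgH2.conj_mem_of_mem_normalizer (nU ha) (hx.2 _ (conj_mem_of_mem_normalizer' ha hs))⟩)
    fun x hx o => cent_symm (le_centralizer_of_commutator_le (A := zpowers x) (N := Q ⊓ D)
      (coprime_card_of_pgroup (pQ.to_le inf_le_left) (by rwa [Nat.card_zpowers]))
      ((Subgroup.commutator_comm _ _).le.trans (commutator_zpowers_le hx.2.1 hx.2.2)) (cent_symm (zpowers_le.2 hx.1.2))) (mem_zpowers x)
  refine mem_centralizer_of_hasNPC (hasNPC_mono nU (h _ inf_le_right (le_inf ?_ inf_le_left))) pQ le_normalizer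
    (mem_resIn_of_coprime hg ho) hg
  by_contra c
  have nX : Q ≤ N(D ⊓ C(Q ⊓ D)) := le_normalizer_inf' (hQ.trans nD) (le_normalizer_centralizer' (le_normalizer.trans nU))
  obtain ⟨y, ⟨y1, y2⟩, y3⟩ := SetLike.exists_of_lt (lt_inf_normalizer (S.2.to_le (sup_le hQ (inf_le_left.trans hD.1)))
    (left_lt_sup.2 c))
  obtain ⟨u, hu, x, hx, rfl⟩ := (mem_sup_of_normalizer' nX).1 y1
  have x1 : x ∈ N(Q) := (mul_mem_cancel_left (le_normalizer hu)).1 y2
  refine y3 (mul_mem hu (k ⟨hD.1 hx.1, ⟨x1, hx.2⟩, nU x1, fun s hs => ⟨?_, ?_⟩⟩))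
  · exact Q.mul_mem (CfsgH2.conj_mem_of_mem_normalizer x1 hs) (Q.inv_mem hs)
  · simpa [mul_assoc] using D.mul_mem hx.1 (CfsgH2.conj_mem_of_mem_normalizer (nD (hQ hs)) (D.inv_mem hx.1))


end Cfsg.Agent.S3839
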