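import Cfsg.Statements.S3857
import Cfsg.Agent.H1.CN

set_option autoImplicit false
open Cfsg

namespace Cfsg.Agent.S3857

open Subgroup CfsgH1 CfsgFT CfsgH2 in
theorem aux {G : Type*} [Group G] [Finite G] [Group.IsSolvable G] {π : Set ℕ} (s : CfsgH1.Sep π G) (h0 : piCore πᶜ G = ⊥)
    (h1 : ∃ a ∈ π, a.Prime ∧ a ∣ Nat.card G) (h2 : ∃ a ∈ πᶜ, a.Prime ∧ a ∣ Nat.card G) :
    (∃ C : Subgroup G, Cfsg.IsFrobeniusComplement C) ∨
    (∃ (H K : Subgroup G) (_ : H.Normal), K.Normal ∧ H < K ∧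
      (∃ C : Subgroup ↥K, Cfsg.IsFrobeniusComplement C ∧ Cfsg.frobeniusKernel C = (H.subgroupOf K : Set ↥K)) ∧
      (∃ C : Subgroup (G ⧸ H), Cfsg.IsFrobeniusComplement C ∧
        Cfsg.frobeniusKernel C = (K.map (QuotientGroup.mk' H) : Set (G ⧸ H)))) := by
  obtain ⟨A, a1, a2, a3⟩ := sep_struct s h0
  have pH : IsPi π (piCore π G) := isPiNum_card_piCore _ _
  rcases eq_or_ne (piCore π G ⊔ A) ⊤ with a4 | a4
  · refine .inl ⟨A, (frob_pair a4 (fun e => ?_) (fun e => ?_) (s.fpf pH a1)).2.1⟩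
    · obtain ⟨a, b1, b2, b3⟩ := h1
      rw [e, bot_sup_eq] at a4
      exact a1 a b2 (by rwa [a4, card_top]) b1
    · obtain ⟨a, b1, b2, b3⟩ := h2
      rw [e, sup_bot_eq] at a4
      exact b1 (pH a b2 (by rwa [a4, card_top]))
  obtain ⟨b1, -, -, b4, b5⟩ := a3.resolve_left a4
  have d := pH.inf_eq_bot a1
  have q := QuotientGroup.mk'_surjective (piCore π G)
  obtain ⟨L, hL⟩ := CfsgFT.exists_hall (M := (⊤ : Subgroup (G ⧸ piCore π G))) inferInstance π
  haveI := a2.map _ q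
  have i : ((piCore π G ⊔ A).map (QuotientGroup.mk' (piCore π G))).index = (piCore π G ⊔ A).index :=
    index_map_eq _ q (by simp)
  have e := hL.sup_eq_of_idx (le_top (a := (piCore π G ⊔ A).map (QuotientGroup.mk' (piCore π G)))) (by simpa [i] using b4)
  have m : (piCore π G ⊔ A).map (QuotientGroup.mk' (piCore π G)) = A.map (QuotientGroup.mk' (piCore π G)) := by
    rw [Subgroup.map_sup, (Subgroup.map_eq_bot_iff _).2 (QuotientGroup.ker_mk' _).ge, bot_sup_eq]
  refine .inr ⟨_, _, inferInstance, a2, left_lt_sup.2 fun l => b1 (d ▸ (inf_eq_right.2 l).symm),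
    ⟨_, frob_in le_normalizer_of_normal b5 b1 (s.fpf pH a1)⟩, L, (frob_pair ((sup_comm _ _).trans e) (fun k => ?_) (fun k => ?_)
    ((s.quot _ q).compl.fpf (m ▸ a1.map _) (isPi_compl_compl.2 hL.isPi))).2⟩
  · rw [m, Subgroup.map_eq_bot_iff, QuotientGroup.ker_mk'] at k
    exact b1 (d ▸ (inf_eq_right.2 k).symm)
  · rw [k, bot_sup_eq, ← index_eq_one, i, index_eq_one] at e
    exact a4 e

/-- A finite solvable group whose prime graph (prime divisors of the order, two distinct primes joined when there is an element of order their product) is disconnected is a Frobenius group or a 2-Frobenius group (it has normal subgroups H < K with K a Frobenius group with kernel H and G/H a Frobenius group with kernel K/H). -/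
theorem result {G : Type*} [Group G] [Finite G] (hsol : Group.IsSolvable G)
    (hdisc : (∃ A : Set ℕ, (∃ a ∈ A, a.Prime ∧ a ∣ Nat.card G) ∧ (∃ b ∉ A, b.Prime ∧ b ∣ Nat.card G) ∧
      ∀ a ∈ A, ∀ b ∉ A, a.Prime → b.Prime → a ∣ Nat.card G → b ∣ Nat.card G → ¬ ∃ g : G, orderOf g = a * b)) :
    (∃ C : Subgroup G, Cfsg.IsFrobeniusComplement C) ∨
    (∃ (H K : Subgroup G) (_ : H.Normal), K.Normal ∧ H < K ∧
      (∃ C : Subgroup ↥K, Cfsg.IsFrobeniusComplement C ∧ Cfsg.frobeniusKernel C = (H.subgroupOf K : Set ↥K)) ∧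
      (∃ C : Subgroup (G ⧸ H), Cfsg.IsFrobeniusComplement C ∧ Cfsg.frobeniusKernel C = (K.map (QuotientGroup.mk' H) : Set (G ⧸ H)))) := by
  open Subgroup CfsgH1 CfsgFT CfsgH2 in
  obtain ⟨A, h1, h2, h3⟩ := hdisc
  have s : CfsgH1.Sep A G := sep_of fun x y hx hy a b e => h3 _ a _ b hx hy (orderOf_dvd_natCard x) (orderOf_dvd_natCard y)
    ⟨_, (show Commute x y from e).orderOf_mul_eq_mul_orderOf_of_coprime ((Nat.coprime_primes hx hy).2 fun k => b (k ▸ a))⟩
  rcases eq_or_ne (piCore Aᶜ G) ⊥ with e | e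
  · exact aux s e h1 h2
  obtain ⟨⟨y, y1⟩, y2⟩ := ne_bot_iff_exists_ne_one.1 e
  refine aux s.compl ?_ h2 (by rwa [compl_compl])
  rw [compl_compl, ← s.fpf (isPiNum_card_piCore A G) (isPiNum_card_piCore _ G) y y1 fun e => y2 (Subtype.ext e), left_eq_inf]
  exact (le_centralizer_of_normalize le_normalizer_of_normal le_normalizer_of_normal disjoint_piCore_compl.eq_bot).trans
    (cent_le_cent1 y1)

end Cfsg.Agent.S3857
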