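import Cfsg.Statements.S3858
import Cfsg.Agent.H1.PG2

set_option autoImplicit false
open Cfsg

namespace Cfsg.Agent.S3858

/-- Let G be a finite group with a normal non-abelian simple subgroup T whose centralizer is trivial (G almost simple with socle T), r a prime and R a Sylow r-subgroup of G meeting T nontrivially. Then R lies in exactly one maximal subgroup of G if and only if G has exactly one conjugacy class of maximal subgroups whose index is prime to r. -/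
theorem result {G : Type*} [Group G] [Finite G] (T : Subgroup G) [T.Normal] (hT : IsSimpleGroup T) (hna : ¬ IsMulCommutative T)
    (hC : Subgroup.centralizer (T : Set G) = ⊥) {r : ℕ} [Fact r.Prime] (R : Sylow r G) (hR0 : (R : Subgroup G) ⊓ T ≠ ⊥) :
    (∃! M : Subgroup G, IsCoatom M ∧ (R : Subgroup G) ≤ M) ↔
      ((∃ M : Subgroup G, IsCoatom M ∧ ¬ r ∣ M.index) ∧
        ∀ M₁ M₂ : Subgroup G, IsCoatom M₁ → ¬ r ∣ M₁.index → IsCoatom M₂ → ¬ r ∣ M₂.index → ∃ g : G, M₂ = M₁.map (MulAut.conj g).toMonoidHom) := by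
  open Subgroup CfsgH1 CfsgFT CfsgH2 in
  simp only [cj_def]
  have hR := IsSylowIn.of_sylow_top R
  have k1 : ∀ M : Subgroup G, (R : Subgroup G) ≤ M → ¬ r ∣ M.index := fun M h => by
    simpa using hR.not_dvd_of_le h le_top
  have k2 : ∀ M : Subgroup G, ¬ r ∣ M.index → ∃ g, (R : Subgroup G) ≤ cj g M := fun M h => by
    obtain ⟨S, hS⟩ := IsSylowIn.exists_sylowIn (p := r) M
    obtain ⟨g, -, e⟩ := (hS.trans_of_not_dvd le_top (by simpa using h)).exists_cj_eq hR
    exact ⟨g, e ▸ cj_mono g hS.le⟩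
  have k3 : ∀ (g : G) (M : Subgroup G), IsCoatom M → IsCoatom (cj g M) := fun g M h =>
    (OrderIso.isCoatom_iff (MulAut.conj g).mapSubgroup M).2 h
  refine ⟨fun ⟨M, h1, h2⟩ => ⟨⟨M, h1.1, k1 M h1.2⟩, fun A B a1 a2 b1 b2 => ?_⟩, fun ⟨_, h⟩ => ?_⟩
  · obtain ⟨g, hg⟩ := k2 A a2
    obtain ⟨k, hk⟩ := k2 B b2
    refine ⟨k⁻¹ * g, ?_⟩
    rw [← cj_cj, h2 _ ⟨k3 g A a1, hg⟩, ← h2 _ ⟨k3 k B b1, hk⟩, cj_inv_cj]
  · have h1 : N((R : Subgroup G)) ≠ ⊤ := fun e => by
      have := normalizer_eq_top_iff.1 e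
      rcases hT.eq_bot_or_eq_top_of_normal ((R : Subgroup G).subgroupOf T) inferInstance with h | h
      · exact hR0 (disjoint_iff.1 (subgroupOf_eq_bot.1 h))
      · have := (R.isPGroup'.to_le (subgroupOf_eq_top.1 h)).isNilpotent
        exact hna ⟨⟨IsSimpleGroup.comm_iff_isSolvable.2 inferInstance⟩⟩
    obtain ⟨M, hM, h2⟩ := (eq_top_or_exists_le_coatom _).resolve_left h1
    refine ⟨M, ⟨hM, le_normalizer.trans h2⟩, fun D hD => ?_⟩
    obtain ⟨g, rfl⟩ := h M D hM (k1 M (le_normalizer.trans h2)) hD.1 (k1 D hD.2)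
    obtain ⟨m, hm, e⟩ := (hR.mono hD.2 le_top).exists_cj_eq ((hR.mono (le_normalizer.trans h2) le_top).cj g)
    have h3 : g⁻¹ * m ∈ M := h2 (cj_eq_iff_mem_normalizer.1 (by rw [← cj_cj, e, cj_inv_cj]))
    have h4 := mul_mem (inv_mem h3) (mem_cj.1 hm)
    exact cj_eq_of_mem (by simpa [mul_assoc] using h4)

end Cfsg.Agent.S3858
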