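import Cfsg.Statements.S3859
import Cfsg.Agent.H1.PG2

set_option autoImplicit false
open Cfsg

namespace Cfsg.Agent.S3859

/-- Let G be a finite group with a normal non-abelian simple subgroup T whose centralizer is trivial (G almost simple with socle T), r a prime and R a Sylow r-subgroup of G meeting T nontrivially. If R lies in exactly one maximal subgroup of G, then G/T is an r-group. -/
theorem result {G : Type*} [Group G] [Finite G] (T : Subgroup G) [T.Normal] (hT : IsSimpleGroup T) (hna : ¬ IsMulCommutative T)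
    (hC : Subgroup.centralizer (T : Set G) = ⊥) {r : ℕ} [Fact r.Prime] (R : Sylow r G) (hR0 : (R : Subgroup G) ⊓ T ≠ ⊥)
    (huniq : ∃! M : Subgroup G, IsCoatom M ∧ (R : Subgroup G) ≤ M) : IsPGroup r (G ⧸ T) := by
  open Subgroup CfsgH1 CfsgFT CfsgH2 in
  obtain ⟨M, h1, h2⟩ := huniq
  have hS := IsSylowIn.sylow_inf_normal R T
  have k : ∀ D : Subgroup G, D ≠ ⊤ → (R : Subgroup G) ≤ D → D ≤ M := fun D h e => by
    obtain ⟨L, hL, h3⟩ := (eq_top_or_exists_le_coatom _).resolve_left h
    exact h2 L ⟨hL, e.trans h3⟩ ▸ h3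
  have h3 := k N((R : Subgroup G) ⊓ T) (fun e => by
    have := normalizer_eq_top_iff.1 e
    rcases hT.eq_bot_or_eq_top_of_normal (((R : Subgroup G) ⊓ T).subgroupOf T) inferInstance with h | h
    · exact hR0 (by simpa using disjoint_iff.1 (subgroupOf_eq_bot.1 h))
    · have := (hS.pgroup.to_le (subgroupOf_eq_top.1 h)).isNilpotent
      exact hna ⟨⟨IsSimpleGroup.comm_iff_isSolvable.2 inferInstance⟩⟩)
    (CfsgH1.le_normalizer_inf le_normalizer le_normalizer_of_normal)
  have h4 : (R : Subgroup G) ⊔ T = ⊤ := by_contra fun e => h1.1.1 ((eq_top_iff' _).2 fun g => by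
    obtain ⟨n, hn, h⟩ := hS.frattini (le_normalizer_of_normal (mem_top g))
    exact (mul_mem_cancel_left (k _ e le_sup_left (mem_sup_right hn))).1 (h3 h))
  refine R.isPGroup'.of_surjective ((QuotientGroup.mk' T).comp (R : Subgroup G).subtype) fun x => ?_
  obtain ⟨g, rfl⟩ := QuotientGroup.mk'_surjective T x
  obtain ⟨a, ha, b, hb, rfl⟩ := mem_sup_of_normal_right.1 (h4.ge (mem_top g))
  exact ⟨⟨a, ha⟩, by simp [(QuotientGroup.eq_one_iff b).2 hb]⟩

end Cfsg.Agent.S3859
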