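import Cfsg.Statements.S4050
import Cfsg.Agent.H2.Cls

set_option autoImplicit false
open Cfsg

namespace Cfsg.Agent.S4050
open Subgroup CfsgH2
open scoped commutatorElement

open CfsgFT CfsgH1

theorem lift_cent {G G' : Type*} [Group G] [Finite G] [Group G'] {f : G →* G'} (hf : Function.Surjective f) {q : ℕ}
    [hq : Fact q.Prime] {π : Set ℕ} (hk : ¬ q ∣ Nat.card f.ker) (h : ∀ Q : Subgroup G, Q ≠ ⊥ → IsPGroup q Q →
      IsPiNum πᶜ ((C(Q)).relIndex N(Q))) {S : Subgroup G'} (hS : IsPGroup q S) {x : G'} (hx : x ∈ N(S))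
    (ho : IsPiNum π (orderOf x)) : x ∈ C(S) := by
  haveI := Finite.of_surjective f hf
  obtain ⟨Q, hQ⟩ := IsSylowIn.exists_sylowIn q (S.comap f)
  have h1 := hQ.map f
  rw [map_comap_eq_self_of_surjective hf] at h1
  obtain rfl := h1.eq_of_isPGroup hS
  by_cases e : Q = ⊥
  · rw [e, Subgroup.map_bot, cent_bot]; trivial
  rw [normalizer_map_of_coprime f hf (IsPGroup.coprime_card_of_coprime hQ.pgroup
    ((Nat.Prime.coprime_iff_not_dvd hq.out).2 hk).symm) (.inl (isSolvable_of_isPGroup hQ.pgroup))] at hx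
  obtain ⟨x, hx, rfl⟩ := hx
  exact mem_of_pow_mem_of_coprime (ho.coprime (h Q e hQ.pgroup)) (map_pow f x _ ▸ map_le_cent f le_rfl
    (mem_map_of_mem f (pow_relIndex_mem' (CfsgH2.normalizer_le_normalizer_centralizer Q) hx)))

theorem closed_of {G : Type*} [Group G] [Finite G] {π : Set ℕ} (h : PiSep True π G)
    (hom : ∀ H : Subgroup G, H ≠ ⊥ → IsPiNum πᶜ (Nat.card H) → IsPiNum πᶜ ((C(H)).relIndex N(H))) (x : G) :
    x ∈ piCore π G ↔ IsPiNum π (orderOf x) := by
  refine ⟨fun hx => (isPiNum_card_piCore π G).of_dvd (Subgroup.orderOf_dvd_natCard _ hx), fun hx => ?_⟩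
  have h1 := hx.of_dvd (orderOf_map_dvd (QuotientGroup.mk' (piCore π G)) x)
  have h2 := isPiNum_card_piCore πᶜ (G ⧸ piCore π G)
  refine (QuotientGroup.eq_one_iff x).1 (orderOf_eq_one_iff.1 (h1.eq_one (h2.of_dvd (Subgroup.orderOf_dvd_natCard _
    ((h.quotient _).compl.centralizer_piCore_le (by rw [compl_compl]; exact piCore_quotient_piCore π G)
      (le_cent1_iff.1 (le_of_forall_sylowIn_le fun q hq a => ?_)))))))
  obtain ⟨S, b, c⟩ := exists_invariant_sylow (A := zpowers (QuotientGroup.mk' (piCore π G) x))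
    (K := piCore πᶜ (G ⧸ piCore π G))
    (le_top.trans (normalizer_eq_top _).ge) (by rw [Nat.card_zpowers]; exact h1.coprime h2)
      (.inl (isSolvable_zpowers _)) q
  exact ⟨S, b, le_cent1_iff.2 (lift_cent (QuotientGroup.mk'_surjective _) (fun e => h2 q hq.out a
    (isPiNum_card_piCore π G q hq.out (by rwa [QuotientGroup.ker_mk'] at e))) (fun Q d e => hom Q d
      (.of_isPGroup e (h2 q hq.out a))) b.pgroup (c (mem_zpowers _)) h1)⟩

theorem of_closed {G : Type*} [Group G] [Finite G] {π : Set ℕ} {K : Subgroup G}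
    (h : ∀ x, x ∈ K ↔ IsPiNum π (orderOf x)) : K.Normal ∧ IsPiNum π (Nat.card K) ∧ IsPiNum πᶜ K.index := by
  haveI : K.Normal := ⟨fun x hx g => (h _).2 (by rw [orderOf_conj']; exact (h x).1 hx)⟩
  refine ⟨this, fun q hq a => ?_, fun q hq a b => ?_⟩
  · haveI := Fact.mk hq
    obtain ⟨x, hx⟩ := exists_prime_orderOf_dvd_card' q a
    exact (h x).1 x.2 q hq (by rw [orderOf_coe, hx])
  · haveI := Fact.mk hq
    obtain ⟨S, hS⟩ := IsSylowIn.exists_sylowIn q (⊤ : Subgroup G)
    exact hS.not_dvd_of_le (fun x hx => (h x).2 ((IsPiNum.of_isPGroup hS.pgroup b).of_dvd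
      (Subgroup.orderOf_dvd_natCard _ hx))) le_top (by rwa [relIndex_top_right])

theorem sep_of_closed {G : Type*} [Group G] [Finite G] {π : Set ℕ} {K : Subgroup G}
    (h : ∀ x, x ∈ K ↔ IsPiNum π (orderOf x)) : PiSep True π G := by
  obtain ⟨a, b, c⟩ := of_closed h
  exact PiSep.of_normal_of_quotient K (piSep_of_isPiNum b) (compl_compl π ▸ (piSep_of_isPiNum (s := True) c).compl)

/-- Let π be a set of primes and G a finite group. The π-elements of G (elements whose order is divisible only by primes of π) form a subgroup if and only if G is π-separable (it has a chain of normal subgroups from 1 to G with each successive index divisible only by primes in π or only by primes outside π) and N_G(H)/C_G(H) is a π'-group for every nontrivial π'-subgroup H of G. -/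
theorem result {G : Type*} [Group G] [Finite G] (π : Set ℕ)
    (hπ : ∀ p ∈ π, p.Prime) :
    (∃ K : Subgroup G, ∀ x : G, x ∈ K ↔ ∀ p : ℕ, p.Prime → p ∣ orderOf x → p ∈ π) ↔
    ((∃ (n : ℕ) (H : Fin (n + 1) → Subgroup G), H 0 = ⊥ ∧ H (Fin.last n) = ⊤ ∧ Monotone H ∧ (∀ i, (H i).Normal) ∧
      ∀ i : Fin n, (∀ q : ℕ, q.Prime → q ∣ (H i.castSucc).relIndex (H i.succ) → q ∈ π) ∨
        (∀ q : ℕ, q.Prime → q ∣ (H i.castSucc).relIndex (H i.succ) → q ∉ π)) ∧
     (∀ H : Subgroup G, H ≠ ⊥ → (∀ p : ℕ, p.Prime → p ∣ Nat.card ↥H → p ∉ π) →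
        ∀ p : ℕ, p.Prime → p ∣ (Subgroup.centralizer (H : Set G)).relIndex (Subgroup.normalizer (H : Set G)) → p ∉ π)) := by
  constructor
  · rintro ⟨K, h⟩
    obtain ⟨a, b, c⟩ := of_closed h
    refine ⟨⟨2, ![⊥, K, ⊤], rfl, rfl, Fin.monotone_iff_le_succ.2 fun i => by fin_cases i <;> simp, fun i => by
      fin_cases i <;> simp <;> infer_instance, fun i => ?_⟩, fun H _ h1 => c.of_dvd ?_⟩
    · fin_cases i
      · exact .inl (by simpa [IsPiNum] using b)
      · exact .inr (by simpa [IsPiNum] using c)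
    refine dvd_trans ?_ (relIndex_dvd_index_of_normal K N(H))
    rw [← inf_relIndex_right K]
    exact relIndex_dvd_of_le_left _ (cent_of_comm_eq_bot (le_bot_iff.1 ((le_inf ((commutator_mono inf_le_left
      le_rfl).trans (commutator_le_left _ _)) (comm_le_right inf_le_right)).trans
        (disjoint_of_coprime_natCard (b.coprime h1)).le_bot)))
  · rintro ⟨⟨n, H, h0, hn, -, hnorm, hi⟩, hom⟩
    refine ⟨_, closed_of (fun N hN hNt => ?_) hom⟩
    have : ∃ i : Fin n, H i.castSucc ≤ N ∧ ¬ H i.succ ≤ N := by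
      by_contra hcon
      push Not at hcon
      have : ∀ i : Fin (n + 1), H i ≤ N := fun i =>
        Fin.induction (by rw [h0]; exact bot_le) (fun i hi => hcon i hi) i
      exact hNt (top_le_iff.mp (hn ▸ this _))
    obtain ⟨i, h1, h2⟩ := this
    haveI := hnorm i.succ
    have hdvd : N.relIndex (N ⊔ H i.succ) ∣ (H i.castSucc).relIndex (H i.succ) := by
      rw [relIndex_sup_left]; exact relIndex_dvd_of_le_left _ h1
    exact ⟨N ⊔ H i.succ, inferInstance, left_lt_sup.mpr h2, (hi i).imp (fun h => IsPiNum.of_dvd h hdvd)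
      fun h => ⟨IsPiNum.of_dvd h hdvd, .inl trivial⟩⟩


end Cfsg.Agent.S4050
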