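import Cfsg.Statements.S4049
import Cfsg.Agent.S4050
import Cfsg.Agent.H2.BaerSuzuki
import Cfsg.Agent.H2.Invol
import Cfsg.Agent.H2.Transfer2

set_option autoImplicit false
open Cfsg

namespace Cfsg.Agent.S4049
open Subgroup CfsgH2
open scoped commutatorElement

open CfsgFT CfsgH1

/-- Let G be a finite group such that N_G(H)/C_G(H) has odd order for every nontrivial subgroup H of odd order. Then the Sylow 2-subgroups of G are normal. -/
theorem result {G : Type*} [Group G] [Finite G]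
    (hhom : ∀ H : Subgroup G, H ≠ ⊥ → ¬ 2 ∣ Nat.card ↥H →
        ¬ 2 ∣ (Subgroup.centralizer (H : Set G)).relIndex (Subgroup.normalizer (H : Set G))) (P : Sylow 2 G) :
    (P : Subgroup G).Normal := by
  have hf := QuotientGroup.mk'_surjective (pCore 2 G)
  suffices (P : Subgroup G) ≤ pCore 2 G by rw [le_antisymm this (pCore_le_sylow P)]; infer_instance
  rw [← QuotientGroup.ker_mk' (pCore 2 G), ← Subgroup.map_eq_bot_iff]
  by_contra c
  obtain ⟨t, -, ht⟩ := exists_invol_of_ne_bot (P.2.map _) c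
  have tt := mul_self_of_orderOf_two ht
  refine ne_one_of_orderOf_two ht (mem_bot.1 (pCore_quotient_pCore 2 G ▸ baer_suzuki fun g => ?_))
  obtain ⟨a, b, -, ⟨i, rfl⟩, ⟨k, d⟩, e, f⟩ := exists_p_part (p := 2) (t * (g * t * g⁻¹))
  simp only at e f
  have iv := conj_zpow_of_inv (invol_inverts tt (conj_mul_self tt g))
  refine isPGroup_closure_invol tt (conj_mul_self tt g) (k := k) ?_
  generalize t * (g * t * g⁻¹) = x at *
  by_cases o : x ^ i = 1
  · rw [f, o, mul_one, d]
  obtain ⟨q, hq, q1, _, ⟨j, hj⟩, q2, q3⟩ := exists_primePow_not_mem (M := ⊥) o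
  obtain rfl := (zpow_mul x i j).trans hj
  haveI := Fact.mk hq
  have q4 : q ≠ 2 := fun c => by
    rw [c] at q1; exact (Nat.Prime.coprime_iff_not_dvd Nat.prime_two).1 e.symm q1
  have := S4050.lift_cent (π := {2}) hf (by
    rw [QuotientGroup.ker_mk']
    obtain ⟨m, hm⟩ := IsPGroup.iff_card.1 (isPGroup_pCore 2 G)
    exact hm ▸ fun c => q4 ((Nat.prime_dvd_prime_iff_eq hq Nat.prime_two).1 (hq.dvd_of_dvd_pow c)))
    (fun Q a b r c d (e : r = 2) => hhom Q a (fun c => by
      obtain ⟨m, hm⟩ := IsPGroup.iff_card.1 b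
      exact q4 ((Nat.prime_dvd_prime_iff_eq Nat.prime_two hq).1 (Nat.prime_two.dvd_of_dvd_pow (hm ▸ c))).symm) (e ▸ d)) q2
    (x := t) (mem_norm_iff_cj.2 (by rw [cj_zpowers, iv, zpow_neg, zpowers_inv])) fun r a b =>
      (Nat.prime_dvd_prime_iff_eq a Nat.prime_two).1 (ht ▸ b)
  refine (q3 (eq_one_of_inv_of_odd (zpow_mul x i j ▸ odd_orderOf_zpow (coprime_two_iff_odd.1 e) j) ?_)).elim
  rw [← zpow_neg, ← iv, ← mem_cent.1 this _ (mem_zpowers _), mul_inv_cancel_right]


end Cfsg.Agent.S4049
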