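import Cfsg.Statements.S3861
import Cfsg.Agent.H2.Mix
import Cfsg.Agent.S4049

set_option autoImplicit false
open Cfsg

namespace Cfsg.Agent.S3861
open Subgroup CfsgH2
open scoped commutatorElement

open CfsgFT CfsgH1

/-- A finite group G has no non-identity element of odd order that is conjugate to its inverse if and only if the Sylow 2-subgroups of G are normal. -/
theorem result {G : Type*} [Group G] [Finite G] (P : Sylow 2 G) : (∀ x : G, x ≠ 1 → Odd (orderOf x) → ¬ IsConj x x⁻¹) ↔ (P : Subgroup G).Normal := by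
  refine ⟨fun h => S4049.result (fun H _ ho c => ?_) P, fun hP x h1 ho hc => h1 ?_⟩
  · obtain ⟨g, a, b, d⟩ := exists_pow_mem_of_dvd Nat.prime_two (CfsgH2.normalizer_le_normalizer_centralizer H) c
    simp only [mem_cent, not_forall] at b
    obtain ⟨x, hx, e⟩ := b
    have hy : x⁻¹ * (g * x * g⁻¹) ∈ H := H.mul_mem (H.inv_mem hx) (CfsgH2.conj_mem_of_mem_normalizer a hx)
    refine h _ (fun c => e ?_) (odd_orderOf_of_mem (Nat.two_dvd_ne_zero.1 ho |> Nat.odd_iff.2) hy) (isConj_iff.2 ⟨g, ?_⟩)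
    · rw [inv_mul_eq_one, eq_mul_inv_iff_mul_eq] at c; exact c
    · have := mem_cent.1 d x hx
      calc _ = g * x⁻¹ * g⁻¹ * (g ^ 2 * x) * (g ^ 2)⁻¹ := by group
        _ = _ := by rw [← this]; group
  · obtain ⟨c, hc⟩ := isConj_iff.1 hc
    have o : Odd (Nat.card (G ⧸ (P : Subgroup G))) := Nat.odd_iff.2 (Nat.two_dvd_ne_zero.1 P.not_dvd_index)
    refine eq_one_of_odd_of_mem P.2 ((QuotientGroup.eq_one_iff x).1 ?_) ho
    refine eq_one_of_real_of_odd (c := (c : G ⧸ (P : Subgroup G))) (o.of_dvd_nat (_root_.orderOf_dvd_natCard _))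
      (o.of_dvd_nat (_root_.orderOf_dvd_natCard _)) ?_
    rw [← QuotientGroup.mk_inv, ← QuotientGroup.mk_inv, ← QuotientGroup.mk_mul, ← QuotientGroup.mk_mul, hc]


end Cfsg.Agent.S3861
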