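import Cfsg.Statements.S3862
import Cfsg.Agent.H2.Mix2
import Cfsg.Agent.H1.BG36a
import Cfsg.Agent.H2.Transfer2

set_option autoImplicit false
open Cfsg

namespace Cfsg.Agent.S3862
open Subgroup CfsgH2
open scoped commutatorElement

open CfsgFT CfsgH1 CfsgLead

/-- If every 2-element of the finite group G that is conjugate to its inverse lies in the centre of G, then G has a normal 2-complement. -/
theorem result {G : Type*} [Group G] [Finite G] (h : ∀ x : G, (∃ j : ℕ, orderOf x = 2 ^ j) → IsConj x x⁻¹ → x ∈ Subgroup.center G) : Cfsg.HasNormalPComplement 2 G := by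
  obtain ⟨P⟩ : Nonempty (Sylow 2 G) := inferInstance
  by_contra c
  obtain ⟨Q, hQ, q, hq, q2, -, g, g1, g2, g3⟩ := exists_act_of_not_hasNPC P c
  haveI := Fact.mk hq
  obtain ⟨K, k1, ⟨k2, k3⟩, k4⟩ := exists_minimal_subgroup (Φ := fun K => zpowers g ≤ N(K) ∧ ⁅K, zpowers g⁆ ≠ ⊥) (A := Q)
    ⟨zpowers_le.2 g1, fun e => g3 (cent_symm (cent_of_comm_eq_bot e) (mem_zpowers g))⟩
  have hK := P.2.to_le (k1.trans hQ)
  have hm : ∀ U < K, zpowers g ≤ N(U) → ⁅U, zpowers g⁆ = ⊥ := fun U a b => by_contra fun d => a.ne (k4 U ⟨b, d⟩ a.le)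
  obtain ⟨-, e2, e3, e4, -⟩ := minimal_action hK k2 le_rfl le_normalizer
    (IsPGroup.coprime_card_of_coprime g2 ((Nat.coprime_primes Nat.prime_two hq).2 q2.symm)) k3 hm
  obtain ⟨x, hx, x1⟩ := SetLike.not_le_iff_exists.1 fun e => k3 (comm_eq_bot (e : K ≤ C(zpowers g)))
  have cm : ∀ y ∈ K, x * y * x⁻¹ * y⁻¹ ∈ ⁅K, K⁆ := fun y hy => commutator_mem_commutator hx hy
  let W : Subgroup G :=
    { carrier := {w | ∃ y ∈ K, x * y * x⁻¹ * y⁻¹ = w}
      one_mem' := ⟨1, one_mem _, by simp⟩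
      mul_mem' := by
        rintro _ _ ⟨y, hy, rfl⟩ ⟨z, hz, rfl⟩
        refine ⟨y * z, mul_mem hy hz, ?_⟩
        calc _ = x * y * x⁻¹ * (x * z * x⁻¹ * z⁻¹ * y⁻¹) := by group
          _ = _ := by rw [← mem_cent.1 (e4 (cm z hz)) _ (inv_mem hy)]; group
      inv_mem' := by
        rintro _ ⟨y, hy, rfl⟩
        refine ⟨y⁻¹, inv_mem hy, ?_⟩
        calc _ = y⁻¹ * ((x * y * x⁻¹ * y⁻¹)⁻¹ * y) := by group
          _ = _ := by rw [← mem_cent.1 (e4 (inv_mem (cm y hy))) y hy]; group }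
  have hW : W ≤ ⁅K, K⁆ := fun _ ⟨y, hy, e⟩ => e ▸ cm y hy
  have wA : zpowers g ≤ C(W) := cent_symm (hW.trans (e2.ge.trans inf_le_right))
  have wK : K ≤ N(W) := le_norm_of_cent' (hW.trans e4)
  have hD : K ⊓ centMod W K = K := by
    by_contra d
    refine x1 (cent_of_comm_eq_bot (hm _ (lt_of_le_of_ne inf_le_left d) fun a ha => CfsgH2.mem_normalizer_of_conj_mem
      fun u hu => ⟨CfsgH2.conj_mem_of_mem_normalizer (k2 ha) hu.1, ?_⟩) ⟨hx, wK hx, fun y hy => ⟨y, hy, rfl⟩⟩)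
    refine ⟨wK (CfsgH2.conj_mem_of_mem_normalizer (k2 ha) hu.1), fun s hs => ?_⟩
    simpa [mul_assoc] using CfsgH2.conj_mem_of_mem_normalizer (le_norm_of_cent wA ha)
      (hu.2.2 _ (conj_mem_of_mem_normalizer' (k2 ha) hs))
  obtain ⟨y, -, e⟩ := (le_centMod_iff wK).1 (hD.ge.trans inf_le_right) (e3 ▸ pow_mem_map_frattini hK hx)
  refine x1 fun a _ => mem_center_iff.1 (h x (exists_orderOf_eq_pow hK hx) (isConj_iff.2 ⟨y, ?_⟩)) a
  rw [pow_two, mul_assoc, mul_assoc, mul_right_inj] at e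
  rw [eq_inv_iff_mul_eq_one]
  nth_rw 2 [← e]
  group


end Cfsg.Agent.S3862
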