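import Cfsg.Statements.S3863
import Cfsg.Agent.H1.PG1

set_option autoImplicit false
open Cfsg

namespace Cfsg.Agent.S3863

/-- Let x be an element of the finite group G that is conjugate to its inverse. Then some 2-element conjugates x to its inverse; if the conjugacy class of x has odd size then x ^ 2 = 1; and x lies in, and is conjugate to its inverse inside, every normal subgroup of odd index. -/
theorem result {G : Type*} [Group G] [Finite G] (x : G) (hx : IsConj x x⁻¹) : (∃ t : G, (∃ j : ℕ, orderOf t = 2 ^ j) ∧ t * x * t⁻¹ = x⁻¹) ∧ (Odd (Subgroup.centralizer ({x} : Set G)).index → x ^ 2 = 1) ∧ ∀ (N : Subgroup G) [N.Normal], Odd N.index → ∃ hxN : x ∈ N, IsConj (⟨x, hxN⟩ : N) (⟨x, hxN⟩ : N)⁻¹ := by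
  open Subgroup CfsgH1 CfsgFT CfsgH2 in
  have : Fact (Nat.Prime 2) := ⟨Nat.prime_two⟩
  obtain ⟨s, hs⟩ := isConj_iff.1 hx
  have h1 : ∀ k : ℕ, s ^ (2 * k + 1) * x * (s ^ (2 * k + 1))⁻¹ = x⁻¹ := fun k => by
    have : Commute (s ^ 2) x := by
      have : s * (s * x * s⁻¹) * s⁻¹ = x := by rw [hs, ← conj_inv, hs, inv_inv]
      rw [Commute, SemiconjBy, ← mul_inv_eq_iff_eq_mul, sq]; nth_rw 2 [← this]; group
    rw [pow_succ', pow_mul, mul_assoc s, (this.pow_left k).eq, ← hs]; group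
  obtain ⟨j, m, hm, e⟩ := Nat.exists_eq_two_pow_mul_odd (orderOf_pos s).ne'
  obtain ⟨k, rfl⟩ := hm
  set t := s ^ (2 * k + 1)
  have h2 : orderOf t = 2 ^ j := by
    rw [orderOf_pow_of_dvd (by omega) (Dvd.intro_left _ e.symm), e, Nat.mul_div_cancel _ (by omega)]
  have h3 : t * x * t⁻¹ = x⁻¹ := h1 k
  refine ⟨⟨t, ⟨j, h2⟩, h3⟩, fun h => ?_, fun N _ hN => ?_⟩
  · by_contra h4
    have h5 : t ∈ N(C1(x)) := cj_eq_iff_mem_normalizer.1 (by
      rw [cj_centralizer_singleton, h3, ← centralizer_zpowers', zpowers_inv, centralizer_zpowers'])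
    have h6 := relIndex_sup_zpowers (p := 2) h5 (fun hc => h4 (by
      rw [mem_centralizer_singleton_iff.1 hc, mul_inv_cancel_right] at h3
      rw [sq]; nth_rw 1 [h3]; simp)) (mem_centralizer_singleton_iff.2 (by
        have : t * (t * x * t⁻¹) * t⁻¹ = x := by rw [h3, ← conj_inv, h3, inv_inv]
        rw [← mul_inv_eq_iff_eq_mul, sq]; nth_rw 2 [← this]; group))
    exact (Nat.not_even_iff_odd.2 h) (even_iff_two_dvd.2 (h6 ▸ relIndex_dvd_index_of_le le_sup_left))
  · have h4 : t ∈ N := mem_of_coprime_orderOf_index (h2 ▸ (Nat.coprime_two_left.2 hN).pow_left j)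
    have h5 : x ^ 2 ∈ N := by
      rw [show x ^ 2 = x * t⁻¹ * x⁻¹ * t by
        rw [sq, ← h3]; group]
      exact mul_mem (Normal.conj_mem inferInstance _ (inv_mem h4) x) h4
    obtain ⟨i, hi⟩ := hN
    have h6 := N.pow_index_mem x
    rw [hi, pow_succ, pow_mul] at h6
    exact ⟨(mul_mem_cancel_left (pow_mem h5 i)).1 h6, isConj_iff.2 ⟨⟨t, h4⟩, Subtype.ext h3⟩⟩

end Cfsg.Agent.S3863
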