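import Cfsg.Statements.S3864
import Cfsg.Agent.H2.DihFus

set_option autoImplicit false
open Cfsg

namespace Cfsg.Agent.S3864
open Subgroup CfsgH2
open scoped commutatorElement

/-- Let G be a finite group whose Sylow 2-subgroups are dihedral of order 2 ^ n with n ≥ 3, and count the conjugacy classes of involutions of G. Then exactly one of the following holds: there is one class of involutions and no normal subgroup of index 2; there are two classes of involutions, a normal subgroup of index 2 and none of index 4; there are three classes of involutions and G has a normal 2-complement. -/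
theorem result {G : Type*} [Group G] [Finite G] (P : Sylow 2 G) (n : ℕ) (hn : 3 ≤ n) (hdih : Nonempty (↥(P : Subgroup G) ≃* DihedralGroup (2 ^ (n - 1)))) : (Nat.card {C : ConjClasses G // ∃ g : G, ConjClasses.mk g = C ∧ orderOf g = 2} = 1 ∧ ∀ N : Subgroup G, N.Normal → N.index ≠ 2) ∨ (Nat.card {C : ConjClasses G // ∃ g : G, ConjClasses.mk g = C ∧ orderOf g = 2} = 2 ∧ (∃ N : Subgroup G, N.Normal ∧ N.index = 2) ∧ ∀ N : Subgroup G, N.Normal → N.index ≠ 4) ∨ (Nat.card {C : ConjClasses G // ∃ g : G, ConjClasses.mk g = C ∧ orderOf g = 2} = 3 ∧ Cfsg.HasNormalPComplement 2 G) := by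
  obtain ⟨e⟩ := hdih
  have hs := IsSylowIn.of_sylow_top P
  obtain ⟨a, b, r, h, -⟩ := mc_of_dihedral P.isPGroup' (n := 2 ^ (n - 1)) (by
    obtain ⟨k, rfl⟩ : ∃ k, n = k + 3 := ⟨n - 3, by omega⟩
    have : 0 < 2 ^ k := by positivity
    show 3 ≤ 2 ^ (k + 2)
    rw [pow_add]; omega) e
  simp only [and_comm (a := ConjClasses.mk _ = _)]
  have key : ∀ j, Act P a b j → ¬ Act P a b (j + 1) →
      (Nat.card {C : ConjClasses G // ∃ g : G, orderOf g = 2 ∧ ConjClasses.mk g = C} = 2 ∧
        (∃ N : Subgroup G, N.Normal ∧ N.index = 2) ∧ ∀ N : Subgroup G, N.Normal → N.index ≠ 4) := by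
    intro j h0 h1
    have h2 := h.res_index hs (Or.inr h.dih_sq) h0 h1
    refine ⟨h.dih_two hs h0 h1, ⟨_, inferInstance, h2⟩, fun N hN h4 => ?_⟩
    have := index_dvd_of_le (pResidual_le_of_index (p := 2) (k := 2) h4)
    rw [h2, h4] at this; omega
  by_cases h0 : Act P a b 0 <;> by_cases h1 : Act P a b 1
  · exact Or.inl ⟨h.dih_one hs h0 h1, fun N _ =>
      pResidual_two_eq_top_iff.1 (h.res_top hs (Or.inr h.dih_sq) h0 h1) N⟩
  · exact Or.inr (Or.inl (key 0 h0 h1))
  · exact Or.inr (Or.inl (key 1 h1 fun h2 => h0 (h.act_shift (by decide) h2)))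
  · exact Or.inr (Or.inr ⟨h.dih_three hs h0 h1, h.res_none hs h0 h1⟩)


end Cfsg.Agent.S3864
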