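import Cfsg.Statements.S3867
import Cfsg.Agent.H1.PG1

set_option autoImplicit false
open Cfsg

namespace Cfsg.Agent.S3867

/-- Let M and N be nontrivial normal subgroups of the finite group G with M ⊓ N trivial, and let p be a prime. Writing n(X) for the number of Sylow p-subgroups of a group X, one has n(G) · n(G/MN) = n(G/M) · n(G/N). -/
theorem result {G : Type*} [Group G] [Finite G] (p : ℕ) [Fact p.Prime] (M N : Subgroup G) [M.Normal] [N.Normal] (hM : M ≠ ⊥) (hN : N ≠ ⊥) (hMN : M ⊓ N = ⊥) : Nat.card (Sylow p G) * Nat.card (Sylow p (G ⧸ (M ⊔ N))) = Nat.card (Sylow p (G ⧸ M)) * Nat.card (Sylow p (G ⧸ N)) := by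
  open Subgroup CfsgH1 CfsgFT CfsgH2 in
  obtain ⟨P⟩ : Nonempty (Sylow p G) := inferInstance
  rw [P.card_eq_index_normalizer, card_sylow_quot _ P, card_sylow_quot _ P, card_sylow_quot _ P]
  have hc : ∀ {A B : Subgroup G}, A ≤ M → B ≤ N → B ≤ N(A) → Nat.card (A ⊔ B : Subgroup G) =
      Nat.card A * Nat.card B := fun h1 h2 h3 =>
    card_sup_of_disjoint h3 ((disjoint_iff.2 hMN).mono h1 h2)
  have hcomm : N ≤ C(M) := le_centralizer_of_normalize le_normalizer_of_normal le_normalizer_of_normal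
    (by rwa [inf_comm])
  have hn : ∀ T : Subgroup G, T ⊓ N ≤ N((T ⊓ M : Subgroup G)) := fun T =>
    (inf_le_right.trans (hcomm.trans (centralizer_le (inf_le_right : T ⊓ M ≤ M)))).trans
      (centralizer_le_normalizer _)
  have h1 : (P : Subgroup G) ⊓ (M ⊔ N) ≤ (P : Subgroup G) ⊓ M ⊔ (P : Subgroup G) ⊓ N := by
    refine (CfsgH1.eq_of_le_of_card_le (sup_le (inf_le_inf_left _ le_sup_left)
      (inf_le_inf_left _ le_sup_right)) ?_).ge
    rw [hc inf_le_right inf_le_right (hn _), (IsSylowIn.sylow_inf_normal P _).card_eq,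
      (IsSylowIn.sylow_inf_normal P _).card_eq, (IsSylowIn.sylow_inf_normal P _).card_eq,
      hc le_rfl le_rfl le_normalizer_of_normal, Nat.factorization_mul Nat.card_pos.ne' Nat.card_pos.ne',
      Finsupp.add_apply, pow_add]
  set T := N((P : Subgroup G))
  have h2 : T ⊓ (M ⊔ N) = T ⊓ M ⊔ T ⊓ N := by
    refine le_antisymm ?_ (sup_le (inf_le_inf_left _ le_sup_left) (inf_le_inf_left _ le_sup_right))
    rintro _ ⟨ht, h⟩
    obtain ⟨m, hm, n, hn', rfl⟩ := mem_sup_of_normal_left.1 h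
    suffices m ∈ T from mul_mem_sup ⟨this, hm⟩ ⟨(mul_mem_cancel_left this).1 ht, hn'⟩
    refine CfsgH1.mem_normalizer_of_conj_mem fun y hy => ?_
    replace hy : y ∈ (P : Subgroup G) := hy
    have e1 : m * y * m⁻¹ * y⁻¹ ∈ M := by
      rw [mul_assoc, mul_assoc, ← mul_assoc y]
      exact mul_mem hm (Normal.conj_mem inferInstance _ (inv_mem hm) y)
    have e2 : n * y * n⁻¹ * y⁻¹ ∈ N := by
      rw [mul_assoc, mul_assoc, ← mul_assoc y]
      exact mul_mem hn' (Normal.conj_mem inferInstance _ (inv_mem hn') y)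
    have e3 : m * n * y * (m * n)⁻¹ * y⁻¹ = (m * y * m⁻¹ * y⁻¹) * (n * y * n⁻¹ * y⁻¹) := by
      rw [hcomm e2 _ e1]
      calc _ = m * (n * y * n⁻¹ * y⁻¹) * (y * m⁻¹ * y⁻¹) := by group
        _ = _ := by rw [hcomm e2 _ hm]; group
    obtain ⟨a, ha, b, hb, e4⟩ := (mem_sup_of_normalizer (hn _)).1 (h1 ⟨Subgroup.mul_mem _
      (CfsgH1.conj_mem_of_mem_normalizer ht hy) (Subgroup.inv_mem _ hy), e3 ▸ mul_mem_sup e1 e2⟩)
    rw [e3, ← mul_inv_eq_iff_eq_mul, mul_assoc, ← eq_inv_mul_iff_mul_eq] at e4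
    have e5 : a⁻¹ * (m * y * m⁻¹ * y⁻¹) = 1 := mem_bot.1 (hMN.le
      ⟨M.mul_mem (inv_mem (mem_inf.1 ha).2) e1, e4 ▸ N.mul_mem (mem_inf.1 hb).2 (inv_mem e2)⟩)
    rw [inv_mul_eq_one] at e5
    exact (mul_mem_cancel_right (inv_mem hy)).1 (e5 ▸ (mem_inf.1 ha).1)
  have e1 := card_sup_mul_card_inf T M
  have e2 := card_sup_mul_card_inf T N
  have e3 := card_sup_mul_card_inf T (M ⊔ N)
  rw [h2, hc inf_le_right inf_le_right (hn _), hc le_rfl le_rfl le_normalizer_of_normal] at e3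
  have f1 := T.card_mul_index
  have f2 := (T ⊔ M).card_mul_index
  have f3 := (T ⊔ N).card_mul_index
  have f4 := (T ⊔ (M ⊔ N)).card_mul_index
  have g1 : Nat.card (T ⊔ M : Subgroup G) * Nat.card (T ⊔ N : Subgroup G) =
      Nat.card T * Nat.card (T ⊔ (M ⊔ N) : Subgroup G) :=
    Nat.eq_of_mul_eq_mul_right (mul_pos (Nat.card_pos (α := (T ⊓ M : Subgroup G)))
      (Nat.card_pos (α := (T ⊓ N : Subgroup G)))) (by
        rw [mul_mul_mul_comm, e1, e2, mul_assoc _ (Nat.card (T ⊔ (M ⊔ N) : Subgroup G)), e3]; ring)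
  refine Nat.eq_of_mul_eq_mul_left (mul_pos (Nat.card_pos (α := (T ⊔ M : Subgroup G)))
      (Nat.card_pos (α := (T ⊔ N : Subgroup G)))) ?_
  rw [mul_mul_mul_comm _ _ (T ⊔ M).index, f2, f3, g1, mul_mul_mul_comm, f4]
  exact congrArg (· * _) f1

end Cfsg.Agent.S3867
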