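import Cfsg.Statements.S3868
import Cfsg.Agent.H9.Irr
import Cfsg.Agent.H2.SPE

set_option autoImplicit false
open Cfsg

namespace Cfsg.Agent.S3868

/-- Structure of the non-simple minimal non-p-closed groups. Call a finite group p-closed when its Sylow p-subgroups are normal, and minimal non-p-closed when it is not p-closed but every proper subgroup and every proper quotient is. If such a group G is not simple, then there is a prime q ≠ p such that G has order p · q^e, where e is the multiplicative order of q modulo p, and G has a normal subgroup A of order q^e that is elementary abelian and is a minimal normal subgroup of G (so G is the semidirect product of A by a group of order p acting irreducibly). -/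
theorem result {G : Type*} [Group G] [Finite G] {p : ℕ} [Fact p.Prime]
    (hnc : ¬ Cfsg.IsPClosed p G) (hsub : ∀ H : Subgroup G, H ≠ ⊤ → Cfsg.IsPClosed p ↥H)
    (hquo : ∀ (N : Subgroup G) [N.Normal], N ≠ ⊥ → Cfsg.IsPClosed p (G ⧸ N)) (hns : ¬ IsSimpleGroup G) :
    ∃ q : ℕ, q.Prime ∧ q ≠ p ∧ Nat.card G = p * q ^ orderOf (q : ZMod p) ∧
      ∃ A : Subgroup G, A.Normal ∧ Nat.card ↥A = q ^ orderOf (q : ZMod p) ∧ Cfsg.IsElementaryAbelian q A ∧
        ∀ B : Subgroup G, B.Normal → B ≤ A → B = ⊥ ∨ B = A := by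
  open Subgroup CfsgH1 CfsgH2 CfsgFT CfsgH9 in
    rw [pcl_top_iff] at hnc
    have O : ∀ (R : Subgroup G) [R.Normal], IsPGroup p R → R = ⊥ := fun R _ hR => by_contra fun ne =>
      hnc (PCl.of_map (QuotientGroup.mk' R) (by rwa [top_inf_eq, QuotientGroup.ker_mk']) (by rw [map_top_mk']; exact pcl_top_iff.1 (hquo R ne)))
    obtain ⟨P, hP⟩ := IsSylowIn.exists_sylowIn p (⊤ : Subgroup G)
    have P0 : P ≠ ⊥ := fun e => hnc (pcl_of_normal hP (by rw [e]; exact le_normalizer_of_normal))
    haveI : Nontrivial G := by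
      obtain ⟨x, -, hx⟩ := exists_mem_ne_one P0
      exact ⟨⟨x, 1, hx⟩⟩
    obtain ⟨N, hN, n1, n2⟩ : ∃ N : Subgroup G, N.Normal ∧ N ≠ ⊥ ∧ N ≠ ⊤ := by
      by_contra! h
      exact hns ⟨fun N hN => or_iff_not_imp_left.2 (h N hN)⟩
    obtain ⟨A, hA, a1, a2, a3⟩ := exists_minNormal_le N n1
    have s := (pcl_iff.1 (hsub A fun e => n2 (eq_top_iff.2 (e.ge.trans a2)))).sylow
    haveI : (pCoreOf p A).Normal := normalizer_eq_top_iff.1 (eq_top_iff.2 (le_norm_Op le_normalizer_of_normal))
    have pA := s.eq_bot_iff.1 (O _ s.pgroup)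
    have t : P ⊔ A = ⊤ := by_contra fun ne => by
      have e := (pcl_top_iff.1 (hquo A a1)).eq_Op (map_top_mk' A ▸ hP.map (QuotientGroup.mk' A))
      have n : (P ⊔ A).Normal := by
        have : ((P.map (QuotientGroup.mk' A)).comap (QuotientGroup.mk' A)).Normal := by rw [e, Op_top]; infer_instance
        rwa [comap_map_eq, QuotientGroup.ker_mk'] at this
      exact hnc (pcl_of_normal hP ((pcl_iff.1 (hsub _ ne)).eq_Op (hP.mono le_sup_left le_top) ▸ le_norm_Op le_normalizer_of_normal))
    haveI : (P ⊓ C(A)).Normal := normalizer_eq_top_iff.1 (eq_top_iff.2 (t.ge.trans (sup_le (le_normalizer_inf le_normalizer le_normalizer_of_normal)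
      ((cent_symm inf_le_right).trans (Subgroup.centralizer_le_normalizer _)))))
    obtain ⟨x, hx, ox⟩ := exists_orderOf_p hP.pgroup P0
    obtain ⟨q, h1, h2, h3, h4, h5⟩ := min_core a3 pA (ox ▸ pow_orderOf_eq_one x) (fun c => by
      have := (O _ (hP.pgroup.to_inf_left (K := C(A)))).le ⟨hx, c⟩
      rw [mem_bot.1 this, orderOf_one] at ox
      exact (Fact.out : p.Prime).one_lt.ne ox) fun H ne m =>
        ⟨_, Op_pg H, pcl_iff.1 (hsub H ne) _ (zpowers_le.2 m) (hP.pgroup.to_le (zpowers_le.2 hx)) (mem_zpowers x), le_norm_Op_self H⟩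
    exact ⟨q, h1, h2, h3, A, hA, h4, h5, a3⟩

end Cfsg.Agent.S3868
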