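import Cfsg.Statements.S3869
import Cfsg.Agent.H9.Irr

set_option autoImplicit false
open Cfsg

namespace Cfsg.Agent.S3869

/-- Let p and q be distinct primes and G a finite non-abelian group with a normal elementary abelian q-subgroup A that is a minimal normal subgroup of G and has index p. Then A has order q^e with e the multiplicative order of q modulo p, and G is minimal non-p-closed: its Sylow p-subgroups are not normal, while in every proper subgroup and in every proper quotient of G the Sylow p-subgroups are normal. -/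
theorem result {G : Type*} [Group G] [Finite G] {p q : ℕ} [Fact p.Prime] (hq : q.Prime) (hpq : q ≠ p)
    (hna : ¬ IsMulCommutative G) (A : Subgroup G) [A.Normal] (hA : Cfsg.IsElementaryAbelian q A) (hidx : A.index = p)
    (hmin : ∀ B : Subgroup G, B.Normal → B ≤ A → B = ⊥ ∨ B = A) :
    Nat.card ↥A = q ^ orderOf (q : ZMod p) ∧ ¬ Cfsg.IsPClosed p G ∧ (∀ H : Subgroup G, H ≠ ⊤ → Cfsg.IsPClosed p ↥H) ∧
      ∀ (N : Subgroup G) [N.Normal], N ≠ ⊥ → Cfsg.IsPClosed p (G ⧸ N) := by
  open Subgroup CfsgH1 CfsgH2 CfsgFT CfsgH9 in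
    have hp : p.Prime := Fact.out
    haveI := Fact.mk hq
    have cA := ea_le_centralizer hA
    obtain ⟨k, hk⟩ := (ea_isPGroup hA).exists_card_eq
    have pA : ¬ p ∣ Nat.card A := fun d => hpq ((Nat.prime_dvd_prime_iff_eq hp hq).1 (hp.dvd_of_dvd_pow (hk ▸ d))).symm
    have mx : ∀ H : Subgroup G, ¬ H ≤ A → A ⊔ H = ⊤ := fun H h => by
      rcases (Nat.dvd_prime hp).1 (hidx ▸ index_dvd_of_le (le_sup_left : A ≤ A ⊔ H)) with e | e
      · exact index_eq_one.1 e
      · have := relIndex_mul_index (le_sup_left : A ≤ A ⊔ H)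
        rw [e, hidx, mul_eq_right₀ hp.ne_zero, relIndex_eq_one] at this
        exact absurd (le_sup_right.trans this) h
    have c : C(A) ≤ A := by_contra fun h => by
      obtain ⟨x, hx, hx'⟩ := SetLike.not_le_iff_exists.1 h
      have e := mx (zpowers x) (mt zpowers_le.1 hx')
      have l : zpowers x ≤ C(A) := zpowers_le.2 hx
      have : A ⊔ zpowers x ≤ C(A ⊔ zpowers x) := by
        rw [cent_sup]; exact sup_le (le_inf cA (cent_symm l)) (le_inf l (le_centralizer _))
      rw [e] at this
      exact hna ⟨⟨fun a b => this (mem_top b) a (mem_top a)⟩⟩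
    have pp : ∀ R : Subgroup G, IsPGroup p R → R ⊓ A = ⊥ := fun R hR =>
      (isPi_singleton_iff.2 hR).inf_eq_bot (isPi_compl_singleton_iff.2 pA)
    have nb : ∀ (N : Subgroup G) [N.Normal], N ⊓ A = ⊥ → N = ⊥ := fun N _ e => eq_bot_iff.2 ((le_inf le_rfl ((cent_of_comm_eq_bot
      (eq_bot_iff.2 ((commutator_le_inf N A).trans e.le))).trans c)).trans e.le)
    obtain ⟨x, ox⟩ := exists_prime_orderOf_dvd_card' (G := G) p (hidx ▸ A.index_dvd_card)
    have px := isPGroup_zpowers_of_orderOf (ox.trans (pow_one p).symm)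
    have x0 : zpowers x ≠ ⊥ := zpowers_ne_bot.2 fun e => by rw [e, orderOf_one] at ox; exact hp.one_lt.ne ox
    have xA : ¬ zpowers x ≤ A := fun h => x0 ((inf_eq_left.2 h).symm.trans (pp _ px))
    have pg : ∀ {Γ : Type _} [Group Γ] [Finite Γ] {L : Subgroup Γ}, Nat.card L ∣ p → PCl p L := fun h =>
      have := IsPGroup.of_card_dvd_pow (n := 1) (by rwa [pow_one])
      pcl_of_normal ⟨le_rfl, this, by rw [relIndex_self]; exact hp.not_dvd_one⟩ le_normalizer
    refine ⟨card_of_irr hq hpq hA (le_normalizer_of_normal (mem_top x)) (ox ▸ pow_orderOf_eq_one x ▸ one_mem _)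
      (fun h => xA (zpowers_le.2 (c h))) fun B l n => hmin B (normal_of_le_of_sup cA l (mx _ xA) (zpowers_le.2 n)) l, fun h => ?_,
      fun H ne => pcl_iff.2 ?_, fun N _ ne => pcl_top_iff.2 (pg ?_)⟩
    · have := pcl_top_iff.1 h _ le_top px
      rw [Op_top, nb _ (pp _ (CfsgH1.isPGroup_pCore p G))] at this
      exact x0 (eq_bot_iff.2 this)
    · by_cases l : H ≤ A
      · exact pcl_of_not_dvd fun d => pA (d.trans (card_dvd_of_le l))
      have t := mx H l
      refine pg ?_
      rw [← relIndex_bot_left, ← (hmin (A ⊓ H) (normal_of_le_of_sup cA inf_le_left t (le_normalizer_inf le_normalizer_of_normal le_normalizer))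
        inf_le_left).resolve_right fun e => ne (t.symm.trans (sup_eq_right.2 (e.ge.trans inf_le_right))).symm, inf_relIndex_right, ← hidx]
      exact relIndex_dvd_index_of_normal _ _
    · rw [card_top, ← index_eq_card, ← hidx]
      exact index_dvd_of_le (((hmin (N ⊓ A) inferInstance inf_le_right).resolve_left fun e => ne (nb N e)).ge.trans inf_le_left)

end Cfsg.Agent.S3869
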