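import Cfsg.Statements.S3870
import Cfsg.Agent.H1.PG1

set_option autoImplicit false
open Cfsg

namespace Cfsg.Agent.S3870

/-- Let G be a finite simple group whose Sylow p-subgroups are not normal but such that every proper subgroup of G has a normal Sylow p-subgroup. Then any two distinct Sylow p-subgroups of G intersect trivially, and for every Sylow p-subgroup P the normalizer of every non-identity subgroup of P lies in the normalizer of P. -/
theorem result {G : Type*} [Group G] [Finite G] [IsSimpleGroup G] {p : ℕ} [Fact p.Prime]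
    (hnc : ¬ Cfsg.IsPClosed p G) (hsub : ∀ H : Subgroup G, H ≠ ⊤ → Cfsg.IsPClosed p ↥H) :
    (∀ P Q : Sylow p G, P ≠ Q → (P : Subgroup G) ⊓ (Q : Subgroup G) = ⊥) ∧
      ∀ (P : Sylow p G) (R : Subgroup G), R ≤ P → R ≠ ⊥ →
        Subgroup.normalizer (R : Set G) ≤ Subgroup.normalizer ((P : Subgroup G) : Set G) := by
  open Subgroup CfsgH1 CfsgFT CfsgH2 in
  have key : ∀ R : Subgroup G, R ≠ ⊥ → ∀ P Q : Sylow p G, R ≤ P → R ≤ Q → P = Q := fun R => by
    induction R using subgroup_induction_down with | _ R ih => ?_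
    intro h P Q hP hQ
    rcases hP.eq_or_lt with rfl | hP'
    · exact Sylow.ext (P.3 Q.2 hQ).symm
    rcases hQ.eq_or_lt with rfl | hQ'
    · exact Sylow.ext (Q.3 P.2 hP)
    have h1 : N(R) ≠ ⊤ := fun e => by
      rcases (normalizer_eq_top_iff.1 e).eq_bot_or_eq_top with e | e
      · exact h e
      · exact hP'.ne (le_antisymm hP (e ▸ le_top))
    obtain ⟨S⟩ : Nonempty (Sylow p N(R)) := inferInstance
    have h2 := IsSylowIn.of_sylow_map S
    have h3 : N(R) ≤ N((S : Subgroup N(R)).map N(R).subtype) := by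
      have := hsub _ h1 S
      exact (normal_subgroupOf_iff_le_normalizer (map_subtype_le _)).1
        (by rwa [subgroupOf, comap_map_eq_self_of_injective (subtype_injective _)])
    obtain ⟨T, hT⟩ := h2.pgroup.exists_le_sylow
    have h4 : ∀ X : Sylow p G, R < X → X = T := fun X hX =>
      ih _ (CfsgH1.card_lt_of_lt (lt_inf_normalizer X.2 hX)) (lt_inf_normalizer X.2 hX).ne_bot X T
        inf_le_left ((h2.le_of_le_normalizer (X.2.to_le inf_le_left) inf_le_right
          (inf_le_right.trans h3)).trans hT)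
    rw [h4 P hP', h4 Q hQ']
  refine ⟨fun P Q h => by_contra fun e => h (key _ e P Q inf_le_left inf_le_right), fun P R h1 h2 g hg => ?_⟩
  rw [← cj_eq_iff_mem_normalizer, ← sylow_smul_coe, key R h2 (g • P) P _ h1]
  rw [sylow_smul_coe, ← cj_eq_iff_mem_normalizer.2 hg]
  exact cj_mono g h1

end Cfsg.Agent.S3870
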