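import Cfsg.Statements.S3872
import Cfsg.Agent.H2.Regular
import Cfsg.Agent.H2.MaxClass
import Cfsg.Agent.H2.PGroup2
import Cfsg.Agent.H2.SPE
import Cfsg.Agent.H2.Extra

set_option autoImplicit false
open Cfsg

namespace Cfsg.Agent.S3872

/-- Say that a finite group is p-exponent closed when its elements of order dividing p form a subgroup. Let G be a finite p-group that is not p-exponent closed, but all of whose proper subgroups and proper quotients are. Then G is generated by two elements, has nilpotency class at least p, has exponent p², has cyclic center, and has order at least p^(p+1). -/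
theorem result {G : Type*} [Group G] [Finite G] {p : ℕ} [Fact p.Prime] (hG : IsPGroup p G)
    (hnc : ¬ (∃ H : Subgroup G, (H : Set G) = {g : G | g ^ p = 1})) (hsub : ∀ K : Subgroup G, K ≠ ⊤ → (∃ H : Subgroup ↥K, (H : Set ↥K) = {g : ↥K | g ^ p = 1}))
    (hquo : ∀ (N : Subgroup G) [N.Normal], N ≠ ⊥ → (∃ H : Subgroup (G ⧸ N), (H : Set (G ⧸ N)) = {g : (G ⧸ N) | g ^ p = 1})) :
    (∃ x y : G, Subgroup.closure ({x, y} : Set G) = ⊤) ∧ (⊤ : Subgroup G).lowerCentralSeries (p - 1) ≠ ⊥ ∧
      Monoid.exponent G = p ^ 2 ∧ IsCyclic ↥(Subgroup.center G) ∧ p ^ (p + 1) ≤ Nat.card G := by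
  open Subgroup CfsgH2 in
    have hp : p.Prime := Fact.out
    have mk : (∀ x y : G, x ^ p = 1 → y ^ p = 1 → (x * y) ^ p = 1) → False := fun h =>
      hnc ⟨⟨⟨⟨{g | g ^ p = 1}, fun {a b} => h a b⟩, one_pow p⟩, fun {a} (h : a ^ p = 1) => show a⁻¹ ^ p = 1 by rw [inv_pow, h, inv_one]⟩, rfl⟩
    obtain ⟨x, y, hx, hy, hxy⟩ : ∃ x y : G, x ^ p = 1 ∧ y ^ p = 1 ∧ (x * y) ^ p ≠ 1 := by
      by_contra! h; exact mk h
    have t : closure ({x, y} : Set G) = ⊤ := by_contra fun ne => by
      obtain ⟨H, h⟩ := hsub _ ne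
      exact hxy (congrArg Subtype.val (h.le (H.mul_mem (x := ⟨x, subset_closure (by simp)⟩) (y := ⟨y, subset_closure (by simp)⟩)
        (h.ge (Subtype.ext hx)) (h.ge (Subtype.ext hy)))))
    have c : (⊤ : Subgroup G).lowerCentralSeries (p - 1) ≠ ⊥ := fun e => mk fun a b => (reg_of_class hG e).mul_pow_eq_one
    have q : ∀ z ∈ center G, z ≠ 1 → ∀ g : G, g ^ p ∈ zpowers z := fun z hz z1 g => by
      haveI : (zpowers z).Normal := ⟨fun n hn g => by rw [mem_center_iff.1 (zpowers_le.2 hz hn) g]; simpa using hn⟩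
      obtain ⟨H, h⟩ := hquo (zpowers z) (zpowers_ne_bot.2 z1)
      have : closure ({x, y} : Set G) ≤ H.comap (QuotientGroup.mk' _) := (closure_le _).2 (Set.pair_subset
        (h.ge (by rw [Set.mem_setOf_eq, ← map_pow, hx, map_one])) (h.ge (by rw [Set.mem_setOf_eq, ← map_pow, hy, map_one])))
      exact (QuotientGroup.eq_one_iff _).1 (h.le (this (t ▸ mem_top g)))
    haveI : Nontrivial G := ⟨⟨_, _, hxy⟩⟩
    obtain ⟨z, hz, oz⟩ := exists_orderOf_p (hG.to_subgroup (center G)) ((nontrivial_iff_ne_bot _).1 hG.center_nontrivial)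
    have ne : ∀ {w : G}, orderOf w = p → w ≠ 1 := fun h e => by rw [e, orderOf_one] at h; exact hp.one_lt.ne h
    obtain ⟨n, hn⟩ := hG.exists_card_eq
    refine ⟨⟨x, y, t⟩, c, ?_, isCyclic_of_comm_of_omegaOne (hG.to_subgroup _) inferInstance ?_, ?_⟩
    · refine Nat.eq_prime_pow_of_dvd_least_prime_pow hp (k := 1) (fun d => hxy ?_) (Monoid.exponent_dvd_of_forall_pow_eq_one fun g => ?_)
      · exact Monoid.exponent_dvd_iff_forall_pow_eq_one.1 (by simpa using d) _
      · obtain ⟨k, hk⟩ := q z hz (ne oz) g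
        rw [pow_succ, pow_one, pow_mul, ← hk, ← zpow_natCast, ← zpow_mul, mul_comm, zpow_mul, zpow_natCast, ← oz, pow_orderOf_eq_one, one_zpow]
    · refine (card_le_of_le (K := zpowers z) (omegaOne_le_iff.2 fun w hw wp => ?_)).trans (by rw [Nat.card_zpowers, oz])
      by_cases w1 : w = 1
      · exact w1 ▸ one_mem _
      have ow := orderOf_eq_prime wp w1
      rw [← zpowers_eq_of_prime oz (q z hz (ne oz) _) hxy, zpowers_eq_of_prime ow (q w hw w1 _) hxy]
      exact mem_zpowers w
    · haveI := hG.isNilpotent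
      have l : p - 1 < Group.nilpotencyClass G := not_le.1 fun h => c (Subgroup.lowerCentralSeries_eq_bot_iff_nilpotencyClass_le.2 h)
      have n2 : 2 ≤ n := not_lt.1 fun h => hxy (by
        have : orderOf (x * y) ∣ p ^ 1 := (_root_.orderOf_dvd_natCard _).trans (hn ▸ pow_dvd_pow p (by omega))
        simpa using orderOf_dvd_iff_pow_eq_one.1 this)
      have := class_le hn n2
      rw [hn]
      exact Nat.pow_le_pow_right hp.pos (by omega)

end Cfsg.Agent.S3872
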