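import Cfsg.Statements.S3873
import Cfsg.Agent.H9.Irr

set_option autoImplicit false
open Cfsg

namespace Cfsg.Agent.S3873

open Subgroup CfsgH1 CfsgH2 CfsgFT CfsgH9 in
theorem good {G : Type*} [Group G] [Finite G] {p : ℕ} [Fact p.Prime] {K : Subgroup G}
    (h : ∃ H : Subgroup K, (H : Set K) = {g : K | g ^ p = 1}) : ∃ R : Subgroup G, IsPGroup p R ∧ N(K) ≤ N(R) ∧ ∀ x, x ∈ R ↔ x ∈ K ∧ x ^ p = 1 := by
  obtain ⟨H, h⟩ := h
  have e : ∀ x, x ∈ H.map K.subtype ↔ x ∈ K ∧ x ^ p = 1 := fun x => ⟨by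
    rintro ⟨y, hy, rfl⟩; exact ⟨y.2, congrArg Subtype.val (h.le hy)⟩, fun ⟨a, b⟩ => ⟨⟨x, a⟩, h.ge (Subtype.ext b), rfl⟩⟩
  exact ⟨_, fun x => ⟨1, Subtype.ext (by simpa using ((e _).1 x.2).2)⟩, fun g hg => CfsgH2.mem_normalizer_of_conj_mem fun x hx =>
    (e _).2 ⟨CfsgH2.conj_mem_of_mem_normalizer hg ((e _).1 hx).1, by rw [conj_pow, ((e _).1 hx).2]; simp⟩, e⟩


/-- Say that a finite group is p-exponent closed when its elements of order dividing p form a subgroup. Let G be a finite group that is not p-exponent closed, but all of whose proper subgroups and proper quotients are, and suppose G is neither simple nor a p-group. Then there is a prime q ≠ p such that G has order p · q^e, where e is the multiplicative order of q modulo p, and G has a normal elementary abelian subgroup of order q^e that is a minimal normal subgroup of G. -/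
theorem result {G : Type*} [Group G] [Finite G] {p : ℕ} [Fact p.Prime]
    (hnc : ¬ (∃ H : Subgroup G, (H : Set G) = {g : G | g ^ p = 1})) (hsub : ∀ K : Subgroup G, K ≠ ⊤ → (∃ H : Subgroup ↥K, (H : Set ↥K) = {g : ↥K | g ^ p = 1}))
    (hquo : ∀ (N : Subgroup G) [N.Normal], N ≠ ⊥ → (∃ H : Subgroup (G ⧸ N), (H : Set (G ⧸ N)) = {g : (G ⧸ N) | g ^ p = 1}))
    (hns : ¬ IsSimpleGroup G) (hnp : ¬ IsPGroup p G) :
    ∃ q : ℕ, q.Prime ∧ q ≠ p ∧ Nat.card G = p * q ^ orderOf (q : ZMod p) ∧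
      ∃ A : Subgroup G, A.Normal ∧ Nat.card ↥A = q ^ orderOf (q : ZMod p) ∧ Cfsg.IsElementaryAbelian q A ∧
        ∀ B : Subgroup G, B.Normal → B ≤ A → B = ⊥ ∨ B = A := by
  open Subgroup CfsgH1 CfsgH2 CfsgFT CfsgH9 in
    have hp : p.Prime := Fact.out
    have gen : ∀ K : Subgroup G, (∀ x, x ^ p = 1 → x ∈ K) → K = ⊤ := fun K h => by_contra fun ne => by
      obtain ⟨R, -, -, e⟩ := good (hsub K ne)
      exact hnc ⟨R, Set.ext fun x => (e x).trans ⟨fun a => a.2, fun a => ⟨h x a, a⟩⟩⟩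
    haveI : Nontrivial G := by
      by_contra h
      rw [not_nontrivial_iff_subsingleton] at h
      exact hnp fun x => ⟨0, Subsingleton.elim _ _⟩
    obtain ⟨N, hN, n1, n2⟩ : ∃ N : Subgroup G, N.Normal ∧ N ≠ ⊥ ∧ N ≠ ⊤ := by
      by_contra! h
      exact hns ⟨fun N hN => or_iff_not_imp_left.2 (h N hN)⟩
    obtain ⟨A, hA, a1, a2, a3⟩ := exists_minNormal_le N n1
    have qA : ∀ x : G, x ^ p ∈ A := fun x => by
      obtain ⟨H, h⟩ := hquo A a1
      have := (gen (H.comap (QuotientGroup.mk' A)) fun x hx => h.ge (by rw [Set.mem_setOf_eq, ← map_pow, hx, map_one])).ge (mem_top x)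
      exact (QuotientGroup.eq_one_iff _).1 (h.le this)
    obtain ⟨R, r1, r2, r3⟩ := good (hsub A fun e => n2 (eq_top_iff.2 (e.ge.trans a2)))
    have pA : ¬ p ∣ Nat.card A := fun d => by
      obtain ⟨x, hx⟩ := exists_prime_orderOf_dvd_card' (G := A) p d
      rcases a3 R (normalizer_eq_top_iff.1 (eq_top_iff.2 (le_normalizer_of_normal.trans r2))) (fun x hx => ((r3 x).1 hx).1) with e | e
      · have : (x : G) ∈ R := (r3 _).2 ⟨x.2, by rw [← hx, ← coe_pow, pow_orderOf_eq_one, coe_one]⟩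
        rw [e, mem_bot, OneMemClass.coe_eq_one] at this
        rw [this, orderOf_one] at hx
        exact hp.one_lt.ne hx
      · exact hnp fun x => ⟨2, by rw [sq, pow_mul]; exact ((r3 _).1 (e.ge (qA x))).2⟩
    obtain ⟨x, xp, nc⟩ : ∃ x, x ^ p = 1 ∧ x ∉ C(A) := by
      by_contra! h
      obtain ⟨P, hP⟩ := IsSylowIn.exists_sylowIn p (⊤ : Subgroup G)
      obtain ⟨k, hk⟩ := exists_relIndex_eq_pow (p := p) (H := ⊤) (N := A) le_normalizer_of_normal fun x _ => ⟨1, by simpa using qA x⟩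
      have n : ⊤ ≤ N(P) := (hP.sup_eq_of_pow le_top hk).ge.trans (sup_le le_normalizer ((cent_symm (le_top.trans (gen _ h).ge)).trans
        (Subgroup.centralizer_le_normalizer _)))
      have := gen P fun x hx => (pcl_of_normal hP n).eq_Op hP ▸ pcl_of_normal hP n _ le_top (ea_isPGroup (ea_zpowers hx)) (mem_zpowers x)
      exact hnp ((this ▸ hP.pgroup :  IsPGroup p (⊤ : Subgroup G)).of_equiv topEquiv)
    obtain ⟨q, h1, h2, h3, h4, h5⟩ := min_core a3 pA xp nc fun H ne m =>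
      let ⟨R, r1, r2, r3⟩ := good (hsub H ne); ⟨R, r1, (r3 x).2 ⟨m, xp⟩, le_normalizer.trans r2⟩
    exact ⟨q, h1, h2, h3, A, hA, h4, h5, a3⟩

end Cfsg.Agent.S3873
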