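import Cfsg.Statements.S3878
import Cfsg.Agent.S0713

set_option autoImplicit false
open Cfsg

namespace Cfsg.Agent.S3878

open Subgroup MulAction Equiv Equiv.Perm
open scoped Pointwise
theorem cyc {n : ℕ} {π : Set ℕ} {H : Subgroup (Perm (Fin n))} (hH : IsPiHall π H) {l i : ℕ} (hl : l.Prime) (h : l ∈ π) (hi : i ≠ 0)
    (hn : l ^ i ≤ n) : ∃ c ∈ H, c.IsCycle ∧ c.support.card = l ^ i := by
  have := Fact.mk hl
  obtain ⟨g, hg⟩ := (exists_with_cycleType_iff (Fin n) (m := {l ^ i})).2 ⟨by simpa, by simpa using Nat.succ_le_of_lt (Nat.one_lt_pow hi hl.one_lt)⟩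
  have h1 : g.IsCycle := card_cycleType_eq_one.1 (by simp [hg])
  have h2 : g.support.card = l ^ i := by rw [← sum_cycleType, hg, Multiset.sum_singleton]
  obtain ⟨Q, hQ⟩ := (IsPGroup.of_card (by rw [Nat.card_zpowers, h1.orderOf, h2]) : IsPGroup l (zpowers g)).exists_le_sylow
  obtain ⟨P⟩ : Nonempty (Sylow l H) := inferInstance
  obtain ⟨u, hu⟩ := exists_smul_eq (Perm (Fin n)) Q ((P.isPGroup'.map H.subtype).toSylow (by
    rw [index_map_subtype, hl.dvd_mul]; exact not_or.2 ⟨P.not_dvd_index, hH.2 l hl h⟩))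
  refine ⟨u * g * u⁻¹, map_subtype_le P.1 ((congrArg Sylow.toSubgroup hu).le (show _ ∈ (u • Q).1 from ?_)), h1.conj, by rw [card_support_conj, h2]⟩
  exact smul_mem_pointwise_smul _ (MulAut.conj u) _ (hQ (mem_zpowers g))

/-- For a set of primes π the following are equivalent: every finite group has a Hall π-subgroup; in every finite group the maximal π-subgroups are pairwise conjugate; π contains at most one prime or contains every prime. -/
theorem result (π : Set ℕ) :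
    ((∀ (G : Type) [Group G] [Finite G], Cfsg.IsEPiGroup π G) ↔
      ((∀ p q : ℕ, p.Prime → q.Prime → p ∈ π → q ∈ π → p = q) ∨ ∀ p : ℕ, p.Prime → p ∈ π)) ∧
    ((∀ (G : Type) [Group G] [Finite G], Cfsg.IsDPiGroup π G) ↔
      ((∀ p q : ℕ, p.Prime → q.Prime → p ∈ π → q ∈ π → p = q) ∨ ∀ p : ℕ, p.Prime → p ∈ π)) := by
  have a : (∀ (G : Type) [Group G] [Finite G], IsDPiGroup π G) → ∀ (G : Type) [Group G] [Finite G], IsEPiGroup π G := fun h G _ _ => by
    obtain ⟨H, -, hH⟩ := Finite.exists_le_maximal (show IsPiSubgroup π (⊥ : Subgroup G) from fun p hp h => (hp.ne_one (by simpa using h)).elim)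
    refine ⟨H, hH.1, fun p hp h' d => ?_⟩
    have := Fact.mk hp
    obtain ⟨P⟩ : Nonempty (Sylow p G) := inferInstance
    obtain ⟨k, hk⟩ := P.isPGroup'.exists_card_eq
    obtain ⟨K, h1, hK⟩ := Finite.exists_le_maximal (show IsPiSubgroup π P.1 from fun q hq h =>
      (Nat.prime_dvd_prime_iff_eq hq hp).1 (hq.dvd_of_dvd_pow (hk ▸ h)) ▸ h')
    obtain ⟨g, rfl⟩ := h G H K hH hK
    refine P.not_dvd_index (dvd_trans ?_ (index_dvd_of_le h1))
    rwa [index_map_of_bijective (MulAut.conj g).bijective]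
  have b : ((∀ p q : ℕ, p.Prime → q.Prime → p ∈ π → q ∈ π → p = q) ∨ ∀ p : ℕ, p.Prime → p ∈ π) →
      ∀ (G : Type) [Group G] [Finite G], IsDPiGroup π G := fun h G _ _ H K hH hK => by
    rcases h with h | h
    swap
    · exact ⟨1, by rw [hH.eq_of_le (y := ⊤) (fun p hp _ => h p hp) le_top, hK.eq_of_le (y := ⊤) (fun p hp _ => h p hp) le_top]; simp⟩
    by_cases c : ∃ p, p.Prime ∧ p ∈ π
    · obtain ⟨p, hp, c⟩ := c
      have := Fact.mk hp
      have k : ∀ L : Subgroup G, IsPiSubgroup π L ↔ IsPGroup p L := fun L => ⟨fun e => IsPGroup.of_card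
        (Nat.eq_prime_pow_of_unique_prime_dvd Nat.card_pos.ne' fun {q} hq d => h q p hq hp (e q hq d) c), fun e q hq d => by
          obtain ⟨k, hk⟩ := e.exists_card_eq
          exact (Nat.prime_dvd_prime_iff_eq hq hp).1 (hq.dvd_of_dvd_pow (hk ▸ d)) ▸ c⟩
      obtain ⟨g, hg⟩ := exists_smul_eq G (⟨H, (k H).1 hH.1, fun e l => (hH.eq_of_le ((k _).2 e) l).symm⟩ : Sylow p G)
        ⟨K, (k K).1 hK.1, fun e l => (hK.eq_of_le ((k _).2 e) l).symm⟩
      exact ⟨g, (congrArg (·.1) hg).symm⟩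
    have k : ∀ L : Subgroup G, IsPiSubgroup π L → L = ⊥ := fun L e => card_eq_one.1 (Nat.eq_one_iff_not_exists_prime_dvd.2
      fun q hq d => c ⟨q, hq, e q hq d⟩)
    exact ⟨1, by rw [k H hH.1, k K hK.1, Subgroup.map_bot]⟩
  suffices c : (∀ (G : Type) [Group G] [Finite G], IsEPiGroup π G) → _ from ⟨⟨c, fun h => a (b h)⟩, fun h => c (a h), b⟩
  intro h
  by_contra! c
  obtain ⟨⟨p, q, hp, hq, h1, h2, n⟩, r, hr, h3⟩ := c
  set j := 2 * r + p + 5
  have j1 : j < q ^ j := Nat.lt_pow_self hq.one_lt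
  have j2 := Nat.le_pow_clog hp.one_lt (q ^ j)
  have j3 := Nat.pow_pred_clog_lt_self hp.one_lt (show 1 < q ^ j by omega)
  have j4 := (Nat.clog_pos hp.one_lt (show 1 < q ^ j by omega)).ne'
  generalize Nat.clog p (q ^ j) = m at *
  obtain ⟨H, hH⟩ := h (Perm (Fin (p ^ m)))
  obtain ⟨x, x1, x2, x3⟩ := cyc hH hp h1 j4 le_rfl
  obtain ⟨y, y1, y2, y3⟩ := cyc hH hq h2 (by omega) j2
  obtain ⟨z, z1, z2, z3⟩ := cyc hH hp h1 one_ne_zero (by rw [pow_one]; omega)
  have x4 := fun i => mem_support.1 ((Finset.eq_univ_of_card _ (x3.trans (Fintype.card_fin _).symm)).ge (Finset.mem_univ i))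
  have : IsPretransitive H (Fin (p ^ m)) := ⟨fun u v => (x2.exists_zpow_eq (x4 u) (x4 v)).elim fun i e => ⟨⟨_, zpow_mem x1 i⟩, e⟩⟩
  have hP : IsPreprimitive H (Fin (p ^ m)) := ⟨fun {B} hB => by_contra fun e => by
    obtain ⟨e1, e2⟩ := not_or.1 e
    obtain ⟨b, hb⟩ := (Set.not_subsingleton_iff.1 e1).nonempty
    obtain ⟨k, k1, k2⟩ := (Nat.dvd_prime_pow hp).1 (by simpa using hB.ncard_dvd_card ⟨b, hb⟩)
    have k3 : k ≠ m := fun e => e2 (Set.eq_of_subset_of_ncard_le (Set.subset_univ _) (by simp [k2, e, Set.ncard_univ]))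
    have k4 : k ≠ 0 := fun e => e1 (Set.ncard_le_one_iff_subsingleton.1 (by simp [k2, e]))
    obtain ⟨u, hu, -⟩ := id y2
    obtain ⟨g, rfl⟩ := exists_smul_eq H b u
    have hC := hB.translate g
    rw [← Set.ncard_smul_set g] at k2
    have hb : g • b ∈ g • B := ⟨b, hb, rfl⟩
    generalize g • B = C at *
    rcases hC.smul_eq_or_disjoint ⟨y, y1⟩ with d | d
    · have := Set.ncard_le_ncard (show (y.support : Set _) ⊆ C from fun v hv => by
        obtain ⟨i, rfl⟩ := y2.exists_zpow_eq hu (mem_support.1 hv)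
        exact (mem_stabilizer_iff.1 (zpow_mem (mem_stabilizer_iff.2 d) i)).le ⟨_, hb, rfl⟩)
      have := Nat.pow_le_pow_right hp.pos (show k ≤ m.pred by simp; omega)
      rw [Set.ncard_coe_finset] at *
      omega
    let S : SubMulAction (zpowers y) (Fin (p ^ m)) := ⟨y.support, fun ⟨_, i, rfl⟩ _ h => zpow_apply_mem_support.2 h⟩
    have : IsPretransitive (zpowers y) S := ⟨fun u v => (y2.exists_zpow_eq (mem_support.1 u.2) (mem_support.1 v.2)).elim
      fun i e => ⟨⟨_, i, rfl⟩, Subtype.ext e⟩⟩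
    have := (IsBlock.subtype_val_preimage (C := S) (isBlock_iff_smul_eq_or_disjoint.2 fun w =>
      hC.smul_eq_or_disjoint ⟨w, zpowers_le.2 y1 w.2⟩)).ncard_dvd_card ⟨⟨_, mem_support.2 hu⟩, hb⟩
    erw [Set.ncard_preimage_of_injective_subset_range Subtype.val_injective fun v hv => ⟨⟨v, mem_support.2 fun e =>
      Set.disjoint_left.1 d ⟨v, hv, e⟩ hv⟩, rfl⟩, k2, show Nat.card S = q ^ j from (Nat.card_eq_finsetCard _).trans y3] at this
    exact n ((Nat.prime_dvd_prime_iff_eq hp hq).1 (hp.dvd_of_dvd_pow ((dvd_pow_self p k4).trans this)))⟩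
  have h4 := S0713.result H hP hp (by simp; omega) (by simp; omega) z2 (z3.trans (pow_one p)) z1
  obtain ⟨w, hw⟩ := (exists_with_cycleType_iff (Fin (p ^ m)) (m := {r, r})).2 ⟨by simp; omega, by simpa using hr.two_le⟩
  refine h3 (hH.1 r hr ((?_ : r ∣ orderOf (⟨w, h4 ?_⟩ : H)).trans (orderOf_dvd_natCard _)))
  · rw [mem_alternatingGroup, sign_of_cycleType, hw]; simp [← two_mul, ← mul_add_one]
  · rw [orderOf_mk]; exact dvd_of_mem_cycleType (by simp [hw])

end Cfsg.Agent.S3878
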