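import Cfsg.Statements.S3881
import Cfsg.Agent.H9.MC2

set_option autoImplicit false
open Cfsg

namespace Cfsg.Agent.S3881

/-- Let p be an odd prime and G a finite metacyclic p-group (G has a cyclic normal subgroup with cyclic quotient). Suppose G is non-abelian with |G'| = p^n. Then for 1 ≤ i ≤ n the number of elements of G whose conjugacy class has exactly p^i elements is |Z(G)| · (p^(2i) − p^(2i−2)). -/
theorem result {G : Type*} [Group G] [Finite G] {p : ℕ} [Fact p.Prime] (hp : p ≠ 2) (hG : IsPGroup p G) (hmc : Cfsg.IsMetacyclic G) (n : ℕ) (hn : n ≠ 0) (hGn : Nat.card ↥(commutator G) = p ^ n) (i : ℕ) (hi : 1 ≤ i) (hin : i ≤ n) :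
    Nat.card {g : G // (Subgroup.centralizer ({g} : Set G)).index = p ^ i} =
      Nat.card ↥(Subgroup.center G) * (p ^ (2 * i) - p ^ (2 * i - 2)) := by
  open Subgroup CfsgH2 CfsgH9 in
  obtain ⟨a, b, k, m, h⟩ := exists_MC hp hG hmc
  have pr : p.Prime := Fact.out
  obtain rfl : m = n := Nat.pow_right_injective pr.two_le (h.card_der.symm.trans hGn)
  obtain ⟨s, rfl⟩ := Nat.exists_eq_add_of_le' hin
  have c : ∀ t u, t + u = s + i → Nat.card (lev p (a ^ (k - 1)) t) = Nat.card (center G) * p ^ (2 * u) := fun t u e =>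
    Nat.eq_of_mul_eq_mul_right (pow_pos pr.pos (2 * t)) (by
      rw [← h.index_lev (by omega), card_mul_index, h.index_lev (by omega), mul_assoc, ← pow_add, ← mul_add, add_comm u, e,
        ← h.index_lev le_rfl, h.lev_n, card_mul_index])
  have e : {g : G | (centralizer {g}).index = p ^ i} = (lev p (a ^ (k - 1)) s : Set G) \ lev p (a ^ (k - 1)) (s + 1) := by
    ext g
    obtain ⟨t, t1, t2, t3⟩ := h.exists_lev g
    simp only [Set.mem_setOf_eq, Set.mem_diff, SetLike.mem_coe, h.mem_lev_iff (s := s) (by omega), h.mem_lev_iff (s := s + 1) (by omega),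
      h.index_cent t1 t2 t3, Nat.pow_le_pow_iff_right pr.one_lt, Nat.pow_right_inj pr.one_lt]
    omega
  change Nat.card {g : G | (centralizer {g}).index = p ^ i} = _
  rw [e, Nat.card_coe_set_eq, Set.ncard_diff (h.lev_anti s.le_succ), ← Nat.card_coe_set_eq, ← Nat.card_coe_set_eq,
    Nat.mul_sub, show 2 * i - 2 = 2 * (i - 1) by omega, ← c s i rfl, ← c (s + 1) (i - 1) (by omega)]
  rfl

end Cfsg.Agent.S3881
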