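import Cfsg.Statements.S3883
import Cfsg.Agent.H9.MC2

set_option autoImplicit false
open Cfsg

namespace Cfsg.Agent.S3883

/-- Let p be an odd prime and G a finite metacyclic p-group (G has a cyclic normal subgroup with cyclic quotient). Suppose G is non-abelian. Then an element g of G lies outside the Frattini subgroup if and only if its centralizer C_G(g) is abelian. -/
theorem result {G : Type*} [Group G] [Finite G] {p : ℕ} [Fact p.Prime] (hp : p ≠ 2) (hG : IsPGroup p G) (hmc : Cfsg.IsMetacyclic G) (hna : ¬ IsMulCommutative G) (g : G) :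
    g ∉ frattini G ↔ IsMulCommutative ↥(Subgroup.centralizer ({g} : Set G)) := by
  open Subgroup CfsgH2 CfsgH9 in
  obtain ⟨a, b, k, n, h⟩ := exists_MC hp hG hmc
  have pr : p.Prime := Fact.out
  have hn : 1 ≤ n := Nat.pos_of_ne_zero fun e => hna (by
    have := h.card_der
    rw [e, pow_zero, card_eq_one] at this
    exact ⟨⟨fun x y => le_centralizer_iff_bot.2 this (mem_top y) x (mem_top x)⟩⟩)
  obtain ⟨t, t1, t2, t3⟩ := h.exists_lev g
  have p1 := Nat.card_pos (α := centralizer ({g} : Set G))
  rw [mc_comm_iff hp hG hmc, h.frattini_eq hn, h.mem_lev_iff hn, ← Nat.mul_le_mul_right_iff (n := Nat.card _) (pow_pos pr.pos n),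
    ← h.card_der, index_mul_card, ← (centralizer {g}).card_mul_index, Nat.mul_le_mul_left_iff p1, h.card_der,
    h.index_cent t1 t2 t3, Nat.pow_le_pow_iff_right pr.one_lt, Nat.pow_le_pow_iff_right pr.one_lt]
  omega

end Cfsg.Agent.S3883
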