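import Cfsg.Statements.S3884
import Cfsg.Agent.H9.MC2

set_option autoImplicit false
open Cfsg

namespace Cfsg.Agent.S3884

/-- Let p be an odd prime and G a finite metacyclic p-group (G has a cyclic normal subgroup with cyclic quotient). Then G is the product of two cyclic subgroups with trivial intersection: there are cyclic subgroups A and B with A ∩ B = 1 and |A| · |B| = |G|. -/
theorem result {G : Type*} [Group G] [Finite G] {p : ℕ} [Fact p.Prime] (hp : p ≠ 2) (hG : IsPGroup p G) (hmc : Cfsg.IsMetacyclic G) : ∃ A B : Subgroup G, IsCyclic ↥A ∧ IsCyclic ↥B ∧ A ⊓ B = ⊥ ∧ Nat.card ↥A * Nat.card ↥B = Nat.card G := by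
  open Subgroup CfsgH2 CfsgH9 in
  obtain ⟨a, b, k, n, h⟩ := exists_MC hp hG hmc
  have pr : p.Prime := Fact.out
  have N : (zpowers a).Normal := zpow_one a ▸ h.normal 1
  have top : zpowers a ⊔ zpowers b = ⊤ := eq_top_iff.2 fun g _ => by
    obtain ⟨i, j, rfl⟩ := h.gen g
    exact mul_mem (mem_sup_left (zpow_mem_zpowers ..)) (mem_sup_right (npow_mem_zpowers ..))
  obtain ⟨s, hs⟩ := hG.index (zpowers a)
  obtain ⟨w, hw⟩ := hG.index (zpowers b)
  obtain ⟨m, hm⟩ := IsPGroup.iff_orderOf.1 hG a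
  have fin : ∀ x y : G, (zpowers x).index = p ^ min s w → y ^ p ^ min s w = 1 → (∀ j : ℕ, y ^ j ∈ zpowers x → p ^ min s w ∣ j) →
      ∃ A B : Subgroup G, IsCyclic A ∧ IsCyclic B ∧ A ⊓ B = ⊥ ∧ Nat.card A * Nat.card B = Nat.card G := fun x y i e d => by
    refine ⟨_, _, isCyclic_zpowers' x, isCyclic_zpowers' y, eq_bot_iff.2 fun g ⟨g1, g2⟩ => ?_, ?_⟩
    · obtain ⟨j, rfl⟩ := mem_powers_iff_mem_zpowers.2 g2
      obtain ⟨l, rfl⟩ := d j g1
      simp only [pow_mul, e, one_pow, mem_bot]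
    · rw [← (zpowers x).card_mul_index, i, Nat.card_zpowers y,
        Nat.dvd_antisymm (orderOf_dvd_of_pow_eq_one e) (d _ (pow_orderOf_eq_one y ▸ one_mem _))]
  have db : ∀ j : ℕ, b ^ j ∈ zpowers a ↔ p ^ s ∣ j := fun j => by
    rw [← hs, ← relIndex_top_right, ← top, relIndex_sup_left, ← QuotientGroup.ker_mk' (zpowers a), relIndex_ker,
      MonoidHom.map_zpowers, Nat.card_zpowers, orderOf_dvd_iff_pow_eq_one, ← map_pow]
    rfl
  obtain ⟨r, hr⟩ := (db _).2 dvd_rfl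
  have c1 : Nat.card (zpowers a) * p ^ s = Nat.card (zpowers b) * p ^ w := by rw [← hs, ← hw, card_mul_index, card_mul_index]
  have wm : w ≤ m := by
    have := orderOf_pow_of_dvd (x := b) (pow_ne_zero s pr.ne_zero) ((db _).1 (pow_orderOf_eq_one b ▸ one_mem _))
    obtain ⟨u, hu⟩ := (db _).1 (pow_orderOf_eq_one b ▸ one_mem _)
    rw [Nat.card_zpowers, Nat.card_zpowers, hm, hu, mul_comm, mul_assoc, Nat.mul_right_inj (pow_ne_zero s pr.ne_zero)] at c1
    exact (Nat.pow_dvd_pow_iff_le_right pr.one_lt).1 ⟨u, c1.trans (mul_comm _ _)⟩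
  have e1 : zpowers (b ^ p ^ s) = zpowers (a ^ p ^ w) := by
    have ob := (db _).1 (pow_orderOf_eq_one b ▸ one_mem _)
    have o : orderOf (b ^ p ^ s) = orderOf (a ^ p ^ w) := by
      rw [orderOf_pow_of_dvd (pow_ne_zero _ pr.ne_zero) ob, orderOf_pow_of_dvd (pow_ne_zero _ pr.ne_zero) (hm ▸ pow_dvd_pow p wm)]
      obtain ⟨u, hu⟩ := ob
      rw [Nat.card_zpowers, Nat.card_zpowers, hu, mul_comm, mul_assoc, Nat.mul_right_inj (pow_ne_zero s pr.ne_zero)] at c1
      rw [hu, c1, Nat.mul_div_cancel_left _ (pow_pos pr.pos _), Nat.mul_div_cancel _ (pow_pos pr.pos _)]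
    refine eq_of_le_of_card_ge (zpowers_le.2 ?_) (by rw [Nat.card_zpowers, Nat.card_zpowers, o])
    have := pow_orderOf_eq_one (b ^ p ^ s)
    rw [o, orderOf_pow_of_dvd (pow_ne_zero _ pr.ne_zero) (hm ▸ pow_dvd_pow p wm), hm, Nat.pow_div wm pr.pos] at this
    simp only at hr
    rw [← hr, ← zpow_natCast, ← zpow_mul, ← orderOf_dvd_iff_zpow_eq_one, hm] at this
    rw [← hr, zpow_mem_zpowers_pow hm wm]
    obtain ⟨d, rfl⟩ := Nat.exists_eq_add_of_le wm
    push_cast [pow_add, Nat.add_sub_cancel_left] at this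
    exact (mul_dvd_mul_iff_right (by exact_mod_cast pow_ne_zero d pr.ne_zero)).1 this
  have da : ∀ i : ℤ, a ^ i ∈ zpowers b → (p : ℤ) ^ w ∣ i := fun i hi => by
    obtain ⟨j, hj⟩ := mem_powers_iff_mem_zpowers.2 hi
    simp only at hj
    obtain ⟨l, rfl⟩ := (db j).1 (hj ▸ zpow_mem_zpowers ..)
    rw [← zpow_mem_zpowers_pow hm wm, ← e1, ← hj, pow_mul]
    exact npow_mem_zpowers ..
  rcases le_total s w with l | l <;> simp only [min_eq_left, min_eq_right, l] at fin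
  · obtain ⟨t, ht⟩ := ph_pow hp s h.k1
    simp only at hr
    obtain ⟨r, rfl⟩ := (pow_dvd_pow (p : ℤ) l).trans (da r (hr ▸ npow_mem_zpowers ..))
    obtain ⟨x, y, e⟩ := cop_of_dvd (p := p) (k := 1 + (k - 1) * t) (by simpa using h.k1.mul_right t) m
    refine fin a (a ^ (-(y * r)) * b ^ 1) hs ?_ fun j hj => ?_
    · rw [h.pow, pow_one, one_mul, ← hr, ← zpow_add, ← orderOf_dvd_iff_zpow_eq_one, hm, ht]
      exact ⟨x * p ^ s * r, by push_cast; linear_combination -(p : ℤ) ^ s * r * e⟩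
    · rw [h.pow, one_mul, mul_mem_cancel_left (zpow_mem_zpowers ..)] at hj
      exact (db j).1 hj
  · obtain ⟨j, hj⟩ := mem_powers_iff_mem_zpowers.2 (e1.ge (inv_mem (mem_zpowers _)))
    obtain ⟨d, rfl⟩ := Nat.exists_eq_add_of_le l
    obtain ⟨t, ht⟩ := ph_pow hp w (dvd_pow_sub_one h.k1 (p ^ d * j))
    refine fin b (a ^ (1 : ℤ) * b ^ (p ^ d * j)) hw ?_ fun i hi => ?_
    · have c := pow_mul_zpow_of_cj h.cj (p ^ d * j) (p ^ w)
      have c' : Commute (b ^ (p ^ d * j)) (a ^ p ^ w) := by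
        obtain ⟨u, hu⟩ := e1.ge (mem_zpowers _)
        exact hu ▸ ((Commute.refl b).pow_pow _ _).zpow_right u
      rw [← Nat.cast_pow, zpow_natCast, c'.eq, mul_left_inj, ← zpow_natCast, zpow_eq_zpow_iff_modEq] at c
      simp only at hj
      rw [h.pow, show p ^ d * j * p ^ w = p ^ (w + d) * j by ring, pow_mul b, hj, mul_inv_eq_one, ← zpow_natCast,
        zpow_eq_zpow_iff_modEq, ht, Int.modEq_iff_dvd]
      obtain ⟨u, hu⟩ := c.dvd
      exact ⟨-u * t, by push_cast at hu ⊢; linear_combination -t * hu⟩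
    · rw [h.pow, one_mul, mul_mem_cancel_right (npow_mem_zpowers ..)] at hi
      exact (dvd_ph hp w i (dvd_pow_sub_one h.k1 _)).1 (da _ hi)

end Cfsg.Agent.S3884
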