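import Cfsg.Statements.S3886
import Cfsg.Agent.H9.MC2

set_option autoImplicit false
open Cfsg

namespace Cfsg.Agent.S3886

/-- Let p be an odd prime and G a finite metacyclic p-group (G has a cyclic normal subgroup with cyclic quotient). Then the largest value of |R| · |Z(R)| over subgroups R of G is |G : G'|², and the subgroups attaining it (the centrally large subgroups) are exactly the non-abelian subgroups together with the maximal abelian subgroups of G. -/
theorem result {G : Type*} [Group G] [Finite G] {p : ℕ} [Fact p.Prime] (hp : p ≠ 2) (hG : IsPGroup p G) (hmc : Cfsg.IsMetacyclic G) : Cfsg.maxCentralProduct G = (commutator G).index ^ 2 ∧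
    ∀ R : Subgroup G, Cfsg.IsCentrallyLarge R ↔ (¬ IsMulCommutative ↥R ∨ Maximal (fun K : Subgroup G => IsMulCommutative ↥K) R) := by
  open Subgroup CfsgH2 CfsgH9 in
  have k : ∀ R : Subgroup G, Nat.card R * Nat.card (center R) = (commutator G).index ^ 2 ↔
      (¬ IsMulCommutative R ∨ Maximal (fun K : Subgroup G => IsMulCommutative K) R) := fun R => by
    by_cases c : IsMulCommutative R
    · rw [mc_max_iff hp hG hmc, or_iff_right (not_not.2 c), center_eq_top_iff.2 c, card_top, ← sq, Nat.pow_left_inj two_ne_zero]
    · exact iff_of_true (mc_prod hp hG hmc c) (.inl c)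
  obtain ⟨R, -, hR⟩ := exists_maximal_ge_of_wellFoundedGT (fun K : Subgroup G => IsMulCommutative K) ⊥ inferInstance
  have e : maxCentralProduct G = (commutator G).index ^ 2 := ((k R).2 (.inr hR)) ▸ ((eq_sSup_iff
    (fun R : Subgroup G => Nat.card R * Nat.card (center R)) R).2 fun Q => (mc_prod_le hp hG hmc Q).trans ((k R).2 (.inr hR)).ge).symm
  exact ⟨e, fun R => by rw [IsCentrallyLarge, e, k]⟩

end Cfsg.Agent.S3886
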