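import Cfsg.Statements.S3887
import Cfsg.Agent.H9.MC2

set_option autoImplicit false
open Cfsg

namespace Cfsg.Agent.S3887

/-- Let p be an odd prime and G a finite metacyclic p-group (G has a cyclic normal subgroup with cyclic quotient). Then a subgroup R of G maximizes |R| · |C_G(R)| over all subgroups of G if and only if R contains the center of G. -/
theorem result {G : Type*} [Group G] [Finite G] {p : ℕ} [Fact p.Prime] (hp : p ≠ 2) (hG : IsPGroup p G) (hmc : Cfsg.IsMetacyclic G) (R : Subgroup G) : Cfsg.IsCentralizerLarge R ↔ Subgroup.center G ≤ R := by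
  open Subgroup CfsgH2 CfsgH9 in
  have k : ∀ R : Subgroup G, Nat.card R * Nat.card (centralizer (R : Set G)) ≤ (commutator G).index ^ 2 ∧
      (center G ≤ R → Nat.card R * Nat.card (centralizer (R : Set G)) = (commutator G).index ^ 2) := fun R => by
    by_cases c : IsMulCommutative R
    · have c1 := le_inf (isMulCommutative_iff_le_centralizer.1 c) (le_centralizer_iff.1 (le_refl (centralizer (R : Set G))))
      refine ⟨(Nat.mul_le_mul_right _ (card_le_of_le c1)).trans ?_, fun z => ?_⟩
      · rw [← card_center_eq, mul_comm]; exact mc_prod_le hp hG hmc _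
      · have e := mc_cent_cent hp hG hmc c z
        by_cases c' : IsMulCommutative (centralizer (R : Set G))
        · rw [inf_eq_left.2 (isMulCommutative_iff_le_centralizer.1 c')] at e
          rw [← e, sq, (mc_max_iff hp hG hmc R).1 ⟨c, fun K hK l => (isMulCommutative_iff_le_centralizer.1 hK).trans
            ((centralizer_le l).trans e.ge)⟩]
        · rw [← mc_prod hp hG hmc c', card_center_eq, ← e, mul_comm]
    · have c2 := (isMulCommutative_iff_le_centralizer.trans le_centralizer_iff_bot).not.1 c
      have l : centralizer (R : Set G) ≤ R := fun x hx => by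
        have d := MCL.der_sup_cent (A := R) (Z := zpowers x) (by rw [CfsgFT.cent_sup]; exact le_inf (zpowers_le.2 hx) (le_centralizer _))
        exact (eq_of_le_of_card_ge (le_sup_left (b := zpowers x)) (by
          rw [(mc_card hp hG hmc _).2 (d ▸ c2), d, (mc_card hp hG hmc R).2 c2])).ge (mem_sup_right (mem_zpowers x))
      have m := mc_prod hp hG hmc c
      rw [card_center_eq, inf_eq_right.2 l] at m
      exact ⟨m.le, fun _ => m⟩
  refine ⟨fun h => ?_, fun h => cd_iff.2 fun Q => (k Q).1.trans ((k R).2 h).ge⟩
  rw [← (cd_iff.1 h).cent_cent]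
  exact center_le_centralizer _

end Cfsg.Agent.S3887
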