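import Cfsg.Statements.S3889
import Cfsg.Agent.H1.PG1

set_option autoImplicit false
open Cfsg

namespace Cfsg.Agent.S3889

/-- A finite abelian group that is the union of a family of proper subgroups any two of which intersect trivially is elementary abelian: its exponent is a prime. -/
theorem result {G : Type*} [CommGroup G] [Finite G] (𝓑 : Set (Subgroup G)) (hprop : ∀ B ∈ 𝓑, B ≠ ⊤)
    (hcov : ∀ g : G, ∃ B ∈ 𝓑, g ∈ B) (hdisj : ∀ B ∈ 𝓑, ∀ C ∈ 𝓑, B ≠ C → B ⊓ C = ⊥) :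
    (Monoid.exponent G).Prime := by
  open Subgroup CfsgH1 CfsgFT CfsgH2 in
  obtain ⟨B, hB, -⟩ := hcov 1
  obtain ⟨q, hq, h⟩ := exists_prime_dvd_card (H := (⊤ : Subgroup G)) fun e =>
    hprop B hB (eq_top_iff.2 (e.le.trans bot_le))
  obtain ⟨z, -, hz⟩ := exists_orderOf_eq_prime hq h
  have := pow_eq_one_of_partition (P := ⊤) (fun a _ b _ => mul_comm b a)
    (fun B hB e => hprop B hB (eq_top_iff.2 e)) (fun g _ => hcov g)
    (fun B hB D hD x _ h1 h2 h3 => by_contra fun e => h3 (mem_bot.1 ((hdisj B hB D hD e).le ⟨h1, h2⟩)))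
    (mem_top z) (fun e => hq.one_lt.ne (by rw [← hz, e, orderOf_one])) (hz ▸ pow_orderOf_eq_one z)
  rwa [Nat.dvd_antisymm (Monoid.exponent_dvd_of_forall_pow_eq_one fun g => this g trivial)
    (hz ▸ Monoid.order_dvd_exponent z)]

end Cfsg.Agent.S3889
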