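import Cfsg.Statements.S3890
import Cfsg.Agent.H1.PG2

set_option autoImplicit false
open Cfsg

namespace Cfsg.Agent.S3890

/-- A cover of a group is a finite set of proper subgroups whose union is the whole group; it is minimal when no cover has fewer members, and nilpotent when all its members are nilpotent. Let G be a finite group with trivial center admitting a nilpotent minimal cover 𝓐, and let P be an abelian Sylow p-subgroup of G that is not normal. Then either P is elementary abelian of order greater than p, or P is a Sylow p-subgroup of some member A of 𝓐, the normalizer N of P is a maximal subgroup of G, N meets each of its conjugates by elements outside N in a subgroup of order prime to p, and the centralizer of P equals A. -/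
theorem result {G : Type*} [Group G] [Finite G] (hZ : Subgroup.center G = ⊥) (𝓐 : Finset (Subgroup G))
    (h𝓐 : ((∀ A ∈ 𝓐, A ≠ ⊤) ∧ (∀ g : G, ∃ A ∈ 𝓐, g ∈ A)) ∧ (∀ 𝓑 : Finset (Subgroup G), (∀ A ∈ 𝓑, A ≠ ⊤) ∧ (∀ g : G, ∃ A ∈ 𝓑, g ∈ A) → 𝓐.card ≤ 𝓑.card) ∧ (∀ A ∈ 𝓐, Group.IsNilpotent ↥A)) {p : ℕ} [Fact p.Prime] (P : Sylow p G) (hab : IsMulCommutative ↥(P : Subgroup G))
    (hnn : ¬ (P : Subgroup G).Normal) :
    (Cfsg.IsElementaryAbelian p (P : Subgroup G) ∧ p < Nat.card ↥(P : Subgroup G)) ∨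
    (∃ A ∈ 𝓐, (P : Subgroup G) ≤ A ∧ ¬ p ∣ ((P : Subgroup G).subgroupOf A).index ∧
      IsCoatom (Subgroup.normalizer ((P : Subgroup G) : Set G)) ∧
      (∀ g : G, g ∉ Subgroup.normalizer ((P : Subgroup G) : Set G) →
        ¬ p ∣ Nat.card ↥(Subgroup.normalizer ((P : Subgroup G) : Set G) ⊓
          (Subgroup.normalizer ((P : Subgroup G) : Set G)).map (MulAut.conj g).toMonoidHom)) ∧
      Subgroup.centralizer ((P : Subgroup G) : Set G) = A) := by
  open Subgroup CfsgH1 CfsgFT CfsgH2 in
  rw [or_iff_not_imp_left]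
  intro hne
  have hP := IsSylowIn.of_sylow_top P
  have hc := isMulCommutative_iff_le_centralizer.1 hab
  obtain ⟨h1, h2, h3, -⟩ := nil_cover hZ h𝓐.1.2 h𝓐.1.1 h𝓐.2.1 h𝓐.2.2 hP hc hnn hne
  refine ⟨_, h1, hc, (hP.mono hc le_top).not_dvd, h3, fun g hg hd => hg (h2 g ?_), rfl⟩
  obtain ⟨x, hx, e⟩ := exists_orderOf_eq_prime Fact.out hd
  rw [cj_def, cj_normalizer] at hx
  have hz := isPGroup_zpowers_of_orderOf (e.trans (pow_one p).symm)
  exact fun h => (Fact.out : p.Prime).one_lt.ne' (by
    rw [← e, mem_bot.1 (h.le ⟨hP.le_of_le_normalizer hz le_top (zpowers_le.2 hx.1) (mem_zpowers x),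
      (hP.cj_of_mem_normalizer (le_normalizer (mem_top g))).le_of_le_normalizer hz le_top
        (zpowers_le.2 hx.2) (mem_zpowers x)⟩), orderOf_one])

end Cfsg.Agent.S3890
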