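import Cfsg.Statements.S3892
import Cfsg.Agent.S2532
import Cfsg.Agent.H1.Fitting
import Cfsg.Agent.H2.PResidual
import Cfsg.Agent.H2.SylowIn

set_option autoImplicit false
open Cfsg

namespace Cfsg.Agent.S3892

open Subgroup Equiv CfsgH2 Finset Pointwise
theorem cen {G : Type*} [Group G] [Finite G] {p : ℕ} (hp : p.Prime) (h2 : ¬ p ^ 2 ∣ Nat.card G) {A : Subgroup G} (hA : Group.IsNilpotent A) {x : G} (hx : x ∈ A)
    (o : orderOf x = p) : A ≤ centralizer {x} := fun g hg => by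
  haveI := Fact.mk hp
  obtain ⟨a, b, -, -, ⟨k, hk⟩, hb, e⟩ := exists_p_part (p := p) (⟨g, hg⟩ : A)
  obtain ⟨Q, hQ⟩ := (isPGroup_zpowers_of_orderOf hk).exists_le_sylow
  obtain ⟨P, hP⟩ := (isPGroup_zpowers_of_orderOf (x := (⟨x, hx⟩ : A)) (k := 1) (by simpa)).exists_le_sylow
  haveI := Sylow.unique_of_normal P inferInstance
  obtain ⟨j, hj⟩ := IsPGroup.iff_card.1 P.2
  haveI := isCyclic_of_card_dvd_prime (p := p) (hj ▸ (pow_dvd_pow p (not_lt.1 fun l : 1 < j => h2 ((pow_dvd_pow p l).trans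
    (hj ▸ (card_subgroup_dvd_card _).trans (card_subgroup_dvd_card A))))).trans (pow_one p).dvd)
  haveI : IsMulCommutative P.1 := IsCyclic.isMulCommutative
  have c : Commute a ⟨x, hx⟩ := setLike_mul_comm (Subsingleton.elim Q P ▸ hQ (mem_zpowers a) : a ∈ P.1) (hP (mem_zpowers _))
  exact mem_centralizer_singleton_iff.2 (congrArg Subtype.val (e ▸ c.mul_left (CfsgH1.commute_of_coprime_orderOf (by simpa [o])) : Commute (⟨g, hg⟩ : A) _))

theorem gen {G : Type*} [Group G] [Finite G] (h : ∃ p : ℕ, p.Prime ∧ ¬ p ^ 2 ∣ Nat.card G ∧ ∃ x y : G, orderOf x = p ∧ orderOf y = p ∧ x * y ≠ y * x ∧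
    ∃ M : Subgroup G, M ≠ ⊤ ∧ centralizer {x} ≤ M ∧ centralizer {y} ≤ M) :
    ¬ ∃ 𝓐 : Finset (Subgroup G), ((∀ A ∈ 𝓐, A ≠ ⊤) ∧ (∀ g : G, ∃ A ∈ 𝓐, g ∈ A)) ∧ (∀ 𝓑 : Finset (Subgroup G), (∀ A ∈ 𝓑, A ≠ ⊤) ∧ (∀ g : G, ∃ A ∈ 𝓑, g ∈ A) → 𝓐.card ≤ 𝓑.card) ∧
      (∀ A ∈ 𝓐, Group.IsNilpotent A) := by
  classical
  obtain ⟨p, hp, h2, x, y, ox, oy, n, M, t, mx, my⟩ := h
  rintro ⟨S, ⟨h1, hc⟩, hm, hn⟩
  obtain ⟨A, hA, xA⟩ := hc x
  obtain ⟨B, hB, yB⟩ := hc y
  have a := cen hp h2 (hn A hA) xA ox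
  have b := cen hp h2 (hn B hB) yB oy
  have e : B ≠ A := fun e => n (mem_centralizer_singleton_iff.1 (a (e ▸ yB))).symm
  have := hm (insert M ((S.erase A).erase B)) ⟨by simpa [t] using fun C _ _ => h1 C, fun g => by
    obtain ⟨C, hC, m⟩ := hc g
    by_cases c : C = A ∨ C = B
    · exact ⟨M, mem_insert_self _ _, c.elim (fun c => mx (a (c ▸ m))) fun c => my (b (c ▸ m))⟩
    exact ⟨C, by simp [not_or.1 c, hC], m⟩⟩
  have := card_insert_le M ((S.erase A).erase B)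
  have := card_erase_add_one hA
  have := card_erase_add_one (mem_erase.2 ⟨e, hB⟩)
  omega

theorem big {n : ℕ} (hn : 6 ≤ n) : ∃ p : ℕ, p.Prime ∧ ¬ p ^ 2 ∣ Nat.card (Perm (Fin n)) ∧ ∃ x y : alternatingGroup (Fin n), orderOf x = p ∧ orderOf y = p ∧ x * y ≠ y * x ∧
    ∃ M : Subgroup (Perm (Fin n)), ¬ alternatingGroup _ ≤ M ∧ centralizer {x.1} ≤ M ∧ centralizer {y.1} ≤ M := by
  obtain ⟨p, hp, l, u⟩ := Nat.exists_prime_lt_and_le_two_mul (n / 2) (by omega)
  have o := hp.odd_of_ne_two (by omega)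
  have p5 : 5 ≤ p ∧ p < n ∧ n < p * 2 := by obtain ⟨k, rfl⟩ := o; omega
  obtain ⟨x, e⟩ := (Perm.exists_with_cycleType_iff (Fin n) (m := {p})).2 ⟨by simp; omega, by simp; omega⟩
  have s : x ∈ alternatingGroup _ := by rw [Perm.mem_alternatingGroup, Perm.sign_of_cycleType, e]; exact Even.neg_one_pow (by simpa using o.add_one)
  have ox : orderOf x = p := by rw [← Perm.lcm_cycleType, e]; simp
  have cy : x.IsCycle := Perm.card_cycleType_eq_one.1 (by simp [e])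
  obtain ⟨a, ha, -⟩ := id cy
  have w : ∀ k, 0 < k → k < 4 → (x ^ k) a ≠ a := fun k b c q => by
    have := Nat.le_of_dvd b (ox ▸ orderOf_dvd_of_pow_eq_one ((cy.pow_eq_one_iff' ha).2 q)); omega
  have w2 : x (x a) ≠ a := w 2 (by decide) (by decide)
  have w3 : x (x (x a)) ≠ a := w 3 (by decide) (by decide)
  have c : ∀ g : Perm _, (∀ z, g z ≠ z ↔ x z ≠ z) → centralizer {g} ≤ MulAction.stabilizer _ {z | x z ≠ z} := fun g e y hy => MulAction.mem_stabilizer_set.2 fun z => by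
    simpa [← e] using Perm.mem_support_iff_of_commute (mem_centralizer_singleton_iff.1 hy) z
  obtain ⟨b, -, hb⟩ := exists_mem_notMem_of_card_lt_card (s := x.support) (t := univ) (by rw [← Perm.sum_cycleType, e]; simp; omega)
  rw [Perm.notMem_support] at hb
  refine ⟨_, hp, ?_, ⟨x, s⟩, ⟨swap a (x a) * x * (swap a (x a))⁻¹, (alternatingGroup.normal).conj_mem _ s _⟩, by rwa [orderOf_mk], by rw [orderOf_mk, orderOf_conj', ox], fun e => ?_, _, fun e => ?_,
    c _ fun _ => .rfl, c _ fun z => ?_⟩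
  · rw [Nat.card_perm, Nat.card_fin, hp.pow_dvd_factorial_iff (b := 2) (Nat.log_lt_of_lt_pow (by omega) (by nlinarith))]
    simpa using Nat.div_lt_of_lt_mul p5.2.2
  · have := congrArg (fun g => g.1 (x a)) e
    simp [swap_apply_of_ne_of_ne, w2, w3, ha] at this
    exact w2 this.symm
  · have n : ∀ z, x z ≠ z → b ≠ z := fun z h q => h (q ▸ hb)
    simpa [hb, ha, swap_apply_of_ne_of_ne (n _ (x.injective.ne ha)).symm ha] using MulAction.mem_stabilizer_set.1 (e (Perm.isThreeCycle_swap_mul_swap_same (n a ha) (n _ (x.injective.ne ha)) ha.symm).mem_alternatingGroup) b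
  rw [Perm.mul_apply, Perm.mul_apply, swap_inv, Ne, swap_apply_eq_iff, swap_apply_def]
  split_ifs with h k <;> simp [*]

/-- A cover of a group is a finite set of proper subgroups whose union is the whole group; it is minimal when no cover has fewer members, and nilpotent when all its members are nilpotent. The alternating groups of degree at least 5 and the symmetric groups of degree at least 4 have no nilpotent minimal cover. -/
theorem result (n : ℕ) :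
    (5 ≤ n → ¬ ∃ 𝓐 : Finset (Subgroup ↥(alternatingGroup (Fin n))), ((∀ A ∈ 𝓐, A ≠ ⊤) ∧ (∀ g : ↥(alternatingGroup (Fin n)), ∃ A ∈ 𝓐, g ∈ A)) ∧ (∀ 𝓑 : Finset (Subgroup ↥(alternatingGroup (Fin n))), (∀ A ∈ 𝓑, A ≠ ⊤) ∧ (∀ g : ↥(alternatingGroup (Fin n)), ∃ A ∈ 𝓑, g ∈ A) → 𝓐.card ≤ 𝓑.card) ∧ (∀ A ∈ 𝓐, Group.IsNilpotent ↥A)) ∧
    (4 ≤ n → ¬ ∃ 𝓐 : Finset (Subgroup (Equiv.Perm (Fin n))), ((∀ A ∈ 𝓐, A ≠ ⊤) ∧ (∀ g : (Equiv.Perm (Fin n)), ∃ A ∈ 𝓐, g ∈ A)) ∧ (∀ 𝓑 : Finset (Subgroup (Equiv.Perm (Fin n))), (∀ A ∈ 𝓑, A ≠ ⊤) ∧ (∀ g : (Equiv.Perm (Fin n)), ∃ A ∈ 𝓑, g ∈ A) → 𝓐.card ≤ 𝓑.card) ∧ (∀ A ∈ 𝓐, Group.IsNilpotent ↥A)) := by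
  refine ⟨fun h => gen ?_, fun h => gen ?_⟩
  · by_cases l : 6 ≤ n
    · obtain ⟨p, hp, d, x, y, a, b, c, M, e, f, g⟩ := big l
      exact ⟨p, hp, mt (·.trans (card_subgroup_dvd_card _)) d, x, y, a, b, c, M.subgroupOf _, mt subgroupOf_eq_top.1 e,
        fun z m => f (mem_centralizer_singleton_iff.2 (congrArg Subtype.val (mem_centralizer_singleton_iff.1 m))),
        fun z m => g (mem_centralizer_singleton_iff.2 (congrArg Subtype.val (mem_centralizer_singleton_iff.1 m)))⟩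
    obtain rfl : n = 5 := by omega
    refine ⟨3, Nat.prime_three, by rw [nat_card_alternatingGroup, Nat.card_fin]; decide, ⟨swap 0 1 * swap 0 2, Perm.mem_alternatingGroup.2 (by decide)⟩,
      ⟨swap 0 1 * swap 0 3, Perm.mem_alternatingGroup.2 (by decide)⟩, orderOf_eq_prime (by decide) (by decide), orderOf_eq_prime (by decide) (by decide), by decide,
      MulAction.stabilizer _ (4 : Fin 5), fun e => absurd (e.ge (mem_top ⟨swap 0 1 * swap 0 4, Perm.mem_alternatingGroup.2 (by decide)⟩) : (swap 0 1 * swap 0 4 : Perm (Fin 5)) 4 = 4) (by decide), ?_, ?_⟩ <;>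
    simp only [SetLike.le_def, mem_centralizer_singleton_iff, MulAction.mem_stabilizer_iff] <;> decide +kernel
  by_cases l : 6 ≤ n
  · obtain ⟨p, hp, d, x, y, a, b, c, M, e, f, g⟩ := big l
    exact ⟨p, hp, d, x, y, by simpa, by simpa, fun q => c (Subtype.ext q), M, fun q => e (q ▸ le_top), f, g⟩
  have t : ∀ n, alternatingGroup (Fin (n + 2)) ≠ ⊤ := fun n e => absurd (e ▸ alternatingGroup.index_eq_two (α := Fin (n + 2))) (by simp)
  obtain rfl | rfl : n = 4 ∨ n = 5 := by omega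
  · refine ⟨3, Nat.prime_three, by rw [Nat.card_perm, Nat.card_fin]; decide, swap 0 1 * swap 0 2, swap 0 1 * swap 0 3, orderOf_eq_prime (by decide) (by decide),
      orderOf_eq_prime (by decide) (by decide), by decide, _, t 2, ?_, ?_⟩ <;>
    simp only [SetLike.le_def, mem_centralizer_singleton_iff, Perm.mem_alternatingGroup] <;> decide +kernel
  haveI : Fact (Nat.Prime 5) := ⟨by decide⟩
  refine ⟨5, by decide, by rw [Nat.card_perm, Nat.card_fin]; decide, finRotate 5, swap 0 1 * finRotate 5 * swap 0 1, orderOf_eq_prime (by decide) (by decide),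
    orderOf_eq_prime (by decide) (by decide), by decide, _, t 3, ?_, ?_⟩ <;>
  simp only [SetLike.le_def, mem_centralizer_singleton_iff, Perm.mem_alternatingGroup] <;> decide +kernel

end Cfsg.Agent.S3892
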