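import Cfsg.Statements.S3894
import Cfsg.Agent.H1.GL2s
import Cfsg.Agent.H1.Fitting
import Cfsg.Agent.H2.PGroup

set_option autoImplicit false
open Cfsg

namespace Cfsg.Agent.S3894
open Subgroup CfsgH2
open scoped commutatorElement

open Matrix CfsgH1 CfsgH1.L2
open Matrix.SpecialLinearGroup (toGL)

theorem nil_le {Q : Type*} [Group Q] {A M : Subgroup Q} (hA : Group.IsNilpotent A) {x : Q} (hx : x ∈ A) (hM : x ∈ M)
    (h : ∀ g, g⁻¹ * x * g ∈ M → g ∈ M) : A ≤ M := by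
  have := normalizerCondition_iff_only_full_group_self_normalizing.1 (normalizerCondition_of_isNilpotent (G := A))
    (M.subgroupOf A) (le_antisymm (fun (g : A) hg => h g.1 ((mem_normalizer_iff''.1 hg (⟨x, hx⟩ : A)).1 hM)) le_normalizer)
  exact subgroupOf_eq_top.1 this

theorem shrink {Q : Type*} [Group Q] {𝓐 : Finset (Subgroup Q)}
    (h : ∀ 𝓑 : Finset (Subgroup Q), (∀ A ∈ 𝓑, A ≠ ⊤) ∧ (∀ g : Q, ∃ A ∈ 𝓑, g ∈ A) → 𝓐.card ≤ 𝓑.card)
    (f : Subgroup Q → Subgroup Q) {B : Subgroup Q} (hB : B ∈ 𝓐) (h1 : ∀ A ∈ 𝓐, f A ≠ ⊤)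
    (h2 : ∀ g, ∃ A ∈ 𝓐, A ≠ B ∧ g ∈ f A) : False := by
  classical
  have := h ((𝓐.erase B).image f) ⟨fun A hA => by
    obtain ⟨X, hX, rfl⟩ := Finset.mem_image.1 hA
    exact h1 X (Finset.mem_of_mem_erase hX), fun g => by
    obtain ⟨A, a, b, c⟩ := h2 g
    exact ⟨f A, Finset.mem_image_of_mem f (Finset.mem_erase.2 ⟨b, a⟩), c⟩⟩
  exact absurd (this.trans Finset.card_image_le) (not_le.2 (Finset.card_erase_lt_of_mem hB))

section
variable {F : Type*} [Field F] {n : ℕ} {G : Subgroup (GL (Fin n) F ⧸ center (GL (Fin n) F))}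

def dn (G : Subgroup (GL (Fin n) F ⧸ center (GL (Fin n) F))) (M : Subgroup (GL (Fin n) F)) : Subgroup G :=
  (M.map (QuotientGroup.mk' _)).subgroupOf G

theorem dn_mem {M : Subgroup (GL (Fin n) F)} (hZ : center _ ≤ M) {g : GL (Fin n) F} {u : G}
    (e : u.1 = QuotientGroup.mk g) : u ∈ dn G M ↔ g ∈ M :=
  ⟨fun ⟨a, ha, b⟩ => by simpa using M.mul_mem ha (hZ (QuotientGroup.eq.1 (b.trans e))), fun h => ⟨g, h, e.symm⟩⟩

theorem up_le {M : Subgroup (GL (Fin n) F)} (hZ : center _ ≤ M) {A : Subgroup G} (hA : Group.IsNilpotent A)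
    {x : GL (Fin n) F} {u : G} (e : u.1 = QuotientGroup.mk x) (hu : u ∈ A) (hx : x ∈ M)
    (h : ∀ g, g⁻¹ * x * g ∈ M → g ∈ M) : A ≤ dn G M :=
  nil_le hA hu ((dn_mem hZ e).2 hx) fun w hw => by
    obtain ⟨g, hg⟩ := QuotientGroup.mk_surjective w.1
    exact (dn_mem hZ hg.symm).2 (h g ((dn_mem hZ (by simp [e, ← hg])).1 hw))

def St (v : Fin n → F) : Subgroup (GL (Fin n) F) where
  carrier := {g | ∃ c : Fˣ, g.1 *ᵥ v = c • v}
  one_mem' := ⟨1, by simp⟩
  mul_mem' := fun {a b} ⟨c, h⟩ ⟨d, k⟩ => ⟨d * c, by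
    rw [Units.val_mul, ← mulVec_mulVec, k, mulVec_smul, h, mul_smul]⟩
  inv_mem' := fun {a} ⟨c, h⟩ => ⟨c⁻¹, by
    rw [eq_inv_smul_iff, ← mulVec_smul, ← h, mulVec_mulVec, Units.inv_mul, one_mulVec]⟩

def St' (v : Fin n → F) : Subgroup (GL (Fin n) F) where
  carrier := {g | ∃ c : Fˣ, v ᵥ* g.1 = c • v}
  one_mem' := ⟨1, by simp⟩
  mul_mem' := fun {a b} ⟨c, h⟩ ⟨d, k⟩ => ⟨c * d, by
    rw [Units.val_mul, ← vecMul_vecMul, h, smul_vecMul, k, mul_smul]⟩
  inv_mem' := fun {a} ⟨c, h⟩ => ⟨c⁻¹, by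
    rw [eq_inv_smul_iff, ← smul_vecMul, ← h, vecMul_vecMul, Units.mul_inv, vecMul_one]⟩

theorem Z_St (v : Fin n → F) : center _ ≤ St v := by
  rw [GeneralLinearGroup.center_eq_range_scalar]
  rintro _ ⟨c, rfl⟩
  exact ⟨c, by ext i; simp [mulVec_diagonal, Units.smul_def]⟩

theorem Z_St' (v : Fin n → F) : center _ ≤ St' v := by
  rw [GeneralLinearGroup.center_eq_range_scalar]
  rintro _ ⟨c, rfl⟩
  exact ⟨c, by ext i; simp [vecMul_diagonal, Units.smul_def, mul_comm]⟩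

theorem mv_ne (g : GL (Fin n) F) {v : Fin n → F} (hv : v ≠ 0) : g.1 *ᵥ v ≠ 0 := fun e => hv (by
  rw [← one_mulVec v, ← Units.inv_mul g, ← mulVec_mulVec, e, mulVec_zero])

theorem vm_ne (g : GL (Fin n) F) {v : Fin n → F} (hv : v ≠ 0) : v ᵥ* g.1 ≠ 0 := fun e => hv (by
  rw [← vecMul_one v, ← Units.mul_inv g, ← vecMul_vecMul, e, zero_vecMul])

theorem St_of {g : GL (Fin n) F} {v : Fin n → F} (hv : v ≠ 0) {c : F} (h : g.1 *ᵥ v = c • v) : g ∈ St v :=
  ⟨Units.mk0 c fun e => mv_ne g hv (by rw [h, e, zero_smul]), h⟩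

theorem St_of' {g : GL (Fin n) F} {v : Fin n → F} (hv : v ≠ 0) {c : F} (h : v ᵥ* g.1 = c • v) : g ∈ St' v :=
  ⟨Units.mk0 c fun e => vm_ne g hv (by rw [h, e, zero_smul]), h⟩

theorem St_cj {x g : GL (Fin n) F} {v : Fin n → F} (h : g⁻¹ * x * g ∈ St v) : x ∈ St (g.1 *ᵥ v) := by
  obtain ⟨c, h⟩ := h
  exact ⟨c, by rw [← mulVec_smul, ← h, mulVec_mulVec, mulVec_mulVec, ← Units.val_mul, ← Units.val_mul]; group⟩

theorem St_cj' {x g : GL (Fin n) F} {v : Fin n → F} (h : g⁻¹ * x * g ∈ St' v) : x ∈ St' (v ᵥ* g⁻¹.1) := by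
  obtain ⟨c, h⟩ := h
  exact ⟨c, by rw [← smul_vecMul, ← h, vecMul_vecMul, vecMul_vecMul, ← Units.val_mul, ← Units.val_mul]; group⟩

def JJ (n : ℕ) (F : Type*) [Field F] : SpecialLinearGroup (Fin n) F :=
  ⟨of fun i j => (if i = j then 1 else 0) + if (j : ℕ) = i + 1 then 1 else 0, by
    rw [det_of_upperTriangular fun i j (h : j < i) => by
      rw [of_apply, if_neg h.ne', if_neg (by have : (j : ℕ) < i := h; omega), add_zero]]
    simp⟩

theorem J1 (w : Fin (n + 1) → F) (i : Fin n) : ((JJ _ F).1 *ᵥ w) i.castSucc = w i.castSucc + w i.succ := by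
  have : ∀ j : Fin (n + 1), ((j : ℕ) = i + 1) = (j = i.succ) := fun j => by rw [Fin.ext_iff]; rfl
  simp [JJ, mulVec, dotProduct, add_mul, Finset.sum_add_distrib, this]

theorem J2 (w : Fin (n + 1) → F) : ((JJ _ F).1 *ᵥ w) (Fin.last n) = w (Fin.last n) := by
  have : ∀ j : Fin (n + 1), ¬ ((j : ℕ) = n + 1) := fun j => j.2.ne
  simp [JJ, mulVec, dotProduct, this]

theorem J3 (w : Fin (n + 1) → F) (i : Fin n) : (w ᵥ* (JJ _ F).1) i.succ = w i.succ + w i.castSucc := by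
  have : ∀ j : Fin (n + 1), ((i : ℕ) = j) = (j = i.castSucc) := fun j => by rw [Fin.ext_iff]; exact propext eq_comm
  simp [JJ, vecMul, dotProduct, mul_add, Finset.sum_add_distrib, this]

theorem J4 (w : Fin (n + 1) → F) : (w ᵥ* (JJ _ F).1) 0 = w 0 := by
  simp [JJ, vecMul, dotProduct]

theorem zz {c a : F} (h : c ≠ 1) (e : a = c * a) : a = 0 := by
  by_contra k
  exact h (mul_right_cancel₀ k (e.symm.trans (one_mul a).symm))

theorem P1 {w : Fin (n + 1) → F} (hw : w ≠ 0) (h : toGL (JJ _ F) ∈ St w) : w = w 0 • Pi.single 0 1 := by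
  obtain ⟨c, h⟩ := h
  have e1 : ∀ i : Fin n, w i.castSucc + w i.succ = c * w i.castSucc := fun i => (J1 w i).symm.trans (congrFun h _)
  have e2 : w (Fin.last n) = c * w (Fin.last n) := (J2 w).symm.trans (congrFun h _)
  by_cases hc : (c : F) = 1
  · ext i
    induction i using Fin.cases with
    | zero => simp
    | succ i => simpa [hc] using e1 i
  · refine absurd (funext fun i => ?_) hw
    induction i using Fin.reverseInduction with
    | last => exact zz hc e2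
    | cast i ih => exact zz hc (by rw [← e1, ih]; simp)

theorem P2 {w : Fin (n + 1) → F} (hw : w ≠ 0) (h : toGL (JJ _ F) ∈ St' w) :
    w = w (Fin.last n) • Pi.single (Fin.last n) 1 := by
  obtain ⟨c, h⟩ := h
  have e1 : ∀ i : Fin n, w i.succ + w i.castSucc = c * w i.succ := fun i => (J3 w i).symm.trans (congrFun h _)
  have e2 : w 0 = c * w 0 := (J4 w).symm.trans (congrFun h _)
  by_cases hc : (c : F) = 1
  · ext i
    induction i using Fin.lastCases with
    | last => simp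
    | cast i => simpa [hc, (Fin.castSucc_lt_last i).ne] using e1 i
  · refine absurd (funext fun i => ?_) hw
    induction i using Fin.induction with
    | zero => exact zz hc e2
    | succ i ih => exact zz hc (by rw [← e1, ih]; simp)

theorem s_ne (i : Fin n) : (Pi.single i 1 : Fin n → F) ≠ 0 := fun e => by simpa using congrFun e i

theorem J_St : toGL (JJ (n + 1) F) ∈ St (Pi.single 0 1) := ⟨1, by
  ext i
  induction i using Fin.lastCases with
  | last => exact (J2 _).trans (by simp)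
  | cast i => exact (J1 _ i).trans (by simp)⟩

theorem J_St' : toGL (JJ (n + 1) F) ∈ St' (Pi.single (Fin.last n) 1) := ⟨1, by
  ext i
  induction i using Fin.cases with
  | zero => exact (J4 _).trans (by simp)
  | succ i => exact (J3 _ i).trans (by simp [(Fin.castSucc_lt_last i).ne])⟩

def tv (i j : Fin n) (h : i ≠ j) (F : Type*) [Field F] : SpecialLinearGroup (Fin n) F :=
  ⟨transvection i j 1, det_transvection_of_ne i j h 1⟩

theorem tv_val (i j : Fin n) (h : i ≠ j) : (toGL (tv i j h F)).1 = 1 + single i j 1 := rfl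
end

variable {F : Type*} [Field F]

def xv (v : Fin 2 → F) : S2 F :=
  ⟨!![1 - v 0 * v 1, v 0 ^ 2; -v 1 ^ 2, 1 + v 0 * v 1], by simp [det_fin_two]; ring⟩

theorem xv_val (v : Fin 2 → F) : (toGL (xv v)).1 = !![1 - v 0 * v 1, v 0 ^ 2; -v 1 ^ 2, 1 + v 0 * v 1] := rfl

theorem xv_St (v : Fin 2 → F) : toGL (xv v) ∈ St v :=
  ⟨1, by rw [xv_val]; ext i; fin_cases i <;> simp [mulVec, dotProduct, Fin.sum_univ_two] <;> ring⟩

theorem xv_u {v w : Fin 2 → F} (hv : v ≠ 0) (h : toGL (xv v) ∈ St w) : ∃ c : F, w = c • v := by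
  obtain ⟨c, h⟩ := h
  rw [xv_val] at h
  have a := congrFun h 0
  have b := congrFun h 1
  simp [mulVec, dotProduct, Fin.sum_univ_two, Units.smul_def] at a b
  have d : v 0 * w 1 - v 1 * w 0 = 0 := by
    by_contra k
    have c1 : (c : F) = 1 := (mul_right_cancel₀ k (by linear_combination v 0 * b - v 1 * a)).symm
    rw [c1] at a b
    refine hv (funext fun i => ?_)
    fin_cases i
    · exact mul_right_cancel₀ k (by simp only [Fin.zero_eta, Pi.zero_apply]; linear_combination a)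
    · exact mul_right_cancel₀ k (by simp only [Fin.mk_one, Pi.zero_apply]; linear_combination b)
  by_cases h0 : v 0 = 0
  · have h1 : v 1 ≠ 0 := fun h1 => hv (funext fun i => by fin_cases i <;> assumption)
    refine ⟨w 1 / v 1, funext fun i => ?_⟩
    fin_cases i <;> simp <;> field_simp
    linear_combination -d
  · refine ⟨w 0 / v 0, funext fun i => ?_⟩
    fin_cases i <;> simp <;> field_simp
    linear_combination d

theorem comm_up [Finite F] {G : Subgroup (G2 F ⧸ center (G2 F))} {A : Subgroup G} (hA : Group.IsNilpotent A)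
    {a : Fˣ} (ha : a ^ 2 ≠ 1) {z : G2 F} {u w : G} (e1 : u.1 = QuotientGroup.mk (toGL (utS a 0)))
    (e2 : w.1 = QuotientGroup.mk z) (hu : u ∈ A) (hw : w ∈ A) {m : ℕ} (hm : z ^ m = 1) (cop : (orderOf a).Coprime m)
    (ht : z.1.trace ≠ 0 ∨ (2 : F) = 0) : z.1 0 1 = 0 ∧ z.1 1 0 = 0 := by
  let f : Fˣ →* S2 F := MonoidHom.mk' (fun a => utS a 0) fun a b => by simp [utS_mul]
  have o1 : orderOf (⟨u, hu⟩ : A) ∣ orderOf a := by
    rw [orderOf_mk, ← orderOf_coe, e1]
    exact orderOf_map_dvd ((QuotientGroup.mk' _).comp ((toGL : S2 F →* G2 F).comp f)) a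
  have o2 : orderOf (⟨w, hw⟩ : A) ∣ m := by
    rw [orderOf_mk, ← orderOf_coe, e2]
    exact (orderOf_map_dvd (QuotientGroup.mk' _) z).trans (orderOf_dvd_of_pow_eq_one hm)
  have c := commute_of_coprime_orderOf ((cop.coprime_dvd_left o1).coprime_dvd_right o2)
  have c : (QuotientGroup.mk (toGL (utS a 0) * z) : G2 F ⧸ center (G2 F)) = QuotientGroup.mk (z * toGL (utS a 0)) := by
    rw [QuotientGroup.mk_mul, QuotientGroup.mk_mul, ← e1, ← e2]
    exact congrArg (fun t : A => t.1.1) c.eq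
  obtain ⟨r, hr⟩ := sc_iff.1 (mem_centerG.1 (QuotientGroup.eq.1 c))
  have e := congrArg Units.val (mul_inv_cancel_left (toGL (utS a 0) * z) (z * toGL (utS a 0)))
  rw [Units.val_mul, hr, mul_smul_comm, Matrix.mul_one] at e
  have e : r • ((utS a 0).1 * z.1) = z.1 * (utS a 0).1 := e
  have d := congrArg det e
  rw [det_smul, det_mul, det_mul, (utS a 0).2, Fintype.card_fin, one_mul, mul_one] at d
  have d : r ^ 2 = 1 := mul_right_cancel₀ z.det_ne_zero (d.trans (one_mul _).symm)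
  have a0 := congrFun (congrFun e 0) 0
  have a1 := congrFun (congrFun e 0) 1
  have a2 := congrFun (congrFun e 1) 0
  have a3 := congrFun (congrFun e 1) 1
  simp only [Matrix.smul_apply, mul2, utS_val, smul_eq_mul] at a0 a1 a2 a3
  simp at a0 a1 a2 a3
  have an := a.ne_zero
  have r1 : r = 1 := by
    rcases ht with t | t
    · rw [trace_fin_two] at t
      refine mul_right_cancel₀ t ?_
      field_simp at a0 a3
      linear_combination a0 + a3
    · exact sub_eq_zero.1 (pow_eq_zero_iff two_ne_zero |>.1 (by linear_combination d + (1 - r) * t))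
  have n1 : (a : F) ^ 2 - 1 ≠ 0 := sub_ne_zero.2 fun h => ha (Units.ext (by simpa using h))
  rw [r1] at a1 a2
  field_simp at a1 a2
  exact ⟨mul_left_cancel₀ n1 (by linear_combination a1), mul_left_cancel₀ n1 (by linear_combination -a2)⟩

theorem nums {q : ℕ} (h : 4 ≤ q) : ∃ a b, a ∣ q - 1 ∧ b ∣ q + 1 ∧ a.Coprime b ∧ ¬ a ∣ 2 ∧ ¬ b ∣ 4 := by
  obtain ⟨k, m, hm, e⟩ := Nat.exists_eq_two_pow_mul_odd (show q + 1 ≠ 0 by omega)
  by_cases m1 : m = 1
  · subst m1
    obtain _ | _ | k := k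
    · omega
    · omega
    have e2 : q + 1 = 4 * 2 ^ k := by rw [e]; ring
    refine ⟨2 * 2 ^ k - 1, q + 1, ⟨2, by omega⟩, dvd_rfl, ?_, fun d => ?_, fun d => ?_⟩
    · rw [e, mul_one]
      exact Nat.Coprime.pow_right _ (Nat.coprime_two_right.2 ⟨2 ^ k - 1, by omega⟩)
    · have := Nat.le_of_dvd two_pos d; omega
    · have := Nat.le_of_dvd (by norm_num) d; omega
  · have hd : m ∣ q + 1 := ⟨_, e.trans (mul_comm _ _)⟩
    have c2 := Nat.coprime_two_right.2 hm
    refine ⟨q - 1, m, dvd_rfl, hd, ?_, fun d => ?_, fun d => m1 ?_⟩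
    · have := Nat.dvd_sub ((Nat.gcd_dvd_right (q - 1) m).trans hd) (Nat.gcd_dvd_left (q - 1) m)
      rw [show q + 1 - (q - 1) = 2 by omega] at this
      exact Nat.Coprime.eq_one_of_dvd (c2.coprime_dvd_left (Nat.gcd_dvd_right _ _)) this
    · have := Nat.le_of_dvd two_pos d; omega
    · exact Nat.Coprime.eq_one_of_dvd (c2.pow_right 2) d

/-- A cover of a group is a finite set of proper subgroups whose union is the whole group; it is minimal when no cover has fewer members, and nilpotent when all its members are nilpotent. Let F be a finite field with q elements and n ≥ 3, or n = 2 and q ≥ 4. Then no subgroup of PGL_n(F) = GL_n(F)/Z(GL_n(F)) containing the image of SL_n(F) has a nilpotent minimal cover. -/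
theorem result {F : Type*} [Field F] [Fintype F] (n : ℕ) (hn : 3 ≤ n ∨ (n = 2 ∧ 4 ≤ Fintype.card F))
    (G : Subgroup (GL (Fin n) F ⧸ Subgroup.center (GL (Fin n) F)))
    (hG : ((Matrix.SpecialLinearGroup.toGL : Matrix.SpecialLinearGroup (Fin n) F →* GL (Fin n) F).range).map
      (QuotientGroup.mk' (Subgroup.center (GL (Fin n) F))) ≤ G) :
    ¬ ∃ 𝓐 : Finset (Subgroup ↥G), ((∀ A ∈ 𝓐, A ≠ ⊤) ∧ (∀ g : ↥G, ∃ A ∈ 𝓐, g ∈ A)) ∧ (∀ 𝓑 : Finset (Subgroup ↥G), (∀ A ∈ 𝓑, A ≠ ⊤) ∧ (∀ g : ↥G, ∃ A ∈ 𝓑, g ∈ A) → 𝓐.card ≤ 𝓑.card) ∧ (∀ A ∈ 𝓐, Group.IsNilpotent ↥A) := by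
  classical
  rintro ⟨𝓐, ⟨h1, h2⟩, h3, h4⟩
  let el : SpecialLinearGroup (Fin n) F → G := fun s => ⟨QuotientGroup.mk (toGL s), hG ⟨_, ⟨s, rfl⟩, rfl⟩⟩
  rcases hn with hn | ⟨rfl, hq⟩
  · obtain ⟨m, rfl⟩ : ∃ m, n = m + 3 := ⟨n - 3, by omega⟩
    have n1 : Fin.last (m + 2) ≠ 1 := fun e => by simpa using congrArg Fin.val e
    have p1 : ∀ g : GL (Fin (m + 3)) F, g⁻¹ * toGL (JJ _ F) * g ∈ St (Pi.single 0 1) → g ∈ St (Pi.single 0 1) :=
      fun g h => St_of (s_ne _) (P1 (mv_ne g (s_ne _)) (St_cj h))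
    have p2 : ∀ g : GL (Fin (m + 3)) F, g⁻¹ * toGL (JJ _ F) * g ∈ St' (Pi.single (Fin.last _) 1) →
        g ∈ St' (Pi.single (Fin.last _) 1) :=
      fun g h => inv_mem_iff.1 (St_of' (s_ne _) (P2 (vm_ne g⁻¹ (s_ne _)) (St_cj' h)))
    have t0 : toGL (tv _ _ n1 F) ∈ St (Pi.single 0 1) := ⟨1, by rw [tv_val, add_mulVec, one_mulVec, single_mulVec]; simp⟩
    obtain ⟨A, a1, a2⟩ := h2 (el (JJ _ F))
    obtain ⟨B, b1, b2⟩ := h2 (el ((tv _ _ n1 F)⁻¹ * JJ _ F * tv _ _ n1 F))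
    have a3 := up_le (Z_St _) (h4 A a1) rfl a2 J_St p1
    have b3 := up_le (Z_St (Pi.single 0 1)) (h4 B b1) rfl b2 (by
      rw [map_mul, map_mul, map_inv]; exact mul_mem (mul_mem (inv_mem t0) J_St) t0) fun g h => by
        rw [← mul_mem_cancel_left t0]
        refine p1 _ ?_
        rw [map_mul, map_mul, map_inv] at h
        simpa only [_root_.mul_inv_rev, mul_assoc] using h
    refine shrink h3 (fun X => if X ≤ dn G (St (Pi.single 0 1)) then dn G (St (Pi.single 0 1)) else X) b1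
      (fun X hX => ?_) fun g => ?_
    · split_ifs
      · intro e
        obtain ⟨c, hc⟩ := (dn_mem (Z_St _) (u := el (tv 1 0 one_ne_zero F)) rfl).1 (e.ge (mem_top _))
        rw [tv_val, add_mulVec] at hc
        simpa [single_mulVec] using congrFun hc 1
      · exact h1 X hX
    · obtain ⟨X, x1, x2⟩ := h2 g
      by_cases e : X = B
      · refine ⟨A, a1, fun e2 => ?_, by rw [if_pos a3]; exact b3 (e ▸ x2)⟩
        have := (dn_mem (Z_St' _) rfl).1 (up_le (Z_St' _) (h4 A a1) rfl a2 J_St' p2 (e2 ▸ b2))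
        rw [map_mul, map_mul, map_inv] at this
        obtain ⟨c, hc⟩ := p2 _ this
        rw [tv_val, vecMul_add] at hc
        simpa [n1.symm, n1] using congrFun hc 1
      · refine ⟨X, x1, e, ?_⟩
        split_ifs with h
        exacts [h x2, x2]
  obtain ⟨d1, d2, e1, e2, cop, n1, n2⟩ := nums hq
  obtain ⟨a0, ha0⟩ := IsCyclic.exists_ofOrder_eq_natCard (α := Fˣ)
  rw [card_units'] at ha0
  obtain ⟨a, ha⟩ : ∃ a : Fˣ, orderOf a = d1 := ⟨_, orderOf_pow_orderOf_div (orderOf_pos a0).ne' (ha0 ▸ e1)⟩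
  have a2 : a ^ 2 ≠ 1 := fun e => n1 (ha ▸ orderOf_dvd_of_pow_eq_one e)
  obtain ⟨B, b1, b2⟩ := h2 (el (utS a 0))
  obtain ⟨l, hl, k, pl, hk⟩ := FiniteField.card' F
  let f : Subgroup G → Subgroup G := fun X => if h : ∃ v, v ≠ 0 ∧ X ≤ dn G (St v) then dn G (St h.choose) else X
  have lf : ∀ X, X ≤ f X := fun X => by
    simp only [f]
    split_ifs with h
    exacts [h.choose_spec.2, le_rfl]
  refine shrink h3 f b1 (fun X hX => ?_) fun g => ?_
  · simp only [f]
    split_ifs with h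
    · intro e
      obtain ⟨c, hc⟩ := xv_u (s_ne 0) ((dn_mem (Z_St _) (u := el (xv (Pi.single 0 1))) rfl).1 (e.ge (mem_top _)))
      obtain ⟨d, hd⟩ := xv_u (s_ne 1) ((dn_mem (Z_St _) (u := el (xv (Pi.single 1 1))) rfl).1 (e.ge (mem_top _)))
      refine h.choose_spec.1 (funext fun i => ?_)
      fin_cases i
      · simpa using congrFun hd 0
      · simpa using congrFun hc 1
    · exact h1 X hX
  obtain ⟨z, hz⟩ := QuotientGroup.mk_surjective g.1
  by_cases el0 : Ell z.1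
  · obtain ⟨w, hw⟩ := exists_ellS (F := F)
    haveI := hw.isCyclicS
    obtain ⟨g0, hg0⟩ := IsCyclic.exists_ofOrder_eq_natCard (α := centralizer ({w} : Set (S2 F)))
    rw [hw.card_centS] at hg0
    obtain ⟨⟨s, sw⟩, hs⟩ : ∃ s : centralizer ({w} : Set (S2 F)), orderOf s = d2 :=
      ⟨_, orderOf_pow_orderOf_div (orderOf_pos g0).ne' (hg0 ▸ e2)⟩
    rw [orderOf_mk] at hs
    have s4 : s ^ 4 ≠ 1 := fun e => n2 (hs ▸ orderOf_dvd_of_pow_eq_one e)
    have es : Ell s.1 := Ell.of_mem (w := toGL w) (z := toGL s) hw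
      (mem_centS.1 sw) fun k => s4 (by rcases scS.1 k with e | e <;> rw [e] <;> norm_num)
    have ts : s.1.trace ≠ 0 := fun e => s4 (Subtype.ext (by
      have c : s.1 * s.1 = -1 := by
        have h := s.2
        rw [det_fin_two] at h
        rw [trace_fin_two] at e
        refine m2_ext ?_ ?_ ?_ ?_ <;> simp [mul2]
        · linear_combination s.1 0 0 * e - h
        · linear_combination s.1 0 1 * e
        · linear_combination s.1 1 0 * e
        · linear_combination s.1 1 1 * e - h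
      rw [Matrix.SpecialLinearGroup.coe_pow, show 4 = 2 * 2 from rfl, pow_mul, sq s.1, c, neg_one_sq]; rfl))
    obtain ⟨t, t1, t2, t3⟩ := el0.exists_mem (g := toGL s) es
    obtain ⟨-, t4, t5⟩ := (isConj_iff2 es.not_sc).1 t3
    have t6 : t ^ d2 = 1 := by
      obtain ⟨c, rfl⟩ := isConj_iff.1 t3
      rw [conj_pow, ← map_pow, ← hs, pow_orderOf_eq_one, map_one, mul_one, mul_inv_cancel]
    have tG : QuotientGroup.mk t ∈ G := hG ⟨_, ⟨⟨t.1, t5.trans s.2⟩, rfl⟩, congrArg _ (Units.ext rfl)⟩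
    haveI := el0.isCyclic
    haveI := Subgroup.isCyclic_of_le
      (inf_le_left : centralizer ({z} : Set (G2 F)) ⊓ G.comap (QuotientGroup.mk' _) ≤ _)
    obtain ⟨⟨y, y1⟩, hy⟩ := IsCyclic.exists_zpow_surjective
      (G := ↥(centralizer ({z} : Set (G2 F)) ⊓ G.comap (QuotientGroup.mk' _)))
    obtain ⟨X, x1, x2⟩ := h2 ⟨QuotientGroup.mk y, y1.2⟩
    have mm : ∀ (r : G2 F) (u : G), u.1 = QuotientGroup.mk r → r ∈ centralizer ({z} : Set (G2 F)) → u ∈ X :=
      fun r u e hr => by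
      obtain ⟨i, hi⟩ := hy ⟨r, hr, show QuotientGroup.mk r ∈ G from e ▸ u.2⟩
      have : u = ⟨QuotientGroup.mk y, y1.2⟩ ^ i := Subtype.ext (by
        rw [e, ← show y ^ i = r from congrArg Subtype.val hi]; rfl)
      exact this ▸ zpow_mem x2 i
    refine ⟨X, x1, ?_, lf X (mm z g hz.symm (mem_centralizer_singleton_iff.2 rfl))⟩
    rintro rfl
    exact (ev_of_ut (comm_up (h4 X x1) a2 rfl rfl b2 (mm t ⟨_, tG⟩ rfl t1) t6 (ha ▸ cop)
      (.inl (t4 ▸ ts))).2).not_ell t2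
  · obtain ⟨v, hv, c, hc⟩ : ∃ v : Fin 2 → F, v ≠ 0 ∧ ∃ c : F, z.1 *ᵥ v = c • v := by
      by_contra k
      exact el0 (ell_iff.1 fun c v hv e => k ⟨v, hv, c, e⟩)
    obtain ⟨X, x1, x2⟩ := h2 (el (xv v))
    have x3 := up_le (Z_St v) (h4 X x1) rfl x2 (xv_St v) fun g h => by
      obtain ⟨c, hc⟩ := xv_u hv (St_cj h)
      exact St_of hv hc
    refine ⟨X, x1, ?_, ?_⟩
    · rintro rfl
      have xp : ∀ i : ℕ, (xv v ^ i).1 = 1 + (i : F) • ((xv v).1 - 1) := fun i => by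
        induction i with
        | zero => simp
        | succ i ih =>
          rw [pow_succ, Matrix.SpecialLinearGroup.coe_mul, ih]
          refine m2_ext ?_ ?_ ?_ ?_ <;> simp [mul2, xv] <;> ring
      have xl : toGL (xv v) ^ l = 1 := by
        rw [← map_pow, show xv v ^ l = 1 from Subtype.ext (by rw [xp, CharP.cast_eq_zero, zero_smul, add_zero]; rfl),
          map_one]
      have cp : (orderOf a).Coprime l := by
        refine ((Nat.Prime.coprime_iff_not_dvd pl).2 fun d => pl.one_lt.ne' (Nat.dvd_one.1 ?_)).symm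
        have d2 : l ∣ Fintype.card F := hk ▸ dvd_pow_self _ k.ne_zero
        have := Nat.dvd_sub d2 (d.trans (ha ▸ e1))
        rwa [show Fintype.card F - (Fintype.card F - 1) = 1 by omega] at this
      obtain ⟨r1, r2⟩ := comm_up (h4 X x1) a2 rfl rfl b2 x2 xl cp (by
        by_cases h : (2 : F) = 0
        · exact .inr h
        · exact .inl fun e => h (by rw [xv_val] at e; simp [trace_fin_two] at e; linear_combination e))
      refine hv (funext fun i => ?_)
      fin_cases i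
      · rw [xv_val] at r1; simpa using r1
      · rw [xv_val] at r2; simpa using r2
    · have h : ∃ v, v ≠ 0 ∧ X ≤ dn G (St v) := ⟨v, hv, x3⟩
      simp only [f, dif_pos h]
      obtain ⟨d, hd⟩ := xv_u hv ((dn_mem (Z_St _) rfl).1 (h.choose_spec.2 x2))
      refine (dn_mem (Z_St _) hz.symm).2 (St_of h.choose_spec.1 (c := c) ?_)
      rw [hd, mulVec_smul, hc, smul_comm]


end Cfsg.Agent.S3894
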