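import Cfsg.Statements.S3897
import Cfsg.Agent.H1.KPi

set_option autoImplicit false
open Cfsg

namespace Cfsg.Agent.S3897

/-- Let p be an odd prime and G a finite group with Sylow p-subgroup P, and write k_p(G) for the number of conjugacy classes of G consisting of p-elements (elements of p-power order, the identity included). Then k_p(G) > (p + 1)|P|/(2p) if and only if G has a normal p-complement and P is abelian. -/
theorem result {G : Type*} [Group G] [Finite G] {p : ℕ} [Fact p.Prime] (hp : p ≠ 2) (P : Sylow p G) :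
    (p + 1) * Nat.card ↥(P : Subgroup G) < 2 * p * Nat.card {c : ConjClasses G // ∀ x ∈ c.carrier, ∃ k : ℕ, orderOf x = p ^ k} ↔
      Cfsg.HasNormalPComplement p G ∧ IsMulCommutative ↥(P : Subgroup G) := by
  open Subgroup CfsgH1 CfsgFT CfsgH2 in
  have hP := IsSylowIn.of_sylow_top P
  rw [kp_single]
  refine ⟨fun h => ⟨(npc_odd hP h).1, comm_iff.2 (npc_odd hP h).2⟩, fun ⟨h1, h2⟩ =>
    lt_of_lt_of_le ?_ (Nat.mul_le_mul_left _ (le_kp_of_npc hP h1))⟩
  rw [card_cc_of_comm fun a b => Subtype.ext (setLike_mul_comm a.2 b.2)]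
  exact Nat.mul_lt_mul_of_pos_right (by have := (Fact.out : p.Prime).two_le; omega) Nat.card_pos

end Cfsg.Agent.S3897
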