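import Cfsg.Statements.S3898
import Cfsg.Agent.H1.KPi

set_option autoImplicit false
open Cfsg

namespace Cfsg.Agent.S3898

/-- Let π be a finite set of primes containing 2 and G a finite group. Write k_π(G) for the number of conjugacy classes of G consisting of π-elements (elements all of whose order's prime divisors lie in π) and |G|_π for the π-part of the order of G. If k_π(G) > |G|_π/2, then G has a normal π-complement (a normal subgroup of order prime to π whose index is a π-number) and an abelian Hall subgroup for the set of odd primes in π. -/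
theorem result {G : Type*} [Group G] [Finite G] (π : Finset ℕ) (hπ : ∀ r ∈ π, r.Prime) (h2 : 2 ∈ π)
    (hk : π.prod (fun r => r ^ (Nat.card G).factorization r) < 2 * Nat.card {c : ConjClasses G // ∀ x ∈ c.carrier, ∀ r : ℕ, r.Prime → r ∣ orderOf x → r ∈ π}) :
    (∃ N : Subgroup G, N.Normal ∧ (∀ r : ℕ, r.Prime → r ∣ Nat.card ↥N → r ∉ π) ∧ ∀ r : ℕ, r.Prime → r ∣ N.index → r ∈ π) ∧ ∃ H : Subgroup G, Cfsg.IsPiHall ((↑π : Set ℕ) \ {2}) H ∧ IsMulCommutative ↥H := by
  open Subgroup CfsgH1 CfsgFT CfsgH2 commutatorElement in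
  have down : ∀ (r : ℕ) [Fact r.Prime], r ∈ π → ∀ R : Subgroup G, IsSylowIn r R ⊤ → Nat.card R < 2 * kp {r} G :=
    fun r _ hr R hR => by simpa using kp_down (a := 1) (b := 2) hπ hr (by rwa [one_mul]) hR
  obtain ⟨P, hP⟩ := IsSylowIn.exists_sylowIn (p := 2) (⊤ : Subgroup G)
  have n2 := npc_two hP (down 2 h2 P hP)
  have hs : Group.IsSolvable (⊤ : Subgroup G) := solv_of_npc_two (hasNPC_top_iff.2 n2)
  have key : ∀ X Y : Subgroup G, IsPi (π : Set ℕ) X → IsPi {2}ᶜ Y → ∀ a ∈ X, ∀ b ∈ X, ⁅a, b⁆ ∈ Y → a * b = b * a :=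
      fun X Y hX hY a ha b hb m => by
    obtain ⟨H, hH, l⟩ := exists_hall_ge hs hX le_top
    have c1 : Nat.card H ≤ ∏ r ∈ π, r ^ (Nat.card G).factorization r := by
      conv_lhs => rw [← Nat.prod_factorization_pow_eq_self (n := Nat.card H) Nat.card_pos.ne', Finsupp.prod]
      refine (Finset.prod_le_prod' fun s hs => Nat.pow_le_pow_right (Nat.prime_of_mem_primeFactors hs).pos
        ((Nat.factorization_le_iff_dvd Nat.card_pos.ne' Nat.card_pos.ne').2 (card_subgroup_dvd_card H) s)).trans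
        (Finset.prod_le_prod_of_subset_of_one_le' (fun s hs => hH.isPi s (Nat.prime_of_mem_primeFactors hs)
          (Nat.dvd_of_mem_primeFactors hs)) fun s hs _ => Nat.one_le_pow _ _ (hπ s hs).pos)
    have c2 : kp π G ≤ Nat.card (ConjClasses H) := kp_le_hall fun x hx => by
      obtain ⟨g, -, k⟩ := hH.exists_cj_le hs (isPi_zpowers.2 hx) le_top
      exact ⟨_, k (conj_mem_cj g (mem_zpowers x)), (isConj_iff.2 ⟨g, rfl⟩).symm⟩
    have c3 := card_der_le (G := H) (c1.trans_lt (hk.trans_le (Nat.mul_le_mul_left _ c2)))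
    have o := (_root_.orderOf_le_card (G := _root_.commutator H) (x := ⟨⁅(⟨a, l ha⟩ : H), ⟨b, l hb⟩⁆,
      commutator_mem_commutator (mem_top _) (mem_top _)⟩)).trans c3
    rw [← Subgroup.orderOf_coe, ← Subgroup.orderOf_coe] at o
    change orderOf ⁅a, b⁆ ≤ 2 at o
    have := orderOf_pos ⁅a, b⁆
    have : orderOf ⁅a, b⁆ ≠ 2 := fun e => hY.orderOf m 2 Nat.prime_two (by rw [e]) rfl
    exact commutatorElement_eq_one_iff_mul_comm.1 (orderOf_eq_one_iff.1 (by omega))
  have npc : ∀ (r : ℕ) [Fact r.Prime], r ∈ π → Cfsg.HasNormalPComplement r G := fun r _ hr => by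
    by_cases e : r = 2
    · subst e; exact n2
    obtain ⟨R, hR⟩ := IsSylowIn.exists_sylowIn (p := r) (⊤ : Subgroup G)
    refine hasNPC_top_iff.1 (frobenius_hasNPC hR fun Q hQ _ hZ g _ hg hc => ?_)
    obtain ⟨a, ha, b, hb, k, h1, h3⟩ := exists_pi_part {2} g
    have pQ := hR.pgroup.to_le hQ
    have ha' := zpowers_le.2 hg ha
    have hb' := zpowers_le.2 hg hb
    refine k ▸ mul_mem (fun x hx => key (Q ⊔ zpowers a) Q ((isPi_of_isPGroup pQ hr).sup
      ((isPi_zpowers.2 h1).sub fun q _ k => k ▸ h2) (zpowers_le.2 ha')) (isPi_compl_of_isPGroup pQ e) x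
      (mem_sup_left hx) a (mem_sup_right (mem_zpowers a)) ?_) (by_contra fun n => ?_)
    · rw [commutatorElement_def, mul_assoc, mul_assoc, ← mul_assoc a]
      exact mul_mem hx (CfsgH2.conj_mem_of_mem_normalizer ha' (inv_mem hx))
    · have ho : Odd (orderOf b) := Nat.not_even_iff_odd.1 fun k => h3 2 Nat.prime_two k.two_dvd rfl
      exact (down r hr R hR).not_ge (count_odd hR hQ (le_trans (inf_le_inf_left _ (cent_anti hQ)) hZ) hb' ho
        (four_le pQ hb' ho (hc.coprime_dvd_left (orderOf_dvd_of_mem_zpowers hb)) n))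
  refine ⟨pi_compl' npc, ?_⟩
  obtain ⟨K, hK⟩ := exists_hall hs ((π : Set ℕ) \ {2})
  exact ⟨K, hall_top_iff.1 hK, comm_iff.2 fun a ha b hb => key K K (hK.isPi.sub fun _ _ k => k.1)
    (hK.isPi.sub fun _ _ k => k.2) b hb a ha (der_le K (commutator_mem_commutator hb ha))⟩

end Cfsg.Agent.S3898
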