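import Cfsg.Statements.S3899
import Cfsg.Agent.H1.KPi
import Cfsg.Agent.FT.S12b

set_option autoImplicit false
open Cfsg

namespace Cfsg.Agent.S3899

/-- Let π be a finite non-empty set of odd primes with smallest member p and G a finite group. Write k_π(G) for the number of conjugacy classes of G consisting of π-elements (elements all of whose order's prime divisors lie in π) and |G|_π for the π-part of the order of G. If k_π(G) > (p + 1)|G|_π/(2p), then G has a normal π-complement (a normal subgroup of order prime to π whose index is a π-number) and an abelian Hall π-subgroup. -/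
theorem result {G : Type*} [Group G] [Finite G] (π : Finset ℕ) (hπ : ∀ r ∈ π, r.Prime) (h2 : 2 ∉ π) (p : ℕ) (hp : p ∈ π)
    (hmin : ∀ r ∈ π, p ≤ r) (hk : (p + 1) * π.prod (fun r => r ^ (Nat.card G).factorization r) < 2 * p * Nat.card {c : ConjClasses G // ∀ x ∈ c.carrier, ∀ r : ℕ, r.Prime → r ∣ orderOf x → r ∈ π}) :
    (∃ N : Subgroup G, N.Normal ∧ (∀ r : ℕ, r.Prime → r ∣ Nat.card ↥N → r ∉ π) ∧ ∀ r : ℕ, r.Prime → r ∣ N.index → r ∈ π) ∧ ∃ H : Subgroup G, Cfsg.IsPiHall (↑π : Set ℕ) H ∧ IsMulCommutative ↥H := by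
  open Subgroup CfsgH1 CfsgFT CfsgH2 in
  have key : ∀ (r : ℕ) [Fact r.Prime], r ∈ π → ∀ R : Subgroup G, IsSylowIn r R ⊤ →
      Cfsg.HasNormalPComplement r G ∧ R ≤ C(R) := fun r _ hr R hR => by
    have k := kp_down hπ hr hk hR
    have l := hmin r hr
    refine npc_odd hR (Nat.lt_of_mul_lt_mul_left (a := p) ?_)
    have r0 := (Fact.out : r.Prime).pos
    calc p * ((r + 1) * Nat.card R) ≤ r * ((p + 1) * Nat.card R) := by nlinarith [Nat.zero_le (Nat.card R)]
      _ < r * (2 * p * kp {r} G) := Nat.mul_lt_mul_of_pos_left k r0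
      _ = _ := by ring
  have npc : ∀ (r : ℕ) [Fact r.Prime], r ∈ π → Cfsg.HasNormalPComplement r G := fun r _ hr =>
    (IsSylowIn.exists_sylowIn (p := r) (⊤ : Subgroup G)).elim fun R hR => (key r hr R hR).1
  refine ⟨pi_compl' npc, ?_⟩
  obtain ⟨H, hH⟩ := (pi_compl npc).exists_compl (le_normalizer_Opi _ _)
  rw [compl_compl] at hH
  refine ⟨H, hall_top_iff.1 hH, comm_iff.2 (comm_of_nil_of_sylow (nilpotent_of_forall_npc fun q _ hq =>
    hasNPC_subgroup (npc q (hH.isPi q Fact.out hq)) H) fun q _ hq => ?_)⟩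
  obtain ⟨R, hR, l⟩ := IsSylowIn.exists_le (isPGroup_Opi (p := q) H) le_top
  exact cent_mono (key q (hH.isPi q Fact.out hq) R hR).2 l l

end Cfsg.Agent.S3899
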