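import Cfsg.Statements.S3903
import Cfsg.Agent.H1.KPi

set_option autoImplicit false
open Cfsg

namespace Cfsg.Agent.S3903

/-- Let N be a proper normal subgroup of the finite group G such that every element x of G outside N has prime power order and has centralizer C_G(x) a maximal subgroup of G. Then N is solvable. -/
theorem result {G : Type*} [Group G] [Finite G] (N : Subgroup G) [N.Normal] (hN : N ≠ ⊤)
    (h : ∀ x : G, x ∉ N → IsPrimePow (orderOf x) ∧ IsCoatom (Subgroup.centralizer ({x} : Set G))) : Group.IsSolvable ↥N := by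
  open Subgroup CfsgH1 CfsgFT CfsgH2 in
  classical
  suffices Group.IsSolvable G from inferInstance
  have pg : ∀ x ∉ N, ∃ p, p.Prime ∧ IsPGroup p C1(x) := fun x hx => by
    obtain ⟨p, k, hp, k0, e⟩ := (isPrimePow_nat_iff _).1 (h x hx).1
    have : Fact p.Prime := ⟨hp⟩
    refine ⟨p, hp, fun y => ?_⟩
    obtain ⟨a, ha, b, hb, e1, h1, h2⟩ := exists_pi_part {p} (y : G)
    have c : Commute x b := mem_cent1.1 (zpowers_le.2 y.2 hb)
    have cop : (orderOf x).Coprime (orderOf b) := e ▸ Nat.Coprime.pow_left _ (hp.coprime_iff_not_dvd.2 fun d => h2 p hp d rfl)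
    have n : x * b ∉ N := fun m => hx (CfsgH2.mem_of_pow_mem_of_coprime cop (by
      have := pow_mem m (orderOf b)
      rwa [c.mul_pow, pow_orderOf_eq_one, mul_one] at this))
    obtain ⟨q, j, hq, -, e2⟩ := (isPrimePow_nat_iff _).1 (h _ n).1
    rw [c.orderOf_mul_eq_mul_orderOf_of_coprime cop] at e2
    obtain rfl : p = q := (Nat.prime_dvd_prime_iff_eq hp hq).1 (hp.dvd_of_dvd_pow
      (e2 ▸ ((dvd_pow_self p k0.ne').trans e.dvd).mul_right _))
    have b1 : b = 1 := eq_one_of_pi (fun r hr hd => (Nat.prime_dvd_prime_iff_eq hr hp).1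
      (hr.dvd_of_dvd_pow (e2 ▸ hd.mul_left _))) h2
    obtain ⟨i, hi⟩ := (piNum_single (orderOf_pos _).ne').1 h1
    exact ⟨i, Subtype.ext (by rw [coe_pow, ← e1, b1, mul_one, ← hi, pow_orderOf_eq_one, coe_one])⟩
  by_cases o : ∃ x ∉ N, ∃ p, p.Prime ∧ p ≠ 2 ∧ IsPGroup p C1(x)
  · obtain ⟨x, hx, p, hp, p2, k⟩ := o
    have : Fact p.Prime := ⟨hp⟩
    exact djt (h x hx).2 k.isNilpotent (by rw [Opi_eq_bot (isPi_compl_of_isPGroup k p2)]; simp)
  have pg2 : ∀ x ∉ N, IsPGroup 2 C1(x) := fun x hx => by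
    obtain ⟨p, hp, k⟩ := pg x hx
    by_contra n
    exact o ⟨x, hx, p, hp, fun e => n (e ▸ k), k⟩
  by_contra ns
  have syl : ∀ x ∉ N, IsSylowIn 2 C1(x) ⊤ := fun x hx => by
    obtain ⟨S, hS, l⟩ := IsSylowIn.exists_le (pg2 x hx) le_top
    rcases l.eq_or_lt with e | l
    · exact e ▸ hS
    · have := (h x hx).2.2 S l
      subst this
      have := (hS.pgroup.of_equiv topEquiv).isNilpotent
      exact (ns inferInstance).elim
  obtain ⟨z, hz⟩ : ∃ z, z ∉ N := by
    by_contra! k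
    exact hN (eq_top_iff.2 fun x _ => k x)
  have hP := syl z hz
  have := Fintype.ofFinite G
  have c1 := CfsgH4.card_classes_mul (G := G) fun D => D.out ∉ N
  have iff : ∀ g : G, (ConjClasses.mk g).out ∉ N ↔ g ∉ N := fun g => by
    obtain ⟨c, e⟩ := isConj_iff.1 (ConjClasses.mk_eq_mk_iff_isConj.1 (ConjClasses.mk g).out_eq)
    rw [← e, Normal.mem_comm_iff ‹_›, ← mul_assoc, inv_mul_cancel, one_mul, e]
  simp only [iff] at c1
  rw [Finset.sum_congr rfl (g := fun _ => Nat.card C1(z)) fun x hx => by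
    rw [(syl x (Finset.mem_filter.1 hx).2).card_eq, hP.card_eq], Finset.sum_const, smul_eq_mul] at c1
  have c2 := Finset.card_filter_add_card_filter_not (s := Finset.univ) (· ∈ N)
  rw [card_filter_mem, Finset.card_univ, ← Nat.card_eq_fintype_card] at c2
  have c3 : Nat.card N * 2 ≤ Nat.card G := N.card_mul_index ▸ Nat.mul_le_mul_left _
    (Nat.one_lt_iff_ne_zero_and_ne_one.2 ⟨index_ne_zero_of_finite, fun e => hN (index_eq_one.1 e)⟩)
  have := Fintype.ofFinite (ConjClasses G)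
  have c4 : Nat.card {D : ConjClasses G // D.out ∉ N} < Nat.card ↥(C1(z) ⊓ C(C1(z))) := by
    have k : ∀ D : {D : ConjClasses G // D.out ∉ N}, ∃ y : ↥(C1(z) ⊓ C(C1(z))), ConjClasses.mk y.1 = D.1 := fun D => by
      obtain ⟨g, -, e⟩ := (syl _ D.2).exists_cj_eq hP
      rw [cj_centralizer_singleton] at e
      exact ⟨⟨g * D.1.out * g⁻¹, e ▸ ⟨self_mem_cent1 _, le_cent1_iff.1 le_rfl⟩⟩,
        (ConjClasses.mk_eq_mk_iff_isConj.2 (isConj_iff.2 ⟨g, rfl⟩).symm).trans D.1.out_eq⟩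
    choose f hf using k
    rw [Nat.card_eq_fintype_card, Nat.card_eq_fintype_card]
    refine Fintype.card_lt_of_injective_of_notMem f (fun a b e => Subtype.ext (by rw [← hf, ← hf, e])) (b := 1) ?_
    rintro ⟨D, e⟩
    exact (iff _).1 (hf D ▸ D.2) (by rw [e]; exact one_mem _)
  have c5 := CfsgH2.card_mul_relIndex (inf_le_left : C1(z) ⊓ C(C1(z)) ≤ _)
  have c6 : (C1(z) ⊓ C(C1(z))).relIndex C1(z) = 1 := by
    by_contra n
    have : 2 ≤ (C1(z) ⊓ C(C1(z))).relIndex C1(z) :=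
      Nat.one_lt_iff_ne_zero_and_ne_one.2 ⟨CfsgH2.relIndex_ne_zero _ _, n⟩
    have g0 : 0 < Nat.card G := Nat.card_pos
    have : Nat.card ↥(C1(z) ⊓ C(C1(z))) * 2 ≤ Nat.card C1(z) := c5 ▸ Nat.mul_le_mul_left _ this
    nlinarith
  have := (relIndex_eq_one.1 c6).trans inf_le_right
  exact ns (djt (h z hz).2 hP.pgroup.isNilpotent ((der_le _).trans (cent_mono this (Opi_le _ _) (Opi_le _ _))))

end Cfsg.Agent.S3903
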