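import Cfsg.Statements.S3908
import Cfsg.Agent.H9.Beq

set_option autoImplicit false
open Cfsg

namespace Cfsg.Agent.S3908

/-- Let G be a finite group in which any two abelian subgroups of the same order are conjugate. Then a Sylow 2-subgroup of G is cyclic, elementary abelian or generalized quaternion, and for an odd prime p a Sylow p-subgroup of G is cyclic or has exponent dividing p. -/
theorem result {G : Type*} [Group G] [Finite G] (hB : ∀ A B : Subgroup G, IsMulCommutative ↥A → IsMulCommutative ↥B → Nat.card ↥A = Nat.card ↥B → ∃ g : G, B = A.map (MulAut.conj g).toMonoidHom) :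
    (∀ P : Sylow 2 G, IsCyclic ↥(P : Subgroup G) ∨ Cfsg.IsElementaryAbelian 2 (P : Subgroup G) ∨ ∃ k : ℕ, Nonempty (↥(P : Subgroup G) ≃* QuaternionGroup (2 ^ k))) ∧
    ∀ (p : ℕ) [Fact p.Prime], p ≠ 2 → ∀ P : Sylow p G, IsCyclic ↥(P : Subgroup G) ∨ ∀ x ∈ (P : Subgroup G), x ^ p = 1 := by
  open Subgroup CfsgH1 CfsgH2 CfsgH9 CfsgFT in
  have H : ∀ (p : ℕ) [Fact p.Prime] (P : Sylow p G), _ := fun p _ P => exp_or_cyc P.isPGroup' fun A B a b c d e => by
    obtain ⟨g, rfl⟩ := hB A B a b (c.trans d.symm)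
    exact cyclic_conj g e
  refine ⟨fun P => ?_, fun p _ hp P => ?_⟩
  · rcases H 2 P with h | h | h
    exacts [.inr (.inl (ea_two_of_exp h)), .inl h, .inr (.inr h.2)]
  · rcases H p P with h | h | h
    exacts [.inr h, .inl h, (hp h.1).elim]

end Cfsg.Agent.S3908
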