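import Cfsg.Statements.S3909
import Cfsg.Agent.H1.PG2

set_option autoImplicit false
open Cfsg

namespace Cfsg.Agent.S3909

/-- Let G be a finite group in which any two abelian subgroups of the same order are conjugate. Let M be a normal subgroup of G. If M contains an element of the same order as a ∈ G, then a ∈ M; and if M is elementary abelian of order p^t with p prime and t ≥ 2, then M is the unique Sylow p-subgroup of G. -/
theorem result {G : Type*} [Group G] [Finite G] (hB : ∀ A B : Subgroup G, IsMulCommutative ↥A → IsMulCommutative ↥B → Nat.card ↥A = Nat.card ↥B → ∃ g : G, B = A.map (MulAut.conj g).toMonoidHom) (M : Subgroup G) [M.Normal] :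
    (∀ a : G, (∃ m ∈ M, orderOf m = orderOf a) → a ∈ M) ∧
    ∀ (p t : ℕ) [Fact p.Prime], 2 ≤ t → Nat.card ↥M = p ^ t → Cfsg.IsElementaryAbelian p M → ∀ P : Sylow p G, (P : Subgroup G) = M := by
  open Subgroup CfsgH1 CfsgFT CfsgH2 in
  simp only [cj_def] at hB
  have h1 : ∀ a : G, (∃ m ∈ M, orderOf m = orderOf a) → a ∈ M := fun a ⟨m, hm, e⟩ => by
    obtain ⟨g, hg⟩ := hB (zpowers m) (zpowers a) inferInstance inferInstance (by simp [e])
    exact (cj_mono g (zpowers_le.2 hm)).trans (cj_eq_of_normal g M).le (hg.le (mem_zpowers a))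
  refine ⟨h1, fun p t hp ht hc he P => le_antisymm (fun x hx => by_contra fun hn => ?_)
    ((IsSylowIn.of_sylow_top P).le_of_normalizer (ea_isPGroup he) le_top le_normalizer_of_normal)⟩
  obtain ⟨k, hk⟩ := exists_orderOf_eq_pow P.isPGroup' hx
  have h2 : ∀ j ≤ 2, ∀ y : G, orderOf y = p ^ j → y ∈ M := fun j hj y hy => by
    obtain ⟨A, hA, e⟩ := exists_le_card_pow (H := M) (k := j) (hc ▸ pow_dvd_pow p (hj.trans ht))
    obtain ⟨g, hg⟩ := hB A (zpowers y) (isMulCommutative_iff_le_centralizer.2
      (ea_le_centralizer (ea_mono he hA))) inferInstance (by simp [e, hy])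
    exact (cj_mono g hA).trans (cj_eq_of_normal g M).le (hg.le (mem_zpowers y))
  by_cases h : k ≤ 2
  · exact hn (h2 k h x hk)
  · have e : orderOf (x ^ p ^ (k - 2)) = p ^ 2 := by
      rw [orderOf_pow_of_dvd (pow_ne_zero _ hp.out.ne_zero) (hk ▸ pow_dvd_pow p (by omega)), hk,
        Nat.pow_div (by omega) hp.out.pos]
      congr 1; omega
    have := orderOf_dvd_of_pow_eq_one ((ea_iff.1 he).2 _ (h2 2 le_rfl _ e))
    rw [e] at this
    exact absurd ((Nat.pow_dvd_pow_iff_le_right hp.out.one_lt).1 (this.trans (pow_one p).symm.dvd)) (by omega)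

end Cfsg.Agent.S3909
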