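import Cfsg.Statements.S3910
import Cfsg.Agent.H1.PG2

set_option autoImplicit false
open Cfsg

namespace Cfsg.Agent.S3910

/-- A finite nilpotent group in which any two abelian subgroups of the same order are conjugate is cyclic. -/
theorem result {G : Type*} [Group G] [Finite G] (hB : ∀ A B : Subgroup G, IsMulCommutative ↥A → IsMulCommutative ↥B → Nat.card ↥A = Nat.card ↥B → ∃ g : G, B = A.map (MulAut.conj g).toMonoidHom) (hnil : Group.IsNilpotent G) : IsCyclic G := by
  open Subgroup CfsgH1 CfsgFT CfsgH2 in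
  simp only [cj_def] at hB
  haveI : IsZGroup G := ⟨fun p hp P => by
    haveI := Fact.mk hp
    obtain ⟨A, -, a1, a2, a3, a4⟩ := exists_scn P.isPGroup' le_rfl le_normalizer bot_le
      le_normalizer_of_normal inferInstance
    have hA := P.isPGroup'.to_le a1
    have h1 : ∀ B ≤ (P : Subgroup G), (P : Subgroup G) ≤ N(B) → ∀ g, cj g B = B := fun B b1 b2 g =>
      cj_eq_iff_mem_normalizer.2 ((sup_le (sylow_eq_pCore_of_isNilpotent P ▸ b2) ((pPrimeCore_le_centralizer_pCore.trans
        (centralizer_le (sylow_eq_pCore_of_isNilpotent P ▸ b1 : B ≤ _))).trans (centralizer_le_normalizer _)) :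
          _ ≤ N(B)) ((pCore_sup_pPrimeCore_eq_top p).ge (mem_top g)))
    have h2 : ∀ k, p ^ k ≤ Nat.card A → ∃ K ≤ A, ∀ B : Subgroup G, IsMulCommutative B →
        Nat.card B = p ^ k → B = K := fun k hk => by
      obtain ⟨K, k1, k2, k3⟩ := exists_normal_card' P.isPGroup' a1 a2 hk
      refine ⟨K, k1, fun B b1 b2 => ?_⟩
      obtain ⟨g, e⟩ := hB K B (isMulCommutative_of_le a3 k1) b1 (k3.trans b2.symm)
      rw [e, h1 K (k1.trans a1) k2]
    obtain ⟨a, ha⟩ := hA.exists_card_eq
    have h3 : (P : Subgroup G) ≤ A := fun x hx => by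
      obtain ⟨k, hk⟩ := exists_orderOf_eq_pow P.isPGroup' hx
      rcases le_total k a with h | h
      · obtain ⟨K, k1, k2⟩ := h2 k (ha ▸ Nat.pow_le_pow_right hp.pos h)
        exact k1 ((k2 _ inferInstance (by simp [hk])).le (mem_zpowers x))
      · obtain ⟨K, k1, k2⟩ := h2 a ha.ge
        obtain ⟨B, b1, b2⟩ := exists_le_card_pow (p := p) (H := zpowers x) (k := a) (by simp [hk, pow_dvd_pow, h])
        rw [k2 B (isMulCommutative_of_le inferInstance b1) b2, ← k2 A a3 ha] at b1
        exact a4 ⟨hx, centralizer_le b1 (isMulCommutative_iff_le_centralizer.1 inferInstance (mem_zpowers x))⟩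
    refine CfsgH2.isCyclic_of_le' (isCyclic_of_comm_of_omegaOne hA a3 ?_) h3
    rcases a with _ | a
    · exact (card_le_of_le (omegaOne_le A)).trans (by rw [ha]; exact hp.pos)
    obtain ⟨K, k1, k2⟩ := h2 1 (ha ▸ Nat.pow_le_pow_right hp.pos (by omega))
    obtain ⟨B, -, b2⟩ := exists_le_card_pow (p := p) (H := A) (k := 1) (ha ▸ pow_dvd_pow p (by omega))
    rw [pow_one] at b2 k2
    have := isCyclic_of_prime_card b2
    refine (card_le_of_le (omegaOne_le_iff.2 fun x _ h => ?_)).trans b2.le
    by_cases e : x = 1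
    · exact e ▸ one_mem _
    · rw [k2 B inferInstance b2, ← k2 (zpowers x) inferInstance (by simp [orderOf_eq_prime h e])]
      exact mem_zpowers x⟩
  infer_instance

end Cfsg.Agent.S3910
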