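import Cfsg.Statements.S3917
import Cfsg.Agent.H1.PG2

set_option autoImplicit false
open Cfsg

namespace Cfsg.Agent.S3917

/-- Say that a group has self-centralizing non-cyclic subgroups when every non-cyclic subgroup H satisfies C_G(H) ≤ H. A finite abelian group with self-centralizing non-cyclic subgroups is cyclic or elementary abelian of order p² for a prime p. -/
theorem result {G : Type*} [CommGroup G] [Finite G] (hX : (∀ H : Subgroup G, ¬ IsCyclic ↥H → Subgroup.centralizer (H : Set G) ≤ H)) :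
    IsCyclic G ∨ ∃ p : ℕ, p.Prime ∧ Nat.card G = p ^ 2 ∧ Monoid.exponent G = p := by
  open Subgroup CfsgH1 CfsgFT CfsgH2 in
  rw [or_iff_not_imp_left]
  intro h
  obtain ⟨p, hp, P, hP⟩ : ∃ p : ℕ, p.Prime ∧ ∃ P : Sylow p G, ¬ IsCyclic P := by
    by_contra! e
    haveI : IsZGroup G := ⟨e⟩
    exact h inferInstance
  haveI := Fact.mk hp
  have h1 := omegaOne_ea_of_comm (p := p) (H := (P : Subgroup G)) inferInstance
  obtain ⟨k, hk⟩ := (ea_isPGroup h1).exists_card_eq
  have h2 : 2 ≤ k := by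
    by_contra! e
    exact hP (isCyclic_of_comm_of_omegaOne P.isPGroup' inferInstance
      (hk ▸ (Nat.pow_le_pow_right hp.pos (by omega)).trans (pow_one p).le))
  obtain ⟨B, -, hB⟩ := Elem.exists_le ⟨le_top, h1, hk⟩ h2
  have h3 : B = ⊤ := eq_top_iff.2 fun x _ => hX B (not_isCyclic_of_elem hB le_rfl) fun y _ => mul_comm _ _
  subst h3
  have h4 : Nat.card G = p ^ 2 := card_top.symm.trans hB.card
  haveI : Nontrivial G := Finite.one_lt_card_iff_nontrivial.1 (h4 ▸ Nat.one_lt_pow two_ne_zero hp.one_lt)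
  exact ⟨p, hp, h4, (Monoid.exponent_eq_prime_iff hp).2 fun g hg => orderOf_eq_of_mem_ea hB.ea trivial hg⟩

end Cfsg.Agent.S3917
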