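import Cfsg.Statements.S3918
import Cfsg.Agent.H1.PG2

set_option autoImplicit false
open Cfsg

namespace Cfsg.Agent.S3918

/-- Say that a group has self-centralizing non-cyclic subgroups when every non-cyclic subgroup H satisfies C_G(H) ≤ H. For an odd prime p, a finite non-abelian p-group has self-centralizing non-cyclic subgroups if and only if it has order p³. -/
theorem result {G : Type*} [Group G] [Finite G] {p : ℕ} [Fact p.Prime] (hp : p ≠ 2) (hG : IsPGroup p G) (hna : ¬ IsMulCommutative G) :
    (∀ H : Subgroup G, ¬ IsCyclic ↥H → Subgroup.centralizer (H : Set G) ≤ H) ↔ Nat.card G = p ^ 3 := by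
  open Subgroup CfsgH1 CfsgFT CfsgH2 in
  have pp : p.Prime := Fact.out
  have hT := hG.to_subgroup ⊤
  have hn : ¬ IsMulCommutative (⊤ : Subgroup G) := fun h =>
    hna ⟨⟨fun a b => mul_comm_of_isMulCommutative h trivial trivial⟩⟩
  refine ⟨fun h => ?_, fun h H hH => ?_⟩
  · obtain ⟨A, -, a1, a2, a3⟩ := CfsgH2.exists_normal_elem_two hp hT le_rfl le_normalizer fun e => hn inferInstance
    have h1 := relIndex_centralizer_le_pow hT 2 A le_top a1 a3
    have h2 := h A (not_isCyclic_of_elem ⟨le_top, a2, a3⟩ le_rfl)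
    obtain ⟨k, hk⟩ := hG.exists_card_eq
    have h3 : p ^ k ≤ p ^ 3 := by
      rw [← hk, ← C(A).card_mul_index, pow_succ, ← relIndex_top_right]
      exact Nat.mul_le_mul (a3 ▸ card_le_of_le h2) (by simpa using h1)
    have h4 : ¬ k ≤ 2 := fun e => hn (isMulCommutative_of_card_le_sq hT
      (by rw [card_top, hk]; exact Nat.pow_le_pow_right pp.pos e))
    rw [Nat.pow_le_pow_iff_right pp.one_lt] at h3
    rw [hk, show k = 3 by omega]
  · obtain ⟨k, hk⟩ := (hG.to_subgroup H).exists_card_eq
    have h1 : ¬ k ≤ 1 := fun e => hH (isCyclic_of_card_le_prime (hG.to_subgroup H)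
      (hk ▸ (Nat.pow_le_pow_right pp.pos e).trans (pow_one p).le))
    have h2 : k ≤ 3 := (Nat.pow_le_pow_iff_right pp.one_lt).1 (hk ▸ h ▸ card_le_card_group H)
    have h3 := H.card_mul_index
    rw [hk, h] at h3
    obtain rfl | rfl : k = 2 ∨ k = 3 := by omega
    · have h4 := isCoatom_of_index_prime (Nat.eq_of_mul_eq_mul_left (pow_pos pp.pos 2) (h3.trans (pow_succ p 2)))
      have h5 := isMulCommutative_iff_le_centralizer.1 (isMulCommutative_of_card_le_sq (hG.to_subgroup H) hk.le)
      refine ((h4.le_iff.1 h5).resolve_left fun e => hn ?_).le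
      obtain ⟨y, -, hy⟩ := exists_sup_zpowers_eq hT (le_top (a := H)) (by rw [card_top, hk, h, pow_succ])
      exact isMulCommutative_of_sup_zpowers hy (le_centralizer_iff.1 e.ge)
    · rw [eq_top_of_card_eq H (hk.trans h.symm)]; exact le_top

end Cfsg.Agent.S3918
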