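import Cfsg.Statements.S3919
import Cfsg.Agent.H2.MaxClass

set_option autoImplicit false
open Cfsg

namespace Cfsg.Agent.S3919
open Subgroup CfsgH2
open scoped commutatorElement

/-- Say that a group has self-centralizing non-cyclic subgroups when every non-cyclic subgroup H satisfies C_G(H) ≤ H. A finite non-abelian 2-group G of order 2^n has self-centralizing non-cyclic subgroups if and only if G has nilpotency class n − 1 (that is, G is dihedral, semidihedral or generalized quaternion). -/
theorem result {G : Type*} [Group G] [Finite G] (hna : ¬ IsMulCommutative G) (n : ℕ) (hG : Nat.card G = 2 ^ n) :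
    (∀ H : Subgroup G, ¬ IsCyclic ↥H → Subgroup.centralizer (H : Set G) ≤ H) ↔ (⊤ : Subgroup G).lowerCentralSeries (n - 2) ≠ ⊥ := by
  have hP := IsPGroup.of_card hG
  haveI := hP.isNilpotent
  have hn : 3 ≤ n := by
    by_contra h
    exact hna (isMulCommutative_top_iff.1 (isMulCommutative_of_card_le_sq (hP.to_subgroup ⊤) (by
      rw [Subgroup.card_top, hG]; exact Nat.pow_le_pow_right (by norm_num) (by omega))))
  rw [Ne, Subgroup.lowerCentralSeries_eq_bot_iff_nilpotencyClass_le]
  constructor
  · intro h
    suffices Group.nilpotencyClass G = n - 1 by omega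
    by_cases hK : ∃ E : Subgroup G, IsKleinFour E
    · obtain ⟨E, hE⟩ := hK
      exact class_of_selfCentralizing hG (p := 2) hE.card_four (h E hE.not_isCyclic)
    · rcases cyclic_or_quat' (hP.to_subgroup ⊤) (uniqInv_of_no_klein (hP.to_subgroup ⊤)
        fun E _ hE => hK ⟨E, hE⟩) with h1 | ⟨r, ⟨e⟩⟩
      · exact absurd (isMulCommutative_top_iff.1 h1.isMulCommutative) hna
      · obtain ⟨a, b, h1⟩ := mc_of_quaternion e
        have h2 := h1.card_eq
        rw [Subgroup.card_top, hG] at h2
        obtain rfl : n = r + 3 := Nat.pow_right_injective le_rfl h2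
        exact h1.class_eq
  · intro h H hH
    have h1 := class_le hG (by omega)
    obtain ⟨a, b, k, m, r, h⟩ := (isMC_of_class hG hn (by omega)).exists
    obtain ⟨j, hj⟩ := h.toIdx2.exists_mem_of_not_le le_top (fun e => hH (isCyclic_of_le' inferInstance e))
    obtain ⟨s, hs, m', h2⟩ := h.toIdx2.sub_of_not_le h.ord le_top hj
    rcases hs.eq_or_lt with rfl | hs
    · exfalso
      apply hH
      rw [h2.eq_sup, zpow_eq_one_iff_dvd.2 (by rw [h.ord]; simp), zpowers_one_eq_bot, bot_sup_eq]
      infer_instance
    · have := h.inf_centralizer_sub (s := s) (by omega) j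
      rwa [top_inf_eq, ← h2.eq_closure] at this


end Cfsg.Agent.S3919
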