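import Cfsg.Statements.S3920
import Cfsg.Agent.H1.PG2
import Cfsg.Agent.H2.BS16

set_option autoImplicit false
open Cfsg

namespace Cfsg.Agent.S3920

/-- Say that a group has self-centralizing non-cyclic subgroups when every non-cyclic subgroup H satisfies C_G(H) ≤ H. For n ≥ 3, the dihedral group of order 2n has self-centralizing non-cyclic subgroups if and only if n is odd or a power of 2. -/
theorem result (n : ℕ) (hn : 3 ≤ n) : (∀ H : Subgroup (DihedralGroup n), ¬ IsCyclic ↥H → Subgroup.centralizer (H : Set (DihedralGroup n)) ≤ H) ↔ (Odd n ∨ ∃ k : ℕ, n = 2 ^ k) := by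
  open Subgroup CfsgH1 CfsgFT CfsgH2 DihedralGroup in
  haveI : NeZero n := ⟨by omega⟩
  refine ⟨fun h => ?_, fun h H hH => ?_⟩
  · by_contra! hc
    obtain ⟨k, m, hm, rfl⟩ := Nat.exists_eq_two_pow_mul_odd (n := n) (by omega)
    have m1 : m ≠ 1 := by rintro rfl; exact hc.2 k (mul_one _)
    obtain ⟨c, hc2⟩ := Nat.not_odd_iff_even.1 hc.1
    let f : DihedralGroup (2 ^ k * m) → ZMod (2 ^ k * m) := fun | r i => i | sr i => i
    let H : Subgroup (DihedralGroup (2 ^ k * m)) :=
      { carrier := {g | (m : ZMod (2 ^ k * m)) * f g = 0}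
        one_mem' := mul_zero _
        mul_mem' := by
          rintro (i | i) (j | j) h1 h2 <;> simp [f, mul_add, mul_sub] at h1 h2 ⊢ <;> simp [h1, h2]
        inv_mem' := by rintro (i | i) h1 <;> simpa [f] using h1 }
    have h0 : (c : ZMod (2 ^ k * m)) + c = 0 := by rw [← Nat.cast_add, ← hc2, ZMod.natCast_self]
    have h1 : r (c : ZMod (2 ^ k * m)) ∈ H := h H (fun e => by
      have := mul_comm_of_isMulCommutative (A := H) inferInstance (a := r ((2 ^ k : ℕ) : ZMod (2 ^ k * m))) (b := sr 0)
        (show (m : ZMod (2 ^ k * m)) * ((2 ^ k : ℕ) : ZMod (2 ^ k * m)) = 0 by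
          rw [← Nat.cast_mul, mul_comm m, ZMod.natCast_self]) (mul_zero _)
      rw [r_mul_sr, sr_mul_r, sr.injEq, zero_sub, zero_add, neg_eq_iff_add_eq_zero, ← Nat.cast_add,
        ZMod.natCast_eq_zero_iff, ← mul_two] at this
      have := Nat.dvd_of_mul_dvd_mul_left (by positivity) this
      rcases (Nat.dvd_prime Nat.prime_two).1 this with e | e
      · exact m1 e
      · exact absurd hm (by rw [e]; decide)) (by
      rintro (i | i) -
      · simp [add_comm]
      · simp only [r_mul_sr, sr_mul_r, sr.injEq]; linear_combination h0)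
    replace h1 : (m : ZMod (2 ^ k * m)) * c = 0 := h1
    rw [← Nat.cast_mul, ZMod.natCast_eq_zero_iff, hc2, ← two_mul] at h1
    exact Nat.not_even_iff_odd.2 hm (even_iff_two_dvd.2 (Nat.dvd_of_mul_dvd_mul_right (by omega) h1))
  · have hr : ∀ i : ZMod n, r i ∈ zpowers (r 1) := fun i => ⟨i.val, by simp⟩
    obtain ⟨i, hi⟩ : ∃ i, sr i ∈ H := by
      by_contra! e
      refine hH (CfsgH2.isCyclic_of_le' (K := zpowers (r 1)) inferInstance ?_)
      rintro (j | j) hj
      exacts [hr j, absurd hj (e j)]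
    have key : ∀ j : ZMod n, sr i * r j = r j * sr i → r j ∈ H := fun j e => by
      have e' : j + j = 0 := by simp only [r_mul_sr, sr_mul_r, sr.injEq] at e; linear_combination e
      rcases h with h | ⟨k, h⟩
      · have := (ZMod.isUnit_iff_coprime 2 n).2 (Nat.coprime_two_left.2 h)
        rw [this.mul_right_eq_zero.1 (show ((2 : ℕ) : ZMod n) * j = 0 by rw [← e']; push_cast; ring)]
        exact one_mem _
      · obtain ⟨l, hl, l1⟩ : ∃ l, r l ∈ H ∧ r l ≠ 1 := by
          by_contra! e
          refine hH (CfsgH2.isCyclic_of_le' (K := zpowers (sr i)) inferInstance ?_)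
          rintro (j | j) hj
          · rw [e j hj]; exact one_mem _
          · rw [← inv_mul_eq_one.1 (show (sr i)⁻¹ * sr j = 1 from e _ (mul_mem (inv_mem hi) hj))]; exact mem_zpowers _
        refine zpowers_le.2 hl (mem_zpowers_of_orderOf_dvd (hr j) (hr l) ?_)
        refine (orderOf_dvd_of_pow_eq_one (n := 2) (by simp [pow_two, e'])).trans ?_
        obtain ⟨t, -, ht⟩ := (Nat.dvd_prime_pow Nat.prime_two).1
          ((orderOf_dvd_of_mem_zpowers (hr l)).trans (orderOf_r_one.trans h).dvd)
        rw [ht]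
        exact dvd_pow_self 2 fun e => l1 (orderOf_eq_one_iff.1 (by rw [ht, e, pow_zero]))
    rintro (j | j) hj
    · exact key j (hj _ hi)
    · refine (mul_mem_cancel_left hi).1 (key _ ?_)
      rw [← sr_mul_sr, mul_assoc, hj _ hi]

end Cfsg.Agent.S3920
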