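import Cfsg.Statements.S3937
import Cfsg.Agent.H2.Mix

set_option autoImplicit false
open Cfsg

namespace Cfsg.Agent.S3937
open Subgroup CfsgH2
open scoped commutatorElement

open CfsgFT CfsgH1 CfsgLead
theorem fold_succ {G : Type*} [Group G] (g x : G) (n : ℕ) :
    (List.replicate (n + 1) g).foldl (fun a b => a * b * a⁻¹ * b⁻¹) x =
      (List.replicate n g).foldl (fun a b => a * b * a⁻¹ * b⁻¹) (x * g * x⁻¹ * g⁻¹) := rfl

theorem aux {G : Type*} [Group G] [Finite G] (g : G)
    (h : ∀ x : G, ∃ n : ℕ, (List.replicate n g).foldl (fun a b => a * b * a⁻¹ * b⁻¹) x = 1) (L : Subgroup G) :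
    zpowers g ≤ L → SN (zpowers g) L := by
  induction L using subgroup_induction_up with
  | h L ih =>
  intro hL
  by_contra c
  obtain ⟨M, a, b, d⟩ := zipper (lt_of_le_of_ne hL fun e => c (e ▸ SN.refl _)) c
    fun V a b => ih V (CfsgH2.card_lt_of_lt b) a
  have gM := a (mem_zpowers g)
  have k : ∀ n, ∀ x ∈ L, (List.replicate n g).foldl (fun a b => a * b * a⁻¹ * b⁻¹) x ∈ M → x ∈ M := fun n => by
    induction n with
    | zero => exact fun x _ h => h
    | succ n ih2 =>
      intro x hx e
      have := ih2 _ (mul_mem (mul_mem (mul_mem hx (b.le gM)) (inv_mem hx)) (inv_mem (b.le gM))) e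
      have h1 : cj x⁻¹ M < L := lt_of_le_of_ne (cj_le_of_mem (inv_mem hx) b.le) fun e =>
        b.ne (by rw [← cj_inj x⁻¹, e, cj_eq_of_mem (inv_mem hx)])
      have h2 : x⁻¹ ∈ N(M) := mem_normalizer_of_cj_le (d _ (zpowers_le.2 (mem_cj.2 (by
        simpa using mul_mem this gM))) h1)
      by_contra c2
      refine c ((ih M (CfsgH2.card_lt_of_lt b) a).trans (SN.of_normal b.le ?_))
      by_contra c3
      exact c2 (inv_mem_iff.1 (d (L ⊓ N(M)) (a.trans (le_inf b.le le_normalizer))
        (lt_of_le_of_ne inf_le_left fun e => c3 (e.ge.trans inf_le_right)) (mem_inf.2 ⟨inv_mem hx, h2⟩)))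
  refine b.not_ge fun x hx => ?_
  obtain ⟨n, hn⟩ := h x
  exact k n x hx (hn ▸ one_mem _)

/-- Baer's characterization of the Fitting subgroup: in a finite group G, an element g lies in the Fitting subgroup if and only if g is a left Engel element, that is, for every x there is n with [x, g, g, …, g] = 1 (n entries g, [a, b] = aba⁻¹b⁻¹). -/
theorem result {G : Type*} [Group G] [Finite G] (g : G) :
    g ∈ Cfsg.fittingSubgroup G ↔ ∀ x : G, ∃ n : ℕ, (List.replicate n g).foldl (fun a b => a * b * a⁻¹ * b⁻¹) x = 1 := by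
  refine ⟨fun h x => ?_, fun h => le_fitting_of_isSubnormal (SN.top_iff.1 (aux g h ⊤ le_top))
    (nilpotent_of_comm (comm_of_cyclic inferInstance)) (mem_zpowers g)⟩
  obtain ⟨n, hn⟩ := (Subgroup.isNilpotent_iff_lowerCentralSeries _).1 (isNilpotent_fitting G)
  have k : ∀ m i, ∀ y ∈ (fittingSubgroup G).lowerCentralSeries i, (List.replicate m g).foldl
      (fun a b => a * b * a⁻¹ * b⁻¹) y ∈ (fittingSubgroup G).lowerCentralSeries (i + m) := fun m => by
    induction m with
    | zero => exact fun i y h => h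
    | succ m ih =>
      intro i y hy
      rw [fold_succ, ← add_assoc, add_right_comm]
      exact ih _ _ (commutator_mem_commutator hy h)
  refine ⟨n + 1, ?_⟩
  have := k n 0 (x * g * x⁻¹ * g⁻¹) (mul_mem ((fittingSubgroup_normal G).conj_mem _ h x) (inv_mem h))
  rwa [zero_add, hn, mem_bot] at this


end Cfsg.Agent.S3937
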