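import Cfsg.Statements.S3939
import Cfsg.Agent.H2.Mix
import Cfsg.Agent.H2.Transfer2

set_option autoImplicit false
open Cfsg

namespace Cfsg.Agent.S3939
open Subgroup CfsgH2
open scoped commutatorElement

open CfsgFT CfsgH1 CfsgLead
theorem aux {G : Type*} [Group G] [Finite G] {g : G} (h1 : g ≠ 1)
    (h : ∀ x : G, Group.IsNilpotent ↥(Subgroup.closure ({x, g} : Set G))) : center G ≠ ⊥ := by
  obtain ⟨p, hp, -, a, ha, hq, a1⟩ := exists_primePow_not_mem (M := ⊥) h1
  haveI := Fact.mk hp
  obtain ⟨P, hP⟩ := hq.exists_le_sylow
  have k : a ∈ C(pResidual p G) := le_cent1_iff.1 (pResidual_le_iff.2 fun x hx => by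
    rw [← cent_zpowers, ← zpowers_le]
    refine commute_of_nilpotent (h x) (zpowers_le.2 (subset_closure (by simp)))
      (zpowers_le.2 (zpowers_le.2 (subset_closure (by simp)) ha)) ?_
    exact (IsPGroup.coprime_card_of_coprime hq (by rwa [Nat.card_zpowers])).symm)
  obtain ⟨z, b, c, -, d⟩ := exists_central_of_ne_bot (N := (P : Subgroup G) ⊓ C(pResidual p G)) P.2 inf_le_left
    (le_normalizer_inf' le_normalizer (le_top.trans (normalizer_eq_top _).ge))
    fun e => a1 (e ▸ mem_inf.2 ⟨hP (mem_zpowers a), k⟩)
  intro e
  have := (IsSylowIn.of_sylow_top P).sup_resIn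
  rw [resIn_top] at this
  refine c (mem_bot.1 (e ▸ ?_))
  rw [← centralizer_univ, ← coe_top, ← this, cent_sup]
  exact mem_inf.2 ⟨d, b.2⟩

/-- In a finite group G the set of elements g such that the subgroup generated by g and x is nilpotent for every x ∈ G is exactly the hypercenter of G (the last term of the upper central series). -/
theorem result {G : Type*} [Group G] [Finite G] (g : G) :
    (∀ x : G, Group.IsNilpotent ↥(Subgroup.closure ({x, g} : Set G))) ↔ g ∈ ⨆ n : ℕ, Subgroup.upperCentralSeries G n := by
  refine ⟨fun h => ?_, fun h x => ?_⟩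
  · obtain ⟨n, hn⟩ := WellFoundedGT.monotone_chain_condition' (α := Subgroup G)
      ⟨Subgroup.upperCentralSeries G, Subgroup.upperCentralSeries_mono G⟩
    refine mem_iSup_of_mem n ?_
    by_contra c
    refine aux (g := QuotientGroup.mk' (Subgroup.upperCentralSeries G n) g) (fun e => c ((QuotientGroup.eq_one_iff g).1 e))
      (fun x => ?_) (eq_bot_iff.2 fun x hx => ?_)
    · obtain ⟨x, rfl⟩ := QuotientGroup.mk'_surjective _ x
      have := isNilpotent_map (h x) (QuotientGroup.mk' (Subgroup.upperCentralSeries G n))
      rwa [MonoidHom.map_closure, Set.image_pair] at this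
    · obtain ⟨x, rfl⟩ := QuotientGroup.mk'_surjective _ x
      refine (QuotientGroup.eq_one_iff x).2 (by_contra fun c => hn (n + 1) n.le_succ
        (lt_of_le_of_ne (Subgroup.upperCentralSeries_mono G n.le_succ) fun e => c ?_))
      change Subgroup.upperCentralSeries G n = Subgroup.upperCentralSeries G (n + 1) at e
      rw [e, Subgroup.mem_upperCentralSeries_succ_iff]
      intro y
      rw [← QuotientGroup.eq_one_iff]
      have := mem_center_iff.1 hx (y : G ⧸ Subgroup.upperCentralSeries G n)
      simp only [QuotientGroup.mk'_apply] at this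
      simp [commutatorElement_def, ← this]
  · obtain ⟨n, hn⟩ := (mem_iSup_of_directed (Subgroup.upperCentralSeries_mono G).directed_le).1 h
    have k : ∀ i ≤ n, (closure {x, g}).lowerCentralSeries (i + 1) ≤ Subgroup.upperCentralSeries G (n - i) := fun i => by
      induction i with
      | zero =>
        intro _
        rw [Nat.sub_zero, ← map_mk'_eq_bot_iff, Subgroup.map_lowerCentralSeries, MonoidHom.map_closure, Set.image_pair,
          QuotientGroup.mk'_apply _ g, (QuotientGroup.eq_one_iff g).2 hn]
        refine comm_eq_bot (comm_of_cyclic (CfsgFT.isCyclic_of_le' (A := zpowers (QuotientGroup.mk' _ x)) inferInstance ?_))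
        simp [Set.insert_subset_iff]
      | succ i ih =>
        intro hi
        have := ih (by omega)
        rw [show n - i = n - (i + 1) + 1 by omega] at this
        exact (commutator_mono this le_top).trans (Subgroup.commutator_upperCentralSeries_top_le _ _)
    refine Subgroup.isNilpotent_of_lowerCentralSeries_eq_bot (n := n + 1) (eq_bot_iff.2 ?_)
    simpa using k n le_rfl


end Cfsg.Agent.S3939
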