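import Cfsg.Statements.S3941
import Cfsg.Agent.H1.PG2

set_option autoImplicit false
open Cfsg

namespace Cfsg.Agent.S3941

/-- Let n ≥ 5 and p an odd prime with p ≤ n, and suppose that every proper subgroup of the alternating group of degree n whose order is divisible by p has a normal Sylow p-subgroup. Then n = p. -/
theorem result (n p : ℕ) (hn : 5 ≤ n) [Fact p.Prime] (hp : p ≠ 2) (hpn : p ≤ n)
    (h : ∀ H : Subgroup ↥(alternatingGroup (Fin n)), H ≠ ⊤ → p ∣ Nat.card ↥H → Cfsg.IsPClosed p ↥H) : n = p := by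
  open Subgroup CfsgH1 CfsgFT CfsgH2 in
  classical
  have pp : p.Prime := Fact.out
  by_contra hne
  rcases hn.eq_or_lt with rfl | h6
  · obtain rfl : p = 3 := by
      have := pp.two_le
      interval_cases p <;> simp_all (config := {decide := true})
    let x : alternatingGroup (Fin 5) := ⟨Equiv.swap 0 1 * Equiv.swap 1 2, by simp⟩
    let y : alternatingGroup (Fin 5) := ⟨Equiv.swap 1 2 * Equiv.swap 2 3, by simp⟩
    let H := MulAction.stabilizer (alternatingGroup (Fin 5)) (4 : Fin 5)
    have hx : x ∈ H := by decide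
    have hy : y ∈ H := by decide
    have ox : orderOf x = 3 := orderOf_eq_prime (by decide) (by decide)
    have oy : orderOf y = 3 := orderOf_eq_prime (by decide) (by decide)
    have oxy : orderOf (x * y) = 2 := orderOf_eq_prime (by decide) (by decide)
    obtain ⟨P⟩ : Nonempty (Sylow 3 H) := inferInstance
    have := h H (fun e => absurd (e.ge (mem_top (⟨Equiv.swap 0 1 * Equiv.swap 1 4, by simp⟩ :
      alternatingGroup (Fin 5)))) (by decide)) (ox ▸ Subgroup.orderOf_dvd_natCard _ hx) P
    have k : ∀ z : H, orderOf z.1 = 3 → z ∈ P := fun z hz => (IsSylowIn.of_sylow_top P).le_of_le_normalizer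
      (isPGroup_zpowers_of_orderOf (k := 1) (by rwa [← orderOf_coe])) le_top le_normalizer_of_normal
      (mem_zpowers z)
    obtain ⟨j, hj⟩ := exists_orderOf_eq_pow P.isPGroup' (mul_mem (k ⟨x, hx⟩ ox) (k ⟨y, hy⟩ oy))
    rw [← orderOf_coe, coe_mul, oxy] at hj
    exact absurd ((Nat.prime_two.dvd_of_dvd_pow hj.dvd)) (by decide)
  obtain ⟨m, rfl⟩ : ∃ m, n = m + 1 := ⟨n - 1, by omega⟩
  let s : Finset (Fin (m + 1)) := Finset.univ.erase 0
  have hs : Nat.card s = m := by simp [s]
  haveI : Nontrivial s := Finite.one_lt_card_iff_nontrivial.1 (by omega)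
  haveI := alternatingGroup.isSimpleGroup (α := s) (by omega)
  let e := MonoidHom.ofInjective (alternatingGroup.ofSubtype_injective (s := s))
  have h1 : 2 * Nat.card (alternatingGroup.ofSubtype s).range = m.factorial := by
    rw [← Nat.card_congr e.toEquiv, two_mul_nat_card_alternatingGroup, Nat.card_perm, hs]
  have h2 : p ∣ Nat.card (alternatingGroup.ofSubtype s).range :=
    ((Nat.coprime_primes pp Nat.prime_two).2 hp).dvd_of_dvd_mul_left (h1 ▸ pp.dvd_factorial.2 (by omega))
  obtain ⟨P⟩ : Nonempty (Sylow p (alternatingGroup.ofSubtype s).range) := inferInstance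
  haveI : Nontrivial (Fin (m + 1)) := Fin.nontrivial_iff_two_le.2 (by omega)
  have hPn := h _ (fun e => by
    rw [e, card_top, two_mul_nat_card_alternatingGroup, Nat.card_perm, Nat.card_fin, Nat.factorial_succ] at h1
    have := m.factorial_pos
    nlinarith) h2 P
  haveI := e.symm.isSimpleGroup
  rcases hPn.eq_bot_or_eq_top with h3 | h3
  · exact P.ne_bot_of_dvd_card h2 h3
  · obtain ⟨k, hk⟩ := P.isPGroup'.exists_card_eq
    rw [h3, card_top] at hk
    have h4 : 2 * 2 ∣ 2 * p ^ k := by rw [← hk, h1]; exact Nat.dvd_factorial (by omega) (by omega)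
    exact hp ((Nat.prime_dvd_prime_iff_eq Nat.prime_two pp).1 (Nat.prime_two.dvd_of_dvd_pow
      (Nat.dvd_of_mul_dvd_mul_left two_pos h4))).symm

end Cfsg.Agent.S3941
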