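import Cfsg.Statements.S3946
import Cfsg.Agent.H2.Kegel

set_option autoImplicit false
open Cfsg

namespace Cfsg.Agent.S3946
open Subgroup CfsgH2
open scoped commutatorElement

open CfsgFT CfsgH1

/-- Call an automorphism α of order n of a group G splitting when x · α(x) · α²(x) ⋯ α^(n−1)(x) = 1 for every x ∈ G. A finite group admitting a splitting automorphism of prime order is nilpotent (this contains the case of a fixed-point-free automorphism of prime order). -/
theorem result {G : Type*} [Group G] [Finite G] (α : MulAut G) (hp : (orderOf α).Prime)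
    (hsplit : ∀ x : G, (((List.range (orderOf α)).map (fun i : ℕ => (α ^ i) x)).prod = 1)) : Group.IsNilpotent G := by
  let φ : MulAut G →* MulAut G := MonoidHom.id _
  have key : ∀ (x : G) (n : ℕ), ((SemidirectProduct.inl x : G ⋊[φ] MulAut G) * SemidirectProduct.inr α) ^ n =
      SemidirectProduct.inl (((List.range n).map (fun i : ℕ => (α ^ i) x)).prod) * SemidirectProduct.inr (α ^ n) := by
    intro x n
    induction n with
    | zero => simp
    | succ n ih =>
      rw [pow_succ, ih, List.range_succ, List.map_append, List.prod_append, map_mul, pow_succ, map_mul]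
      have := sd_conj (φ := φ) (α ^ n) x
      simp only [List.map_cons, List.map_nil, List.prod_cons, List.prod_nil, mul_one]
      rw [show (α ^ n) x = φ (α ^ n) x from rfl, ← this]
      group
  have h1 : Group.IsNilpotent (sdL φ ⊤) := by
    refine kegel hp _ (SemidirectProduct.inr α) ⟨le_normalizer_sdL_top ⊤ (mem_top _), ?_⟩
    intro k hk
    obtain ⟨g, -, rfl⟩ := mem_sdL.1 hk
    rw [key, hsplit, pow_orderOf_eq_one]; simp
  exact Group.nilpotent_of_mulEquiv (sdLTopEquiv φ).symm


end Cfsg.Agent.S3946
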