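import Cfsg.Statements.S3949
import Cfsg.Agent.H1.PG2

set_option autoImplicit false
open Cfsg

namespace Cfsg.Agent.S3949

/-- Let G be a finite group and α an automorphism of G of order 2 such that the elements g·α(g)⁻¹ generate G. Let j be a positive integer such that 2^j divides the order of no element inverted by α. Then the set of values of the j-th iterate of the map c ↦ c·α(c)⁻¹ is exactly the set of elements of odd order inverted by α. -/
theorem result {G : Type*} [Group G] [Finite G] (α : MulAut G) (hα : orderOf α = 2) (hG : Subgroup.closure (Set.range (fun c : G => c * (α c)⁻¹)) = ⊤)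
    (j : ℕ) (hj : ∀ g : G, α g = g⁻¹ → ¬ 2 ^ j ∣ orderOf g) :
    Set.range ((fun c : G => c * (α c)⁻¹)^[j]) = {g : G | Odd (orderOf g) ∧ α g = g⁻¹} := by
  have a2 : ∀ g, α (α g) = g := fun g => by
    rw [← MulAut.mul_apply, ← pow_two, ← hα, pow_orderOf_eq_one, MulAut.one_apply]
  have h1 : ∀ (k : ℕ) (g : G), α g = g⁻¹ → (fun c : G => c * (α c)⁻¹)^[k] g = g ^ 2 ^ k := fun k => by
    induction k with
    | zero => simp
    | succ k ih =>
      intro g hg
      rw [Function.iterate_succ_apply', ih g hg, map_pow, hg, inv_pow, inv_inv, pow_succ, pow_mul, pow_two]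
  obtain ⟨j, rfl⟩ : ∃ i, j = i + 1 := ⟨j - 1, by
    rcases j with _ | j
    · exact absurd (by simp) (hj 1 (by simp))
    · rfl⟩
  ext g
  constructor
  · rintro ⟨c, rfl⟩
    have h2 : α (c * (α c)⁻¹) = (c * (α c)⁻¹)⁻¹ := by simp [a2]
    rw [Function.iterate_succ_apply, h1 j _ h2]
    refine ⟨?_, by rw [map_pow, h2, inv_pow]⟩
    have h3 := hj _ h2
    generalize c * (α c)⁻¹ = d at h3
    obtain ⟨k, m, hm, e⟩ := Nat.exists_eq_two_pow_mul_odd (orderOf_pos d).ne'
    refine hm.of_dvd_nat (orderOf_dvd_of_pow_eq_one ?_)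
    rw [← pow_mul, ← orderOf_dvd_iff_pow_eq_one, e]
    refine mul_dvd_mul (pow_dvd_pow 2 ?_) dvd_rfl
    by_contra! hk
    exact h3 (e ▸ (pow_dvd_pow 2 hk).mul_right m)
  · rintro ⟨h2, h3⟩
    obtain ⟨m, hm⟩ := exists_pow_eq_self_of_coprime (x := g) (n := 2 ^ (j + 1))
      ((Nat.coprime_two_left.2 h2).pow_left _)
    exact ⟨g ^ m, by rw [h1 _ _ (by rw [map_pow, h3, inv_pow]), ← pow_mul, mul_comm, pow_mul, hm]⟩

end Cfsg.Agent.S3949
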