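import Cfsg.Statements.S3951
import Cfsg.Agent.H1.Schur3

set_option autoImplicit false
open Cfsg

namespace Cfsg.Agent.S3951

/-- For positive integers `m` and `n` with `n` dividing `m`, the Schur multiplier of the abelian group `ZMod m × ZMod n` (written multiplicatively) is cyclic of order `n`. In particular the elementary abelian group of order `p ^ 2` has multiplier of order `p`. -/
theorem result (m n : ℕ) [NeZero m] [NeZero n] (hnm : n ∣ m) : Cfsg.HasCyclicSchurMultiplier (Multiplicative (ZMod m × ZMod n)) n := by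
  open Subgroup CfsgH1 in
  have h1 := hasSM_one_iff.2 (SM_cyclic (Multiplicative (ZMod m)))
  have h2 := hasSM_one_iff.2 (SM_cyclic (Multiplicative (ZMod n)))
  have : Unique (Multiplicative (ZMod 1)) := inferInstanceAs (Unique (ZMod 1))
  have hg : ∀ x : Multiplicative (ZMod m), x ∈ zpowers (Multiplicative.ofAdd (1 : ZMod m)) := fun x =>
    ⟨x.toAdd.val, by simp only [zpow_natCast, ← ofAdd_nsmul]; simp⟩
  let θ : Hm (Multiplicative (ZMod m)) (Du (Multiplicative (ZMod n))) →* Du (Multiplicative (ZMod n)) :=
    MonoidHom.mk' (fun β => β (Multiplicative.ofAdd 1)) fun _ _ => rfl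
  have hθ : Function.Bijective θ := by
    refine ⟨(injective_iff_map_eq_one _).2 fun β hβ => Hm.ext fun x => ?_, fun d => ?_⟩
    · obtain ⟨k, rfl⟩ := hg x
      rw [map_zpow, show β _ = 1 from hβ, one_zpow, Hm.one_apply]
    · have ho : orderOf d ∣ orderOf (Multiplicative.ofAdd (1 : ZMod m)) := by
        rw [orderOf_ofAdd_eq_addOrderOf, ZMod.addOrderOf_one]
        refine (orderOf_dvd_natCard d).trans ?_
        simpa [card_du] using hnm
      exact ⟨Hm.of (monoidHomOfForallMemZpowers hg ho), monoidHomOfForallMemZpowers_apply_gen hg ho⟩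
  exact HasSM.congr (hasSM_prod h1 h2 (MulEquiv.refl _)) (MulEquiv.prodMultiplicative _ _).symm
    (MulEquiv.uniqueProd.trans (MulEquiv.uniqueProd.trans ((MulEquiv.ofBijective θ hθ).trans
      (du_equiv _).some)))

end Cfsg.Agent.S3951
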