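import Cfsg.Statements.S3953
import Cfsg.Agent.H1.Schur2

set_option autoImplicit false
open Cfsg

namespace Cfsg.Agent.S3953

/-- Let `P` be a Sylow `p`-subgroup of the finite group `G`, let `A` be the Schur multiplier of `G` and `B` that of `P`. Then the `p`-primary component of `A` is isomorphic to a direct factor of `B`: there are subgroups `C` and `D` of `B` meeting trivially and generating `B`, with `C` isomorphic to the `p`-primary component of `A`. -/
theorem result {G : Type*} [Group G] [Finite G] (p : ℕ) [Fact p.Prime] (P : Sylow p G) {A B : Type*} [CommGroup A] [CommGroup B] (hA : Cfsg.HasSchurMultiplier G A) (hB : Cfsg.HasSchurMultiplier P B) : ∃ C D : Subgroup B, C ⊓ D = ⊥ ∧ C ⊔ D = ⊤ ∧ Nonempty (CommGroup.primaryComponent A p ≃* C) := by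
  open Subgroup CfsgH1 in
  obtain ⟨r, c, h1, h2⟩ := exists_res_cor (P : Subgroup G) hA hB
  obtain ⟨k, hk⟩ := P.2.exists_card_eq
  have hp : p.Prime := Fact.out
  have hc : Nat.Coprime (P : Subgroup G).index p := ((Nat.Prime.coprime_iff_not_dvd hp).2 P.not_dvd_index).symm
  have hinj : ∀ a ∈ CommGroup.primaryComponent A p, a ^ (P : Subgroup G).index = 1 → a = 1 := by
    rintro a ⟨j, hj⟩ h
    exact (pow_eq_one_iff_of_coprime (hc.pow_right j)).1 ⟨h, hj⟩
  refine ⟨(CommGroup.primaryComponent A p).map r, c.ker, ?_, ?_, ⟨?_⟩⟩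
  · rw [eq_bot_iff]
    rintro _ ⟨⟨a, ha, rfl⟩, h⟩
    rw [hinj a ha ((h1 a).symm.trans h), map_one]
    exact one_mem _
  · rw [eq_top_iff']
    intro b
    have hb : c b ^ p ^ k = 1 := by rw [← map_pow, ← hk, h2, map_one]
    obtain ⟨m, hm⟩ := exists_pow_eq_self_of_coprime (x := c b) (n := (P : Subgroup G).index)
      ((hc.pow_right k).coprime_dvd_right (orderOf_dvd_of_pow_eq_one hb))
    rw [show b = r (c b ^ m) * ((r (c b ^ m))⁻¹ * b) by simp]
    refine mul_mem_sup (mem_map_of_mem _ ⟨k, by rw [← pow_mul, mul_comm, pow_mul, hb, one_pow]⟩) ?_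
    rw [MonoidHom.mem_ker, map_mul, map_inv, h1, ← pow_mul, mul_comm m, pow_mul, hm, inv_mul_cancel]
  · refine MulEquiv.ofBijective (r.subgroupMap _) ⟨?_, r.subgroupMap_surjective _⟩
    refine (injective_iff_map_eq_one _).2 fun a ha => Subtype.ext (hinj a a.2 ?_)
    rw [← h1, show r a = 1 from congrArg Subtype.val ha, map_one]

end Cfsg.Agent.S3953
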