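import Cfsg.Statements.S3954
import Cfsg.Agent.H1.Schur2

set_option autoImplicit false
open Cfsg

namespace Cfsg.Agent.S3954

/-- Let `U` be a subgroup of index `m` in the finite group `G`, let `A` be the Schur multiplier of `G` and `B` that of `U`. Then the subgroup of `m`-th powers of `A` is isomorphic to a subgroup of `B`. -/
theorem result {G : Type*} [Group G] [Finite G] (U : Subgroup G) {A B : Type*} [CommGroup A] [CommGroup B] (hA : Cfsg.HasSchurMultiplier G A) (hB : Cfsg.HasSchurMultiplier U B) : ∃ C : Subgroup B, Nonempty ((powMonoidHom U.index : A →* A).range ≃* C) := by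
  open Subgroup CfsgH1 in
  obtain ⟨r, c, h1, -⟩ := exists_res_cor U hA hB
  have : Finite B := Finite.of_equiv _ (hasSM_iff.1 hB).some.toEquiv.symm
  set R := (powMonoidHom U.index : A →* A).range
  obtain ⟨g, hg⟩ := exists_inj_of_surj (f := c.subgroupComap R) (by
    rintro ⟨_, a, rfl⟩
    exact ⟨⟨r a, a, (h1 a).symm⟩, Subtype.ext (h1 a)⟩)
  exact ⟨_, ⟨MonoidHom.ofInjective (f := (R.comap c).subtype.comp g) (Subtype.val_injective.comp hg)⟩⟩

end Cfsg.Agent.S3954
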