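import Cfsg.Statements.S3961
import Cfsg.Agent.H1.Schur2

set_option autoImplicit false
universe u v
open Cfsg

namespace Cfsg.Agent.S3961

/-- Let `π : G →* Q` be a surjective homomorphism with central kernel from a finite perfect group `G` (a perfect cover of `Q`). Then `π` is universal, in the sense that every surjective homomorphism `ξ : X →* Q` with central kernel from a group `X` in the universe of `G` admits a homomorphism `η : G →* X` with `ξ ∘ η = π`, if and only if `G` has trivial Schur multiplier. -/
theorem result {G : Type u} {Q : Type v} [Group G] [Group Q] [Finite G] (hG : Group.IsPerfect G) (π : G →* Q) (hπ : Function.Surjective π) (hker : π.ker ≤ Subgroup.center G) : (∀ (X : Type u) [Group X] (ξ : X →* Q), Function.Surjective ξ → ξ.ker ≤ Subgroup.center X → ∃ η : G →* X, ξ.comp η = π) ↔ Cfsg.HasCyclicSchurMultiplier G 1 := by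
  open Subgroup CfsgH1 in
  rw [hasSM_one_iff]
  refine ⟨fun H => subsingleton_SM_iff.2 fun E _ _ τ hτ => ?_,
    fun H X _ ξ h1 h2 => (exists_lift_of_perfect π h1 h2).exists⟩
  obtain ⟨K, _, j, ce⟩ := exists_ce hτ.1 hτ.2.1
  have := ce.perfect (ce.stem_of hτ)
  obtain ⟨η, hη⟩ := H E (π.comp τ) (hπ.comp hτ.1) fun z hz => mem_center_of_perfect hτ.2.1 (hker hz)
  obtain ⟨L, _, i, ce'⟩ := exists_ce hπ hker
  have h1 : τ.comp η = MonoidHom.id G := ce'.lift_unique (DFunLike.congr_fun hη)
  have := ce.subsingleton_of_cl (ce.stem_of hτ) (ce.cl_eq_one.2 ⟨η, DFunLike.congr_fun h1⟩)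
  have := ce.kerEquiv.surjective.subsingleton
  exact eq_bot_of_subsingleton _

end Cfsg.Agent.S3961
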