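import Cfsg.Statements.S3963
import Cfsg.Agent.H1.Schur4

set_option autoImplicit false
open Cfsg

namespace Cfsg.Agent.S3963

/-- For every `n ≥ 1` the dicyclic (generalized quaternion) group of order `4 n` has trivial Schur multiplier. -/
theorem result (n : ℕ) [NeZero n] : Cfsg.HasCyclicSchurMultiplier (QuaternionGroup n) 1 := by
  open Subgroup CfsgH1 QuaternionGroup in
  have hn : n ≠ 0 := NeZero.ne n
  have h := meta_card_dvd (G := QuaternionGroup n) (a := a 1) (b := xa 0) (n := 2) (r := 2 * n - 1)
    (t := n) (g := 1) (by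
      rw [a_one_pow, mul_inv_eq_iff_eq_mul, xa_mul_a, a_mul_xa, Nat.cast_sub (by omega)]
      simp) (by rw [xa_sq, a_one_pow]) (by
      rw [eq_top_iff']
      have h1 : ∀ i, a i ∈ closure ({a 1, xa 0} : Set (QuaternionGroup n)) := fun i => by
        rw [← ZMod.natCast_zmod_val i, ← a_one_pow]
        exact pow_mem (subset_closure (by simp)) _
      rintro (i | i)
      · exact h1 i
      · rw [show (xa i : QuaternionGroup n) = xa 0 * a i by simp]
        exact mul_mem (subset_closure (by simp)) (h1 i)) (by omega) (by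
      obtain ⟨k, rfl⟩ := Nat.exists_eq_succ_of_ne_zero hn
      rw [orderOf_a_one, show 2 * k.succ - 1 - 1 = 2 * k by omega, Nat.gcd_mul_left,
        Finset.sum_range_succ, Finset.sum_range_one, pow_zero, pow_one,
        show 1 + (2 * k.succ - 1) = 2 * k.succ by omega]
      simp)
  rw [hasSM_one_iff, ← Finite.card_le_one_iff_subsingleton]
  exact Nat.le_of_dvd one_pos h.2

end Cfsg.Agent.S3963
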