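import Cfsg.Statements.S3964
import Cfsg.Agent.H1.Schur4

set_option autoImplicit false
open Cfsg

namespace Cfsg.Agent.S3964

theorem aux (n : ℕ) [NeZero n] : Cfsg.HasCyclicSchurMultiplier (DihedralGroup n) (Nat.gcd n 2) := by
  open Subgroup CfsgH1 DihedralGroup in
  have hn : n ≠ 0 := NeZero.ne n
  refine hasSM_meta (G := DihedralGroup n) (a := r 1) (b := sr 0) (n := 2) (r := 2 * n - 1)
    (t := 0) (by
      rw [r_one_pow, mul_inv_eq_iff_eq_mul, sr_mul_r, r_mul_sr, Nat.cast_sub (by omega)]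
      simp) (by rw [pow_zero, ← orderOf_sr (0 : ZMod n), pow_orderOf_eq_one]) (by
      rw [eq_top_iff']
      have h1 : ∀ i, r i ∈ closure ({r 1, sr 0} : Set (DihedralGroup n)) := fun i => by
        rw [← ZMod.natCast_zmod_val i, ← r_one_pow]
        exact pow_mem (subset_closure (by simp)) _
      rintro (i | i)
      · exact h1 i
      · rw [show (sr i : DihedralGroup n) = sr 0 * r i by simp]
        exact mul_mem (subset_closure (by simp)) (h1 i)) (by omega) (fun k hk => ?_) ?_
  · by_contra h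
    obtain ⟨j, rfl⟩ : Odd k := Int.not_even_iff_odd.1 fun e => h e.two_dvd
    obtain ⟨i, hi⟩ := hk
    have h2 : (sr 0 : DihedralGroup n) ^ (2 : ℤ) = 1 := by
      rw [zpow_ofNat, ← orderOf_sr (0 : ZMod n), pow_orderOf_eq_one]
    rw [zpow_add_one, zpow_mul, h2, one_zpow, one_mul] at hi
    simp at hi
  · rw [orderOf_r_one, Finset.sum_range_succ, Finset.sum_range_one, pow_zero, pow_one,
      show 1 + (2 * n - 1) = 2 * n by omega, Nat.gcd_zero_right, Nat.gcd_mul_left_right,
      show n.gcd (2 * n - 1 - 1) = n.gcd 2 from ?_, Nat.mul_div_cancel' (Nat.gcd_dvd_left _ _)]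
    obtain ⟨k, rfl⟩ := Nat.exists_eq_succ_of_ne_zero hn
    rw [show 2 * k.succ - 1 - 1 = 2 * k by omega]
    exact Nat.Coprime.gcd_mul_right_cancel_right 2 (by simp)

/-- For odd `n` the dihedral group of order `2 n` has trivial Schur multiplier. -/
theorem result (n : ℕ) (hn : Odd n) : Cfsg.HasCyclicSchurMultiplier (DihedralGroup n) 1 := by
  have : NeZero n := ⟨hn.pos.ne'⟩
  have := aux n
  rwa [Nat.coprime_two_right.2 hn] at this

end Cfsg.Agent.S3964
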