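import Cfsg.Statements.S3966
import Cfsg.Agent.H2.CycSCN

set_option autoImplicit false
open Cfsg

namespace Cfsg.Agent.S3966
open Subgroup CfsgH2
open scoped commutatorElement

/-- For even `n ≥ 2` the dicyclic group of order `4 n` is a stem extension of the dihedral group of order `2 n` with kernel of order `2`: there is a surjective homomorphism `QuaternionGroup n →* DihedralGroup n` whose kernel is central, lies in the commutator subgroup and has two elements. Together with the order of the multiplier this exhibits the dicyclic group as a Schur covering group of the dihedral group. -/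
theorem result (n : ℕ) [NeZero n] (hn : Even n) : ∃ σ : QuaternionGroup n →* DihedralGroup n, Cfsg.IsStemExtension σ ∧ Nat.card σ.ker = 2 := by
  have h1 : (DihedralGroup.r 1 : DihedralGroup n) ^ n = 1 := DihedralGroup.r_one_pow_n
  obtain ⟨σ, hσ⟩ : ∃ σ, σ = quatHom (a := (DihedralGroup.r 1 : DihedralGroup n)) (b := DihedralGroup.sr 0)
    (n := n) (by rw [mul_comm, pow_mul, h1, one_pow]) (by rw [h1]; simp) (by simp) := ⟨_, rfl⟩
  have ha : ∀ i : ℤ, σ (QuaternionGroup.a (i : ZMod (2 * n))) = DihedralGroup.r 1 ^ i := by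
    intro i; rw [hσ]; exact quatHom_a _ _ _ i
  have hx : ∀ i : ℤ, σ (QuaternionGroup.xa (i : ZMod (2 * n))) = DihedralGroup.sr 0 * DihedralGroup.r 1 ^ i := by
    intro i; rw [hσ]; exact quatHom_xa _ _ _ i
  have hs : Function.Surjective σ := by
    rintro (i | i) <;> obtain ⟨i, rfl⟩ := ZMod.intCast_surjective i
    · exact ⟨_, by rw [ha, DihedralGroup.r_one_zpow]⟩
    · exact ⟨_, by rw [hx i, DihedralGroup.r_one_zpow]; simp⟩
  have hn0 : n ≠ 0 := NeZero.ne n
  have hc : Nat.card σ.ker = 2 := by
    have := CfsgH1.card_comap_of_surjective σ hs ⊤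
    rw [comap_top, Subgroup.card_top, Subgroup.card_top, DihedralGroup.nat_card, Nat.card_eq_fintype_card,
      QuaternionGroup.card] at this
    exact Nat.eq_of_mul_eq_mul_left (by positivity : 0 < 2 * n) (by rw [← this]; ring)
  have h := idx2_quaternionGroup n
  have ho : orderOf (QuaternionGroup.a 1 : QuaternionGroup n) = 2 * n := QuaternionGroup.orderOf_a_one
  have hk : zpowers ((QuaternionGroup.a 1 : QuaternionGroup n) ^ n) = σ.ker := by
    refine eq_of_le_of_card_le (zpowers_le.2 ?_) (by rw [hc, Nat.card_zpowers, orderOf_half' hn0 ho])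
    rw [MonoidHom.mem_ker, ← zpow_natCast, quat_a_one_zpow, ha, zpow_natCast, h1]
  refine ⟨σ, ⟨hs, ?_, ?_⟩, hc⟩
  · rw [← hk, zpowers_le, mem_center_iff]
    intro g
    obtain ⟨i, rfl | rfl⟩ := (h.mem g).1 (mem_top g)
    · exact ((Commute.refl _).pow_right _).zpow_left _
    · rw [← zpow_natCast]
      refine (h.commute_iff n i).2 ?_
      rw [zpow_eq_zpow_iff_dvd, ho]; exact ⟨-1, by push_cast; ring⟩
  · obtain ⟨d, hd⟩ := hn
    rw [← hk, zpowers_le, _root_.commutator, h.commutator_eq, ← zpow_natCast]
    exact zpow_mem_zpowers_zpow ⟨-d, by rw [hd]; push_cast; ring⟩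


end Cfsg.Agent.S3966
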