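import Cfsg.Statements.S3967
import Cfsg.Agent.H1.Schur4

set_option autoImplicit false
open Cfsg

namespace Cfsg.Agent.S3967

/-- Let `m, n ≥ 1`, `r ≥ 1` with `r ^ n ≡ 1 (mod m)`, and `l` a natural number; put `d = gcd(m, r - 1)`, `t = m l / d` and `h = d · gcd(m, 1 + r + ⋯ + r^(n-1)) / m`. The group presented by generators `a, b` and relations `a ^ m = 1`, `b ^ n = a ^ t`, `b a b⁻¹ = a ^ r` (a metacyclic group of order `m n`) has Schur multiplier cyclic of order `gcd(l, h)`. -/
theorem result (m n r l : ℕ) (hm : 0 < m) (hn : 0 < n) (hr : 0 < r) (hrn : r ^ n ≡ 1 [MOD m]) : Cfsg.HasCyclicSchurMultiplier (PresentedGroup ({FreeGroup.of true ^ m, (FreeGroup.of false) ^ n * (FreeGroup.of true ^ (m * l / Nat.gcd m (r - 1)))⁻¹, FreeGroup.of false * FreeGroup.of true * (FreeGroup.of false)⁻¹ * (FreeGroup.of true ^ r)⁻¹} : Set (FreeGroup Bool))) (Nat.gcd l (Nat.gcd m (r - 1) * Nat.gcd m (∑ i ∈ Finset.range n, r ^ i) / m)) := by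
  open Subgroup CfsgH1 in
  set d := Nat.gcd m (r - 1) with hd
  set s := ∑ i ∈ Finset.range n, r ^ i with hs
  obtain ⟨u, hu⟩ : d ∣ m := Nat.gcd_dvd_left _ _
  obtain ⟨v, hv⟩ : d ∣ r - 1 := Nat.gcd_dvd_right _ _
  have hd0 : 0 < d := Nat.gcd_pos_of_pos_left _ hm
  have ht : m * l / d = u * l := by rw [hu, mul_assoc, Nat.mul_div_cancel_left _ hd0]
  rw [ht]
  set R : Set (FreeGroup Bool) := {FreeGroup.of true ^ m, (FreeGroup.of false) ^ n * (FreeGroup.of true ^ (u * l))⁻¹, FreeGroup.of false * FreeGroup.of true * (FreeGroup.of false)⁻¹ * (FreeGroup.of true ^ r)⁻¹} with hR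
  let a : PresentedGroup R := PresentedGroup.of true
  let b : PresentedGroup R := PresentedGroup.of false
  have h1 : a ^ m = 1 := PresentedGroup.one_of_mem (rels := R) (by simp [hR])
  have h2 : b ^ n = a ^ (u * l) := mul_inv_eq_one.1
    (PresentedGroup.one_of_mem (rels := R) (x := _ ^ n * (_ ^ _)⁻¹) (by simp [hR]))
  have h3 : b * a * b⁻¹ = a ^ r := mul_inv_eq_one.1
    (PresentedGroup.one_of_mem (rels := R) (x := _ * _ * _⁻¹ * (_ ^ _)⁻¹) (by simp [hR]))
  have hgen : closure {a, b} = ⊤ := by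
    rw [← PresentedGroup.closure_range_of R]
    congr 1
    ext x; simp [a, b, eq_comm, or_comm]
  have hfa : Finite (zpowers a) := finite_zpowers.2 (isOfFinOrder_iff_pow_eq_one.2 ⟨m, hm, h1⟩)
  have hN : (zpowers a).Normal := normalizer_eq_top_iff.1 (eq_top_iff.2 (hgen ▸ (closure_le _).2 (by
    rintro _ (rfl | rfl)
    · exact le_normalizer (mem_zpowers a)
    · refine mem_normalizer_fintype (S := ((zpowers a : Subgroup _) : Set (PresentedGroup R))) ?_
      rintro _ ⟨i, rfl⟩
      rw [← conj_zpow, h3]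
      exact zpow_mem (pow_mem (mem_zpowers a) r) i)))
  have hfin : Finite (PresentedGroup R) := by
    let π := QuotientGroup.mk' (zpowers a)
    have e1 : π a = 1 := (QuotientGroup.eq_one_iff _).2 (mem_zpowers a)
    have : Finite (zpowers (π b)) := finite_zpowers.2 (isOfFinOrder_iff_pow_eq_one.2 ⟨n, hn, by
      rw [← map_pow, h2, map_pow, e1, one_pow]⟩)
    have e2 : zpowers (π b) = ⊤ := by
      rw [eq_top_iff, ← map_top_of_surjective π (QuotientGroup.mk'_surjective _), ← hgen,
        map_le_iff_le_comap, closure_le]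
      rintro _ (rfl | rfl)
      · change π a ∈ zpowers (π b); rw [e1]; exact one_mem _
      · exact mem_zpowers _
    rw [e2] at this
    have := Finite.of_equiv _ (topEquiv (G := _ ⧸ zpowers a)).toEquiv
    exact Finite.of_equiv _ (groupEquivQuotientProdSubgroup (s := zpowers a)).symm
  have : NeZero m := ⟨hm.ne'⟩
  have ho : orderOf a = m := by
    have hg : ∀ x : Multiplicative (ZMod m), x ∈ zpowers (Multiplicative.ofAdd (1 : ZMod m)) :=
      fun x => ⟨x.toAdd.val, by simp only [zpow_natCast, ← ofAdd_nsmul]; simp⟩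
    have hgo : orderOf (Multiplicative.ofAdd (1 : ZMod m)) = m := by
      rw [orderOf_ofAdd_eq_addOrderOf, ZMod.addOrderOf_one]
    obtain ⟨E, _, j, β, -, e1, -, e3, e4, -⟩ := exists_meta_ext _ hg r (u * l) hn.ne'
      (by conv_rhs => rw [← pow_one (Multiplicative.ofAdd _)]
          rwa [pow_eq_pow_iff_modEq, hgo])
      (by rw [← pow_mul, pow_eq_pow_iff_modEq, hgo, show r = d * v + 1 by omega, mul_add, mul_one]
          exact (Nat.modEq_iff_dvd' (Nat.le_add_left _ _)).2 ⟨l * v, by rw [hu]; ring_nf; omega⟩ |>.symm)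
      1 (one_pow _) (one_pow _) (one_pow _) (1 : _ →* PUnit.{1}) 1 rfl rfl
    let f : Bool → E := fun x => if x then j (1, Multiplicative.ofAdd 1) else β
    have hf : ∀ x ∈ R, FreeGroup.lift f x = 1 := by
      rintro _ (rfl | rfl | rfl)
      · simp only [map_pow, FreeGroup.lift_apply_of, f, if_true]
        rw [← map_pow, Prod.pow_mk, one_pow, orderOf_dvd_iff_pow_eq_one.1 hgo.dvd]; exact map_one j
      · simp only [map_pow, map_mul, map_inv, FreeGroup.lift_apply_of, f, if_true]
        simp [e4, ← map_pow]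
      · simp only [map_pow, map_mul, map_inv, FreeGroup.lift_apply_of, f, if_true]
        simp [e3, ← map_pow]
    refine Nat.dvd_antisymm (orderOf_dvd_of_pow_eq_one h1) ?_
    have := orderOf_map_dvd (PresentedGroup.toGroup hf) a
    rwa [PresentedGroup.toGroup.of, show f true = (j.comp (MonoidHom.inr _ _)) _ from rfl,
      orderOf_injective (j.comp (MonoidHom.inr _ _)) (e1.comp (Prod.mk_right_injective _)), hgo] at this
  refine hasSM_meta h3 h2 hgen hr.ne' (fun k hk => ?_) ?_
  · let f : Bool → Multiplicative (ZMod n) := fun x => if x then 1 else Multiplicative.ofAdd 1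
    have hf : ∀ x ∈ R, FreeGroup.lift f x = 1 := by
      rintro _ (rfl | rfl | rfl) <;> simp [f, ← ofAdd_nsmul]
    obtain ⟨i, hi⟩ := hk
    have := congrArg (PresentedGroup.toGroup hf) hi
    simp only [map_zpow, a, b, PresentedGroup.toGroup.of, f] at this
    have h5 : (k : ZMod n) = 0 := by simpa [← ofAdd_zsmul] using congrArg Multiplicative.toAdd this.symm
    exact (ZMod.intCast_zmod_eq_zero_iff_dvd k n).1 h5
  · have huv : Nat.Coprime u v := by
      have := Nat.coprime_div_gcd_div_gcd hd0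
      rwa [← hd, hv, Nat.mul_div_cancel_left _ hd0, hu, Nat.mul_div_cancel_left _ hd0] at this
    have h4 : m ∣ s * (r - 1) := by
      rw [hs, geom_sum_mul_of_one_le hr]
      exact (Nat.modEq_iff_dvd' (Nat.one_le_pow _ _ hr)).1 hrn.symm
    obtain ⟨w, hw⟩ : u ∣ s := by
      rw [hu, hv, mul_left_comm] at h4
      exact huv.dvd_of_dvd_mul_right (Nat.dvd_of_mul_dvd_mul_left hd0 h4)
    rw [ho, ← hd, ← hs, hw]
    have hu0 : 0 < u := Nat.pos_of_mul_pos_left (hu ▸ hm)
    have key : ∀ d : ℕ, 0 < d → l.gcd (d * (d * u).gcd (u * w) / (d * u)) * (d * u / d) =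
        ((d * u).gcd (u * l)).gcd (u * w) := fun d hd0 => by
      rw [Nat.mul_div_cancel_left _ hd0, mul_comm d u, Nat.gcd_mul_left, Nat.gcd_mul_left,
        Nat.gcd_mul_left, ← mul_assoc, mul_comm d u, Nat.mul_div_cancel_left _ (mul_pos hu0 hd0),
        mul_comm, Nat.gcd_left_comm, Nat.gcd_assoc]
    have := key d hd0
    rwa [← hu] at this

end Cfsg.Agent.S3967
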