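import Cfsg.Statements.S3968
import Cfsg.Agent.H4.Ord3

set_option autoImplicit false
open Cfsg

namespace Cfsg.Agent.S3968

/-- Let `p` be a prime and `G` a finite group with a faithful irreducible complex character of degree `p` (so `G` is an irreducible linear group in `p` variables). If `p ^ 2` divides the order of `G`, then the centre of `G` is nontrivial. -/
theorem result {G : Type*} [Group G] [Finite G] (p : ℕ) (hp : p.Prime) (χ : Cfsg.IrrCharacter G) (hdeg : χ.1 1 = p) (hfaith : ∀ g : G, χ.1 g = χ.1 1 → g = 1) (hdiv : p ^ 2 ∣ Nat.card G) : Subgroup.center G ≠ ⊥ := by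
  open Subgroup CfsgH1 CfsgFT CfsgH2 CfsgH3 CfsgH4 in
  haveI := Fact.mk hp
  haveI := Fintype.ofFinite G
  intro hZ
  obtain ⟨P⟩ : Nonempty (Sylow p G) := inferInstance
  haveI := Fintype.ofFinite P
  have hP : p ^ 2 ∣ Nat.card P := P.pow_dvd_card_of_pow_dvd_card hdiv
  have p0 : (p : ℂ) ≠ 0 := Nat.cast_ne_zero.2 hp.ne_zero
  have z0 : ∀ z : P, z ∈ center P → z ≠ 1 → χ.1 z = 0 := fun z hz h1 => by
    refine (χ.2.eq_zero_or_norm_eq_of_coprime hdeg z (hp.coprime_iff_not_dvd.2 fun d => P.not_dvd_index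
      (d.trans (index_dvd_of_le fun y hy => mem_cent1'.2 (congrArg Subtype.val (mem_center_iff.1 hz ⟨y, hy⟩)))))).resolve_right
        fun k => h1 (Subtype.ext (hZ.le (mem_center_iff.2 fun x => ?_)))
    have := hfaith _ (χ.2.isChar.commutator_mem_ker k x)
    rw [mul_inv_eq_one, mul_inv_eq_iff_eq_mul] at this
    exact this.symm
  have hψ := χ.2.isChar.restrict P
  by_cases h : ∀ θ, IsIrrCharacter P θ → classInner (fun x : P => χ.1 x) θ ≠ 0 → θ 1 = 1
  · have c : ∀ z : P, z ∈ center P := fun z => mem_center_iff.2 fun x => commutatorElement_eq_one_iff_mul_comm.1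
      (Subtype.ext (hfaith _ (apply_eq_of_constituents hψ fun θ a b => apply_commutator_of_deg_one a.isChar (h θ a b)
        (commutator_mem_commutator (mem_top x) (mem_top z)))))
    obtain ⟨n, hn⟩ := hψ.inner_nat isChar_one
    rw [CfsgH3.inner_one_right, Fintype.sum_eq_single (1 : (P : Subgroup G)) (fun z => z0 z (c z)), coe_one, hdeg,
      inv_mul_eq_iff_eq_mul₀ (card_ne_zero_complex P)] at hn
    have : p ^ 2 ∣ p := hP.trans ⟨n, by exact_mod_cast hn⟩
    exact absurd (Nat.le_of_dvd hp.pos this) (by nlinarith [hp.two_le])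
  · push Not at h
    obtain ⟨θ, a, b, c⟩ := h
    obtain ⟨k, hk⟩ := charDegree_pgroup hp P.2 a
    have s := hψ.sub_constituent a b
    obtain ⟨m, hm⟩ := s.exists_deg
    have e := coe_charDegree a.isChar
    rw [Pi.sub_apply, coe_one, hdeg, ← e, hk, sub_eq_iff_eq_add] at hm
    have e2 : p = m + p ^ k := by exact_mod_cast hm
    have : m = 0 := by
      rcases k with _ | k
      · exact (c (by rw [← e, hk]; simp)).elim
      · have : p ≤ p ^ (k + 1) := Nat.le_self_pow k.succ_ne_zero p; omega
    have e3 := sub_eq_zero.1 (s.eq_zero_of_deg (by rw [Pi.sub_apply, coe_one, hdeg, ← e, hk, hm, this]; simp))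
    haveI : Nontrivial P := Finite.one_lt_card_iff_nontrivial.1 (lt_of_lt_of_le (by nlinarith [hp.two_le])
      (Nat.le_of_dvd Nat.card_pos hP))
    haveI := P.2.center_nontrivial
    obtain ⟨⟨z, hz⟩, h1⟩ := exists_ne (1 : center P)
    have := a.isChar.mem_cent.1 (a.center_le_cent hz)
    rw [← e3] at this
    simp only [z0 z hz fun e => h1 (Subtype.ext e), coe_one, hdeg, norm_zero] at this
    exact p0 (norm_eq_zero.1 this.symm)

end Cfsg.Agent.S3968
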