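import Cfsg.Statements.S3970
import Cfsg.Agent.H1.Mx1
import Cfsg.Agent.H1.GAut
import Cfsg.Agent.FT.PF14c
import Cfsg.Agent.H2.TwoLocal

set_option autoImplicit false
open Cfsg

namespace Cfsg.Agent.S3970

/-- Let `G` be a finite group such that for every prime `p` dividing its order, other than the largest such prime, the Sylow `p`-subgroups are abelian and generated by at most two elements, and suppose `12` does not divide the order of `G`. Then `G` is solvable. In particular a group of cube-free order not divisible by `12` is solvable. -/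
theorem result {G : Type*} [Group G] [Finite G] (h : ∀ p : ℕ, p.Prime → p ∣ Nat.card G → (∃ q : ℕ, q.Prime ∧ q ∣ Nat.card G ∧ p < q) → ∀ P : Sylow p G, IsMulCommutative (P : Subgroup G) ∧ Group.rank (P : Subgroup G) ≤ 2) (h12 : ¬ 12 ∣ Nat.card G) : Group.IsSolvable G := by
  open Subgroup CfsgH1 CfsgFT CfsgH2 in
  rcases Nat.even_or_odd (Nat.card G) with e | o
  swap
  · exact CfsgPF.feit_thompson o
  obtain ⟨P⟩ : Nonempty (Sylow 2 G) := inferInstance
  suffices k : HasNormalPComplement 2 (⊤ : Subgroup G) from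
    haveI := solv_of_npc_two k
    Group.isSolvable_of_surjective (f := (⊤ : Subgroup G).subtype) fun x => ⟨⟨x, trivial⟩, rfl⟩
  by_cases h3 : 3 ∣ Nat.card G
  · refine hasNPC_of_cyclic_two (.of_sylow_top P) ?_
    obtain ⟨k, hk⟩ := P.2.exists_card_eq
    have : ¬ 2 ≤ k := fun l => h12 (Nat.Coprime.mul_dvd_of_dvd_of_dvd (m := 3) (n := 4) (by norm_num) h3
      ((Nat.pow_dvd_pow 2 l).trans (hk ▸ card_subgroup_dvd_card _)))
    exact isCyclic_of_card_dvd_prime (p := 2) (hk ▸ Nat.pow_dvd_pow 2 (show k ≤ 1 by omega))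
  rw [hasNPC_top_iff]
  by_cases hq : ∃ q : ℕ, q.Prime ∧ q ∣ Nat.card G ∧ 2 < q
  · obtain ⟨h1, h2⟩ := h 2 Nat.prime_two e.two_dvd hq P
    refine npc_of_ab P h1 fun q a b c d d1 d2 f => ?_
    obtain rfl | rfl : d = 1 ∨ d = 2 := by omega
    · exact a.ne_one (by simpa using f)
    · exact h3 ((Nat.prime_dvd_prime_iff_eq a Nat.prime_three).1 f ▸ c)
  · exact hasNPC_of_arith P P.2.exists_card_eq.choose_spec fun q a b c => (hq ⟨q, a, c, lt_of_le_of_ne a.two_le b.symm⟩).elim

end Cfsg.Agent.S3970
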