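import Cfsg.Statements.S3971
import Cfsg.Agent.H1.Mx1

set_option autoImplicit false
open Cfsg

namespace Cfsg.Agent.S3971

/-- Let `G` be a finite group of order `2 ^ a * n` with `n` odd and not divisible by `3`, and suppose `G` has an element of order `2 ^ (a - 1)` (so a Sylow `2`-subgroup has a cyclic subgroup of index at most `2`). Then `G` has a normal subgroup of order `n`. -/
theorem result {G : Type*} [Group G] [Finite G] (a n : ℕ) (hG : Nat.card G = 2 ^ a * n) (hn : Odd n) (h3 : ¬ 3 ∣ n) (hx : ∃ x : G, orderOf x = 2 ^ (a - 1)) : ∃ N : Subgroup G, N.Normal ∧ Nat.card N = n := by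
  open Subgroup CfsgH1 CfsgFT CfsgH2 in
  obtain ⟨x, hx⟩ := hx
  obtain ⟨S, hS, l⟩ := IsSylowIn.exists_le (isPGroup_zpowers_of_orderOf hx) le_top
  obtain ⟨P, rfl⟩ := hS.of_top
  have c : Nat.card P.1 = 2 ^ a := by
    rw [P.card_eq_multiplicity, hG, Nat.factorization_mul (by positivity) hn.pos.ne']
    simp [Nat.factorization_eq_zero_of_not_dvd hn.not_two_dvd_nat, Nat.prime_two.factorization_pow]
  have i : (zpowers x).relIndex P.1 ∣ 2 := by
    have := CfsgH2.card_mul_relIndex l
    rw [Nat.card_zpowers, hx, c] at this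
    rcases a with _ | a
    · simp_all
    · rw [pow_succ, Nat.add_sub_cancel] at this
      exact (Nat.eq_of_mul_eq_mul_left (by positivity) this).dvd
  have m : IsMetacyclic P.1 := by
    haveI : ((zpowers x).subgroupOf P.1).Normal := ((Nat.dvd_prime Nat.prime_two).1 i).elim
      (fun e => by rw [index_eq_one.1 e]; infer_instance) normal_of_index_eq_two
    exact ⟨_, this, (subgroupOfEquivOfLe l).isCyclic.2 inferInstance, isCyclic_of_card_dvd_prime (p := 2) i⟩
  have := npc_of_meta P m fun q h1 h2 h4 h5 => by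
    obtain rfl := (Nat.prime_dvd_prime_iff_eq h1 Nat.prime_three).1 h5
    exact h3 ((Nat.Coprime.pow_right a (by norm_num)).dvd_of_dvd_mul_left (hG ▸ h4))
  obtain ⟨N, _, h1⟩ := (hasNPC_iff_sylow P).1 this
  exact ⟨N, ‹_›, Nat.eq_of_mul_eq_mul_left (show 0 < 2 ^ a by positivity) (by rw [← hG, ← h1.card_mul, c, mul_comm])⟩

end Cfsg.Agent.S3971
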