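import Cfsg.Statements.S3972
import Cfsg.Agent.H1.SRing

set_option autoImplicit false
open Cfsg

namespace Cfsg.Agent.S3972

/-- Let `p` be a prime, `m ≥ 2`, and `G` a transitive but not doubly transitive permutation group on `p ^ m` points containing a permutation of order `p ^ m` (necessarily a full cycle). Then `G` is imprimitive, and the normal closure in `G` of the `p ^ (m - 1)`-th power of that permutation is an intransitive normal subgroup. -/
theorem result {Ω : Type*} [Fintype Ω] [DecidableEq Ω] (p m : ℕ) (hp : p.Prime) (hm : 2 ≤ m) (hΩ : Fintype.card Ω = p ^ m) (G : Subgroup (Equiv.Perm Ω)) (htr : MulAction.IsPretransitive G Ω) (h2 : ¬ MulAction.IsMultiplyPretransitive G Ω 2) (g : G) (hg : orderOf g = p ^ m) : ¬ MulAction.IsPreprimitive G Ω ∧ ¬ MulAction.IsPretransitive (Subgroup.normalClosure ({g ^ (p ^ (m - 1))} : Set G)) Ω := by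
  open Subgroup MulAction in
  classical
  have := Fact.mk hp
  obtain ⟨m, rfl⟩ : ∃ k, m = k + 1 := ⟨m - 1, by omega⟩
  rw [Nat.add_sub_cancel]
  have o : orderOf (g ^ p ^ m) = p := by
    rw [orderOf_pow_of_dvd (pow_ne_zero _ hp.ne_zero) (hg ▸ pow_dvd_pow p m.le_succ), hg, pow_succ', Nat.mul_div_cancel _ (pow_pos hp.pos _)]
  have n1 : g ^ p ^ m ≠ 1 := fun e => hp.ne_one (by rw [← o, e, orderOf_one])
  obtain ⟨ω, hω⟩ : ∃ ω : Ω, (g ^ p ^ m) • ω ≠ ω := by
    by_contra! k
    exact n1 (Subtype.ext (Equiv.ext k))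
  have c : Nat.card (zpowers g) = p ^ (m + 1) := by rw [Nat.card_zpowers, hg]
  have s : stabilizer (zpowers g) ω = ⊥ := by
    obtain ⟨j, hj, e⟩ := (Nat.dvd_prime_pow hp).1 (c ▸ (stabilizer (zpowers g) ω).index_dvd_card)
    rcases hj.lt_or_eq with l | rfl
    · have := pow_mem ((stabilizer (zpowers g) ω).pow_index_mem ⟨g, mem_zpowers g⟩) (p ^ (m - j))
      rw [e, ← pow_mul, ← pow_add, Nat.add_sub_cancel' (Nat.lt_succ_iff.1 l)] at this
      exact (hω this).elim
    · have := (stabilizer (zpowers g) ω).card_mul_index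
      rw [e, c] at this
      exact card_eq_one.1 ((Nat.mul_eq_right (pow_ne_zero _ hp.ne_zero)).1 this)
  have cΩ : Nat.card Ω = p ^ (m + 1) := by rw [Nat.card_eq_fintype_card, hΩ]
  have : IsPretransitive (zpowers g) Ω := by
    have : Nonempty Ω := ⟨ω⟩
    rw [isPretransitive_iff_orbit_eq_univ ω, Set.eq_univ_iff_ncard, ← index_stabilizer, s, index_bot, c, cΩ]
  have hs : ∀ a : Ω, stabilizer (zpowers g) a = ⊥ := fun a => by
    have := (stabilizer (zpowers g) a).card_mul_index
    rw [index_stabilizer_of_transitive, cΩ, c] at this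
    exact card_eq_one.1 ((Nat.mul_eq_right (pow_ne_zero _ hp.ne_zero)).1 this)
  have k := fun H => h2 (CfsgH1.SR.cyc (zpowers g) hs (by
    rw [cΩ]; exact (Nat.pow_lt_pow_right hp.one_lt (by omega : 1 < m + 1)).ne' ∘ fun e => e.trans (pow_one p).symm)
    (pow_mem (mem_zpowers g) _) o H)
  exact ⟨fun h => k (Or.inl h), fun h => k (Or.inr ⟨IsPGroup.of_card c, h⟩)⟩

end Cfsg.Agent.S3972
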