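import Cfsg.Statements.S3974
import Cfsg.Agent.H1.Schur2

set_option autoImplicit false
universe u v
open Cfsg

namespace Cfsg.Agent.S3974

/-- Let `Q` be a finite group with Schur multiplier `A`. Any two Schur covering groups of `Q` (finite stem extensions `σ₁ : Γ₁ →* Q`, `σ₂ : Γ₂ →* Q` with kernels isomorphic to `A`, `Γ₁, Γ₂` in the universe of `Q`) are isomorphic over `Q` — there is a group isomorphism `e : Γ₁ ≃* Γ₂` with `σ₂ ∘ e = σ₁` — if and only if the order of the commutator quotient of `Q` is coprime to the order of `A`. In particular a finite perfect group has a unique Schur covering group up to isomorphism over it. -/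
theorem result {Q : Type u} [Group Q] [Finite Q] {A : Type v} [CommGroup A] (hA : Cfsg.HasSchurMultiplier Q A) : (∀ (Γ₁ Γ₂ : Type u) [Group Γ₁] [Finite Γ₁] [Group Γ₂] [Finite Γ₂] (σ₁ : Γ₁ →* Q) (σ₂ : Γ₂ →* Q), Cfsg.IsStemExtension σ₁ → Cfsg.IsStemExtension σ₂ → Nonempty (σ₁.ker ≃* A) → Nonempty (σ₂.ker ≃* A) → ∃ e : Γ₁ ≃* Γ₂, σ₂.comp e.toMonoidHom = σ₁) ↔ Nat.Coprime (Nat.card (Abelianization Q)) (Nat.card A) := by
  open Subgroup CfsgH1 in
  obtain ⟨eA⟩ := hasSM_iff.1 hA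
  have : Finite A := Finite.of_equiv _ eA.toEquiv.symm
  refine ⟨fun H => ?_, fun hc Γ₁ Γ₂ _ _ _ _ σ₁ σ₂ h1 h2 ⟨e1⟩ ⟨e2⟩ => ?_⟩
  · by_contra hc
    rw [Nat.card_congr eA.toEquiv, ← card_du (SM Q)] at hc
    obtain ⟨c, hc1, hc2⟩ := exists_ext_class hc
    obtain ⟨a, ha⟩ := exists_cover Q
    obtain ⟨b, hb⟩ := cls_surj (cls a * c)
    have c1 := Ext.ce a
    have c2 := Ext.ce b
    have ht : c2.tra ℂˣ = c1.tra ℂˣ := MonoidHom.ext fun l => by
      rw [CE.tra_apply, CE.tra_apply, Ext.cl, Ext.cl, hb, map_mul, hc2, mul_one]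
    have := c1.finite
    have := c2.finite
    obtain ⟨e, he⟩ := H _ _ _ _ (c1.isStem (c1.stem_iff.2 ha.1)) (c2.isStem (c2.stem_iff.2 (ht ▸ ha.1)))
      ⟨c1.kerEquiv.symm.trans ((du_equiv _).some.trans eA.symm)⟩
      ⟨c2.kerEquiv.symm.trans ((du_equiv _).some.trans eA.symm)⟩
    have h1 : ∀ g, Ext.σ b (e.toMonoidHom g) = MonoidHom.id Q (Ext.σ a g) := DFunLike.congr_fun he
    obtain ⟨ψ, h2⟩ := c1.exists_psi c2 h1
    have h3 := (c1.lift_iff c2 _ ψ).1 ⟨_, h1, h2⟩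
    have h4 : ψ = MonoidHom.id _ := MonoidHom.ext fun x => du_ext fun l => by
      have : c1.tra ℂˣ (duMap ψ l) = c1.tra ℂˣ l := by
        conv_rhs => rw [← ht, CE.tra_apply, ← hmap_id c2.cl, ← h3, hmap_hmap]
        rfl
      exact DFunLike.congr_fun (ha.1 this) x
    rw [h4, hmap_id, hmap_id, Ext.cl, Ext.cl, hb] at h3
    exact hc1 (left_eq_mul.1 h3)
  · have c1 := ce_of_equiv h1.1 h1.2.1 e1
    have c2 := ce_of_equiv h2.1 h2.2.1 e2
    have b1 := (c1.bij_of_hasSM hA h1 ⟨e1⟩).2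
    have b2 := (c2.bij_of_hasSM hA h2 ⟨e2⟩).2
    obtain ⟨ψ, h3, h4⟩ := c1.tra_surj_of_coprime b1 hc c2.cl
    obtain ⟨ρ, h5, h6⟩ := (c1.lift_iff c2 (MonoidHom.id Q) ψ).2 (by rw [h3, hmap_id])
    have h7 : Function.Injective ψ := (injective_iff_map_eq_one _).2 fun x hx => du_ext fun l => by
      obtain ⟨l', hl'⟩ := b2.2 (c1.tra ℂˣ l)
      rw [CE.tra_apply, ← h4] at hl'
      rw [← b1.1 hl', duMap_apply, hx, map_one, map_one]
    have h8 := c1.surj_of c2 h5 h6 Function.surjective_id (Finite.injective_iff_surjective.1 h7)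
    refine ⟨MulEquiv.ofBijective ρ (h8.bijective_of_nat_card_le ?_), MonoidHom.ext h5⟩
    rw [c1.card, c2.card]

end Cfsg.Agent.S3974
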