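import Cfsg.Statements.S3977
import Cfsg.Agent.H2.CycSCN

set_option autoImplicit false
open Cfsg

namespace Cfsg.Agent.S3977
open Subgroup CfsgH2
open scoped commutatorElement

/-- Let `p` be a prime and `G` a group of order `p ^ m` which has exactly one subgroup of order `p ^ s`, where `1 ≤ s < m`, and where `s ≥ 2` if `p = 2`. Then `G` is cyclic. (For `p = 2` and `s = 1` the generalized quaternion groups also occur; that case is the classical criterion for a unique involution.) -/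
theorem result {G : Type*} [Group G] [Finite G] (p m s : ℕ) (hp : p.Prime) (hG : Nat.card G = p ^ m) (hs : 1 ≤ s) (hsm : s < m) (h2 : p ≠ 2 ∨ 2 ≤ s) (huniq : ∀ H K : Subgroup G, Nat.card H = p ^ s → Nat.card K = p ^ s → H = K) : IsCyclic G := by
  haveI : Fact p.Prime := ⟨hp⟩
  have hP := IsPGroup.of_card hG
  have hex : ∀ X : Subgroup G, Nat.card X ≤ p ^ s → ∃ H : Subgroup G, X ≤ H ∧ Nat.card H = p ^ s := by
    intro X hX
    obtain ⟨a, ha⟩ := (hP.to_subgroup X).exists_card_eq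
    exact (Sylow.exists_subgroup_card_pow_prime_le p (by rw [hG]; exact pow_dvd_pow p hsm.le) X ha
      ((Nat.pow_le_pow_iff_right hp.one_lt).1 (ha ▸ hX))).imp fun H h => ⟨h.2, h.1⟩
  obtain ⟨H, -, hH⟩ := hex ⊥ (by rw [card_bot]; exact Nat.one_le_pow _ _ hp.pos)
  have hle : ∀ X : Subgroup G, Nat.card X ≤ p ^ s → X ≤ H := fun X hX => by
    obtain ⟨K, h1, h2⟩ := hex X hX
    exact huniq K H h2 hH ▸ h1
  have hHc : IsCyclic H := by
    obtain ⟨K, hK, hHK⟩ := Sylow.exists_subgroup_card_pow_prime_le p (n := s) (m := s + 1)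
      (by rw [hG]; exact pow_dvd_pow p hsm) H hH (by omega)
    obtain ⟨x, hx, hxH⟩ := SetLike.exists_of_lt (lt_of_le_of_ne hHK fun e => by
      rw [e, hK] at hH; have := Nat.pow_right_injective hp.two_le hH; omega)
    refine isCyclic_of_le' (isCyclic_iff_zpowers.2 ⟨x, eq_of_le_of_card_le (zpowers_le.2 hx) ?_⟩) hHK
    rw [hK]
    exact le_card_of_lt (hP.to_subgroup _) (not_le.1 fun h => hxH (hle _ h (mem_zpowers x)))
  have hel : ∀ x : G, ∀ k ≤ s, x ^ p ^ k = 1 → x ∈ H := fun x k hk hx => hle _ (by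
    rw [Nat.card_zpowers]
    exact (Nat.le_of_dvd (pow_pos hp.pos _) (orderOf_dvd_of_pow_eq_one hx)).trans
      (Nat.pow_le_pow_right hp.pos hk)) (mem_zpowers x)
  rw [← isCyclic_top_iff]
  by_cases hp2 : p = 2
  · subst hp2
    rcases cyclic_or_quat' (hP.to_subgroup ⊤) (uniqInv_of_no_klein (hP.to_subgroup ⊤) fun E _ hE =>
      hE.not_isCyclic (isCyclic_of_le' hHc fun x hx => hel x 1 hs (by
        simpa [sq] using (isKleinFour_iff.1 hE).2 x hx))) with h | ⟨r, ⟨e⟩⟩
    · exact h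
    · exfalso
      obtain ⟨a, b, h⟩ := mc_of_quaternion e
      have h3 := hel _ 2 (by omega) (h.orderOf_c ▸ pow_orderOf_eq_one (a ^ (2 : ℤ) ^ r))
      have h4 := hel _ 2 (by omega) (h.orderOf_out_four (h.quat_sq 0) ▸ pow_orderOf_eq_one (a ^ (0 : ℤ) * b))
      exact h.not_two_pow_succ_dvd ((h.commute_out_iff _ 0).1
        (mul_comm_of_isMulCommutative hHc.isMulCommutative h4 h3))
  · refine isCyclic_of_omegaOne hp2 (hP.to_subgroup ⊤) ?_
    rw [← omegaOne_eq_of_le le_top (omegaOne_le_iff.2 fun x _ hx => hel x 1 hs (by rwa [pow_one]))]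
    exact card_omegaOne_le_of_isCyclic hHc


end Cfsg.Agent.S3977
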