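import Cfsg.Statements.S3980
import Cfsg.Agent.H1.Schur3

set_option autoImplicit false
universe u v w
open Cfsg

namespace Cfsg.Agent.S3980

/-- Let `Q₁` and `Q₂` be finite groups whose commutator quotients have coprime orders, with Schur multipliers `A` and `B`. Then the Schur multiplier of `Q₁ × Q₂` is isomorphic to `A × B`. -/
theorem result {Q₁ : Type u} {Q₂ : Type v} [Group Q₁] [Group Q₂] [Finite Q₁] [Finite Q₂] {A B : Type w} [CommGroup A] [CommGroup B] (hA : Cfsg.HasSchurMultiplier Q₁ A) (hB : Cfsg.HasSchurMultiplier Q₂ B) (hcop : Nat.Coprime (Nat.card (Abelianization Q₁)) (Nat.card (Abelianization Q₂))) : Cfsg.HasSchurMultiplier (Q₁ × Q₂) (A × B) := by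
  open Subgroup CfsgH1 in
  have : Subsingleton (Hm Q₁ (Du Q₂)) := subsingleton_of_forall_eq 1 fun β => Hm.ext fun x => by
    refine (pow_eq_one_iff_of_coprime hcop).1 ⟨?_, by rw [← card_du', pow_card_eq_one']⟩
    have := map_pow (hmAb _ _ β) (Abelianization.of x) (Nat.card (Abelianization Q₁))
    rw [pow_card_eq_one', map_one] at this
    exact this.symm
  have := uniqueOfSubsingleton (1 : Hm Q₁ (Du Q₂))
  exact HasSM.congr (hasSM_prod hA hB (MulEquiv.refl _)) (MulEquiv.refl _)
    ((MulEquiv.refl A).prodCongr MulEquiv.prodUnique)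

end Cfsg.Agent.S3980
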