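import Cfsg.Statements.S3982
import Cfsg.Agent.H1.PG2

set_option autoImplicit false
open Cfsg

namespace Cfsg.Agent.S3982

/-- Let p be an odd prime and G a finite group of even order divisible by p in which the centralizer of every non-identity p-element has odd order. If some nontrivial p-subgroup of G has a normalizer of even order, then the normalizer of every Sylow p-subgroup of G has even order. -/
theorem result {G : Type*} [Group G] [Finite G] (p : ℕ) [Fact p.Prime] (hp2 : p ≠ 2) (hpG : p ∣ Nat.card G) (h2G : 2 ∣ Nat.card G) (hC : ∀ g : G, g ≠ 1 → (∃ k : ℕ, orderOf g = p ^ k) → Odd (Nat.card ↥(Subgroup.centralizer ({g} : Set G)))) (Q : Subgroup G) (hQ : IsPGroup p ↥Q) (hQ1 : Q ≠ ⊥) (hev : Even (Nat.card ↥(Subgroup.normalizer (Q : Set G)))) (P : Sylow p G) : Even (Nat.card ↥(Subgroup.normalizer ((P : Subgroup G) : Set G))) := by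
  open Subgroup CfsgH1 CfsgFT CfsgH2 in
  obtain ⟨y, hy, y2⟩ := exists_orderOf_eq_prime Nat.prime_two (even_iff_two_dvd.1 hev)
  obtain ⟨S, s1, ⟨s2, s3⟩, s4⟩ := exists_maximal_subgroup (Φ := fun S => IsPGroup p S ∧ y ∈ N(S)) ⟨hQ, hy⟩
  have yy : y * y = 1 := by rw [← pow_two, ← y2, pow_orderOf_eq_one]
  have h1 := CfsgH1.inverts_of_fpf s3 yy (eq_bot_iff.2 fun g hg => by_contra fun e =>
    Nat.not_even_iff_odd.2 (hC g e (exists_orderOf_eq_pow s2 hg.1)) (even_iff_two_dvd.2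
      (y2 ▸ Subgroup.orderOf_dvd_natCard _ (mem_C1.2 (mem_C1.1 hg.2).symm))))
  obtain ⟨g, g1, g2⟩ := (bot_or_exists_ne_one Q).resolve_left hQ1
  have h2 : Odd (Nat.card C(S)) := (hC g g2 (exists_orderOf_eq_pow hQ g1)).of_dvd_nat
    (card_dvd_of_le (centralizer_le (Set.singleton_subset_iff.2 (s1 g1))))
  have h3 : IsSylowIn p S ⊤ := .of_maximal le_top s2 fun R r1 r2 _ => by
    by_contra hn
    have h4 := lt_inf_normalizer r1 (lt_of_le_not_ge r2 hn)
    have r3 := r1.to_inf_left (K := N(S))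
    have h5 : R ⊓ N(S) ≤ N(C(S)) := inf_le_right.trans (CfsgH1.normalizer_le_normalizer_centralizer S)
    have h6 : y ∈ N(C(S) ⊔ R ⊓ N(S)) := mem_normalizer_of_cj_le (by
      rw [cj_sup, cj_eq_iff_mem_normalizer.2 (CfsgH1.normalizer_le_normalizer_centralizer S s3)]
      refine sup_le le_sup_left (cj_le_iff.2 fun x hx => ?_)
      rw [show y * x * y⁻¹ = (y * x * y⁻¹ * x⁻¹) * x by group]
      refine mul_mem_sup (fun s hs => ?_) hx
      have yi : y⁻¹ = y := inv_eq_of_mul_eq_one_right yy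
      have e3 : y⁻¹ * (x⁻¹ * s * x) * y = (x⁻¹ * s * x)⁻¹ := by
        simpa only [yi] using h1 _ (CfsgH1.inv_conj_mem_of_mem_normalizer hx.2 hs)
      symm
      rw [← mul_inv_eq_iff_eq_mul]
      calc _ = y * (x * (y⁻¹ * (x⁻¹ * s * x) * y) * x⁻¹) * y⁻¹ := by group
        _ = y * s⁻¹ * y⁻¹ := by rw [e3]; group
        _ = s := by rw [h1 s⁻¹ (inv_mem hs), inv_inv])
    obtain ⟨k, hk⟩ := r3.exists_card_eq
    obtain ⟨T, t1, t2, t3⟩ := exists_invariant_sylow_le (zpowers_le.2 h6) (by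
      rw [Nat.card_zpowers, y2, Nat.coprime_two_left]
      exact (h2.mul (hk ▸ ((Fact.out : p.Prime).odd_of_ne_two hp2).pow)).of_dvd_nat
        (card_sup_dvd_of_le_normalizer h5)) (.inl (isSolvable_zpowers y)) (h4.le.trans le_sup_right) s2
      (zpowers_le.2 s3)
    have := t1.card_le r3 le_sup_right
    rw [s4 T ⟨t1.pgroup, t3 (mem_zpowers y)⟩ t2] at this
    exact (CfsgH1.card_lt_of_lt h4).not_ge this
  obtain ⟨c, -, e⟩ := h3.exists_cj_eq (IsSylowIn.of_sylow_top P)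
  rw [← e, ← cj_normalizer, card_cj]
  exact even_iff_two_dvd.2 (y2 ▸ Subgroup.orderOf_dvd_natCard _ s3)

end Cfsg.Agent.S3982
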