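import Cfsg.Statements.S3983
import Cfsg.Agent.H1.PG2

set_option autoImplicit false
open scoped Pointwise
open Cfsg

namespace Cfsg.Agent.S3983

/-- Let P be a Sylow p-subgroup of the finite group G that meets each conjugate g P g⁻¹ with g outside N_G(P) trivially, and let U be a subgroup of G of order divisible by p. Then a Sylow p-subgroup Q of U has the same property inside U: Q meets each conjugate u Q u⁻¹ with u ∈ U outside N_U(Q) trivially. -/
theorem result {G : Type*} [Group G] [Finite G] (p : ℕ) [Fact p.Prime] (P : Sylow p G) (hTI : ∀ g : G, g ∉ Subgroup.normalizer ((P : Subgroup G) : Set G) → (P : Subgroup G) ⊓ (MulAut.conj g • (P : Subgroup G)) = ⊥) (U : Subgroup G) (hU : p ∣ Nat.card ↥U) (Q : Sylow p ↥U) : ∀ u : ↥U, u ∉ Subgroup.normalizer ((Q : Subgroup ↥U) : Set ↥U) → (Q : Subgroup ↥U) ⊓ (MulAut.conj u • (Q : Subgroup ↥U)) = ⊥ := by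
  open Subgroup CfsgH1 CfsgFT CfsgH2 in
  intro u hu
  by_contra h
  obtain ⟨x, hx, x1⟩ := (bot_or_exists_ne_one _).resolve_left h
  have hQ := IsSylowIn.of_sylow_map Q
  obtain ⟨g, hg⟩ := exists_cj_le_sylow P hQ.pgroup
  have h1 : g * u * g⁻¹ ∈ N((P : Subgroup G)) := by_contra fun e => x1 (Subtype.ext (by
    have := mem_bot.1 ((hTI _ e).le (mem_inf.2 ⟨hg (conj_mem_cj g ⟨x, hx.1, rfl⟩), mem_conj_smul.2 (by
      simpa [mul_assoc] using hg (conj_mem_cj g ⟨_, mem_conj_smul.1 hx.2, rfl⟩))⟩))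
    simpa using this))
  have h2 : cj g⁻¹ P ⊓ U = (Q : Subgroup U).map U.subtype := hQ.eq_of_le (IsPGroup_cj P.isPGroup' _).to_inf_left
    (le_inf (cj_le_iff_le_cj_inv.1 hg) hQ.le) inf_le_right
  refine hu (CfsgH1.mem_normalizer_of_conj_mem fun y hy => ?_)
  rw [← mem_map_iff_mem U.subtype_injective, ← h2]
  refine ⟨mem_cj.2 ?_, (u * y * u⁻¹).2⟩
  simpa [mul_assoc] using CfsgH1.conj_mem_of_mem_normalizer h1 (hg (conj_mem_cj g ⟨y, hy, rfl⟩))

end Cfsg.Agent.S3983
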