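import Cfsg.Statements.S3984
import Cfsg.Agent.H1.PG2

set_option autoImplicit false
open scoped Pointwise
open Cfsg

namespace Cfsg.Agent.S3984

/-- Let P be a Sylow p-subgroup of the finite group G that meets each conjugate g P g⁻¹ with g outside N_G(P) trivially, and let N be a normal subgroup of G of order prime to p. Then every Sylow p-subgroup Q of G ⧸ N meets each conjugate x Q x⁻¹ with x outside its normalizer trivially. -/
theorem result {G : Type*} [Group G] [Finite G] (p : ℕ) [Fact p.Prime] (P : Sylow p G) (hTI : ∀ g : G, g ∉ Subgroup.normalizer ((P : Subgroup G) : Set G) → (P : Subgroup G) ⊓ (MulAut.conj g • (P : Subgroup G)) = ⊥) (N : Subgroup G) [N.Normal] (hN : (Nat.card ↥N).Coprime p) (Q : Sylow p (G ⧸ N)) : ∀ x : G ⧸ N, x ∉ Subgroup.normalizer ((Q : Subgroup (G ⧸ N)) : Set (G ⧸ N)) → (Q : Subgroup (G ⧸ N)) ⊓ (MulAut.conj x • (Q : Subgroup (G ⧸ N))) = ⊥ := by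
  open Subgroup CfsgH1 CfsgFT CfsgH2 in
  intro x hx
  by_contra h
  obtain ⟨z, hz, z1⟩ := (bot_or_exists_ne_one _).resolve_left h
  have hs := QuotientGroup.mk'_surjective N
  have hP := IsSylowIn.of_sylow_top P
  have h0 := hP.map (QuotientGroup.mk' N)
  rw [map_top_of_surjective _ hs] at h0
  obtain ⟨c, -, hc⟩ := h0.exists_cj_eq (IsSylowIn.of_sylow_top Q)
  obtain ⟨c, rfl⟩ := hs c
  obtain ⟨g, rfl⟩ := hs x
  have hm : ∀ g : G, (cj g P).map (QuotientGroup.mk' N) = cj (QuotientGroup.mk' N g)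
    ((P : Subgroup G).map (QuotientGroup.mk' N)) := fun g => map_conj_smul _ g _
  obtain ⟨a, ha, rfl⟩ : z ∈ (cj c P).map (QuotientGroup.mk' N) := by rw [hm, hc]; exact hz.1
  obtain ⟨b, hb, e⟩ : QuotientGroup.mk' N a ∈ (cj (g * c) P).map (QuotientGroup.mk' N) := by
    rw [hm, map_mul, ← cj_cj, hc]; exact hz.2
  obtain ⟨k, hk⟩ := exists_orderOf_eq_pow (IsPGroup_cj P.isPGroup' c) ha
  obtain ⟨j, hj⟩ := exists_orderOf_eq_pow (IsPGroup_cj P.isPGroup' _) hb
  obtain ⟨n, hn, rfl⟩ := (QuotientGroup.mk'_eq_mk' N).1 e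
  obtain ⟨m, hm', e'⟩ := sz_le (N := N) (A := zpowers (b * n)) (B := zpowers b) le_normalizer_of_normal
    (disjoint_of_isPGroup_of_coprime (isPGroup_zpowers_of_orderOf hk) hN).symm
    (zpowers_le.2 ((mul_mem_cancel_right (mem_sup_left hn)).1 (mem_sup_right (mem_zpowers _))))
    (by rw [Nat.card_zpowers, hj]; exact hN.symm.pow_left _) (.inl (isSolvable_zpowers b))
  have h1 : c⁻¹ * (m * g) * c ∈ N((P : Subgroup G)) := by_contra fun e'' => z1 (by
    have := mem_bot.1 ((hTI _ e'').le (mem_inf.2 ⟨mem_cj.1 (zpowers_le.2 ha (e' (conj_mem_conj_smul (mem_zpowers b)))),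
      mem_conj_smul.2 (by simpa [mul_assoc] using mem_cj.1 hb)⟩))
    rw [← e, show b = 1 by simpa [mul_eq_one_iff_eq_inv, inv_mul_eq_iff_eq_mul] using this, map_one])
  refine hx (cj_eq_iff_mem_normalizer.1 ?_)
  have h2 : QuotientGroup.mk' N (g * c) = QuotientGroup.mk' N (c * (c⁻¹ * (m * g) * c)) := by
    simp [(QuotientGroup.eq_one_iff m).2 hm', mul_assoc]
  rw [← hc, cj_cj, ← map_mul, h2, ← hm, ← cj_cj, cj_eq_iff_mem_normalizer.2 h1, hm]

end Cfsg.Agent.S3984
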