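import Cfsg.Statements.S3985
import Cfsg.Agent.H1.PG2

set_option autoImplicit false
open scoped Pointwise
open Cfsg

namespace Cfsg.Agent.S3985

/-- Let P be a cyclic Sylow p-subgroup of the finite group G. Then P meets each conjugate g P g⁻¹ with g outside N_G(P) trivially if and only if P is weakly self-centralizing: C_G(x) = C_G(P) for every non-identity x ∈ P. -/
theorem result {G : Type*} [Group G] [Finite G] (p : ℕ) [Fact p.Prime] (P : Sylow p G) (hcyc : IsCyclic ↥(P : Subgroup G)) : (∀ g : G, g ∉ Subgroup.normalizer ((P : Subgroup G) : Set G) → (P : Subgroup G) ⊓ (MulAut.conj g • (P : Subgroup G)) = ⊥) ↔ ∀ x : G, x ∈ (P : Subgroup G) → x ≠ 1 → Subgroup.centralizer ({x} : Set G) = Subgroup.centralizer ((P : Subgroup G) : Set G) := by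
  open Subgroup CfsgH1 CfsgFT CfsgH2 in
  have hP := IsSylowIn.of_sylow_top P
  have hc : (P : Subgroup G) ≤ C((P : Subgroup G)) := isMulCommutative_iff_le_centralizer.1 inferInstance
  refine ⟨fun h x hx x1 => le_antisymm (fun g hg => ?_) (centralizer_le (Set.singleton_subset_iff.2 hx)),
    fun h g hg => eq_bot_iff.2 fun x hx => by_contra fun x1 => hg ?_⟩
  · have h1 : C1(x) ≤ N((P : Subgroup G)) := fun g hg => by_contra fun e => x1 (mem_bot.1 ((h g e).le
      ⟨hx, mem_conj_smul.2 (by rwa [mul_assoc, ← mem_C1.1 hg, inv_mul_cancel_left])⟩))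
    obtain ⟨u, v, hu, hv, ⟨j, hj⟩, h5, rfl⟩ := exists_p_part (p := p) g
    replace hu := zpowers_le.2 (h1 (zpowers_le.2 hg hu))
    replace hv := zpowers_le.2 hg hv
    refine mul_mem (hc (hP.le_of_le_normalizer (isPGroup_zpowers_of_orderOf hj) le_top hu (mem_zpowers u))) ?_
    have h2 := zpowers_le.2 (h1 hv)
    have h3 : (Nat.card (zpowers v)).Coprime (Nat.card (P : Subgroup G)) := by
      rw [Nat.card_zpowers, hP.card_eq]; exact h5.pow_right _
    rcases eq_bot_or_eq_bot_of_cyclic hcyc P.isPGroup'.to_inf_left (P.isPGroup'.to_le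
      (commutator_le_left_of_le_normalizer h2)) inf_le_left (commutator_le_left_of_le_normalizer h2)
      (centralizer_inf_commutator_eq_bot h2 h3) with e | e
    · exact absurd (mem_bot.1 (e.le ⟨hx, by rw [centralizer_zpowers']; exact mem_C1.2 (mem_C1.1 hv).symm⟩)) x1
    · exact le_centralizer_iff.1 (commutator_eq_bot_iff_le_centralizer.1 e) (mem_zpowers v)
  · have h1 := h _ (mem_conj_smul.1 hx.2) (by simpa [mul_eq_one_iff_eq_inv, inv_mul_eq_iff_eq_mul] using x1)
    refine mem_normalizer_of_cj_le (hP.le_of_le_normalizer (IsPGroup_cj P.isPGroup' g) le_top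
      (le_trans ?_ ((h x hx.1 x1).le.trans (centralizer_le_normalizer _))))
    refine (cj_mono g (hc.trans h1.ge)).trans ?_
    rw [cj_centralizer_singleton]; simp [mul_assoc]

end Cfsg.Agent.S3985
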