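import Cfsg.Statements.S3987
import Cfsg.Agent.H1.PG2

set_option autoImplicit false
open Cfsg

namespace Cfsg.Agent.S3987

/-- Let p be a prime and G a finite group. Then some Sylow p-subgroup of G is a direct factor of G (normal with a normal complement) if and only if for every element x of p-power order and every element y whose order is a power of a prime other than p, the conjugacy class of x y has as many elements as the product of the sizes of the classes of x and of y. -/
theorem result {G : Type*} [Group G] [Finite G] (p : ℕ) [Fact p.Prime] : (∃ (P : Sylow p G) (K : Subgroup G), (P : Subgroup G).Normal ∧ K.Normal ∧ (P : Subgroup G) ⊓ K = ⊥ ∧ (P : Subgroup G) ⊔ K = ⊤) ↔ ∀ x y : G, (∃ a : ℕ, orderOf x = p ^ a) → (∃ q b : ℕ, q.Prime ∧ q ≠ p ∧ orderOf y = q ^ b) → (Subgroup.centralizer ({x * y} : Set G)).index = (Subgroup.centralizer ({x} : Set G)).index * (Subgroup.centralizer ({y} : Set G)).index := by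
  open Subgroup CfsgH1 CfsgFT CfsgH2 in
  refine ⟨fun ⟨P, K, _, _, h1, h2⟩ x y hx ⟨q, b, hq, h3, h4⟩ => ?_, fun h => dirfac_of fun x y hx hy => ?_⟩
  · obtain ⟨⟨k, hk⟩, k1, k2⟩ := dirfac_mem h2
    have hc := commute_of_normal_of_disjoint _ _ ‹(P : Subgroup G).Normal› ‹_› (disjoint_iff.2 h1)
    have hy := k2 y (h4 ▸ (pow_one p ▸ coprime_pow_pow hq h3 (a := 1)).symm)
    have hx' := k1 x hx
    obtain ⟨a, ha⟩ := hx
    rw [C1_mul_of_coprime (hc x y hx' hy) (ha ▸ h4 ▸ coprime_pow_pow hq h3), index_inf_of_coprime]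
    refine Nat.Coprime.of_dvd_left (index_dvd_of_le (H := K) fun g hg => mem_C1.2 (hc x g hx' hg).symm.eq) ?_
    refine Nat.Coprime.of_dvd_right (index_dvd_of_le (H := P) fun g hg => mem_C1.2 (hc g y hg hy).eq) ?_
    exact hk ▸ ((Nat.Prime.coprime_iff_not_dvd Fact.out).2 P.not_dvd_index).pow_left k
  · have h1 : C1(x) ⊓ C1(y) ≤ C1(x * y) := fun g hg => mem_centralizer_singleton_iff'.2
      ((mem_centralizer_singleton_iff'.1 hg.1).mul_right (mem_centralizer_singleton_iff'.1 hg.2))
    have h2 := relIndex_mul_index h1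
    have h3 := index_inf_le (H := C1(x)) (K := C1(y))
    rw [← h x y hx hy, ← h2] at h3
    have h4 := relIndex_eq_one.1 (le_antisymm (Nat.le_of_mul_le_mul_right (h3.trans (one_mul _).ge)
      (Nat.pos_of_ne_zero index_ne_zero_of_finite)) (Nat.pos_of_ne_zero (CfsgH2.relIndex_ne_zero _ _)))
    have h5 := mem_C1.1 (h4 (mem_C1.2 rfl)).1
    rw [mul_assoc] at h5
    exact (mul_left_cancel h5).symm

end Cfsg.Agent.S3987
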