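import Cfsg.Statements.S3992
import Cfsg.Agent.H1.EPPO

set_option autoImplicit false
open Cfsg

namespace Cfsg.Agent.S3992

/-- Let G be a finite non-solvable group in which every element has prime-power order, and let R be its largest solvable normal subgroup. Then R is a p-group for some prime p; G/R has a non-abelian simple normal subgroup contained in every nontrivial normal subgroup of G/R (its unique minimal normal subgroup); and the order of every solvable subgroup of G has at most two prime divisors. -/
theorem result {G : Type*} [Group G] [Finite G] (hns : ¬ Group.IsSolvable G) (hpp : ∀ g : G, g ≠ 1 → IsPrimePow (orderOf g))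
    (R : Subgroup G) [R.Normal] (hRs : Group.IsSolvable ↥R) (hRmax : ∀ N : Subgroup G, N.Normal → Group.IsSolvable ↥N → N ≤ R) :
    (∃ p : ℕ, p.Prime ∧ IsPGroup p ↥R) ∧
      (∃ M : Subgroup (G ⧸ R), M.Normal ∧ IsSimpleGroup ↥M ∧ ¬ IsMulCommutative ↥M ∧
        ∀ N : Subgroup (G ⧸ R), N.Normal → N ≠ ⊥ → M ≤ N) ∧
      ∀ H : Subgroup G, Group.IsSolvable ↥H → (Nat.card ↥H).primeFactors.card ≤ 2 := by
  open Subgroup CfsgH1 CfsgFT CfsgH2 in
  have h : EP G := hpp
  refine ⟨h.rad hns hRs, ?_, fun H => h.two⟩
  have : Nontrivial (G ⧸ R) := not_subsingleton_iff_nontrivial.1 fun k =>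
    hns ((Group.isSolvable_iff_subgroup_quotient R).2 ⟨hRs, inferInstance⟩)
  refine (h.quo R).soc fun N hN s => ?_
  rw [← map_comap_eq_self_of_surjective (QuotientGroup.mk'_surjective R) N, map_mk'_eq_bot_iff]
  refine hRmax _ inferInstance (Group.isSolvable_of_ker_le_range (inclusion (le_comap_mk' R N))
    ((QuotientGroup.mk' R).subgroupComap N) fun x hx => ?_)
  exact ⟨⟨x, (QuotientGroup.eq_one_iff _).1 (congrArg Subtype.val hx)⟩, rfl⟩

end Cfsg.Agent.S3992
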