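import Cfsg.Statements.S3994
import Cfsg.Agent.H2.Cls

set_option autoImplicit false
open Cfsg

namespace Cfsg.Agent.S3994
open Subgroup CfsgH2
open scoped commutatorElement

/-- Let G be a finite group and n a positive integer. The number of elements of G whose order is divisible by n is either 0 or divisible by the largest divisor of the order of G that is coprime to n. -/
theorem result {G : Type*} [Group G] [Finite G] (n : ℕ) (hn : 0 < n) :
    Nat.card {g : G // n ∣ orderOf g} = 0 ∨
      (Nat.card G / Nat.gcd (Nat.card G) (n ^ Nat.card G)) ∣ Nat.card {g : G // n ∣ orderOf g} := by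
  right
  obtain ⟨d, hd⟩ := Nat.gcd_dvd_left (Nat.card G) (n ^ Nat.card G)
  have e : Nat.card G / Nat.gcd (Nat.card G) (n ^ Nat.card G) = d :=
    Nat.div_eq_of_eq_mul_right (Nat.gcd_pos_of_pos_left _ Nat.card_pos) hd
  have c : d.Coprime n := Nat.coprime_of_dvd fun q hq h1 h2 => by
    have h0 : Nat.card G ≠ 0 := Nat.card_pos.ne'
    have h3 := Nat.dvd_gcd (Nat.ordProj_dvd (Nat.card G) q) ((pow_dvd_pow q (Nat.factorization_lt q h0).le).trans
      (pow_dvd_pow_of_dvd h2 (Nat.card G)))
    exact Nat.pow_succ_factorization_not_dvd h0 hq (pow_succ q _ ▸ (mul_dvd_mul h3 h1).trans hd.symm.dvd)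
  have := frob_count (G := G) (d := d) (Dvd.intro_left _ hd.symm) (K := fun x => n ∣ orderOf x) fun x y h1 h3 => by
    obtain ⟨g, rfl⟩ := isConj_iff.1 h1
    rwa [orderOf_conj']
  rw [e, card_subtype_congr (Q := fun x : G => n ∣ orderOf (x ^ d)) fun x => ⟨fun h => ?_, fun h =>
    h.trans (orderOf_pow_dvd d)⟩]
  · exact this
  refine c.symm.dvd_of_dvd_mul_left (h.trans (orderOf_dvd_of_pow_eq_one ?_))
  rw [pow_mul, pow_orderOf_eq_one]


end Cfsg.Agent.S3994
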