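import Cfsg.Statements.S3995
import Cfsg.Agent.H9.OrdCnt
import Cfsg.Agent.S3993
import Cfsg.Agent.H2.TwoGroup

set_option autoImplicit false
open Cfsg

namespace Cfsg.Agent.S3995

/-- Let G be a finite group such that the numbers of elements of each order that occurs in G (the numbers #{g : o(g) = m}, m ranging over the element orders of G) take exactly two values, 1 and some n ≠ 1. Then either G is a p-group of exponent p and order at least 3 for some prime p, or G is the quaternion group of order 8, or G is cyclic of order 4, or G ≅ Z₂ × P for a p-group P of exponent p with p an odd prime. -/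
theorem result {G : Type*} [Group G] [Finite G] (n : ℕ) (hn : n ≠ 1) (h : ((fun m : ℕ => Nat.card {g : G // orderOf g = m}) '' Set.range (orderOf : G → ℕ)) = {1, n}) :
    (∃ p : ℕ, p.Prime ∧ IsPGroup p G ∧ 3 ≤ Nat.card G ∧ Monoid.exponent G = p) ∨
      Nonempty (G ≃* QuaternionGroup 2) ∨ (IsCyclic G ∧ Nat.card G = 4) ∨
      (∃ (p : ℕ) (P : Type) (_ : Group P) (_ : Finite P), p.Prime ∧ p ≠ 2 ∧ IsPGroup p P ∧ Monoid.exponent P = p ∧
        Nonempty (G ≃* Multiplicative (ZMod 2) × P)) := by
  open Subgroup CfsgH1 CfsgH2 CfsgFT CfsgH9 in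
    set s : ℕ → ℕ := fun m => Nat.card {g : G // orderOf g = m} with hs
    have F := fun k (hk : k ≠ 0) (hd : k ∣ Nat.card G) => card_pow_eq_sum (G := G) hk ▸ S3993.result k hd
    have pos : ∀ g : G, s (orderOf g) ≠ 0 := fun g => by
      have : Nonempty {x : G // orderOf x = orderOf g} := ⟨⟨g, rfl⟩⟩
      exact Nat.card_pos.ne'
    have ex : ∀ m, s m ≠ 0 → ∃ g : G, orderOf g = m := fun m hm => by
      obtain ⟨⟨g, hg⟩⟩ := (Nat.card_ne_zero.1 hm).1; exact ⟨g, hg⟩
    have s0 : ∀ m, s m = 0 ∨ s m = 1 ∨ s m = n := fun m => or_iff_not_imp_left.2 fun h0 => by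
      obtain ⟨g, rfl⟩ := ex m h0
      have : s (orderOf g) ∈ ({1, n} : Set ℕ) := h ▸ ⟨_, ⟨g, rfl⟩, rfl⟩
      simpa using this
    obtain ⟨_, ⟨g0, rfl⟩, hg0⟩ : n ∈ s '' Set.range (orderOf : G → ℕ) := h ▸ by simp
    have s1 : s 1 = 1 := Nat.card_eq_one_iff_exists.2 ⟨⟨1, orderOf_one⟩, fun x => Subtype.ext (orderOf_eq_one_iff.1 x.2)⟩
    have big : ∀ g : G, 2 < orderOf g → s (orderOf g) = n ∧ (orderOf g).totient ∣ n := fun g hg => by
      have h1 := totient_dvd_card (G := G) (orderOf g)
      have h2 : s (orderOf g) = n := ((s0 _).resolve_left (pos g)).resolve_left fun e => by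
        have := (Nat.totient_even hg).two_dvd.trans h1
        rw [show Nat.card {x : G // orderOf x = orderOf g} = 1 from e] at this; omega
      exact ⟨h2, h2 ▸ h1⟩
    have big' : ∀ m, 2 < m → s m = 0 ∨ s m = n := fun m hm => or_iff_not_imp_left.2 fun h0 => by
      obtain ⟨g, rfl⟩ := ex m h0; exact (big g hm).1
    have o0 : ∀ g : G, 0 < orderOf g := orderOf_pos
    have dv : ∀ (g : G) m, m ∣ orderOf g → ∃ x : G, orderOf x = m := fun g m hm =>
      ⟨g ^ (orderOf g / m), orderOf_pow_orderOf_div (o0 g).ne' hm⟩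
    by_cases hn2 : Even n
    swap
    · have h2 : ∀ g : G, orderOf g ≤ 2 := fun g => not_lt.1 fun k =>
        hn2 (even_iff_two_dvd.2 ((Nat.totient_even k).two_dvd.trans (big g k).2))
      have h3 : orderOf g0 = 2 := by
        have := h2 g0; have := o0 g0
        have : orderOf g0 ≠ 1 := fun e => hn (by rw [← hg0, e, s1])
        omega
      have h4 : ∀ g : G, g ^ 2 = 1 := fun g => orderOf_dvd_iff_pow_eq_one.1 (by
        have := h2 g; have := o0 g; interval_cases orderOf g <;> simp)
      refine Or.inl ⟨2, Nat.prime_two, fun g => ⟨1, h4 g⟩, ?_, Nat.dvd_antisymm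
        (Monoid.exponent_dvd_of_forall_pow_eq_one h4) (h3 ▸ Monoid.order_dvd_exponent g0)⟩
      have h5 := card_pow_eq_sum (G := G) two_ne_zero
      rw [Nat.prime_two.sum_divisors, card_subtype_congr (Q := fun _ => True) (by simpa using h4), Nat.card_subtype_true] at h5
      have := pos g0
      rw [h3] at hg0 this
      change _ = s 2 + s 1 at h5
      omega
    have s2 : ∀ z : G, orderOf z = 2 → s 2 = 1 := fun z hz => by
      have h1 := F 2 two_ne_zero (hz ▸ _root_.orderOf_dvd_natCard z)
      rw [Nat.prime_two.sum_divisors] at h1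
      change 2 ∣ s 2 + s 1 at h1
      have := s0 2; have := hn2.two_dvd; omega
    have uq : ∀ x y : G, orderOf x = 2 → orderOf y = 2 → x = y := fun x y hx hy =>
      congrArg Subtype.val ((Nat.card_eq_one_iff_unique.1 (s2 x hx)).1.elim (⟨x, hx⟩ : {g : G // orderOf g = 2}) ⟨y, hy⟩)
    by_cases h2 : IsPGroup 2 G
    · have h8 : ∀ g : G, ¬ 8 ∣ orderOf g := fun g hg => by
        have h1 := F 8 (by norm_num) (hg.trans (_root_.orderOf_dvd_natCard g))
        obtain ⟨a, ha⟩ := dv g 8 hg
        obtain ⟨b, hb⟩ := dv g 4 (Dvd.dvd.trans (by norm_num) hg)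
        obtain ⟨c, hc⟩ := dv g 2 (Dvd.dvd.trans (by norm_num) hg)
        rw [show Nat.divisors 8 = {1, 2, 4, 8} by decide, Finset.sum_insert (by decide), Finset.sum_insert (by decide),
          Finset.sum_pair (by decide)] at h1
        change 8 ∣ s 1 + (s 2 + (s 4 + s 8)) at h1
        have := (big a (by omega)).1; have := (big b (by omega)).1; have := s2 c hc; have := hn2.two_dvd
        rw [ha] at *; rw [hb] at *; omega
      haveI : Fact (Nat.Prime 2) := ⟨Nat.prime_two⟩
      rcases cyclic_or_quat' (h2.to_subgroup ⊤) (fun x _ y _ => uq x y) with hc | ⟨r, ⟨e⟩⟩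
      · have hc : IsCyclic G := isCyclic_of_surjective _ topEquiv.surjective
        refine Or.inr (Or.inr (Or.inl ⟨hc, ?_⟩))
        obtain ⟨g, hg⟩ := isCyclic_iff_exists_orderOf_eq_natCard.1 hc
        obtain ⟨k, hk⟩ := IsPGroup.iff_card.1 h2
        have k3 : k < 3 := not_le.1 fun k3 => h8 g (by rw [hg, hk]; exact pow_dvd_pow 2 k3)
        have h3 : ¬ orderOf g0 ∣ 2 := fun d => hn (by
          rcases (Nat.dvd_prime Nat.prime_two).1 d with e | e
          · rw [← hg0, e, s1]
          · rw [← hg0, e, s2 g0 e])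
        have h4 := _root_.orderOf_dvd_natCard g0
        rw [hk] at h4 ⊢
        interval_cases k
        · exact absurd (h4.trans (by norm_num)) h3
        · exact absurd h4 h3
        · rfl
      · rcases r with _ | r
        · exact Or.inr (Or.inl ⟨topEquiv.symm.trans e⟩)
        · refine absurd ?_ (h8 (topEquiv (e.symm (QuaternionGroup.a 1))))
          rw [MulEquiv.orderOf_eq, MulEquiv.orderOf_eq, QuaternionGroup.orderOf_a_one]
          exact ⟨2 ^ r, by ring⟩
    obtain ⟨p, hp, hp2, hpG⟩ : ∃ p, p.Prime ∧ p ≠ 2 ∧ p ∣ Nat.card G := by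
      by_contra k
      push Not at k
      exact h2 (IsPGroup.of_card (Nat.eq_prime_pow_of_unique_prime_dvd Nat.card_pos.ne'
        fun {d} hd hd' => by_contra fun e => k d hd e hd'))
    haveI := Fact.mk hp
    have od : ∀ q, q.Prime → q ≠ 2 → q ∣ Nat.card G → s q = n ∧ q ∣ n + 1 := fun q hq hq2 hd => by
      haveI := Fact.mk hq
      obtain ⟨x, hx⟩ := exists_prime_orderOf_dvd_card' q hd
      have h1 := (big x (by have := hq.two_le; omega)).1
      have h3 := F q hq.ne_zero hd
      rw [hq.sum_divisors] at h3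
      change q ∣ s q + s 1 at h3
      rw [hx] at h1
      exact ⟨h1, by rwa [h1, s1] at h3⟩
    have p3 : 3 ≤ p := by have := hp.two_le; omega
    obtain ⟨sp, pn⟩ := od p hp hp2 hpG
    have nd : ∀ k, ¬ p ∣ k * (n + 1) + 1 ∧ ¬ p ∣ k * (n + 1) + 2 := fun k =>
      ⟨fun d => by have := Nat.le_of_dvd one_pos ((Nat.dvd_add_right (pn.mul_left k)).1 d); omega,
        fun d => by have := Nat.le_of_dvd two_pos ((Nat.dvd_add_right (pn.mul_left k)).1 d); omega⟩
    have nd' : ∀ a k, p ∣ a + k * n → a + 1 = k ∨ a + 2 = k → False := fun a k d e => by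
      have h1 : p ∣ k - a := by
        have := (Nat.dvd_sub (pn.mul_left k) d)
        rwa [show k * (n + 1) - (a + k * n) = k - a by rw [mul_add]; omega] at this
      have := Nat.le_of_dvd (by omega) h1; omega
    have pp : ∀ g : G, ¬ p * p ∣ orderOf g := fun g hg => by
      obtain ⟨x, hx⟩ := dv g _ hg
      have h1 := (big x (by rw [hx]; nlinarith)).2
      rw [hx, ← sq, Nat.totient_prime_pow_succ hp, pow_one] at h1
      have := Nat.le_of_dvd one_pos ((Nat.dvd_add_right ((dvd_mul_right _ _).trans h1)).1 pn); omega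
    have oq : ∀ q, q.Prime → q ∣ Nat.card G → q = 2 ∨ q = p := fun q hq hd => by
      by_contra k
      push Not at k
      have c : q.Coprime p := (Nat.coprime_primes hq hp).2 k.2
      have h1 := (dvd_mul_left p q).trans (F (q * p) (mul_ne_zero hq.ne_zero hp.ne_zero) (c.mul_dvd_of_dvd_of_dvd hd hpG))
      rw [sum_divisors_mul_prime hp ((Nat.Prime.coprime_iff_not_dvd hp).1 c.symm), hq.sum_divisors, hq.sum_divisors,
        one_mul] at h1
      change p ∣ s q + s 1 + (s (q * p) + s p) at h1
      rw [(od q hq k.1 hd).1, s1, sp] at h1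
      rcases big' (q * p) (by nlinarith [hq.two_le]) with e | e <;> rw [e] at h1
      · exact nd' 1 2 (by convert h1 using 1; ring) (by simp)
      · exact nd' 1 3 (by convert h1 using 1; ring) (by simp)
    obtain ⟨P⟩ := (Sylow.nonempty : Nonempty (Sylow p G))
    have hP : ∀ x ∈ (P : Subgroup G), x ^ p = 1 := fun x hx => by
      obtain ⟨k, hk⟩ := IsPGroup.iff_orderOf.1 P.isPGroup' ⟨x, hx⟩
      rw [orderOf_mk] at hk
      have : k ≤ 1 := not_lt.1 fun k2 => pp x (by rw [hk, ← sq]; exact pow_dvd_pow p k2)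
      rw [← orderOf_dvd_iff_pow_eq_one, hk]
      simpa using pow_dvd_pow p this
    have eP : Monoid.exponent (P : Subgroup G) = p := by
      have : Nontrivial (P : Subgroup G) := (nontrivial_iff_ne_bot _).2 (P.ne_bot_of_dvd_card hpG)
      exact (Monoid.exponent_eq_prime_iff hp).2 fun x hx => orderOf_eq_prime (Subtype.ext (hP x x.2)) hx
    have iP : ∀ {d}, d.Prime → d ∣ (P : Subgroup G).index → d = 2 := fun hd k =>
      (oq _ hd (k.trans (index_dvd_card _))).resolve_right fun e => P.not_dvd_index (e ▸ k)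
    by_cases hG : 2 ∣ Nat.card G
    swap
    · have h1 : (P : Subgroup G) = ⊤ := index_eq_one.1 (Nat.eq_one_iff_not_exists_prime_dvd.2 fun d hd k =>
        hG (iP hd k ▸ k.trans (index_dvd_card _)))
      refine Or.inl ⟨p, hp, fun g => ⟨1, by simpa using hP g (h1 ▸ mem_top g)⟩,
        p3.trans (Nat.le_of_dvd Nat.card_pos hpG), ?_⟩
      rw [← eP, h1]; exact (Monoid.exponent_eq_of_mulEquiv topEquiv).symm
    haveI : Fact (Nat.Prime 2) := ⟨Nat.prime_two⟩
    obtain ⟨z, hz⟩ := exists_prime_orderOf_dvd_card' 2 hG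
    have zc : ∀ g, Commute z g := fun g => by
      have := uq (g * z * g⁻¹) z ((MulEquiv.orderOf_eq (MulAut.conj g) z).trans hz) hz
      exact (mul_inv_eq_iff_eq_mul.1 this).symm
    have c2 : (2 : ℕ).Coprime p := (Nat.coprime_primes Nat.prime_two hp).2 hp2.symm
    have h4 : ¬ 4 ∣ Nat.card G := fun d => by
      have e4 : ∀ f : ℕ → ℕ, ∑ d ∈ Nat.divisors 4, f d = f 1 + (f 2 + f 4) := fun f => by
        rw [show Nat.divisors 4 = {1, 2, 4} by decide, Finset.sum_insert (by decide), Finset.sum_pair (by decide)]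
      have k1 := F 4 (by norm_num) d
      have c4 : (4 : ℕ).Coprime p := c2.pow_left 2
      have k2 := (dvd_mul_left p 4).trans (F (4 * p) (by omega) (c4.mul_dvd_of_dvd_of_dvd d hpG))
      rw [sum_divisors_mul_prime hp ((Nat.Prime.coprime_iff_not_dvd hp).1 c4.symm), e4, e4, one_mul] at k2
      rw [e4] at k1
      change 4 ∣ s 1 + (s 2 + s 4) at k1
      change p ∣ s 1 + (s 2 + s 4) + (s p + (s (2 * p) + s (4 * p))) at k2
      obtain ⟨x, hx⟩ := exists_prime_orderOf_dvd_card' p hpG
      have k3 : orderOf (z * x) = 2 * p := by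
        rw [(zc x).orderOf_mul_eq_mul_orderOf_of_coprime (by rw [hz, hx]; exact c2), hz, hx]
      have k4 := (big (z * x) (by omega)).1
      rw [k3] at k4
      rw [s1, s2 z hz] at k1 k2
      have k5 : s 4 = n := (big' 4 (by norm_num)).resolve_left fun e => by rw [e] at k1; omega
      rw [k5, sp, k4] at k2
      rcases big' (4 * p) (by omega) with e | e <;> rw [e] at k2
      · exact nd' 2 3 (by convert k2 using 1; ring) (by simp)
      · exact nd' 2 4 (by convert k2 using 1; ring) (by simp)
    have zP : z ∉ (P : Subgroup G) := fun k => by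
      have := orderOf_dvd_of_pow_eq_one (hP z k)
      rw [hz] at this
      exact hp2 ((Nat.prime_dvd_prime_iff_eq Nat.prime_two hp).1 this).symm
    have i2 : (P : Subgroup G).index = 2 := by
      have k1 := Nat.eq_prime_pow_of_unique_prime_dvd (index_ne_zero_of_finite (H := (P : Subgroup G))) iP
      generalize (Nat.primeFactorsList _).length = t at k1
      have : t ≠ 0 := fun e => zP (by rw [(index_eq_one (H := (P : Subgroup G))).1 (by rw [k1, e, pow_zero])]; trivial)
      have : t < 2 := not_le.1 fun e => h4 (((pow_dvd_pow 2 e).trans k1.symm.dvd).trans (index_dvd_card _))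
      rw [k1, show t = 1 by omega, pow_one]
    have e1 : Multiplicative (ZMod 2) ≃* zpowers z := mulEquivOfPrimeCardEq (p := 2) (by simp) (by rw [Nat.card_zpowers, hz])
    let f := MonoidHom.noncommCoprod (zpowers z).subtype (P : Subgroup G).subtype fun a b => by
      obtain ⟨_, k, rfl⟩ := a; exact (zc b).zpow_left k
    have hf : Function.Bijective f := (Nat.bijective_iff_surjective_and_card f).2 ⟨by
      rw [← MonoidHom.range_eq_top, MonoidHom.noncommCoprod_range, range_subtype, range_subtype]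
      exact (isCoatom_of_index_prime i2).2 _ (right_lt_sup.2 fun k => zP (k (mem_zpowers z))), by
      rw [Nat.card_prod, Nat.card_zpowers, hz, ← i2, index_mul_card]⟩
    have e2 := Shrink.mulEquiv.{0} (α := (P : Subgroup G))
    refine Or.inr (Or.inr (Or.inr ⟨p, Shrink.{0} (P : Subgroup G), inferInstance, Finite.of_equiv _ e2.symm.toEquiv, hp, hp2,
      P.isPGroup'.of_equiv e2.symm, by rw [Monoid.exponent_eq_of_mulEquiv e2, eP],
      ⟨((MulEquiv.prodCongr e1 e2).trans (MulEquiv.ofBijective f hf)).symm⟩⟩))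

end Cfsg.Agent.S3995
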