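import Cfsg.Statements.S3997
import Cfsg.Agent.H1.PG2
import Cfsg.Agent.H1.Ten1

set_option autoImplicit false
open Cfsg

namespace Cfsg.Agent.S3997

/-- Let G and H be finite groups with the same order type: for every m they have the same number of elements of order m. If G is nilpotent then so is H. -/
theorem result {G H : Type*} [Group G] [Finite G] [Group H] [Finite H] (hT : (∀ m : ℕ, Nat.card {g : G // orderOf g = m} = Nat.card {h : H // orderOf h = m})) (hG : Group.IsNilpotent G) :
    Group.IsNilpotent H := by
  open Subgroup CfsgH1 CfsgFT CfsgH2 in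
  obtain ⟨e, he⟩ := exists_equiv_orderOf hT
  refine (Group.isNilpotent_of_finite_tfae.out 3 0 rfl rfl).1 fun p hp P => ?_
  obtain ⟨Q⟩ : Nonempty (Sylow p G) := inferInstance
  have hc : Nat.card (Q : Subgroup G) = Nat.card (P : Subgroup H) := by
    rw [Q.card_eq_multiplicity, P.card_eq_multiplicity, Nat.card_congr e]
  let E : Set H := {x | ∃ k, orderOf x = p ^ k}
  have h3 : ((P : Subgroup H) : Set H) = E := Set.eq_of_subset_of_ncard_le
    (fun x hx => exists_orderOf_eq_pow P.isPGroup' hx) ((Set.ncard_le_ncard_of_injOn
      (t := ((Q : Subgroup G) : Set G)) e.symm (fun x hx => (IsSylowIn.of_sylow_top Q).le_of_le_normalizer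
        (isPGroup_zpowers_of_orderOf (by rw [← he, e.apply_symm_apply]; exact hx.choose_spec)) le_top le_normalizer_of_normal
        (mem_zpowers _)) e.symm.injective.injOn).trans hc.le)
  refine ⟨fun x hx g => ?_⟩
  rw [← SetLike.mem_coe, h3] at hx ⊢
  exact hx.imp fun k hk => (orderOf_conj' g x).trans hk

end Cfsg.Agent.S3997
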