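import Cfsg.Statements.S3998
import Cfsg.Agent.H1.Ten1

set_option autoImplicit false
open Cfsg

namespace Cfsg.Agent.S3998

/-- Let G and H be finite groups with the same order type (for every m the same number of elements of order m). If G is supersolvable then H is solvable. -/
theorem result {G H : Type*} [Group G] [Finite G] [Group H] [Finite H] (hT : (∀ m : ℕ, Nat.card {g : G // orderOf g = m} = Nat.card {h : H // orderOf h = m})) (hG : Cfsg.IsSupersolvable G) :
    Group.IsSolvable H := by
  open Subgroup CfsgH1 CfsgFT CfsgH2 in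
  obtain ⟨e, he⟩ := exists_equiv_orderOf hT
  have h := ss_iff.1 hG
  have h0 : NH ∅ (⊤ : Subgroup H) := NH.of (Hall.bot fun q _ _ => by simp) (le_norm_bot _)
  obtain ⟨h1, h2⟩ := solv_tower (π := ∅) e he (n := 0)
    (fun m _ => by rw [Set.empty_union]; exact h.nh m) h0 (by
      rw [Opi_eq_bot fun q _ _ => by simp]; infer_instance)
  rw [Opi_eq_self fun q _ _ => by simp] at h2
  exact isSolvable_of_equiv topEquiv

end Cfsg.Agent.S3998
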