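import Cfsg.Statements.S4001
import Cfsg.Agent.H1.CN

set_option autoImplicit false
open Cfsg

namespace Cfsg.Agent.S4001

open Subgroup CfsgH1 CfsgFT CfsgH2 in
theorem fpf {G : Type*} [Group G] [Finite G] {K R : Subgroup G} (hn : R ≤ N(K)) (h : ∀ x ∈ R, x ≠ 1 → K ⊓ C1(x) = ⊥) {y : G}
    (hy : y ∈ K ⊔ R) (h1 : y ≠ 1) (c : (orderOf y).Coprime (Nat.card K)) : K ⊓ C1(y) = ⊥ := by
  obtain ⟨n, hn', l⟩ := sz_le hn (disjoint_of_coprime_natCard (coprime_of_fpf hn h).symm) (zpowers_le.2 hy)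
    (by rwa [Nat.card_zpowers]) (.inl (isSolvable_zpowers y))
  have := h _ (l (conj_mem_conj_smul (mem_zpowers y))) (by simpa using h1)
  rwa [← cj_centralizer_singleton, ← cj_eq_of_mem hn', ← cj_inf, cj_eq_bot_iff] at this

theorem ord {G : Type*} [Group G] [Finite G] {a : G} {m : ℕ} (h : m ∣ orderOf a) : ∃ b : G, orderOf b = m :=
  ⟨_, orderOf_pow_orderOf_div (orderOf_pos a).ne' h⟩

/-- Let G be a 2-Frobenius group: it has normal subgroups H < K with K a Frobenius group with kernel H and G/H a Frobenius group with kernel K/H. Then G is solvable; K/H has odd order coprime to the order of H and to the order of G/K (it is the image of an odd-order Hall subgroup); G/K is cyclic; and the prime graph of G has exactly two connected components, both complete: for distinct primes p, q dividing the order of G, G has an element of order pq exactly when p and q either both divide the order of K/H or both do not. -/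
theorem result {G : Type*} [Group G] [Finite G] (H K : Subgroup G) [H.Normal] [K.Normal] (hlt : H < K)
    (hK : ∃ C : Subgroup ↥K, Cfsg.IsFrobeniusComplement C ∧ Cfsg.frobeniusKernel C = (H.subgroupOf K : Set ↥K))
    (hGH : ∃ C : Subgroup (G ⧸ H), Cfsg.IsFrobeniusComplement C ∧ Cfsg.frobeniusKernel C = (K.map (QuotientGroup.mk' H) : Set (G ⧸ H))) :
    Group.IsSolvable G ∧ Odd (Nat.card (↥K ⧸ H.subgroupOf K)) ∧
      Nat.Coprime (Nat.card (↥K ⧸ H.subgroupOf K)) (Nat.card ↥H * Nat.card (G ⧸ K)) ∧ IsCyclic (G ⧸ K) ∧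
      ∀ p q : ℕ, p.Prime → q.Prime → p ≠ q → p ∣ Nat.card G → q ∣ Nat.card G →
        ((∃ g : G, orderOf g = p * q) ↔ (p ∣ Nat.card (↥K ⧸ H.subgroupOf K) ↔ q ∣ Nat.card (↥K ⧸ H.subgroupOf K))) := by
  open Subgroup CfsgH1 CfsgFT CfsgH2 in
  have nn : ∀ {X : Type _} [Group X] (A Y : Subgroup X) [Y.Normal], A ≤ N(Y) := fun A Y _ => le_top.trans (normalizer_eq_top Y).ge
  have nn' : ∀ (A Y : Subgroup G) [Y.Normal], A ≤ N(Y) := fun A Y _ => le_top.trans (normalizer_eq_top Y).ge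
  obtain ⟨B, hB, e1⟩ := hK
  obtain ⟨D, hD, e2⟩ := hGH
  obtain ⟨H', a1, -, a2, -, a3, a4, a5⟩ := frob_data_in hB
  obtain rfl : H = H' := SetLike.coe_injective (by
    rw [a1, e1]; exact (congrArg _ (map_subgroupOf_eq_of_le hlt.le)).symm)
  have b0 : B.map K.subtype ≠ ⊥ := fun e => hlt.ne (by rw [← a3, e, sup_bot_eq])
  generalize B.map K.subtype = B at *
  obtain ⟨L, c1, _, c2, c3, c4⟩ := frob_data hD
  set f := QuotientGroup.mk' H
  have sf : Function.Surjective f := QuotientGroup.mk'_surjective H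
  have kf : f.ker = H := QuotientGroup.ker_mk' H
  have eL : K.map f = L := SetLike.coe_injective (e2.symm.trans c1.symm)
  have d0 : D ≠ ⊥ := hD.1
  have cB := coprime_of_fpf (nn' B H) a5
  have cD := coprime_of_fpf (nn D L) c4
  have dj : Disjoint B f.ker := by rw [kf]; exact disjoint_of_coprime_natCard cB
  have mB : B.map f = L := by rw [← eL, ← a3, Subgroup.map_sup, (Subgroup.map_eq_bot_iff H).2 kf.ge, bot_sup_eq]
  have k1 : Nat.card L = Nat.card B := mB ▸ card_map_of_disjoint f dj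
  have k2 : Nat.card (K ⧸ H.subgroupOf K) = Nat.card L := eL ▸ (card_map_mk' H K).symm
  have k3 : Nat.card (G ⧸ K) = Nat.card D := by
    rw [← c2.symm.index_eq_card, ← eL, ← index_comap_of_surjective _ sf, comap_map_eq_self (kf.le.trans hlt.le)]; rfl
  have k4 : Nat.card G = Nat.card H * (Nat.card L * Nat.card D) := by
    rw [c2.card_mul_card, ← H.card_mul_index]; rfl
  let e : B ≃* L := MulEquiv.ofBijective ((f.comp B.subtype).codRestrict L fun x => mB ▸ mem_map_of_mem f x.2)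
    ((Nat.bijective_iff_surjective_and_card _).2 ⟨fun ⟨y, hy⟩ => by
      obtain ⟨x, hx, rfl⟩ := mB.ge hy; exact ⟨⟨x, hx⟩, rfl⟩, k1.symm⟩)
  have fL : FC L := (fc_of_norm a2 (nn' _ _) a5).equiv e.symm
  obtain ⟨⟨d, hd⟩, d1⟩ := ne_bot_iff_exists_ne_one.1 d0
  replace d1 : d ≠ 1 := fun k => d1 (Subtype.ext k)
  have oL : Odd (Nat.card L) := Nat.not_even_iff_odd.1 fun h => by
    obtain ⟨z, hz, z2⟩ := exists_orderOf_eq_prime Nat.prime_two h.two_dvd
    have := fL.invol (s := ⟨_, ‹L.Normal›.conj_mem z hz d⟩) (t := ⟨z, hz⟩) (by rw [← orderOf_coe, orderOf_conj', z2])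
      (by rw [← orderOf_coe, z2])
    exact ne_one_of_orderOf_two z2 ((c4 d hd d1).le ⟨hz, mem_cent1.2 (mul_inv_eq_iff_eq_mul.1 (congrArg Subtype.val this))⟩)
  haveI := nilpotent_of_fpf' (nn D L) d0 c4
  have cL : IsCyclic L := fL.nil.resolve_right fun ⟨_, Q, _, _, _, _, n, ⟨g⟩⟩ => by
    have := oL.of_dvd_nat (card_subgroup_dvd_card Q)
    rw [Nat.card_congr g.toEquiv, Nat.card_eq_fintype_card, QuaternionGroup.card] at this
    exact absurd (Nat.odd_mul.1 this).1 (by decide)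
  have cyD : IsCyclic D := by
    have : D ≤ C(D) := cent_of_comm_eq_bot (eq_bot_iff.2 fun x hx => by_contra fun n => c3 (eq_bot_iff.2
      ((le_inf le_rfl (le_cent1_iff.2 (CfsgFT.der_le_cent_of_cyclic cL (nn D L) hx))).trans (c4 x (der_le D hx) n).le)))
    exact topEquiv.isCyclic.1 ((fc_of_norm c3 (nn D L) c4).cyc (A := ⊤) fun a _ => mem_cent.2 fun b _ =>
      Subtype.ext (mem_cent.1 (this a.2) b b.2))
  have cQ : IsCyclic (G ⧸ K) := isCyclic_of_surjective ((QuotientGroup.map H K (MonoidHom.id G) hlt.le).comp D.subtype) fun y => by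
    obtain ⟨y, rfl⟩ := QuotientGroup.mk_surjective y
    obtain ⟨u, hu, v, hv, e⟩ := (mem_sup_of_normalizer (nn D L)).1 (c2.sup_eq_top.ge (mem_top (f y)))
    obtain ⟨u, hu', rfl⟩ := eL.ge hu
    obtain rfl := eq_inv_mul_of_mul_eq e
    refine ⟨⟨_, hv⟩, ?_⟩
    exact QuotientGroup.eq.2 (by simpa using ‹K.Normal›.conj_mem u hu' y⁻¹)
  have sG : Group.IsSolvable G := isSolvable_of_normal_of_quotient K (a3 ▸ isSolvable_sup_of_le_normalizer (nn' B H) inferInstance
    (haveI := e.isCyclic.2 cL; isSolvable_of_isMulCommutative)) isSolvable_of_isMulCommutative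
  rw [k2, k3]
  refine ⟨sG, oL, Nat.Coprime.mul_right (k1 ▸ cB) cD.symm, cQ, ?_⟩
  have A : ∀ p q : ℕ, p.Prime → q.Prime → p ∣ Nat.card L → ¬ q ∣ Nat.card L → ∀ g : G, orderOf g ≠ p * q := fun p q hp hq a b g o => by
    have xo : orderOf (g ^ q) = p := by rw [orderOf_pow_of_dvd hq.ne_zero (o ▸ dvd_mul_left _ _), o, Nat.mul_div_cancel _ hq.pos]
    have yo : orderOf (g ^ p) = q := by rw [orderOf_pow_of_dvd hp.ne_zero (o ▸ dvd_mul_right _ _), o, Nat.mul_div_cancel_left _ hp.pos]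
    have c : Commute (g ^ p) (g ^ q) := (Commute.refl g).pow_pow _ _
    have xH : (orderOf (g ^ q)).Coprime (Nat.card H) := xo ▸ cB.coprime_dvd_left (k1 ▸ a)
    have x1 : g ^ q ≠ 1 := fun k => hp.ne_one (by rw [← xo, k, orderOf_one])
    have xL : f (g ^ q) ∈ L := mem_of_coprime_orderOf_index (by
      rw [c2.symm.index_eq_card]; exact (cD.symm.coprime_dvd_left a).coprime_dvd_left (xo ▸ orderOf_map_dvd f _))
    have yH : g ^ p ∈ H := kf.le (by_contra fun n => x1 (orderOf_eq_one_iff.1 (xH.eq_one_of_dvd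
      (H.orderOf_dvd_natCard (kf.le ((fpf (nn D L) c4 (c2.sup_eq_top.ge trivial) n (((hq.coprime_iff_not_dvd.2 b)).coprime_dvd_left
        (yo ▸ orderOf_map_dvd f _))).le ⟨xL, mem_cent1.2 (c.map f).eq⟩))))))
    exact hq.ne_one (by rw [← yo, orderOf_eq_one_iff]; exact (fpf (nn' B H) a5 (a3.ge ((comap_map_eq_self
      (kf.le.trans hlt.le)).le (eL.ge xL))) x1 xH).le ⟨yH, mem_cent1'.2 c.eq⟩)
  have M : ∀ p q : ℕ, p.Prime → q.Prime → p ≠ q → p ∣ Nat.card H → q ∣ Nat.card D → ∃ g : G, orderOf g = p * q := fun p q hp hq n a b => by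
    haveI := Fact.mk hp
    have nH : H ⊓ N(B) = ⊥ := by
      obtain ⟨⟨u, hu⟩, u1⟩ := ne_bot_iff_exists_ne_one.1 b0
      exact eq_bot_iff.2 ((le_inf inf_le_left ((norm_inf_le_cent (nn' B H) (inf_eq_bot_of_coprime' cB.symm)).trans
        (cent_le_cent1 hu))).trans (a5 u hu fun k => u1 (Subtype.ext k)).le)
    have lB : B ≤ K := le_sup_right.trans a3.le
    have fr := (Hall.of_coprime lB (by rw [← a3, relIndex_sup_norm' (nn' _ _)]; exact cB.coprime_dvd_right (relIndex_dvd_card _ _))).frattini_sup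
      inferInstance le_top (nn' _ _)
    rw [top_inf_eq, ← a3, sup_assoc, sup_eq_right.2 le_normalizer] at fr
    have k5 := card_sup_of_disjoint (nn' N(B) H) (disjoint_iff.2 nH)
    rw [fr, card_top, k4] at k5
    obtain ⟨y, hy, yo⟩ := exists_orderOf_eq_prime hq ((b.mul_left _).trans (Nat.eq_of_mul_eq_mul_left Nat.card_pos k5).dvd)
    have V0 : Opi {p} H ≠ ⊥ := fun k => (sylow_Opi_of_nilpotent a4).eq_bot_iff.1 k a
    have nV : ∀ X : Subgroup G, X ≤ N(Opi {p} H) := fun X => le_normalizer_Opi_of _ (nn' _ _)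
    have y1 : y ≠ 1 := fun k => hq.ne_one (by rw [← yo, k, orderOf_one])
    have := inf_cent_ne_bot_of_frob inferInstance V0 (nV B) (nV (zpowers y)) (zpowers_le.2 hy) (by simpa using y1)
      (cB.coprime_dvd_right (card_dvd_of_le (Opi_le _ _))) (fun u hu u1 => eq_bot_iff.2 fun v hv => dj.eq_bot.le ⟨hv.1,
        (fpf (nn D L) c4 (y := f u) (c2.sup_eq_top.ge trivial) (fun k => u1 (nH.le ⟨kf.le k, zpowers_le.2 hy hu⟩))
          ((cD.coprime_dvd_left b).coprime_dvd_left ((orderOf_map_dvd f u).trans (yo ▸ orderOf_dvd_of_mem_zpowers hu)))).le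
            ⟨mB ▸ mem_map_of_mem f hv.1, mem_cent1.2 (by rw [← map_mul, mem_cent1.1 hv.2, map_mul])⟩⟩) (by
        obtain ⟨⟨u, hu⟩, u1⟩ := ne_bot_iff_exists_ne_one.1 b0
        exact eq_bot_iff.2 ((inf_le_inf (Opi_le _ _) (cent_le_cent1 hu)).trans (a5 u hu fun k => u1 (Subtype.ext k)).le))
    obtain ⟨x, hx, xo⟩ := exists_orderOf_eq_prime hp (dvd_card_of_isPGroup (isPGroup_Opi H).to_inf_left this)
    exact ⟨x * y, by rw [(show Commute x y from (mem_cent.1 hx.2 y (mem_zpowers y)).symm).orderOf_mul_eq_mul_orderOf_of_coprime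
      (by rw [xo, yo]; exact (Nat.coprime_primes hp hq).2 n), xo, yo]⟩
  intro p q hp hq n dp dq
  have cp := (Nat.coprime_primes hp hq).2 n
  refine ⟨fun ⟨g, o⟩ => ⟨fun a => by_contra fun b => A p q hp hq a b g o,
    fun a => by_contra fun b => A q p hq hp a b g (o.trans (mul_comm _ _))⟩, fun h => ?_⟩
  by_cases a : p ∣ Nat.card L
  · obtain ⟨g, hg⟩ := (e.isCyclic.2 cL).exists_generator
    exact ord (a := (g : G)) (by rw [orderOf_coe, orderOf_eq_card_of_forall_mem_zpowers hg, ← k1]; exact cp.mul_dvd_of_dvd_of_dvd a (h.1 a))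
  have s : ∀ r : ℕ, r.Prime → r ∣ Nat.card G → ¬ r ∣ Nat.card L → r ∣ Nat.card H ∨ r ∣ Nat.card D := fun r hr a b =>
    (hr.dvd_mul.1 (k4 ▸ a)).imp_right fun k => (hr.dvd_mul.1 k).resolve_left b
  rcases s p hp dp a with a' | a' <;> rcases s q hq dq (mt h.2 a) with b' | b'
  · obtain ⟨x, hx, xo⟩ := exists_orderOf_eq_prime hp a'
    obtain ⟨y, hy, yo⟩ := exists_orderOf_eq_prime hq b'
    have c : (orderOf x).Coprime (orderOf y) := by rwa [xo, yo]
    exact ⟨x * y, by rw [(show Commute x y from (mem_cent.1 (commute_of_nilpotent a4 (zpowers_le.2 hx) (zpowers_le.2 hy)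
      (by simpa using c) (mem_zpowers x)) y (mem_zpowers y)).symm).orderOf_mul_eq_mul_orderOf_of_coprime c, xo, yo]⟩
  · exact M p q hp hq n a' b'
  · exact mul_comm p q ▸ M q p hq hp n.symm b' a'
  · obtain ⟨g, hg⟩ := cyD.exists_generator
    obtain ⟨x, e⟩ := sf g
    refine ord (a := x) (Dvd.dvd.trans ?_ (orderOf_map_dvd f x))
    rw [e, orderOf_coe, orderOf_eq_card_of_forall_mem_zpowers hg]; exact cp.mul_dvd_of_dvd_of_dvd a' b'

end Cfsg.Agent.S4001
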