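import Cfsg.Statements.S4002
import Cfsg.Agent.S3634

set_option autoImplicit false
open Cfsg

namespace Cfsg.Agent.S4002

open Subgroup CfsgH1
universe u
theorem mn {G : Type*} [Group G] [Finite G] [Group.IsSolvable G] {q : ℕ} (hq : q.Prime) (h : q ∣ Nat.card G) :
    ∃ (N : Subgroup G) (_ : N.Normal) (t : ℕ), Nat.card (G ⧸ N) < Nat.card G ∧ t ∣ Nat.card N ∧
      ∀ s : ℕ, s.Prime → s ≠ t → s ∣ Nat.card G → s ∣ Nat.card (G ⧸ N) := by
  have : Nontrivial G := Finite.one_lt_card_iff_nontrivial.1 (hq.one_lt.trans_le (Nat.le_of_dvd Nat.card_pos h))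
  obtain ⟨N, t, h0, h1, h2, -, -, h3, -⟩ := exists_minNormal_elementary (⊤ : Subgroup G) inferInstance top_ne_bot
  have := Fact.mk h0
  have c := N.card_eq_card_quotient_mul_card_subgroup
  refine ⟨N, h1, t, c ▸ (Nat.lt_mul_iff_one_lt_right Nat.card_pos).2 ((one_lt_card_iff_ne_bot N).2 h2),
    h3.card_eq_or_dvd.resolve_left (card_eq_one.not.2 h2), fun s a b d => ((Nat.Prime.dvd_mul a).1 (c ▸ d)).resolve_right fun e => b ?_⟩
  obtain ⟨k, hk⟩ := h3.exists_card_eq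
  exact (Nat.prime_dvd_prime_iff_eq a h0).1 (a.dvd_of_dvd_pow (hk ▸ e))
theorem two {q r : ℕ} (hq : q.Prime) (hr : r.Prime) (h : q ≠ r) (n : ℕ) : ∀ (G : Type u) [Group G] [Finite G] [Group.IsSolvable G], Nat.card G = n →
    q ∣ Nat.card G → r ∣ Nat.card G → ∃ M : Subgroup G, M.Normal ∧ (q ∣ Nat.card M ∧ r ∣ M.index ∨ r ∣ Nat.card M ∧ q ∣ M.index) := by
  induction n using Nat.strong_induction_on with | _ n ih
  rintro G _ _ _ rfl a b
  obtain ⟨N, _, t, h1, h2, h3⟩ := mn hq a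
  by_cases c : q = t
  · exact ⟨N, ‹_›, .inl ⟨c ▸ h2, h3 r hr (c ▸ h.symm) b⟩⟩
  by_cases c' : r = t
  · exact ⟨N, ‹_›, .inr ⟨c' ▸ h2, h3 q hq c a⟩⟩
  obtain ⟨M, _, k⟩ := ih _ h1 (G ⧸ N) rfl (h3 q hq c a) (h3 r hr c' b)
  have d : Nat.card M ∣ Nat.card (M.comap (QuotientGroup.mk' N)) := by
    conv_lhs => rw [← map_comap_eq_self_of_surjective (QuotientGroup.mk'_surjective N) M]
    exact card_map_dvd _ _
  exact ⟨M.comap (QuotientGroup.mk' N), inferInstance, by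
    rw [index_comap_of_surjective _ (QuotientGroup.mk'_surjective N)]; exact k.imp (.imp_left (·.trans d)) (.imp_left (·.trans d))⟩
theorem aux {G : Type*} [Group G] [Finite G] [Group.IsSolvable G] {p q r : ℕ} (hp : p.Prime) (hq : q.Prime) (hr : r.Prime) (hpq : p ≠ q) (hpr : p ≠ r)
    (hqr : q ≠ r) (N : Subgroup G) [N.Normal] (a : p ∣ Nat.card N) (b : q ∣ Nat.card (G ⧸ N)) (c : r ∣ Nat.card (G ⧸ N)) :
    (∃ x : G, orderOf x = p * q) ∨ (∃ x : G, orderOf x = p * r) ∨ (∃ x : G, orderOf x = q * r) := by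
  obtain ⟨M, _, k⟩ := two hq hr hqr _ (G ⧸ N) rfl b c
  have le : N ≤ M.comap (QuotientGroup.mk' N) := QuotientGroup.le_comap_mk' N M
  have e1 : Nat.card (M.comap (QuotientGroup.mk' N)) / Nat.card N = Nat.card M := by
    exact Nat.div_eq_of_eq_mul_right Nat.card_pos (QuotientGroup.card_preimage_mk N M)
  have e2 : Nat.card G / Nat.card (M.comap (QuotientGroup.mk' N)) = M.index := by
    rw [← (M.comap (QuotientGroup.mk' N)).card_mul_index, Nat.mul_div_cancel_left _ Nat.card_pos,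
      index_comap_of_surjective _ (QuotientGroup.mk'_surjective N)]
  rcases k with k | k
  · exact S3634.result N _ le p q r hp hq hr hpq hpr hqr a (e1 ▸ k.1) (e2 ▸ k.2)
  · have := S3634.result N _ le p r q hp hr hq hpr hpq hqr.symm a (e1 ▸ k.1) (e2 ▸ k.2)
    rw [mul_comm r] at this; tauto
theorem three {p q r : ℕ} (hp : p.Prime) (hq : q.Prime) (hr : r.Prime) (hpq : p ≠ q) (hpr : p ≠ r) (hqr : q ≠ r) (n : ℕ) :
    ∀ (G : Type u) [Group G] [Finite G] [Group.IsSolvable G], Nat.card G = n → p ∣ Nat.card G → q ∣ Nat.card G → r ∣ Nat.card G →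
    (∃ x : G, orderOf x = p * q) ∨ (∃ x : G, orderOf x = p * r) ∨ (∃ x : G, orderOf x = q * r) := by
  induction n using Nat.strong_induction_on with | _ n ih
  rintro G _ _ _ rfl a b c
  obtain ⟨N, _, t, h1, h2, h3⟩ := mn hp a
  by_cases c1 : p = t
  · exact aux hp hq hr hpq hpr hqr N (c1 ▸ h2) (h3 q hq (c1 ▸ hpq.symm) b) (h3 r hr (c1 ▸ hpr.symm) c)
  by_cases c2 : q = t
  · have := aux hq hp hr hpq.symm hqr hpr N (c2 ▸ h2) (h3 p hp c1 a) (h3 r hr (c2 ▸ hqr.symm) c)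
    rw [mul_comm q p] at this; tauto
  by_cases c3 : r = t
  · have := aux hr hp hq hpr.symm hqr.symm hpq N (c3 ▸ h2) (h3 p hp c1 a) (h3 q hq c2 b)
    rw [mul_comm r p, mul_comm r q] at this; tauto
  have L : ∀ m, (∃ x : G ⧸ N, orderOf x = m) → ∃ x : G, orderOf x = m := by
    rintro _ ⟨x, rfl⟩
    obtain ⟨x, rfl⟩ := QuotientGroup.mk'_surjective N x
    exact ⟨_, orderOf_pow_orderOf_div (orderOf_pos x).ne' (orderOf_map_dvd _ x)⟩
  exact (ih _ h1 (G ⧸ N) rfl (h3 p hp c1 a) (h3 q hq c2 b) (h3 r hr c3 c)).imp (L _) (.imp (L _) (L _))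

/-- If the set of element orders of a finite group G is {1, 2, …, n} with n ≥ 7, then G is not solvable. -/
theorem result {G : Type*} [Group G] [Finite G] (n : ℕ) (hn : 7 ≤ n) (h : Set.range (orderOf : G → ℕ) = {k : ℕ | 1 ≤ k ∧ k ≤ n}) : ¬ Group.IsSolvable G := by
  intro s
  obtain ⟨p, q, r, hp, hq, hr, h1, h2, h3, h4⟩ : ∃ p q r : ℕ, p.Prime ∧ q.Prime ∧ r.Prime ∧ p < q ∧ q < r ∧ r ≤ n ∧ n < p * q := by
    by_cases c : n < 15
    · exact ⟨3, 5, 7, by norm_num, by norm_num, by norm_num, by omega, by omega, hn, c⟩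
    by_cases c' : n < 35
    · exact ⟨5, 7, 11, by norm_num, by norm_num, by norm_num, by omega, by omega, by omega, c'⟩
    obtain ⟨p, hp, p1, p2⟩ := Nat.exists_prime_lt_and_le_two_mul (n / 8) (by omega)
    obtain ⟨q, hq, q1, q2⟩ := Nat.exists_prime_lt_and_le_two_mul (2 * (n / 8)) (by omega)
    obtain ⟨r, hr, r1, r2⟩ := Nat.exists_prime_lt_and_le_two_mul (4 * (n / 8)) (by omega)
    exact ⟨p, q, r, hp, hq, hr, by omega, by omega, by omega, lt_of_lt_of_le (by omega) (Nat.mul_le_mul_left p (show 8 ≤ q by omega))⟩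
  have d : ∀ t : ℕ, t.Prime → t ≤ n → t ∣ Nat.card G := fun t a b => by
    obtain ⟨x, rfl⟩ := h.ge ⟨a.pos, b⟩
    exact orderOf_dvd_natCard x
  have := Nat.mul_le_mul_left p h2.le
  have := Nat.mul_le_mul_right r h1.le
  rcases three hp hq hr h1.ne (h1.trans h2).ne h2.ne _ G rfl (d p hp (by omega)) (d q hq (by omega)) (d r hr h3) with e | e | e <;>
    have := (h.le e).2 <;> omega

end Cfsg.Agent.S4002
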