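import Cfsg.Statements.S4003
import Cfsg.Agent.H9.OrdCnt

set_option autoImplicit false
open Cfsg

namespace Cfsg.Agent.S4003

/-- Let G be a finite group, p an odd prime dividing the order of G whose Sylow p-subgroups are not cyclic, and n = p^s·m with s > 1 and m coprime to p. Then the number of elements of G of order n is a multiple of p^s. -/
theorem result {G : Type*} [Group G] [Finite G] (p : ℕ) [Fact p.Prime] (hodd : p ≠ 2) (hpG : p ∣ Nat.card G)
    (P : Sylow p G) (hP : ¬ IsCyclic ↥(P : Subgroup G)) (s m : ℕ) (hs : 1 < s) (hm : Nat.Coprime p m) :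
    p ^ s ∣ Nat.card {g : G // orderOf g = p ^ s * m} := by
  open Subgroup CfsgH1 CfsgH2 CfsgFT CfsgH9 in
    have hp : p.Prime := Fact.out
    obtain ⟨s, rfl⟩ : ∃ t, s = t + 2 := ⟨s - 2, by omega⟩
    have co : (p ^ (s + 2)).Coprime m := hm.pow_left _
    have m0 : 0 < m := Nat.pos_of_ne_zero fun e => hp.one_lt.ne' (by simpa [e] using hm)
    obtain ⟨e, e0, e1⟩ := Nat.chineseRemainder co 0 1
    set q := p ^ (s + 2) with hq
    have q0 : 0 < q := pow_pos hp.pos _
    have parts : ∀ x : G, orderOf x = q * m → orderOf (x * (x ^ e)⁻¹) = q ∧ orderOf (x ^ e) = m := by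
      intro x hx
      have c : Commute (x * (x ^ e)⁻¹) (x ^ e) := ((Commute.refl x).pow_right e).mul_left (Commute.refl _).inv_left
      have h1 : orderOf (x ^ e) ∣ m := orderOf_dvd_of_pow_eq_one (by
        rw [← pow_mul, ← orderOf_dvd_iff_pow_eq_one, hx]
        exact Nat.mul_dvd_mul_right ((Nat.modEq_zero_iff_dvd).1 e0) m)
      have h2 : orderOf (x * (x ^ e)⁻¹) ∣ q := orderOf_dvd_of_pow_eq_one (by
        rw [((Commute.refl x).pow_right e).inv_right.mul_pow, inv_pow, ← pow_mul, mul_inv_eq_one, pow_eq_pow_iff_modEq, hx,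
          mul_comm e]
        simpa using (Nat.ModEq.mul_left' q e1).symm)
      have h3 := c.orderOf_mul_dvd_mul_orderOf
      rw [inv_mul_cancel_right, hx] at h3
      exact ⟨Nat.dvd_antisymm h2 (Nat.dvd_of_mul_dvd_mul_right m0 (h3.trans (Nat.mul_dvd_mul_left _ h1))),
        Nat.dvd_antisymm h1 (Nat.dvd_of_mul_dvd_mul_left q0 (h3.trans (Nat.mul_dvd_mul_right h2 _)))⟩
    refine dvd_card_of_fiber (fun x => ConjClasses.mk (x.1 ^ e)) fun ⟨a, ha⟩ => ?_
    rw [card_subtype_subtype _ fun x => ConjClasses.mk (x ^ e) = ConjClasses.mk (a ^ e)]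
    have hc := (parts a ha).2
    generalize a ^ e = c at hc ⊢
    have h1 : Nat.card {x // orderOf x = q * m ∧ ConjClasses.mk (x ^ e) = ConjClasses.mk c} =
        Nat.card {y // IsConj c y} * Nat.card {u : C1(c) // orderOf u = q} := by
      refine card_eq_mul_of_fiber (fun x : {x : G // orderOf x = q * m ∧ ConjClasses.mk (x ^ e) = ConjClasses.mk c} =>
        (⟨x.1 ^ e, (ConjClasses.mk_eq_mk_iff_isConj.1 x.2.2).symm⟩ :
        {y // IsConj c y})) fun ⟨y, hy⟩ => ?_
      obtain ⟨g, rfl⟩ := isConj_iff.1 hy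
      simp only [Subtype.mk.injEq]
      rw [card_subtype_subtype _ fun x => x ^ e = g * c * g⁻¹, ← nOrd_sub]
      refine (Nat.card_congr (((Equiv.mulRight c).trans (MulAut.conj g).toEquiv).subtypeEquiv fun u => ?_)).symm
      change _ ↔ (orderOf (g * (u * c) * g⁻¹) = _ ∧ ConjClasses.mk ((g * (u * c) * g⁻¹) ^ e) = _) ∧
        (g * (u * c) * g⁻¹) ^ e = _
      rw [conj_pow, mul_left_inj, mul_right_inj, show orderOf (g * (u * c) * g⁻¹) = orderOf (u * c) from
        MulEquiv.orderOf_eq (MulAut.conj g) _]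
      refine ⟨fun ⟨k1, k2⟩ => ?_, fun ⟨⟨k1, _⟩, k2⟩ => ⟨?_, ?_⟩⟩
      · have k3 : Commute u c := Commute.symm (mem_cent1.1 k1)
        have k4 : (u * c) ^ e = c := by
          rw [k3.mul_pow, orderOf_dvd_iff_pow_eq_one.1 (k2 ▸ (Nat.modEq_zero_iff_dvd).1 e0), one_mul]
          exact (pow_eq_pow_iff_modEq.2 (hc ▸ e1)).trans (pow_one c)
        rw [k4]
        exact ⟨⟨by rw [k3.orderOf_mul_eq_mul_orderOf_of_coprime (by rw [k2, hc]; exact co), k2, hc],
          ConjClasses.mk_eq_mk_iff_isConj.2 hy.symm⟩, rfl⟩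
      · have : Commute (u * c) c := by nth_rw 2 [← k2]; exact (Commute.refl _).pow_right e
        have k5 : Commute u c := by simpa using this.mul_left (Commute.refl c).inv_left
        exact mem_cent1.2 k5.symm
      · simpa [k2] using (parts _ k1).1
    rw [h1]
    obtain ⟨Q⟩ := (Sylow.nonempty : Nonempty (Sylow p C1(c)))
    by_cases hQ : IsCyclic Q
    · have h2 : p ∣ (C1(c)).index := by
        by_contra h2
        have h3 := (IsSylowIn.of_sylow_map Q).trans_of_not_dvd le_top (by rwa [relIndex_top_right])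
        obtain ⟨g, -, hg⟩ := h3.exists_cj_eq (IsSylowIn.of_sylow_top P)
        exact hP (hg ▸ (cjEquiv g _).isCyclic.1 (isCyclic_of_surjective _ ((C1(c)).subtype.subgroupMap_surjective _)))
      have h3 := totient_dvd_card (G := C1(c)) q
      rw [hq, Nat.totient_prime_pow_succ hp] at h3
      rw [card_cls_eq_index]
      exact (pow_succ' p (s + 1)).dvd.trans (Nat.mul_dvd_mul h2 ((dvd_mul_right _ _).trans h3))
    · exact (dvd_nOrd hodd Q hQ s).mul_left _

end Cfsg.Agent.S4003
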