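import Cfsg.Statements.S4005
import Cfsg.Agent.H3.Burnside
import Cfsg.Agent.H9.Beq
import Cfsg.Agent.H9.HH7

set_option autoImplicit false
open Cfsg

namespace Cfsg.Agent.S4005

/-- A finite group whose set of element orders is exactly {1, 2, 3} has either a normal elementary abelian 3-subgroup of index 2 or a normal elementary abelian 2-subgroup of index 3. -/
theorem result {G : Type*} [Group G] [Finite G] (h : Set.range (orderOf : G → ℕ) = {k : ℕ | 1 ≤ k ∧ k ≤ 3}) :
    (∃ N : Subgroup G, N.Normal ∧ Cfsg.IsElementaryAbelian 3 N ∧ N.index = 2) ∨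
      (∃ N : Subgroup G, N.Normal ∧ Cfsg.IsElementaryAbelian 2 N ∧ N.index = 3) := by
  open Subgroup CfsgH1 CfsgH2 CfsgH9 CfsgFT in
  have ho : ∀ g : G, orderOf g = 1 ∨ orderOf g = 2 ∨ orderOf g = 3 := fun g => by
    have := h.le ⟨g, rfl⟩
    simp only [Set.mem_setOf_eq] at this; omega
  obtain ⟨t, ht⟩ := h.ge (show 2 ∈ {k : ℕ | 1 ≤ k ∧ k ≤ 3} by simp)
  obtain ⟨s, hs⟩ := h.ge (show 3 ∈ {k : ℕ | 1 ≤ k ∧ k ≤ 3} by simp)
  haveI := Fact.mk Nat.prime_three
  have pr : ∀ r : ℕ, r.Prime → r ∣ Nat.card G → r = 2 ∨ r = 3 := fun r hr h => by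
    haveI := Fact.mk hr
    obtain ⟨g, e⟩ := exists_prime_orderOf_dvd_card' r h
    have := ho g
    have := hr.one_lt
    omega
  haveI : Group.IsSolvable G := by
    refine CfsgH3.isSolvable_of_card_dvd_pow_mul_pow (a := (Nat.card G).factorization 2) (b := (Nat.card G).factorization 3)
      Nat.prime_two Nat.prime_three ((Nat.dvd_iff_prime_pow_dvd_dvd _ _).2 fun r k hr hk => ?_)
    rcases k with _ | k
    · simp
    rcases pr r hr ((dvd_pow_self r k.succ_ne_zero).trans hk) with rfl | rfl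
    · exact (pow_dvd_pow _ ((hr.pow_dvd_iff_le_factorization Nat.card_pos.ne').1 hk)).mul_right _
    · exact (pow_dvd_pow _ ((hr.pow_dvd_iff_le_factorization Nat.card_pos.ne').1 hk)).mul_left _
  have ex : ∀ (p : ℕ) [Fact p.Prime] (P : Subgroup G), IsPGroup p P → ∀ x ∈ P, x ^ p = 1 := fun p hp P hP x hx => by
    obtain ⟨k, hk⟩ := IsPGroup.iff_orderOf.1 hP ⟨x, hx⟩
    rw [orderOf_mk] at hk
    rcases k with _ | k
    · rw [orderOf_eq_one_iff.1 hk, one_pow]
    have d : p ∣ orderOf x := hk ▸ dvd_pow_self p k.succ_ne_zero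
    rw [← orderOf_dvd_iff_pow_eq_one]
    rcases ho x with e | e | e <;> rw [e] at d ⊢
    exacts [one_dvd _, dvd_of_eq ((Nat.prime_dvd_prime_iff_eq hp.out Nat.prime_two).1 d).symm,
      dvd_of_eq ((Nat.prime_dvd_prime_iff_eq hp.out Nat.prime_three).1 d).symm]
  have nc : ∀ a b : G, orderOf a = 2 → orderOf b = 3 → a * b ≠ b * a := fun a b x y e => by
    have := Commute.orderOf_mul_eq_mul_orderOf_of_coprime e (by rw [x, y]; norm_num)
    have := ho (a * b)
    rw [x, y] at *; omega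
  have fp : ∀ (p q : ℕ) [Fact p.Prime] [Fact q.Prime], (∀ a b : G, orderOf a = p → orderOf b = q → a * b ≠ b * a) →
      ∀ K R : Subgroup G, IsPGroup p K → IsPGroup q R → ∀ a ∈ R, a ≠ 1 → K ⊓ centralizer {a} = ⊥ := fun p q _ _ H K R hK hR a ha a1 =>
    eq_bot_iff.2 fun x ⟨x1, x2⟩ => by
      by_contra e
      exact H x a (orderOf_eq_prime (ex p K hK x x1) e) (orderOf_eq_prime (ex q R hR a ha) a1) (mem_centralizer_singleton_iff.1 x2)
  have small : ∀ (p q : ℕ) [Fact p.Prime] [Fact q.Prime], (∀ a b : G, orderOf a = p → orderOf b = q → a * b ≠ b * a) →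
      pCore p G ≠ ⊥ → ∀ R : Subgroup G, IsPGroup q R → Nat.card R ≤ q := fun p q _ _ H h0 R hR => by
    rcases cyc_or_quat_of_fpf hR le_normalizer_of_normal h0 (fp p q H _ R (CfsgH1.isPGroup_pCore p G) hR) with k | ⟨rfl, n, ⟨k⟩⟩
    · exact card_le_of_cyclic_ea ⟨k.isMulCommutative, ex q R hR⟩ k
    · have := orderOf_dvd_of_pow_eq_one (ex 2 R hR _ (k.symm (.xa 0)).2)
      rw [orderOf_coe, MulEquiv.orderOf_eq, QuaternionGroup.orderOf_xa] at this
      omega
  have idx : ∀ (p q : ℕ) [Fact p.Prime] [Fact q.Prime], p ≠ q → (∀ r : ℕ, r.Prime → r ∣ Nat.card G → r = p ∨ r = q) → q ∣ Nat.card G →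
      (∀ R : Subgroup G, IsPGroup q R → Nat.card R ≤ q) → ∀ P : Sylow p G, (P : Subgroup G).index = q := fun p q hp hq pq H d sm P => by
    obtain ⟨Q⟩ : Nonempty (Sylow q G) := inferInstance
    have i : IsPGroup q (Multiplicative (ZMod (P : Subgroup G).index)) → True := fun _ => trivial
    obtain ⟨k, hk⟩ : ∃ k, (P : Subgroup G).index = q ^ k := ⟨_, Nat.eq_prime_pow_of_unique_prime_dvd index_ne_zero_of_finite
      fun {r} hr h => (H r hr (h.trans (index_dvd_card _))).resolve_left fun e => P.not_dvd_index (e ▸ h)⟩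
    have l := (Nat.pow_le_pow_iff_right hq.out.one_lt).1 ((Nat.le_of_dvd Nat.card_pos (Q.pow_dvd_card_of_pow_dvd_card
      (hk ▸ index_dvd_card _))).trans ((sm Q Q.isPGroup').trans_eq (pow_one q).symm))
    interval_cases k
    · obtain ⟨j, hj⟩ := P.isPGroup'.exists_card_eq
      rw [← (P : Subgroup G).card_mul_index, hk, hj, pow_zero, mul_one] at d
      exact (pq ((Nat.prime_dvd_prime_iff_eq hq.out hp.out).1 (hq.out.dvd_of_dvd_pow d)).symm).elim
    · rw [hk, pow_one]
  have d2 : 2 ∣ Nat.card G := ht ▸ orderOf_dvd_natCard t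
  have d3 : 3 ∣ Nat.card G := hs ▸ orderOf_dvd_natCard s
  by_cases h3 : pCore 3 G = ⊥
  · have h2 : pPrimeCore 2 G = ⊥ := le_bot_iff.1 ((le_pCore (.of_card (Nat.eq_prime_pow_of_unique_prime_dvd Nat.card_pos.ne' fun {r} hr h =>
      (pr r hr (h.trans (card_subgroup_dvd_card _))).resolve_left fun e => not_dvd_card_pPrimeCore 2 G (e.symm.dvd.trans h)))).trans h3.le)
    have c := IsPSolvable.centralizer_pCore_le isPSolvable_of_isSolvable h2
    obtain ⟨P⟩ : Nonempty (Sylow 2 G) := inferInstance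
    have e := ea_two_of_exp (ex 2 P P.isPGroup')
    have eq : (P : Subgroup G) = pCore 2 G := le_antisymm ((cent_mono (comm_iff.1 e.1) le_rfl (pCore_le_sylow P)).trans c) (pCore_le_sylow P)
    refine .inr ⟨P, eq ▸ inferInstance, e, idx 2 3 (by norm_num) pr d3 (small 2 3 nc fun k => ?_) P⟩
    rw [k] at c
    rw [mem_bot.1 (c (le_cent_bot ⊤ (mem_top t))), orderOf_one] at ht; omega
  · obtain ⟨P⟩ : Nonempty (Sylow 3 G) := inferInstance
    have i := idx 3 2 (by norm_num) (fun r a b => (pr r a b).symm) d2 (small 3 2 (fun a b x y e => nc b a y x e.symm) h3) P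
    haveI := normal_of_index_eq_two i
    refine .inl ⟨P, inferInstance, ⟨?_, ex 3 P P.isPGroup'⟩, i⟩
    have t2 : t * t = 1 := by rw [← pow_two, ← ht, pow_orderOf_eq_one]
    have inv : ∀ u ∈ (P : Subgroup G), t * u * t⁻¹ = u⁻¹ := fun u hu => by
      obtain ⟨v, -, rfl⟩ := fpf_surj (le_normalizer_of_normal (mem_top t)) (fp 3 2 (fun a b x y e => nc b a y x e.symm) P (zpowers t)
        P.isPGroup' (.of_card ((Nat.card_zpowers t).trans (ht.trans (pow_one 2).symm))) t (mem_zpowers t)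
        (fun e => by rw [e, orderOf_one] at ht; omega)) hu
      calc _ = t * v⁻¹ * t⁻¹ * (t * t) * v * (t * t)⁻¹ := by group
        _ = _ := by rw [t2]; group
    refine isMulCommutative_of_forall fun a ha b hb => inv_injective ?_
    rw [← inv _ (mul_mem ha hb), mul_inv_rev, ← inv a ha, ← inv b hb]; group

end Cfsg.Agent.S4005
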