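import Cfsg.Statements.S4010
import Cfsg.Agent.H9.DLen

set_option autoImplicit false
open Cfsg

namespace Cfsg.Agent.S4010

/-- Let F be a field, n ≥ 1, and P a finite p-group (p a prime) admitting an injective homomorphism into the general linear group of degree n over F. Then the derived length of P is at most ⌊log₂ n⌋ + 1: that term of the derived series of P is trivial. -/
theorem result {P : Type*} [Group P] [Finite P] (p : ℕ) [Fact p.Prime] (hP : IsPGroup p P) (F : Type*) [Field F] (n : ℕ) (hn : 1 ≤ n) (ρ : P →* Matrix.GeneralLinearGroup (Fin n) F) (hρ : Function.Injective ρ) : derivedSeries P (Nat.log 2 n + 1) = ⊥ := by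
  open Subgroup CfsgH9 in
    have hp : p.Prime := Fact.out
    rw [eq_bot_iff]
    intro g hg
    have h2 : n < 2 ^ (Nat.log 2 n + 1) := Nat.lt_pow_succ_log_self (by norm_num) n
    refine hρ (Units.ext ?_)
    rw [map_one]
    by_cases hF : (p : F) = 0
    · haveI : CharP F p := (CharP.charP_iff_prime_eq_zero hp).2 hF
      have h1 := unip_bound (F := F) hP _ (Fin n → F) ((Matrix.toLinAlgEquiv' : Matrix (Fin n) (Fin n) F ≃ₐ[F] _).toMonoidHom.comp
        ((Units.coeHom _).comp ρ)) (by simpa using h2.le) hg
      exact (Matrix.toLinAlgEquiv' : Matrix (Fin n) (Fin n) F ≃ₐ[F] _).injective (h1.trans (map_one _).symm)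
    · exact mat_bound hF hP ((Units.coeHom _).comp ρ) (by
        rw [Fintype.card_fin]; exact h2.trans_le (Nat.pow_le_pow_left hp.two_le _)) hg

end Cfsg.Agent.S4010
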