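import Cfsg.Statements.S4013
import Cfsg.Agent.H1.PG2

set_option autoImplicit false
open Cfsg

namespace Cfsg.Agent.S4013

/-- Let G be a finite p-group (p prime) and N < M normal subgroups of G such that for some g ∈ M ∖ N the conjugacy class of g is exactly M ∖ N. Then p = 2 and N has index 2 in M. -/
theorem result {G : Type*} [Group G] [Finite G] (p : ℕ) [Fact p.Prime] (hG : IsPGroup p G) (N M : Subgroup G) [N.Normal] [M.Normal] (hNM : N < M) (g : G) (hgM : g ∈ M) (hgN : g ∉ N) (hcl : {h : G | IsConj g h} = (M : Set G) \ (N : Set G)) : p = 2 ∧ N.relIndex M = 2 := by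
  open Subgroup CfsgH1 CfsgFT CfsgH2 in
  have pp : p.Prime := Fact.out
  have h1 : Nat.card {y // IsConj g y} = Nat.card {x : G // x ∈ M ∧ x ∉ N} :=
    Nat.card_congr (Equiv.subtypeEquivRight fun y => Set.ext_iff.1 hcl y)
  rw [card_cls_eq_index, card_sdiff hNM.le, ← CfsgH1.card_mul_relIndex hNM.le] at h1
  obtain ⟨a, ha⟩ := hG.index C1(g)
  obtain ⟨b, hb⟩ := (hG.to_subgroup M).index (N.subgroupOf M)
  replace hb : N.relIndex M = p ^ b := hb
  have b0 : b ≠ 0 := by
    rintro rfl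
    exact hNM.not_ge (relIndex_eq_one.1 hb)
  rw [← Nat.mul_sub_one, ha, hb] at h1
  obtain ⟨c, -, hc⟩ := (Nat.dvd_prime_pow pp).1 (Dvd.intro_left _ h1.symm)
  have h2 : p ^ b = p ^ c + 1 := by have := pow_pos pp.pos b; omega
  obtain rfl : c = 0 := by
    by_contra c0
    exact pp.one_lt.ne' (Nat.dvd_one.1 ((Nat.dvd_add_right (dvd_pow_self p c0)).1 (h2 ▸ dvd_pow_self p b0)))
  exact ⟨(Nat.prime_dvd_prime_iff_eq pp Nat.prime_two).1 (by simpa [h2] using dvd_pow_self p b0), hb.trans h2⟩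

end Cfsg.Agent.S4013
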