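import Cfsg.Statements.S4014
import Cfsg.Agent.H9.DLen2

set_option autoImplicit false
open Cfsg

namespace Cfsg.Agent.S4014

/-- Let p be a prime, n ≥ 1, and P a Sylow p-subgroup of the symmetric group on n letters. Then the derived length of P is exactly k = ⌊log_p n⌋ (the largest k with p^k ≤ n): the k-th derived subgroup of P is trivial and, when k ≥ 1, the (k−1)-st is not. -/
theorem result (p : ℕ) [Fact p.Prime] (n : ℕ) (hn : 1 ≤ n) (P : Sylow p (Equiv.Perm (Fin n))) : derivedSeries ↥(P : Subgroup (Equiv.Perm (Fin n))) (Nat.log p n) = ⊥ ∧ (1 ≤ Nat.log p n → derivedSeries ↥(P : Subgroup (Equiv.Perm (Fin n))) (Nat.log p n - 1) ≠ ⊥) := by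
  open Subgroup CfsgH9 in
    have hp : p.Prime := Fact.out
    refine ⟨?_, fun h => ?_⟩
    · rw [eq_bot_iff]
      intro g hg
      refine Subtype.ext (Equiv.ext fun x => ?_)
      refine ds_le_of_index (Nat.log p n) P P.isPGroup' (MulAction.stabilizer P x) ?_ hg
      rw [MulAction.index_stabilizer]
      refine lt_of_le_of_lt ?_ (Nat.lt_pow_succ_log_self hp.one_lt n)
      simpa using Set.ncard_le_card (MulAction.orbit P x)
    · have hH : IsPGroup p (Multiplicative (ZMod p)) := IsPGroup.of_card (n := 1) (by simp)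
      obtain ⟨W, _, h1, h2, f, hf⟩ := (Mono.fin (j := 0) hH (by simp) (Nat.log p n - 1) _ le_rfl).perm
      obtain ⟨e⟩ := Function.Embedding.nonempty_of_card_le (α := Fin (p ^ (Nat.log p n - 1)) × Multiplicative (ZMod p))
        (β := Fin n) (by
          simp only [Fintype.card_prod, Fintype.card_fin, Fintype.card_multiplicative, ZMod.card, ← pow_succ]
          rw [Nat.sub_add_cancel h]; exact Nat.pow_log_le_self p (by omega))
      rw [zero_add] at h2
      exact sylow_ds_ne_bot h1 ((Equiv.Perm.viaEmbeddingHom e).comp f)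
        ((Equiv.Perm.viaEmbeddingHom_injective e).comp hf) h2 P

end Cfsg.Agent.S4014
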