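import Cfsg.Statements.S4015
import Cfsg.Agent.H9.DLen2

set_option autoImplicit false
open Cfsg

namespace Cfsg.Agent.S4015

/-- Let p be an odd prime, F a finite field with q elements where p does not divide q, and e the multiplicative order of q modulo p. Let n ≥ e and write w = ⌊n/e⌋ and k = ⌊log_p w⌋. Then a Sylow p-subgroup of GL(n, F) has derived length exactly k + 1: its (k+1)-st derived subgroup is trivial and its k-th is not. -/
theorem result (p : ℕ) [Fact p.Prime] (hp : p ≠ 2) (F : Type*) [Field F] [Fintype F] (q : ℕ) (hq : Fintype.card F = q) (hpq : ¬ p ∣ q) (n : ℕ) (hn : orderOf (q : ZMod p) ≤ n) (P : Sylow p (Matrix.GeneralLinearGroup (Fin n) F)) : derivedSeries ↥(P : Subgroup (Matrix.GeneralLinearGroup (Fin n) F)) (Nat.log p (n / orderOf (q : ZMod p)) + 1) = ⊥ ∧ derivedSeries ↥(P : Subgroup (Matrix.GeneralLinearGroup (Fin n) F)) (Nat.log p (n / orderOf (q : ZMod p))) ≠ ⊥ := by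
  open Subgroup CfsgH9 in
    classical
    have hp' : p.Prime := Fact.out
    subst hq
    refine ⟨?_, ?_⟩
    · rw [eq_bot_iff]
      intro g hg
      have h1 := fin_bound (F := F) hpq P.isPGroup'
        ((Matrix.toLinAlgEquiv' : Matrix (Fin n) (Fin n) F ≃ₐ[F] _).toMonoidHom.comp
        ((Units.coeHom _).comp (P : Subgroup (GL (Fin n) F)).subtype)) (by
        rw [Module.finrank_fin_fun]
        exact Nat.lt_pow_succ_log_self hp'.one_lt _) hg
      exact Subtype.ext (Units.ext
        ((Matrix.toLinAlgEquiv' : Matrix (Fin n) (Fin n) F ≃ₐ[F] _).injective (h1.trans (map_one _).symm)))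
    · set e := orderOf (Fintype.card F : ZMod p) with he
      have h0 : (Fintype.card F : ZMod p) ≠ 0 := fun h => hpq ((ZMod.natCast_eq_zero_iff _ _).1 h)
      have e0 : 0 < e := (isOfFinOrder_iff_pow_eq_one.2 ⟨p - 1, by have := hp'.two_le; omega,
        ZMod.pow_card_sub_one_eq_one h0⟩).orderOf_pos
      have hd : p ∣ Nat.card (GL (Fin e) F) := by
        rw [Matrix.card_GL_field]
        refine Dvd.dvd.trans ?_ (Finset.dvd_prod_of_mem _ (Finset.mem_univ ⟨0, e0⟩))
        rw [← ZMod.natCast_eq_zero_iff, Nat.cast_sub (by simpa using Nat.one_le_pow _ _ Fintype.card_pos)]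
        simp [he]
      obtain ⟨x, hx⟩ := exists_prime_orderOf_dvd_card' p hd
      have hH : IsPGroup p (zpowers x) := IsPGroup.of_card (n := 1) (by rw [Nat.card_zpowers, hx, pow_one])
      have : Nontrivial (zpowers x) := Finite.one_lt_card_iff_nontrivial.1 (by rw [Nat.card_zpowers, hx]; exact hp'.one_lt)
      have : Nonempty (Fin e) := ⟨⟨0, e0⟩⟩
      obtain ⟨W, _, h1, h2, f, hf, -⟩ := (Mono.fin (j := 0) hH (by simp) (Nat.log p (n / e)) (n / e)
        (Nat.pow_log_le_self p (Nat.div_pos hn e0).ne')).mat ((Units.coeHom _).comp (zpowers x).subtype)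
        (Units.val_injective.comp Subtype.val_injective) 0 (by simp)
      rw [zero_add] at h2
      let ε : (Fin e × Fin (n / e)) ⊕ Fin (n % e) ≃ Fin n := Fintype.equivFinOfCardEq (by simp [Nat.div_add_mod])
      let φ : W →* Matrix (Fin n) (Fin n) F :=
        { toFun := fun w => Matrix.reindexAlgEquiv F F ε (Matrix.fromBlocks (f w) 0 0 1)
          map_one' := by simp
          map_mul' := fun a b => by rw [← map_mul, Matrix.fromBlocks_multiply]; simp }
      refine sylow_ds_ne_bot h1 φ.toHomUnits (fun a b h => hf ?_) h2 P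
      exact (Matrix.fromBlocks_inj.1 ((Matrix.reindexAlgEquiv F F ε).injective (congrArg Units.val h))).1

end Cfsg.Agent.S4015
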