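import Cfsg.Statements.S4024
import Cfsg.Agent.H9.Beq

set_option autoImplicit false
open Cfsg

namespace Cfsg.Agent.S4024

/-- Let p be an odd prime and G a finite group in which any two p-subgroups of the same order are conjugate, with Sylow p-subgroup P. If H is a normal p-solvable subgroup of G whose order is divisible by p, then P is abelian, and either P ≤ H or P is cyclic. -/
theorem result {G : Type*} [Group G] [Finite G]
    {p : ℕ} [Fact p.Prime] (hp : p ≠ 2) (hC : ∀ H K : Subgroup G, IsPGroup p H → IsPGroup p K → Nat.card H = Nat.card K →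
      ∃ g : G, K = H.map (MulAut.conj g).toMonoidHom) (P : Sylow p G)
    (H : Subgroup G) [H.Normal] (hsolv : Cfsg.IsPSolvable p H) (hdiv : p ∣ Nat.card H) :
    IsMulCommutative P ∧ ((P : Subgroup G) ≤ H ∨ IsCyclic P) := by
  open Subgroup CfsgH1 CfsgH2 CfsgH9 CfsgFT in
  have hp' : p.Prime := Fact.out
  have key : (∀ x ∈ (P : Subgroup G), x ^ p = 1) → ∀ (K : Subgroup G) [K.Normal], p ∣ Nat.card K → (P : Subgroup G) ≤ K := fun h K _ d x hx =>
    mem_of_conj_p (fun A B a b => hC A B (.of_card (a.trans (pow_one p).symm)) (.of_card (b.trans (pow_one p).symm)) (a.trans b.symm)) d (h x hx)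
  rcases sylow_beq hC P.isPGroup' with h | h | h | ⟨-, b, -, d⟩
  · exact ⟨inferInstance, .inr h⟩
  · exact ⟨h.1, .inl (key h.2 H hdiv)⟩
  · exact (hp h.1).elim
  refine (b ?_).elim
  let π := QuotientGroup.mk' (pPrimeCore p G)
  have hs := QuotientGroup.mk'_surjective (pPrimeCore p G)
  haveI : (H.map π).Normal := Normal.map ‹_› π hs
  have s1 : IsPSolvable p (H.map π) := IsPSolvable.of_surjective hsolv (π.subgroupMap H) (π.subgroupMap_surjective H)
  have s2 : pPrimeCore p (H.map π) = ⊥ := (map_eq_bot_iff_of_injective _ (H.map π).subtype_injective).1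
    (le_bot_iff.1 ((map_pPrimeCore_le_of_normal _).trans (pPrimeCore_quotient_pPrimeCore p G).le))
  have s3 : pCore p (G ⧸ pPrimeCore p G) ≠ ⊥ := fun e => by
    have e2 : pCore p (H.map π) = ⊥ := (map_eq_bot_iff_of_injective _ (H.map π).subtype_injective).1
      (le_bot_iff.1 ((map_pCore_le_of_normal _).trans e.le))
    have := IsPSolvable.centralizer_pCore_le s1 s2
    rw [e2] at this
    have h0 : H.map π = ⊥ := eq_bot_iff.2 fun x hx =>
      mem_bot.2 (congrArg Subtype.val (mem_bot.1 (this (le_cent_bot ⊤ (mem_top (⟨x, hx⟩ : H.map π))))))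
    exact not_dvd_card_pPrimeCore p G (hdiv.trans (card_dvd_of_le ((map_mk'_eq_bot_iff _).1 h0)))
  set U := pCore p (G ⧸ pPrimeCore p G)
  obtain ⟨z, z1, z2, z3, z4⟩ := exists_central_of_ne_bot (CfsgH1.isPGroup_pCore p _) le_rfl le_normalizer s3
  have := key d ((U ⊓ centralizer U).comap π) (by
    rw [card_comap_of_surjective π hs]
    exact Dvd.dvd.mul_right ((orderOf_eq_prime z3 z2).symm.dvd.trans (Subgroup.orderOf_dvd_natCard _ (mem_inf.2 ⟨z1, z4⟩))) _)
  refine isMulCommutative_iff_le_centralizer.2 (cent_of_comm_eq_bot (le_bot_iff.1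
    (disjoint_of_isPGroup_of_coprime P.isPGroup' (coprime_card_pPrimeCore p G) (der_le _) ?_)))
  rw [← map_mk'_eq_bot_iff, Subgroup.map_commutator]
  have l := map_le_iff_le_comap.2 this
  exact comm_eq_bot ((l.trans inf_le_right).trans (cent_anti (l.trans inf_le_left)))

end Cfsg.Agent.S4024
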