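import Cfsg.Statements.S4027
import Cfsg.Agent.H2.Mix
import Cfsg.Agent.S3861

set_option autoImplicit false
open Cfsg

namespace Cfsg.Agent.S4027
open Subgroup CfsgH2
open scoped commutatorElement

open CfsgFT CfsgH1

/-- Let G be a finite group in which every element x of odd order satisfies N_G(⟨x⟩) = C_G(x). Then the Sylow 2-subgroups of G are normal. -/
theorem result {G : Type*} [Group G] [Finite G]
    (hirr : ∀ x : G, (∀ r : ℕ, r.Prime → r ∣ orderOf x → r ≠ 2) →
      Subgroup.normalizer ((Subgroup.zpowers x : Subgroup G) : Set G) ≤ Subgroup.centralizer {x}) (P : Sylow 2 G) :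
    (P : Subgroup G).Normal := by
  refine (S3861.result P).1 fun x h1 ho hc => h1 (eq_one_of_inv_of_odd ho ?_)
  obtain ⟨c, hc⟩ := isConj_iff.1 hc
  have := hirr x (fun r _ d e => (Nat.not_even_iff_odd.2 ho) (even_iff_two_dvd.2 (e ▸ d)))
    (mem_norm_iff_cj.2 (by rw [cj_zpowers, hc, zpowers_inv]))
  rw [← hc, ← mem_cent1.1 this, mul_inv_cancel_right]


end Cfsg.Agent.S4027
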