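import Cfsg.Statements.S4028
import Cfsg.Agent.H1.PG2

set_option autoImplicit false
open Cfsg

namespace Cfsg.Agent.S4028

/-- Let G be a finite group with Sylow 2-subgroup P. Then N_G(⟨x⟩) = C_G(x) holds for every 2-element x of G if and only if N_P(⟨y⟩) = C_P(y) holds for every y ∈ P (computed inside P). -/
theorem result {G : Type*} [Group G] [Finite G] (P : Sylow 2 G) :
    (∀ x : G, (∀ r : ℕ, r.Prime → r ∣ orderOf x → r = 2) →
      Subgroup.normalizer ((Subgroup.zpowers x : Subgroup G) : Set G) ≤ Subgroup.centralizer {x}) ↔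
    (∀ y : ↥(P : Subgroup G), Subgroup.normalizer ((Subgroup.zpowers y : Subgroup ↥(P : Subgroup G)) : Set ↥(P : Subgroup G)) ≤
        Subgroup.centralizer {y}) := by
  open Subgroup CfsgH1 CfsgFT CfsgH2 in
  refine ⟨fun h y g hg => mem_C1.2 (Subtype.ext (mem_C1.1 (h y (fun r hr hd => ?_) ?_))), fun h x hx g hg => ?_⟩
  · obtain ⟨k, hk⟩ := exists_orderOf_eq_pow P.isPGroup' y.2
    exact (Nat.prime_dvd_prime_iff_eq hr Nat.prime_two).1 (hr.dvd_of_dvd_pow (hk ▸ hd))
  · refine cj_eq_iff_mem_normalizer.1 ?_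
    have := congrArg (map (P : Subgroup G).subtype) (cj_eq_iff_mem_normalizer.2 hg)
    rw [cj_zpowers, MonoidHom.map_zpowers, MonoidHom.map_zpowers] at this
    rw [cj_zpowers]; exact this
  · have hk := Nat.eq_prime_pow_of_unique_prime_dvd (orderOf_pos x).ne' fun {d} => hx d
    obtain ⟨u, v, hu, hv, ⟨j, hj⟩, h5, rfl⟩ := exists_p_part (p := 2) g
    replace hu := zpowers_le.2 hg hu
    replace hv := zpowers_le.2 hg hv
    refine mul_mem ?_ (mem_centralizer_singleton_iff'.2 (commute_of_odd_of_conj_mem hk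
      (Nat.coprime_two_right.1 h5) (CfsgH1.conj_mem_of_mem_normalizer hv (mem_zpowers x))))
    obtain ⟨c, hc⟩ := exists_cj_le_sylow P ((isPGroup_zpowers_of_orderOf hk).to_sup_of_normal_left'
      (isPGroup_zpowers_of_orderOf hj) (zpowers_le.2 hu))
    have := h ⟨_, hc (conj_mem_cj c (mem_sup_left (mem_zpowers x)))⟩
      (x := ⟨_, hc (conj_mem_cj c (mem_sup_right (mem_zpowers u)))⟩) (mem_normalizer_of_cj_le (by
        rw [cj_zpowers, zpowers_le, ← mem_map_iff_mem (P : Subgroup G).subtype_injective, MonoidHom.map_zpowers]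
        have := conj_mem_cj c (CfsgH1.conj_mem_of_mem_normalizer hu (mem_zpowers x))
        rw [cj_zpowers] at this
        simpa [mul_assoc] using this))
    exact mem_C1.2 ((MulAut.conj c).injective (by simpa [mul_assoc] using congrArg Subtype.val (mem_C1.1 this)))

end Cfsg.Agent.S4028
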