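import Cfsg.Statements.S4029
import Cfsg.Agent.S0160
import Cfsg.Agent.H3.Kernel
import Cfsg.Agent.H2.PGroup2

set_option autoImplicit false
open Cfsg

namespace Cfsg.Agent.S4029

/-- Let P be a finite 2-group in which N_P(⟨y⟩) = C_P(y) for every y ∈ P. If s is the number of conjugacy classes of involutions of P, then #(P/Φ(P)) ≤ s + 1; in particular the subgroup generated by the involutions of P has order at least #(P/Φ(P)). -/
theorem result {P : Type*} [Group P] [Finite P] (hP : IsPGroup 2 P)
    (hirr : ∀ y : P, Subgroup.normalizer ((Subgroup.zpowers y : Subgroup P) : Set P) ≤ Subgroup.centralizer {y}) :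
    Nat.card (P ⧸ frattini P) ≤ Nat.card {c : ConjClasses P // ∃ y : P, ConjClasses.mk y = c ∧ orderOf y = 2} + 1 ∧
    Nat.card (P ⧸ frattini P) ≤ Nat.card (Subgroup.closure {y : P | orderOf y = 2}) := by
  open Subgroup CfsgH2 CfsgH3 in
  have h1 : Nat.card (P ⧸ frattini P) ≤ Nat.card {c : ConjClasses P // ∃ y : P, ConjClasses.mk y = c ∧ orderOf y = 2} + 1 := by
    have sq : ∀ x : P ⧸ frattini P, x⁻¹ = x := fun x => QuotientGroup.induction_on x fun g => by
      rw [inv_eq_iff_mul_eq_one, ← QuotientGroup.mk_mul, QuotientGroup.eq_one_iff, ← pow_two]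
      exact pow_mem_frattini hP g
    have cm : ∀ x y : P ⧸ frattini P, x * y = y * x := fun x y => by rw [← sq (x * y), mul_inv_rev, sq, sq]
    calc Nat.card (P ⧸ frattini P) ≤ Nat.card {C : ConjClasses (P ⧸ frattini P) // ∀ g, ConjClasses.mk g = C → IsConj g g⁻¹} :=
          Nat.card_le_card_of_injective (fun x => ⟨ConjClasses.mk x, fun g _ => by rw [sq]⟩) fun x y e => by
            obtain ⟨c, hc⟩ := isConj_iff.1 (ConjClasses.mk_eq_mk_iff_isConj.1 (congrArg Subtype.val e))
            rw [← hc, cm c, mul_inv_cancel_right]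
      _ ≤ Nat.card {C : ConjClasses P // ∀ g, ConjClasses.mk g = C → IsConj g g⁻¹} := by
          rw [← Cfsg.Agent.S0160.result, ← Cfsg.Agent.S0160.result]
          refine Nat.card_le_card_of_injective (fun χ => ⟨⟨χ.1.1 ∘ QuotientGroup.mk' _, χ.1.2.comp_surjective _ (QuotientGroup.mk'_surjective _)⟩,
            fun g => χ.2 _⟩) fun χ ψ e => Subtype.ext (Subtype.ext ?_)
          exact (QuotientGroup.mk'_surjective _).injective_comp_right (congrArg (fun χ => χ.1.1) e)
      _ ≤ _ := by
          rw [← Finite.card_option]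
          classical
          refine Nat.card_le_card_of_injective (fun C => if h : ∃ y : P, ConjClasses.mk y = C.1 ∧ orderOf y = 2 then some ⟨C.1, h⟩ else none)
            fun C D e => ?_
          have k : ∀ C : {C : ConjClasses P // ∀ g, ConjClasses.mk g = C → IsConj g g⁻¹},
              (¬ ∃ y : P, ConjClasses.mk y = C.1 ∧ orderOf y = 2) → C.1 = ConjClasses.mk 1 := fun ⟨C, hC⟩ h => by
            obtain ⟨y, rfl⟩ := ConjClasses.mk_surjective C
            obtain ⟨c, hc⟩ := isConj_iff.1 (hC y rfl)
            have := mem_centralizer_singleton_iff.1 (hirr y (mem_normalizer_of_conj_mem (g := c) (by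
              rintro _ ⟨k, rfl⟩
              simp only [← conj_zpow, hc]
              exact zpow_mem (inv_mem (mem_zpowers y)) k)))
            rw [this, mul_inv_cancel_right, eq_inv_iff_mul_eq_one, ← pow_two] at hc
            by_contra e
            exact h ⟨y, rfl, orderOf_eq_prime hc fun k => e (congrArg ConjClasses.mk k)⟩
          simp only at e
          split_ifs at e with a b b
          · exact Subtype.ext (by simpa using e)
          · exact Subtype.ext ((k C a).trans (k D b).symm)
  refine ⟨h1, h1.trans ?_⟩
  rw [← Finite.card_option]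
  refine Nat.card_le_card_of_injective (fun c => c.elim 1 fun c => ⟨c.2.choose, subset_closure c.2.choose_spec.2⟩) ?_
  have k : ∀ c : {c : ConjClasses P // ∃ y : P, ConjClasses.mk y = c ∧ orderOf y = 2}, c.2.choose ≠ 1 := fun c e => by
    have := c.2.choose_spec.2
    rw [e, orderOf_one] at this; omega
  rintro (_ | c) (_ | d) e
  · rfl
  · exact (k d (congrArg Subtype.val e).symm).elim
  · exact (k c (congrArg Subtype.val e)).elim
  · have e : c.2.choose = d.2.choose := congrArg Subtype.val e
    exact congrArg _ (Subtype.ext (c.2.choose_spec.1.symm.trans (e ▸ d.2.choose_spec.1)))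

end Cfsg.Agent.S4029
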