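import Cfsg.Statements.S4032
import Cfsg.Agent.H1.PG2

set_option autoImplicit false
open Cfsg

namespace Cfsg.Agent.S4032

/-- Let π be a set of primes and G a finite group in which N_G(⟨x⟩) = C_G(x) for every π-element x. If N is a normal subgroup of G whose order is divisible by no prime of π, then G/N has the same property: N_{G/N}(⟨y⟩) = C_{G/N}(y) for every π-element y of G/N. -/
theorem result {G : Type*} [Group G] [Finite G] (π : Set ℕ)
    (hirr : ∀ x : G, (∀ r : ℕ, r.Prime → r ∣ orderOf x → r ∈ π) →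
      Subgroup.normalizer ((Subgroup.zpowers x : Subgroup G) : Set G) ≤ Subgroup.centralizer {x})
    (N : Subgroup G) [N.Normal] (hN : ∀ r : ℕ, r.Prime → r ∣ Nat.card N → r ∉ π) :
    ∀ y : G ⧸ N, (∀ r : ℕ, r.Prime → r ∣ orderOf y → r ∈ π) →
      Subgroup.normalizer ((Subgroup.zpowers y : Subgroup (G ⧸ N)) : Set (G ⧸ N)) ≤ Subgroup.centralizer {y} := by
  open Subgroup CfsgH1 CfsgFT CfsgH2 in
  intro y hy g hg
  obtain ⟨e, he⟩ := exists_pi_exp π (G × G ⧸ N)
  obtain ⟨x, rfl⟩ := QuotientGroup.mk'_surjective N y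
  have h1 : IsPiNum π (orderOf (x ^ e)) := fun q hq h => (he (x, 1)).1 q hq (by simpa [Prod.orderOf_mk] using h)
  have h2 : QuotientGroup.mk' N (x ^ e) = QuotientGroup.mk' N x := by
    simpa using (he (1, QuotientGroup.mk' N x)).2.1 fun q hq h => hy q hq (by simpa [Prod.orderOf_mk] using h)
  have h3 : (Nat.card (zpowers (x ^ e))).Coprime (Nat.card (QuotientGroup.mk' N).ker) := by
    rw [Nat.card_zpowers, QuotientGroup.ker_mk']; exact h1.coprime hN
  rw [← h2, ← MonoidHom.map_zpowers, normalizer_map_of_coprime _ (QuotientGroup.mk'_surjective N) h3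
    (.inl (isSolvable_zpowers _))] at hg
  obtain ⟨c, hc, rfl⟩ := hg
  rw [← h2, mem_C1, ← map_mul, ← map_mul, mem_C1.1 (hirr _ h1 hc)]

end Cfsg.Agent.S4032
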