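import Cfsg.Statements.S4034
import Cfsg.Agent.H1.Ten4

set_option autoImplicit false
open Cfsg

namespace Cfsg.Agent.S4034

/-- Let G be a finite group and p a prime. Every conjugacy class of p-regular elements of G (elements of order prime to p) has p-power size if and only if G has an abelian p-complement, i.e. an abelian subgroup of order prime to p and p-power index. -/
theorem result {G : Type*} [Group G] [Finite G] {p : ℕ} (hp : p.Prime) :
    (∀ x : G, (orderOf x).Coprime p → ∃ k : ℕ, (ConjClasses.mk x).carrier.ncard = p ^ k) ↔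
    (∃ H : Subgroup G, IsMulCommutative H ∧ ¬ p ∣ Nat.card H ∧ ∃ k : ℕ, H.index = p ^ k) := by
  open Subgroup CfsgH1 CfsgFT CfsgH2 in
  haveI : Fact p.Prime := ⟨hp⟩
  simp only [ncard_carrier_eq_index]
  constructor
  · intro h
    obtain ⟨B, h1, h2, h3, -⟩ := kaz_compl (G := G) (p := p) fun q hq hqp y ⟨j, hj⟩ =>
      h y (hj ▸ Nat.Coprime.pow_left _ ((Nat.coprime_primes hq hp).2 hqp))
    exact ⟨B, h1, h2, h3⟩
  · rintro ⟨H, h1, h2, k, hk⟩
    have key : ∀ (H : Subgroup G), IsMulCommutative H → ∀ k, H.index = p ^ k → ∀ x n : G,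
        n * x * n⁻¹ ∈ H → ∃ j, (centralizer {x}).index = p ^ j := by
      intro H h1 k hk x n hn
      have : (centralizer {x}).index ∣ p ^ k := by
        rw [← hk, ← index_comap_of_surjective H (f := (MulAut.conj n).toMonoidHom) (MulAut.conj n).surjective]
        refine index_dvd_of_le fun y hy => ?_
        have h3 : n * y * n⁻¹ ∈ H := hy
        have h4 := congrArg Subtype.val (h1.is_comm.comm (⟨_, h3⟩ : H) ⟨_, hn⟩)
        rw [mem_centralizer_singleton_iff]
        simpa using h4
      obtain ⟨j, -, hj⟩ := (Nat.dvd_prime_pow hp).1 this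
      exact ⟨j, hj⟩
    obtain ⟨B, b1, b2, ⟨m, b3⟩, b4, b5⟩ := kaz_compl (G := G) (p := p) fun q hq hqp y ⟨j, hj⟩ => by
      haveI : Fact q.Prime := ⟨hq⟩
      obtain ⟨Q⟩ : Nonempty (Sylow q H) := inferInstance
      have hQ : ¬ q ∣ ((Q : Subgroup H).map H.subtype).index := by
        rw [index_map_subtype, hk]
        intro h
        rcases (Nat.Prime.dvd_mul hq).1 h with h | h
        · exact Q.not_dvd_index h
        · exact hqp ((Nat.prime_dvd_prime_iff_eq hq hp).1 (hq.dvd_of_dvd_pow h))
      have hy : IsPGroup q (zpowers y) := IsPGroup.of_card (by rw [Nat.card_zpowers, hj])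
      obtain ⟨P, hP⟩ := hy.exists_le_sylow
      obtain ⟨g, hg⟩ := MulAction.exists_smul_eq G P ((Q.2.map H.subtype).toSylow hQ)
      refine key H h1 k hk y g ?_
      have h5 : g * y * g⁻¹ ∈ ((g • P : Sylow q G) : Subgroup G) :=
        smul_mem_pointwise_smul y (MulAut.conj g) _ (hP (mem_zpowers y))
      rw [hg] at h5
      exact map_subtype_le _ h5
    intro x hx
    have hxL : x ∈ Cfsg.pCore p G ⊔ B := by
      refine mem_of_coprime_orderOf_index (Nat.Coprime.coprime_dvd_right (index_dvd_of_le le_sup_right) ?_)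
      rw [b3]; exact hx.pow_right _
    haveI := (isPGroup_pCore p G).isNilpotent
    obtain ⟨n, -, hn⟩ := sz_le le_normalizer_of_normal b5 (zpowers_le.2 hxL)
      (IsPGroup.coprime_card_of_coprime (isPGroup_pCore p G) (by rwa [Nat.card_zpowers])).symm
      (Or.inr inferInstance)
    exact key B b1 m b3 x n (hn (smul_mem_pointwise_smul x (MulAut.conj n) _ (mem_zpowers x)))

end Cfsg.Agent.S4034
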