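import Cfsg.Statements.S4036
import Cfsg.Agent.H1.PG2

set_option autoImplicit false
open Cfsg

namespace Cfsg.Agent.S4036

/-- Let P be a finite abelian p-group and K a group of automorphisms of P (a subgroup of Aut P) whose order is divisible by p. If all non-identity elements of K have the same fixed-point subgroup on P, then K has no non-trivial normal subgroup of order prime to p. -/
theorem result {P : Type*} [CommGroup P] [Finite P] {p : ℕ}
    [Fact p.Prime] (hP : IsPGroup p P) (K : Subgroup (MulAut P)) (hK : p ∣ Nat.card K)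
    (hfix : ∀ x y : MulAut P, x ∈ K → y ∈ K → x ≠ 1 → y ≠ 1 → ∀ v : P, x v = v ↔ y v = v) :
    ∀ N : Subgroup ↥K, N.Normal → ¬ p ∣ Nat.card N → N = ⊥ := by
  open Subgroup CfsgH1 CfsgFT CfsgH2 in
  classical
  intro N hN h
  by_contra hne
  obtain ⟨x, hx, x1⟩ := (bot_or_exists_ne_one N).resolve_left hne
  obtain ⟨s, hs⟩ := exists_prime_orderOf_dvd_card' p hK
  have s1 : s ≠ 1 := fun e => (Fact.out : p.Prime).one_lt.ne (by rw [← hs, e, orderOf_one])
  haveI := Fintype.ofFinite N
  let W : Subgroup P :=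
    { carrier := {v | ∏ n : N, n.1.1 v = 1}
      one_mem' := by simp
      mul_mem' := fun {a b} ha hb => by
        simp only [Set.mem_setOf_eq, map_mul, Finset.prod_mul_distrib] at *; rw [ha, hb, one_mul]
      inv_mem' := fun {a} ha => by
        simp only [Set.mem_setOf_eq, map_inv, Finset.prod_inv_distrib] at *; rw [ha, inv_one] }
  let W' : SubMulAction (zpowers s) P := ⟨W, fun c v hv => by
    have := congrArg c.1.1 (show ∏ n : N, n.1.1 v = 1 from hv)
    rw [map_prod, map_one] at this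
    exact (Fintype.prod_equiv (MulAut.conjNormal c.1).toEquiv _ _ fun n => by
      simp [MulAut.smul_def, Subgroup.smul_def]).symm.trans this⟩
  obtain ⟨v, hv⟩ : ∃ v, x.1 v ≠ v := by
    by_contra! e
    exact x1 (Subtype.ext (MulEquiv.ext e))
  have h1 : x.1 v * v⁻¹ ∈ W := by
    show ∏ n : N, n.1.1 _ = 1
    simp only [map_mul, map_inv, Finset.prod_mul_distrib, Finset.prod_inv_distrib, mul_inv_eq_one]
    exact Fintype.prod_equiv (Equiv.mulRight (⟨x, hx⟩ : N)) _ _ fun n => rfl
  have h2 : p ∣ Nat.card W := (IsSylowIn.eq_bot_iff ⟨le_rfl, hP.to_subgroup W, by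
    simpa using (Fact.out : p.Prime).one_lt.ne'⟩).not_left.1 fun e => hv (mul_inv_eq_one.1 (mem_bot.1 (e.le h1)))
  obtain ⟨b, hb, b1⟩ := (isPGroup_zpowers_of_orderOf (hs.trans (pow_one p).symm)
    ).exists_fixed_point_of_prime_dvd_card_of_fixed_point W' h2 (a := ⟨1, W.one_mem⟩)
    fun c => Subtype.ext (map_one c.1.1)
  have h3 : s.1 b.1 = b.1 := congrArg Subtype.val (hb ⟨s, mem_zpowers s⟩)
  have h4 : ∏ n : N, n.1.1 b.1 = 1 := b.2
  rw [Finset.prod_congr rfl (g := fun _ => b.1) fun n _ => by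
    by_cases e : n.1.1 = 1
    · rw [e]; rfl
    · exact (hfix _ _ s.2 n.1.2 (fun e => s1 (Subtype.ext e)) e _).1 h3,
    Finset.prod_const, Finset.card_univ, ← Nat.card_eq_fintype_card] at h4
  exact b1 (Subtype.ext (eq_one_of_mem_pgroup_of_coprime (hP.to_subgroup ⊤) trivial
    (((Nat.Prime.coprime_iff_not_dvd Fact.out).2 h).symm.of_dvd_left (orderOf_dvd_of_pow_eq_one h4))).symm)

end Cfsg.Agent.S4036
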