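import Cfsg.Statements.S4039
import Cfsg.Agent.H2.CSize

set_option autoImplicit false
open Cfsg

namespace Cfsg.Agent.S4039
open Subgroup CfsgH2
open scoped commutatorElement

open CfsgFT CfsgH1

/-- A finite group possessing a maximal subgroup that is nilpotent of class at most 2 is solvable. -/
theorem result {G : Type*} [Group G] [Finite G]
    (M : Subgroup G) (hmax : IsCoatom M) (hnil : Group.IsNilpotent M) (hcl : Group.nilpotencyClass ↥M ≤ 2) :
    Group.IsSolvable G := by
  refine djt hmax hnil (cent_mono (A := ⁅M, M⁆) (B := M) ?_ (commutator_mono (Opi_le _ _) (Opi_le _ _)) (Opi_le _ _))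
  exact cent_of_comm_eq_bot (Subgroup.lowerCentralSeries_eq_bot_of_nilpotencyClass_le hcl)


end Cfsg.Agent.S4039
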