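import Cfsg.Statements.S4040
import Cfsg.Agent.H2.CSize

set_option autoImplicit false
open Cfsg

namespace Cfsg.Agent.S4040
open Subgroup CfsgH2
open scoped commutatorElement

open CfsgFT CfsgH1

/-- A finite group possessing a maximal subgroup that is nilpotent of odd order is solvable. -/
theorem result {G : Type*} [Group G] [Finite G]
    (M : Subgroup G) (hmax : IsCoatom M) (hnil : Group.IsNilpotent M) (hodd : Odd (Nat.card M)) :
    Group.IsSolvable G := by
  refine djt hmax hnil ?_
  rw [Opi_eq_bot (isPi_compl_singleton_iff.2 (Nat.two_dvd_ne_zero.2 (Nat.odd_iff.1 hodd)))]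
  simp


end Cfsg.Agent.S4040
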