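import Cfsg.Statements.S4043
import Cfsg.Agent.H1.Pron
import Cfsg.Agent.H1.SZ

set_option autoImplicit false
open Cfsg

namespace Cfsg.Agent.S4043

open Subgroup CfsgH1 CfsgFT CfsgH2 in
theorem aux {G : Type*} [Group G] [Finite G] {p : ℕ} [Fact p.Prime] {N A : Subgroup G} [N.Normal] (hN : IsPGroup p N)
    (hA : A.IsComplement' N) (hC : ∀ n : G, n ∈ N → (∀ a : G, a ∈ A → a * n * a⁻¹ = n) → n = 1) :
    N(resIn p A) = A ∧ N ⊔ resIn p A = N ⊔ resIn p ⊤ := by
  have nN : ∀ X : Subgroup G, X ≤ N(N) := fun X => le_top.trans (normalizer_eq_top N).ge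
  have d : N ⊓ A = ⊥ := hA.symm.disjoint.eq_bot
  have e : N ⊔ A = ⊤ := hA.symm.sup_eq_top
  constructor
  · obtain ⟨S, hS⟩ := IsSylowIn.exists_sylowIn (p := p) A
    have nK := le_normalizer_resIn (p := p) A
    have : N ⊓ N(resIn p A) = ⊥ := by
      by_contra h
      have l := norm_inf_le_cent (nN (resIn p A)) (eq_bot_iff.2 ((inf_le_inf_left _ (resIn_le A)).trans d.le))
      refine inf_cent_ne_bot_of_pgroup hS.pgroup (hN.to_inf_left (K := N(resIn p A)))
        (CfsgH1.le_normalizer_inf (nN _) (le_norm_norm (hS.le.trans nK))) h (eq_bot_iff.2 fun x hx => hC x hx.1.1 fun a ha => ?_)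
      rw [← hS.sup_resIn] at ha
      rw [mem_cent.1 ((cent_sup _ _).ge ⟨hx.2, l hx.1⟩) a ha, mul_inv_cancel_right]
    rw [← top_inf_eq N(resIn p A), ← e, inf_comm, inf_sup_right nK (nN _), inf_comm, this, bot_sup_eq]
  · refine comap_injective (f := MonoidHom.id G) Function.surjective_id ?_
    have k : ∀ X : Subgroup G, N ⊔ X = (X.map (QuotientGroup.mk' N)).comap (QuotientGroup.mk' N) := fun X => by
      rw [comap_map_eq, QuotientGroup.ker_mk', sup_comm]
    rw [k, k, map_resIn, map_resIn, ← e, Subgroup.map_sup, (Subgroup.map_eq_bot_iff N).2 (QuotientGroup.ker_mk' N).ge, bot_sup_eq]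

/-- Let G be a finite group that is the semidirect product of a normal p-subgroup N by a subgroup A, and also of N by a subgroup A₁, where p is a prime and A and A₁ both have normal p-complements. If C_N(A) = C_N(A₁) = 1, then A₁ is conjugate to A by an element of N. -/
theorem result {G : Type*} [Group G] [Finite G] {p : ℕ}
    [Fact p.Prime] (N : Subgroup G) [N.Normal] (hN : IsPGroup p N) (A A₁ : Subgroup G)
    (hA : A.IsComplement' N) (hA₁ : A₁.IsComplement' N)
    (hAp : Cfsg.HasNormalPComplement p A) (hA₁p : Cfsg.HasNormalPComplement p A₁)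
    (hC : ∀ n : G, n ∈ N → (∀ a : G, a ∈ A → a * n * a⁻¹ = n) → n = 1)
    (hC₁ : ∀ n : G, n ∈ N → (∀ a : G, a ∈ A₁ → a * n * a⁻¹ = n) → n = 1) :
    ∃ n : G, n ∈ N ∧ A₁ = A.map (MulAut.conj n).toMonoidHom := by
  open Subgroup CfsgH1 CfsgFT CfsgH2 in
  obtain ⟨h1, h2⟩ := aux hN hA hC
  obtain ⟨h3, h4⟩ := aux hN hA₁ hC₁
  have c : ∀ {X : Subgroup G}, HasNormalPComplement p X → (Nat.card (resIn p X)).Coprime (Nat.card N) := fun h =>
    (coprime_pgroup_p' hN (isPi_compl_singleton_iff.2 (hasNPC_subgroup_iff.1 h))).symm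
  have nN : ∀ X : Subgroup G, X ≤ N(N) := fun X => le_top.trans (normalizer_eq_top N).ge
  obtain ⟨n, hn, l⟩ := sz_le (nN (resIn p A₁)) (disjoint_of_coprime_natCard (c hA₁p).symm)
    (le_sup_right.trans (h2.trans h4.symm).le) (c hAp) (.inr (solvable_of_pgroup hN))
  have := CfsgH2.eq_of_le_of_card_le l (by
    have a := card_sup_of_disjoint (nN _) (disjoint_of_coprime_natCard (c hA₁p).symm)
    rw [h4, ← h2, card_sup_of_disjoint (nN _) (disjoint_of_coprime_natCard (c hAp).symm)] at a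
    rw [card_conj_smul, Nat.eq_of_mul_eq_mul_left Nat.card_pos a])
  exact ⟨n, hn, by rw [← h3, ← this, normalizer_conj_smul, h1]; rfl⟩

end Cfsg.Agent.S4043
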