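import Cfsg.Statements.S4056
import Cfsg.Agent.H1.PG2

set_option autoImplicit false
open Cfsg

namespace Cfsg.Agent.S4056

/-- In a finite 2-group of nilpotency class at most 2 and exponent dividing 4, the Frattini subgroup lies in the centre and is elementary abelian. -/
theorem result {P : Type*} [Group P] [Finite P] (hP : IsPGroup 2 P)
    (hcl : Group.nilpotencyClass P ≤ 2) (hexp : Monoid.exponent P ∣ 4) :
    frattini P ≤ Subgroup.center P ∧ Cfsg.IsElementaryAbelian 2 (frattini P) := by
  open Subgroup CfsgH1 CfsgFT CfsgH2 commutatorElement in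
  haveI := hP.isNilpotent
  have h4 : ∀ x : P, x ^ 4 = 1 := fun x => orderOf_dvd_iff_pow_eq_one.1 ((Monoid.order_dvd_exponent x).trans hexp)
  have h1 : commutator P ≤ center P := by
    have := commutator_eq_bot_iff_le_centralizer.1 (Subgroup.lowerCentralSeries_eq_bot_iff_nilpotencyClass_le.2 hcl)
    rwa [coe_top, centralizer_univ] at this
  have hc : ∀ x y z : P, Commute ⁅x, y⁆ z := fun x y z =>
    (mem_center_iff.1 (h1 (commutator_mem_commutator trivial trivial)) z).symm
  have h2 : ∀ x y : P, ⁅x, y⁆ ^ 2 = 1 := fun x y => by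
    have := mul_pow_class_two (x := y⁻¹) (y := x⁻¹) (c := ⁅x, y⁆) (by rw [commutatorElement_def]; group)
      (hc _ _ _) (hc _ _ _) 4
    rw [h4, h4, h4, one_mul, one_mul, show Nat.choose 4 2 = 4 + 2 by decide, pow_add, h4, one_mul] at this
    exact this.symm
  have h3 : frattini P ≤ omegaOfComm (center P) 2 := frattini_le_of (p := 2)
    (commutator_le.2 fun x _ y _ => ⟨h1 (commutator_mem_commutator trivial trivial), h2 x y⟩) fun x =>
    ⟨mem_center_iff.2 fun y => (commutatorElement_eq_one_iff_mul_comm.1 (by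
      rw [commutatorElement_pow_right' (hc _ _ _), h2])), by rw [← pow_mul, h4]⟩
  exact ⟨fun x hx => (h3 hx).1, ea_iff.2 ⟨fun a _ b hb => mem_center_iff.1 (h3 hb).1 a, fun a ha => (h3 ha).2⟩⟩

end Cfsg.Agent.S4056
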