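import Cfsg.Statements.S4065
import Cfsg.Agent.H1.IA3

set_option autoImplicit false
open Cfsg

namespace Cfsg.Agent.S4065

/-- Let F be a finite field with 2ⁿ elements, n ≥ 2. In PSL₂(F) the centralizer of every element meets each of its conjugates by elements outside its normalizer trivially. -/
theorem result (n : ℕ) (hn : 2 ≤ n)
    (x : Matrix.ProjectiveSpecialLinearGroup (Fin 2) (GaloisField 2 n)) :
    Cfsg.IsTISubset (Subgroup.centralizer ({x} : Set (Matrix.ProjectiveSpecialLinearGroup (Fin 2) (GaloisField 2 n))) :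
      Set (Matrix.ProjectiveSpecialLinearGroup (Fin 2) (GaloisField 2 n))) := by
  open Subgroup CfsgH1 CfsgFT CfsgH2 CfsgH1.L2 in
  haveI := Fintype.ofFinite (GaloisField 2 n)
  have ct : ∀ {a b c : Matrix.ProjectiveSpecialLinearGroup (Fin 2) (GaloisField 2 n)}, b ≠ 1 →
      Commute a b → Commute c b → Commute a c := fun {a b c} hb k1 k2 => by
    have := ct_two (pslEquiv.map_ne_one_iff.2 hb) (k1.map pslEquiv) (k2.map pslEquiv)
    exact pslEquiv.injective (by simpa using this.eq)
  intro g hg y hy k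
  by_contra h1
  by_cases hx : x = 1
  · exact hg (CfsgH1.mem_normalizer_of_conj_mem fun z _ => mem_c1.2 (by simp [hx]))
  refine hg (CfsgH1.mem_normalizer_of_conj_mem fun z hz => mem_c1.2 ?_)
  exact ct (cj_ne_one h1 g) (commute_cj (ct hx (mem_c1.1 hz) (mem_c1.1 hy)) g) (mem_c1.1 k).symm

end Cfsg.Agent.S4065
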