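import Cfsg.Statements.S4066
import Cfsg.Agent.H1.PG2

set_option autoImplicit false
open Cfsg

namespace Cfsg.Agent.S4066

/-- Let G be a finite group in which the centralizer of every element meets each of its conjugates by elements outside its normalizer trivially. Then any two distinct Sylow p-subgroups of G, for any prime p, intersect trivially. -/
theorem result {G : Type*} [Group G] [Finite G] (hTI : ∀ x : G, Cfsg.IsTISubset (Subgroup.centralizer ({x} : Set G) : Set G))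
    {p : ℕ} [Fact p.Prime] (P Q : Sylow p G) (hPQ : P ≠ Q) : (P : Subgroup G) ⊓ (Q : Subgroup G) = ⊥ := by
  open Subgroup CfsgH1 CfsgFT CfsgH2 in
  by_contra h
  obtain ⟨x, hx, x1⟩ := (bot_or_exists_ne_one _).resolve_left h
  obtain ⟨z, -, z1, -, hz⟩ := exists_central_of_ne_bot P.isPGroup' le_rfl le_normalizer
    fun e => h (eq_bot_iff.2 (inf_le_left.trans e.le))
  have key : ∀ {y w g : G}, w ≠ 1 → w ∈ C1(y) → g * w * g⁻¹ ∈ C1(y) → g ∈ N(C1(y)) := fun h1 h2 h3 =>
    by_contra fun e => h1 (hTI _ _ e _ h2 h3)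
  have hP : (P : Subgroup G) ≤ C1(z) := fun s hs => mem_C1.2 (hz s hs)
  obtain ⟨g, hg⟩ := exists_cj_sylow_eq Q P
  have hQ : (Q : Subgroup G) ≤ C1(z) := by
    rw [← cj_le_cj_iff g, hg, cj_eq_iff_mem_normalizer.2 (key x1 (hP hx.1) (hP (hg ▸ conj_mem_cj g hx.2)))]
    exact hP
  refine hPQ (Sylow.ext (Q.is_maximal' P.isPGroup' fun y hy => ?_))
  obtain ⟨k, hk⟩ := exists_orderOf_eq_pow Q.isPGroup' hy
  have h1 : z ∈ C1(y) := mem_C1.2 (mem_C1.1 (hQ hy)).symm
  have h2 : C1(z) ≤ N(C1(y)) := fun c hc => key z1 h1 (by rwa [mem_C1.1 hc, mul_inv_cancel_right])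
  have h3 : C(C1(y)) ≤ C1(y) := centralizer_le (Set.singleton_subset_iff.2 (mem_C1.2 rfl))
  haveI : IsMulCommutative C(C1(y)) := isMulCommutative_iff_le_centralizer.2 (centralizer_le h3)
  refine (IsSylowIn.of_sylow P hP).le_of_normalizer (Q := omegaOfComm C(C1(y)) (p ^ k)) (fun a => ⟨k, Subtype.ext a.2.2⟩)
    (fun a ha => mem_C1.2 (ha.1 z h1).symm) ((CfsgH1.le_normalizer_centralizer h2).trans
      (normalizer_le_normalizer_omegaOfComm _ _)) ⟨fun c hc => mem_C1.1 hc, hk ▸ pow_orderOf_eq_one y⟩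

end Cfsg.Agent.S4066
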