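import Cfsg.Statements.S4068
import Cfsg.Agent.H1.IA3

set_option autoImplicit false
open Cfsg

namespace Cfsg.Agent.S4068

/-- A finite non-solvable group on which its automorphism group has exactly four orbits is isomorphic to the alternating group of degree 5. -/
theorem result {G : Type*} [Group G] [Finite G] (hns : ¬ Group.IsSolvable G)
    (h4 : Nat.card (MulAction.orbitRel.Quotient (MulAut G) G) = 4) : Nonempty (G ≃* alternatingGroup (Fin 5)) := by
  open Subgroup CfsgH1 CfsgFT CfsgH2 CfsgH1.L2 in
  classical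
  refine alt5_of_prime_orders (fun x hx => ?_) hns
  let f : MulAction.orbitRel.Quotient (MulAut G) G → ℕ := Quotient.lift orderOf (by
    rintro a b ⟨φ, rfl⟩
    exact φ.orderOf_eq b)
  haveI := Fintype.ofFinite (MulAction.orbitRel.Quotient (MulAut G) G)
  have h1 : (Finset.univ.image f).card ≤ 4 := by
    rw [← h4, Nat.card_eq_fintype_card]; exact Finset.card_image_le
  have h2 : 3 ≤ (Nat.card G).primeFactors.card := by
    by_contra k
    obtain ⟨p, r, hp, hr, e⟩ : ∃ p r : ℕ, p.Prime ∧ r.Prime ∧ (Nat.card G).primeFactors ⊆ {p, r} := by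
      rcases (by omega : (Nat.card G).primeFactors.card = 0 ∨ (Nat.card G).primeFactors.card = 1 ∨
        (Nat.card G).primeFactors.card = 2) with k | k | k
      · exact ⟨2, 2, Nat.prime_two, Nat.prime_two, by simp [Finset.card_eq_zero.1 k]⟩
      · obtain ⟨p, e⟩ := Finset.card_eq_one.1 k
        have := Nat.prime_of_mem_primeFactors (e ▸ Finset.mem_singleton_self p)
        exact ⟨p, p, this, this, by simp [e]⟩
      · obtain ⟨p, r, -, e⟩ := Finset.card_eq_two.1 k
        exact ⟨p, r, Nat.prime_of_mem_primeFactors (n := Nat.card G) (by simp [e]),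
          Nat.prime_of_mem_primeFactors (n := Nat.card G) (by simp [e]), e.le⟩
    refine hns (CfsgH3.isSolvable_of_card_dvd_pow_mul_pow hp hr (a := Nat.card G) (b := Nat.card G) ?_)
    rw [← mul_pow]
    refine (Nat.dvd_pow_self_iff Nat.card_pos.ne' (mul_ne_zero hp.ne_zero hr.ne_zero)).2 ?_
    rw [Nat.primeFactors_mul hp.ne_zero hr.ne_zero, hp.primeFactors, hr.primeFactors]
    simpa using e
  have h3 : insert 1 (Nat.card G).primeFactors ⊆ Finset.univ.image f := by
    intro p hp
    rcases Finset.mem_insert.1 hp with rfl | hp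
    · exact Finset.mem_image.2 ⟨Quotient.mk _ 1, by simp, orderOf_one⟩
    · haveI := Fact.mk (Nat.prime_of_mem_primeFactors hp)
      obtain ⟨y, hy⟩ := exists_prime_orderOf_dvd_card' p (Nat.dvd_of_mem_primeFactors hp)
      exact Finset.mem_image.2 ⟨Quotient.mk _ y, by simp, hy⟩
  have h5 := Finset.eq_of_subset_of_card_le h3 (by
    rw [Finset.card_insert_of_notMem (by simp [Nat.not_prime_one])]; omega)
  have : orderOf x ∈ Finset.univ.image f := Finset.mem_image.2 ⟨Quotient.mk _ x, by simp, rfl⟩
  rw [← h5, Finset.mem_insert] at this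
  exact Nat.prime_of_mem_primeFactors (this.resolve_left (by simpa using hx))

end Cfsg.Agent.S4068
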