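import Cfsg.Statements.S4073
import Cfsg.Agent.H1.IA4

set_option autoImplicit false
open Cfsg

namespace Cfsg.Agent.S4073

/-- Let G be a finite non-abelian simple group. Every non-abelian subgroup of G is self-normalizing if and only if G is isomorphic to PSL₂(2ⁿ) for some n ≥ 2 with 2ⁿ − 1 prime (this includes the alternating group of degree 5 as PSL₂(4)). -/
theorem result {G : Type*} [Group G] [Finite G] [IsSimpleGroup G]
    (hna : ¬ IsMulCommutative G) :
    (∀ H : Subgroup G, ¬ IsMulCommutative H → Subgroup.normalizer (H : Set G) = H) ↔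
    ∃ n : ℕ, 2 ≤ n ∧ (2 ^ n - 1).Prime ∧ Nonempty (G ≃* Matrix.ProjectiveSpecialLinearGroup (Fin 2) (GaloisField 2 n)) := by
  open Subgroup CfsgH1 CfsgFT CfsgH2 CfsgH1.L2 in
  have S := CfsgH8.NAS.of_comm hna
  constructor
  · intro h
    have h : NSN G := h
    obtain ⟨n, hn, ⟨e⟩⟩ := (h.ia S fun H _ => (h.subgroup H).solv_or_simple).simple S
    haveI := Fintype.ofFinite (GaloisField 2 n)
    have := prime_of_nsn (four_le_gf hn) (h.of_surj (e.trans pslEquiv).toMonoidHom
      (e.trans pslEquiv).surjective)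
    rw [← Nat.card_eq_fintype_card, GaloisField.card 2 n (by omega)] at this
    exact ⟨n, hn, this, ⟨e⟩⟩
  · rintro ⟨n, hn, hp, ⟨e⟩⟩
    haveI := Fintype.ofFinite (GaloisField 2 n)
    exact (nsn_of_prime (F := GaloisField 2 n) (by
      rwa [← Nat.card_eq_fintype_card, GaloisField.card 2 n (by omega)])).of_surj
      (e.trans pslEquiv).symm.toMonoidHom (e.trans pslEquiv).symm.surjective

end Cfsg.Agent.S4073
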