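import Cfsg.Statements.S4074
import Cfsg.Agent.H1.PG2

set_option autoImplicit false
open Cfsg

namespace Cfsg.Agent.S4074

/-- For n > 2, every non-abelian subgroup of the dihedral group of order 2n is self-normalizing if and only if n = 4 or n is odd. -/
theorem result (n : ℕ) (hn : 2 < n) :
    (∀ H : Subgroup (DihedralGroup n), ¬ IsMulCommutative H → Subgroup.normalizer (H : Set (DihedralGroup n)) = H) ↔
    (n = 4 ∨ Odd n) := by
  open Subgroup CfsgH1 CfsgFT CfsgH2 DihedralGroup in
  haveI : NeZero n := ⟨by omega⟩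
  refine ⟨fun h => ?_, fun h H hH => ?_⟩
  · by_contra! hc
    have h2 := even_iff_two_dvd.1 (Nat.not_odd_iff_even.1 hc.2)
    let f : DihedralGroup n →* Multiplicative (ZMod 2) := MonoidHom.mk'
      (fun | r i => .ofAdd (ZMod.castHom h2 (ZMod 2) i) | sr i => .ofAdd (ZMod.castHom h2 (ZMod 2) i)) (by
        rintro (i | i) (j | j) <;> simp only [r_mul_r, r_mul_sr, sr_mul_r, sr_mul_sr, map_add, map_sub,
          ← ofAdd_add, CharTwo.sub_eq_add, add_comm])
    have := h f.ker (fun e => by
      have := mul_comm_of_isMulCommutative e (a := r ((2 : ℕ) : ZMod n)) (b := sr 0)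
        (show Multiplicative.ofAdd _ = 1 by rw [map_natCast]; rfl) (show Multiplicative.ofAdd _ = 1 by rw [map_zero]; rfl)
      rw [r_mul_sr, sr_mul_r, sr.injEq, zero_sub, zero_add, neg_eq_iff_add_eq_zero, ← Nat.cast_add,
        ZMod.natCast_eq_zero_iff] at this
      have := Nat.le_of_dvd (by omega) this
      omega)
    have h3 : r 1 ∈ f.ker := this.le (le_normalizer_of_normal (mem_top _))
    replace h3 : Multiplicative.ofAdd (ZMod.castHom h2 (ZMod 2) 1) = 1 := h3
    rw [map_one] at h3
    exact absurd h3 (by decide)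
  · refine le_antisymm ?_ le_normalizer
    rcases h with rfl | h
    · have hG : IsPGroup 2 (DihedralGroup 4) := IsPGroup.of_card (n := 3) nat_card
      obtain ⟨k, hk⟩ := (hG.to_subgroup H).exists_card_eq
      have h1 : ¬ k ≤ 2 := fun e => hH (isMulCommutative_of_card_le_sq (hG.to_subgroup H)
        (hk ▸ Nat.pow_le_pow_right two_pos e))
      have h2 : H = ⊤ := CfsgH1.eq_of_le_of_card_le le_top (by
        rw [card_top, nat_card, hk]; exact Nat.pow_le_pow_right (n := 2) (i := 3) two_pos (by omega))
      exact h2 ▸ le_top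
    obtain ⟨i, hi⟩ : ∃ i, sr i ∈ H := by
      by_contra! e
      refine hH (isMulCommutative_of_le (A := zpowers (r 1)) inferInstance ?_)
      rintro (j | j) hj
      exacts [⟨j.val, by simp⟩, absurd hj (e j)]
    have key : ∀ j : ZMod n, r j ∈ N(H) → r j ∈ H := fun j hj => by
      obtain ⟨c, hc⟩ := h
      have h1 := pow_mem (mul_mem (CfsgH1.conj_mem_of_mem_normalizer hj hi) hi) (c + 1)
      have h2 : (n : ZMod n) = 0 := ZMod.natCast_self n
      rw [congrArg Nat.cast hc] at h2
      simp only [r_mul_sr, inv_r, sr_mul_r, sr_mul_sr, r_pow] at h1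
      convert h1 using 2
      push_cast at h2 ⊢
      linear_combination (-j) * h2
    rintro (j | j) hj
    · exact key j hj
    · exact (mul_mem_cancel_left hi).1 (key _ (mul_mem (le_normalizer hi) hj))

end Cfsg.Agent.S4074
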