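import Cfsg.Statements.S4075
import Cfsg.Agent.H1.PG2

set_option autoImplicit false
open Cfsg

namespace Cfsg.Agent.S4075

/-- Let G be a finite nilpotent group. Every non-abelian subgroup of G is self-normalizing if and only if G is abelian or G is a minimal non-abelian p-group for some prime p (non-abelian of prime-power order with every proper subgroup abelian). -/
theorem result {G : Type*} [Group G] [Finite G]
    [Group.IsNilpotent G] :
    (∀ H : Subgroup G, ¬ IsMulCommutative H → Subgroup.normalizer (H : Set G) = H) ↔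
    (IsMulCommutative G ∨ (IsPrimePow (Nat.card G) ∧ ¬ IsMulCommutative G ∧ ∀ H : Subgroup G, H ≠ ⊤ → IsMulCommutative H)) := by
  open Subgroup CfsgH1 CfsgFT CfsgH2 in
  refine ⟨fun h => or_iff_not_imp_left.2 fun hn => ?_, fun h H hH => ?_⟩
  · have h1 : ∀ H : Subgroup G, H ≠ ⊤ → IsMulCommutative H := fun H hH => by_contra fun e =>
      (Group.normalizerCondition_of_isNilpotent H (lt_top_iff_ne_top.2 hH)).ne' (h H e)
    refine ⟨by_contra fun e => hn ⟨⟨fun a b => ?_⟩⟩, hn, h1⟩
    have h2 : ∀ (p : ℕ) [Fact p.Prime] (P : Sylow p G), (P : Subgroup G) ≤ center G := fun p hp P x hx => by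
      have h3 : (P : Subgroup G) ≠ ⊤ := fun e' => by
        obtain ⟨k, hk⟩ := P.isPGroup'.exists_card_eq
        rw [e', card_top] at hk
        rcases k with _ | k
        · haveI := (Nat.card_eq_one_iff_unique.1 hk).1
          exact hn ⟨⟨fun a b => Subsingleton.elim _ _⟩⟩
        · exact e (hk ▸ hp.out.isPrimePow.pow k.succ_ne_zero)
      have := sup_le (isMulCommutative_iff_le_centralizer.1 (h1 _ h3))
        (sylow_eq_pCore_of_isNilpotent P ▸ pPrimeCore_le_centralizer_pCore)
      rw [sylow_eq_pCore_of_isNilpotent P, pCore_sup_pPrimeCore_eq_top, ← sylow_eq_pCore_of_isNilpotent P] at this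
      exact mem_center_iff.2 fun g => (this (mem_top g) x hx).symm
    exact mem_center_iff.1 ((eq_top_of_forall_sylow_le fun p _ _ => ⟨default, h2 p _⟩).ge (mem_top b)) a
  · rcases h with h | ⟨-, -, h⟩
    · exact absurd (isMulCommutative_of_forall fun a _ b _ => h.is_comm.comm a b) hH
    · rw [not_not.1 (mt (h H) hH)]; exact normalizer_eq_top _

end Cfsg.Agent.S4075
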