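import Cfsg.Statements.S4080
import Cfsg.Agent.H1.PG3
import Cfsg.Agent.H8.Perm2

set_option autoImplicit false
open Cfsg

namespace Cfsg.Agent.S4080

/-- Let p > 3 be a prime and L the direct product of two cyclic groups of order p². Every automorphism of L of order p fixes every element of order p of L. -/
theorem result {p : ℕ} [Fact p.Prime] (hp : 3 < p)
    (a : MulAut (Multiplicative (ZMod (p ^ 2) × ZMod (p ^ 2)))) (ha : orderOf a = p)
    (x : Multiplicative (ZMod (p ^ 2) × ZMod (p ^ 2))) (hx : orderOf x = p) : a x = x := by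
  open Subgroup CfsgH1 CfsgFT CfsgH2 CfsgH8 in
  have pp : p.Prime := Fact.out
  haveI : NeZero (p ^ 2) := ⟨pow_ne_zero _ pp.ne_zero⟩
  let φ : Multiplicative (ZMod (p ^ 2) × ZMod (p ^ 2)) →* _ := a.toMonoidHom / MonoidHom.id _
  have hφ : ∀ v, a v = v * φ v := fun v => by simp [φ]
  let W := (powMonoidHom p : Multiplicative (ZMod (p ^ 2) × ZMod (p ^ 2)) →* _).ker
  have z : ∀ y : ZMod (p ^ 2), p • y = 0 → ∃ w, p • w = y := fun y hy => by
    obtain ⟨y, rfl⟩ := ZMod.natCast_zmod_surjective y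
    rw [nsmul_eq_mul, ← Nat.cast_mul, ZMod.natCast_eq_zero_iff, pow_two, Nat.mul_dvd_mul_iff_left pp.pos] at hy
    obtain ⟨w, rfl⟩ := hy
    exact ⟨w, by simp⟩
  have hW : W = (powMonoidHom p).range := le_antisymm (fun v hv => by
    obtain ⟨w1, h1⟩ := z v.toAdd.1 (congrArg Prod.fst hv)
    obtain ⟨w2, h2⟩ := z v.toAdd.2 (congrArg Prod.snd hv)
    exact ⟨.ofAdd (w1, w2), Prod.ext h1 h2⟩) (by
    rintro _ ⟨v, rfl⟩
    have : ∀ y : ZMod (p ^ 2), p • p • y = 0 := fun y => by rw [smul_smul, ← pow_two, nsmul_eq_mul]; simp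
    exact Prod.ext (this _) (this _))
  have cW : Nat.card W = p ^ 2 := by
    have := W.card_mul_index
    rw [index_ker, ← hW] at this
    exact (Nat.mul_self_inj).1 (this.trans (by simp))
  have fx : ∀ U : Subgroup _, U ≤ W → (∀ u ∈ U, a u ∈ U) → U ≠ ⊥ → U ⊓ φ.ker ≠ ⊥ := fun U h1 h2 h3 e => by
    have h4 := card_modEq_fixed pp (isPGroup_zpowers_of_orderOf (k := 1) (x := a) (by simpa using ha)) (U : Set _)
      fun g hg u hu => by
        obtain ⟨k, rfl⟩ := mem_powers_iff_mem_zpowers.2 hg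
        change (a ^ k) u ∈ U
        clear hg
        induction k with
        | zero => exact hu
        | succ k ih => rw [pow_succ' a]; exact h2 _ ih
    rw [show {x | x ∈ (U : Set (Multiplicative (ZMod (p ^ 2) × ZMod (p ^ 2)))) ∧ ∀ g ∈ zpowers a, g • x = x} = {1} from Set.eq_singleton_iff_unique_mem.2
      ⟨⟨one_mem U, fun g _ => map_one g⟩, fun y hy => eq_bot_iff.1 e (mem_inf.2 ⟨hy.1,
        mul_eq_left.1 ((hφ y).symm.trans (hy.2 a (mem_zpowers a)))⟩)⟩, Nat.card_unique (α := ({1} : Set _))] at h4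
    obtain ⟨k, -, hk⟩ := (Nat.dvd_prime_pow pp).1 (cW ▸ card_dvd_of_le h1)
    refine pp.one_lt.ne' (Nat.dvd_one.1 ((h4.dvd_iff dvd_rfl).1 ?_))
    exact (show Nat.card U = _ from hk) ▸ dvd_pow_self p fun c => h3 (card_eq_one.1 (by rw [hk, c, pow_zero]))
  have aW : ∀ u ∈ W, a u ∈ W := fun u hu => by
    rw [MonoidHom.mem_ker, powMonoidHom_apply] at hu ⊢; rw [← map_pow, hu, map_one]
  have cm : ∀ v, a (φ v) = φ (a v) := fun v => by simp [φ]
  have n2 : ∀ w ∈ W, φ (φ w) = 1 := fun w hw => by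
    have h0 : W ≠ ⊥ := fun e => by rw [e, card_bot] at cW; nlinarith
    have h1 := card_map_mul_card_inf_ker φ W
    obtain ⟨k, -, hk⟩ := (Nat.dvd_prime_pow pp).1 (cW ▸ card_dvd_of_le (inf_le_left : W ⊓ φ.ker ≤ W))
    obtain ⟨k, rfl⟩ := Nat.exists_eq_add_one_of_ne_zero (n := k) fun c => fx W le_rfl aW h0 (card_eq_one.1 (by rw [hk, c, pow_zero]))
    have h2 : Nat.card (W.map φ) ∣ p := Nat.dvd_of_mul_dvd_mul_right pp.pos ⟨p ^ k, by
      rw [hk, cW] at h1; linear_combination -h1⟩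
    by_cases h3 : W.map φ = ⊥
    · rw [show φ w = 1 from eq_bot_iff.1 h3 (mem_map_of_mem φ hw), map_one]
    have h4 := fx (W.map φ) (by
      rintro _ ⟨u, hu, rfl⟩
      exact (W.mul_mem_cancel_left hu).1 (hφ u ▸ aW u hu)) (by
      rintro _ ⟨u, hu, rfl⟩
      exact cm u ▸ mem_map_of_mem φ (aW u hu)) h3
    have h5 := ((Nat.dvd_prime pp).1 ((card_dvd_of_le inf_le_left).trans h2)).resolve_left (mt card_eq_one.1 h4)
    exact (CfsgH1.eq_of_le_of_card_le inf_le_left ((Nat.le_of_dvd pp.pos h2).trans h5.ge)).ge (mem_map_of_mem φ hw) |>.2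
  obtain ⟨v, rfl⟩ := hW.le (show x ^ p = 1 from orderOf_dvd_iff_pow_eq_one.1 hx.dvd)
  have p2 : ∀ u, φ (φ u) ^ p = 1 := fun u => by rw [← map_pow, ← map_pow]; exact n2 _ (hW.ge ⟨u, rfl⟩)
  have key : ∀ i : ℕ, (a ^ i) v = v * φ v ^ i * φ (φ v) ^ i.choose 2 * φ (φ (φ v)) ^ i.choose 3 := fun i => by
    induction i with
    | zero => simp
    | succ i ih =>
      rw [pow_succ' a, MulAut.mul_apply, ih, map_mul, map_mul, map_mul, map_pow, map_pow, map_pow, hφ v, hφ (φ v),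
        hφ (φ (φ v)), hφ (φ (φ (φ v))), n2 _ (p2 v), choose_two_succ, choose_three_succ]
      simp only [mul_pow, pow_add, pow_one, mul_one]; ac_rfl
  have h := key p
  obtain ⟨c, hc⟩ := prime_dvd_choose_two pp (by omega)
  obtain ⟨d, hd⟩ := pp.dvd_choose_self (k := 3) (by omega) hp
  rw [hc, hd, pow_mul, pow_mul, p2, p2, orderOf_dvd_iff_pow_eq_one.1 ha.dvd] at h
  rw [powMonoidHom_apply, map_pow, hφ, mul_pow, show φ v ^ p = 1 by simpa using h, mul_one]

end Cfsg.Agent.S4080
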