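import Cfsg.Statements.S4081
import Cfsg.Agent.H9.AO2

set_option autoImplicit false
open Cfsg

namespace Cfsg.Agent.S4081

/-- Let G be a finite group whose order is not a prime power. Then the automorphism group of G has exactly three orbits on G if and only if there are distinct primes p, q with #G = pⁿ·q (n ≥ 1) such that G has a normal elementary abelian Sylow p-subgroup P, p is a primitive root modulo q (the multiplicative order of p mod q is q − 1), and every element of order q of G acts on P without non-identity fixed points. -/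
theorem result {G : Type*} [Group G] [Finite G] (hnpp : ¬ IsPrimePow (Nat.card G)) (hnt : Nat.card G ≠ 1) :
    Nat.card (MulAction.orbitRel.Quotient (MulAut G) G) = 3 ↔
    ∃ (p q n : ℕ) (_ : Fact p.Prime) (_ : Fact q.Prime), p ≠ q ∧ 1 ≤ n ∧ Nat.card G = p ^ n * q ∧
      (∀ P : Sylow p G, (P : Subgroup G).Normal ∧ Cfsg.IsElementaryAbelian p (P : Subgroup G)) ∧
      orderOf (p : ZMod q) = q - 1 ∧
      ∀ x y : G, orderOf x = q → orderOf y = p → x * y * x⁻¹ ≠ y := by
  open Subgroup CfsgH2 CfsgH9.AO in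
    refine ⟨fun h => ?_, fun ⟨p, q, n, hp, hq, hpq, hn, hG, hP, ho, nc⟩ => ?_⟩
    swap
    · obtain ⟨P⟩ : Nonempty (Sylow p G) := inferInstance
      have := (hP P).1
      obtain ⟨v, hv⟩ := exists_prime_orderOf_dvd_card' (G := G) p (hG ▸ (dvd_pow_self p (by omega)).mul_right _)
      obtain ⟨y, hy⟩ := exists_prime_orderOf_dvd_card' (G := G) q (hG ▸ dvd_mul_left _ _)
      exact (three_iff v y hv hy hp.out.one_lt.ne' hq.out.one_lt.ne' hpq).2 (bwd hpq hG (hP P).2 ho nc hv hy)
    obtain ⟨p, hp, dp⟩ := Nat.exists_prime_and_dvd hnt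
    obtain ⟨q, hq, dq, hpq⟩ : ∃ q, q.Prime ∧ q ∣ Nat.card G ∧ p ≠ q := by
      by_contra! k
      have := Nat.eq_prime_pow_of_unique_prime_dvd (Nat.card_pos (α := G)).ne' fun {r} hr h => (k r hr h).symm
      exact hnpp ⟨p, _, hp.prime, Nat.pos_of_ne_zero fun e => hnt (by rw [this, e, pow_zero]), this.symm⟩
    have : Fact p.Prime := ⟨hp⟩
    have : Fact q.Prime := ⟨hq⟩
    obtain ⟨a, ha⟩ := exists_prime_orderOf_dvd_card' (G := G) p dp
    obtain ⟨b, hb⟩ := exists_prime_orderOf_dvd_card' (G := G) q dq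
    have k := (three_iff a b ha hb hp.one_lt.ne' hq.one_lt.ne' hpq).1 h
    have H : ∀ g : G, g = 1 ∨ orderOf g = p ∨ orderOf g = q := fun g => (k g).imp_right (Or.imp
      (fun ⟨φ, e⟩ => e ▸ (φ.orderOf_eq a).trans ha) fun ⟨φ, e⟩ => e ▸ (φ.orderOf_eq b).trans hb)
    have tr : ∀ g h : G, orderOf g = orderOf h → ∃ φ : MulAut G, φ g = h := fun g h e => by
      have p1 := hp.one_lt
      have q1 := hq.one_lt
      rcases k g with rfl | ⟨φ, rfl⟩ | ⟨φ, rfl⟩ <;> rcases k h with rfl | ⟨ψ, rfl⟩ | ⟨ψ, rfl⟩ <;>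
        first
          | exact ⟨1, rfl⟩
          | exact ⟨ψ * φ⁻¹, congrArg ψ (φ.symm_apply_apply _)⟩
          | (simp only [MulEquiv.orderOf_eq, orderOf_one, ha, hb] at e; omega)
    obtain ⟨P⟩ : Nonempty (Sylow p G) := inferInstance
    obtain ⟨m, hm⟩ := index_pow H P
    obtain ⟨n, hn⟩ := IsPGroup.iff_card.1 P.2
    have sol := CfsgH3.isSolvable_of_card_dvd_pow_mul_pow (G := G) hp hq
      (by rw [← (P : Subgroup G).card_mul_index, hm, show Nat.card (P : Subgroup G) = p ^ n from hn])
    have : Nontrivial G := Finite.one_lt_card_iff_nontrivial.1 (by have := Nat.card_pos (α := G); omega)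
    classical
    obtain ⟨d, hd⟩ := Nat.exists_eq_succ_of_ne_zero (n := Nat.find sol.solvable) fun e => by
      have := Nat.find_spec sol.solvable
      rw [e] at this
      exact top_ne_bot this
    have h1 := Nat.find_spec sol.solvable
    have h2 := Nat.find_min sol.solvable (hd ▸ d.lt_succ_self)
    rw [hd, derivedSeries_succ, commutator_eq_bot_iff_le_centralizer, le_centralizer_iff_isMulCommutative] at h1
    obtain ⟨v, hv, v1⟩ := (bot_or_exists_ne_one _).resolve_left h2
    rcases (H v).resolve_left v1 with e | e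
    · obtain ⟨n, h⟩ := fwd hpq H tr hb hv e
      exact ⟨p, q, n, inferInstance, inferInstance, hpq, h⟩
    · obtain ⟨n, h⟩ := fwd hpq.symm (fun g => (H g).imp_right Or.symm) tr ha hv e
      exact ⟨q, p, n, inferInstance, inferInstance, hpq.symm, h⟩

end Cfsg.Agent.S4081
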