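import Cfsg.Statements.S4083
import Cfsg.Agent.H1.Sm
import Cfsg.Agent.H1.Amb
import Cfsg.Agent.H1.PG2
import Cfsg.Agent.H2.DihFus

set_option autoImplicit false
open Cfsg

namespace Cfsg.Agent.S4083

open Subgroup CfsgH1 CfsgFT CfsgH2 in
theorem cyc {G : Type*} [Group G] [Finite G] {A B : Subgroup G} (hA : IsCyclic A) (hB : IsCyclic B) (hc : A ≤ C(B))
    (h : (Nat.card A).Coprime (Nat.card B)) : IsCyclic ↥(A ⊔ B) := by
  obtain ⟨a, rfl⟩ := (Subgroup.isCyclic_iff_exists_zpowers_eq_top A).1 hA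
  obtain ⟨b, rfl⟩ := (Subgroup.isCyclic_iff_exists_zpowers_eq_top B).1 hB
  have c : Commute a b := (mem_cent.1 (hc (mem_zpowers a)) b (mem_zpowers b)).symm
  have m := left_mem_of_mul_mem c (by simpa using h) (mem_zpowers _)
  have : zpowers a ⊔ zpowers b = zpowers (a * b) := le_antisymm (sup_le (zpowers_le.2 m) (zpowers_le.2 (by
    simpa using mul_mem (inv_mem m) (mem_zpowers (a * b)))))
    (zpowers_le.2 (mul_mem (mem_sup_left (mem_zpowers a)) (mem_sup_right (mem_zpowers b))))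
  rw [this]; infer_instance

open Subgroup CfsgH1 CfsgFT CfsgH2 in
theorem sub {G : Type*} [Group G] [Finite G] {P T : Subgroup G} {n : ℕ} (e : P ≃* DihedralGroup (2 ^ n)) (l : T ≤ P)
    (h : ¬ IsCyclic T) : (∃ k, Nonempty (T ≃* DihedralGroup (2 ^ k))) ∧ ∃ K ≤ T, IsKleinFour K := by
  obtain ⟨a, b, I, o⟩ := exists_idx2_of_dihedral e
  obtain ⟨j, hj⟩ := I.exists_mem_of_not_le l fun k => h (CfsgFT.isCyclic_of_le' inferInstance k)
  obtain ⟨s, hs, m, J⟩ := I.sub_of_not_le o l hj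
  have q : a ^ j * b * (a ^ j * b) = 1 := by rw [I.mul_eq]; simp
  replace J := J.congr (m' := 0) rfl (by rw [← J.sq, q, zpow_zero])
  have o' := orderOf_zpow_prime_pow two_ne_zero o hs
  obtain ⟨f⟩ := J.dihedral o'
  refine ⟨⟨_, ⟨f⟩⟩, ?_⟩
  obtain ⟨z, hz, z2⟩ := exists_invol_zpowers (g := a ^ (2 : ℤ) ^ s) (o' ▸ dvd_pow_self 2 fun k => h (by
    rw [k] at f; exact (f.isCyclic).2 (DihedralGroup.isCyclic_iff.2 rfl)))
  have b2 := orderOf_two_of q (I.pow_mul_ne_one j)
  refine ⟨_, ?_, isKleinFour_closure z2 b2 (fun k => J.notMem (k ▸ hz)) ?_⟩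
  · rw [closure_le, Set.pair_subset_iff]; exact ⟨J.zpowers_le hz, hj⟩
  · obtain ⟨i, rfl⟩ := hz
    have := conj_zpow_of_inv (J.conj.trans (zpow_neg_one _)) i
    rw [zpow_neg, inv_eq_of_orderOf_two z2, mul_inv_eq_iff_eq_mul] at this
    exact this.symm

/-- Let G be a finite group with Sylow 2-subgroup P. Every subgroup H of G whose Sylow 2-subgroup is normal in H with cyclic quotient is cyclic, dihedral of 2-power order, or isomorphic to the alternating group of degree 4, if and only if either P is cyclic, or P is dihedral (of order at least 4) and every elementary abelian subgroup K of order 4 of P satisfies C_G(K) = K. -/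
theorem result {G : Type*} [Group G] [Finite G] (P : Sylow 2 G) :
    (∀ H : Subgroup G, (∀ S : Sylow 2 ↥H, (S : Subgroup ↥H).Normal) →
        (∀ (S : Sylow 2 ↥H) [(S : Subgroup ↥H).Normal], IsCyclic (↥H ⧸ (S : Subgroup ↥H))) →
        IsCyclic H ∨ (∃ n : ℕ, Nonempty (H ≃* DihedralGroup (2 ^ n))) ∨ Nonempty (H ≃* alternatingGroup (Fin 4))) ↔
    (IsCyclic P ∨
      ((∃ n : ℕ, 1 ≤ n ∧ Nonempty ((P : Subgroup G) ≃* DihedralGroup (2 ^ n))) ∧
        ∀ K : Subgroup G, K ≤ P → Nat.card K = 4 → (∀ k ∈ K, k ^ 2 = 1) → Subgroup.centralizer (K : Set G) = K)) := by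
  open Subgroup CfsgH1 CfsgFT CfsgH2 in
  have A4 : ¬ IsMulCommutative (alternatingGroup (Fin 4)) := fun h => absurd h.is_comm.comm (by decide)
  refine ⟨fun h => ?_, fun h H h1 h2 => ?_⟩
  · have t : ∀ S : Sylow 2 (P : Subgroup G), (S : Subgroup (P : Subgroup G)) = ⊤ := fun S =>
      (IsSylowIn.of_sylow_top S).eq_of_isPGroup (P.2.to_subgroup ⊤)
    refine or_iff_not_imp_left.2 fun n => ⟨?_, fun K hK k4 k2 => le_antisymm (fun c hc => ?_) ?_⟩
    · rcases h P (fun S => t S ▸ inferInstance) (fun S _ => by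
        haveI := QuotientGroup.subsingleton_iff.2 (t S); infer_instance) with k | ⟨m, ⟨e⟩⟩ | ⟨⟨e⟩⟩
      · exact (n k).elim
      · exact ⟨m, Nat.pos_of_ne_zero fun k => n (by rw [k] at e; exact e.isCyclic.2 (DihedralGroup.isCyclic_iff.2 rfl)), ⟨e⟩⟩
      · obtain ⟨k, hk⟩ := IsPGroup.iff_card.1 P.2
        rw [Nat.card_congr e.toEquiv, card_A4] at hk
        exact absurd (Nat.prime_three.dvd_of_dvd_pow (hk ▸ (by norm_num : 3 ∣ 12))) (by norm_num)
    all_goals have kf := isKleinFour_iff.2 ⟨k4, fun x hx => sq x ▸ k2 x hx⟩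
    all_goals have kc : IsMulCommutative K := isMulCommutative_of_forall fun a ha b hb => IsKleinFour_comm kf ha hb
    swap
    · exact comm_iff.1 kc
    haveI := isMulCommutative_sup_zpowers kc hc
    have cy : ∀ (S : Sylow 2 ↥(K ⊔ zpowers c)) [(S : Subgroup ↥(K ⊔ zpowers c)).Normal],
        IsCyclic (↥(K ⊔ zpowers c) ⧸ (S : Subgroup ↥(K ⊔ zpowers c))) := fun S _ => by
      refine ⟨⟨(⟨c, mem_sup_right (mem_zpowers c)⟩ : ↥(K ⊔ zpowers c)), fun x => ?_⟩⟩
      obtain ⟨⟨x, hx⟩, rfl⟩ := QuotientGroup.mk_surjective x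
      obtain ⟨m, hm, i, rfl⟩ := (mem_sup_zpowers (cent_le_norm _ hc)).1 hx
      refine ⟨i, QuotientGroup.eq.2 ?_⟩
      have : K.subgroupOf (K ⊔ zpowers c) ≤ S := (IsSylowIn.of_sylow_top S).le_of_normalizer
        (isPGroup_of_kleinFour kf).comap_subtype le_top (normalizer_eq_top _).ge
      refine this (mem_subgroupOf.2 ?_)
      simpa [mem_cent.1 (zpow_mem hc i) m hm] using hm
    rcases h (K ⊔ zpowers c) (fun S => inferInstance) cy with k | ⟨m, ⟨e⟩⟩ | ⟨⟨e⟩⟩
    · exact (kf.not_isCyclic (CfsgFT.isCyclic_of_le' k le_sup_left)).elim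
    · have := DihedralGroup.commutative_iff.1 ⟨⟨fun a b => e.symm.injective (by rw [map_mul, map_mul, mul_comm'])⟩⟩
      refine (CfsgH2.eq_of_le_of_card_le (le_sup_left (b := zpowers c)) ?_).ge (mem_sup_right (mem_zpowers c))
      rw [Nat.card_congr e.toEquiv, DihedralGroup.nat_card, k4]; omega
    · exact (A4 ⟨⟨fun a b => e.symm.injective (by rw [map_mul, map_mul, mul_comm'])⟩⟩).elim
  obtain ⟨S⟩ : Nonempty (Sylow 2 H) := inferInstance
  haveI := h1 S
  have hT := IsSylowIn.of_sylow_map S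
  have nT := le_norm_map_subtype (S : Subgroup H)
  set T := (S : Subgroup H).map H.subtype
  obtain ⟨x, xH, xo, e⟩ : ∃ x ∈ H, Odd (orderOf x) ∧ T ⊔ zpowers x = H := by
    obtain ⟨y, hy⟩ := (h2 S).exists_generator
    obtain ⟨y, rfl⟩ := QuotientGroup.mk_surjective y
    obtain ⟨a, b, ha, hb, ⟨k, hk⟩, bo, e⟩ := exists_p_part (p := 2) (y : G)
    have l := zpowers_le.2 y.2
    refine ⟨b, l hb, Nat.coprime_two_right.1 bo, le_antisymm (sup_le hT.le (zpowers_le.2 (l hb))) fun z hz => ?_⟩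
    obtain ⟨i, hi⟩ := hy (⟨z, hz⟩ : H)
    have yT : (y : G) ∈ T ⊔ zpowers b := e ▸ mul_mem (mem_sup_left (hT.le_of_le_normalizer (isPGroup_zpowers_of_orderOf hk)
      (zpowers_le.2 (l ha)) (zpowers_le.2 (nT (l ha))) (mem_zpowers a))) (mem_sup_right (mem_zpowers b))
    exact (mul_mem_cancel_left (inv_mem (zpow_mem yT i))).1 (mem_sup_left (mem_map_of_mem H.subtype (QuotientGroup.eq.1 hi)))
  have cp : (Nat.card T).Coprime (Nat.card (zpowers x)) := coprime_pgroup_p' hT.pgroup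
    (isPi_compl_singleton_iff_coprime.2 (by rw [Nat.card_zpowers]; exact Nat.coprime_two_right.2 xo))
  by_cases tc : IsCyclic T
  · exact .inl (e ▸ cyc tc inferInstance (cent_symm (zpowers_le.2 (by_contra fun k =>
      not_oddAct_of_cyclic hT.pgroup tc ⟨x, nT xH, xo, k⟩))) cp)
  obtain ⟨g, hg⟩ := exists_cj_le_sylow P hT.pgroup
  have tc' : ¬ IsCyclic (cj g T) := fun k => tc ((cjEquiv g T).isCyclic.2 k)
  obtain ⟨⟨n, hn, ⟨f⟩⟩, h⟩ := h.resolve_left fun k => tc' (CfsgFT.isCyclic_of_le' k hg)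
  have sc : ∀ K ≤ T, IsKleinFour K → C(K) = K := fun K a b => (cj_inj g).1 (by
    have := isKleinFour_iff.1 (isKleinFour_cj b g)
    rw [cj_centralizer, h _ ((cj_mono g a).trans hg) this.1 fun y hy => (sq y).trans (this.2 y hy)])
  have od : ∀ y ∈ zpowers x, y ∈ T → y = 1 := fun y a b => (inf_eq_bot_of_coprime' cp).le ⟨b, a⟩
  obtain ⟨⟨k, ⟨f'⟩⟩, K, k1, k2⟩ := sub f hg tc'
  by_cases c : x ∈ C(T)
  · have l := cj_le_iff_le_cj_inv.2 (k1.trans_eq (by rw [inv_inv]) : K ≤ cj g⁻¹⁻¹ T)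
    rw [od x (mem_zpowers x) (l ((sc _ l (isKleinFour_cj k2 _)).le (cent_anti l c))), zpowers_one_eq_bot, sup_bot_eq] at e
    exact .inr (.inl ⟨k, ⟨e ▸ (cjEquiv g T).trans f'⟩⟩)
  have kT : IsKleinFour T := isKleinFour_of_equiv (cjEquiv g T).symm (klein_of_oddAct_dihedral P.2
    (Nat.le_self_pow (by omega) 2) f hg (OddAct.cj ⟨x, nT xH, xo, c⟩ g))
  have oc : ∀ y : G, Odd (orderOf y) → ∀ X ≤ T, X ≠ T → y ∈ N(X) → y ∈ C(X) := fun y a X b c d => by_contra fun k =>
    c (eq_of_le_klein_of_oddAct kT b ⟨y, d, a, k⟩)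
  haveI : IsMulCommutative T := isMulCommutative_of_forall fun a ha b hb => IsKleinFour_comm kT ha hb
  have fpf : ∀ y ∈ zpowers x, y ≠ 1 → T ⊓ C1(y) = ⊥ := fun y hy y1 => by_contra fun k => y1 (od y hy ((sc T le_rfl kT).le (by
    have n : zpowers y ≤ N(T) := zpowers_le.2 (nT (zpowers_le.2 xH hy))
    have c' := (cp.coprime_dvd_right (card_dvd_of_le (zpowers_le.2 hy))).symm
    have a := centralizer_inf_commutator_eq_bot n c'
    have b := commutator_sup_centralizer n c' (.inl (isSolvable_zpowers y))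
    rw [cent_zpowers] at a b
    have := oc y (xo.of_dvd_nat (orderOf_dvd_of_mem_zpowers hy)) _ (comm_le_left n) (fun e => k (by
      rwa [e, inf_eq_left.2 inf_le_left] at a)) (CfsgH1.le_normalizer_commutator n le_normalizer (mem_zpowers y))
    rw [← b, cent_sup]
    exact ⟨this, le_cent1_iff.1 inf_le_right⟩)))
  have t4 := (isKleinFour_iff.1 kT).1
  have x1 : x ≠ 1 := fun k => c (k ▸ one_mem _)
  have x3 := card_dvd_card_sub_one (zpowers_le.2 (nT xH)) fpf
  rw [t4] at x3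
  refine .inr (.inr (NCN.alt4 (fun N _ nc => ?_) ?_))
  · have l : N.map H.subtype ≤ T := by
      haveI := CfsgFT.normal_subgroupOf nT
      rcases frob_normal_le_or (K := T.subgroupOf H) (H := (zpowers x).subgroupOf H) (by
        rw [← sup_subgroupOf hT.le (zpowers_le.2 xH), e, subgroupOf_self]) (fpf_subgroupOf fpf _) N with k | k
      · exact map_le_iff_le_comap.2 k
      · exact (tc ((subgroupOfEquivOfLe hT.le).isCyclic.1 (CfsgFT.isCyclic_of_le' nc k))).elim
    have := oc x xo _ l (fun k => tc (k ▸ isCyclic_map' nc _)) (le_norm_map_subtype N xH)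
    exact (Subgroup.map_eq_bot_iff_of_injective _ H.subtype_injective).1
      (eq_bot_iff.2 ((le_inf l (le_cent1_iff.2 this)).trans (fpf x (mem_zpowers x) x1).le))
  · rw [← e, card_sup_of_disjoint (zpowers_le.2 (nT xH)) (disjoint_of_coprime_natCard cp), t4,
      (Nat.prime_three.eq_one_or_self_of_dvd _ x3).resolve_left (by simpa using x1)]

end Cfsg.Agent.S4083
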