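import Cfsg.Statements.S4084
import Cfsg.Agent.H1.PG2

set_option autoImplicit false
open Cfsg

namespace Cfsg.Agent.S4084

theorem aux {G H : Type*} [Group G] [Finite G] [Group H] [Finite H] (e : G ≃ H)
    (he : ∀ x y : G, Commute x y ↔ Commute (e x) (e y))
    {p q : ℕ} (hp : p.Prime) (hq : q.Prime) (hpq : p ≠ q) (h : ∃ g : G, orderOf g = p * q) :
    ∃ h : H, orderOf h = p * q := by
  open Subgroup CfsgH1 CfsgFT CfsgH2 in
  obtain ⟨g, hg⟩ := h
  have h1 : Nat.card C(C1(g)) = Nat.card C(C1(e g)) := Nat.card_congr (e.subtypeEquiv fun a => by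
    simp only [mem_centralizer_iff', mem_centralizer_singleton_iff']
    exact e.forall_congr fun b => by rw [he, he])
  have h2 : p * q ∣ Nat.card C(C1(e g)) := h1 ▸ hg ▸ Subgroup.orderOf_dvd_natCard _ fun c hc => mem_C1.1 hc
  obtain ⟨x, hx, ox⟩ := exists_orderOf_eq_prime hp ((dvd_mul_right p q).trans h2)
  obtain ⟨y, hy, oy⟩ := exists_orderOf_eq_prime hq ((dvd_mul_left q p).trans h2)
  exact ⟨x * y, by rw [Commute.orderOf_mul_eq_mul_orderOf_of_coprime (hy x (mem_C1.2 (hx _ (mem_C1.2 rfl)).symm))
    (ox ▸ oy ▸ (Nat.coprime_primes hp hq).2 hpq), ox, oy]⟩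

/-- Let G and H be finite groups whose commuting graphs are isomorphic: there is a bijection e : G → H with x, y commuting exactly when e(x), e(y) commute. Then G and H have the same prime graph: for distinct primes p, q, G has an element of order pq if and only if H does (and #G = #H, so the prime divisors agree). -/
theorem result {G H : Type*} [Group G] [Finite G] [Group H] [Finite H] (e : G ≃ H)
    (he : ∀ x y : G, Commute x y ↔ Commute (e x) (e y))
    {p q : ℕ} (hp : p.Prime) (hq : q.Prime) (hpq : p ≠ q) :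
    (∃ g : G, orderOf g = p * q) ↔ (∃ h : H, orderOf h = p * q) := by
  exact ⟨aux e he hp hq hpq, aux e.symm (fun x y => by simp [he]) hp hq hpq⟩

end Cfsg.Agent.S4084
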