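import Cfsg.Statements.S4085
import Cfsg.Agent.H2.PGroup

set_option autoImplicit false
open Cfsg

namespace Cfsg.Agent.S4085
open Subgroup CfsgH2
open scoped commutatorElement

section
variable {G : Type*} [Group G] [Finite G]

def Adj (x y : G) : Prop := x ∈ zpowers y ∨ y ∈ zpowers x

omit [Finite G] in
theorem Adj.dvd {x y : G} (h : Adj x y) : orderOf x ∣ orderOf y ∨ orderOf y ∣ orderOf x :=
  h.imp orderOf_dvd_of_mem_zpowers orderOf_dvd_of_mem_zpowers

theorem exists_elt {x : G} {d : ℕ} (h : d ∣ orderOf x) : ∃ a ∈ zpowers x, orderOf a = d :=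
  ⟨_, pow_mem (mem_zpowers x) _, orderOf_pow_orderOf_div (orderOf_pos x).ne' h⟩

theorem zp_eq {x y : G} (h : x ∈ zpowers y) (h' : orderOf y ≤ orderOf x) : zpowers x = zpowers y :=
  eq_of_le_of_card_ge (zpowers_le.2 h) (by rwa [Nat.card_zpowers, Nat.card_zpowers])

theorem card_gen (u : G) : {w : G | zpowers w = zpowers u}.ncard = (orderOf u).totient := by
  classical
  haveI := Fintype.ofFinite (zpowers u)
  have h := IsCyclic.card_orderOf_eq_totient (α := zpowers u) (d := orderOf u)
    (by rw [← Nat.card_eq_fintype_card, Nat.card_zpowers])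
  rw [← h, ← Set.ncard_coe_finset, ← Set.ncard_image_of_injective _ (zpowers u).subtype_injective]
  congr 1
  ext w
  constructor
  · intro hw
    have hw : zpowers w = zpowers u := hw
    refine ⟨⟨w, hw.le (mem_zpowers w)⟩, ?_, rfl⟩
    simp only [Finset.coe_filter, Finset.mem_univ, true_and, Set.mem_ofPred_eq, orderOf_mk]
    rw [← Nat.card_zpowers, hw, Nat.card_zpowers]
  · rintro ⟨⟨w, hw⟩, h1, rfl⟩
    simp only [Finset.coe_filter, Finset.mem_univ, true_and, Set.mem_ofPred_eq, orderOf_mk] at h1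
    exact zp_eq hw h1.ge

theorem domH {w : G} (h1 : w ≠ 1) (h : ∀ t, Adj w t) {p q : ℕ} (hp : p.Prime) (hq : q.Prime) (hpq : p ≠ q)
    (hd : p * q ∣ Nat.card G) : ∃ g : G, orderOf g = p * q := by
  have k : ∀ s : ℕ, s.Prime → s ∣ Nat.card G → s ∣ orderOf w := fun s hs h2 => by
    haveI : Fact s.Prime := ⟨hs⟩
    obtain ⟨t, ht⟩ := exists_prime_orderOf_dvd_card' s h2
    rcases (h t).dvd with e | e
    · rw [ht] at e
      rw [((Nat.dvd_prime hs).1 e).resolve_left (fun e => h1 (orderOf_eq_one_iff.1 e))]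
    · rwa [ht] at e
  obtain ⟨a, -, ha⟩ := exists_elt (((Nat.coprime_primes hp hq).2 hpq).mul_dvd_of_dvd_of_dvd
    (k p hp ((dvd_mul_right p q).trans hd)) (k q hq ((dvd_mul_left q p).trans hd)))
  exact ⟨a, ha⟩
end

theorem pp_ne {s t a b : ℕ} (hs : s.Prime) (ht : t.Prime) (h : s ≠ t) (ha : 0 < a) : ¬ s ^ a ∣ t ^ b := fun e =>
  h ((Nat.prime_dvd_prime_iff_eq hs ht).1 (hs.dvd_of_dvd_pow ((dvd_pow_self s ha.ne').trans e)))

theorem dir {G H : Type*} [Group G] [Finite G] [Group H] [Finite H] (e : G ≃ H)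
    (he : ∀ x y : G, Adj x y ↔ Adj (e x) (e y)) {p q : ℕ} (hp : p.Prime) (hq : q.Prime) (hpq : p < q)
    (h : ∃ g : G, orderOf g = p * q) : ∃ h : H, orderOf h = p * q := by
  classical
  obtain ⟨g0, hg0⟩ := h
  by_cases e1 : e 1 = 1
  swap
  · refine domH e1 (fun t => ?_) hp hq hpq.ne (by rw [← Nat.card_congr e, ← hg0]; exact orderOf_dvd_natCard g0)
    obtain ⟨t, rfl⟩ := e.surjective t
    exact (he _ _).1 (Or.inl (one_mem _))
  obtain ⟨x1, hx1, m1⟩ := Set.exists_max_image {x : G | p * q ∣ orderOf x} orderOf (Set.toFinite _) ⟨g0, hg0.ge.trans' le_rfl |> fun _ => by simp [hg0]⟩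
  obtain ⟨x, hx, m2⟩ := Set.exists_max_image {x : G | zpowers x = zpowers x1} (fun x => orderOf (e x))
    (Set.toFinite _) ⟨x1, rfl⟩
  have hx : zpowers x = zpowers x1 := hx
  have ox : orderOf x = orderOf x1 := by rw [← Nat.card_zpowers, hx, Nat.card_zpowers]
  have hd : p * q ∣ orderOf x := ox ▸ hx1
  have nb : ∀ g, Adj g x → g ∈ zpowers x := fun g hg => hg.elim id fun h =>
    (zp_eq h (by rw [ox]; exact m1 g (hd.trans (orderOf_dvd_of_mem_zpowers h)))).ge (mem_zpowers g)
  have gen : ∀ g, zpowers g = zpowers x → e g ∈ zpowers (e x) := fun g hg =>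
    ((he g x).1 (Or.inl (hg.le (mem_zpowers g)))).elim id fun h =>
      (zp_eq h (m2 g (hg.trans hx))).ge (mem_zpowers _)
  have join : ∀ g ∈ zpowers x, e g ∉ zpowers (e x) → ∀ k, e k ∈ zpowers (e x) → Adj k g := fun g hg h k hk =>
    (he _ _).2 (Or.inl (zpowers_le.2 (((he g x).1 (Or.inl hg)).resolve_left h) hk))
  set n := orderOf x with hn
  have n0 : n ≠ 0 := (orderOf_pos x).ne'
  have pn : p ∣ n := (dvd_mul_right p q).trans hd
  have qn : q ∣ n := (dvd_mul_left q p).trans hd
  choose a ha ha' using fun s : ℕ => exists_elt (Nat.ordProj_dvd n s)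
  have oth : ∀ s : ℕ, ∃ t, t.Prime ∧ t ∣ n ∧ t ≠ s := fun s => by
    by_cases h : p = s
    · exact ⟨q, hq, qn, h ▸ hpq.ne'⟩
    · exact ⟨p, hp, pn, h⟩
  have dom : ∀ g ∈ zpowers x, (∀ s, s.Prime → s ∣ n → Adj g (a s)) → g = 1 ∨ zpowers g = zpowers x := by
    intro g hg h
    by_cases g1 : g = 1
    · exact Or.inl g1
    refine Or.inr (zp_eq hg (Nat.le_of_dvd (orderOf_pos g) ((Nat.dvd_iff_prime_pow_dvd_dvd _ _).2
      fun s k hs hk => ?_)))
    rcases k with _ | k
    · simp
    have sn : s ∣ n := (dvd_pow_self s k.succ_ne_zero).trans hk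
    rcases (h s hs sn).dvd with c | c
    · exfalso
      rw [ha'] at c
      obtain ⟨j, -, hj⟩ := (Nat.dvd_prime_pow hs).1 c
      have j0 : 0 < j := Nat.pos_of_ne_zero fun e => g1 (orderOf_eq_one_iff.1 (by rw [hj, e, pow_zero]))
      obtain ⟨t, ht, tn, ts⟩ := oth s
      rcases (h t ht tn).dvd with c | c <;> rw [ha', hj] at c
      · exact pp_ne hs ht ts.symm j0 c
      · exact pp_ne ht hs ts (ht.factorization_pos_of_dvd n0 tn) c
    · rw [ha'] at c
      exact (pow_dvd_pow s ((hs.pow_dvd_iff_le_factorization n0).1 hk)).trans c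
  have nadj : ∀ s t, s.Prime → t.Prime → s ∣ n → t ∣ n → s ≠ t → ¬ Adj (a s) (a t) := fun s t hs ht sn tn st h => by
    rcases h.dvd with c | c <;> rw [ha', ha'] at c
    · exact pp_ne hs ht st (hs.factorization_pos_of_dvd n0 sn) c
    · exact pp_ne ht hs st.symm (ht.factorization_pos_of_dvd n0 tn) c
  by_cases hc : e (a p) ∈ zpowers (e x)
  · have all : ∀ s, s.Prime → s ∣ n → e (a s) ∈ zpowers (e x) := fun s hs sn => by
      by_contra h
      exact nadj p s hp hs pn sn (fun e => h (e ▸ hc)) (join _ (ha s) h _ hc)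
    have sub : ∀ g ∈ zpowers x, e g ∈ zpowers (e x) := fun g hg => by
      by_contra h
      rcases dom g hg (fun s hs sn => (join g hg h _ (all s hs sn)).symm) with c | c
      · exact h (by rw [c, e1]; exact one_mem _)
      · exact h (gen g c)
    have : orderOf (e x) = n := by
      rw [hn, ← Nat.card_zpowers, ← Nat.card_zpowers]
      refine (Nat.card_congr (e.subtypeEquiv fun g => ⟨sub g, fun h => nb g ((he _ _).2 (Or.inl h))⟩)).symm
    obtain ⟨b, -, hb⟩ := exists_elt (this ▸ hd : p * q ∣ orderOf (e x))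
    exact ⟨b, hb⟩
  exfalso
  have all : ∀ s, s.Prime → s ∣ n → e (a s) ∉ zpowers (e x) := fun s hs sn h =>
    nadj s p hs hp sn pn (fun e => hc (e ▸ h)) (join _ (ha p) hc _ h)
  have sub : ∀ g, e g ∈ zpowers (e x) → g = 1 ∨ zpowers g = zpowers x := fun g h =>
    dom g (nb g ((he _ _).2 (Or.inl h))) fun s hs sn => join _ (ha s) (all s hs sn) _ h
  have x1' : ∀ g, zpowers g = zpowers x → orderOf g = n := fun g h => by
    rw [hn, ← Nat.card_zpowers, h, Nat.card_zpowers]
  have pq : p < p * q := (Nat.lt_mul_iff_one_lt_right hp.pos).2 hq.one_lt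
  have c1 : n.totient + 1 ≤ orderOf (e x) := by
    rw [hn, ← card_gen, ← Set.ncard_insert_of_notMem (a := 1) (fun h => by
      have := x1' 1 h
      rw [orderOf_one] at this
      have := Nat.le_of_dvd n0.bot_lt hd
      have := hp.one_lt
      omega), ← Nat.card_zpowers, ← Set.ncard_image_of_injective _ e.injective]
    refine (Set.ncard_le_ncard (t := zpowers (e x)) ?_).trans (Nat.card_coe_set_eq _).ge
    rintro _ ⟨g, rfl | hg, rfl⟩
    · rw [e1]; exact one_mem _
    · exact gen g hg
  have c2 : (p - 1) * (q - 1) ≤ n.totient := by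
    have := Nat.le_of_dvd (Nat.totient_pos.2 n0.bot_lt) (Nat.totient_dvd_of_dvd hd)
    rwa [Nat.totient_mul ((Nat.coprime_primes hp hq).2 hpq.ne), Nat.totient_prime hp, Nat.totient_prime hq] at this
  have tp := Nat.totient_pos.2 n0.bot_lt
  have c3 : orderOf (e x) ≤ 2 * (orderOf (e x)).totient := by
    have hr := Nat.minFac_prime (n := orderOf (e x)) (by omega)
    have h1 := Nat.eq_prime_pow_of_unique_prime_dvd (n := orderOf (e x)) (p := (orderOf (e x)).minFac) (by omega)
      (fun {d} hd' h => by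
        obtain ⟨u, hu, ou⟩ := exists_elt h
        obtain ⟨v, hv, ov⟩ := exists_elt (Nat.minFac_dvd (orderOf (e x)))
        obtain ⟨u, rfl⟩ := e.surjective u
        obtain ⟨v, rfl⟩ := e.surjective v
        have : Adj u v := by
          rcases sub u hu with c | c
          · exact Or.inl (c ▸ one_mem _)
          · exact Or.inr (c.ge (nb v ((he _ _).2 (Or.inl hv))))
        rcases ((he _ _).1 this).dvd with c | c <;> rw [ou, ov] at c
        · exact (Nat.prime_dvd_prime_iff_eq hd' hr).1 c
        · exact ((Nat.prime_dvd_prime_iff_eq hr hd').1 c).symm)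
    generalize (orderOf (e x)).primeFactorsList.length = k at h1
    generalize (orderOf (e x)).minFac = r at h1 hr
    rcases k with _ | k
    · rw [pow_zero] at h1; omega
    · rw [h1, Nat.totient_prime_pow_succ hr, pow_succ]
      have := hr.two_le
      calc r ^ k * r ≤ r ^ k * (2 * (r - 1)) := Nat.mul_le_mul_left _ (by omega)
        _ = _ := by ring
  obtain ⟨k, hk, ok⟩ := exists_elt hd
  obtain ⟨g, gk, og⟩ := exists_elt (x := k) (d := p) (by rw [ok]; exact dvd_mul_right p q)
  have hg : g ∈ zpowers x := zpowers_le.2 hk gk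
  have gU : e g ∉ zpowers (e x) := fun h => by
    rcases sub g h with c | c
    · rw [c, orderOf_one] at og; exact hp.one_lt.ne og
    · have := x1' g c
      have := Nat.le_of_dvd n0.bot_lt hd
      omega
  have c4 := Nat.le_of_dvd (Nat.totient_pos.2 (orderOf_pos _)) (Nat.totient_dvd_of_dvd
    (orderOf_dvd_of_mem_zpowers (((he g x).1 (Or.inl hg)).resolve_left gU)))
  have c5 : (orderOf (e g)).totient ≤ p - 1 := by
    rw [← Nat.totient_prime hp, ← og, ← card_gen, ← card_gen, ← Set.ncard_image_of_injective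
      {w | zpowers w = zpowers g} e.injective]
    refine Set.ncard_le_ncard fun u hu => ?_
    obtain ⟨w, rfl⟩ := e.surjective u
    refine ⟨w, ?_, rfl⟩
    have hu : zpowers (e w) = zpowers (e g) := hu
    have tw : ∀ t, Adj t w ↔ Adj t g := fun t => by
      rw [he, he]
      unfold Adj
      rw [hu, ← zpowers_le (g := e w), hu, zpowers_le]
    have nq : ∀ t, orderOf t = q → ¬ Adj t g := fun t ht h => by
      rcases h.dvd with c | c <;> rw [ht, og] at c
      · exact hpq.ne' ((Nat.prime_dvd_prime_iff_eq hq hp).1 c)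
      · exact hpq.ne ((Nat.prime_dvd_prime_iff_eq hp hq).1 c)
    have w1 : orderOf w ≠ 1 := fun h => by
      obtain ⟨t, -, ht⟩ := exists_elt qn
      exact nq t ht ((tw t).1 (Or.inr (by rw [orderOf_eq_one_iff.1 h]; exact one_mem _)))
    have qw : ¬ q ∣ orderOf w := fun h => by
      obtain ⟨t, h1, ht⟩ := exists_elt h
      exact nq t ht ((tw t).1 (Or.inl h1))
    have wp : orderOf w ∣ p := by
      rcases ((tw k).2 (Or.inr gk)).dvd with c | c <;> rw [ok] at c
      · exact absurd ((dvd_mul_left q p).trans c) qw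
      · exact ((Nat.coprime_comm.1 (hq.coprime_iff_not_dvd.2 qw))).dvd_of_dvd_mul_right c
    have ow : orderOf w = orderOf g := by rw [og]; exact ((Nat.dvd_prime hp).1 wp).resolve_left w1
    rcases (tw g).2 (Or.inl (mem_zpowers g)) with c | c
    · exact (zp_eq c ow.le).symm
    · exact zp_eq c ow.ge
  have : (p - 1) * 2 ≤ (p - 1) * (q - 1) := Nat.mul_le_mul_left _ (by have := hp.two_le; omega)
  omega

/-- Let G and H be finite groups whose power graphs are isomorphic: there is a bijection e : G → H such that, for all x, y, one of x, y is a power of the other exactly when one of e(x), e(y) is a power of the other. Then G and H have the same prime graph: for distinct primes p, q, G has an element of order pq if and only if H does. -/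
theorem result {G H : Type*} [Group G] [Finite G] [Group H] [Finite H] (e : G ≃ H)
    (he : ∀ x y : G, (x ∈ Subgroup.zpowers y ∨ y ∈ Subgroup.zpowers x) ↔
      (e x ∈ Subgroup.zpowers (e y) ∨ e y ∈ Subgroup.zpowers (e x)))
    {p q : ℕ} (hp : p.Prime) (hq : q.Prime) (hpq : p ≠ q) :
    (∃ g : G, orderOf g = p * q) ↔ (∃ h : H, orderOf h = p * q) := by
  have he' : ∀ x y : H, Adj x y ↔ Adj (e.symm x) (e.symm y) := fun x y => by
    have := he (e.symm x) (e.symm y)
    rw [e.apply_symm_apply, e.apply_symm_apply] at this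
    exact this.symm
  rcases lt_or_gt_of_ne hpq with h | h
  · exact ⟨dir e he hp hq h, dir e.symm he' hp hq h⟩
  · rw [mul_comm]
    exact ⟨dir e he hq hp h, dir e.symm he' hq hp h⟩


end Cfsg.Agent.S4085
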