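import Cfsg.Statements.S4086
import Cfsg.Agent.H1.PG2
import Cfsg.Agent.H2.BS16
import Cfsg.Agent.H1.Ten1

set_option autoImplicit false
open Cfsg

namespace Cfsg.Agent.S4086

/-- For a finite group G the following are equivalent: every non-identity element has prime-power order; whenever two elements generate a cyclic subgroup, one of them is a power of the other (the enhanced power graph of G coincides with its power graph). -/
theorem result {G : Type*} [Group G] [Finite G] :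
    (∀ g : G, g ≠ 1 → IsPrimePow (orderOf g)) ↔
    (∀ x y : G, IsCyclic ↥(Subgroup.closure ({x, y} : Set G)) → (x ∈ Subgroup.zpowers y ∨ y ∈ Subgroup.zpowers x)) := by
  open Subgroup CfsgH1 CfsgFT CfsgH2 in
  refine ⟨fun h x y hc => ?_, fun h g g1 => ?_⟩
  · obtain ⟨g, hg⟩ := isCyclic_iff_zpowers.1 hc
    have hx : x ∈ zpowers g := hg ▸ subset_closure (by simp)
    have hy : y ∈ zpowers g := hg ▸ subset_closure (by simp)
    by_cases e : g = 1
    · left; rw [e, zpowers_one_eq_bot, mem_bot] at hx; exact hx ▸ one_mem _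
    obtain ⟨p, k, hp, -, hk⟩ := (isPrimePow_nat_iff _).1 (h g e)
    obtain ⟨i, -, hi⟩ := (Nat.dvd_prime_pow hp).1 (hk ▸ orderOf_dvd_of_mem_zpowers hx)
    obtain ⟨j, -, hj⟩ := (Nat.dvd_prime_pow hp).1 (hk ▸ orderOf_dvd_of_mem_zpowers hy)
    exact (le_total i j).imp (fun e => mem_zpowers_of_orderOf_dvd hx hy (hi ▸ hj ▸ pow_dvd_pow p e))
      fun e => mem_zpowers_of_orderOf_dvd hy hx (hi ▸ hj ▸ pow_dvd_pow p e)
  · obtain ⟨p, hp, hd⟩ := Nat.exists_prime_and_dvd (orderOf_eq_one_iff.not.2 g1)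
    refine isPrimePow_iff_unique_prime_dvd.2 ⟨p, ⟨hp, hd⟩, fun q ⟨hq, hd'⟩ => ?_⟩
    obtain ⟨i, hi⟩ := exists_prime_order_pow hd
    obtain ⟨j, hj⟩ := exists_prime_order_pow hd'
    rcases h (g ^ i) (g ^ j) (CfsgH2.isCyclic_of_le' (K := zpowers g) inferInstance ((closure_le _).2 (by
      rintro _ (rfl | rfl) <;> exact pow_mem (mem_zpowers g) _))) with e | e
    · exact ((Nat.prime_dvd_prime_iff_eq hp hq).1 (hi ▸ hj ▸ orderOf_dvd_of_mem_zpowers e)).symm
    · exact (Nat.prime_dvd_prime_iff_eq hq hp).1 (hi ▸ hj ▸ orderOf_dvd_of_mem_zpowers e)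

end Cfsg.Agent.S4086
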