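import Cfsg.Statements.S4088
import Cfsg.Agent.H1.Snz

set_option autoImplicit false
open Cfsg

namespace Cfsg.Agent.S4088

/-- Let G be a finite group, p a prime dividing the order of G, H a p-subgroup of G and P a Sylow p-subgroup of G. Call the subnormalizer of H the set of elements g of G such that H is subnormal in the subgroup generated by H and g. Then the number of elements of the subnormalizer of H equals the number of Sylow p-subgroups of G containing H times the order of N_G(P), and also equals the number of conjugates of H contained in P times the order of N_G(H). -/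
theorem result {G : Type*} [Group G] [Finite G] (p : ℕ) [Fact p.Prime]
    (hp : p ∣ Nat.card G) (H : Subgroup G) (hH : IsPGroup p H) (P : Sylow p G) :
    Nat.card {g : G // ((H).subgroupOf (H ⊔ Subgroup.zpowers g)).IsSubnormal} =
        Nat.card {Q : Sylow p G // H ≤ (Q : Subgroup G)} * Nat.card (Subgroup.normalizer ((P : Subgroup G) : Set G)) ∧
    Nat.card {g : G // ((H).subgroupOf (H ⊔ Subgroup.zpowers g)).IsSubnormal} =
        Nat.card {K : Subgroup G // K ≤ (P : Subgroup G) ∧ ∃ g : G, K = H.map (MulAut.conj g).toMonoidHom} *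
          Nat.card (Subgroup.normalizer (H : Set G)) := by
  open Subgroup CfsgH1 CfsgFT CfsgH2 in
  have h := card_sz' hH P
  constructor
  · have := card_sylowIn_mul (.of_sylow_top P) (H ≤ ·)
    simp only [mem_top, true_and, top_inf_eq] at this
    refine h.trans (this.trans (congrArg (· * _) (Nat.card_congr (Equiv.ofBijective (β := {K : Subgroup G // CfsgH2.IsSylowIn p K ⊤ ∧ H ≤ K}) (fun Q : {Q : Sylow p G // H ≤ Q} => ⟨Q.1, .of_sylow_top Q.1, Q.2⟩)
      ⟨fun a b e => Subtype.ext (Sylow.ext (congrArg Subtype.val e)), fun ⟨K, k1, k2⟩ => ?_⟩)).symm))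
    obtain ⟨Q, rfl⟩ := k1.of_top
    exact ⟨⟨Q, k2⟩, rfl⟩
  · have := card_cj_fib H ⊤ (· ≤ P)
    simp only [mem_top, true_and, top_inf_eq] at this
    exact h.trans ((Nat.card_congr ((Equiv.inv G).subtypeEquiv fun g => by
      rw [cj_le_iff_le_cj_inv, Equiv.inv_apply, inv_inv])).trans (this.trans (congrArg (· * _)
        (Nat.card_congr (Equiv.subtypeEquivRight fun K => and_comm)))))

end Cfsg.Agent.S4088
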