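import Cfsg.Statements.S4089
import Cfsg.Agent.H1.Snz

set_option autoImplicit false
open Cfsg

namespace Cfsg.Agent.S4089

/-- Let G be a finite group, p a prime and H a p-subgroup of G. Then the set of elements g of G such that H is subnormal in the subgroup generated by H and g is the union of the normalizers N_G(R) over the subgroups R of G containing H with R = O_p(N_G(R)); and this set does not change when H is replaced by the intersection of all Sylow p-subgroups of G containing H. -/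
theorem result {G : Type*} [Group G] [Finite G] (p : ℕ) [Fact p.Prime]
    (H : Subgroup G) (hH : IsPGroup p H) :
    {g : G | ((H).subgroupOf (H ⊔ Subgroup.zpowers g)).IsSubnormal} =
      {g : G | ∃ R : Subgroup G, H ≤ R ∧ (Cfsg.pCore p (Subgroup.normalizer (R : Set G))).map (Subgroup.normalizer (R : Set G)).subtype = R ∧ g ∈ Subgroup.normalizer (R : Set G)} ∧
    ∀ g : G, (((H).subgroupOf (H ⊔ Subgroup.zpowers g)).IsSubnormal ↔
      (((sInf {K : Subgroup G | ∃ Q : Sylow p G, H ≤ (Q : Subgroup G) ∧ K = (Q : Subgroup G)})).subgroupOf ((sInf {K : Subgroup G | ∃ Q : Sylow p G, H ≤ (Q : Subgroup G) ∧ K = (Q : Subgroup G)}) ⊔ Subgroup.zpowers g)).IsSubnormal) := by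
  open Subgroup CfsgH1 CfsgFT CfsgH2 in
  refine ⟨Set.ext fun g => (sz_rad hH).trans (by simp only [Opi_singleton_eq]; rfl), fun g => ?_⟩
  obtain ⟨Q, hQ⟩ := hH.exists_le_sylow
  have hI := Q.2.to_le (sInf_le (s := {K : Subgroup G | ∃ Q : Sylow p G, H ≤ (Q : Subgroup G) ∧ K = Q}) ⟨Q, hQ, rfl⟩)
  refine (sz_rad hH).trans (Iff.trans ⟨fun ⟨R, h⟩ => ⟨R, sInf_le_rad h.1 h.2.1, h.2⟩, fun ⟨R, h⟩ => ⟨R, le_trans ?_ h.1, h.2⟩⟩
    (sz_rad hI).symm)
  exact le_sInf (by rintro _ ⟨Q, h, rfl⟩; exact h)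

end Cfsg.Agent.S4089
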