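import Cfsg.Statements.S4092
import Cfsg.Agent.H1.PG3

set_option autoImplicit false
open Cfsg

namespace Cfsg.Agent.S4092

/-- Let G be a finite group, p a prime and P a Sylow p-subgroup of G that is not normal in G. Then G has at least p·#P elements of p-power order (the identity included). -/
theorem result {G : Type*} [Group G] [Finite G] (p : ℕ) [Fact p.Prime]
    (P : Sylow p G) (hP : ¬ (P : Subgroup G).Normal) :
    p * Nat.card (P : Subgroup G) ≤ Nat.card {g : G // ∃ k : ℕ, orderOf g = p ^ k} := by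
  open Subgroup CfsgH1 CfsgFT CfsgH2 MulAction in
  have pp : p.Prime := Fact.out
  obtain ⟨A, Q, hAQ, hmax⟩ := exists_max_inter hP
  have cS : ∀ U : Sylow p G, Nat.card U = Nat.card P := fun U => by
    rw [P.card_eq_multiplicity, U.card_eq_multiplicity]
  set D := (A : Subgroup G) ⊓ Q with hD
  have uq : ∀ (U V : Sylow p G) (x : G), D ≤ U → D ≤ V → x ∈ (U : Subgroup G) → x ∈ (V : Subgroup G) → x ∉ D → U = V :=
    fun U V x h1 h2 h3 h4 h5 => by
      by_contra h
      exact h5 (CfsgH1.eq_of_le_of_card_le (le_inf h1 h2) (hmax U V h) ▸ mem_inf.2 ⟨h3, h4⟩)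
  have l1 := lt_inf_normalizer A.isPGroup' (sylow_lt_of_ne hAQ)
  set X := (A : Subgroup G) ⊓ N(D)
  have hX : IsPGroup p X := A.isPGroup'.to_le inf_le_left
  have o1 : ∀ U ∈ orbit X Q, D ≤ U ∧ U ≠ A := by
    rintro _ ⟨g, rfl⟩
    refine ⟨?_, fun e => hAQ ?_⟩
    · change D ≤ ((g : G) • Q : Sylow p G)
      rw [sylow_smul_coe, ← cj_eq_iff_mem_normalizer.2 g.2.2]; exact cj_mono _ inf_le_right
    · exact (Sylow.smul_eq_iff_mem_normalizer.2 (le_normalizer g⁻¹.2.1)).symm.trans (eq_inv_smul_iff.2 e).symm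
  have o2 : p ≤ Nat.card (orbit X Q) := by
    rw [Nat.card_coe_set_eq, ← index_stabilizer, stab_sylow hX]
    obtain ⟨j, hj⟩ := hX.index ((Q : Subgroup G).subgroupOf X)
    rw [hj]
    refine Nat.le_self_pow (fun e => l1.not_ge (le_inf inf_le_left (relIndex_eq_one.1 ?_))) p
    rw [e] at hj; exact hj
  haveI := Fintype.ofFinite (orbit X Q)
  have c1 : Nat.card {x : orbit X Q × G // x.2 ∈ (x.1.1 : Subgroup G) ∧ x.2 ∉ D} =
      Nat.card (orbit X Q) * (Nat.card P - Nat.card D) := by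
    rw [card_pairs fun (U : orbit X Q) (g : G) => g ∈ (U.1 : Subgroup G) ∧ g ∉ D,
      Finset.sum_congr rfl fun U _ => (card_sdiff (o1 U.1 U.2).1).trans (by rw [cS])]
    simp
  have c2 := Nat.card_le_card_of_injective (α := {x : orbit X Q × G // x.2 ∈ (x.1.1 : Subgroup G) ∧ x.2 ∉ D} ⊕ A)
    (β := {g : G // ∃ k : ℕ, orderOf g = p ^ k}) (Sum.elim (fun x => ⟨x.1.2, exists_orderOf_eq_pow x.1.1.1.isPGroup' x.2.1⟩)
      fun x => ⟨x.1, exists_orderOf_eq_pow A.isPGroup' x.2⟩) (by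
      rintro (⟨⟨U, a⟩, ha⟩ | a) (⟨⟨V, b⟩, hb⟩ | b) h <;> replace h := congrArg Subtype.val h <;> simp only [Sum.elim_inl, Sum.elim_inr] at h
      · subst h
        obtain rfl : U = V := Subtype.ext (uq _ _ a (o1 _ U.2).1 (o1 _ V.2).1 ha.1 hb.1 ha.2)
        rfl
      · exact absurd (uq _ _ a (o1 _ U.2).1 inf_le_left ha.1 (h ▸ b.2) ha.2) (o1 _ U.2).2
      · exact absurd (uq _ _ b (o1 _ V.2).1 inf_le_left hb.1 (h ▸ a.2) hb.2) (o1 _ V.2).2
      · rw [Subtype.ext h])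
  rw [Nat.card_sum, c1, show Nat.card A = Nat.card P from cS A] at c2
  obtain ⟨M, m1, m2, m3, -⟩ := exists_relIndex_prime A.isPGroup' (sylow_lt_of_ne hAQ)
  have c3 := CfsgH1.card_mul_relIndex m2
  rw [m3, cS A] at c3
  have c4 : p * Nat.card D ≤ Nat.card P := by rw [← c3, mul_comm]; exact Nat.mul_le_mul_right _ (card_le_of_le m1)
  have c5 := Nat.mul_le_mul_right (Nat.card P - Nat.card D) o2
  rw [Nat.mul_sub] at c5
  omega

end Cfsg.Agent.S4092
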