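import Cfsg.Statements.S4093
import Cfsg.Agent.H1.PG3

set_option autoImplicit false
open scoped BigOperators
open Cfsg

namespace Cfsg.Agent.S4093

/-- Let G be a finite group with a normal subgroup N complementing a Sylow p-subgroup P (a normal p-complement). Then the number of elements of G of p-power order equals the sum over x ∈ P of the index of C_N(x) in N. -/
theorem result {G : Type*} [Group G] [Finite G] (p : ℕ) [Fact p.Prime]
    (P : Sylow p G) (N : Subgroup G) [N.Normal] (hNP : N.IsComplement' (P : Subgroup G)) :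
    Nat.card {g : G // ∃ k : ℕ, orderOf g = p ^ k} =
      ∑ᶠ x : (P : Subgroup G), Nat.card N / Nat.card ↥(N ⊓ Subgroup.centralizer ({(x : G)} : Set G)) := by
  open Subgroup CfsgH1 CfsgFT CfsgH2 in
  haveI := Fintype.ofFinite (P : Subgroup G)
  rw [finsum_eq_sum_of_fintype, Finset.sum_congr rfl fun (x : (P : Subgroup G)) _ =>
    (Nat.eq_div_of_mul_eq_left Nat.card_pos.ne' (card_cls_in N (x : G))).symm,
    ← card_pairs fun (x : (P : Subgroup G)) (y : G) => ∃ a ∈ N, a * x * a⁻¹ = y]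
  refine (Nat.card_eq_of_bijective (fun x => ⟨x.1.2, by
    obtain ⟨a, -, h⟩ := x.2
    rw [← h, orderOf_conj']; exact exists_orderOf_eq_pow P.isPGroup' x.1.1.2⟩) ⟨?_, ?_⟩).symm
  · rintro ⟨⟨x, y⟩, a, ha, h⟩ ⟨⟨x', y'⟩, b, hb, h'⟩ e
    obtain rfl : y = y' := congrArg Subtype.val e
    have h1 : (x : G) * (x' : G)⁻¹ ∈ N := by
      rw [← QuotientGroup.eq_one_iff, QuotientGroup.mk_mul, QuotientGroup.mk_inv, mul_inv_eq_one]
      simpa [(QuotientGroup.eq_one_iff _).2 ha, (QuotientGroup.eq_one_iff _).2 hb] using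
        congrArg (QuotientGroup.mk' N) (h.trans h'.symm)
    obtain rfl : x = x' := Subtype.ext (mul_inv_eq_one.1
      (disjoint_def.1 hNP.disjoint h1 (mul_mem x.2 (inv_mem x'.2))))
    rfl
  · rintro ⟨g, k, hk⟩
    obtain ⟨c, hc⟩ := exists_conj_mem_sylow P hk
    obtain ⟨⟨n, y⟩, h⟩ := hNP.2 c⁻¹
    refine ⟨⟨(⟨_, mul_mem (mul_mem y.2 hc) (inv_mem y.2)⟩, g), n, n.2, ?_⟩, rfl⟩
    replace h : (n : G) * y = c⁻¹ := h
    rw [eq_mul_inv_of_mul_eq h]; group

end Cfsg.Agent.S4093
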