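import Cfsg.Statements.S4106
import Cfsg.Agent.H2.Cls

set_option autoImplicit false
open Cfsg

namespace Cfsg.Agent.S4106
open Subgroup CfsgH2
open scoped commutatorElement

open CfsgFT CfsgH1

universe u

theorem aux (m : ℕ) : m ≠ 0 → ∀ (π : Set ℕ) (G : Type u) [Group G] [Finite G],
    (∀ d, IsPiNum π d → d ∣ Nat.card G → d ∣ m) → Nat.card {D : ConjClasses G // ∀ q : ℕ, q.Prime →
      (∃ g : G, ConjClasses.mk g = D ∧ q ∣ orderOf g) → q ∈ π} ≤ m := by
  induction m using Nat.recOnPrimePow with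
  | zero => exact fun h => absurd rfl h
  | one =>
    refine fun _ π G _ _ h => Finite.card_le_one_iff_subsingleton.2 ⟨fun ⟨a, ha⟩ ⟨b, hb⟩ => Subtype.ext ?_⟩
    obtain ⟨x, rfl⟩ := ConjClasses.exists_rep a
    obtain ⟨y, rfl⟩ := ConjClasses.exists_rep b
    exact congrArg ConjClasses.mk ((orderOf_eq_one_iff.1 (Nat.dvd_one.1 (h _ ((pi_class_iff π x).1 ha)
      (orderOf_dvd_natCard x)))).trans (orderOf_eq_one_iff.1 (Nat.dvd_one.1 (h _ ((pi_class_iff π y).1 hb)
        (orderOf_dvd_natCard y)))).symm)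
  | prime_pow_mul m p a hp hm _ ih =>
    intro h0 π G _ _ h
    haveI := Fact.mk hp
    have m0 : m ≠ 0 := fun e => hm (e ▸ dvd_zero p)
    have k : ∀ d, IsPiNum (π \ {p}) d → d ∣ Nat.card G → d ∣ m := fun d h1 h2 =>
      (((IsPiNum.compl_singleton_iff hp).1 (h1.mono fun _ h => h.2)).pow_right a).dvd_of_dvd_mul_left
        (h d (h1.mono Set.sdiff_subset) h2)
    by_cases c : p ∈ π
    swap
    · exact (ih m0 π G fun d h1 => k d (h1.mono fun q h => ⟨h, fun e => c (e ▸ h)⟩)).trans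
        (Nat.le_mul_of_pos_left _ (pow_pos hp.pos a))
    obtain ⟨S, hS⟩ := IsSylowIn.exists_sylowIn p (⊤ : Subgroup G)
    have k1 : Nat.card {D : ConjClasses G // ∀ q : ℕ, q.Prime → (∃ g : G, ConjClasses.mk g = D ∧ q ∣ orderOf g) →
        q ∈ ({p} : Set ℕ)} ≤ p ^ a := by
      refine (Nat.card_le_card_of_surjective (fun x : S => ⟨ConjClasses.mk x.1, (pi_class_iff _ _).2
        ((IsPiNum.of_isPGroup (π := {p}) hS.pgroup rfl).of_dvd (Subgroup.orderOf_dvd_natCard S x.2))⟩) ?_).trans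
          (Nat.le_of_dvd (pow_pos hp.pos a) ?_)
      · rintro ⟨D, hD⟩
        obtain ⟨x, rfl⟩ := ConjClasses.exists_rep D
        obtain ⟨j, hj⟩ := (IsPiNum.singleton_iff hp (orderOf_pos x).ne').1 ((pi_class_iff _ _).1 hD)
        obtain ⟨g, -, hg⟩ := hS.exists_cj_le (isPGroup_zpowers_of_orderOf hj) le_top
        exact ⟨⟨_, hg (conj_mem_cj g (mem_zpowers x))⟩, Subtype.ext (ConjClasses.mk_eq_mk_iff_isConj.2
          (isConj_iff.2 ⟨g, rfl⟩).symm)⟩
      · have := h _ (IsPiNum.of_isPGroup hS.pgroup c) (card_subgroup_dvd_card S)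
        rw [hS.card_eq] at this ⊢
        exact (((Nat.Prime.coprime_iff_not_dvd hp).2 hm).pow_left _).dvd_of_dvd_mul_right this
    refine Nat.le_of_mul_le_mul_right (le_trans ?_ (Nat.mul_le_mul_right _ (Nat.mul_le_mul_right m k1)))
      (Nat.card_pos (α := G))
    rw [mul_comm _ m, mul_assoc, card_pi_classes_mul, card_pi_classes_mul]
    obtain ⟨e, he⟩ := exists_pi_exp {p} G
    refine le_trans ?_ (card_pairs_le (P := fun x : G => IsPiNum {p} (orderOf x)) (R := fun x g : G => g ∈ C1(x))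
      (Q := fun x (w : G × G) => (w.1 ∈ C1(x) ∧ w.2 ∈ C1(x)) ∧
      IsPiNum (π \ {p}) (orderOf w.1) ∧ w.2 ∈ C1(w.1)) fun x _ => ?_)
    · refine Nat.card_le_card_of_injective (fun x => ⟨(x.1.1 ^ e, x.1.1 * (x.1.1 ^ e)⁻¹, x.1.2), (he _).1,
        ⟨mul_mem (mem_cent1'.2 ((Commute.refl _).pow_right e)) (inv_mem (self_mem_cent1 _)),
          mem_cent1.2 (Commute.pow_left (mem_cent1.1 x.2.2) e)⟩, fun q h1 h2 => ⟨x.2.1 q h1 (h2.trans
            (orderOf_dvd_of_mem_zpowers (mul_mem (mem_zpowers _) (inv_mem (pow_mem (mem_zpowers _) e))))), ?_⟩,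
        mem_cent1.2 (Commute.mul_left (mem_cent1.1 x.2.2) (Commute.pow_left (mem_cent1.1 x.2.2) e).inv_left)⟩) ?_
      · rintro rfl
        obtain ⟨k, hk⟩ := h2
        have h3 : orderOf ((x.1.1 * (x.1.1 ^ e)⁻¹) ^ k) = q := by
          rw [orderOf_pow_of_dvd (fun e => (orderOf_pos _).ne' (by rw [hk, e, mul_zero])) ⟨q, by rw [hk, mul_comm]⟩, hk,
            Nat.mul_div_cancel _ (Nat.pos_of_ne_zero fun e => (orderOf_pos _).ne' (by rw [hk, e, mul_zero]))]
        have h4 := (he ((x.1.1 * (x.1.1 ^ e)⁻¹) ^ k)).2.1 (by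
          rw [h3]; exact fun r a b => (Nat.prime_dvd_prime_iff_eq a h1).1 b)
        rw [← pow_mul, mul_comm k, pow_mul, pi_parts he, one_pow] at h4
        exact h1.ne_one (by rw [← h3, ← h4, orderOf_one])
      · rintro ⟨⟨y, n⟩, h1⟩ ⟨⟨z, m⟩, h3⟩ h
        simp only [Subtype.mk.injEq, Prod.mk.injEq] at h ⊢
        exact ⟨mul_right_cancel (h.1 ▸ h.2.1), h.2.2⟩
    · refine le_trans (le_of_eq ?_) (Nat.mul_le_mul_right _ (ih m0 (π \ {p}) C1(x) fun d h1 h2 =>
        k d h1 (h2.trans (card_subgroup_dvd_card _))))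
      rw [card_pi_classes_mul, ← card_subtype_subtype]
      refine Nat.card_congr ((Equiv.subtypeProdEquivProd (p := (· ∈ C1(x))) (q := (· ∈ C1(x)))).subtypeEquiv
        fun ⟨⟨a, b⟩, _⟩ => ?_)
      rw [← orderOf_coe, mem_cent1, mem_cent1, Subtype.ext_iff]
      rfl

/-- Let G be a finite group, π a set of primes and m the π-part of the order of G. Then the number of conjugacy classes of G consisting of π-elements (elements whose order is divisible only by primes in π) is at most m. -/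
theorem result {G : Type*} [Group G] [Finite G]
    (π : Set ℕ) (hπ : ∀ q ∈ π, q.Prime)
    (m : ℕ) (hm : m ∣ Nat.card G) (hmπ : ∀ q : ℕ, q.Prime → q ∣ m → q ∈ π)
    (hm' : ∀ q ∈ π, ¬ q ∣ Nat.card G / m) :
    Nat.card {C : ConjClasses G // ∀ q : ℕ, q.Prime → (∃ g : G, ConjClasses.mk g = C ∧ q ∣ orderOf g) → q ∈ π} ≤ m := by
  obtain ⟨k, hk⟩ := hm
  have m0 : m ≠ 0 := fun e => Nat.card_pos.ne' (by rw [hk, e, zero_mul])
  rw [hk, Nat.mul_div_cancel_left _ (Nat.pos_of_ne_zero m0)] at hm'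
  exact aux m m0 π G fun d h1 h2 => (h1.coprime (IsPiNum.compl_iff.2 fun q _ => hm' q)).dvd_of_dvd_mul_right (hk ▸ h2)


end Cfsg.Agent.S4106
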