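import Cfsg.Statements.S4107
import Cfsg.Agent.H2.Mix
import Cfsg.Agent.H2.Transfer2

set_option autoImplicit false
open Cfsg

namespace Cfsg.Agent.S4107
open Subgroup CfsgH2
open scoped commutatorElement

open CfsgFT CfsgH1 CfsgLead

/-- Let G be a finite group and N a proper non-trivial normal subgroup such that for every x outside N all elements of the coset xN have the same order as x. Then N ≤ F(G) or F(G) ≤ N, where F(G) is the Fitting subgroup; and if N is properly contained in F(G) then F(G) has prime-power order. -/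
theorem result {G : Type*} [Group G] [Finite G] (N : Subgroup G) [N.Normal] (hN1 : N ≠ ⊥) (hN2 : N ≠ ⊤)
    (heq : ∀ x : G, x ∉ N → ∀ n ∈ N, orderOf (x * n) = orderOf x) :
    (N ≤ Cfsg.fittingSubgroup G ∨ Cfsg.fittingSubgroup G ≤ N) ∧
    (N < Cfsg.fittingSubgroup G → IsPrimePow (Nat.card (Cfsg.fittingSubgroup G))) := by
  have k : ∀ p : Nat.Primes, pCore p G ≤ N ∨ N ≤ pCore p G := fun ⟨p, hp⟩ => or_iff_not_imp_left.2 fun c => by
    haveI := Fact.mk hp
    obtain ⟨x, a, b⟩ := SetLike.not_le_iff_exists.1 c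
    obtain ⟨j, hj⟩ := exists_orderOf_eq_pow (isPGroup_pCore p G) a
    rw [← map_mk'_eq_bot_iff, eq_bot_iff, ← pCore_quotient_pCore p G]
    haveI := Subgroup.Normal.map (inferInstance : N.Normal) _ (QuotientGroup.mk'_surjective (pCore p G))
    refine le_pCore ?_
    rintro ⟨_, n, hn, rfl⟩
    refine ⟨j, Subtype.ext ?_⟩
    have := congrArg (QuotientGroup.mk' (pCore p G)) (pow_orderOf_eq_one (x * n))
    rwa [heq x b n hn, hj, map_pow, map_mul, QuotientGroup.mk'_apply _ x, (QuotientGroup.eq_one_iff x).2 a, one_mul,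
      map_one] at this
  have k2 : ¬ fittingSubgroup G ≤ N → ∃ p : Nat.Primes, N ≤ pCore p G := fun c => by
    by_contra! d
    exact c (fitting_eq_iSup_pCore.le.trans (iSup_le fun p => (k p).resolve_right (d p)))
  refine ⟨or_iff_not_imp_right.2 fun c => ?_, fun c => ?_⟩
  · obtain ⟨⟨p, hp⟩, h⟩ := k2 c
    haveI := Fact.mk hp
    exact h.trans (pCore_le_fitting p)
  · obtain ⟨⟨p, hp⟩, h⟩ := k2 c.not_ge
    haveI := Fact.mk hp
    refine isPrimePow_card_of_isPGroup ((isPGroup_pCore p G).to_le (fitting_eq_iSup_pCore.le.trans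
      (iSup_le fun ⟨q, hq⟩ => ?_))) (ne_bot_of_gt c)
    refine (k ⟨q, hq⟩).elim (·.trans h) fun d => ?_
    by_cases e : q = p
    · subst e; exact le_rfl
    haveI := Fact.mk hq
    exact (hN1 (eq_bot_iff.2 ((le_inf d h).trans (IsPGroup.disjoint_of_ne q p e _ _ (isPGroup_pCore q G)
      (isPGroup_pCore p G)).le_bot))).elim


end Cfsg.Agent.S4107
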