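import Cfsg.Statements.S4108
import Cfsg.Agent.H2.Cls
import Cfsg.Agent.H1.Frob

set_option autoImplicit false
open Cfsg

namespace Cfsg.Agent.S4108
open Subgroup CfsgH2
open scoped commutatorElement

open CfsgFT CfsgH1

/-- Let G be a finite group, p a prime and N a proper non-trivial normal p-subgroup such that for every x outside N all elements of the coset xN have the same order as x. Then every non-trivial subgroup H of G of order prime to p acts fixed-point-freely on N: NH is a Frobenius group with complement H and kernel N. -/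
theorem result {G : Type*} [Group G] [Finite G] (N : Subgroup G) [N.Normal] (hN1 : N ≠ ⊥) (hN2 : N ≠ ⊤)
    (heq : ∀ x : G, x ∉ N → ∀ n ∈ N, orderOf (x * n) = orderOf x)
    (p : ℕ) [Fact p.Prime] (hNp : IsPGroup p N) :
    ∀ H : Subgroup G, H ≠ ⊥ → (Nat.card H).Coprime p →
      Cfsg.IsFrobeniusComplement (H.subgroupOf (N ⊔ H)) ∧ Cfsg.frobeniusKernel (H.subgroupOf (N ⊔ H)) = (N.subgroupOf (N ⊔ H) : Set ↥(N ⊔ H)) := by
  intro H h1 h2
  have d : N ⊓ H = ⊥ := (disjoint_of_isPGroup_of_coprime hNp h2).eq_bot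
  have c : IsComplement' (N.subgroupOf (N ⊔ H)) (H.subgroupOf (N ⊔ H)) := isComplement'_of_inf_of_sup
    (by rw [subgroupOf, subgroupOf, ← comap_inf, d]; exact bot_subgroupOf _)
    (by rw [← sup_subgroupOf le_sup_left le_sup_right, subgroupOf_self])
  have f := frob_of_fpf c (fun e => hN1 (le_bot_iff.1 ((le_inf le_rfl le_sup_left).trans (subgroupOf_eq_bot.1 e).le_bot)))
    (fun e => h1 (le_bot_iff.1 ((le_inf le_rfl le_sup_right).trans (subgroupOf_eq_bot.1 e).le_bot))) fun h a b =>
      eq_bot_iff.2 fun n ⟨n1, n2⟩ => by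
        have e := heq h (fun e => b (Subtype.ext (d.le ⟨e, a⟩))) n n1
        rw [Commute.orderOf_mul_eq_mul_orderOf_of_coprime (congrArg Subtype.val (mem_cent1.1 n2)) (((IsPGroup.coprime_card_of_coprime
          hNp h2).symm.coprime_dvd_left (Subgroup.orderOf_dvd_natCard H a)).coprime_dvd_right
            (Subgroup.orderOf_dvd_natCard N n1)), mul_eq_left₀ (orderOf_pos _).ne', orderOf_eq_one_iff] at e
        exact Subtype.ext e
  exact ⟨f, frobKernel_eq c f⟩


end Cfsg.Agent.S4108
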