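import Cfsg.Statements.S4112
import Cfsg.Agent.H2.Cls

set_option autoImplicit false
open Cfsg

namespace Cfsg.Agent.S4112
open Subgroup CfsgH2
open scoped commutatorElement

open CfsgFT CfsgH1

/-- Let G be a finite group and M ≤ N non-trivial proper normal subgroups such that for every g outside N the conjugacy class of g is a union of cosets of M (equivalently gm is conjugate to g for every m ∈ M). Then (1) and (2) below are equivalent, and they imply (3): (1) every g outside N acts fixed-point-freely on M, that is C_G(x) ≤ N for every x ∈ M, x ≠ 1; (2) the index of N in G is coprime to the order of M; (3) there is a subgroup H of G with HN = G and H ∩ M = 1. -/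
theorem result {G : Type*} [Group G] [Finite G] (N M : Subgroup G) [N.Normal] [M.Normal] (hMN : M ≤ N) (hM1 : M ≠ ⊥) (hN2 : N ≠ ⊤)
    (hcam : ∀ g : G, g ∉ N → ∀ m ∈ M, ∃ x : G, x * g * x⁻¹ = g * m) :
    ((∀ x ∈ M, x ≠ 1 → Subgroup.centralizer ({x} : Set G) ≤ N) ↔ N.index.Coprime (Nat.card M)) ∧
    ((∀ x ∈ M, x ≠ 1 → Subgroup.centralizer ({x} : Set G) ≤ N) → ∃ H : Subgroup G, H ⊔ N = ⊤ ∧ H ⊓ M = ⊥) := by
  have k : (∀ x ∈ M, x ≠ 1 → C1(x) ≤ N) → N.index.Coprime (Nat.card M) := fun h => Nat.coprime_of_dvd fun q hq a b => by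
    haveI := Fact.mk hq
    obtain ⟨Q, hQ⟩ := IsSylowIn.exists_sylowIn q (⊤ : Subgroup G)
    have n : Q ≤ N(M) := le_top.trans (normalizer_eq_top _).ge
    obtain ⟨x, h1, h2, -, h3⟩ := exists_central_of_ne_bot hQ.pgroup inf_le_left (le_normalizer_inf' le_normalizer n)
      fun e => (hQ.inf_of_normalizer' le_top (normalizer_eq_top _).ge).eq_bot_iff.1 e b
    exact hQ.not_dvd_of_le ((le_cent1_iff.2 h3).trans (h x h1.2 h2)) le_top (by rwa [relIndex_top_right])
  refine ⟨⟨k, fun h x hx h1 g hg => by_contra fun h2 => h1 ?_⟩, fun h => ?_⟩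
  · obtain ⟨e, he⟩ := exists_pi_exp {p | ¬ p ∣ N.index} G
    obtain ⟨y, hy⟩ := hcam (g * (g ^ e)⁻¹) (fun h => h2 ((N.mul_mem_cancel_right (N.inv_mem
      (mem_of_coprime_orderOf_index (IsPiNum.coprime_iff.1 (he g).1)))).1 h)) x hx
    have : (y * (g * (g ^ e)⁻¹) * y⁻¹) ^ e = (g * (g ^ e)⁻¹ * x) ^ e := congrArg (· ^ e) hy
    rw [conj_pow, pi_parts he, Commute.mul_pow (Commute.mul_left (mem_cent1'.1 hg) (Commute.pow_left
      (mem_cent1'.1 hg) e).inv_left), pi_parts he, (he x).2.1 (IsPiNum.coprime_iff.2 (h.symm.coprime_dvd_left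
        (Subgroup.orderOf_dvd_natCard M hx)))] at this
    simpa using this.symm
  · obtain ⟨H, -, h1, h2⟩ := exists_minimal_subgroup (Φ := fun H : Subgroup G => H ⊔ N = ⊤) (top_sup_eq N)
    refine ⟨H, h1, (disjoint_of_coprime_natCard (Nat.coprime_of_dvd fun q hq a b => ?_)).eq_bot⟩
    have h3 : N.subgroupOf H ≤ frattini H := le_frattini_iff.2 fun K hK => by_contra fun e => hK.1 (by
      have h4 := congrArg (map H.subtype) (hK.2 _ (left_lt_sup.2 e))
      rw [Subgroup.map_sup, subgroupOf_map_subtype, ← MonoidHom.range_eq_map, range_subtype] at h4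
      have := h2 (K.map H.subtype) (top_le_iff.1 (h1.ge.trans (sup_le (h4.ge.trans (sup_le_sup_left inf_le_left _))
        le_sup_right))) (map_subtype_le _)
      rw [← subgroupOf_map_subtype_self K, this, subgroupOf_self])
    exact hq.one_lt.ne' (Nat.eq_one_of_dvd_coprimes (k h) (((prime_dvd_index_frattini hq a).trans
      (index_dvd_of_le h3)).trans (relIndex_dvd_index_of_normal N H)) b)


end Cfsg.Agent.S4112
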