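import Cfsg.Statements.S4113
import Cfsg.Agent.H2.Cls

set_option autoImplicit false
open Cfsg

namespace Cfsg.Agent.S4113
open Subgroup CfsgH2
open scoped commutatorElement

open CfsgFT CfsgH1

/-- Let G be a finite group, M ≤ N non-trivial proper normal subgroups, and H a subgroup with HM = G and H ∩ M = 1. Then every element of G outside N acts fixed-point-freely on M (C_G(x) ≤ N for every x ∈ M, x ≠ 1) if and only if H ∩ gHg⁻¹ ≤ H ∩ N for every g outside H, with H proper and non-trivial and H ∩ N proper in H. -/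
theorem result {G : Type*} [Group G] [Finite G] (N M : Subgroup G) [N.Normal] [M.Normal] (hMN : M ≤ N) (hM1 : M ≠ ⊥) (hN2 : N ≠ ⊤)
    (H : Subgroup G) (hHM : H ⊔ M = ⊤) (hHM' : H ⊓ M = ⊥) :
    (∀ x ∈ M, x ≠ 1 → Subgroup.centralizer ({x} : Set G) ≤ N) ↔
      (H ≠ ⊥ ∧ H ≠ ⊤ ∧ H ⊓ N < H ∧ ∀ g : G, g ∉ H → H ⊓ H.map (MulAut.conj g).toMonoidHom ≤ N) := by
  simp only [cj_def]
  have d : ∀ g : G, ∃ m ∈ M, ∃ h ∈ H, m * h = g := fun g =>
    mem_sup_of_normal_left.1 ((sup_comm H M ▸ hHM).ge (mem_top g))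
  have u : ∀ m ∈ M, m ∈ H → m = 1 := fun m a b => hHM'.le ⟨b, a⟩
  constructor
  · intro h
    refine ⟨fun e => hN2 (top_le_iff.1 (hHM.ge.trans (sup_le (e.le.trans bot_le) hMN))),
      fun e => hM1 (by rwa [e, top_inf_eq] at hHM'), inf_lt_left.2 fun e => hN2 (top_le_iff.1 (hHM.ge.trans
        (sup_le e hMN))), fun g hg y ⟨h1, h2⟩ => ?_⟩
    obtain ⟨m, hm, x, hx, rfl⟩ := d g
    rw [← cj_cj, cj_eq_of_mem hx] at h2
    refine h m hm (fun e => hg (by rwa [e, one_mul])) (mem_cent1'.2 ?_)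
    have := u (y⁻¹ * (m⁻¹ * y * m)) (by
      simpa [mul_assoc] using M.mul_mem (‹M.Normal›.conj_mem' _ (M.inv_mem hm) y) hm) (H.mul_mem (H.inv_mem h1) (mem_cj.1 h2))
    rw [inv_mul_eq_one, mul_assoc, eq_inv_mul_iff_mul_eq] at this
    exact this.symm
  · rintro ⟨-, -, -, h⟩ x hx h1 c hc
    by_contra h2
    let f : M × {h // h ∈ H ∧ h ∉ N} → {g // g ∉ N} := fun z => ⟨z.1 * z.2 * (z.1 : G)⁻¹, fun e => z.2.2.2 (by
      simpa [mul_assoc] using ‹N.Normal›.conj_mem' _ e z.1)⟩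
    have f1 : Function.Injective f := fun ⟨m, a, a1, a2⟩ ⟨n, b, b1, b2⟩ e => by
      have e' : (m : G) * a * (m : G)⁻¹ = n * b * (n : G)⁻¹ := congrArg Subtype.val e
      have h3 := u _ (M.mul_mem (M.inv_mem m.2) n.2) (by_contra fun h' => a2 (h _ h' ⟨a1, mem_cj.2 (by
        convert b1 using 1
        calc _ = (n : G)⁻¹ * (m * a * (m : G)⁻¹) * n := by group
          _ = b := by rw [e']; group)⟩))
      obtain rfl : m = n := Subtype.ext (inv_mul_eq_one.1 h3)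
      obtain rfl : a = b := by simpa using e'
      rfl
    obtain ⟨⟨m, a, a1, a2⟩, e⟩ := (f1.bijective_of_nat_card_le (Nat.card_le_card_of_surjective
      (fun z => ⟨z.1 * z.2, fun e => z.2.2.2 ((N.mul_mem_cancel_left (hMN z.1.2)).1 e)⟩) fun ⟨g, hg⟩ => by
        obtain ⟨m, hm, y, hy, rfl⟩ := d g
        exact ⟨(⟨m, hm⟩, ⟨y, hy, fun e => hg (N.mul_mem (hMN hm) e)⟩), rfl⟩)).2 ⟨c, h2⟩
    obtain rfl : (m : G) * a * (m : G)⁻¹ = c := congrArg Subtype.val e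
    refine a2 (h ((m : G)⁻¹ * x * m) (fun e => h1 ?_) ⟨a1, mem_cj.2 ?_⟩)
    · simpa [mul_assoc, inv_mul_eq_one] using u _ (‹M.Normal›.conj_mem' _ hx m) e
    · convert a1 using 1
      calc _ = (m : G)⁻¹ * x⁻¹ * (m * a * (m : G)⁻¹ * x) * m := by group
        _ = a := by rw [← mem_cent1.1 hc]; group


end Cfsg.Agent.S4113
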