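import Cfsg.Statements.S4115
import Cfsg.Agent.H1.FC5

set_option autoImplicit false
universe u
open Cfsg

namespace Cfsg.Agent.S4115

/-- Let G be a finite group and H a subgroup that meets each of its conjugates by elements outside N_G(H) trivially and whose order is coprime to its index in N_G(H). Then H has a normal complement in N_G(H) if and only if H has a normal complement in G. Moreover, if H is not normal in G and has a normal complement in N_G(H), then H is isomorphic to a Frobenius complement of some finite Frobenius group. -/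
theorem result {G : Type u} [Group G] [Finite G] (H : Subgroup G)
    (hTI : Cfsg.IsTISubset (H : Set G)) (hHall : (Nat.card H).Coprime (H.subgroupOf (Subgroup.normalizer (H : Set G))).index) :
    ((∃ K : Subgroup (Subgroup.normalizer (H : Set G)), K.Normal ∧ K.IsComplement' (H.subgroupOf (Subgroup.normalizer (H : Set G)))) ↔
      (∃ N : Subgroup G, N.Normal ∧ N.IsComplement' H)) ∧
    (¬ H.Normal → (∃ K : Subgroup (Subgroup.normalizer (H : Set G)), K.Normal ∧ K.IsComplement' (H.subgroupOf (Subgroup.normalizer (H : Set G)))) →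
      ∃ (F : Type u) (_ : Group F) (_ : Finite F) (C : Subgroup F), Cfsg.IsFrobeniusComplement C ∧ Nonempty (H ≃* C)) := by
  open Subgroup CfsgH1 CfsgFT CfsgH2 in
  have k : (∃ K : Subgroup N(H), K.Normal ∧ K.IsComplement' (H.subgroupOf N(H))) →
      ∃ N : Subgroup G, N.Normal ∧ N.IsComplement' H := fun ⟨K, _, hK⟩ => by
    have i : H.relIndex N(H) = Nat.card K := hK.index_eq_card
    obtain ⟨M, this, h1, h2⟩ := frob_wielandt (map_subtype_le K) (le_norm_map_subtype K) fun a ha c g e => by
      refine ti_norm hTI (x := a ^ Nat.card K) (i ▸ pow_relIndex_mem' le_rfl ha) (fun k => c ?_)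
        (by rw [← conj_pow, ← i]; exact pow_relIndex_mem' le_rfl e)
      refine mem_map_of_mem _ (CfsgH2.mem_of_pow_mem_of_coprime ?_ (K.pow_index_mem (⟨a, ha⟩ : N(H))))
      rw [hK.symm.index_eq_card, card_subgroupOf le_normalizer, Subgroup.orderOf_mk]
      exact hHall.symm.coprime_dvd_left ((orderOf_dvd_of_pow_eq_one k).trans i.symm.dvd)
    refine ⟨M, this, isComplement'_of_disjoint_and_mul_eq_univ (disjoint_iff.2 (eq_bot_iff.2 fun x hx => ?_)) ?_⟩
    · obtain ⟨y, hy, rfl⟩ := h1.le ⟨hx.1, le_normalizer hx.2⟩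
      simp [hK.disjoint.eq_bot.le (mem_inf.2 ⟨hy, hx.2⟩) |> mem_bot.1]
    · rw [← normal_mul, coe_eq_univ, eq_top_iff, ← h2]
      refine sup_le le_sup_left fun x hx => ?_
      obtain ⟨⟨a, b⟩, e⟩ := hK.2 ⟨x, hx⟩
      rw [← show a.1.1 * b.1.1 = x from congrArg Subtype.val e]
      exact mul_mem (mem_sup_left (h1.ge (mem_map_of_mem _ a.2)).1) (mem_sup_right b.2)
  refine ⟨⟨k, fun ⟨N, _, hN⟩ => ⟨N.subgroupOf _, inferInstance, isComplement'_of_disjoint_and_mul_eq_univ
    (disjoint_iff.2 (eq_bot_iff.2 fun x hx => Subtype.ext (hN.disjoint.eq_bot.le (mem_inf.2 hx))))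
    (Set.eq_univ_of_forall fun x => ?_)⟩⟩, fun h1 h2 => ?_⟩
  · obtain ⟨⟨a, b⟩, e⟩ := hN.2 x
    exact ⟨⟨a, (mul_mem_cancel_right (le_normalizer b.2)).1 ((show a.1 * b.1 = x from e) ▸ x.2)⟩, a.2, ⟨b, le_normalizer b.2⟩, b.2,
      Subtype.ext e⟩
  obtain ⟨M, _, hM⟩ := k h2
  haveI := (nontrivial_iff_ne_bot H).2 (by rintro rfl; exact h1 inferInstance)
  exact (ti_fc hTI (M := M) le_normalizer_of_normal (by
    rw [← hM.index_eq_card, ← relIndex_top_right]; exact (ti_hall hTI hHall).coprime) fun c =>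
    h1 (normal_of_top_le (hM.sup_eq_top.ge.trans (sup_le c le_normalizer)))).frob

end Cfsg.Agent.S4115
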