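import Cfsg.Statements.S4116
import Cfsg.Agent.H1.FC5

set_option autoImplicit false
open Cfsg

namespace Cfsg.Agent.S4116

/-- Let G be a finite group with a subgroup H whose order is coprime to its index (a Hall subgroup) and which meets each of its conjugates by elements outside N_G(H) trivially. Then every subgroup of G whose order is divisible only by primes dividing the order of H lies in a conjugate of H. -/
theorem result {G : Type*} [Group G] [Finite G] (H : Subgroup G)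
    (hHall : (Nat.card H).Coprime H.index) (hTI : Cfsg.IsTISubset (H : Set G))
    (K : Subgroup G) (hK : ∀ q : ℕ, q.Prime → q ∣ Nat.card K → q ∣ Nat.card H) :
    ∃ g : G, K ≤ H.map (MulAut.conj g).toMonoidHom := by
  open Subgroup CfsgH1 CfsgFT CfsgH2 in
  have hall : Hall (pr H) H ⊤ := .of_coprime le_top (by rwa [relIndex_top_right])
  have cv : ∀ x ∈ K, ∃ g, x ∈ cj g H := fun x hx => by
    rcases eq_or_ne x 1 with rfl | x1
    · exact ⟨1, one_mem _⟩
    obtain ⟨p, hp, d⟩ := exists_prime_dvd_card (mt zpowers_eq_bot.1 x1)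
    obtain ⟨y, hy, o⟩ := exists_orderOf_eq_prime hp d
    haveI := Fact.mk hp
    obtain ⟨S, hS⟩ := IsSylowIn.exists_sylowIn (p := p) H
    obtain ⟨g, -, e⟩ := (hall.sylow (hK p hp (d.trans (card_dvd_of_le (zpowers_le.2 hx)))) hS).exists_cj_le
      (isPGroup_zpowers_of_orderOf (o.trans (pow_one p).symm)) le_top
    have m := hS.le (e (conj_mem_cj g (mem_zpowers y)))
    refine ⟨g⁻¹, mem_cj.2 ((hall.mono le_normalizer le_top).mem_of_normal le_rfl (ti_norm hTI m (by
      simpa using fun e => hp.one_lt.ne' (o ▸ orderOf_eq_one_iff.2 e)) ?_) fun q hq d => hK q hq (d.trans ?_))⟩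
    · obtain ⟨k, rfl⟩ := hy
      simpa [mul_assoc, ← mul_assoc x, (Commute.self_zpow x k).eq] using m
    · simpa [orderOf_conj'] using orderOf_dvd_natCard K hx
  by_contra! c
  have fr : ∀ g, (cj g H).subgroupOf K ≠ ⊥ → IsFrobeniusComplement ((cj g H).subgroupOf K) := fun g b =>
    ⟨b, fun e => c g (subgroupOf_eq_top.1 e), fun k hk => eq_bot_iff.2 fun x hx => by_contra fun x1 => hk (by
      have := ti_norm hTI (g := g⁻¹ * k⁻¹ * g) (mem_cj.1 hx.1) (fun e => x1 (Subtype.ext (eq_one_of_inv_conj e)))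
        (by simpa [mul_assoc] using mem_cj.1 (mem_subgroupOf.1 (mem_conj_smul.1 (mem_inf.1 hx).2)))
      exact inv_mem_iff.1 (mem_cj.2 ((hall.mono le_normalizer le_top).mem_of_normal le_rfl this fun q hq d => hK q hq
        (d.trans (by simpa [orderOf_conj'] using (orderOf_conj' g⁻¹ k⁻¹).dvd.trans (orderOf_dvd_natCard K (inv_mem k.2)))))))⟩
  have ne : ∀ {x : K} {g}, x ≠ 1 → x.1 ∈ cj g H → (cj g H).subgroupOf K ≠ ⊥ := fun x1 m e => x1 (e.le m)
  obtain ⟨x, x1⟩ := ne_bot_iff_exists_ne_one.1 (show K ≠ ⊥ by rintro rfl; exact c 1 bot_le)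
  obtain ⟨g, hg⟩ := cv x x.2
  obtain ⟨N, n1, -, -, n2, -⟩ := frob_data (fr g (ne x1 hg))
  obtain ⟨y, y1⟩ := ne_bot_iff_exists_ne_one.1 n2
  replace y1 : y.1 ≠ 1 := fun e => y1 (Subtype.ext e)
  obtain ⟨g', hg'⟩ := cv y y.1.2
  obtain ⟨k, e⟩ := frob_conj (fr g (ne x1 hg)) (fr g' (ne y1 hg'))
  exact (mem_frobKernel.1 (n1.le y.2)).resolve_left y1 k⁻¹ (by simpa [← e] using conj_mem_conj_smul (g := k) (mem_subgroupOf.2 hg'))

end Cfsg.Agent.S4116
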