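import Cfsg.Statements.S4117
import Cfsg.Agent.H1.FC5

set_option autoImplicit false
open Cfsg

namespace Cfsg.Agent.S4117

/-- Let A be a finite group acting on the finite group G by automorphisms with the orders of A and G coprime, and suppose every Sylow subgroup of G is cyclic. Then the fixed-point subgroup C_G(A) is a Hall subgroup of G (its order is coprime to its index), the subgroup [G, A] generated by the elements g⁻¹·a(g) is cyclic and normal with [G, A] ∩ C_G(A) = 1 and [G, A]·C_G(A) = G. -/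
theorem result {G A : Type*} [Group G] [Finite G] [Group A] [Finite A]
    [MulDistribMulAction A G] (hcop : (Nat.card A).Coprime (Nat.card G))
    (hcyc : ∀ (p : ℕ) [Fact p.Prime] (P : Sylow p G), IsCyclic (P : Subgroup G)) :
    (Nat.card (MulAction.fixedPoints A G : Set G)).Coprime (Nat.card G / Nat.card (MulAction.fixedPoints A G : Set G)) ∧
    IsCyclic (Subgroup.closure {y : G | ∃ (a : A) (g : G), y = g⁻¹ * a • g}) ∧
    (Subgroup.closure {y : G | ∃ (a : A) (g : G), y = g⁻¹ * a • g}).Normal ∧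
    (Subgroup.closure {y : G | ∃ (a : A) (g : G), y = g⁻¹ * a • g} : Set G) ∩ MulAction.fixedPoints A G = {1} ∧
    Subgroup.closure {y : G | ∃ (a : A) (g : G), y = g⁻¹ * a • g} ⊔ Subgroup.closure (MulAction.fixedPoints A G) = ⊤ := by
  open Subgroup CfsgH1 CfsgFT CfsgH2 in
  haveI : IsZGroup G := ⟨fun p hp => @hcyc p ⟨hp⟩⟩
  let φ := MulDistribMulAction.toMulAut A G
  let i : G →* G ⋊[φ] A := SemidirectProduct.inl
  have hi : Function.Injective i := SemidirectProduct.inl_injective
  haveI := sdL_top_normal (φ := φ)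
  haveI : IsZGroup (sdL φ ⊤) := .of_surjective ((i.subgroupMap_surjective ⊤))
  have c : (Nat.card (sdR φ ⊤)).Coprime (Nat.card (sdL φ ⊤)) := by rwa [card_sdL_top, card_sdR, card_top]
  obtain ⟨h1, h2, -⟩ := zg_act le_normalizer_of_normal c
  have s := commutator_sup_centralizer le_normalizer_of_normal c (solv_or c)
  set K := closure {y : G | ∃ (a : A) (g : G), y = g⁻¹ * a • g}
  set F := FixedPoints.subgroup A G
  have e1 : K.map i = ⁅sdL φ ⊤, sdR φ ⊤⁆ := by
    refine le_antisymm (map_le_iff_le_comap.2 ((closure_le _).2 ?_)) (commutator_le.2 ?_)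
    · rintro _ ⟨a, g, rfl⟩
      have := commutator_mem_commutator (mem_map_of_mem i (mem_top g⁻¹)) (mem_map_of_mem SemidirectProduct.inr (mem_top a))
      refine mem_comap.2 (Eq.mp (congrArg (· ∈ _) ?_) this)
      ext <;> simp [i, φ, commutatorElement_def]
    · rintro _ ⟨g, -, rfl⟩ _ ⟨a, -, rfl⟩
      exact ⟨_, subset_closure ⟨a, g⁻¹, rfl⟩, by ext <;> simp [i, φ, commutatorElement_def]⟩
  have e2 : F.map i = sdL φ ⊤ ⊓ C(sdR φ ⊤) := by
    refine le_antisymm ?_ ?_
    · rintro _ ⟨g, hg, rfl⟩
      refine mem_inf.2 ⟨⟨g, trivial, rfl⟩, ?_⟩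
      rintro _ ⟨a, -, rfl⟩
      ext <;> simp [i, φ, hg a]
    · rintro _ ⟨⟨g, -, rfl⟩, hg⟩
      exact ⟨g, fun a => by simpa [φ] using congrArg SemidirectProduct.left (hg _ ⟨a, trivial, rfl⟩), rfl⟩
  have n : K.Normal := by
    rw [← comap_map_eq_self_of_injective hi K, e1]
    exact ⟨fun x hx g => by
      simpa [sdL] using CfsgH2.conj_mem_of_mem_normalizer (normalizer_commutator_ge_left _ _ (mem_map_of_mem i (mem_top g))) hx⟩
  rw [← e1, ← e2, card_map_of_injective hi, card_map_of_injective hi] at h2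
  rw [← e1, ← e2, ← Subgroup.map_sup] at s
  replace s := map_injective hi s
  have d := disjoint_of_coprime_natCard h2
  have k := card_sup_of_disjoint (K := K) (A := F) le_normalizer_of_normal d
  rw [s, card_top] at k
  refine ⟨?_, (K.equivMapOfInjective i hi).isCyclic.2 (e1 ▸ h1), n, ?_, ?_⟩
  · change (Nat.card F).Coprime (Nat.card G / Nat.card F)
    rw [k, Nat.mul_div_cancel _ Nat.card_pos]; exact h2.symm
  · exact congrArg SetLike.coe d.eq_bot
  · exact (congrArg (K ⊔ ·) (closure_eq F)).trans s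

end Cfsg.Agent.S4117
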