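import Cfsg.Statements.S4118
import Cfsg.Agent.H1.FC5

set_option autoImplicit false
open Cfsg

namespace Cfsg.Agent.S4118

/-- Let G be a finite group and H a non-normal subgroup meeting each of its conjugates by elements outside N_G(H) trivially, with the order of H coprime to its index in N_G(H); let π be the set of primes dividing the order of H and suppose G is π-separable (it has a chain of normal subgroups from 1 to G each of whose factors has order divisible only by primes in π or coprime to the order of H). Let O be the largest normal subgroup of G of order coprime to the order of H. Then G = O·N_G(H), O·H is normal in G, and G is solvable if and only if O is solvable and H has no subgroup isomorphic to SL₂(5). -/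
theorem result {G : Type*} [Group G] [Finite G] (H : Subgroup G)
    (hTI : Cfsg.IsTISubset (H : Set G)) (hnn : ¬ H.Normal)
    (hHall : (Nat.card H).Coprime (H.subgroupOf (Subgroup.normalizer (H : Set G))).index)
    (hsep : ∃ (n : ℕ) (M : Fin (n + 1) → Subgroup G), M 0 = ⊥ ∧ M (Fin.last n) = ⊤ ∧ Monotone M ∧ (∀ i, (M i).Normal) ∧
      ∀ i : Fin n, (∀ q : ℕ, q.Prime → q ∣ (M i.castSucc).relIndex (M i.succ) → q ∣ Nat.card H) ∨
        ((M i.castSucc).relIndex (M i.succ)).Coprime (Nat.card H))
    (O : Subgroup G) (hO : O = sSup {K : Subgroup G | K.Normal ∧ (Nat.card K).Coprime (Nat.card H)}) :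
    O ⊔ Subgroup.normalizer (H : Set G) = ⊤ ∧ (O ⊔ H).Normal ∧
    (Group.IsSolvable G ↔ Group.IsSolvable O ∧
      ∀ K : Subgroup G, K ≤ H → ¬ Nonempty (K ≃* Matrix.SpecialLinearGroup (Fin 2) (ZMod 5))) := by
  open Subgroup CfsgH1 CfsgFT CfsgH2 in
  obtain rfl : O = piCore (pr H)ᶜ G := hO.trans (le_antisymm (sSup_le fun K hK =>
    haveI := hK.1; le_piCore (isPi_compl_pr_iff.2 hK.2)) (le_sSup ⟨inferInstance, isPi_compl_pr_iff.1 (isPiNum_card_piCore _ _)⟩))
  obtain ⟨t, h⟩ := ti_sep hTI hnn hHall hsep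
  have o : IsPi (pr H)ᶜ (piCore (pr H)ᶜ G) := isPiNum_card_piCore _ _
  set O := piCore (pr H)ᶜ G
  have n : ∀ K : Subgroup G, N(H) ≤ N(K) → (O ⊔ K).Normal := fun K hK => normal_of_top_le (t.ge.trans
    (sup_le (le_sup_left.trans le_normalizer) (CfsgH1.le_normalizer_sup le_normalizer_of_normal hK)))
  haveI := n H le_rfl
  refine ⟨t, this, fun _ => ⟨inferInstance, fun K _ ⟨e⟩ => not_solv_S5 (Group.isSolvable_of_surjective (f := e.toMonoidHom) e.surjective)⟩,
    fun ⟨s, k⟩ => ?_⟩
  haveI : Group.IsSolvable H := by_contra fun c => by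
    obtain ⟨L, -, -, ⟨e⟩, -⟩ := h.nonsolv c
    exact k _ (map_subtype_le L) ⟨(L.equivMapOfInjective _ H.subtype_injective).symm.trans e⟩
  haveI : Group.IsSolvable ↥(O ⊔ H) := isSolvable_sup_of_le_normalizer le_normalizer_of_normal s this
  haveI : Group.IsSolvable (G ⧸ (O ⊔ H)) := by
    have hall := ti_hall hTI hHall
    rcases Nat.even_or_odd (Nat.card H) with e | e
    · exact CfsgPF.feit_thompson (Nat.not_even_iff_odd.1 fun d => hall.idx_of_le (K := O ⊔ H) le_sup_right 2 Nat.prime_two
        (by rw [relIndex_top_right]; exact d.two_dvd) e.two_dvd)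
    haveI := h.zg_odd e
    obtain ⟨Q, q1, q2, -, q4⟩ := sz_exists (N := H) le_normalizer le_rfl hHall
    have c : (Nat.card Q).Coprime (Nat.card H) := q2 ▸ hHall.symm
    have z := (zg_act q1 c).2.2
    haveI := n ⁅Q, Q⁆ (q4.ge.trans (sup_le (le_norm_of_cent' z) (le_norm_of_der_le le_rfl (der_le Q))))
    have l : ⁅Q, Q⁆ ≤ O := le_sup_right.trans (le_piCore (N := O ⊔ ⁅Q, Q⁆)
      (o.sup (isPi_compl_pr_iff.2 (coprime_of_le_left c (der_le Q))) le_normalizer_of_normal))
    let π := QuotientGroup.mk' (O ⊔ H)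
    have m : Q.map π = ⊤ := by
      rw [← map_top_of_surjective π (QuotientGroup.mk'_surjective _), ← t, ← q4, ← sup_assoc, Subgroup.map_sup,
        (Subgroup.map_eq_bot_iff _).2 (QuotientGroup.ker_mk' _).ge, bot_sup_eq]
    refine ⟨1, ?_⟩
    rw [derivedSeries_one, _root_.commutator_def, ← m, ← map_commutator, Subgroup.map_eq_bot_iff, QuotientGroup.ker_mk']
    exact l.trans le_sup_left
  exact Group.isSolvable_of_ker_le_range (O ⊔ H).subtype (QuotientGroup.mk' (O ⊔ H)) (by simp)

end Cfsg.Agent.S4118
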