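import Cfsg.Statements.S4126
import Cfsg.Agent.H2.Mix
import Cfsg.Agent.S1946
import Cfsg.Agent.H1.Fact

set_option autoImplicit false
open Cfsg

namespace Cfsg.Agent.S4126
open Subgroup CfsgH2
open scoped commutatorElement

open CfsgFT CfsgH1 CfsgLead

/-- Let G be a finite group and p a prime. Suppose every element of order p, and when p = 2 also every element of order 4, has a conjugacy class of p-power size. Then G has a normal p-complement. -/
theorem result {G : Type*} [Group G] [Finite G] (p : ℕ) [Fact p.Prime]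
    (h : ∀ x : G, (orderOf x = p ∨ (p = 2 ∧ orderOf x = 4)) → ∃ a : ℕ, (Subgroup.centralizer ({x} : Set G)).index = p ^ a) :
    Cfsg.HasNormalPComplement p G := by
  obtain ⟨P⟩ : Nonempty (Sylow p G) := inferInstance
  refine (S1946.result P).2 fun a _ ho g _ => ?_
  by_cases e : a = 1
  · exact ⟨1, one_mem _, by simp [e]⟩
  obtain ⟨k, hk⟩ := h a (by
    rcases ho with ho | ⟨rfl, ho⟩
    · exact Or.inl (orderOf_eq_prime ho e)
    · by_cases d : a ^ 2 = 1
      · exact Or.inl (orderOf_eq_prime d e)
      · exact Or.inr ⟨rfl, orderOf_eq_prime_pow (p := 2) (n := 1) (by simpa using d) ho⟩)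
  obtain ⟨u, hu, c, hc, rfl⟩ := Fac.of_coprime (A := P) (B := C1(a)) (L := ⊤) le_top le_top (by
    rw [relIndex_top_right, relIndex_top_right, hk]
    exact (((Fact.out : p.Prime).coprime_iff_not_dvd.2 P.not_dvd_index).symm.pow_right _)) g (mem_top g)
  exact ⟨u, hu, by rw [mul_assoc u, ← mem_cent1.1 hc]; group⟩


end Cfsg.Agent.S4126
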