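import Cfsg.Statements.S4127
import Cfsg.Agent.H9.CSz

set_option autoImplicit false
open Cfsg

namespace Cfsg.Agent.S4127

/-- Let G be a finite group, p a prime and p^a the largest power of p dividing the size of any conjugacy class of G. If some element of p-power order has a conjugacy class of size exactly p^a, then G has a normal p-complement. -/
theorem result {G : Type*} [Group G] [Finite G] (p : ℕ) [Fact p.Prime]
    (a : ℕ) (hmax : ∀ y : G, ¬ p ^ (a + 1) ∣ (Subgroup.centralizer ({y} : Set G)).index)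
    (hx : ∃ x : G, (∃ k : ℕ, orderOf x = p ^ k) ∧ (Subgroup.centralizer ({x} : Set G)).index = p ^ a) :
    Cfsg.HasNormalPComplement p G := by
  open Subgroup CfsgH1 CfsgH2 CfsgFT CfsgH9 in
  have hp : p.Prime := Fact.out
  obtain ⟨x, ⟨k, hk⟩, hx⟩ := hx
  obtain ⟨P, hP⟩ := IsSylowIn.exists_sylowIn p C1(x)
  obtain ⟨h1, h2, h3⟩ := pcls_split (C := C1(x)) (fun y hy ho hd => hmax (x * y) (by
    rw [index_mul_of_coprime (mem_cent1.1 hy) (hk ▸ ho.symm.pow_left k), hx, pow_succ']
    exact Nat.mul_dvd_mul_right hd _)) hP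
  have hxP : x ∈ P := hP.le_of_normalizer (isPGroup_zpowers_of_orderOf hk)
    (zpowers_le.2 (mem_cent1.2 rfl)) (by
      rw [← centralizer_zpowers']; exact centralizer_le_normalizer _) (mem_zpowers x)
  have hxO := mem_pCore_of_index hk hx
  have h4 : resIn p C1(x) ≤ C(pCore p G) := by
    refine thompson_A_times_B hP.2 (hp.coprime_iff_not_dvd.2 h3).symm (CfsgH1.isPGroup_pCore p G)
      (le_centralizer_iff.1 h1) (le_top.trans (normalizer_eq_top _).ge) (le_top.trans (normalizer_eq_top _).ge) ?_
    refine le_trans ?_ (le_centralizer_iff.1 h1)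
    have e : pCore p G ⊓ C(P) ≤ pCore p G ⊓ C1(x) := inf_le_inf_left _ fun y hy =>
      mem_cent1.2 (mem_centralizer_iff.1 hy x hxP)
    refine e.trans (hP.le_of_normalizer ((CfsgH1.isPGroup_pCore p G).to_le inf_le_left) inf_le_right
      (le_normalizer_inf' (le_top.trans (normalizer_eq_top _).ge) le_normalizer))
  have h5 : resIn p C1(x) = resIn p C(pCore p G) := (resIn_eq_of_le_of_le h4 (by
    intro y hy
    exact mem_cent1.2 (mem_centralizer_iff.1 hy x hxO))).symm
  haveI : (resIn p C1(x)).Normal := h5 ▸ resIn_normal _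
  obtain ⟨l, hl⟩ := relIndex_resIn (p := p) C1(x)
  refine hasNPC_of_normal _ h3 (k := l + a) ?_
  rw [← relIndex_mul_index (resIn_le _), hl, hx, pow_add]

end Cfsg.Agent.S4127
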