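import Cfsg.Statements.S4130
import Cfsg.Agent.H9.SQ2

set_option autoImplicit false
open Cfsg

namespace Cfsg.Agent.S4130

/-- Let G be a finite group all of whose conjugacy class sizes are square-free. Then G is supersolvable, G/F(G) and the derived subgroup G′ are cyclic of square-free order (F(G) the Fitting subgroup, which is normal), F(G) has nilpotency class at most 2, and G is metabelian. -/
theorem result {G : Type*} [Group G] [Finite G]
    (h : ∀ x : G, Squarefree (Subgroup.centralizer ({x} : Set G)).index) :
    Cfsg.IsSupersolvable G ∧ (Cfsg.fittingSubgroup G).Normal ∧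
    (∀ _h : (Cfsg.fittingSubgroup G).Normal, IsCyclic (G ⧸ Cfsg.fittingSubgroup G) ∧ Squarefree (Cfsg.fittingSubgroup G).index) ∧
    IsCyclic (commutator G) ∧ Squarefree (Nat.card (commutator G)) ∧
    Subgroup.upperCentralSeries ↥(Cfsg.fittingSubgroup G) 2 = ⊤ ∧ commutator ↥(commutator G) = ⊥ := by
  open Subgroup CfsgH9.SQ in
    have h' : ∀ p : ℕ, p.Prime → ∀ x : G, ¬ p ^ 2 ∣ (centralizer ({x} : Set G)).index := fun p hp x =>
      sq p ▸ Nat.squarefree_iff_prime_squarefree.1 (h x) p hp
    have := solvable_of_not_four (h' 2 Nat.prime_two)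
    have sf : Squarefree (Nat.card (_root_.commutator G)) := Nat.squarefree_iff_prime_squarefree.2 fun p hp => by
      have : Fact p.Prime := ⟨hp⟩
      exact sq p ▸ not_dvd_comm (h' p hp)
    have cy := cyclic_comm sf
    have nil : ∀ (N : Subgroup G) [N.Normal], _root_.commutator G ≤ N → Group.IsNilpotent (G ⧸ N) := fun N _ k => by
      letI : CommGroup (G ⧸ N) := { QuotientGroup.Quotient.group N with
        mul_comm := (Subgroup.Normal.quotient_commutative_iff_commutator_le.2 k).is_comm.comm }
      infer_instance
    have n1 := nil _ le_rfl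
    have cm := cy.isMulCommutative
    have DF : _root_.commutator G ≤ fittingSubgroup G := CfsgH1.le_fitting_of_isMulCommutative
    have hc := le_cent (CfsgH1.isNilpotent_fitting G) DF cy sf
    have e : fittingSubgroup G = centralizer (_root_.commutator G) := le_antisymm (le_centralizer_iff.1 hc)
      (CfsgH1.le_fitting (CfsgH1.isNilpotent_of_central_quotient le_rfl inferInstance))
    obtain ⟨d, hd⟩ := CfsgH2.isCyclic_iff_zpowers.1 cy
    have si : Squarefree (fittingSubgroup G).index := by
      rw [e, ← hd, CfsgH2.centralizer_zpowers']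
      exact h d
    refine ⟨CfsgH1.ss_iff.2 (CfsgH1.ss_of_cyclic_normal cy CfsgH1.ss_of_nilpotent), inferInstance, fun _ => ⟨?_, si⟩, cy, sf,
      (eq_top_iff' _).2 fun x => Subgroup.mem_upperCentralSeries_succ_iff.2 fun y => ?_, CfsgH2.commutator_eq_bot_iff'.2 cm⟩
    · have := nil _ DF
      have := IsZGroup.of_squarefree (G := G ⧸ fittingSubgroup G) si
      infer_instance
    · rw [Subgroup.upperCentralSeries_one, mem_center_iff]
      exact fun g => Subtype.ext (mem_centralizer_iff.1 (hc (commutator_mem_commutator (mem_top x.1) (mem_top y.1))) g g.2)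

end Cfsg.Agent.S4130
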