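import Cfsg.Statements.S4134
import Cfsg.Agent.H9.CSz
import Cfsg.Agent.H2.StrEmb
import Cfsg.Agent.FT.Pi
import Cfsg.Agent.S3993

set_option autoImplicit false
open Cfsg

namespace Cfsg.Agent.S4134

open Subgroup in
theorem card_pow_comm {A : Type*} [CommGroup A] [Finite A] {a b d : ℕ} (hab : a.Coprime b)
    (h : Nat.card A = a * b) (h1 : a ∣ d) (h2 : d.Coprime b) : Nat.card {y : A // y ^ d = 1} = a := by
  have e := (powMonoidHom d : A →* A).ker.card_mul_index
  rw [index_ker, h] at e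
  have k1 : (Nat.card (powMonoidHom d : A →* A).ker).Coprime b := by
    apply Nat.coprime_of_dvd
    intro q hq h3 h4
    haveI := Fact.mk hq
    obtain ⟨⟨y, hy⟩, ho⟩ := exists_prime_orderOf_dvd_card' q h3
    rw [orderOf_mk] at ho
    have : q ∣ d := ho ▸ orderOf_dvd_of_pow_eq_one hy
    exact hq.one_lt.ne' (Nat.eq_one_of_dvd_coprimes h2 this h4)
  have k2 : (Nat.card (powMonoidHom d : A →* A).range).Coprime a := by
    apply Nat.coprime_of_dvd
    intro q hq h3 h4
    haveI := Fact.mk hq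
    obtain ⟨⟨w, hw⟩, ho⟩ := exists_prime_orderOf_dvd_card' q h3
    rw [orderOf_mk] at ho
    obtain ⟨y, rfl⟩ := hw
    have : q ∣ b := by
      rw [← ho]
      apply orderOf_dvd_of_pow_eq_one
      obtain ⟨c, rfl⟩ := h1
      rw [powMonoidHom_apply, ← pow_mul, mul_right_comm, ← h, pow_mul, pow_card_eq_one', one_pow]
    exact hq.one_lt.ne' (Nat.eq_one_of_dvd_coprimes hab h4 this)
  show Nat.card (powMonoidHom d : A →* A).ker = a
  exact Nat.dvd_antisymm (k1.dvd_of_dvd_mul_right (Dvd.intro _ e))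
    (k2.symm.dvd_of_dvd_mul_right (e ▸ Dvd.intro _ rfl))

open Subgroup CfsgH2 in
theorem part_count {H : Type*} [Group H] [Finite H] (c : H → Subgroup H) (h1 : ∀ x, x ∈ c x)
    (h2 : ∀ x y, x ≠ 1 → y ≠ 1 → y ∈ c x → c y = c x) (Q : H → Prop) (hQ : Q 1) {m : ℕ}
    (hm : ∀ x, x ≠ 1 → Nat.card {y : c x // Q y} = m + 1) :
    Nat.card {y // Q y} = 1 + Nat.card {C : Subgroup H // ∃ x, x ≠ 1 ∧ c x = C} * m := by
  have k : ∀ P : H → Prop, P 1 → Nat.card {y // P y} = 1 + Nat.card {y // P y ∧ y ≠ 1} := by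
    intro P hP
    rw [← card_add_card_not P (fun y => y = 1)]
    congr 1
    rw [Nat.card_eq_one_iff_exists]
    exact ⟨⟨1, hP, rfl⟩, fun y => Subtype.ext y.2.2⟩
  rw [k Q hQ]
  congr 1
  refine card_eq_mul_of_fiber (fun y => (⟨c y.1, y.1, y.2.2, rfl⟩ : {C : Subgroup H // ∃ x, x ≠ 1 ∧ c x = C})) ?_
  rintro ⟨_, x, hx, rfl⟩
  have := hm x hx
  rw [show Nat.card {y : c x // Q y} = Nat.card {y // y ∈ c x ∧ Q y} from card_subtype_subtype _ _,
    k _ ⟨one_mem _, hQ⟩, add_comm, Nat.add_right_cancel_iff] at this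
  rw [← this]
  refine Nat.card_congr ⟨fun y => ⟨y.1.1, ⟨?_, y.1.2.1⟩, y.1.2.2⟩, fun y => ⟨⟨y.1, y.2.1.2, y.2.2⟩,
    Subtype.ext (h2 x _ hx y.2.2 y.2.1.1)⟩, fun _ => rfl, fun _ => rfl⟩
  have e : c y.1.1 = c x := congrArg Subtype.val y.2
  exact e.le (h1 _)

open Subgroup CfsgH1 CfsgH2 in
theorem part_false {H : Type*} [Group H] [Finite H] (c : H → Subgroup H) (h1 : ∀ x, x ∈ c x)
    (h2 : ∀ x y, x ≠ 1 → y ≠ 1 → y ∈ c x → c y = c x) (h3 : ∀ x, x ≠ 1 → IsMulCommutative (c x))
    {k n : ℕ} (h4 : ∀ x, x ≠ 1 → Nat.card (c x) = k) (h5 : Nat.card H = k * n) (hn : 1 < n)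
    {p q : ℕ} (hp : p.Prime) (hq : q.Prime) (hpq : q ≠ p) (h6 : p ∣ k) (h7 : q ∣ k) : False := by
  have hH : Nat.card H ≠ 0 := Nat.card_pos.ne'
  have hk : k ≠ 0 := by rintro rfl; simp at h5; omega
  obtain ⟨i, a, ha, rfl⟩ := Nat.exists_eq_pow_mul_and_not_dvd hk p hp.one_lt.ne'
  obtain ⟨j, b, hb, rfl⟩ := Nat.exists_eq_pow_mul_and_not_dvd (n := n) (by omega) p hp.one_lt.ne'
  have ca := hp.coprime_iff_not_dvd.2 ha
  have cb := hp.coprime_iff_not_dvd.2 hb
  have hu : 1 < p ^ i := by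
    rcases i with _ | i
    · simp at h6; exact absurd h6 ha
    · exact Nat.one_lt_pow (by omega) hp.one_lt
  have ha1 : 1 < a := lt_of_lt_of_le hq.one_lt (Nat.le_of_dvd (Nat.pos_of_ne_zero (by rintro rfl; simp at ha))
    ((((Nat.coprime_primes hq hp).2 hpq).pow_right i).dvd_of_dvd_mul_left h7))
  obtain ⟨u, hu'⟩ : ∃ u, p ^ i = u + 1 := ⟨p ^ i - 1, by omega⟩
  obtain ⟨v, rfl⟩ : ∃ v, a = v + 1 := ⟨a - 1, by omega⟩
  set N := Nat.card {C : Subgroup H // ∃ x, x ≠ 1 ∧ c x = C} with hN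
  have c0 := part_count c h1 h2 (fun _ => True) trivial (m := u * v + u + v) (fun x hx => by
    rw [Nat.card_congr (Equiv.subtypeUnivEquiv fun _ => trivial), h4 x hx, hu']; ring)
  rw [Nat.card_congr (Equiv.subtypeUnivEquiv fun _ => trivial)] at c0
  have c1 := part_count c h1 h2 (fun y => y ^ (p ^ i * p ^ j) = 1) (one_pow _) (m := u) (fun x hx => by
    haveI := h3 x hx
    letI : CommGroup (c x) := { (inferInstance : Group (c x)) with mul_comm := mul_comm' }
    rw [← hu']
    refine Eq.trans ?_ (card_pow_comm (ca.pow_left i) (h4 x hx) (Dvd.intro _ rfl : _ ∣ p ^ i * p ^ j)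
      ((ca.pow_left i).mul_left (ca.pow_left j)))
    exact Nat.card_congr (Equiv.subtypeEquivRight fun y => by rw [Subtype.ext_iff]; simp))
  have c2 := part_count c h1 h2 (fun y => y ^ ((v + 1) * b) = 1) (one_pow _) (m := v) (fun x hx => by
    haveI := h3 x hx
    letI : CommGroup (c x) := { (inferInstance : Group (c x)) with mul_comm := mul_comm' }
    refine Eq.trans ?_ (card_pow_comm (ca.pow_left i).symm ((h4 x hx).trans (mul_comm _ _)) (Dvd.intro _ rfl : _ ∣ (v + 1) * b)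
      ((ca.pow_left i).symm.mul_left (cb.pow_left i).symm))
    exact Nat.card_congr (Equiv.subtypeEquivRight fun y => by rw [Subtype.ext_iff]; simp))
  have e1 : p ^ i * p ^ j ∣ Nat.card H := ⟨(v + 1) * b, by rw [h5]; ring⟩
  have e2 : (v + 1) * b ∣ Nat.card H := ⟨p ^ i * p ^ j, by rw [h5]; ring⟩
  have d1 := S3993.result _ e1
  have d2 := S3993.result _ e2
  rw [c1] at d1
  rw [c2] at d2
  rw [c0] at e1 e2
  rw [← hN] at d1 d2 e1 e2 c0
  have f1 : p ^ i * p ^ j ∣ N * (p ^ i * v) := by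
    rw [show 1 + N * (u * v + u + v) = 1 + N * u + N * ((u + 1) * v) by ring, ← hu'] at e1
    exact (Nat.dvd_add_right d1).1 e1
  have f2 : (v + 1) * b ∣ N * ((v + 1) * u) := by
    rw [show 1 + N * (u * v + u + v) = 1 + N * v + N * ((v + 1) * u) by ring] at e2
    exact (Nat.dvd_add_right d2).1 e2
  have g0 : (Nat.card H).Coprime N := by
    rw [c0, Nat.coprime_add_mul_left_left]; exact Nat.coprime_one_left _
  rw [← c0] at e1 e2
  have g1 := Nat.le_of_dvd (by omega) (Nat.dvd_of_mul_dvd_mul_left (by omega)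
    ((g0.coprime_dvd_left e1).dvd_of_dvd_mul_left f1))
  have g2 := Nat.le_of_dvd (by omega) (Nat.dvd_of_mul_dvd_mul_left (by omega)
    ((g0.coprime_dvd_left e2).dvd_of_dvd_mul_left f2))
  obtain ⟨x, hx⟩ : ∃ x : H, x ≠ 1 := by
    haveI : Nontrivial H := Finite.one_lt_card_iff_nontrivial.1 (by rw [h5]; exact hn.trans_le (Nat.le_mul_of_pos_left _ (Nat.pos_of_ne_zero hk)))
    exact exists_ne 1
  obtain ⟨y, -, hy⟩ : ∃ y ∈ (⊤ : Subgroup H), y ∉ c x := by
    apply SetLike.exists_of_lt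
    rw [lt_top_iff_ne_top]
    intro e
    have := h4 x hx
    rw [e, card_top, h5] at this
    exact hn.ne' (Nat.eq_of_mul_eq_mul_left (Nat.pos_of_ne_zero hk) (this.trans (mul_one _).symm))
  have hy1 : y ≠ 1 := by rintro rfl; exact hy (one_mem _)
  have hb : c x ⊓ c y = ⊥ := by
    rw [eq_bot_iff]
    rintro z ⟨z1, z2⟩
    by_contra z0
    exact hy (((h2 _ _ hx z0 z1).symm.trans (h2 _ _ hy1 z0 z2)).symm ▸ h1 y)
  have i1 := card_inf_mul_relIndex (c x) (c y)
  rw [hb, card_bot, one_mul, h4 y hy1] at i1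
  have i2 : (c x).relIndex (c y) ≤ (c x).index := by
    rw [← relIndex_top_right]
    exact relIndex_le_of_le_right le_top (relIndex_ne_zero _ _)
  have i3 := (c x).card_mul_index
  rw [h4 x hx, h5] at i3
  rw [Nat.eq_of_mul_eq_mul_left (by omega) i3, i1, hu'] at i2
  nlinarith [Nat.mul_le_mul g1 g2]

open Subgroup CfsgH1 CfsgH2 CfsgFT CfsgH9 in
theorem pquot {G : Type*} [Group G] [Finite G] {n : ℕ} (hn : 1 < n)
    (h : ∀ x : G, x ∉ center G → (C1(x)).index = n) {p q : ℕ} (hp : p.Prime) (hq : q.Prime)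
    (h1 : p ∣ (center G).index) (h2 : q ∣ (center G).index) : q = p := by
  by_contra hpq
  have hZ : ∀ x : G, center G ≤ C1(x) := fun x => center_le_centralizer _
  have hC : ∀ x y : G, x ∉ center G → y ∉ center G → C1(x) ≤ C1(y) → C1(x) = C1(y) := by
    intro x y hx hy hle
    apply CfsgH2.eq_of_le_of_card_le hle
    have e1 := C1(x).card_mul_index
    have e2 := C1(y).card_mul_index
    rw [h x hx] at e1
    rw [h y hy, ← e1] at e2
    exact (Nat.eq_of_mul_eq_mul_right (by omega) e2).le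
  have hL : ∀ u v : G, u ∉ center G → v ∉ center G → Commute u v → (orderOf u).Coprime (orderOf v) →
      C1(u) = C1(v) := by
    intro u v hu hv hc ho
    have e := cent1_mul_of_coprime hc ho
    have huv : u * v ∉ center G := fun k => hu (by
      rw [← cent1_eq_top] at k ⊢
      rw [k] at e
      exact top_le_iff.1 (e.le.trans inf_le_left))
    exact (hC _ _ huv hu (e.le.trans inf_le_left)).symm.trans (hC _ _ huv hv (e.le.trans inf_le_right))
  have hE : ∀ (r : ℕ), r.Prime → ∀ K : Subgroup G, center G ≤ K → r ∣ (center G).relIndex K →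
      ∃ y ∈ K, y ∉ center G ∧ ∃ k, orderOf y = r ^ k := by
    intro r hr K hK hd
    haveI := Fact.mk hr
    obtain ⟨S, hS⟩ := IsSylowIn.exists_sylowIn r K
    by_contra hc
    push Not at hc
    refine hS.not_dvd_of_le (fun y hy => ?_) hK hd
    by_contra e
    obtain ⟨k, hk⟩ := exists_orderOf_eq_pow hS.2 hy
    exact hc y (hS.1 hy) e k hk
  have hI : ∀ x : G, x ∉ center G → (center G).relIndex C1(x) * n = (center G).index := fun x hx => by
    rw [← h x hx, relIndex_mul_index (hZ x)]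
  have hD : ∀ (r : ℕ), r.Prime → r ∣ (center G).index → ∀ x : G, x ∉ center G →
      r ∣ (center G).relIndex C1(x) := by
    intro r hr hd x hx
    obtain ⟨y, -, hy, k, hk⟩ := hE r hr ⊤ le_top (by rwa [relIndex_top_right])
    rw [Nat.eq_of_mul_eq_mul_right (by omega) ((hI x hx).trans (hI y hy).symm)]
    by_contra hc
    refine hy (mem_of_pow_mem_of_coprime (hk ▸ (hr.coprime_iff_not_dvd.2 hc).pow_left k)
      (pow_relIndex_mem' (le_top.trans (normalizer_eq_top _).ge) (self_mem_cent1 y)))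
  have hA : ∀ x : G, x ∉ center G → C1(x) ≤ C(C1(x)) := by
    intro x hx
    obtain ⟨t, ht, x', hx', hxx, k, hk⟩ : ∃ t : ℕ, t.Prime ∧ ∃ x' ∈ zpowers x, x' ∉ center G ∧
        ∃ k, orderOf x' = t ^ k := by
      by_contra hc
      push Not at hc
      refine hx (zpowers_le.1 (le_of_forall_sylowIn_le fun r hr _ => ?_))
      obtain ⟨S, hS⟩ := IsSylowIn.exists_sylowIn r (zpowers x)
      refine ⟨S, hS, fun y hy => ?_⟩
      by_contra e
      obtain ⟨k, hk⟩ := exists_orderOf_eq_pow hS.2 hy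
      exact hc r hr.out y (hS.1 hy) e k hk
    rw [hC x x' hx hxx (by
      intro y hy
      obtain ⟨i, rfl⟩ := hx'
      exact mem_cent1.2 (Commute.zpow_left (mem_cent1.1 hy) i))]
    refine le_of_forall_sylowIn_le fun r hr _ => ?_
    obtain ⟨S, hS⟩ := IsSylowIn.exists_sylowIn r C1(x')
    refine ⟨S, hS, fun u hu => ?_⟩
    by_cases hu0 : u ∈ center G
    · exact center_le_centralizer _ hu0
    obtain ⟨l, hl⟩ := exists_orderOf_eq_pow hS.2 hu
    have e : C1(x') = C1(u) := by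
      by_cases hrt : t = r
      · subst hrt
        obtain ⟨s, hs, hst, hsd⟩ : ∃ s : ℕ, s.Prime ∧ s ≠ t ∧ s ∣ (center G).index := by
          by_cases e : p = t
          · exact ⟨q, hq, e ▸ hpq, h2⟩
          · exact ⟨p, hp, e, h1⟩
        obtain ⟨v, hv, hv0, j, hj⟩ := hE s hs _ (hZ x') (hD s hs hsd x' hxx)
        have cop := (Nat.coprime_primes hs ht).2 hst
        have e1 := hL x' v hxx hv0 (mem_cent1.1 hv) (hk ▸ hj ▸ cop.symm.pow _ _)
        exact e1.trans (hL v u hv0 hu0 (mem_cent1.1 (e1 ▸ hS.1 hu)) (hj ▸ hl ▸ cop.pow _ _))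
      · exact hL x' u hxx hu0 (mem_cent1.1 (hS.1 hu)) (hk ▸ hl ▸ ((Nat.coprime_primes ht hr.out).2 hrt).pow _ _)
    rw [e, mem_centralizer_iff]
    exact fun y hy => (mem_cent1.1 hy).symm
  obtain ⟨x₀, -, hx₀, -⟩ := hE p hp ⊤ le_top (by rwa [relIndex_top_right])
  have hout : ∀ y : G ⧸ center G, y ≠ 1 → y.out ∉ center G := fun y hy e =>
    hy (by rw [← y.out_eq', QuotientGroup.eq_one_iff]; exact e)
  refine part_false (fun y : G ⧸ center G => C1(y.out).map (QuotientGroup.mk' _))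
    (fun y => ⟨_, self_mem_cent1 _, y.out_eq'⟩) ?_ ?_ (k := (center G).relIndex C1(x₀)) ?_ (hI x₀ hx₀).symm hn
    hp hq hpq (hD p hp h1 _ hx₀) (hD q hq h2 _ hx₀)
  · rintro x y hx hy ⟨g, hg, e⟩
    congr 1
    refine (hC _ _ (hout x hx) (hout y hy) ?_).symm
    obtain ⟨z, hz⟩ := QuotientGroup.mk_out_eq_mul (center G) g
    rw [← e, QuotientGroup.mk'_apply, hz]
    intro w hw
    have e1 := mem_centralizer_iff.1 (hA _ (hout x hx) hw) g hg
    rw [mem_cent1, mul_assoc, ← mem_center_iff.1 z.2, ← mul_assoc, e1, mul_assoc]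
  · intro x hx
    haveI := isMulCommutative_iff_le_centralizer.2 (hA _ (hout x hx))
    infer_instance
  · intro x hx
    rw [← Nat.eq_of_mul_eq_mul_right (by omega) ((hI _ (hout x hx)).trans (hI _ hx₀).symm),
      ← relIndex_bot_left, ← relIndex_comap, MonoidHom.comap_bot, QuotientGroup.ker_mk']

/-- Let G be a finite group whose conjugacy classes have exactly two sizes, 1 and n > 1. Then n is a power of a prime p and G is the direct product of a p-group and an abelian group of order prime to p: its Sylow p-subgroup P is normal with an abelian normal complement centralizing it; moreover P has an abelian normal subgroup A with P/A of exponent dividing p. -/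
theorem result {G : Type*} [Group G] [Finite G] (n : ℕ) (hn : 1 < n)
    (h : ∀ x : G, (Subgroup.centralizer ({x} : Set G)).index = 1 ∨ (Subgroup.centralizer ({x} : Set G)).index = n) (hex : ∃ x : G, (Subgroup.centralizer ({x} : Set G)).index = n) :
    ∃ (p : ℕ) (_ : Fact p.Prime) (a : ℕ), n = p ^ a ∧ ∀ P : Sylow p G, (P : Subgroup G).Normal ∧
      (∃ N : Subgroup G, N.Normal ∧ N.IsComplement' (P : Subgroup G) ∧ IsMulCommutative N ∧
        ∀ x ∈ N, ∀ y ∈ (P : Subgroup G), x * y = y * x) ∧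
      ∃ A : Subgroup (P : Subgroup G), A.Normal ∧ IsMulCommutative A ∧ ∀ y : (P : Subgroup G), y ^ p ∈ A := by
  open Subgroup CfsgH1 CfsgH2 CfsgFT CfsgH9 in
  have h' : ∀ x : G, x ∉ center G → (C1(x)).index = n := fun x hx =>
    (h x).resolve_left fun e => hx (cent1_eq_top.1 (index_eq_one.1 e))
  obtain ⟨x, hx⟩ := hex
  have hd : n ∣ (center G).index := hx ▸ index_dvd_of_le (center_le_centralizer _)
  obtain ⟨p, hp, hpn⟩ := Nat.exists_prime_and_dvd hn.ne'
  haveI := Fact.mk hp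
  have hi := Nat.eq_prime_pow_of_unique_prime_dvd index_ne_zero_of_finite
    fun hq hqd => pquot hn h' hp hq (hpn.trans hd) hqd
  obtain ⟨a, -, ha⟩ := (Nat.dvd_prime_pow hp).1 (hi ▸ hd)
  refine ⟨p, inferInstance, a, ha, fun P => ?_⟩
  have hR := pResidual_le_of_index hi
  have hR' : IsMulCommutative (pResidual p G) := isMulCommutative_of_le inferInstance hR
  have hPn : (P : Subgroup G).Normal := by
    rw [← normalizer_eq_top_iff, eq_top_iff, ← (IsSylowIn.of_sylow_top P).sup_resIn, resIn_top]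
    exact sup_le le_normalizer (hR.trans ((center_le_centralizer _).trans (centralizer_le_normalizer _)))
  refine ⟨hPn, ⟨pResidual p G, inferInstance, isComplement'_of_not_dvd ?_ P, hR',
    fun x hx y _ => (mem_center_iff.1 (hR hx) y).symm⟩, ?_⟩
  · have := (pcls_split (C := ⊤) (fun y _ ho => by
      rw [cent1_eq_top.2 (hR (pResidual_le_iff.1 le_rfl y ho)), relIndex_top_left]
      exact hp.not_dvd_one) (IsSylowIn.of_sylow_top P)).2.2
    rwa [resIn_top] at this
  obtain ⟨A, -, hAP, h3, h4, h5⟩ := exists_scn (V := (P : Subgroup G)) (S := P) (A₀ := ⊥) P.isPGroup' le_rfl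
    le_normalizer bot_le (le_top.trans (normalizer_eq_top _).ge) inferInstance
  refine ⟨A.subgroupOf P, (normal_subgroupOf_iff_le_normalizer hAP).2 h3, inferInstance, fun y => ?_⟩
  rw [mem_subgroupOf]
  show (y : G) ^ p ∈ A
  by_cases hy : (y : G) ^ p ∈ center G
  · exact h5 ⟨pow_mem y.2 _, center_le_centralizer _ hy⟩
  have hy0 : (y : G) ∉ center G := fun e => hy (pow_mem e _)
  have e : C1((y : G)) = C1((y : G) ^ p) := by
    apply CfsgH2.eq_of_le_of_card_le (fun w hw => mem_cent1.2 (Commute.pow_left (mem_cent1.1 hw) p))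
    have e1 := C1((y : G)).card_mul_index
    have e2 := C1((y : G) ^ p).card_mul_index
    rw [h' _ hy0] at e1
    rw [h' _ hy, ← e1] at e2
    exact (Nat.eq_of_mul_eq_mul_right (by omega) e2).le
  refine pow_mem (h5 ⟨y.2, ?_⟩) _
  by_contra hc
  obtain ⟨b, hb, b1, b2, b3⟩ := exists_central_mod P.isPGroup' hAP h3 (M := C1((y : G))) (fun k => hc (by
    show (y : G) ∈ C(A)
    rw [mem_centralizer_iff]
    exact fun w hw => (mem_cent1.1 (k hw)).symm))
  apply b1
  rw [e, mem_cent1]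
  set z := (y : G) * b * (y : G)⁻¹ * b⁻¹ with hz
  have zA : z ∈ A := A.mul_mem (CfsgH2.conj_mem_of_mem_normalizer (h3 y.2) hb) (A.inv_mem hb)
  have c1 : Commute (y : G) z := mem_cent1.1 (b3 y y.2)
  have c2 : Commute z b := mul_comm_of_isMulCommutative h4 zA hb
  have e1 : (y : G) * b * (y : G)⁻¹ = z * b := by rw [hz]; group
  have e2 : z ^ p = 1 := by
    have := congrArg (· ^ p) e1
    simp only [conj_pow, c2.mul_pow] at this
    rw [mem_cent1.1 b2] at this
    simpa using this.symm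
  have e3 : ∀ k : ℕ, (y : G) ^ k * b = z ^ k * b * (y : G) ^ k := by
    intro k
    induction k with
    | zero => simp
    | succ k ih =>
      rw [pow_succ', mul_assoc, ih, ← mul_assoc, ← mul_assoc, (c1.pow_right k).eq, mul_assoc (z ^ k),
        mul_inv_eq_iff_eq_mul.1 e1, pow_succ]
      group
  rw [e3, e2, one_mul]

end Cfsg.Agent.S4134
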