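import Cfsg.Statements.S4139
import Cfsg.Agent.H2.CSize
import Cfsg.Agent.H2.StrEmb
import Cfsg.Agent.H1.Fact

set_option autoImplicit false
open Cfsg

namespace Cfsg.Agent.S4139

@[reducible] def conjAct1 {G : Type*} [Group G] (Q : Subgroup G) (P : G → Prop)
    (hP : ∀ q ∈ Q, ∀ u, P u → P (q * u * q⁻¹)) : MulAction Q {u // P u} where
  smul q u := ⟨q * u * (q : G)⁻¹, hP q q.2 u u.2⟩
  one_smul u := Subtype.ext (by change ((1 : Q) : G) * u * ((1 : Q) : G)⁻¹ = u; simp)
  mul_smul a b u := Subtype.ext (by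
    change ((a * b : Q) : G) * u * ((a * b : Q) : G)⁻¹ = a * (b * u * (b : G)⁻¹) * (a : G)⁻¹
    simp [mul_assoc])

open Subgroup in
theorem card_modEq_conj1 {G : Type*} [Group G] [Finite G] {p : ℕ} [Fact p.Prime] {Q : Subgroup G}
    (hQ : IsPGroup p Q) (P : G → Prop) (hP : ∀ q ∈ Q, ∀ u, P u → P (q * u * q⁻¹)) :
    Nat.card {u // P u} ≡ Nat.card {u // P u ∧ u ∈ centralizer (Q : Set G)} [MOD p] := by
  let _ := conjAct1 Q P hP
  have := hQ.card_modEq_card_fixedPoints {u // P u}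
  convert this using 1
  refine Nat.card_congr ⟨fun u => ⟨⟨u.1, u.2.1⟩, fun q => Subtype.ext
    (mul_inv_eq_iff_eq_mul.2 (u.2.2 q q.2))⟩, fun u => ⟨u.1.1, u.1.2, fun q hq =>
      mul_inv_eq_iff_eq_mul.1 (congrArg Subtype.val (u.2 ⟨q, hq⟩))⟩, fun _ => rfl, fun _ => rfl⟩

open Subgroup CfsgH1 CfsgH2 CfsgFT in
theorem idx_inf {G : Type*} [Group G] [Finite G] {p : ℕ} [hp : Fact p.Prime] {x : G}
    (hx : ∃ k, (C1(x)).index = p ^ k) : ∃ k, (C1(x) ⊓ pResidual p G).index = p ^ k := by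
  obtain ⟨k, hk⟩ := hx
  obtain ⟨l, hl⟩ := index_pResidual p G
  have h1 := relIndex_mul_index (inf_le_left : C1(x) ⊓ pResidual p G ≤ C1(x))
  rw [inf_relIndex_left, hk] at h1
  have h2 := relIndex_dvd_index_of_normal (pResidual p G) C1(x)
  rw [hl] at h2
  obtain ⟨j, -, hj⟩ := (Nat.dvd_prime_pow hp.out).1 h2
  exact ⟨j + k, by rw [← h1, hj, pow_add]⟩

open Subgroup CfsgH1 CfsgH2 CfsgFT in
theorem cossey (p : ℕ) [hp : Fact p.Prime] (G : Type*) [Group G] [Finite G] :
    ∃ n, ¬ p ∣ n ∧ Nat.card {x : G // ∃ k, (C1(x)).index = p ^ k} = n * Nat.card C(pResidual p G) := by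
  set R := pResidual p G with hR
  have ha : ∀ x c : G, (∃ k, (C1(x)).index = p ^ k) → c ∈ C(R) → ∃ k, (C1(x * c)).index = p ^ k := by
    intro x c hx hc
    obtain ⟨k, hk⟩ := idx_inf hx
    have : C1(x) ⊓ R ≤ C1(x * c) := by
      rintro y ⟨h1, h2⟩
      have e1 := mem_cent1.1 h1
      have e2 := mem_centralizer_iff.1 hc y h2
      rw [mem_cent1, mul_assoc, ← e2, ← mul_assoc, e1, mul_assoc]
    have h2 := index_dvd_of_le this
    rw [hk] at h2
    obtain ⟨j, -, hj⟩ := (Nat.dvd_prime_pow hp.out).1 h2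
    exact ⟨j, hj⟩
  obtain ⟨P⟩ : Nonempty (Sylow p G) := inferInstance
  let Y : G ⧸ C(R) → Prop := fun q => ∃ x : G, (x : G ⧸ C(R)) = q ∧ ∃ k, (C1(x)).index = p ^ k
  refine ⟨Nat.card {q // Y q}, ?_, ?_⟩
  · have h1 := card_modEq_conj1 (Q := (P : Subgroup G).map (QuotientGroup.mk' C(R)))
      (P.isPGroup'.map _) Y (by
        rintro _ ⟨u, -, rfl⟩ _ ⟨x, rfl, k, hk⟩
        refine ⟨u * x * u⁻¹, rfl, k, ?_⟩
        rw [← cj_centralizer_singleton, index_cj, hk])
    have h2 : Nat.card {q // Y q ∧ q ∈ centralizer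
        (((P : Subgroup G).map (QuotientGroup.mk' C(R)) : Subgroup _) : Set (G ⧸ C(R)))} = 1 := by
      rw [Nat.card_eq_one_iff_exists]
      refine ⟨⟨1, ⟨1, rfl, 0, by simp [index_eq_one, cent1_eq_top]⟩, one_mem _⟩, ?_⟩
      rintro ⟨_, ⟨x, rfl, hx⟩, hc⟩
      apply Subtype.ext
      show (x : G ⧸ C(R)) = 1
      rw [QuotientGroup.eq_one_iff]
      have k1 : ∀ g : G, x * g * x⁻¹ * g⁻¹ ∈ C(R) := by
        intro g
        obtain ⟨k, hk⟩ := hx
        obtain ⟨u, hu, c, hc', rfl⟩ := Fac.of_coprime (A := P) (B := C1(x)) (L := ⊤) le_top le_top (by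
          rw [relIndex_top_right, relIndex_top_right, hk]
          exact ((hp.out.coprime_iff_not_dvd.2 P.not_dvd_index).symm.pow_right _)) g (mem_top g)
        have e1 := mem_cent1.1 hc'
        have e2 := mem_centralizer_iff.1 hc _ ⟨u, hu, rfl⟩
        have e3 : x * (u * c) * x⁻¹ * (u * c)⁻¹ = x * u * x⁻¹ * u⁻¹ := by
          calc x * (u * c) * x⁻¹ * (u * c)⁻¹ = x * u * c * (c * x)⁻¹ * u⁻¹ := by group
            _ = _ := by rw [← e1]; group
        rw [e3, ← QuotientGroup.eq_one_iff]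
        simp only [QuotientGroup.mk_mul, QuotientGroup.mk_inv]
        simp only [QuotientGroup.mk'_apply] at e2
        rw [← e2]; group
      obtain ⟨k, hk⟩ := idx_inf hx
      have k2 : R ≤ N(C1(x) ⊓ R) := by
        intro r hr
        apply CfsgH2.mem_normalizer_of_conj_mem
        rintro y ⟨hy1, hy2⟩
        have m : r * y * r⁻¹ ∈ R := R.mul_mem (R.mul_mem hr hy2) (R.inv_mem hr)
        refine ⟨?_, m⟩
        have e1 := mem_cent1.1 hy1
        have e2 := mem_centralizer_iff.1 (k1 r) _ m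
        show r * y * r⁻¹ ∈ C1(x)
        rw [mem_cent1]
        calc x * (r * y * r⁻¹) = (x * r * x⁻¹ * r⁻¹) * r * (x * y) * r⁻¹ := by group
          _ = (x * r * x⁻¹ * r⁻¹) * (r * y * r⁻¹) * (r * x * r⁻¹) := by rw [e1]; group
          _ = _ := by rw [← e2]; group
      have h3 := relIndex_mul_index (inf_le_right : C1(x) ⊓ R ≤ R)
      rw [hk] at h3
      obtain ⟨j, -, hj⟩ := (Nat.dvd_prime_pow hp.out).1 (Dvd.intro _ h3)
      have h4 := resIn_le_of_relIndex k2 hj
      rw [hR, ← resIn_top, resIn_resIn, resIn_top] at h4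
      rw [mem_centralizer_iff]
      exact fun y hy => (mem_cent1.1 (h4 hy).1).symm
    rw [h2] at h1
    intro hd
    exact hp.out.one_lt.ne' (Nat.dvd_one.1 ((h1.dvd_iff dvd_rfl).1 hd))
  · refine card_eq_mul_of_fiber (fun x => (⟨(x.1 : G ⧸ C(R)), x.1, rfl, x.2⟩ : {q // Y q})) ?_
    rintro ⟨_, x, rfl, hx⟩
    symm
    refine Nat.card_eq_of_bijective (fun c : C(R) => ⟨⟨x * c, ha x c hx c.2⟩, Subtype.ext ?_⟩) ⟨?_, ?_⟩
    · exact QuotientGroup.mk_mul_of_mem x c.2
    · intro c d e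
      have : x * c = x * d := congrArg (fun t => t.1.1) e
      exact Subtype.ext (mul_left_cancel this)
    · rintro ⟨⟨y, hy⟩, e⟩
      have e' : (y : G ⧸ C(R)) = x := congrArg Subtype.val e
      exact ⟨⟨x⁻¹ * y, QuotientGroup.eq.1 e'.symm⟩, Subtype.ext (Subtype.ext (by simp))⟩

open Subgroup CfsgH1 CfsgH2 CfsgFT in
theorem card_idx (G : Type*) [Group G] [Finite G] (k : ℕ) : Nat.card {x : G // (C1(x)).index = k} =
    Nat.card {C : ConjClasses G // Nat.card C.carrier = k} * k := by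
  have e : ∀ x : G, Nat.card (ConjClasses.mk x).carrier = (C1(x)).index := by
    intro x
    rw [← card_cls_eq_index]
    exact Nat.card_congr (Equiv.subtypeEquivRight fun y => by
      rw [ConjClasses.mem_carrier_iff_mk_eq, ConjClasses.mk_eq_mk_iff_isConj, isConj_comm])
  refine card_eq_mul_of_fiber (fun x => (⟨ConjClasses.mk x.1, (e _).trans x.2⟩ :
    {C : ConjClasses G // Nat.card C.carrier = k})) ?_
  rintro ⟨D, hD⟩
  refine Eq.trans ?_ hD
  refine Nat.card_eq_of_bijective (fun x => ⟨x.1.1, ConjClasses.mem_carrier_iff_mk_eq.2 (congrArg Subtype.val x.2)⟩) ⟨?_, ?_⟩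
  · intro a b h
    exact Subtype.ext (Subtype.ext (Subtype.mk.inj h))
  · rintro ⟨y, hy⟩
    have := ConjClasses.mem_carrier_iff_mk_eq.1 hy
    exact ⟨⟨⟨y, by rw [← e, this, hD]⟩, Subtype.ext this⟩, rfl⟩

/-- Let G and H be finite groups such that for every natural number k, G and H have the same number of conjugacy classes of size k. If H is nilpotent then G is nilpotent. -/
theorem result {G H : Type*} [Group G] [Finite G] [Group H] [Finite H]
    (hH : Group.IsNilpotent H)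
    (h : ∀ k : ℕ, Nat.card {C : ConjClasses G // Nat.card C.carrier = k} = Nat.card {C : ConjClasses H // Nat.card C.carrier = k}) :
    Group.IsNilpotent G := by
  open Subgroup CfsgH1 CfsgH2 CfsgFT in
  have h1 : ∀ k, Nonempty ({x : G // (C1(x)).index = k} ≃ {x : H // (C1(x)).index = k}) := fun k =>
    Finite.card_eq.1 (by rw [card_idx, card_idx, h])
  let e : G ≃ H := Equiv.ofFiberEquiv fun k => (h1 k).some
  have he : ∀ x, (C1(e x)).index = (C1(x)).index := fun x => Equiv.ofFiberEquiv_map (fun k => (h1 k).some) x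
  refine ((Group.isNilpotent_of_finite_tfae (G := G)).out 3 0 rfl rfl).1 ?_
  intro p hp P
  obtain ⟨n, hn, h2⟩ := cossey p G
  obtain ⟨m, -, h3⟩ := cossey p H
  have h4 : Nat.card {x : G // ∃ k, (C1(x)).index = p ^ k} = Nat.card {x : H // ∃ k, (C1(x)).index = p ^ k} :=
    Nat.card_congr (e.subtypeEquiv fun x => by rw [he])
  obtain ⟨Q⟩ : Nonempty (Sylow p H) := inferInstance
  have h5 : (Q : Subgroup H) ≤ C(pResidual p H) := by
    rw [le_centralizer_iff, pResidual_le_iff]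
    intro g hg
    rw [mem_centralizer_iff]
    intro y hy
    obtain ⟨k, hk⟩ := exists_orderOf_eq_pow Q.isPGroup' hy
    exact (commute_of_coprime_orderOf (hk ▸ hg.symm.pow_left k)).eq
  have h6 : Nat.card P ∣ n * Nat.card C(pResidual p G) := by
    rw [← h2, h4, h3, P.card_eq_multiplicity, Nat.card_congr e, ← Q.card_eq_multiplicity]
    exact (card_dvd_of_le h5).mul_left _
  have h7 : Nat.card P ∣ Nat.card C(pResidual p G) := by
    refine Nat.Coprime.dvd_of_dvd_mul_left ?_ h6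
    rw [P.card_eq_multiplicity]
    exact (hp.out.coprime_iff_not_dvd.2 hn).pow_left _
  have h8 := IsSylowIn.sylow_inf_normal P C(pResidual p G)
  have h9 : (P : Subgroup G) ≤ C(pResidual p G) := by
    rw [← inf_eq_left]
    apply CfsgH2.eq_of_le_of_card_le inf_le_left
    rw [h8.card_eq, P.card_eq_multiplicity]
    apply Nat.pow_le_pow_right hp.out.pos
    rw [P.card_eq_multiplicity] at h7
    exact (hp.out.pow_dvd_iff_le_factorization Nat.card_pos.ne').1 h7
  rw [← normalizer_eq_top_iff, eq_top_iff, ← (IsSylowIn.of_sylow_top P).sup_resIn, resIn_top]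
  exact sup_le le_normalizer ((le_centralizer_iff.1 h9).trans (centralizer_le_normalizer _))

end Cfsg.Agent.S4139
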