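import Cfsg.Statements.S4142
import Cfsg.Agent.H2.Cls

set_option autoImplicit false
open Cfsg

namespace Cfsg.Agent.S4142
open Subgroup CfsgH2
open scoped commutatorElement

open CfsgFT

/-- Let G be a finite group and N a normal subgroup. Then the conjugacy class of every element g outside N is a union of cosets of N (gn is conjugate to g for all n ∈ N) if and only if for every g outside N the centralizer of g in G has the same order as the centralizer of gN in G/N. -/
theorem result {G : Type*} [Group G] [Finite G] (N : Subgroup G) [N.Normal] :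
    (∀ g : G, g ∉ N → ∀ n ∈ N, ∃ x : G, x * g * x⁻¹ = g * n) ↔
      ∀ g : G, g ∉ N → Nat.card (Subgroup.centralizer ({g} : Set G)) =
        Nat.card (Subgroup.centralizer ({(QuotientGroup.mk g : G ⧸ N)} : Set (G ⧸ N))) := by
  refine forall_congr' fun g => forall_congr' fun _ => ?_
  have h1 := card_cls_in ((C1((g : G ⧸ N))).comap (QuotientGroup.mk' N)) g
  rw [inf_eq_right.2 fun x hx => mem_cent1.2 (congrArg (QuotientGroup.mk (s := N)) (mem_cent1.1 hx)), CfsgH1.card_comap_of_surjective _
    (QuotientGroup.mk'_surjective N), QuotientGroup.ker_mk'] at h1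
  have k : ∀ a : G, a ∈ (C1((g : G ⧸ N))).comap (QuotientGroup.mk' N) ↔ g⁻¹ * (a * g * a⁻¹) ∈ N := fun a => by
    rw [← QuotientGroup.eq, mem_comap, mem_cent1, QuotientGroup.mk_mul, QuotientGroup.mk_inv, eq_mul_inv_iff_mul_eq]
    rfl
  let f : {y // ∃ a ∈ (C1((g : G ⧸ N))).comap (QuotientGroup.mk' N), a * g * a⁻¹ = y} → N := fun y =>
    ⟨g⁻¹ * y, by obtain ⟨a, h, e⟩ := y.2; exact e ▸ (k a).1 h⟩
  have hf : Function.Injective f := fun x y h => Subtype.ext (mul_left_cancel (congrArg Subtype.val h))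
  constructor
  · intro h
    rw [Nat.card_congr (Equiv.ofBijective f ⟨hf, fun n => ?_⟩), mul_comm] at h1
    · exact Nat.eq_of_mul_eq_mul_right Nat.card_pos h1
    obtain ⟨x, hx⟩ := h n n.2
    exact ⟨⟨_, x, (k x).2 (by simp [hx]), rfl⟩, Subtype.ext (by simp [f, hx])⟩
  · intro h n hn
    rw [h, mul_comm] at h1
    obtain ⟨⟨_, a, _, rfl⟩, e⟩ := (hf.bijective_of_nat_card_le (Nat.eq_of_mul_eq_mul_left Nat.card_pos h1).ge).2 ⟨n, hn⟩
    exact ⟨a, inv_mul_eq_iff_eq_mul.1 (congrArg Subtype.val e)⟩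


end Cfsg.Agent.S4142
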