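import Cfsg.Statements.S4145
import Cfsg.Agent.H2.Cls
import Cfsg.Agent.H2.GL2

set_option autoImplicit false
open Cfsg

namespace Cfsg.Agent.S4145
open Subgroup CfsgH2
open scoped commutatorElement

open CfsgFT CfsgH1

theorem npc_psolv {G : Type*} [Group G] [Finite G] {p : ℕ} [Fact p.Prime] (h : HasNormalPComplement p G) :
    IsPSolvable p G :=
  IsPSolvable.of_normal_of_quotient (pResidual p G) (isPSolvable_of_coprime
    ((Nat.Prime.coprime_iff_not_dvd Fact.out).2 (hasNPC_iff.1 h)).symm)
      (isPSolvable_of_isPGroup (isPGroup_quotient_pResidual p G))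

/-- Let G be a finite group with a cyclic Sylow p-subgroup and H a normal subgroup such that p divides both the order of H and the index of H. Then H has a normal p-complement and G is p-solvable. -/
theorem result {G : Type*} [Group G] [Finite G] (p : ℕ) [Fact p.Prime]
    (P : Sylow p G) (hP : IsCyclic (P : Subgroup G)) (H : Subgroup G) [H.Normal] (h1 : p ∣ Nat.card H) (h2 : p ∣ H.index) :
    Cfsg.HasNormalPComplement p H ∧ Cfsg.IsPSolvable p G := by
  have hS := IsSylowIn.of_sylow_top P
  have n : ∀ X : Subgroup G, X ≤ N(H) := fun X => le_top.trans (normalizer_eq_top _).ge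
  have k : ∀ L : Subgroup G, (P : Subgroup G) ≤ L → ((P : Subgroup G) ⊓ C(L ⊓ N((P : Subgroup G))) = ⊥ →
      ⁅(P : Subgroup G), L ⊓ N((P : Subgroup G))⁆ ≠ P) → HasNormalPComplement p L := fun L hL h => by
    have a : (P : Subgroup G) ≤ L ⊓ N((P : Subgroup G)) := le_inf hL le_normalizer
    obtain ⟨b, c, -⟩ := split_abelian (comm_iff.2 (comm_of_cyclic hP)) a inf_le_right
      (hS.mono a le_top).coprime_relIndex
    refine burnside_hasNPC (hS.mono hL le_top) (cent_symm (cent_of_comm_eq_bot (by_contra fun e => ?_)))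
    exact inf_ne_bot_of_cyclic P.2 hP inf_le_left (comm_le_left inf_le_right) (fun e' => h e' (by
      rwa [e', sup_bot_eq] at c)) e b
  have hH : HasNormalPComplement p H := hasNPC_mono le_sup_right (k (P ⊔ H) le_sup_left fun _ e =>
    hS.not_dvd_of_le (e.ge.trans ((commutator_mono le_rfl inf_le_left).trans (comm_sup_right_le
      ((comm_eq_bot (comm_of_cyclic hP)).le.trans bot_le) (commutator_le_right _ _) (n _) (n _)))) le_top
        (by rwa [relIndex_top_right]))
  have hQ := hS.inf_of_normalizer' le_top (n ⊤)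
  have hD := k C((P : Subgroup G) ⊓ H) ((comm_of_cyclic hP).trans (cent_anti inf_le_left)) fun e =>
    absurd h1 (hQ.eq_bot_iff.1 (le_bot_iff.1 ((le_inf inf_le_left (cent_symm inf_le_left)).trans e.le)))
  refine ⟨hH, IsPSolvable.of_normal_of_quotient H (npc_psolv hH) (IsPSolvable.of_surjective
    (G := N((P : Subgroup G) ⊓ H)) ?_ ((QuotientGroup.mk' H).comp (Subgroup.subtype _)) ?_)⟩
  · haveI := CfsgFT.normal_subgroupOf (CfsgH2.normalizer_le_normalizer_centralizer ((P : Subgroup G) ⊓ H))
    have e := (subgroupOfEquivOfLe (cent_le_norm ((P : Subgroup G) ⊓ H))).symm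
    refine IsPSolvable.of_normal_of_quotient ((C((P : Subgroup G) ⊓ H)).subgroupOf _) (IsPSolvable.of_surjective
      (npc_psolv hD) e.toMonoidHom e.surjective) ?_
    haveI : IsMulCommutative (N((P : Subgroup G) ⊓ H) ⧸ (C((P : Subgroup G) ⊓ H)).subgroupOf _) :=
      Subgroup.Normal.quotient_commutative_iff_commutator_le.2 (by
        rw [commutator_eq_subgroupOf]
        exact comap_mono (commutator_normalizer_le_centralizer_of_cyclic (CfsgH2.isCyclic_of_le' hP inf_le_left)))
    haveI := isSolvable_of_isMulCommutative (G := N((P : Subgroup G) ⊓ H) ⧸ (C((P : Subgroup G) ⊓ H)).subgroupOf _)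
    exact isPSolvable_of_isSolvable
  · intro g
    obtain ⟨g, rfl⟩ := QuotientGroup.mk_surjective g
    obtain ⟨x, a, b⟩ := hQ.frattini (n ⊤ (mem_top g))
    exact ⟨⟨_, b⟩, (map_mul (QuotientGroup.mk' H) x g).trans (by
      rw [show QuotientGroup.mk' H x = 1 from (QuotientGroup.eq_one_iff x).2 a, one_mul]; rfl)⟩


end Cfsg.Agent.S4145
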