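import Cfsg.Statements.S4151
import Cfsg.Agent.H1.FC5

set_option autoImplicit false
open Cfsg

namespace Cfsg.Agent.S4151

/-- Let G be a finite group and H a non-normal subgroup meeting each of its conjugates by elements outside N_G(H) trivially, with the order of H coprime to its index in N_G(H), such that G is π-separable for π the set of primes dividing the order of H (G has a chain of normal subgroups from 1 to G each of whose factors has order divisible only by primes dividing the order of H or coprime to it). Suppose a Sylow 2-subgroup of H is abelian and Q is a complement of H in N_G(H). Then C_H(Q), the subgroup of elements of H commuting with Q, has order coprime to its index in G and has a normal complement in G. -/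
theorem result {G : Type*} [Group G] [Finite G] (H : Subgroup G)
    (hTI : Cfsg.IsTISubset (H : Set G)) (hnn : ¬ H.Normal)
    (hHall : (Nat.card H).Coprime (H.subgroupOf (Subgroup.normalizer (H : Set G))).index)
    (hsep : ∃ (n : ℕ) (M : Fin (n + 1) → Subgroup G), M 0 = ⊥ ∧ M (Fin.last n) = ⊤ ∧ Monotone M ∧ (∀ i, (M i).Normal) ∧
      ∀ i : Fin n, (∀ q : ℕ, q.Prime → q ∣ (M i.castSucc).relIndex (M i.succ) → q ∣ Nat.card H) ∨
        ((M i.castSucc).relIndex (M i.succ)).Coprime (Nat.card H))
    (h2 : ∀ P : Sylow 2 H, IsMulCommutative (P : Subgroup H))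
    (Q : Subgroup G) (hQ : Q ≤ Subgroup.normalizer (H : Set G)) (hQH : Q ⊓ H = ⊥) (hQH' : Q ⊔ H = Subgroup.normalizer (H : Set G)) :
    (Nat.card ↥(H ⊓ Subgroup.centralizer (Q : Set G))).Coprime (H ⊓ Subgroup.centralizer (Q : Set G)).index ∧
    ∃ N : Subgroup G, N.Normal ∧ N.IsComplement' (H ⊓ Subgroup.centralizer (Q : Set G)) := by
  open Subgroup CfsgH1 CfsgFT CfsgH2 in
  obtain ⟨t, h⟩ := ti_sep hTI hnn hHall hsep
  have o : IsPi (pr H)ᶜ (piCore (pr H)ᶜ G) := isPiNum_card_piCore _ _
  set O := piCore (pr H)ᶜ G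
  haveI := h.zg fun P => h.cyc (comm_iff.1 (h2 P))
  have c : (Nat.card Q).Coprime (Nat.card H) := by
    have := card_sup_of_disjoint hQ (disjoint_iff.2 ((inf_comm _ _).trans hQH))
    rw [sup_comm, hQH', ← CfsgH2.card_mul_relIndex (le_normalizer (H := H))] at this
    exact Nat.eq_of_mul_eq_mul_left Nat.card_pos this ▸ hHall.symm
  obtain ⟨-, z, -⟩ := zg_act hQ c
  have s := commutator_sup_centralizer hQ c (solv_or c)
  have n1 : Q ≤ N(⁅H, Q⁆) := normalizer_commutator_ge_right _ _
  have n2 : N(H) ≤ N(⁅H, Q⁆ ⊔ Q) := hQH'.ge.trans (sup_le (le_sup_right.trans le_normalizer) (le_norm_of_comm_le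
    (comm_sup_left_le (((Subgroup.commutator_comm _ _).le.trans (comm_le_right (normalizer_commutator_ge_left _ _))).trans
      le_sup_left) ((Subgroup.commutator_comm _ _).le.trans le_sup_left) (le_sup_left.trans le_normalizer)
      (le_sup_right.trans le_normalizer))))
  haveI : (O ⊔ (⁅H, Q⁆ ⊔ Q)).Normal := normal_of_top_le (t.ge.trans
    (sup_le (le_sup_left.trans le_normalizer) (CfsgH1.le_normalizer_sup le_normalizer_of_normal n2)))
  have cp : (Nat.card ↥(O ⊔ (⁅H, Q⁆ ⊔ Q))).Coprime (Nat.card ↥(H ⊓ C(Q))) := isPi_compl_pr_iff.1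
    ((isPi_compl_pr_iff.2 (coprime_of_le_right (isPi_compl_pr_iff.1 o) inf_le_left)).sup
      ((isPi_compl_pr_iff.2 z).sup (isPi_compl_pr_iff.2 (coprime_of_le_right c inf_le_left)) n1) le_normalizer_of_normal)
  have cm : (O ⊔ (⁅H, Q⁆ ⊔ Q)).IsComplement' (H ⊓ C(Q)) := isComplement'_of_disjoint_and_mul_eq_univ
    (disjoint_of_coprime_natCard cp) (by
      rw [← normal_mul, coe_eq_univ, eq_top_iff, ← t, ← hQH']
      exact sup_le (le_sup_of_le_left le_sup_left) (sup_le (le_sup_of_le_left (le_sup_of_le_right le_sup_right))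
        (s.ge.trans (sup_le_sup_right (le_sup_of_le_right le_sup_left) _))))
  exact ⟨cm.index_eq_card ▸ cp.symm, _, this, cm⟩

end Cfsg.Agent.S4151
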