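import Cfsg.Statements.S4152
import Cfsg.Agent.H2.Cls

set_option autoImplicit false
open Cfsg

namespace Cfsg.Agent.S4152
open Subgroup CfsgH2
open scoped commutatorElement

open CfsgFT CfsgH1

/-- Let G be a finite group, N a normal subgroup and π a set of primes. Then the number of conjugacy classes of π-elements of G (elements whose order is divisible only by primes in π) is at most the number of conjugacy classes of π-elements of N (under conjugation by N) times the number of conjugacy classes of π-elements of G/N. -/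
theorem result {G : Type*} [Group G] [Finite G] (N : Subgroup G) [N.Normal] (π : Set ℕ) :
    Nat.card {C : ConjClasses G // ∀ q : ℕ, q.Prime → (∃ g : G, ConjClasses.mk g = C ∧ q ∣ orderOf g) → q ∈ π} ≤ Nat.card {C : ConjClasses N // ∀ q : ℕ, q.Prime → (∃ g : N, ConjClasses.mk g = C ∧ q ∣ orderOf g) → q ∈ π} * Nat.card {C : ConjClasses (G ⧸ N) // ∀ q : ℕ, q.Prime → (∃ g : (G ⧸ N), ConjClasses.mk g = C ∧ q ∣ orderOf g) → q ∈ π} := by
  refine Nat.le_of_mul_le_mul_right ?_ (Nat.card_pos (α := G))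
  rw [card_pi_classes_mul, card_eq_card_quotient_mul_card_subgroup N, mul_comm (Nat.card (Subtype _)), mul_mul_mul_comm,
    card_pi_classes_mul, card_pi_classes_mul]
  refine card_le_mul_of_fiber (fun x => ⟨((x.1.1 : G ⧸ N), (x.1.2 : G ⧸ N)), x.2.1.of_dvd
    (orderOf_map_dvd (QuotientGroup.mk' N) _), mem_cent1.2 (congrArg _ (mem_cent1.1 x.2.2))⟩) fun ⟨⟨a, b⟩, _⟩ => ?_
  simp only [Subtype.mk.injEq, Prod.mk.injEq]
  obtain ⟨e, he⟩ := exists_pi_exp π G
  rw [card_subtype_subtype _ fun x : G × G => (x.1 : G ⧸ N) = a ∧ (x.2 : G ⧸ N) = b,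
    card_subtype_congr fun _ => and_and_and_comm]
  refine (card_pairs_le (n := 1) (P := fun x : G => IsPiNum π (orderOf x) ∧ (x : G ⧸ N) = a)
    (R := fun x (n : N) => (n : G) ∈ C1(x)) fun x _ =>
    (card_coset_cent_le N x b).trans (one_mul _).ge).trans ?_
  refine le_trans ?_ ((card_pairs_le (n := 1) (P := fun m : N => IsPiNum π (orderOf m))
    (R := fun m n : N => n ∈ C1(m)) (Q := fun (m : N) (g : G) => g ∈ C1((m : G)) ∧ (g : G ⧸ N) = a)
    fun m _ => ((card_coset_cent_le N m a).trans (one_mul _).ge).trans_eq (congrArg _ (card_subtype_congr fun n => by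
      rw [mem_cent1, mem_cent1, Subtype.ext_iff]; rfl))).trans (one_mul _).le)
  rw [one_mul]
  have c : ∀ y n : G, n ∈ C1(y) → Commute y (n * (n ^ e)⁻¹) := fun y n h =>
    Commute.mul_right (mem_cent1.1 h) (Commute.pow_right (mem_cent1.1 h) e).inv_right
  refine Nat.card_le_card_of_injective (fun x => ⟨(x.1.2 ^ e, x.1.1 * (x.1.2 * (x.1.2 ^ e)⁻¹)), ?_, ?_, ?_⟩) ?_
  · rw [← orderOf_coe]; exact (he _).1
  · exact mul_mem (mem_cent1'.2 (Commute.pow_right (mem_cent1.1 x.2.2) e)) (mul_mem (mem_cent1'.2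
      ((Commute.refl _).pow_right e)) (inv_mem (self_mem_cent1 _)))
  · exact (QuotientGroup.mk_mul_of_mem _ (mul_mem x.1.2.2 (inv_mem (pow_mem x.1.2.2 e)))).trans x.2.1.2
  · rintro ⟨⟨y, n⟩, ⟨h1, h7⟩, h2⟩ ⟨⟨z, m⟩, ⟨h3, h8⟩, h4⟩ h
    simp only [Subtype.mk.injEq, Prod.mk.injEq] at h ⊢
    have h5 : (y * (n * ((n : G) ^ e)⁻¹)) ^ e = (z * (m * ((m : G) ^ e)⁻¹)) ^ e := congrArg (· ^ e) h.2
    rw [(c y n h2).mul_pow, (c z m h4).mul_pow, pi_parts he, pi_parts he, mul_one, mul_one, (he y).2.1 h1,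
      (he z).2.1 h3] at h5
    subst h5
    have h6 : (n : G) * ((n : G) ^ e)⁻¹ = m * ((m : G) ^ e)⁻¹ := mul_left_cancel h.2
    rw [show (n : G) ^ e = m ^ e from congrArg Subtype.val h.1] at h6
    exact ⟨rfl, Subtype.ext (mul_right_cancel h6)⟩


end Cfsg.Agent.S4152
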