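import Cfsg.Statements.S4153
import Cfsg.Agent.H2.Cls

set_option autoImplicit false
open Cfsg

namespace Cfsg.Agent.S4153
open Subgroup CfsgH2
open scoped commutatorElement

open CfsgFT

/-- Let G be a finite group, p a prime, N a normal subgroup, P a Sylow p-subgroup of G and P̄ a Sylow p-subgroup of G/N. Count the elements of p-power order, the identity included. Then (number of such elements of G/N)/#P̄ ≤ (number of such elements of G)/#P, stated as a cross-multiplied inequality, with equality when N is central. -/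
theorem result {G : Type*} [Group G] [Finite G] (p : ℕ) [Fact p.Prime] (N : Subgroup G) [N.Normal]
    (P : Sylow p G) (Pbar : Sylow p (G ⧸ N)) :
    Nat.card {g : (G ⧸ N) // ∃ k : ℕ, orderOf g = p ^ k} * Nat.card (P : Subgroup G) ≤ Nat.card {g : G // ∃ k : ℕ, orderOf g = p ^ k} * Nat.card (Pbar : Subgroup (G ⧸ N)) ∧
    (N ≤ Subgroup.center G → Nat.card {g : (G ⧸ N) // ∃ k : ℕ, orderOf g = p ^ k} * Nat.card (P : Subgroup G) = Nat.card {g : G // ∃ k : ℕ, orderOf g = p ^ k} * Nat.card (Pbar : Subgroup (G ⧸ N))) := by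
  have hP := IsSylowIn.of_sylow_top P
  have s := QuotientGroup.mk'_surjective N
  have hm := hP.map (QuotientGroup.mk' N)
  rw [map_top_of_surjective _ s] at hm
  rw [← CfsgH1.card_map_mul_card_inf_ker (QuotientGroup.mk' N) P, QuotientGroup.ker_mk',
    hm.card_eq_card (.of_sylow_top Pbar), ← mul_assoc, mul_right_comm]
  let f : {g : G // ∃ k, orderOf g = p ^ k} → {g : G ⧸ N // ∃ k, orderOf g = p ^ k} := fun g => ⟨g.1, by
    obtain ⟨k, hk⟩ := g.2
    obtain ⟨j, -, hj⟩ := (Nat.dvd_prime_pow Fact.out).1 (hk ▸ orderOf_map_dvd (QuotientGroup.mk' N) g.1)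
    exact ⟨j, hj⟩⟩
  have k : ∀ y, ∃ φ : ((P : Subgroup G) ⊓ N : Subgroup G) → {x // f x = y}, Function.Injective φ ∧
      (N ≤ center G → Function.Surjective φ) := fun ⟨y, k, hk⟩ => by
    obtain ⟨g, -, hg⟩ := hm.exists_cj_le (isPGroup_zpowers_of_orderOf hk) le_top
    obtain ⟨g, rfl⟩ := s g
    obtain ⟨x, hx, e⟩ := hg (conj_mem_cj _ (mem_zpowers y))
    refine ⟨fun n => ⟨⟨g⁻¹ * (x * n) * g⁻¹⁻¹, by
      rw [orderOf_conj']; exact exists_orderOf_eq_pow P.2 ((P : Subgroup G).mul_mem hx n.2.1)⟩, Subtype.ext ?_⟩,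
      fun a b h => Subtype.ext (by simpa using congrArg (·.1.1) h), fun h ⟨⟨z, j, hj⟩, hz⟩ => ?_⟩
    · change QuotientGroup.mk' N _ = y
      rw [map_mul, map_mul, map_mul, e, (QuotientGroup.eq_one_iff _).2 n.2.2 |> (show QuotientGroup.mk' N n = 1 from ·)]
      simp [mul_assoc]
    · have h1 : x⁻¹ * (g * z * g⁻¹) ∈ N := QuotientGroup.eq.1 (e.trans (by
        rw [← show QuotientGroup.mk' N z = y from congrArg Subtype.val hz]; rfl))
      refine ⟨⟨_, ?_, h1⟩, Subtype.ext (Subtype.ext (by simp [mul_assoc]))⟩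
      obtain ⟨i, hi⟩ := exists_orderOf_eq_pow P.2 hx
      have c : Commute x⁻¹ (g * z * g⁻¹) := by
        have := mem_center_iff.1 (h h1) x
        rw [mul_inv_cancel_left, eq_comm, mul_assoc, inv_mul_eq_iff_eq_mul] at this
        exact Commute.inv_left this.symm
      refine hP.le_of_le_normalizer (Q := zpowers _) (fun ⟨_, m, rfl⟩ => ⟨i + j, Subtype.ext ?_⟩) le_top
        (le_norm_of_cent (zpowers_le.2 (center_le_centralizer _ (h h1)))) (mem_zpowers _)
      change ((x⁻¹ * (g * z * g⁻¹)) ^ m) ^ p ^ (i + j) = 1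
      rw [← zpow_natCast, ← zpow_mul, mul_comm m, zpow_mul, zpow_natCast, c.mul_pow, conj_pow, inv_pow, pow_add,
        pow_mul x, mul_comm (p ^ i), pow_mul z, ← hi, ← hj]
      simp
  refine ⟨Nat.mul_le_mul_right _ (mul_le_card_of_fiber f fun y => ?_), fun h => congrArg (· * _)
    (card_eq_mul_of_fiber f fun y => ?_).symm⟩
  · obtain ⟨φ, h, -⟩ := k y
    exact Nat.card_le_card_of_injective φ h
  · obtain ⟨φ, h1, h2⟩ := k y
    exact (Nat.card_congr (Equiv.ofBijective φ ⟨h1, h2 h⟩)).symm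


end Cfsg.Agent.S4153
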