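import Cfsg.Statements.S4154
import Cfsg.Agent.H2.Cls

set_option autoImplicit false
open Cfsg

namespace Cfsg.Agent.S4154
open Subgroup CfsgH2
open scoped commutatorElement

/-- Let G be a finite group and α an automorphism of G such that every element of G is the product of an element fixed by α and an element of the form g⁻¹α(g). If N is a normal α-invariant subgroup, then the automorphism ᾱ induced on G/N has the same property, and every coset fixed by ᾱ contains an element fixed by α (so the fixed points of ᾱ are the images of the fixed points of α). -/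
theorem result {G : Type*} [Group G] [Finite G] (α : MulAut G)
    (hccp : ∀ x : G, ∃ c g : G, α c = c ∧ x = c * (g⁻¹ * α g))
    (N : Subgroup G) [N.Normal] (hN : ∀ n ∈ N, α n ∈ N) :
    (∀ x : G, ∃ c g : G, c⁻¹ * α c ∈ N ∧ x⁻¹ * (c * (g⁻¹ * α g)) ∈ N) ∧
    (∀ x : G, x⁻¹ * α x ∈ N → ∃ c : G, α c = c ∧ c⁻¹ * x ∈ N) := by
  refine ⟨fun x => ?_, fun x hx => ?_⟩
  · obtain ⟨c, g, h1, h2⟩ := hccp x
    exact ⟨c, g, by rw [h1, inv_mul_cancel]; exact one_mem _, by rw [← h2, inv_mul_cancel]; exact one_mem _⟩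
  let D : Subgroup G :=
    { carrier := {x | x⁻¹ * α x ∈ N}
      one_mem' := by simp
      mul_mem' := fun {a b} ha hb => by
        have := N.mul_mem ((inferInstance : N.Normal).conj_mem' _ ha b) hb
        simpa [mul_assoc] using this
      inv_mem' := fun {a} ha => by
        have := (inferInstance : N.Normal).conj_mem _ (N.inv_mem ha) a
        simpa [mul_assoc] using this }
  let E := α.toMonoidHom.eqLocus (MonoidHom.id G)
  have h1 : E ⊔ N ≤ D := sup_le (fun c hc => by
    change c⁻¹ * α c ∈ N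
    rw [show α c = c from hc, inv_mul_cancel]; exact one_mem _) fun n hn => N.mul_mem (N.inv_mem hn) (hN n hn)
  have h2 := Nat.card_le_card_of_surjective (fun z : (E ⊔ N : Subgroup G) × (G ⧸ D) =>
    z.1 * (z.2.out * α z.2.out⁻¹)) fun y => by
      obtain ⟨c, g, h1, rfl⟩ := hccp y
      obtain ⟨d, hd⟩ := QuotientGroup.mk_out_eq_mul D g⁻¹
      refine ⟨(⟨c * (g⁻¹ * ((d : G)⁻¹⁻¹ * α (d : G)⁻¹)⁻¹ * g), mul_mem_sup h1 ((inferInstance : N.Normal).conj_mem' _
        (N.inv_mem (D.inv_mem d.2)) g)⟩, (g⁻¹ : G)), ?_⟩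
      simp only [hd, map_mul, map_inv, mul_inv_rev, inv_inv]
      group
  rw [Nat.card_prod, ← D.card_mul_index] at h2
  obtain ⟨c, hc, n, hn, rfl⟩ := mem_sup_of_normal_right.1 ((eq_of_le_of_card_le h1 (Nat.le_of_mul_le_mul_right h2
    (Nat.pos_of_ne_zero index_ne_zero_of_finite))).ge hx)
  exact ⟨c, hc, by simpa using hn⟩


end Cfsg.Agent.S4154
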