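import Cfsg.Statements.S4155
import Cfsg.Agent.H2.Mix2
import Cfsg.Agent.S4107

set_option autoImplicit false
open Cfsg

namespace Cfsg.Agent.S4155
open Subgroup CfsgH2
open scoped commutatorElement

open CfsgFT CfsgH1 CfsgLead

/-- Let G be a finite group and N a proper non-trivial normal nilpotent subgroup whose order is not a prime power, such that for every x outside N all elements of the coset xN have the same order as x. Then N is the Fitting subgroup of G, and for every prime q every Sylow q-subgroup of G/N is cyclic or generalized quaternion. -/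
theorem result {G : Type*} [Group G] [Finite G] (N : Subgroup G) [N.Normal] (hN1 : N ≠ ⊥) (hN2 : N ≠ ⊤)
    (heq : ∀ x : G, x ∉ N → ∀ n ∈ N, orderOf (x * n) = orderOf x)
    (hnil : Group.IsNilpotent N) (hnpp : ¬ IsPrimePow (Nat.card N)) :
    N = Cfsg.fittingSubgroup G ∧
    ∀ (q : ℕ) [Fact q.Prime] (Q : Sylow q (G ⧸ N)), IsCyclic (Q : Subgroup (G ⧸ N)) ∨ ∃ n : ℕ, Nonempty ((Q : Subgroup (G ⧸ N)) ≃* QuaternionGroup (2 ^ n)) := by
  refine ⟨(le_fitting hnil).eq_or_lt.resolve_right fun c => ?_, fun q _ Q => ?_⟩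
  · obtain ⟨p, k, a, b, d⟩ := (isPrimePow_nat_iff _).1 ((S4107.result N hN1 hN2 heq).2 c)
    haveI := Fact.mk a
    exact hnpp (isPrimePow_card_of_isPGroup ((IsPGroup.of_card d.symm).to_le c.le) hN1)
  have h1 : (pPrimeCore q N).map N.subtype ≠ ⊥ := fun c => hnpp (isPrimePow_card_of_isPGroup (p := q) (by
    rw [← pCore_eq_top_iff, ← pCore_sup_pPrimeCore_eq_top q,
      (Subgroup.map_eq_bot_iff_of_injective _ N.subtype_injective).1 c, sup_bot_eq]) hN1)
  have h2 := inf_centralizer_ne_bot_of_nilpotent hnil (map_subtype_le _) (le_norm_map_subtype _) h1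
  have h3 := coprime_card_map_pPrimeCore (p := q) N
  have h4 : (pPrimeCore q N).map N.subtype ≤ N := map_subtype_le _
  have h5 : ((pPrimeCore q N).map N.subtype).Normal := inferInstance
  generalize (pPrimeCore q N).map N.subtype = W at *
  haveI := (W ⊓ C(N)).nontrivial_iff_ne_bot.2 h2
  refine (cyc_or_quat_of_act (QuotientGroup.lift N (MulAut.conjNormal (H := W ⊓ C(N))) fun g hg => ?_) Q.2
    fun g hg v e => or_iff_not_imp_left.2 fun c => ?_).imp_right And.right
  · ext v
    simp [mem_cent.1 v.2.2 g hg]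
  obtain ⟨g, rfl⟩ := QuotientGroup.mk'_surjective N g
  obtain ⟨a, b, ha, hb, ⟨k, hk⟩, d, rfl⟩ := exists_p_part (p := q) g
  have bN : b ∈ N := (QuotientGroup.eq_one_iff b).1 (eq_one_of_mem_pgroup_of_coprime Q.2
    (zpowers_le.2 hg (by obtain ⟨i, hi⟩ := hb; exact ⟨i, by simp only at hi ⊢; rw [← map_zpow, hi]; rfl⟩))
    (d.coprime_dvd_left (orderOf_map_dvd (QuotientGroup.mk' N) b)))
  have aN : a ∉ N := fun e => c ((QuotientGroup.eq_one_iff _).2 (mul_mem e bN))
  have e2 : a * b * v * (a * b)⁻¹ = v := congrArg Subtype.val e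
  have e3 : Commute a v := by
    rw [mul_assoc a, mem_cent.1 v.2.2 b bN, mul_inv_eq_iff_eq_mul, ← mul_assoc, ← mul_assoc, mul_left_inj] at e2
    exact e2
  have := heq a aN v (h4 v.2.1)
  rw [e3.orderOf_mul_eq_mul_orderOf_of_coprime (hk ▸ (coprime_orderOf_of_mem h3 v.2.1).symm.pow_left _),
    Nat.mul_eq_left (orderOf_pos a).ne', orderOf_eq_one_iff] at this
  exact Subtype.ext this


end Cfsg.Agent.S4155
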