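import Cfsg.Statements.S4156

set_option autoImplicit false
open Cfsg

namespace Cfsg.Agent.S4156

open Subgroup Equiv

/-- Let n ≥ 5 and F a finite field. Then the projective special linear group PSL_n(F) contains a subgroup isomorphic to the alternating group of degree n + 1. -/
theorem result (n : ℕ) (hn : 5 ≤ n) (F : Type*) [Field F] [Finite F] :
    ∃ f : alternatingGroup (Fin (n + 1)) →* Matrix.ProjectiveSpecialLinearGroup (Fin n) F, Function.Injective f := by
  classical
  let s : (Fin (n + 1) → F) →ₗ[F] F := ∑ i, LinearMap.proj i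
  have hs : ∀ v, s v = ∑ i, v i := fun v => by simp [s]
  have hd : Module.finrank F (LinearMap.ker s) = n := by
    have := s.finrank_range_add_finrank_ker
    rw [LinearMap.range_eq_top.2 fun a => ⟨Pi.single 0 a, by simp [hs]⟩] at this
    simp at this
    omega
  let ρ : Perm (Fin (n + 1)) →* Module.End F (LinearMap.ker s) :=
    { toFun := fun σ => (LinearMap.funLeft F F σ.symm).restrict fun v hv => by
        rw [LinearMap.mem_ker, hs] at *
        exact (σ.symm.sum_comp v).trans hv
      map_one' := rfl, map_mul' := fun _ _ => rfl }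
  let g := ((LinearMap.toMatrixAlgEquiv (Module.finBasisOfFinrankEq F _ hd)).toMulEquiv.toMonoidHom.comp ρ).comp
    (alternatingGroup (Fin (n + 1))).subtype
  have h1 : Function.Injective g := (injective_iff_map_eq_one _).2 fun σ h => Subtype.ext (inv_eq_one.1 (Equiv.ext fun i => by_contra fun c => by
    obtain ⟨j, h1, h2⟩ := Fin.exists_ne_and_ne_of_two_lt i (σ.1⁻¹ i) (by omega)
    have : ρ σ = 1 := (map_eq_one_iff _ (LinearMap.toMatrixAlgEquiv (Module.finBasisOfFinrankEq F _ hd)).injective).1 h
    have : (Pi.single i 1 - Pi.single j 1 : Fin (n + 1) → F) (σ.1⁻¹ i) = (Pi.single i 1 - Pi.single j 1 : Fin (n + 1) → F) i :=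
      (congrFun (congrArg Subtype.val (LinearMap.congr_fun this ⟨Pi.single i 1 - Pi.single j 1, by simp [hs]⟩)) i :)
    rw [Pi.sub_apply, Pi.sub_apply, Pi.single_eq_of_ne (show σ.1⁻¹ i ≠ i from c), Pi.single_eq_of_ne h2.symm, Pi.single_eq_of_ne h1.symm] at this
    simp at this))
  have h5 : 5 ≤ Nat.card (Fin (n + 1)) := by simp; omega
  have h2 : ∀ σ, (g σ).det = 1 := fun σ => congrArg Units.val (Abelianization.commutator_subset_ker
    (Matrix.detMonoidHom.comp g).toHomUnits ((commutator_alternatingGroup_eq_top h5).ge (mem_top σ)))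
  let k : alternatingGroup (Fin (n + 1)) →* Matrix.SpecialLinearGroup (Fin n) F :=
    { toFun := fun σ => ⟨g σ, h2 σ⟩, map_one' := Subtype.ext g.map_one, map_mul' := fun a b => Subtype.ext (g.map_mul a b) }
  have := alternatingGroup.isSimpleGroup h5
  refine ⟨(QuotientGroup.mk' _).comp k, (MonoidHom.ker_eq_bot_iff _).1 ((MonoidHom.normal_ker _).eq_bot_or_eq_top.resolve_right fun e => ?_)⟩
  have := alternatingGroup.isMulCommutative_iff_card_le_three.1 (⟨⟨fun a b => h1 (by
    rw [map_mul, map_mul]
    exact congrArg Subtype.val (mem_center_iff.1 ((QuotientGroup.eq_one_iff _).1 (e.ge (mem_top b))) (k a)))⟩⟩ :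
      IsMulCommutative (alternatingGroup (Fin (n + 1))))
  omega

end Cfsg.Agent.S4156
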