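import Cfsg.Statements.S4157
import Cfsg.Agent.H9.KU2

set_option autoImplicit false
open Cfsg

namespace Cfsg.Agent.S4157

/-- Let G be a finite p-group of order p^m that is not cyclic and, when p = 2, not of maximal class (nilpotency class m − 1). Then for every 1 ≤ k < m the number of subgroups of G of order p^k is congruent to 1 + p modulo p². -/
theorem result {G : Type*} [Group G] [Finite G] {p : ℕ} [Fact p.Prime] (m : ℕ)
    (hG : Nat.card G = p ^ m) (hnc : ¬ IsCyclic G) (h2 : p = 2 → Group.nilpotencyClass G ≠ m - 1)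
    (k : ℕ) (hk1 : 1 ≤ k) (hk2 : k < m) :
    Nat.card {H : Subgroup G // Nat.card H = p ^ k} ≡ 1 + p [MOD p ^ 2] := by
  open Subgroup CfsgH1 CfsgH2 CfsgH9 CfsgH9.KU in
    obtain ⟨s, rfl⟩ := Nat.exists_eq_add_of_le' hk1
    have pG : IsPGroup p G := IsPGroup.of_card hG
    refine nSub_modEq' (hG ▸ pow_dvd_pow p hk2) ?_
    by_cases hp : p = 2
    · subst hp
      obtain ⟨E, h1, h3, h4⟩ := exists_four pG hnc fun h => by
        obtain ⟨a, b, k, l, r, h⟩ := h.exists
        have := h.card_eq
        rw [card_top, hG] at this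
        exact h2 rfl (by rw [h.class_eq, Nat.pow_right_injective le_rfl this]; rfl)
      exact dvd_nOrd_two pG h3 h4 (fun h => h2 rfl (class_of_selfCentralizing hG h3 h)) s
    · exact dvd_nOrd_pgroup hp pG hnc s

end Cfsg.Agent.S4157
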