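import Cfsg.Statements.S4159
import Cfsg.Agent.H2.CSize

set_option autoImplicit false
open Cfsg

namespace Cfsg.Agent.S4159
open Subgroup CfsgH2
open scoped commutatorElement

open CfsgFT CfsgH1

/-- Let G be a finite group such that in every subgroup H of G, any two conjugacy classes of H of size greater than 1 have non-coprime sizes. Then G is solvable. -/
theorem result {G : Type*} [Group G] [Finite G]
    (h : ∀ (H : Subgroup G) (x y : H), 1 < (Subgroup.centralizer ({x} : Set H)).index → 1 < (Subgroup.centralizer ({y} : Set H)).index →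
      ¬ ((Subgroup.centralizer ({x} : Set H)).index).Coprime (Subgroup.centralizer ({y} : Set H)).index) : Group.IsSolvable G := by
  refine solv_of_no_inv fun a z ⟨k, hk⟩ z1 z2 e => ?_
  have hn : zpowers a ≤ N(zpowers z) := zpowers_le.2 (CfsgH2.mem_normalizer_of_conj_mem (by
    rintro _ ⟨i, rfl⟩; simp only; rw [← conj_zpow, e]; exact zpow_mem (inv_mem (mem_zpowers z)) i))
  obtain ⟨h1, h2⟩ := relIndex_sup_dvd hn
  rw [Nat.card_zpowers] at h1 h2
  have hz : z ∈ zpowers z ⊔ zpowers a := mem_sup_left (mem_zpowers z)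
  have ha : a ∈ zpowers z ⊔ zpowers a := mem_sup_right (mem_zpowers a)
  have hne : a * z ≠ z * a := fun e' => by
    rw [e', mul_inv_cancel_right] at e
    exact z1.ne_one (orderOf_eq_one_iff.2 (eq_one_of_inv_of_odd (z1.odd_of_ne_two z2) e.symm))
  refine h _ ⟨z, hz⟩ ⟨a, ha⟩ (one_lt_index_of_ne_top fun e => hne ?_) (one_lt_index_of_ne_top fun e => hne ?_)
    (Nat.Coprime.coprime_dvd_left ((index_C1_dvd hz (comm_of_cyclic inferInstance |>.trans
      (cent_le_cent1 (mem_zpowers z)))).trans h1) (Nat.Coprime.coprime_dvd_right ((index_C1_dvd ha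
      (comm_of_cyclic inferInstance |>.trans (cent_le_cent1 (mem_zpowers a)))).trans h2) ?_))
  · have := mem_cent1'.1 (e.ge (mem_top ⟨a, ha⟩))
    exact congrArg Subtype.val this
  · have := mem_cent1.1 (e.ge (mem_top ⟨z, hz⟩))
    exact congrArg Subtype.val this
  · rw [hk]; exact Nat.Coprime.pow_left _ ((Nat.coprime_primes Nat.prime_two z1).2 z2.symm)


end Cfsg.Agent.S4159
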