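import Cfsg.Statements.S4160
import Cfsg.Agent.H2.CSize

set_option autoImplicit false
open Cfsg

namespace Cfsg.Agent.S4160
open Subgroup CfsgH2
open scoped commutatorElement

open CfsgFT CfsgH1

/-- Let G be a finite group and p ≠ q primes each dividing the size of some conjugacy class of G, such that no conjugacy class size is divisible by pq. Then G has a normal p-complement or a normal q-complement. -/
theorem result {G : Type*} [Group G] [Finite G] (p q : ℕ) (hp : p.Prime) (hq : q.Prime) (hpq : p ≠ q)
    (hp' : ∃ x : G, p ∣ (Subgroup.centralizer ({x} : Set G)).index) (hq' : ∃ x : G, q ∣ (Subgroup.centralizer ({x} : Set G)).index) (h : ∀ x : G, ¬ p * q ∣ (Subgroup.centralizer ({x} : Set G)).index) :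
    Cfsg.HasNormalPComplement p G ∨ Cfsg.HasNormalPComplement q G := by
  haveI := Fact.mk hp
  haveI := Fact.mk hq
  obtain ⟨P, hP⟩ := IsSylowIn.exists_sylowIn p (⊤ : Subgroup G)
  obtain ⟨Q, hQ⟩ := IsSylowIn.exists_sylowIn q (⊤ : Subgroup G)
  refine (ito_count (P := P) (Q := Q) fun x => ?_).imp
    (fun e => hasNPC_top_iff.1 (burnside_hasNPC hP (inf_le_right.trans e)))
    (fun e => hasNPC_top_iff.1 (burnside_hasNPC hQ (inf_le_right.trans e)))
  by_cases e : p ∣ C1(x).index
  · exact Or.inr (exists_conj_cent hQ fun e' =>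
      h x (((Nat.coprime_primes hp hq).2 hpq).mul_dvd_of_dvd_of_dvd e e'))
  · exact Or.inl (exists_conj_cent hP e)


end Cfsg.Agent.S4160
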