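import Cfsg.Statements.S4169
import Cfsg.Agent.H9.Mann

set_option autoImplicit false
open Cfsg

namespace Cfsg.Agent.S4169

/-- Let P be a finite p-group whose conjugacy classes have exactly two sizes (1 and one other value). Then P has nilpotency class at most 3. -/
theorem result {P : Type*} [Group P] [Finite P] {p : ℕ} [Fact p.Prime] (hP : IsPGroup p P)
    (m : ℕ) (hm : 1 < m) (h : ∀ x : P, (Subgroup.centralizer ({x} : Set P)).index = 1 ∨ (Subgroup.centralizer ({x} : Set P)).index = m) :
    upperCentralSeries P 3 = ⊤ := by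
  open Subgroup CfsgH1 CfsgH2 CfsgH9 in
  apply ucs_three
  intro a b c d
  obtain ⟨A, -, -, h3, h4, h5⟩ := exists_scn (V := (⊤ : Subgroup P)) (S := ⊤) (A₀ := ⊥) (hP.of_equiv topEquiv.symm) le_rfl
    le_normalizer bot_le (normalizer_eq_top _).ge inferInstance
  haveI : A.Normal := normalizer_eq_top_iff.1 (top_le_iff.1 h3)
  refine mann_class h4 (by simpa using h5) (m := m) ?_ (M := ⊤) ?_ (mem_top a) (mem_top b) (mem_top c)
  · intro x hx
    rcases h x with e | e <;> omega
  · intro x _
    exact subset_closure (h x)

end Cfsg.Agent.S4169
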