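import Cfsg.Statements.S4172
import Cfsg.Agent.H2.Roq

set_option autoImplicit false
open Cfsg

namespace Cfsg.Agent.S4172
open Subgroup CfsgH2
open scoped commutatorElement

/-- Let p be a prime and G a finite group with a non-commutative Sylow p-subgroup P whose Frattini subgroup has index p² in P (P is generated by two elements). Suppose G has no nontrivial normal subgroup of order prime to p and the Frattini subgroup of P contains no nontrivial normal subgroup of G. Then the generalized Fitting subgroup F*(G) is the unique minimal normal subgroup of G, the image of P in G/F*(G) is cyclic, and if F*(G) is not commutative then P permutes the components of G transitively by conjugation. -/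
theorem result {G : Type*} [Group G] [Finite G] (p : ℕ) [Fact p.Prime] (P : Sylow p G) (hna : ¬ IsMulCommutative (P : Subgroup G)) (hgen : (frattini ↥(P : Subgroup G)).index = p ^ 2) (hcore : Cfsg.pPrimeCore p G = ⊥) (hfrat : ((frattini ↥(P : Subgroup G)).map (P : Subgroup G).subtype).normalCore = ⊥) [hFn : (Cfsg.generalizedFittingSubgroup G).Normal] :
    (Cfsg.generalizedFittingSubgroup G ≠ ⊥ ∧ ∀ K : Subgroup G, K.Normal → K ≠ ⊥ → Cfsg.generalizedFittingSubgroup G ≤ K) ∧
      IsCyclic ↥((P : Subgroup G).map (QuotientGroup.mk' (Cfsg.generalizedFittingSubgroup G))) ∧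
      (¬ IsMulCommutative (Cfsg.generalizedFittingSubgroup G) → ∀ K L : Subgroup G, Cfsg.IsComponent K → Cfsg.IsComponent L → ∃ x ∈ (P : Subgroup G), L = K.map (MulAut.conj x).toMonoidHom) := by
  have hp' : Fact p.Prime := inferInstance
  have hS := IsSylowIn.of_sylow_top P
  have hPp := P.isPGroup'
  have hD0 : ⁅(P : Subgroup G), (P : Subgroup G)⁆ ≠ ⊥ := fun h =>
    hna (le_centralizer_iff_isMulCommutative.1 (commutator_eq_bot_iff_le_centralizer.1 h))
  have L2 : ∀ N : Subgroup G, N.Normal → N ≠ ⊥ →
      ¬ N ⊓ P ≤ (frattini (P : Subgroup G)).map (P : Subgroup G).subtype := by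
    intro N hN h0 h
    have h1 := pgroup_of_npc hcore hN.isSubnormal (roquette hS h)
    have h2 : N ≤ P := (CfsgH1.le_pCore h1).trans (CfsgH1.pCore_le_sylow P)
    exact h0 (eq_bot_iff.2 (hfrat ▸ normal_le_normalCore.2 ((le_inf le_rfl h2).trans h)))
  have L3 : ∀ N : Subgroup G, (P : Subgroup G) ≤ normalizer (N : Set G) →
      ¬ N ⊓ P ≤ (frattini (P : Subgroup G)).map (P : Subgroup G).subtype →
      ⁅(P : Subgroup G), (P : Subgroup G)⁆ ≤ N := by
    intro N hN h
    obtain ⟨y, -, hy⟩ := two_gen hPp hgen inf_le_right h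
    refine (der_le_of_sup_zpowers ?_ hy).trans inf_le_left
    intro g hg
    exact mem_normalizer_of_conj_mem fun x hx => ⟨conj_mem_of_mem_normalizer (hN hg) hx.1,
      (P : Subgroup G).mul_mem ((P : Subgroup G).mul_mem hg hx.2) ((P : Subgroup G).inv_mem hg)⟩
  set D := normalClosure (⁅(P : Subgroup G), (P : Subgroup G)⁆ : Subgroup G).carrier with hD
  have hDn : D.Normal := normalClosure_normal
  have hD1 : D ≠ ⊥ := fun h => hD0 (eq_bot_iff.2 (h ▸ subset_normalClosure))
  have hDle : ∀ N : Subgroup G, N.Normal → N ≠ ⊥ → D ≤ N := fun N hN h0 =>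
    normalClosure_le_normal (L3 N (by rw [normalizer_eq_top]; exact le_top) (L2 N hN h0))
  haveI : Nontrivial G := by
    by_contra h
    haveI := not_nontrivial_iff_subsingleton.1 h
    exact hD0 (Subsingleton.elim _ _)
  have hF1 : generalizedFittingSubgroup G ≠ ⊥ := genFitting_ne_bot
  have hF := CfsgH1.fitting_eq_pCore_of_pPrimeCore_eq_bot p hcore
  have hOP := CfsgH1.pCore_le_sylow P
  haveI := CfsgLead.layer_normal G
  have hA : layer G ≠ ⊥ → fittingSubgroup G = ⊥ := by
    intro hE
    by_contra hF0
    have h1 : D ≤ layer G := hDle _ inferInstance hE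
    have h2 : D ≤ fittingSubgroup G := hDle _ inferInstance hF0
    have h3 := CfsgLead.layer_commute_fitting G
    rw [commutator_comm, commutator_eq_bot_iff_le_centralizer] at h3
    refine L2 D hDn hD1 fun g hg => ?_
    have := mem_der_of_central (IsSylowIn.sylow_inf_normal P (layer G)) (CfsgLead.layer_perfect G)
      ⟨hg.2, h1 hg.1⟩ (h3 (h2 hg.1))
    exact commutator_le_map_frattini hPp (commutator_mono inf_le_left inf_le_left this)
  have hB : layer G = ⊥ → IsElementaryAbelian p (pCore p G) := by
    intro hE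
    have h1 : (frattini (pCore p G)).map (pCore p G).subtype = ⊥ := by
      by_contra h
      exact L2 _ inferInstance h (inf_le_left.trans (frattini_mono_of_pgroup hPp hOP))
    have h2 := CfsgH1.isPGroup_pCore p G
    refine ⟨le_centralizer_iff_isMulCommutative.1 (commutator_eq_bot_iff_le_centralizer.1
      (eq_bot_iff.2 (h1 ▸ commutator_le_map_frattini h2))), fun a ha => ?_⟩
    have := pow_mem_map_frattini h2 ha
    rwa [h1, mem_bot] at this
  have hFD : generalizedFittingSubgroup G ≤ D := by
    by_cases hE : layer G = ⊥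
    · have hea := hB hE
      rw [generalizedFittingSubgroup, hE, bot_sup_eq, hF]
      have hO0 : pCore p G ≠ ⊥ := by
        intro h; apply hF1; rw [generalizedFittingSubgroup, hE, bot_sup_eq, hF, h]
      have hDO : D ≤ pCore p G := hDle _ inferInstance hO0
      obtain ⟨y, hyP, hy⟩ := two_gen hPp hgen inf_le_right (L2 D hDn hD1)
      rw [inf_eq_left.2 (hDO.trans hOP)] at hy
      by_contra hn
      have hY : ¬ zpowers y ⊓ pCore p G ≤ D := by
        intro h
        apply hn
        intro o ho
        have h1 := hy.ge (hOP ho)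
        rw [mem_sup_of_normalizer (by rw [normalizer_eq_top]; exact le_top)] at h1
        obtain ⟨d, hd, s, hs, rfl⟩ := h1
        exact D.mul_mem hd (h ⟨hs, ((pCore p G).mul_mem_cancel_left (hDO hd)).1 ho⟩)
      have hYc : Nat.card ↥(zpowers y ⊓ pCore p G) ≤ p :=
        card_le_prime_of_cyclic_of_exponent (isCyclic_of_le' (isCyclic_zpowers' y) inf_le_left)
          fun x hx => hea.2 x hx.2
      have hdis : zpowers y ⊓ D = ⊥ := by
        have h1 : zpowers y ⊓ D < zpowers y ⊓ pCore p G :=
          lt_of_le_of_ne (inf_le_inf_left _ hDO) fun e => hY (e.ge.trans inf_le_right)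
        have h2 := card_lt_of_lt h1
        obtain ⟨a, ha⟩ := IsPGroup.iff_card.1 (hPp.to_le
          (show zpowers y ⊓ D ≤ P from inf_le_right.trans (hDO.trans hOP)))
        rcases a with _ | a
        · exact card_eq_one.1 ha
        · have : p ≤ p ^ (a + 1) := Nat.le_self_pow (by omega) p
          omega
      haveI : IsMulCommutative D := by
        haveI := hea.1
        exact le_centralizer_iff_isMulCommutative.1 (hDO.trans
          ((le_centralizer (pCore p G)).trans (centralizer_le hDO)))
      obtain ⟨a, ha⟩ := IsPGroup.iff_card.1 (hPp.to_le (hDO.trans hOP))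
      obtain ⟨H, hH⟩ := CfsgH1.gaschutz_exists (K := D) (U := P) (by
        rw [ha]
        exact Nat.Coprime.pow_left _ ((Nat.Prime.coprime_iff_not_dvd hp'.out).2 P.not_dvd_index))
        hdis hy
      have hdec : ∀ g : G, ∃ d ∈ D, ∃ h ∈ H, d * h = g := fun g => by
        obtain ⟨⟨d, h⟩, e⟩ := hH.2 g
        exact ⟨d, d.2, h, h.2, e⟩
      have hHn : (H ⊓ pCore p G).Normal := ⟨fun x hx g => by
        obtain ⟨d, hd, h, hh, rfl⟩ := hdec g
        have h1 : h * x * h⁻¹ ∈ pCore p G := (inferInstance : (pCore p G).Normal).conj_mem x hx.2 h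
        haveI := hea.1
        have h2 : d * h * x * (d * h)⁻¹ = h * x * h⁻¹ := by
          have := setLike_mul_comm (hDO hd) h1
          calc d * h * x * (d * h)⁻¹ = d * (h * x * h⁻¹) * d⁻¹ := by group
            _ = h * x * h⁻¹ := by rw [this]; group
        rw [h2]
        exact ⟨H.mul_mem (H.mul_mem hh hx.1) (H.inv_mem hh), h1⟩⟩
      have hH0 : H ⊓ pCore p G ≠ ⊥ := by
        intro h0
        apply hn
        intro o ho
        obtain ⟨d, hd, h, hh, rfl⟩ := hdec o
        have : h ∈ H ⊓ pCore p G := ⟨hh, ((pCore p G).mul_mem_cancel_left (hDO hd)).1 ho⟩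
        rw [h0, mem_bot] at this
        rw [this, mul_one]; exact hd
      exact hD1 (eq_bot_iff.2 ((le_inf le_rfl ((hDle _ hHn hH0).trans inf_le_left)).trans
        hH.disjoint.le_bot))
    · rw [generalizedFittingSubgroup, hA hE, sup_bot_eq, CfsgLead.layer_le_iff]
      intro L hL
      refine (CfsgLead.component_le_or_commute hL hDn.isSubnormal).resolve_right fun h => ?_
      rw [commutator_eq_bot_iff_le_centralizer] at h
      have h1 : D ≤ centralizer (D : Set G) := hDle _ inferInstance fun e =>
        CfsgLead.qs_ne_bot hL.2 (eq_bot_iff.2 (e ▸ h))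
      haveI := le_centralizer_iff_isMulCommutative.1 h1
      exact hD1 (eq_bot_iff.2 (hA hE ▸ CfsgH1.le_fitting_of_isMulCommutative))
  refine ⟨⟨hF1, fun K hK h0 => hFD.trans (hDle K hK h0)⟩, ?_, ?_⟩
  · obtain ⟨y, hyP, hy⟩ := two_gen hPp hgen inf_le_right (L2 _ hFn hF1)
    rw [← hy, Subgroup.map_sup, (Subgroup.map_eq_bot_iff _).2 (by rw [QuotientGroup.ker_mk']; exact inf_le_left),
      bot_sup_eq, MonoidHom.map_zpowers]
    exact isCyclic_zpowers' _
  · intro hc K L hK hL
    have hE : layer G ≠ ⊥ := fun e => CfsgLead.qs_ne_bot hK.2 (eq_bot_iff.2 (e ▸ CfsgLead.le_layer hK))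
    have hcj : ∀ (x : G) (M : Subgroup G), IsComponent M → IsComponent (cj x M) := fun x M hM =>
      CfsgLead.isComponent_map_equiv (MulAut.conj x) hM
    have key : ∀ M : Subgroup G, IsComponent M →
        ⁅(P : Subgroup G), (P : Subgroup G)⁆ ≤ sSup {X | ∃ x ∈ (P : Subgroup G), X = cj x M} := by
      intro M hM
      have hn : (P : Subgroup G) ≤ normalizer
          ((sSup {X | ∃ x ∈ (P : Subgroup G), X = cj x M} : Subgroup G) : Set G) := by
        intro g hg
        refine mem_normalizer_of_cj_le ?_
        rw [cj_le_iff_le_cj_inv]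
        refine sSup_le ?_
        rintro _ ⟨x, hx, rfl⟩
        rw [← cj_le_iff_le_cj_inv, cj_cj]
        exact le_sSup ⟨g * x, (P : Subgroup G).mul_mem hg hx, rfl⟩
      refine L3 _ hn fun h => ?_
      have := roquette' (hS.mono (le_sup_right (a := sSup {X | ∃ x ∈ (P : Subgroup G), X = cj x M})) le_top)
        le_sup_left (sup_le le_normalizer hn) h
      exact qs_not_pgroup hM.2 (pgroup_of_npc hcore hM.1 (hasNPC_mono
        (le_sSup (show M ∈ {X | ∃ x ∈ (P : Subgroup G), X = cj x M} from
          ⟨1, (P : Subgroup G).one_mem, (cj_one M).symm⟩)) this))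
    by_contra hn
    have hAB : sSup {X | ∃ x ∈ (P : Subgroup G), X = cj x K} ≤
        centralizer ((sSup {X | ∃ x ∈ (P : Subgroup G), X = cj x L} : Subgroup G) : Set G) := by
      refine sSup_le ?_
      rintro _ ⟨x, hx, rfl⟩
      rw [le_centralizer_iff]
      refine sSup_le ?_
      rintro _ ⟨y, hy, rfl⟩
      rw [← commutator_eq_bot_iff_le_centralizer]
      refine (CfsgLead.component_eq_or_commute (hcj y L hL) (hcj x K hK)).resolve_left fun e => hn ?_
      refine ⟨y⁻¹ * x, (P : Subgroup G).mul_mem ((P : Subgroup G).inv_mem hy) hx, ?_⟩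
      rw [cj_def, ← cj_cj, ← e, cj_inv_cj]
    set A := sSup {X | ∃ x ∈ (P : Subgroup G), X = cj x K} with hAdef
    have hAE : A ≤ layer G := sSup_le (by rintro _ ⟨x, -, rfl⟩; exact CfsgLead.le_layer (hcj x K hK))
    have hAn : layer G ≤ normalizer (A : Set G) := CfsgLead.layer_le_normalizer_sSup _
      (by rintro _ ⟨x, -, rfl⟩; exact (hcj x K hK).1)
    have hAs : A.IsSubnormal := by
      haveI := (normal_subgroupOf_iff_le_normalizer hAE).2 hAn
      exact IsSubnormal.step A (layer G) hAE (inferInstance : (layer G).Normal).isSubnormal inferInstance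
    have h1 : (center A).map A.subtype ≤ fittingSubgroup G :=
      (map_mono CfsgH1.center_le_fitting).trans (CfsgH1.map_fitting_le_of_isSubnormal hAs)
    apply hD0
    rw [eq_bot_iff, ← hA hE]
    refine le_trans (fun g hg => ?_) h1
    refine ⟨⟨g, key K hK hg⟩, mem_center_iff.2 fun a => Subtype.ext ?_, rfl⟩
    exact (hAB a.2 g (key L hL hg)).symm


end Cfsg.Agent.S4172
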