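import Cfsg.Statements.S4176
import Cfsg.Agent.H9.Orb

set_option autoImplicit false
open Cfsg

namespace Cfsg.Agent.S4176

/-- Let k be a field of prime characteristic p, H a finite p-soluble group and ρ a k-linear representation of H on V. Let a be a vector that is fixed by some Sylow p-subgroup of H and whose H-orbit spans V. Then the space of H-fixed vectors has dimension at most 1, and every vector b whose H-orbit has size coprime to the size of the orbit of a is fixed by H. -/
theorem result {k V H : Type*} [Field k] (p : ℕ) [Fact p.Prime] [CharP k p] [AddCommGroup V] [Module k V]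
    [Group H] [Finite H] (hsol : Cfsg.IsPSolvable p H) (ρ : Representation k H V) (a : V)
    (hfix : ∃ P : Sylow p H, ∀ x : H, x ∈ (P : Subgroup H) → ρ x a = a)
    (hspan : Submodule.span k {u : V | ∃ h : H, ρ h a = u} = ⊤) :
    Module.finrank k ρ.invariants ≤ 1 ∧
    ∀ b : V, (Nat.card {u : V | ∃ h : H, ρ h a = u}).Coprime (Nat.card {u : V | ∃ h : H, ρ h b = u}) → ∀ h : H, ρ h b = b := by
  open Subgroup CfsgH1 CfsgH9 in
  obtain ⟨P, hP⟩ := hfix
  have l : (P : Subgroup H) ≤ vst ρ a := hP
  have h1 : ¬ p ∣ (vst ρ a).index := fun h => P.not_dvd_index (h.trans (index_dvd_of_le l))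
  refine ⟨?_, fun b hb => fix_of_psolv _ H V ρ a b rfl hsol h1 hspan (by rwa [index_vst, index_vst])⟩
  obtain ⟨K, hK⟩ := (piSep_of_isPSolvable hsol).exists_hall
  obtain ⟨k1, n, k2⟩ := isPiHall_compl_singleton_iff.1 hK
  refine finrank_fix_le (K := K) (fun e => (Nat.Prime.coprime_iff_not_dvd Fact.out).1 k1.symm ((CharP.cast_eq_zero_iff k p _).1 e))
    (fun g => ?_) hspan
  obtain ⟨x, hx, y, hy, rfl⟩ := Fac.of_coprime (A := K) (B := vst ρ a) le_top le_top (by
    rw [relIndex_top_right, relIndex_top_right, k2]; exact ((Nat.Prime.coprime_iff_not_dvd Fact.out).2 h1).pow_left _) g (mem_top g)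
  exact ⟨x, hx, by rw [← rho_rho, show ρ y a = a from hy]⟩

end Cfsg.Agent.S4176
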