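import Cfsg.Statements.S4178
import Cfsg.Agent.H2.Cls

set_option autoImplicit false
open Cfsg

namespace Cfsg.Agent.S4178

theorem index_le_of_sep {H X : Type*} [Group H] [Finite X] (R : Subgroup H) (φ : H → X)
    (h : ∀ a b, φ a = φ b → a⁻¹ * b ∈ R) : R.index ≤ Nat.card X := by
  refine Nat.card_le_card_of_injective (fun q : H ⧸ R => φ q.out) ?_
  intro a b e
  rw [← a.out_eq', ← b.out_eq']
  exact QuotientGroup.eq.2 (h _ _ e)

theorem card_ne_zero' (F U : Type*) [Field F] [Fintype F] [AddCommGroup U] [Module F U]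
    [FiniteDimensional F U] : Finite {u : U // u ≠ 0} ∧
    Nat.card {u : U // u ≠ 0} = Fintype.card F ^ Module.finrank F U - 1 := by
  classical
  haveI : Finite U := Module.finite_of_finite F
  letI := Fintype.ofFinite U
  refine ⟨inferInstance, ?_⟩
  rw [Nat.card_eq_fintype_card, Fintype.card_subtype_compl, Module.card_eq_pow_finrank (K := F)]
  simp

theorem sqrt_bd {q a d n : ℕ} (hq : 0 < q) (h : n ≤ q ^ a - 1) (ha : 2 * a ≤ d) :
    (n : ℝ) ≤ Real.sqrt ((q : ℝ) ^ d) - 1 := by
  have h1 : n + 1 ≤ q ^ a := by have := pow_pos hq a; omega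
  have h2 : (q ^ a) ^ 2 ≤ q ^ d := by
    rw [← pow_mul, mul_comm]; exact Nat.pow_le_pow_right hq ha
  have h3 : ((q : ℝ) ^ a) ≤ Real.sqrt ((q : ℝ) ^ d) := by
    apply Real.le_sqrt_of_sq_le
    exact_mod_cast h2
  have h4 : (n : ℝ) + 1 ≤ (q : ℝ) ^ a := by exact_mod_cast h1
  linarith

/-- Let F be a finite field with q elements, V a non-zero finite-dimensional F-space of dimension d, H a group of invertible linear maps of V, and R the subgroup of H generated by the elements of H that fix some non-zero vector (have eigenvalue 1). Then the index of R in H is at most q^d − 1; and if H leaves invariant some proper non-zero subspace, the index is at most q^(d/2) − 1. -/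
theorem result {F V : Type*} [Field F] [Fintype F] [AddCommGroup V] [Module F V] [FiniteDimensional F V] [Nontrivial V]
    (H : Subgroup (V ≃ₗ[F] V)) :
    (Subgroup.closure {h : ↥H | ∃ v : V, v ≠ 0 ∧ (h : V ≃ₗ[F] V) v = v}).index ≤ Fintype.card F ^ Module.finrank F V - 1 ∧
    ((∃ W : Submodule F V, W ≠ ⊥ ∧ W ≠ ⊤ ∧ ∀ h ∈ H, ∀ w ∈ W, h w ∈ W) →
      ((Subgroup.closure {h : ↥H | ∃ v : V, v ≠ 0 ∧ (h : V ≃ₗ[F] V) v = v}).index : ℝ) ≤ Real.sqrt ((Fintype.card F : ℝ) ^ Module.finrank F V) - 1) := by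
  open Subgroup in
  have hq : 0 < Fintype.card F := Fintype.card_pos
  constructor
  · obtain ⟨v, hv⟩ := exists_ne (0 : V)
    obtain ⟨i1, i2⟩ := card_ne_zero' F V
    rw [← i2]
    refine index_le_of_sep _ (fun h : H => (⟨(h : V ≃ₗ[F] V) v, by simpa using hv⟩ : {u : V // u ≠ 0})) ?_
    intro a b e
    have e' : (a : V ≃ₗ[F] V) v = (b : V ≃ₗ[F] V) v := congrArg Subtype.val e
    refine subset_closure ⟨v, hv, ?_⟩
    simp [← e']
  · rintro ⟨W, h0, h1, hW⟩
    have hd := Submodule.finrank_quotient_add_finrank W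
    by_cases hc : 2 * Module.finrank F W ≤ Module.finrank F V
    · refine sqrt_bd hq ?_ hc
      obtain ⟨v, hvW, hv⟩ := W.exists_mem_ne_zero_of_ne_bot h0
      obtain ⟨i1, i2⟩ := card_ne_zero' F W
      rw [← i2]
      refine index_le_of_sep _ (fun h : H => (⟨⟨(h : V ≃ₗ[F] V) v, hW _ h.2 v hvW⟩,
        by simpa using hv⟩ : {u : W // u ≠ 0})) ?_
      intro a b e
      have e' : (a : V ≃ₗ[F] V) v = (b : V ≃ₗ[F] V) v := congrArg (fun t => t.1.1) e
      refine subset_closure ⟨v, hv, ?_⟩
      simp [← e']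
    · refine sqrt_bd hq ?_ (a := Module.finrank F (V ⧸ W)) (by omega)
      obtain ⟨v, -, hv⟩ := SetLike.exists_of_lt (lt_top_iff_ne_top.2 h1)
      obtain ⟨i1, i2⟩ := card_ne_zero' F (V ⧸ W)
      rw [← i2]
      have hv' : ∀ h : H, W.mkQ ((h : V ≃ₗ[F] V) v) ≠ 0 := by
        intro h e
        rw [Submodule.mkQ_apply, Submodule.Quotient.mk_eq_zero] at e
        have := hW _ (H.inv_mem h.2) _ e
        simp at this
        exact hv this
      refine index_le_of_sep _ (fun h : H => (⟨W.mkQ ((h : V ≃ₗ[F] V) v), hv' h⟩ :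
        {u : V ⧸ W // u ≠ 0})) ?_
      intro a b e
      have e' : W.mkQ ((a : V ≃ₗ[F] V) v) = W.mkQ ((b : V ≃ₗ[F] V) v) := congrArg Subtype.val e
      rw [Submodule.mkQ_apply, Submodule.mkQ_apply, Submodule.Quotient.eq'] at e'
      have e2 := hW _ (H.inv_mem a.2) _ e'
      set g : H := a⁻¹ * b with hg
      have e3 : (g : V ≃ₗ[F] V) v - v ∈ W := by
        simpa [hg, sub_eq_neg_add] using e2
      apply Subgroup.subset_closure
      by_contra hcon
      simp only [Set.mem_setOf_eq, not_exists, not_and] at hcon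
      let T : V →ₗ[F] V := ((g : V ≃ₗ[F] V) : V →ₗ[F] V) - LinearMap.id
      have hT : Function.Injective T := by
        rw [injective_iff_map_eq_zero]
        intro u hu
        by_contra hu0
        exact hcon u hu0 (by simpa [T, sub_eq_zero] using hu)
      have hTW : ∀ w ∈ W, T w ∈ W := fun w hw => W.sub_mem (hW _ g.2 w hw) hw
      have hs : Function.Surjective (T.restrict hTW) := by
        rw [← LinearMap.injective_iff_surjective]
        intro x y exy
        exact Subtype.ext (hT (congrArg Subtype.val exy))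
      obtain ⟨w, hw⟩ := hs ⟨T v, e3⟩
      have : (w : V) = v := hT (congrArg Subtype.val hw)
      exact hv (this ▸ w.2)

end Cfsg.Agent.S4178
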