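import Cfsg.Statements.S4186
import Cfsg.Agent.H2.Cls

set_option autoImplicit false
open Cfsg

namespace Cfsg.Agent.S4186
open Subgroup CfsgH2
open scoped commutatorElement

open CfsgFT

/-- Let T and X be subgroups of a group with T a finite 2-group normalizing X but not centralizing it. Then some element of T inverts some non-identity element of X under conjugation. -/
theorem result {G : Type*} [Group G] (T X : Subgroup G) [Finite ↥T] (hT : IsPGroup 2 ↥T) (hTN : T ≤ Subgroup.normalizer (X : Set G)) (hTC : ¬ T ≤ Subgroup.centralizer (X : Set G)) : ∃ t ∈ T, ∃ x ∈ X, x ≠ 1 ∧ t * x * t⁻¹ = x⁻¹ := by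
  obtain ⟨t, h1, h2⟩ := SetLike.not_le_iff_exists.1 hTC
  obtain ⟨k, hk⟩ := hT ⟨t, h1⟩
  obtain ⟨j, h3, h4⟩ := exists_pow_not_mem (p := 2) (k := k) h2 (by
    rw [show t ^ 2 ^ k = 1 from congrArg Subtype.val hk]; exact one_mem _)
  have h5 := T.pow_mem h1 (2 ^ j)
  generalize t ^ 2 ^ j = s at *
  rw [mem_cent] at h3 h4
  push Not at h3
  obtain ⟨x, hx, h3⟩ := h3
  refine ⟨s, h5, s * x * s⁻¹ * x⁻¹, X.mul_mem (conj_mem_of_mem_normalizer (hTN h5) hx) (X.inv_mem hx),
    fun e => h3 ?_, ?_⟩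
  · rw [mul_inv_eq_one, mul_inv_eq_iff_eq_mul] at e; exact e.symm
  · calc _ = s ^ 2 * x * (s ^ 2)⁻¹ * (s * x⁻¹ * s⁻¹) := by rw [pow_two]; group
      _ = _ := by rw [← h4 x hx]; group


end Cfsg.Agent.S4186
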