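import Cfsg.Statements.S4188
import Cfsg.Agent.S3380
import Cfsg.Agent.H1.Basic
import Mathlib.RingTheory.ZMod.UnitsCyclic

set_option autoImplicit false
open Cfsg

namespace Cfsg.Agent.S4188
open Subgroup CfsgH2
open scoped commutatorElement

section
variable {G : Type*} [Group G] [Finite G]

def SR (S : Subgroup G) (B : ℕ) : Prop :=
  ∀ A K : Subgroup G, A ≤ S → K ≤ A → (∀ x ∈ A, x * x ∈ K) → Nat.card A ≤ B * Nat.card K

theorem SR.mono {S T : Subgroup G} {B : ℕ} (h : SR S B) (l : T ≤ S) : SR T B :=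
  fun A K h1 => h A K (h1.trans l)

theorem SR_card (S : Subgroup G) {B : ℕ} (h : Nat.card S ≤ B) : SR S B := fun A K h1 _ _ =>
  ((card_le_of_le h1).trans h).trans (Nat.le_mul_of_pos_right _ Nat.card_pos)

theorem SR_cyc {S : Subgroup G} (h : IsCyclic S) : SR S 2 := by
  intro A K h1 _ h3
  haveI := h
  obtain ⟨a, rfl⟩ := isCyclic_iff_zpowers.1 (isCyclic_of_le h1)
  have := card_le_of_le (zpowers_le.2 (h3 a (mem_zpowers a)))
  rw [Nat.card_zpowers] at this ⊢
  refine le_trans (orderOf_le_of_pow_eq_one (Nat.mul_pos two_pos (orderOf_pos (a * a))) ?_) (by omega)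
  rw [pow_mul, sq, pow_orderOf_eq_one]

theorem SR_ext {G' : Type*} [Group G'] [Finite G'] (f : G →* G') {S : Subgroup G} {B C : ℕ}
    (h1 : SR (S.map f) B) (h2 : SR (S ⊓ f.ker) C) : SR S (B * C) := by
  intro A K l1 l2 l3
  have e1 := h1 (A.map f) (K.map f) (map_mono l1) (map_mono l2) (by
    rintro _ ⟨x, hx, rfl⟩; rw [← map_mul]; exact mem_map_of_mem _ (l3 x hx))
  have e2 := h2 (A ⊓ f.ker) (K ⊓ f.ker) (inf_le_inf_right _ l1) (inf_le_inf_right _ l2)
    fun x hx => mem_inf.2 ⟨l3 x hx.1, mul_mem hx.2 hx.2⟩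
  rw [← CfsgH1.card_map_mul_card_inf_ker f A, ← CfsgH1.card_map_mul_card_inf_ker f K]
  calc _ ≤ (B * Nat.card (K.map f)) * (C * Nat.card ↥(K ⊓ f.ker)) := Nat.mul_le_mul e1 e2
    _ = _ := by ring

theorem SR_idx {S H : Subgroup G} {B : ℕ} (l : H ≤ S) (hi : H.relIndex S ≤ 2) (h : SR H B) :
    SR S (2 * B) := by
  intro A K l1 l2 l3
  have e2 := h (A ⊓ H) (K ⊓ H) inf_le_right (inf_le_inf_right _ l2)
    fun x hx => mem_inf.2 ⟨l3 x hx.1, mul_mem hx.2 hx.2⟩
  have e1 := card_mul_relIndex (inf_le_left : A ⊓ H ≤ A)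
  rw [inf_relIndex_left] at e1
  have e3 : H.relIndex A ≤ 2 := (relIndex_le_of_le_right l1 index_ne_zero_of_finite).trans hi
  have e4 := card_le_of_le (inf_le_left : K ⊓ H ≤ K)
  calc _ = _ := e1.symm
    _ ≤ (B * Nat.card K) * 2 := Nat.mul_le_mul (e2.trans (Nat.mul_le_mul_left _ e4)) e3
    _ = _ := by ring

theorem SR_of_top {S : Subgroup G} {B : ℕ} (h : SR (⊤ : Subgroup S) B) : SR S B := by
  intro A K l1 l2 l3
  have := h (A.subgroupOf S) (K.subgroupOf S) le_top (fun x hx => l2 hx) fun x hx => l3 x hx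
  rwa [Nat.card_congr (subgroupOfEquivOfLe l1).toEquiv,
    Nat.card_congr (subgroupOfEquivOfLe (l2.trans l1)).toEquiv] at this

theorem dich (hP : IsPGroup 2 G) : (∃ u : G, (zpowers u).index ≤ 2) ∨
    ∃ A : Subgroup G, A.Normal ∧ IsMulCommutative A ∧ ¬ IsCyclic A := by
  haveI : Fact (Nat.Prime 2) := ⟨Nat.prime_two⟩
  by_contra hc
  push Not at hc
  obtain ⟨hc, hn⟩ := hc
  have hna : ¬ IsMulCommutative G := fun h => by
    obtain ⟨u, hu⟩ := isCyclic_iff_zpowers.1 (hn ⊤ inferInstance (isMulCommutative_top_iff.2 h))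
    have := hc u
    rw [hu, index_top] at this
    omega
  obtain ⟨A, -, -, h1, h2, h3⟩ := exists_scn (hP.to_subgroup ⊤) le_rfl le_normalizer (A₀ := ⊥) bot_le
    (by rw [normalizer_eq_top]) inferInstance
  haveI : A.Normal := normalizer_eq_top_iff.1 (top_le_iff.1 h1)
  obtain ⟨u, rfl⟩ := isCyclic_iff_zpowers.1 (hn A inferInstance h2)
  rw [top_inf_eq, centralizer_zpowers'] at h3
  rcases cyc_scn hP hna u (le_antisymm h3 (zpowers_le.2 (mem_centralizer_singleton_iff.2 rfl))) with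
    ⟨h4, h5, -⟩ | ⟨-, h4, h5, h6⟩
  · have := hc u; omega
  · exact absurd (hn _ inferInstance h4.1) (CfsgFT.not_isCyclic_of_elem (p := 2) (k := 2) (H := ⊤)
      ⟨le_top, h4, h5⟩ le_rfl)
end

section
variable {V : Type*} [CommGroup V]

def fx (g : MulAut V) : Subgroup V where
  carrier := {v | g v = v}
  mul_mem' := fun {a b} ha hb => by
    simp only [Set.mem_ofPred_eq] at *
    rw [map_mul, ha, hb]
  one_mem' := map_one _
  inv_mem' := fun {a} ha => by
    simp only [Set.mem_ofPred_eq] at *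
    rw [map_inv, ha]

def res (H : Subgroup (MulAut V)) (W : Subgroup V) (h : ∀ g ∈ H, ∀ w ∈ W, g w ∈ W) : H →* MulAut W where
  toFun g :=
    { toFun := fun w => ⟨g.1 w, h g g.2 w w.2⟩
      invFun := fun w => ⟨g.1⁻¹ w, h _ (H.inv_mem g.2) w w.2⟩
      left_inv := fun w => Subtype.ext (by simp)
      right_inv := fun w => Subtype.ext (by simp)
      map_mul' := fun a b => Subtype.ext (by simp) }
  map_one' := MulEquiv.ext fun w => rfl
  map_mul' := fun a b => MulEquiv.ext fun w => rfl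

def Irr (P : Subgroup (MulAut V)) : Prop :=
  ∀ W : Subgroup V, (∀ g ∈ P, ∀ w ∈ W, g w ∈ W) → W = ⊥ ∨ W = ⊤

theorem fx_stab {g b : MulAut V} (h : Commute g b) : ∀ w ∈ fx b, g w ∈ fx b := fun w hw => by
  show (b * g) w = g w
  rw [← h.eq]; exact congrArg g hw

theorem inv_of_cen {P : Subgroup (MulAut V)} (hI : Irr P) {z : MulAut V} (h1 : z ≠ 1) (h2 : z * z = 1)
    (hc : ∀ g ∈ P, Commute g z) (v : V) : z v = v⁻¹ := by
  have h := (hI (fx z) fun g hg => fx_stab (hc g hg)).resolve_right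
    fun e => h1 (MulEquiv.ext fun v => e.ge (mem_top v))
  have : v * z v ∈ fx z := by
    show z (v * z v) = _
    rw [map_mul, show z (z v) = (z * z) v from rfl, h2, mul_comm]; rfl
  rw [h, mem_bot] at this
  exact eq_inv_of_mul_eq_one_right this

theorem step [Finite V] (ho : Odd (Nat.card V)) {P : Subgroup (MulAut V)} (hI : Irr P) {z b t : MulAut V}
    (hz : ∀ v, z v = v⁻¹) (hb : b * b = 1) (hbz : b ≠ z) (ht : t ∈ P) (htb : t * b = z * b * t)
    (H : Subgroup (MulAut V)) (hH : ∀ g ∈ H, Commute g b) (hP : ∀ g ∈ P, g ∈ H ∨ (t⁻¹ * g ∈ H ∧ g * t ∈ H))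
    (hH' : ∀ g ∈ H, t⁻¹ * g * t ∈ H) :
    fx b ⊓ fx (z * b) = ⊥ ∧ fx b ≠ ⊥ ∧ Nat.card (fx b) ≤ Nat.card (fx (z * b)) ∧
      Irr (res H (fx b) fun g hg => fx_stab (hH g hg)).range := by
  have d : fx b ⊓ fx (z * b) = ⊥ := eq_bot_iff.2 fun v hv => by
    have h1 : b v = v := hv.1
    have h2 : z (b v) = v := hv.2
    rw [h1, hz] at h2
    have h3 : v ^ 2 = 1 := by rw [sq]; nth_rewrite 1 [← h2]; simp
    exact orderOf_eq_one_iff.1 (Nat.eq_one_of_dvd_coprimes (Nat.coprime_two_left.2 ho)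
      (orderOf_dvd_of_pow_eq_one h3) (orderOf_dvd_natCard v))
  have m : ∀ w ∈ fx b, t w ∈ fx (z * b) := fun w hw => by
    show (z * b * t) w = t w
    rw [← htb]; exact congrArg t hw
  refine ⟨d, fun e => hbz (MulEquiv.ext fun v => ?_), ?_, fun W hW => ?_⟩
  · have : v * b v ∈ fx b := by
      show b (v * b v) = _
      rw [map_mul, show b (b v) = (b * b) v from rfl, hb, mul_comm]; rfl
    rw [e, mem_bot] at this
    rw [hz]; exact eq_inv_of_mul_eq_one_right this
  · exact Nat.card_le_card_of_injective (fun w : fx b => (⟨t w, m w w.2⟩ : fx (z * b)))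
      fun a b e => Subtype.ext (t.injective (congrArg Subtype.val e))
  · have s : ∀ g ∈ H, ∀ w ∈ W.map (fx b).subtype, g w ∈ W.map (fx b).subtype := by
      rintro g hg _ ⟨w, hw, rfl⟩
      exact ⟨_, hW _ ⟨⟨g, hg⟩, rfl⟩ w hw, rfl⟩
    set U := W.map (fx b).subtype with hU
    have lU : U ≤ fx b := map_subtype_le W
    rcases hI (U ⊔ U.map t.toMonoidHom) (fun g hg w hw => by
      obtain ⟨x, hx, _, ⟨y, hy, rfl⟩, rfl⟩ := mem_sup.1 hw
      rw [map_mul]
      rcases hP g hg with h | ⟨h, h'⟩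
      · exact mul_mem (mem_sup_left (s g h x hx)) (mem_sup_right ⟨_, s _ (hH' g h) y hy, by simp⟩)
      · exact mul_mem (mem_sup_right ⟨_, s _ h x hx, by simp⟩) (mem_sup_left (s _ h' y hy))) with h | h
    · left
      rw [← Subgroup.map_eq_bot_iff_of_injective _ (fx b).subtype_injective]
      exact eq_bot_iff.2 (le_sup_left.trans h.le)
    · right
      refine eq_top_iff.2 fun v _ => ?_
      obtain ⟨x, hx, _, ⟨y, hy, rfl⟩, e⟩ := mem_sup.1 (h.ge (mem_top v.1))
      have : t y ∈ fx b ⊓ fx (z * b) := mem_inf.2 ⟨by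
        rw [show t y = x⁻¹ * v.1 from eq_inv_mul_of_mul_eq e]
        exact mul_mem (inv_mem (lU hx)) v.2, m y (lU hy)⟩
      rw [d, mem_bot] at this
      have e' : x * t y = v.1 := e
      rw [this, mul_one] at e'
      obtain ⟨w, hw, rfl⟩ := hx
      rwa [← show w = v from Subtype.ext e']
end

universe u
theorem key (n : ℕ) : ∀ (V : Type u) [CommGroup V] [Finite V] (P : Subgroup (MulAut V)), Nat.card V = n →
    IsPGroup 2 P → Odd n → 5 ≤ n → Irr P → ∃ B, SR P B ∧ 2 * B ≤ n := by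
  classical
  haveI : Fact (Nat.Prime 2) := ⟨Nat.prime_two⟩
  induction n using Nat.strong_induction_on with
  | _ n ih =>
  intro V _ _ P hn hP ho h5 hI
  by_cases hpr : n.Prime
  · haveI : Fact n.Prime := ⟨hpr⟩
    haveI : IsCyclic V := isCyclic_of_prime_card hn
    haveI : IsCyclic (ZMod (Nat.card V))ˣ := by rw [hn]; exact ZMod.isCyclic_units_prime hpr
    haveI : IsCyclic (MulAut V) := (IsCyclic.mulAutMulEquiv V).isCyclic.2 inferInstance
    exact ⟨2, SR_cyc inferInstance, by omega⟩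
  have h9 : 9 ≤ n := by
    by_contra h
    obtain ⟨k, rfl⟩ := ho
    have : k = 2 ∨ k = 3 := by omega
    rcases this with rfl | rfl <;> exact hpr (by norm_num)
  rcases dich hP with ⟨u, hu⟩ | ⟨A, hA1, hA2, hA3⟩
  · exact ⟨2 * 2, SR_of_top (SR_idx le_top (by rwa [relIndex_top_right]) (SR_cyc inferInstance)), by omega⟩
  obtain ⟨z, a, hz, hzc, haz, hap, hac⟩ := S3380.exists_za 2 hP hA2 hA3
  have zz : z * z = 1 := by rw [← sq, ← hz, pow_orderOf_eq_one]
  have z1 : z ≠ 1 := fun e => by rw [e, orderOf_one] at hz; omega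
  have aa : a * a = 1 := by rw [← sq, hap]
  have mz : ∀ x ∈ zpowers z, x = 1 ∨ x = z := fun x hx => by
    obtain ⟨c, hc, he⟩ := Finset.mem_image.1 (mem_zpowers_iff_mem_range_orderOf.1 hx)
    rw [hz, Finset.mem_range] at hc
    rcases c with _ | _ | c
    · left; simpa using he.symm
    · right; simpa using he.symm
    · omega
  have ca : ∀ g : P, g * a = a * g ∨ g * a = z * a * g := fun g => (mz _ (hac g)).imp
    (fun e => by rw [← mul_inv_eq_one, ← e]; group) fun e => by rw [← e]; group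
  have hzv := inv_of_cen hI (z := z.1) (fun e => z1 (Subtype.ext e)) (congrArg Subtype.val zz)
    fun g hg => congrArg Subtype.val (hzc ⟨g, hg⟩).symm
  have az : a ≠ z := fun e => haz (e ▸ mem_zpowers a)
  have a1 : a ≠ 1 := fun e => haz (e ▸ one_mem _)
  obtain ⟨t, ht⟩ : ∃ t : P, t * a ≠ a * t := by
    by_contra hc
    push Not at hc
    have := inv_of_cen hI (z := a.1) (fun e => a1 (Subtype.ext e)) (congrArg Subtype.val aa)
      fun g hg => congrArg Subtype.val (hc ⟨g, hg⟩)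
    exact az (Subtype.ext (MulEquiv.ext fun v => (this v).trans (hzv v).symm))
  have ta := (ca t).resolve_left ht
  have ta' : t⁻¹ * a = z * a * t⁻¹ := (ca t⁻¹).resolve_left fun e => ht (by
    calc t * a = t * (a * t⁻¹) * t := by group
      _ = a * t := by rw [← e]; group)
  let H0 : Subgroup P := centralizer {a}
  have mH0 : ∀ g : P, g ∈ H0 ↔ g * a = a * g := fun g => mem_centralizer_singleton_iff
  have cc : ∀ g h : P, g * a = z * a * g → h * a = z * a * h → g * h ∈ H0 := fun g h e1 e2 => (mH0 _).2 (by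
    calc g * h * a = g * z * a * h := by rw [mul_assoc, e2]; group
      _ = z * (g * a) * h := by rw [← (hzc g).eq]; group
      _ = (z * z) * (a * (g * h)) := by rw [e1]; group
      _ = _ := by rw [zz, one_mul])
  let H : Subgroup (MulAut V) := H0.map P.subtype
  have hP' : ∀ g ∈ P, g ∈ H ∨ (t.1⁻¹ * g ∈ H ∧ g * t.1 ∈ H) := fun g hg =>
    (ca ⟨g, hg⟩).imp (fun e => ⟨_, (mH0 _).2 e, rfl⟩) fun e => ⟨⟨_, cc _ _ ta' e, rfl⟩, ⟨_, cc _ _ e ta, rfl⟩⟩
  have hH' : ∀ g ∈ H, t.1⁻¹ * g * t.1 ∈ H := by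
    rintro _ ⟨g, hg, rfl⟩
    refine ⟨t⁻¹ * g * t, cc _ _ ?_ ta, rfl⟩
    rw [mul_assoc, (mH0 g).1 hg, ← mul_assoc, ta']; group
  have c1 : ∀ g ∈ H, Commute g a.1 := by
    rintro _ ⟨g, hg, rfl⟩; exact congrArg Subtype.val ((mH0 g).1 hg)
  have c2 : ∀ g ∈ H, Commute g (z.1 * a.1) := by
    rintro _ ⟨g, hg, rfl⟩
    exact Commute.mul_right (congrArg Subtype.val (hzc g).symm) (congrArg Subtype.val ((mH0 g).1 hg))
  obtain ⟨d, n1, l1, i1⟩ := step (hn ▸ ho) hI hzv (b := a.1) (congrArg Subtype.val aa)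
    (fun e => az (Subtype.ext e)) t.2 (congrArg Subtype.val ta) H c1 hP' hH'
  have zza : z * (z * a) = a := by rw [← mul_assoc, zz, one_mul]
  obtain ⟨-, n2, l2, i2⟩ := step (hn ▸ ho) hI hzv (b := (z * a).1) (congrArg Subtype.val (show z * a * (z * a) = 1 by
      rw [mul_assoc, ← mul_assoc a, ← (hzc a).eq, mul_assoc, aa, mul_one, zz]))
    (fun e => a1 (by simpa using (Subtype.ext e : z * a = z))) t.2
    (congrArg Subtype.val (show t * (z * a) = z * (z * a) * t by
      rw [← mul_assoc, ← (hzc t).eq, mul_assoc, ta]; group)) H c2 hP' hH'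
  rw [show z.1 * (z * a).1 = a.1 from congrArg Subtype.val zza] at l2
  set f1 := res H (fx a.1) fun g hg => fx_stab (c1 g hg)
  set f2 := res H (fx (z * a).1) fun g hg => fx_stab (c2 g hg)
  have hm : Nat.card (fx a.1) * Nat.card (fx (z * a).1) ≤ n := by
    rw [← Nat.card_prod, ← hn]
    refine Nat.card_le_card_of_injective (fun x => x.1.1 * x.2.1) fun x y e => ?_
    have e1 : y.1.1⁻¹ * x.1.1 = y.2.1 * x.2.1⁻¹ := by
      have e : x.1.1 * x.2.1 = y.1.1 * y.2.1 := e
      rw [inv_mul_eq_iff_eq_mul, ← mul_assoc, ← e, mul_inv_cancel_right]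
    have e2 : y.1.1⁻¹ * x.1.1 ∈ fx a.1 ⊓ fx (z.1 * a.1) :=
      mem_inf.2 ⟨mul_mem (inv_mem y.1.2) x.1.2, by rw [e1]; exact mul_mem y.2.2 (inv_mem x.2.2)⟩
    rw [d, mem_bot] at e2
    rw [e2] at e1
    exact Prod.ext (Subtype.ext (inv_mul_eq_one.1 e2).symm) (Subtype.ext (mul_inv_eq_one.1 e1.symm).symm)
  have top : (⊤ : Subgroup V) ≤ fx a.1 ⊔ fx (z * a).1 := ((hI _ fun g hg w hw => by
    obtain ⟨x, hx, y, hy, rfl⟩ := mem_sup.1 hw
    rw [map_mul]
    rcases ca ⟨g, hg⟩ with e | e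
    · exact mul_mem (mem_sup_left (fx_stab (c1 g ⟨_, (mH0 _).2 e, rfl⟩) x hx))
        (mem_sup_right (fx_stab (c2 g ⟨_, (mH0 _).2 e, rfl⟩) y hy))
    · refine mul_mem (mem_sup_right ?_) (mem_sup_left ?_)
      · show (z * a * ⟨g, hg⟩ : P).1 x = g x
        rw [← e]; exact congrArg g hx
      · show (a * ⟨g, hg⟩ : P).1 y = g y
        rw [show a * ⟨g, hg⟩ = ⟨g, hg⟩ * (z * a) by
          rw [← mul_assoc, ← (hzc _).eq, mul_assoc, e, ← mul_assoc, ← mul_assoc, zz, one_mul]]
        exact congrArg g hy).resolve_left fun e => n1 (eq_bot_iff.2 (le_sup_left.trans e.le))).ge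
  have kk : (⊤ ⊓ f1.ker) ⊓ f2.ker = ⊥ := eq_bot_iff.2 fun g hg => by
    refine Subtype.ext (MulEquiv.ext fun v => ?_)
    obtain ⟨x, hx, y, hy, rfl⟩ := mem_sup.1 (top (mem_top v))
    have k1 : f1 g = 1 := MonoidHom.mem_ker.1 hg.1.2
    have k2 : f2 g = 1 := MonoidHom.mem_ker.1 hg.2
    have k3 : f1 g ⟨x, hx⟩ = ⟨x, hx⟩ := by rw [k1]; rfl
    have k4 : f2 g ⟨y, hy⟩ = ⟨y, hy⟩ := by rw [k2]; rfl
    have e1 : g.1 x = x := congrArg Subtype.val k3
    have e2 : g.1 y = y := congrArg Subtype.val k4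
    rw [map_mul, e1, e2]; rfl
  have hi : H0.index ≤ 2 := by
    rw [index_eq_two_iff_exists_notMem_and'.2 ⟨t, fun h => ht ((mH0 t).1 h), fun b =>
      (ca b).symm.imp (fun e => cc _ _ ta e) (mH0 b).2⟩]
  have hi' : H.relIndex P ≤ 2 := by
    rwa [relIndex, subgroupOf, comap_map_eq_self_of_injective P.subtype_injective]
  have comb : ∀ B C, SR f1.range B → SR f2.range C → SR P (2 * (B * C)) := fun B C h1 h2 => by
    refine SR_idx (map_subtype_le _) hi' (SR_of_top (SR_ext f1 (by rwa [← MonoidHom.range_eq_map]) ?_))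
    have := SR_ext f2 (h2.mono (map_le_range _ (⊤ ⊓ f1.ker))) (C := 1) (SR_card _ (by rw [kk, card_bot]))
    rwa [mul_one] at this
  have hH : IsPGroup 2 H := hP.to_le (map_subtype_le _)
  have em := le_antisymm l1 l2
  have om : Odd (Nat.card (fx a.1)) := (hn ▸ ho).of_dvd_nat (card_subgroup_dvd_card _)
  have m1 : Nat.card (fx a.1) ≠ 1 := fun e => n1 (card_eq_one.1 e)
  have em' : Nat.card (fx (z * a).1) = Nat.card (fx a.1) := em.symm
  rw [em'] at hm
  by_cases h3 : Nat.card (fx a.1) = 3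
  · haveI : Fact (Nat.Prime 3) := ⟨Nat.prime_three⟩
    have k : ∀ (W : Subgroup V), Nat.card W = 3 → Nat.card (MulAut W) = 2 := fun W hW => by
      haveI : IsCyclic W := isCyclic_of_prime_card hW
      rw [IsCyclic.card_mulAut, hW]; rfl
    have c8 := comb 2 2 (SR_card _ ((card_le_card_group _).trans (k _ h3).le))
      (SR_card _ ((card_le_card_group _).trans (k _ (em'.trans h3)).le))
    have cH : Nat.card H ≤ 4 := by
      have e1 := CfsgH1.card_map_mul_card_inf_ker f1 ⊤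
      have e2 := CfsgH1.card_map_mul_card_inf_ker f2 (⊤ ⊓ f1.ker)
      rw [kk, card_bot, mul_one] at e2
      rw [card_top, ← e2] at e1
      rw [← e1]
      exact Nat.mul_le_mul ((card_le_card_group _).trans (k _ h3).le)
        ((card_le_card_group _).trans (k _ (em'.trans h3)).le)
    have cP : Nat.card P ≤ 8 := by
      rw [← card_mul_relIndex (map_subtype_le H0)]
      exact Nat.mul_le_mul cH hi'
    refine ⟨4, fun A K j1 j2 j3 => ?_, by omega⟩
    by_cases hK : K = ⊥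
    · subst hK
      rw [card_bot]
      have j4 : A ≠ P := fun e => ht (by
        have sq : ∀ g : P, g * g = 1 := fun g => Subtype.ext (mem_bot.1 (j3 g (e.ge g.2)))
        have := sq (t * a)
        calc t * a = (t * a)⁻¹ := eq_inv_of_mul_eq_one_left this
          _ = a * t := by rw [mul_inv_rev, inv_eq_of_mul_eq_one_left (sq t), inv_eq_of_mul_eq_one_left aa])
      have j5 := card_mul_relIndex j1
      have j6 : A.relIndex P ≠ 1 := fun e => j4 (le_antisymm j1 (relIndex_eq_one.1 e))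
      have j7 : A.relIndex P ≠ 0 := index_ne_zero_of_finite
      have : 2 ≤ A.relIndex P := by omega
      nlinarith
    · have := (one_lt_card_iff_ne_bot K).2 hK
      have := card_le_of_le j1
      omega
  · have h5' : 5 ≤ Nat.card (fx a.1) := by obtain ⟨k, hk⟩ := om; omega
    have lt : Nat.card (fx a.1) < n := by nlinarith
    obtain ⟨B, b1, b2⟩ := ih _ lt _ f1.range rfl (hH.of_surjective _ f1.rangeRestrict_surjective) om h5' i1
    obtain ⟨C, c1, c2⟩ := ih _ lt _ f2.range em' (hH.of_surjective _ f2.rangeRestrict_surjective) om h5' i2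
    exact ⟨_, comb B C b1 c1, by nlinarith [Nat.mul_le_mul b2 c2]⟩

/-- Let G be a finite group that is the semidirect product of a normal abelian subgroup N of odd order by a 2-subgroup P, and suppose N is the unique minimal normal subgroup of G. Then the index of the Frattini subgroup of P in P is at most #N − 1. -/
theorem result {G : Type*} [Group G] [Finite G] (N P : Subgroup G) (hN : N.Normal) (hNab : IsMulCommutative ↥N) (hNodd : Odd (Nat.card ↥N)) (hP : IsPGroup 2 ↥P) (hdisj : N ⊓ P = ⊥) (hprod : N ⊔ P = ⊤) (hmin : N ≠ ⊥ ∧ ∀ M : Subgroup G, M.Normal → M ≠ ⊥ → N ≤ M) : (frattini ↥P).index ≤ Nat.card ↥N - 1 := by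
  haveI : Fact (Nat.Prime 2) := ⟨Nat.prime_two⟩
  letI : CommGroup N := { (inferInstance : Group N) with mul_comm := hNab.1.1 }
  let ρ : P →* MulAut N := (MulAut.conjNormal : G →* MulAut N).comp P.subtype
  have cN : N ≤ centralizer (N : Set G) := le_centralizer N
  have nrm : ∀ M : Subgroup G, N ≤ centralizer (M : Set G) → P ≤ normalizer (M : Set G) → M.Normal :=
    fun M h1 h2 => normalizer_eq_top_iff.1 (top_le_iff.1 (hprod.ge.trans
      (sup_le (h1.trans (centralizer_le_normalizer _)) h2)))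
  have hk : ⊤ ⊓ ρ.ker = ⊥ := by
    have h1 : P ⊓ centralizer (N : Set G) = ⊥ := by
      by_contra h
      have := hmin.2 _ (nrm _ (le_centralizer_iff.1 inf_le_right) (fun g hg =>
        mem_normalizer_of_conj_mem fun x hx => mem_inf.2 ⟨mul_mem (mul_mem hg hx.1) (inv_mem hg),
          (inferInstance : (centralizer (N : Set G)).Normal).conj_mem x hx.2 g⟩)) h
      exact hmin.1 (eq_bot_iff.2 ((le_inf le_rfl (this.trans inf_le_left)).trans hdisj.le))
    refine eq_bot_iff.2 fun g hg => Subtype.ext (mem_bot.1 (h1.le (mem_inf.2 ⟨g.2, fun x hx => ?_⟩)))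
    have h2 : ρ g = 1 := MonoidHom.mem_ker.1 hg.2
    have h3 : ρ g ⟨x, hx⟩ = ⟨x, hx⟩ := by rw [h2]; rfl
    have : g.1 * x * g.1⁻¹ = x := congrArg Subtype.val h3
    rw [mul_inv_eq_iff_eq_mul] at this
    exact this.symm
  have hI : Irr ρ.range := fun W hW => by
    by_cases h : W.map N.subtype = ⊥
    · exact Or.inl ((Subgroup.map_eq_bot_iff_of_injective _ N.subtype_injective).1 h)
    · right
      have := hmin.2 _ (nrm _ (cN.trans (centralizer_le (map_subtype_le W))) fun g hg =>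
        mem_normalizer_of_conj_mem (by
          rintro _ ⟨x, hx, rfl⟩
          exact ⟨_, hW _ ⟨⟨g, hg⟩, rfl⟩ x hx, rfl⟩)) h
      refine eq_top_iff.2 fun x _ => ?_
      obtain ⟨y, hy, e⟩ := this x.2
      rwa [← show y = x from Subtype.ext e]
  have fin : ∀ B, SR ρ.range B → (frattini P).index ≤ B := fun B h => by
    have h1 := SR_ext ρ (S := ⊤) (by rwa [← MonoidHom.range_eq_map]) (C := 1)
      (SR_card _ (by rw [hk, card_bot])) ⊤ (frattini P) le_rfl le_top
      fun x _ => by rw [← sq]; exact pow_mem_frattini hP x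
    rw [card_top, ← index_mul_card (frattini P), mul_one] at h1
    exact Nat.le_of_mul_le_mul_right h1 Nat.card_pos
  have n1 : Nat.card N ≠ 1 := fun e => hmin.1 (card_eq_one.1 e)
  by_cases h3 : Nat.card N = 3
  · haveI : Fact (Nat.Prime 3) := ⟨Nat.prime_three⟩
    haveI : IsCyclic N := isCyclic_of_prime_card h3
    refine fin _ (SR_card _ ((card_le_card_group _).trans ?_))
    rw [IsCyclic.card_mulAut, h3]; rfl
  · have h5 : 5 ≤ Nat.card N := by obtain ⟨k, hk⟩ := hNodd; omega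
    obtain ⟨B, b1, b2⟩ := key _ N ρ.range rfl (hP.of_surjective _ ρ.rangeRestrict_surjective) hNodd h5 hI
    have := fin B b1
    omega


end Cfsg.Agent.S4188
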