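import Cfsg.Statements.S4189
import Cfsg.Agent.H2.MaxClass

set_option autoImplicit false
open Cfsg

namespace Cfsg.Agent.S4189
open Subgroup CfsgH2
open scoped commutatorElement

/-- Let P be a finite non-abelian 2-group whose commutator subgroup has index 4 and whose automorphism group is not a 2-group (some automorphism has order that is not a power of 2). Then P is isomorphic to the quaternion group of order 8. -/
theorem result {P : Type*} [Group P] [Finite P] (hP : IsPGroup 2 P) (hna : ¬ IsMulCommutative P) (h4 : (commutator P).index = 4) (haut : ¬ IsPGroup 2 (MulAut P)) : Nonempty (P ≃* QuaternionGroup 2) := by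
  obtain ⟨g, h1, h3, h5⟩ := oddAct_hol haut
  obtain ⟨a, b, k, m, r, h⟩ := (isMC_of_index hP hna h4.le).exists
  have h' := h.map_inj (SemidirectProduct.inl (φ := MonoidHom.id (MulAut P))) SemidirectProduct.inl_injective
  have h6 := h'.card_eq
  obtain ⟨j, ⟨-, e, -⟩ | ⟨e0, e, -⟩⟩ := h'.odd_act le_rfl h1 h3 h5
  · rw [e, h'.card_sub le_rfl] at h6
    have := Nat.pow_right_injective le_rfl h6; omega
  · obtain ⟨f⟩ := (h'.q8_of e0).quaternion h'.orderOf_c
    exact ⟨((sdLTopEquiv _).trans (MulEquiv.subgroupCongr e)).trans f⟩


end Cfsg.Agent.S4189
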