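import Cfsg.Statements.S4194
import Mathlib
import Cfsg.Agent.H4.CamH

set_option autoImplicit false
open Cfsg

namespace Cfsg.Agent.S4194

/-- A finite group G has commutative Sylow 2-subgroups if and only if every 2-element of G (element of order a power of 2) is 2-central, that is, its centralizer contains a Sylow 2-subgroup of G. -/
theorem result {G : Type*} [Group G] [Finite G] (P : Sylow 2 G) :
    IsMulCommutative (P : Subgroup G) ↔ ∀ x : G, (∃ k : ℕ, orderOf x = 2 ^ k) → (∃ Q : Sylow 2 G, (Q : Subgroup G) ≤ Subgroup.centralizer ({x} : Set G)) := by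
  refine ⟨fun h x ⟨k, hk⟩ => ?_, fun h => CfsgH4.camina_herzog (fun x hx => ?_) P⟩
  · obtain ⟨g, hg⟩ := CfsgH2.exists_conj_mem_sylow P hk
    refine ⟨g⁻¹ • P, fun y hy => Subgroup.mem_centralizer_singleton_iff.2 ?_⟩
    rw [CfsgH2.sylow_smul_coe, CfsgH2.mem_cj, inv_inv] at hy
    have : g * y * g⁻¹ * (g * x * g⁻¹) = g * x * g⁻¹ * (g * y * g⁻¹) :=
      congrArg Subtype.val (h.is_comm.comm ⟨_, hy⟩ ⟨_, hg⟩)
    exact (MulAut.conj g).injective (by simpa only [map_mul, MulAut.conj_apply] using this)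
  · obtain ⟨Q, hQ⟩ := h x hx
    exact ⟨Q, CfsgH2.IsSylowIn.of_sylow_top Q, hQ⟩

end Cfsg.Agent.S4194
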