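import Cfsg.Statements.S4195
import Cfsg.Agent.H2.Cls

set_option autoImplicit false
open Cfsg

namespace Cfsg.Agent.S4195
open Subgroup CfsgH2
open scoped commutatorElement

open CfsgFT

/-- Let x be a non-identity element of a finite group G whose centralizer contains a Sylow 2-subgroup of G. If x is conjugate to its inverse, then x has order 2. -/
theorem result {G : Type*} [Group G] [Finite G] (x : G) (hx : x ≠ 1) (P : Sylow 2 G) (hP : (P : Subgroup G) ≤ Subgroup.centralizer ({x} : Set G)) (hreal : IsConj x x⁻¹) : orderOf x = 2 := by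
  obtain ⟨g, hg⟩ := isConj_iff.1 hreal
  have h1 : g ∈ N(zpowers x) := mem_norm_iff_cj.2 (by rw [cj_zpowers, hg, zpowers_inv])
  have h2 : g ^ 2 ∈ C1(x) := mem_cent1'.2 (by
    rw [← mul_inv_eq_iff_eq_mul]
    calc _ = g * (g * x * g⁻¹) * g⁻¹ := by rw [pow_two]; group
      _ = (g * x * g⁻¹)⁻¹ := by conv_lhs => rw [hg]
                                group
      _ = x := by rw [hg, inv_inv])
  have h3 := pow_relIndex_mem' (N := C1(x)) (H := N(zpowers x)) (by
    rw [← cent_zpowers]; exact normalizer_le_normalizer_centralizer _) h1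
  have h4 := ((IsSylowIn.of_sylow_top P).mono (hP.trans (cent1_le_norm_zpowers x)) le_top).not_dvd_of_le hP
    (cent1_le_norm_zpowers x)
  have h5 := mem_cent1'.1 (mem_of_pow_mem_of_pow_mem ((Nat.Prime.coprime_iff_not_dvd Nat.prime_two).2 h4) h2 h3)
  rw [h5, mul_inv_cancel_right] at hg
  exact orderOf_eq_prime (by rw [pow_two, mul_eq_one_iff_eq_inv]; exact hg) hx


end Cfsg.Agent.S4195
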