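import Cfsg.Statements.S4196
import Cfsg.Agent.S4195

set_option autoImplicit false
open Cfsg

namespace Cfsg.Agent.S4196
open Subgroup CfsgH2
open scoped commutatorElement

open CfsgFT

/-- A finite group G has elementary abelian Sylow 2-subgroups (commutative with every element squaring to the identity) if and only if every 2-element of G has a Sylow 2-subgroup in its centralizer and is conjugate to its inverse. -/
theorem result {G : Type*} [Group G] [Finite G] (P : Sylow 2 G) :
    (IsMulCommutative (P : Subgroup G) ∧ ∀ x ∈ (P : Subgroup G), x ^ 2 = 1) ↔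
      ∀ x : G, (∃ k : ℕ, orderOf x = 2 ^ k) → (∃ Q : Sylow 2 G, (Q : Subgroup G) ≤ Subgroup.centralizer ({x} : Set G)) ∧ IsConj x x⁻¹ := by
  constructor
  · rintro ⟨h1, h2⟩ x ⟨k, hk⟩
    obtain ⟨g, hg⟩ := exists_conj_mem_sylow P hk
    refine ⟨⟨g⁻¹ • P, ?_⟩, ?_⟩
    · rw [sylow_smul_coe, cj_le_iff_le_cj_inv, inv_inv, cj_centralizer_singleton]
      exact (comm_iff.1 h1).trans (cent_le_cent1 hg)
    · have := h2 _ hg
      rw [conj_pow, conj_eq_one_iff, pow_two, mul_eq_one_iff_eq_inv] at this
      rw [← this]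
  · intro h
    have k : ∀ x ∈ (P : Subgroup G), x ^ 2 = 1 := fun x hx => by
      by_cases e : x = 1
      · rw [e, one_pow]
      obtain ⟨⟨Q, a⟩, b⟩ := h x (exists_orderOf_eq_pow P.2 hx)
      rw [← Cfsg.Agent.S4195.result x e Q a b, pow_orderOf_eq_one]
    have i : ∀ x ∈ (P : Subgroup G), x⁻¹ = x := fun x hx => by
      rw [inv_eq_iff_mul_eq_one, ← pow_two, k x hx]
    exact ⟨isMulCommutative_of_forall fun a ha b hb => by
      rw [← i _ (mul_mem ha hb), mul_inv_rev, i a ha, i b hb], k⟩


end Cfsg.Agent.S4196
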