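import Cfsg.Statements.S4198
import Cfsg.Agent.H3.An1

set_option autoImplicit false
open Cfsg

namespace Cfsg.Agent.S4198

open Subgroup Equiv CfsgPm
def T (n : ℕ) : Set (Multiset ℕ) := {m | m.sum ≤ n ∧ ∀ a ∈ m, 2 ≤ a}
theorem T_le : ∀ n, (T n).encard ≤ Nat.fib (n + 1)
  | 0 | 1 => (Set.encard_le_encard (t := {0}) fun m h => Multiset.eq_zero_of_forall_notMem fun a ha => by
      have := h.2 a ha; have := Multiset.single_le_sum (by simp) a ha; have := h.1; omega).trans (by simp)
  | n + 2 => by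
    classical
    refine (Set.encard_le_encard (t := (fun m => (n + 2 - m.sum) ::ₘ m) '' T n ∪ T (n + 1)) fun m h => or_iff_not_imp_right.2 fun q => ?_).trans
      ((Set.encard_union_le _ _).trans ((add_le_add ((Set.encard_image_le _ _).trans (T_le n)) (T_le (n + 1))).trans (by rw [Nat.fib_add_two (n := n + 1)]; simp)))
    have e : m.sum = n + 2 := le_antisymm h.1 (not_le.1 fun l => q ⟨l, h.2⟩)
    obtain ⟨a, ha⟩ := Multiset.exists_mem_of_ne_zero (s := m) (by rintro rfl; simp at e)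
    obtain ⟨t, rfl⟩ := Multiset.exists_cons_of_mem ha
    have := h.2 a ha
    rw [Multiset.sum_cons] at e
    exact ⟨t, ⟨by omega, fun b hb => h.2 b (Multiset.mem_cons_of_mem hb)⟩, by simp [← e]⟩
theorem fib_le : ∀ n, Nat.fib (n + 6) ≤ 2 ^ (n + 3)
  | 0 => by decide
  | n + 1 => by have := fib_le n; have := Nat.fib_le_fib_succ (n := n + 5); rw [Nat.fib_add_two (n := n + 5), pow_succ]; norm_num [add_assoc] at *; omega

/-- For n ≥ 5 the alternating group of degree n has strictly fewer conjugacy classes than the symmetric group of degree n, and the symmetric group of degree n (whose classes correspond to the partitions of n) has at most 2^(n−2) conjugacy classes. -/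
theorem result (n : ℕ) (hn : 5 ≤ n) : Nat.card (ConjClasses (alternatingGroup (Fin n))) < Nat.card (ConjClasses (Equiv.Perm (Fin n))) ∧ Nat.card (ConjClasses (Equiv.Perm (Fin n))) ≤ 2 ^ (n - 2) := by
  classical
  have f := Set.finite_of_encard_le_coe (T_le n)
  have e : Nat.card (ConjClasses (Perm (Fin n))) = Nat.card (T n) := Nat.card_congr (.ofBijective (fun c => ⟨(Quotient.out c).cycleType,
    (Fintype.card_fin n ▸ (Perm.exists_with_cycleType_iff _).1 ⟨_, rfl⟩ :)⟩) ⟨fun c d h => Quotient.out_equiv_out.1 (Perm.isConj_of_cycleType_eq (Subtype.mk.inj h)),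
    fun m => by
      obtain ⟨g, hg⟩ := (Perm.exists_with_cycleType_iff (Fin n)).2 (by rw [Fintype.card_fin]; exact m.2)
      exact ⟨ConjClasses.mk g, Subtype.ext ((Perm.isConj_iff_cycleType_eq.1 (Quotient.mk_out (s := IsConj.setoid _) g)).trans hg)⟩⟩)
  rw [e]
  refine ⟨?_, ?_⟩
  swap
  · obtain ⟨k, rfl⟩ := Nat.exists_eq_add_of_le' hn
    exact (Nat.cast_le.1 (f.cast_ncard_eq.le.trans (T_le _))).trans (fib_le k)
  let y : ConjClasses (alternatingGroup (Fin n)) → Multiset ℕ := fun c => (Quotient.out c).1.cycleType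
  let r := fun m => Classical.epsilon fun c => y c = m
  have hr : ∀ c, y (r (y c)) = y c := fun c => Classical.epsilon_spec (p := fun d => y d = y c) ⟨c, rfl⟩
  have yT : ∀ c, y c ∈ T n := fun c => (Fintype.card_fin n ▸ (Perm.exists_with_cycleType_iff _).1 ⟨_, rfl⟩ :)
  have ev : ∀ c, Even ((y c).sum + (y c).card) := fun c => (neg_one_pow_eq_one_iff_even (by decide)).1 ((Perm.sign_of_cycleType _).symm.trans (Quotient.out c).2)
  have sp : ∀ c, c ≠ r (y c) → (∀ a ∈ y c, Odd a) ∧ n ≤ (y c).sum + 1 := fun c h => by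
    simpa using And.imp_right And.left (Perm.centralizer_le_alternating_iff.1 (by_contra fun q => h (Quotient.out_equiv_out.1 (conjA (Perm.isConj_of_cycleType_eq (hr c).symm) q))))
  have two : ∀ c d, y c = y d → c ≠ r (y c) → d ≠ r (y d) → c = d := fun c d e a b => by
    have k : ∀ c, c ≠ r (y c) → ∃ g, Perm.sign g = -1 ∧ g * (Quotient.out (r (y c))).1 * g⁻¹ = (Quotient.out c).1 := fun c h => by
      obtain ⟨g, hg⟩ := isConj_iff.1 (Perm.isConj_of_cycleType_eq (hr c))
      exact ⟨g, (Int.units_eq_one_or _).resolve_left fun s => h (Quotient.out_equiv_out.1 (isConj_iff.2 ⟨⟨g, s⟩, Subtype.ext hg⟩)).symm, hg⟩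
    obtain ⟨g, s, hg⟩ := k c a
    obtain ⟨h, t, hh⟩ := k d b
    exact Quotient.out_equiv_out.1 (isConj_iff.2 ⟨⟨h * g⁻¹, by simp [Perm.mem_alternatingGroup, s, t]⟩, Subtype.ext (by simp [← hg, ← hh, e, mul_assoc])⟩)
  have : ∀ c, ∃ t : T n, (c = r (y c) ∧ t = y c) ∨ c ≠ r (y c) ∧ ∃ a s, y c = (a + 1) ::ₘ s ∧ t = a ::ₘ s := fun c => by
    by_cases h : c = r (y c)
    · exact ⟨⟨_, yT c⟩, .inl ⟨h, rfl⟩⟩
    obtain ⟨a, ha⟩ := Multiset.exists_mem_of_ne_zero (s := y c) fun q => by have := (sp c h).2; simp [q] at this; omega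
    obtain ⟨s, hs⟩ := Multiset.exists_cons_of_mem ha
    obtain ⟨k, rfl⟩ := (sp c h).1 a ha
    have := hs ▸ yT c
    exact ⟨⟨2 * k ::ₘ s, by simp only [T, Set.mem_setOf, Multiset.sum_cons, Multiset.forall_mem_cons] at this ⊢; exact ⟨by omega, by omega, this.2.2⟩⟩, .inr ⟨h, _, _, hs, rfl⟩⟩
  choose F hF using this
  haveI := f.to_subtype
  have od : ∀ c d a s, y c = (a + 1) ::ₘ s → y d ≠ a ::ₘ s := fun c d a s p q => by
    have := ev c; have := ev d; simp [p, q, Nat.even_iff] at *; omega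
  haveI := Fintype.ofFinite (T n)
  haveI := Fintype.ofFinite (ConjClasses (alternatingGroup (Fin n)))
  rw [Nat.card_eq_fintype_card, Nat.card_eq_fintype_card]
  refine Fintype.card_lt_of_injective_of_notMem F (fun c d e => ?_) (b := ⟨{2}, by simp [T]; omega⟩) ?_
  · obtain ⟨a, b⟩ | ⟨a, u, s, b, k⟩ := hF c <;> obtain ⟨p, q⟩ | ⟨p, v, t, q, l⟩ := hF d
    · rw [a, p, ← b, e, q]
    · exact (od _ _ _ _ q (by rw [← b, e, l])).elim
    · exact (od _ _ _ _ b (by rw [← q, ← e, k])).elim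
    have w := k.symm.trans (e ▸ l)
    obtain rfl : u = v := (Multiset.mem_cons.1 (w ▸ Multiset.mem_cons_self u s)).resolve_right fun m => by
      have := (sp c a).1 (u + 1) (by simp [b]); have := (sp d p).1 u (by simp [q, m]); simp only [Nat.odd_iff] at *; omega
    exact two c d (by rw [b, q, (Multiset.cons_inj_right _).1 w]) a p
  rintro ⟨c, h⟩
  obtain ⟨-, b⟩ | ⟨a, u, s, b, k⟩ := hF c
  · have := ev c; simp [← b, h] at this; revert this; decide
  obtain ⟨rfl, rfl⟩ := (Multiset.singleton_eq_cons_iff _).1 (h ▸ k :)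
  have := (sp c a).2
  simp [b] at this; omega

end Cfsg.Agent.S4198
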