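import Cfsg.Statements.S4200
import Cfsg.Agent.H2.Cls

set_option autoImplicit false
open Cfsg

namespace Cfsg.Agent.S4200
open Subgroup CfsgH2
open scoped commutatorElement

open CfsgFT

/-- Let Y be a subgroup of the finite group X, of index m. Then the numbers of conjugacy classes satisfy k(Y) ≤ m·k(X) and k(X) ≤ m·k(Y), and the second inequality is strict unless Y is normal in X. -/
theorem result {X : Type*} [Group X] [Finite X] (Y : Subgroup X) : Nat.card (ConjClasses Y) ≤ Y.index * Nat.card (ConjClasses X) ∧ Nat.card (ConjClasses X) ≤ Y.index * Nat.card (ConjClasses Y) ∧ (¬ Y.Normal → Nat.card (ConjClasses X) < Y.index * Nat.card (ConjClasses Y)) := by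
  haveI := Fintype.ofFinite X
  haveI := Fintype.ofFinite Y
  have k : ∀ x : X, Nat.card C1(x) * Nat.card {y // IsConj x y} =
      Y.index * Nat.card (Y ⊓ C1(x) : Subgroup X) * Nat.card {y // ∃ a ∈ Y, a * x * a⁻¹ = y} := fun x => by
    rw [mul_comm, card_cls, mul_right_comm, mul_assoc, card_cls_in, index_mul_card]
  have pos : ∀ x : X, 0 < Nat.card {y // IsConj x y} := fun x => by
    haveI : Nonempty {y // IsConj x y} := ⟨⟨x, .refl x⟩⟩
    exact Nat.card_pos
  have sub : ∀ x y : X, (∃ a ∈ Y, a * x * a⁻¹ = y) → IsConj x y := fun x y ⟨a, _, h⟩ => isConj_iff.2 ⟨a, h⟩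
  have k1 : ∀ x : X, Nat.card C1(x) ≤ Y.index * Nat.card (Y ⊓ C1(x) : Subgroup X) := fun x =>
    Nat.le_of_mul_le_mul_right ((k x).trans_le (Nat.mul_le_mul_left _ (card_subtype_le (sub x)))) (pos x)
  have a : Nat.card (ConjClasses X) * Nat.card X = ∑ x : X, Nat.card C1(x) := by
    rw [← card_comm_eq_card_conjClasses_mul_card, card_pairs]
    exact Finset.sum_congr rfl fun x _ => card_subtype_congr fun y => mem_cent1.symm
  have b : Nat.card (ConjClasses Y) * Nat.card Y = ∑ y : Y, Nat.card (Y ⊓ C1((y : X)) : Subgroup X) := by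
    rw [← card_comm_eq_card_conjClasses_mul_card, card_pairs]
    refine Finset.sum_congr rfl fun x _ => ((card_subtype_congr fun y => ?_).trans
      (card_subtype_subtype (· ∈ Y) (· ∈ C1((x : X)))))
    rw [mem_cent1, Commute, SemiconjBy, Subtype.ext_iff]; rfl
  have c : ∑ x : X, Nat.card (Y ⊓ C1(x) : Subgroup X) = ∑ y : Y, Nat.card C1((y : X)) := by
    have h1 := card_pairs fun (x : X) (y : Y) => (y : X) ∈ C1(x)
    have h2 := card_pairs fun (y : Y) (x : X) => (y : X) ∈ C1(x)
    rw [card_pairs_swap fun (x : X) (y : Y) => (y : X) ∈ C1(x), h2] at h1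
    exact (Finset.sum_congr rfl fun x _ => (card_subtype_subtype (· ∈ Y) (· ∈ C1(x))).symm).trans (h1.symm.trans
      (Finset.sum_congr rfl fun y _ => card_subtype_congr fun x => mem_cent1.trans mem_cent1'.symm))
  have d : Nat.card (ConjClasses X) * Nat.card X ≤ Y.index * ∑ y : Y, Nat.card C1((y : X)) := by
    rw [a, ← c, Finset.mul_sum]
    exact Finset.sum_le_sum fun x _ => k1 x
  have e : Y.index * ∑ y : Y, Y.index * Nat.card (Y ⊓ C1((y : X)) : Subgroup X) =
      Y.index * Nat.card (ConjClasses Y) * Nat.card X := by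
    rw [← Finset.mul_sum, ← b, ← Y.index_mul_card]; ring
  refine ⟨Nat.le_of_mul_le_mul_right ?_ (Nat.card_pos (α := Y)), Nat.le_of_mul_le_mul_right (d.trans (e ▸
    Nat.mul_le_mul_left _ (Finset.sum_le_sum fun y _ => k1 y))) (Nat.card_pos (α := X)), fun h =>
      Nat.lt_of_mul_lt_mul_right (d.trans_lt (e ▸ Nat.mul_lt_mul_of_pos_left (Finset.sum_lt_sum (fun y _ => k1 y) ?_)
        (Nat.pos_of_ne_zero index_ne_zero_of_finite)))⟩
  · rw [mul_right_comm, index_mul_card, mul_comm (Nat.card X), ← card_comm_eq_card_conjClasses_mul_card,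
      ← card_comm_eq_card_conjClasses_mul_card]
    exact Nat.card_le_card_of_injective (fun x => ⟨(x.1.1, x.1.2), congrArg Subtype.val x.2⟩) fun x y h =>
      Subtype.ext (Prod.ext (Subtype.ext (congrArg (·.1.1) h)) (Subtype.ext (congrArg (·.1.2) h)))
  · by_contra h'
    push Not at h'
    refine h ⟨fun y hy g => ?_⟩
    have h1 := Nat.le_of_mul_le_mul_left ((Nat.mul_le_mul_right _ (h' ⟨y, hy⟩ (Finset.mem_univ _))).trans_eq (k y))
      (Nat.mul_pos (Nat.pos_of_ne_zero index_ne_zero_of_finite) Nat.card_pos)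
    obtain ⟨⟨_, a, ha, rfl⟩, h2⟩ := ((Subtype.map_injective (f := id) (sub y) Function.injective_id).bijective_of_nat_card_le
      h1).2 ⟨_, isConj_iff.2 ⟨g, rfl⟩⟩
    exact (show a * y * a⁻¹ = g * y * g⁻¹ from congrArg Subtype.val h2) ▸ mul_mem (mul_mem ha hy) (inv_mem ha)


end Cfsg.Agent.S4200
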