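import Cfsg.Statements.S4203
import Cfsg.Agent.H2.Mix
import Cfsg.Agent.H2.SylNum
import Cfsg.Agent.H3.Burnside

set_option autoImplicit false
open Cfsg

namespace Cfsg.Agent.S4203
open Subgroup CfsgH2
open scoped commutatorElement

open CfsgFT CfsgH1 CfsgLead
theorem aux (n : ℕ) : ∀ (G : Type*) [Group G] [Finite G], Nat.card G = n →
    (∀ M : Subgroup G, IsCoatom M → ∃ p : ℕ, p.Prime ∧ (M.index = p ∨ M.index = p ^ 2)) → Group.IsSolvable G := by
  induction n using Nat.strong_induction_on with
  | _ n ih =>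
  intro G _ _ e h
  rcases subsingleton_or_nontrivial G with _ | _
  · infer_instance
  have ne : (Nat.card G).primeFactors.Nonempty := Nat.nonempty_primeFactors.2 Finite.one_lt_card
  obtain ⟨p, hp, mx⟩ := (Nat.card G).primeFactors.exists_max_image id ne
  simp only [id] at mx
  obtain ⟨hp, hd, n0⟩ := Nat.mem_primeFactors.1 hp
  haveI := Fact.mk hp
  obtain ⟨P⟩ : Nonempty (Sylow p G) := inferInstance
  have hP := IsSylowIn.of_sylow_top P
  by_cases c : N((P : Subgroup G)) = ⊤
  · haveI := normal_of_top_le c.ge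
    refine isSolvable_of_normal_of_quotient P (solvable_of_pgroup P.2) (ih _ (e ▸ card_quotient_lt
      fun e => hP.eq_bot_iff.1 e (by rwa [Subgroup.card_top])) _ rfl fun M hM => ?_)
    rw [← index_comap_of_surjective _ (QuotientGroup.mk'_surjective (P : Subgroup G))]
    exact h _ (isCoatom_comap_of_surjective (QuotientGroup.mk'_surjective _) hM)
  obtain ⟨M, a, b⟩ := exists_coatom_ge c
  obtain ⟨q, hq, d⟩ := h M a
  have h1 := card_sylow_modEq_one p G
  have h2 := card_sylow_modEq_one p M
  rw [card_sylow_top hP, ← relIndex_mul_index b] at h1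
  rw [card_sylow_in (hP.mono (le_normalizer.trans b) le_top)] at h2
  have h3 : M.index ≡ 1 [MOD p] := by simpa using ((h2.symm.mul_right M.index).trans h1)
  have h4 : q ≤ p := mx q (Nat.mem_primeFactors.2 ⟨hq, Dvd.dvd.trans (by
    rcases d with d | d <;> rw [d]; exact dvd_pow_self _ two_ne_zero) (index_dvd_card M), n0⟩)
  have q2 := hq.two_le
  have h5 : p ∣ (q - 1) * (q + 1) := by
    rcases d with d | d <;> rw [d] at h3
    · exact ((Nat.modEq_iff_dvd' hq.one_lt.le).1 h3.symm).mul_right _
    · rw [mul_comm, ← Nat.sq_sub_sq, one_pow]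
      exact (Nat.modEq_iff_dvd' (Nat.one_le_pow _ _ hq.pos)).1 h3.symm
  have h6 : p ≤ 3 := by
    rcases (Nat.Prime.dvd_mul hp).1 h5 with d | ⟨j, d⟩
    · have := Nat.le_of_dvd (by omega) d; omega
    · by_contra! c
      have : j = 1 := by
        rcases j with _ | _ | j
        · omega
        · rfl
        · nlinarith
      subst this
      rcases hq.eq_two_or_odd with d | d <;> rcases hp.eq_two_or_odd with d | d <;> omega
  refine CfsgH3.isSolvable_of_card_dvd_pow_mul_pow Nat.prime_two Nat.prime_three (a := Nat.card G) (b := Nat.card G) ?_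
  refine (Nat.dvd_iff_prime_pow_dvd_dvd _ _).2 fun r k hr hk => ?_
  rcases k with _ | k
  · exact one_dvd _
  have := mx r (Nat.mem_primeFactors.2 ⟨hr, (dvd_pow_self _ k.succ_ne_zero).trans hk, n0⟩)
  have hk2 := ((Nat.lt_pow_self hr.one_lt).trans_le (Nat.le_of_dvd Nat.card_pos hk)).le
  have r2 := hr.two_le
  obtain rfl | rfl : r = 2 ∨ r = 3 := by omega
  · exact (pow_dvd_pow _ hk2).mul_right _
  · exact (pow_dvd_pow _ hk2).mul_left _

/-- A finite group in which every maximal subgroup has index a prime or the square of a prime is solvable. -/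
theorem result {G : Type*} [Group G] [Finite G] (h : ∀ M : Subgroup G, IsCoatom M → ∃ p : ℕ, p.Prime ∧ (M.index = p ∨ M.index = p ^ 2)) : Group.IsSolvable G := by
  exact aux _ G rfl h


end Cfsg.Agent.S4203
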