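import Cfsg.Statements.S4204
import Cfsg.Agent.H2.Cls

set_option autoImplicit false
open Cfsg

namespace Cfsg.Agent.S4204
open Subgroup CfsgH2
open scoped commutatorElement

open CfsgFT

/-- If `H` and `K` are normal subgroups of a finite group with `H` nilpotent of class at most `c` and `K` nilpotent of class at most `d` (the terms with index `c`, respectively `d`, of their lower central series are trivial, indices starting at `0`), then `HK` is nilpotent of class at most `c + d`. -/
theorem result {G : Type*} [Group G] [Finite G] (H K : Subgroup G) [H.Normal] [K.Normal] (c d : ℕ) (hH : H.lowerCentralSeries c = ⊥) (hK : K.lowerCentralSeries d = ⊥) : (H ⊔ K).lowerCentralSeries (c + d) = ⊥ := by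
  let U : ℕ → Subgroup G := fun n => Nat.rec ⊥ (fun _ X => centMod X ((H ⊔ K : Subgroup G) : Set G)) n
  have u : ∀ n, (U n).Normal := fun n => by
    induction n with
    | zero => exact normal_bot
    | succ n ih =>
      refine ⟨fun x hx g => mem_centMod.2 ⟨(normalizer_eq_top _).ge (mem_top _), fun s hs => ?_⟩⟩
      have := ih.conj_mem _ ((mem_centMod.1 hx).2 _ ((inferInstance : (H ⊔ K).Normal).conj_mem' s hs g)) g
      convert this using 1
      group
  have u' : ∀ n (X : Subgroup G), X ≤ N(U n) := fun n X => by haveI := u n; exact le_top.trans (normalizer_eq_top _).ge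
  have v : ∀ n (X : Subgroup G), X ≤ U (n + 1) ↔ ⁅X, H ⊔ K⁆ ≤ U n := fun n X => le_centMod_iff (u' n X)
  have ln : ∀ (L : Subgroup G) [L.Normal] (i : ℕ), (L.lowerCentralSeries i).Normal := fun L _ i => by
    induction i with
    | zero => assumption
    | succ i ih => exact commutator_normal _ _
  let A : Subgroup G → ℕ → Subgroup G := fun L i => Nat.casesOn i ⊤ L.lowerCentralSeries
  have a1 : ∀ (L : Subgroup G) [L.Normal] (i : ℕ), ⁅A L i, L⁆ ≤ A L (i + 1) := fun L _ i => by
    cases i with
    | zero => exact commutator_le_right _ _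
    | succ i => exact le_rfl
  have a2 : ∀ (L : Subgroup G) [L.Normal] (i : ℕ) (X : Subgroup G), ⁅A L i, X⁆ ≤ A L i := fun L _ i X => by
    cases i with
    | zero => exact le_top
    | succ i => haveI := ln L i; exact commutator_le_left _ _
  have k : ∀ n i j, c + d + 1 ≤ i + j + n → A H i ⊓ A K j ≤ U n := fun n => by
    induction n with
    | zero =>
      intro i j h
      rcases (by omega : c + 1 ≤ i ∨ d + 1 ≤ j) with h | h
      · obtain ⟨i, rfl⟩ : ∃ k, i = k + 1 := ⟨i - 1, by omega⟩
        exact inf_le_left.trans ((H.lowerCentralSeries_antitone (by omega)).trans hH.le)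
      · obtain ⟨j, rfl⟩ : ∃ k, j = k + 1 := ⟨j - 1, by omega⟩
        exact inf_le_right.trans ((K.lowerCentralSeries_antitone (by omega)).trans hK.le)
    | succ n ih =>
      intro i j h
      refine (v _ _).2 (comm_sup_right_le (le_trans (le_inf ((commutator_mono inf_le_left le_rfl).trans (a1 H i))
        ((commutator_mono inf_le_right le_rfl).trans (a2 K j H))) (ih (i + 1) j (by omega))) (le_trans (le_inf
          ((commutator_mono inf_le_left le_rfl).trans (a2 H i K)) ((commutator_mono inf_le_right le_rfl).trans
            (a1 K j))) (ih i (j + 1) (by omega))) (u' _ _) (u' _ _))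
  have l : ∀ m n, m + n = c + d → (H ⊔ K).lowerCentralSeries m ≤ U n := fun m => by
    induction m with
    | zero => exact fun n h => sup_le ((le_inf le_rfl le_top).trans (k n 1 0 (by omega)))
                ((le_inf le_top le_rfl).trans (k n 0 1 (by omega)))
    | succ m ih => exact fun n h => (v _ _).1 (ih (n + 1) (by omega))
  exact le_bot_iff.1 (l _ 0 rfl)


end Cfsg.Agent.S4204
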