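import Cfsg.Statements.S4205
import Cfsg.Agent.H2.Cls

set_option autoImplicit false
open Cfsg

namespace Cfsg.Agent.S4205
open Subgroup CfsgH2
open scoped commutatorElement

/-- In a finite group whose upper central series reaches the whole group at step `c` (nilpotent of class at most `c`), starting from any subgroup and taking normalizers `c` times reaches the whole group. -/
theorem result {G : Type*} [Group G] [Finite G] (c : ℕ) (hG : Subgroup.upperCentralSeries G c = ⊤) (H : Subgroup G) : (fun K : Subgroup G => Subgroup.normalizer (K : Set G))^[c] H = ⊤ := by
  suffices ∀ n, Subgroup.upperCentralSeries G n ≤ (fun K : Subgroup G => normalizer (K : Set G))^[n] H ∧ True from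
    top_le_iff.1 (hG ▸ (this c).1)
  intro n
  induction n with
  | zero => exact ⟨bot_le, trivial⟩
  | succ n ih =>
    rw [Function.iterate_succ_apply']
    refine ⟨fun x hx => mem_normalizer_of_conj_mem fun y hy => ?_, trivial⟩
    simpa [commutatorElement_def] using mul_mem (ih.1 (Subgroup.mem_upperCentralSeries_succ_iff.1 hx y)) hy


end Cfsg.Agent.S4205
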