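import Cfsg.Statements.S4207
import Cfsg.Agent.H2.FrobEx

set_option autoImplicit false
open Cfsg

namespace Cfsg.Agent.S4207
open Subgroup CfsgH2
open scoped commutatorElement

/-- Let `P` be a group of order `p^n` whose Frattini subgroup has index `p^r`. Then any group of automorphisms of `P` each of which induces the identity on the Frattini quotient has order dividing `p^(r(n-r))`; in particular it is a `p`-group. -/
theorem result {P : Type*} [Group P] [Finite P] {p n r : ℕ} [Fact p.Prime] (hP : Nat.card P = p ^ n) (hr : (frattini P).index = p ^ r) (A : Subgroup (MulAut P)) (hA : ∀ α ∈ A, ∀ x : P, α x * x⁻¹ ∈ frattini P) : Nat.card A ∣ p ^ (r * (n - r)) := by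
  obtain ⟨a, b⟩ := card_gen_frattini hP hr
  have hp := (Fact.out : p.Prime)
  obtain ⟨x, hx⟩ := (Nat.card_pos_iff.1 (b ▸ mul_pos (pow_pos hp.pos _) (Finset.prod_pos fun i hi =>
    Nat.sub_pos_of_lt (Nat.pow_lt_pow_right hp.one_lt (Finset.mem_range.1 hi))))).1
  let Ω : SubMulAction A (Fin r → P) := ⟨{y | ∀ i, y i * (x i)⁻¹ ∈ frattini P}, fun f y h i => by
    have := mul_mem (hA f f.2 (y i)) (h i)
    rwa [mul_assoc, inv_mul_cancel_left] at this⟩
  have := card_dvd_of_free Ω fun y h f e => Subtype.ext (aut_eq_one_of_gen (y := y) (frattini_nongenerating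
    (top_le_iff.1 (hx.ge.trans ((closure_le _).2 ?_)))) (congrFun e))
  · rwa [Nat.card_congr (α := Ω) (β := Fin r → frattini P) ⟨fun y i => ⟨_, y.2 i⟩, fun y => ⟨fun i => y i * x i, fun i => by simp⟩,
      fun y => by simp, fun y => by simp⟩, Nat.card_fun, a, Nat.card_fin, ← pow_mul,
      mul_comm] at this
  · rintro _ ⟨i, rfl⟩
    simpa using mul_mem (inv_mem (mem_sup_right (h i))) (mem_sup_left (Subgroup.subset_closure (Set.mem_range_self (f := y) i)))


end Cfsg.Agent.S4207
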