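import Cfsg.Statements.S4211
import Cfsg.Agent.H1.Prim
import Cfsg.Agent.H1.Amb
import Cfsg.Agent.H2.Meta
import Cfsg.Agent.H2.PGroup3

set_option autoImplicit false
open Cfsg

namespace Cfsg.Agent.S4211

open Subgroup CfsgH1 CfsgFT CfsgH2 in
theorem core {G : Type*} [Group G] [Finite G] (hn : ∀ H : Subgroup G, H.Normal) {p : ℕ} [hp : Fact p.Prime] {P : Subgroup G}
    (hP : IsPGroup p P) (h : ¬ P ≤ C(P)) : p = 2 ∧ ∃ x y : G, orderOf x = 4 ∧ y * x * y⁻¹ = x⁻¹ ∧ y * y = x ^ 2 := by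
  classical
  have m1 : ∀ a b : G, b⁻¹ * a⁻¹ * b * a ∈ zpowers a := fun a b =>
    mul_mem (by simpa using (hn _).conj_mem _ (inv_mem (mem_zpowers a)) b⁻¹) (mem_zpowers a)
  have m2 : ∀ a b : G, b⁻¹ * a⁻¹ * b * a ∈ zpowers b := fun a b => by simpa [mul_assoc] using inv_mem (m1 b a)
  have cm : ∀ {a c : G}, c ∈ zpowers a → Commute c a := by rintro a _ ⟨i, rfl⟩; exact (Commute.refl a).zpow_left i
  have e0 : ∀ a b : G, b * a = a * b * (b⁻¹ * a⁻¹ * b * a) := fun a b => by group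
  have K : ∀ (a b : G) (k : ℕ), Commute (b ^ k) a → (b⁻¹ * a⁻¹ * b * a) ^ k = 1 := fun a b k c => by
    have := pow_mul_eq_of_comm' (v := 1) (e0 a b) (by rw [mul_one]; exact cm (m2 a b)) (.one_left _) (.one_left _) k
    rwa [one_pow, mul_one, c.eq, left_eq_mul] at this
  obtain ⟨x, y, ⟨hx, hy, nc⟩, l, mn⟩ : ∃ x y : G, (x ∈ P ∧ y ∈ P ∧ ¬ Commute x y) ∧ orderOf y ≤ orderOf x ∧
      ∀ a b : G, a ∈ P → b ∈ P → ¬ Commute a b → orderOf x + orderOf y ≤ orderOf a + orderOf b := by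
    obtain ⟨⟨x, y⟩, k, mn⟩ := Set.exists_min_image {z : G × G | z.1 ∈ P ∧ z.2 ∈ P ∧ ¬ Commute z.1 z.2}
      (fun z => orderOf z.1 + orderOf z.2) (Set.toFinite _) (by
        by_contra! k
        exact h fun a ha => mem_cent.2 fun b hb => by_contra fun n => (k.le (show (b, a) ∈ _ from ⟨hb, ha, n⟩) :))
    rcases le_total (orderOf y) (orderOf x) with l | l
    · exact ⟨x, y, k, l, fun a b h1 h2 h3 => mn (a, b) ⟨h1, h2, h3⟩⟩
    · exact ⟨y, x, ⟨k.2.1, k.1, fun c => k.2.2 c.symm⟩, l, fun a b h1 h2 h3 => (add_comm _ _).trans_le (mn (a, b) ⟨h1, h2, h3⟩)⟩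
  obtain ⟨m, hm⟩ := exists_orderOf_eq_pow hP hx
  obtain ⟨_ | n, hn'⟩ := exists_orderOf_eq_pow hP hy
  · exact (nc (orderOf_eq_one_iff.1 hn' ▸ Commute.one_right x)).elim
  have nm : n + 1 ≤ m := (Nat.pow_le_pow_iff_right hp.1.one_lt).1 (hm ▸ hn' ▸ l)
  obtain ⟨m, rfl⟩ := Nat.exists_eq_add_of_le nm
  have yp : Commute (y ^ p) x := by_contra fun k => by
    have := mn x _ hx (pow_mem hy p) fun c => k c.symm
    rw [orderOf_pow_of_dvd hp.1.ne_zero (hn' ▸ dvd_pow_self p n.succ_ne_zero)] at this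
    exact absurd (Nat.div_lt_self (orderOf_pos y) hp.1.one_lt) (by omega)
  have co := orderOf_eq_prime (K x y p yp) fun k => nc (by rw [commute_iff_eq, e0 x y, k, mul_one])
  have uo : orderOf (y ^ p ^ n) = p := by
    rw [orderOf_pow_of_dvd (pow_ne_zero _ hp.1.ne_zero) (hn' ▸ pow_dvd_pow p n.le_succ), hn', pow_succ,
      Nat.mul_div_cancel_left _ (pow_pos hp.1.pos n)]
  obtain ⟨j, hj⟩ := inv_mem (zpowers_le.2 (m1 x y) ((eq_of_card_eq_of_cyclic inferInstance (zpowers_le.2 (m2 x y))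
    (zpowers_le.2 (pow_mem (mem_zpowers y) _)) (by rw [Nat.card_zpowers, Nat.card_zpowers, co, uo])).ge (mem_zpowers _)))
  simp only at hj
  obtain ⟨k, rfl⟩ : (p : ℤ) ^ (n + m) ∣ j := by
    refine (mul_dvd_mul_iff_right (Nat.cast_ne_zero.2 hp.1.ne_zero)).1 (?_ : _ ∣ j * p)
    rw [← pow_succ, show n + m + 1 = n + 1 + m by ring, ← Nat.cast_pow, ← hm, orderOf_dvd_iff_zpow_eq_one, zpow_mul, hj,
      zpow_natCast, inv_pow, ← pow_mul, ← pow_succ, ← hn', pow_orderOf_eq_one, inv_one]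
  set w := x ^ ((p : ℤ) ^ m * k)
  have wP : w ∈ P := zpow_mem hx _
  have wx : Commute w x := (Commute.refl x).zpow_left _
  have w1 : w ^ p ^ n = (y ^ p ^ n)⁻¹ := by rw [← hj, ← zpow_natCast, ← zpow_mul]; congr 1; push_cast; ring
  have c1 := K w y p (yp.zpow_right _)
  have c2 : (w⁻¹ |> fun v => y⁻¹ * v * y * w) ^ (p ^ n).choose 2 ≠ 1 := fun e => by
    have a := mul_pow_class_two (e0 w y) (cm (m1 w y)) (cm (m2 w y)) (p ^ n)
    rw [w1, inv_mul_cancel, one_mul, e] at a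
    have := mn x _ hx (mul_mem wP hy) fun c => nc (by simpa using (wx.symm.inv_right.mul_right c))
    have b := Nat.le_of_dvd (pow_pos hp.1.pos n) (orderOf_dvd_of_pow_eq_one a)
    have : p ^ n < p ^ (n + 1) := Nat.pow_lt_pow_right hp.1.one_lt n.lt_succ_self
    omega
  have e2 : p ^ n = 2 := by_contra fun e => c2 (by
    rcases eq_or_ne n 0 with rfl | n0
    · simp
    · obtain ⟨i, hi⟩ := dvd_choose_two_of_pow n0 e
      rw [hi, pow_mul, c1, one_pow])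
  obtain rfl : p = 2 := (Nat.prime_dvd_prime_iff_eq hp.1 Nat.prime_two).1 (e2 ▸ dvd_pow_self p (by rintro rfl; simp at e2))
  rw [e2] at w1 uo c2
  rw [inv_eq_of_orderOf_two uo] at w1
  have wo : orderOf w = 2 * 2 := orderOf_eq_prime_pow (p := 2) (n := 1) (by rw [pow_one, w1]; exact ne_one_of_orderOf_two uo)
    (by rw [show 2 ^ (1 + 1) = 2 * 2 from rfl, pow_mul, w1, sq, mul_self_of_orderOf_two uo])
  have c3 := invol_eq_half wo (m1 w y) (orderOf_eq_prime c1 (by simpa using c2))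
  refine ⟨rfl, w, y, wo, ?_, by rw [w1, sq]⟩
  rw [e0 w y, c3, mul_assoc w, w1, ← (Commute.self_pow y 2).symm.eq, ← w1, ← mul_assoc, mul_inv_cancel_right, eq_inv_iff_mul_eq_one,
    ← pow_succ', ← pow_succ, ← show orderOf w = 2 + 1 + 1 from wo, pow_orderOf_eq_one]

/-- A finite non-abelian group in which every subgroup is normal is the internal direct product of a subgroup isomorphic to the quaternion group of order `8`, an elementary abelian `2`-subgroup and an abelian subgroup of odd order. -/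
theorem result {G : Type*} [Group G] [Finite G] (hna : ¬ IsMulCommutative G) (hn : ∀ H : Subgroup G, H.Normal) : ∃ Q E A : Subgroup G, Nonempty (Q ≃* QuaternionGroup 2) ∧ Cfsg.IsElementaryAbelian 2 E ∧ IsMulCommutative A ∧ Odd (Nat.card A) ∧ E ⊓ A = ⊥ ∧ Q ⊓ (E ⊔ A) = ⊥ ∧ Q ⊔ (E ⊔ A) = ⊤ := by
  open Subgroup CfsgH1 CfsgFT CfsgH2 in
  have nn : ∀ X Y : Subgroup G, X ≤ N(Y) := fun X Y => le_top.trans (normalizer_eq_top Y (h := hn Y)).ge
  have nil : Group.IsNilpotent (⊤ : Subgroup G) := nilpotent_of_forall_sylow fun q _ _ =>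
    (IsSylowIn.exists_sylowIn (p := q) ⊤).imp fun S h => ⟨h, nn _ _⟩
  have cc : ∀ X : Subgroup G, (∀ (q : ℕ) [Fact q.Prime], q ∣ Nat.card X → Opi {q} X ≤ C(Opi {q} X)) → X ≤ C(X) := fun X h => by
    have k : Group.IsNilpotent X := Group.nilpotent_of_mulEquiv (subgroupOfEquivOfLe (le_top : X ≤ ⊤))
    refine le_of_nilpotent_of_forall_Opi k fun q _ a => cent_symm (le_of_nilpotent_of_forall_Opi k fun r _ b => ?_)
    rcases eq_or_ne r q with rfl | n
    · exact h r a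
    · exact Opi_commute X fun s _ h1 h2 => n (h1.symm.trans h2)
  set A := Opi {2}ᶜ (⊤ : Subgroup G)
  set P := Opi {2} (⊤ : Subgroup G)
  have hP : IsPGroup 2 P := isPGroup_Opi _
  have oA : ¬ 2 ∣ Nat.card A := isPi_compl_singleton_iff.1 (isPi_Opi _ _)
  have cA : A ≤ C(A) := cc A fun q _ d => by_contra fun k => oA ((core hn (isPGroup_Opi A) k).1 ▸ d)
  have e : P ⊔ A = ⊤ := Opi_sup_Opi_compl nil _
  have PA : P ≤ C(A) := Opi_commute _ fun s _ h1 h2 => h2 h1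
  obtain ⟨-, x, y, xo, h1, h2⟩ := core hn hP fun k => hna (top_comm_iff.1 (e ▸ sup_le (le_cent_sup k PA) (le_cent_sup (cent_symm PA) cA)))
  have x2 : orderOf (x ^ 2) = 2 := orderOf_half' two_ne_zero xo
  have x4 : x ^ 4 = 1 := xo ▸ pow_orderOf_eq_one x
  have nc : ¬ Commute y x := fun c => ne_one_of_orderOf_two x2 (by
    rw [c.eq, mul_inv_cancel_right, eq_inv_iff_mul_eq_one] at h1; rw [sq, h1])
  have I := idx2_closure (a := x) (b := y) (k := -1) (m := ((2 : ℕ) : ℤ)) (by simpa using h1) (by rw [h2, zpow_natCast])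
    (by rintro ⟨i, rfl⟩; exact nc ((Commute.refl x).zpow_left i))
  have mP : ∀ g : G, g ^ 4 = 1 → g ∈ P := fun g hg => le_Opi_p le_top (nn _ _) (IsPGroup.of_card_dvd_pow (n := 2)
    (by rw [Nat.card_zpowers]; exact orderOf_dvd_of_pow_eq_one hg)) (mem_zpowers g)
  set Q := closure ({x, y} : Set G)
  have y4 : y ^ 4 = 1 := by rw [show 4 = 2 * 2 from rfl, pow_mul, sq y, h2, ← pow_mul, x4]
  have QP : Q ≤ P := I.le_iff.2 ⟨mP x x4, mP y y4⟩
  have cQ : ∀ g, g ∈ C(Q) ↔ Commute x g ∧ Commute y g := fun g => by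
    rw [I.eq_sup, cent_sup, cent_zpowers, cent_zpowers]; exact and_congr mem_cent1 mem_cent1
  have pm : ∀ a g : G, a ^ 4 = 1 → g * a * g⁻¹ = a ∨ g * a * g⁻¹ = a⁻¹ := fun a g h => by
    obtain ⟨i, hi⟩ := (hn _).conj_mem a (mem_zpowers a) g
    simp only at hi
    have a4 : a ^ (4 : ℤ) = 1 := by exact_mod_cast h
    rw [← Int.mul_ediv_add_emod i 4, zpow_add, zpow_mul, a4, one_zpow, one_mul] at hi
    obtain e | e | e | e : i % 4 = 0 ∨ i % 4 = 1 ∨ i % 4 = 2 ∨ i % 4 = 3 := by omega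
    all_goals rw [e] at hi
    · left; rw [← hi, zpow_zero, conj_eq_one_iff.1 (hi.symm.trans (zpow_zero a))]
    · left; rw [← hi, zpow_one]
    · have : a * a = 1 := conj_eq_one_iff.1 (show g * (a * a) * g⁻¹ = 1 by rw [← conj_mul, ← hi, ← zpow_add]; exact a4)
      left; rw [← hi, zpow_two, this, conj_eq_one_iff.1 (hi.symm.trans ((zpow_two a).trans this))]
    · right; rw [← hi, eq_inv_iff_mul_eq_one, ← zpow_add_one]; exact a4
  have h3 : x * y * x⁻¹ = y⁻¹ := (pm y x y4).resolve_left fun k => nc (mul_inv_eq_iff_eq_mul.1 k).symm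
  have eC : ⊤ ≤ Q ⊔ C(Q) := fun g _ => by
    have k : ∀ q ∈ Q, q * g * x * (q * g)⁻¹ = x → q * g * y * (q * g)⁻¹ = y → g ∈ Q ⊔ C(Q) := fun q hq a b =>
      (mul_mem_cancel_left (mem_sup_left hq)).1 (mem_sup_right ((cQ _).2 ⟨(mul_inv_eq_iff_eq_mul.1 a).symm,
        (mul_inv_eq_iff_eq_mul.1 b).symm⟩))
    have s : ∀ q a : G, q * g * a * (q * g)⁻¹ = q * (g * a * g⁻¹) * q⁻¹ := fun q a => by group
    rcases pm x g x4 with a | a <;> rcases pm y g y4 with b | b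
    · exact k 1 (one_mem _) (by simpa using a) (by simpa using b)
    · exact k x I.a_mem (by rw [s, a]; group) (by rw [s, b, ← conj_inv, h3, inv_inv])
    · exact k y I.b_mem (by rw [s, a, ← conj_inv, h1, inv_inv]) (by rw [s, b]; group)
    · exact k (x * y) (mul_mem I.a_mem I.b_mem) (by
        rw [s, a, show x * y * x⁻¹ * (x * y)⁻¹ = x * (y * x * y⁻¹)⁻¹ * x⁻¹ by group, h1]; group) (by
        rw [s, b, show x * y * y⁻¹ * (x * y)⁻¹ = (x * y * x⁻¹)⁻¹ by group, h3, inv_inv])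
  have ex : ∀ c ∈ P ⊓ C(Q), c ^ 2 = 1 := fun c hc => by_contra fun n => by
    obtain ⟨d, hd, d4⟩ : ∃ d ∈ C(Q), orderOf d = 4 := by
      obtain ⟨k, hk⟩ := exists_orderOf_eq_pow hP hc.1
      refine ⟨_, pow_mem hc.2 _, orderOf_pow_orderOf_div (orderOf_pos c).ne' (hk ▸ pow_dvd_pow 2 (show 2 ≤ k from ?_))⟩
      by_contra! l
      exact n (orderOf_dvd_iff_pow_eq_one.1 (hk ▸ (pow_dvd_pow 2 (Nat.le_of_lt_succ l)).trans (pow_one 2).dvd))
    obtain ⟨a, b⟩ := (cQ d).1 hd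
    have s : y * (x * d) * y⁻¹ = x⁻¹ * d := by rw [← h1, ← mul_assoc, mul_assoc _ d, ← b.inv_left.eq]; group
    rcases pm (x * d) y (by rw [a.mul_pow, x4, ← d4, pow_orderOf_eq_one, one_mul]) with k | k
    · rw [s, mul_left_inj, inv_eq_iff_mul_eq_one] at k
      exact ne_one_of_orderOf_two x2 (by rw [sq, k])
    · rw [s, a.eq, mul_inv_rev, mul_right_inj, eq_inv_iff_mul_eq_one, ← sq] at k
      exact absurd (d4 ▸ orderOf_dvd_of_pow_eq_one k) (by decide)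
  have ea : IsElementaryAbelian 2 (P ⊓ C(Q)) := ⟨isMulCommutative_of_forall fun a ha b hb => commute_of_mul_self
    (sq a ▸ ex a ha) (sq b ▸ ex b hb) (sq (a * b) ▸ ex _ (mul_mem ha hb)), ex⟩
  obtain ⟨E, k1, k2, k3⟩ := exists_compl_of_ea ea (inf_le_inf_right C(Q) QP)
  have d : P ⊓ A = ⊥ := (isPi_Opi _ _).inf_eq_bot (isPi_Opi _ _)
  refine ⟨Q, E, A, I.quaternion xo, ⟨isMulCommutative_of_le ea.1 k1, fun a ha => ex a (k1 ha)⟩, comm_iff.2 cA,
    Nat.odd_iff.2 (by omega), eq_bot_iff.2 ((inf_le_inf_right _ (k1.trans inf_le_left)).trans d.le), eq_bot_iff.2 fun g hg => ?_, ?_⟩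
  · have : g ∈ P ⊓ (E ⊔ A) := ⟨QP hg.1, hg.2⟩
    rw [inf_sup_left (k1.trans inf_le_left) (nn _ _), d, sup_bot_eq] at this
    exact k2.le ⟨this, hg.1, (k1 this).2⟩
  · have := inf_sup_left QP (nn C(Q) Q)
    rw [top_le_iff.1 eC, inf_top_eq, ← k3, sup_comm E, ← sup_assoc, sup_eq_left.2 (inf_le_left : Q ⊓ C(Q) ≤ Q)] at this
    rw [← sup_assoc, ← this, e]

end Cfsg.Agent.S4211
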