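import Cfsg.Statements.S4212
import Cfsg.Agent.H2.Cls

set_option autoImplicit false
open Cfsg

namespace Cfsg.Agent.S4212
open Subgroup CfsgH2
open scoped commutatorElement

open CfsgFT

/-- Let `G` be a finite group of order `g`, `c` an element whose conjugacy class has `h` elements, and `n` a natural number. Then the number of elements `x` of `G` with `x^n` conjugate to `c` is a multiple of `gcd(hn, g)`. -/
theorem result {G : Type*} [Group G] [Finite G] (c : G) (n : ℕ) : Nat.gcd (Nat.card {y : G // IsConj c y} * n) (Nat.card G) ∣ Nat.card {x : G // IsConj c (x ^ n)} := by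
  rw [card_pow_isConj, ← card_cls c, Nat.gcd_mul_left]
  refine mul_dvd_mul_left _ ?_
  obtain ⟨m, hm⟩ := Nat.gcd_dvd_left n (Nat.card C1(c))
  have := frob_count (Nat.gcd_dvd_right n (Nat.card C1(c))) (K := fun y : C1(c) => (y : G) ^ m = c) fun x y h1 h3 => by
    obtain ⟨g, rfl⟩ := isConj_iff.1 h1
    rw [coe_mul, coe_mul, coe_inv, conj_pow, h3, mem_cent1'.1 g.2, mul_inv_cancel_right]
  simpa only [coe_pow, ← pow_mul, ← hm] using this


end Cfsg.Agent.S4212
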