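import Cfsg.Statements.S4213
import Cfsg.Agent.H2.Cls

set_option autoImplicit false
open Cfsg

namespace Cfsg.Agent.S4213
open Subgroup CfsgH2
open scoped commutatorElement

open CfsgFT CfsgH1
universe u

theorem aux (m : ℕ) : ∀ (G : Type u) [Group G] [Finite G] [Group.IsSolvable G], Nat.card G = m → ∀ n, n ∣ Nat.card G →
    Nat.card {x : G // x ^ n = 1} = n → ∃ H : Subgroup G, Nat.card H = n ∧ ∀ x ∈ H, x ^ n = 1 := by
  induction m using Nat.strong_induction_on with
  | _ m ih =>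
  intro G _ _ _ hm n hn hc
  rcases subsingleton_or_nontrivial G with _ | _
  · exact ⟨⊤, by rw [Subgroup.card_top, Nat.card_unique, Nat.dvd_one.1 (show n ∣ 1 from Nat.card_unique (α := G) ▸ hn)],
      fun x _ => Subsingleton.elim _ _⟩
  obtain ⟨N, p, hp, _, N1, -, pN, eN, -⟩ := exists_minNormal_of_isSolvable (G := G)
  haveI := Fact.mk hp
  have lt := hm ▸ card_quotient_lt N1
  have cq := N.card_eq_card_quotient_mul_card_subgroup
  have fr : ∀ u, u ∣ Nat.card (G ⧸ N) → u ∣ Nat.card {x : G ⧸ N // x ^ u = 1} := fun u a =>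
    frob_count a (K := (· = 1)) fun x y a b => by simpa [b, eq_comm] using a
  have ps : ∀ u, 0 < Nat.card {x : G ⧸ N // x ^ u = 1} := fun u => haveI : Nonempty {x : G ⧸ N // x ^ u = 1} := ⟨⟨1, one_pow u⟩⟩; Nat.card_pos
  obtain ⟨i, hi⟩ := IsPGroup.iff_card.1 pN
  have n0 : n ≠ 0 := fun e => by simp [e, Nat.card_pos.ne'] at hn
  by_cases e : p ∣ n
  · have i0 : i ≠ 0 := fun c => N1 (card_eq_one.1 (by simpa [c] using hi))
    have k : ∀ u, u * p ∣ n → ∀ x : G, (x : G ⧸ N) ^ u = 1 → x ^ n = 1 := fun u ⟨c, a⟩ x b => by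
      rw [a, pow_mul, pow_mul, eN _ ((QuotientGroup.eq_one_iff (x ^ u)).1 b), one_pow]
    have k2 : ∀ u, u * p ∣ n → Nat.card {x : G ⧸ N // x ^ u = 1} * p ^ i ≤ n := fun u a => by
      rw [← hi, ← hc, ← Nat.card_prod]
      refine Nat.card_le_card_of_injective (fun x => ⟨x.1.1.out * x.2, k u a _ (by simpa using x.1.2)⟩) fun x y b => ?_
      have c : x.1.1.out * x.2 = y.1.1.out * y.2 := congrArg Subtype.val b
      have d : x.1 = y.1 := Subtype.ext (by simpa using congrArg (QuotientGroup.mk (s := N)) c)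
      exact Prod.ext d (Subtype.ext (by simpa [d] using c))
    obtain ⟨j, u, a, rfl⟩ := Nat.exists_eq_pow_mul_and_not_dvd n0 p hp.ne_one
    have j0 : j ≠ 0 := fun c => a (by simpa [c] using e)
    have cu : u.Coprime (p ^ i) := ((Nat.Prime.coprime_iff_not_dvd hp).2 a).symm.pow_right i
    have d : p ^ (j - i) * u ∣ Nat.card (G ⧸ N) := by
      rw [cq, hi] at hn
      refine (((Nat.Prime.coprime_iff_not_dvd hp).2 a).pow_left _).mul_dvd_of_dvd_of_dvd ?_
        (cu.dvd_of_dvd_mul_right ((dvd_mul_left _ _).trans hn))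
      rcases le_total i j with c | c
      · exact Nat.dvd_of_mul_dvd_mul_right (pow_pos hp.pos i) (by
          rw [← pow_add, Nat.sub_add_cancel c]; exact (dvd_mul_right _ _).trans hn)
      · simp [c]
    have d2 : p ^ (j - i) * u * p ∣ p ^ j * u := by
      rw [mul_right_comm, ← pow_succ]; exact mul_dvd_mul_right (pow_dvd_pow p (by omega)) u
    have l := Nat.le_of_dvd (ps _) (fr _ d)
    have l2 := k2 _ d2
    have u0 : 0 < u := Nat.pos_of_ne_zero fun c => a (by simp [c])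
    have l3 := (Nat.mul_le_mul_right _ l).trans l2
    rw [mul_right_comm, ← pow_add, Nat.mul_le_mul_right_iff u0, Nat.pow_le_pow_iff_right hp.one_lt] at l3
    have l4 : p ^ j * u = p ^ (j - i) * u * p ^ i := by rw [mul_right_comm, ← pow_add, Nat.sub_add_cancel (by omega)]
    obtain ⟨H, h1, h2⟩ := ih _ lt _ rfl _ d (le_antisymm (Nat.le_of_mul_le_mul_right (l4 ▸ l2) (pow_pos hp.pos i)) l)
    exact ⟨H.comap (QuotientGroup.mk' N), by
      rw [card_comap_of_surjective _ (QuotientGroup.mk'_surjective N), QuotientGroup.ker_mk', h1, hi, l4],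
      fun x b => k _ d2 x (h2 _ b)⟩
  have cn : n.Coprime (Nat.card N) := hi ▸ ((Nat.Prime.coprime_iff_not_dvd hp).2 e).symm.pow_right i
  have d : n ∣ Nat.card (G ⧸ N) := cn.dvd_of_dvd_mul_right (cq ▸ hn)
  have sj : ∀ y : {x : G ⧸ N // x ^ n = 1}, ∃ x : {x : G // x ^ n = 1}, (⟨x.1, by
      rw [← QuotientGroup.mk_pow, x.2, QuotientGroup.mk_one]⟩ : {x : G ⧸ N // x ^ n = 1}) = y := fun ⟨y, a⟩ => by
    obtain ⟨y, rfl⟩ := QuotientGroup.mk_surjective y
    obtain ⟨k, a1, a2⟩ := Nat.chineseRemainder ((Nat.Prime.coprime_iff_not_dvd hp).2 e) 0 1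
    obtain ⟨c, rfl⟩ := (Nat.modEq_zero_iff_dvd).1 a1
    refine ⟨⟨y ^ (p * c), by rw [← pow_mul, mul_comm, pow_mul, pow_mul, eN _ ((QuotientGroup.eq_one_iff (y ^ n)).1 a), one_pow]⟩,
      Subtype.ext ?_⟩
    exact (QuotientGroup.mk_pow _ _ _).trans ((pow_eq_pow_of_modEq a2 a).trans (pow_one _))
  obtain ⟨H, h1, h2⟩ := ih _ lt _ rfl n d (le_antisymm ((Nat.card_le_card_of_surjective (fun x : {x : G // x ^ n = 1} => (⟨x.1, by
      rw [← QuotientGroup.mk_pow, x.2, QuotientGroup.mk_one]⟩ : {x : G ⧸ N // x ^ n = 1})) sj).trans hc.le)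
    (Nat.le_of_dvd (ps _) (fr _ d)))
  · have c : N.relIndex (H.comap (QuotientGroup.mk' N)) = n := by
      rw [← card_map_mk', map_comap_eq_self_of_surjective (QuotientGroup.mk'_surjective N), h1]
    obtain ⟨B, -, b, -⟩ := sz_exists (le_comap_mk' N H) (le_top.trans (normalizer_eq_top N).ge) (c ▸ cn.symm)
    exact ⟨B, b.trans c, fun x a => by rw [← c, ← b]; exact orderOf_dvd_iff_pow_eq_one.1 (Subgroup.orderOf_dvd_natCard B a)⟩

/-- If `G` is a finite solvable group and `n` divides the order of `G` and exactly `n` elements `x` of `G` satisfy `x^n = 1`, then these elements form a normal subgroup. -/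
theorem result {G : Type*} [Group G] [Finite G] [Group.IsSolvable G] (n : ℕ) (hn : n ∣ Nat.card G) (hcount : Nat.card {x : G // x ^ n = 1} = n) : ∃ H : Subgroup G, H.Normal ∧ (H : Set G) = {x : G | x ^ n = 1} := by
  obtain ⟨H, a, b⟩ := aux _ G rfl n hn hcount
  have e : (H : Set G) = {x : G | x ^ n = 1} := Set.eq_of_subset_of_ncard_le b (hcount.trans a.symm).le
  exact ⟨H, ⟨fun x c g => e.ge (show _ = 1 by rw [conj_pow, b x c]; simp)⟩, e⟩


end Cfsg.Agent.S4213
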