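import Cfsg.Statements.S4214
import Cfsg.Agent.H1.Prim
import Cfsg.Agent.H1.Snz
import Cfsg.Agent.H2.BG4

set_option autoImplicit false
open Cfsg

namespace Cfsg.Agent.S4214

open Subgroup CfsgH1 CfsgFT CfsgH2 in
theorem aux {G : Type*} [Group G] [Finite G] [Group.IsSolvable G] {V : Subgroup G} [V.Normal] (X : Subgroup G)
    (c : (Nat.card X).Coprime (Nat.card V)) :
    C(X).relIndex V ∈ Submonoid.closure {y : ℕ | y ∣ Nat.card V ∧ ∃ s, s.Prime ∧ s ∣ Nat.card X ∧ y ≡ 1 [MOD s]} := by
  induction X using subgroup_induction_up with | h X ih => ?_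
  rcases eq_or_ne X ⊥ with rfl | h
  · rw [cent_bot, relIndex_top_left]; exact one_mem _
  haveI := (nontrivial_iff_ne_bot X).2 h
  obtain ⟨N, _, hp, -⟩ := exists_normal_index_prime (G := X)
  haveI := Fact.mk hp
  set Y := N.map X.subtype
  have l : Y ≤ X := map_subtype_le N
  have i : Y.relIndex X = N.index := by rw [relIndex, subgroupOf_map_subtype_self]
  have d : N.index ∣ Nat.card X := N.index_dvd_card
  obtain ⟨S, hS⟩ := IsSylowIn.exists_sylowIn (p := N.index) X
  have e := hS.sup_eq_of_pow l (k := 1) (by rw [i, pow_one])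
  have k := card_modEq_card_inf_cent hS.pgroup (V := V ⊓ C(Y)) (CfsgH1.le_normalizer_inf (le_top.trans (normalizer_eq_top V).ge)
    (CfsgH1.le_normalizer_centralizer (hS.le.trans (le_norm_map_subtype N))))
  rw [inf_assoc, ← cent_sup, sup_comm, e, ← CfsgH2.card_mul_relIndex (inf_le_inf_left V (cent_anti l))] at k
  rw [← inf_relIndex_left, ← relIndex_mul_relIndex _ _ _ (inf_le_inf_left V (cent_anti l)) inf_le_left, inf_relIndex_left V C(Y)]
  refine mul_mem (Submonoid.subset_closure ⟨(relIndex_dvd_card _ _).trans (card_dvd_of_le inf_le_left), _, hp, d,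
    Nat.ModEq.cancel_left_of_coprime ((c.coprime_dvd_left d).coprime_dvd_right (card_dvd_of_le (inf_le_left (b := C(X)))))
      (by rwa [mul_one])⟩) (Submonoid.closure_mono ?_ (ih Y (CfsgH2.card_lt_of_lt (lt_of_relIndex_prime i l))
        (c.coprime_dvd_left (card_dvd_of_le l))))
  exact fun y ⟨a, s, b, c, d⟩ => ⟨a, s, b, c.trans (card_dvd_of_le l), d⟩

/-- Let `G` be a finite solvable group of order `mn` with `gcd(m, n) = 1`. Then the number of subgroups of order `m` is a product of natural numbers each of which is a power of a prime, divides the order of some chief factor of `G` (a quotient `L/K` of normal subgroups `K < L` of `G` with no normal subgroup of `G` strictly between them), and is congruent to `1` modulo some prime divisor of `m`. -/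
theorem result {G : Type*} [Group G] [Finite G] [Group.IsSolvable G] (m n : ℕ) (hG : Nat.card G = m * n) (hmn : Nat.Coprime m n) : ∃ (k : ℕ) (f : Fin k → ℕ), Nat.card {H : Subgroup G // Nat.card H = m} = ∏ i, f i ∧ ∀ i, (∃ q e : ℕ, q.Prime ∧ f i = q ^ e) ∧ (∃ K L : Subgroup G, K.Normal ∧ L.Normal ∧ K < L ∧ (∀ M : Subgroup G, M.Normal → K ≤ M → M ≤ L → M = K ∨ M = L) ∧ f i ∣ K.relIndex L) ∧ (∃ q : ℕ, q.Prime ∧ q ∣ m ∧ f i ≡ 1 [MOD q]) := by
  open Subgroup CfsgH1 CfsgFT CfsgH2 in
  have nn : ∀ (X Y : Subgroup G) [Y.Normal], X ≤ N(Y) := fun X Y _ => le_top.trans (normalizer_eq_top Y).ge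
  have sl : ∀ X : Subgroup G, Group.IsSolvable X := fun X => inferInstance
  have hl : ∀ K : Subgroup G, Nat.card K = m → Hall {q | q ∣ m} K ⊤ := fun K hK => hK ▸ Hall.of_coprime le_top (by
    have := K.card_mul_index.trans hG
    rw [← hK] at this
    rw [relIndex_top_right, hK, Nat.eq_of_mul_eq_mul_left Nat.card_pos this]; exact hmn)
  obtain ⟨H, hH⟩ := CfsgFT.exists_hall (sl ⊤) {q | q ∣ m}
  have hc : Nat.card H = m := by
    have e := H.card_mul_index.trans hG
    have c1 : (Nat.card H).Coprime n := Nat.coprime_of_dvd fun q hq a b =>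
      hq.one_lt.ne' (Nat.eq_one_of_dvd_coprimes hmn (hH.isPi q hq a) b)
    have c2 : m.Coprime H.index := Nat.coprime_of_dvd fun q hq a b => hH.not_dvd hq a (by rwa [relIndex_top_right])
    exact Nat.dvd_antisymm (c1.dvd_of_dvd_mul_right ⟨_, e.symm⟩) (c2.dvd_of_dvd_mul_right ⟨_, e⟩)
  have e1 : Nat.card {H : Subgroup G // Nat.card H = m} = N(H).index := by
    have := card_cj_fib H ⊤ fun _ => True
    simp only [mem_top, true_and, and_true, top_inf_eq, Nat.card_congr (Equiv.subtypeUnivEquiv fun _ : G => trivial)] at this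
    rw [← N(H).index_mul_card] at this
    refine Eq.trans (Nat.card_congr (Equiv.subtypeEquivRight fun K => ⟨fun h => ?_, ?_⟩)) (Nat.eq_of_mul_eq_mul_right Nat.card_pos this).symm
    · obtain ⟨g, -, e⟩ := hH.exists_cj_eq (sl ⊤) (hl K h); exact ⟨g, e.symm⟩
    · rintro ⟨g, rfl⟩; rw [card_cj, hc]
  set T : Set ℕ := {y | (∃ q e : ℕ, q.Prime ∧ y = q ^ e) ∧ (∃ K L : Subgroup G, K.Normal ∧ L.Normal ∧ K < L ∧
    (∀ M : Subgroup G, M.Normal → K ≤ M → M ≤ L → M = K ∨ M = L) ∧ y ∣ K.relIndex L) ∧ (∃ q : ℕ, q.Prime ∧ q ∣ m ∧ y ≡ 1 [MOD q])}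
  have key : ∀ K : Subgroup G, K.Normal → N(K ⊔ H).index ∈ Submonoid.closure T := fun K => by
    induction K using WellFoundedGT.induction with | _ K ih => ?_
    intro _
    rcases eq_or_ne K ⊤ with rfl | h
    · rw [top_sup_eq, normalizer_eq_top, index_top]; exact one_mem _
    haveI := QuotientGroup.nontrivial_iff.2 h
    obtain ⟨V, q, hq, _, v0, -, vq, -, vm⟩ := exists_minNormal_of_isSolvable (G := G ⧸ K)
    haveI := Fact.mk hq
    set f := QuotientGroup.mk' K
    have sf : Function.Surjective f := QuotientGroup.mk'_surjective K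
    have kf : f.ker = K := QuotientGroup.ker_mk' K
    set L := V.comap f
    have l : K ≤ L := kf.ge.trans (ker_le_comap f V)
    have mL : L.map f = V := map_comap_eq_self_of_surjective sf V
    have lt : K < L := lt_of_le_of_ne l fun e => v0 (by rw [← mL, ← e, Subgroup.map_eq_bot_iff, kf])
    have ri : K.relIndex L = Nat.card V := by rw [← mL, card_map_mk']
    have l2 : N(K ⊔ H) ≤ N(L ⊔ H) := by
      rw [← sup_eq_left.2 l, sup_assoc]
      exact CfsgH1.le_normalizer_sup (nn _ _) le_rfl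
    have e : L ⊔ N(K ⊔ H) = N(L ⊔ H) := le_antisymm (sup_le (le_norm_of_le le_sup_left) l2) fun g hg => by
      obtain ⟨x, hx, k⟩ := (hH.mono le_sup_right le_top).frattini (sl _) hg
      have a : L ⊔ H ≤ L ⊔ N(K ⊔ H) := sup_le_sup_left (le_norm_of_le le_sup_right) _
      exact (mul_mem_cancel_left (a hx)).1 (mem_sup_right (CfsgH1.le_normalizer_sup (nn _ _) le_rfl k))
    rw [← relIndex_mul_index l2]
    refine mul_mem ?_ (ih L lt inferInstance)
    rw [← e, relIndex_sup_norm' (nn _ _)]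
    obtain ⟨a, ha⟩ := IsPGroup.iff_card.1 vq
    by_cases qm : q ∣ m
    · obtain ⟨S, hS⟩ := IsSylowIn.exists_sylowIn (p := q) H
      have := (((hS.trans_of_not_dvd le_top (hH.not_dvd hq qm)).inf_of_normalizer' le_top (nn _ L)).sup_eq_of_pow l (ri.trans ha)).ge
      rw [relIndex_eq_one.2 (this.trans (le_norm_of_le (sup_le (inf_le_left.trans (hS.le.trans le_sup_right)) le_sup_left)))]
      exact one_mem _
    have c : (Nat.card (H.map f)).Coprime (Nat.card V) := ha ▸ ((hq.coprime_iff_not_dvd.2 qm).symm.coprime_dvd_left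
      (hc ▸ card_map_dvd H f)).pow_right a
    have e2 : N(K ⊔ H) = N(H.map f).comap f := by rw [comap_normalizer_eq_of_surjective _ sf, comap_map_eq, kf, sup_comm]
    rw [e2, relIndex_comap, mL, ← inf_relIndex_left, le_antisymm (le_inf inf_le_left (norm_inf_le_cent (K := V)
      (le_top.trans (normalizer_eq_top V).ge) (inf_eq_bot_of_coprime' c.symm))) (inf_le_inf_left _ (cent_le_norm _)),
      inf_relIndex_left]
    refine Submonoid.closure_mono ?_ (aux _ c)
    rintro y ⟨h1, s, h2, h3, h4⟩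
    refine ⟨((Nat.dvd_prime_pow hq).1 (ha ▸ h1)).elim fun i k => ⟨q, i, hq, k.2⟩, ⟨K, L, ‹_›, inferInstance, lt, fun M _ a b => ?_,
      ri ▸ h1⟩, s, h2, h3.trans (hc ▸ card_map_dvd H f), h4⟩
    refine (vm (M.map f) (Normal.map ‹_› f sf) (mL ▸ map_mono b)).imp (fun k => le_antisymm ?_ a) fun k => le_antisymm b ?_
    · rwa [Subgroup.map_eq_bot_iff, kf] at k
    · rw [← comap_map_eq_self (kf.le.trans a), k]
  obtain ⟨s, hs, e⟩ := Submonoid.exists_list_of_mem_closure (key ⊥ inferInstance)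
  refine ⟨s.length, s.get, ?_, fun i => hs _ (List.get_mem s i)⟩
  rw [e1, ← List.prod_ofFn, List.ofFn_get, e, bot_sup_eq]

end Cfsg.Agent.S4214
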