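import Cfsg.Statements.S4216
import Cfsg.Agent.H2.Focal
import Cfsg.Agent.H2.CharP

set_option autoImplicit false
open Cfsg

namespace Cfsg.Agent.S4216
open Subgroup CfsgH2
open scoped commutatorElement

open CfsgFT

theorem focal_le {G : Type*} [Group G] [Finite G] {p : ℕ} [Fact p.Prime] {S L : Subgroup G} (hS : IsSylowIn p S ⊤)
    (htop : ⁅S, N(S)⁆ ≤ L) (h : ∀ Q g, g ∈ N(Q) → IsSylowIn p (S ⊓ N(Q)) N(Q) → S ⊓ cj g⁻¹ S = Q → ∀ m ∈ N(Q),
      ∀ r ∈ cj m (S ⊓ N(Q)), ∀ x ∈ Q, x⁻¹ * (r * x * r⁻¹) ∈ L) : ⁅(⊤ : Subgroup G), ⊤⁆ ⊓ S ≤ L := by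
  refine commutator_inf_le_of_fusion hS fun x a g b c => alperin_core hS (fun A g => ∀ x ∈ A, x⁻¹ * (g * x * g⁻¹) ∈ L)
    (fun A B g a b x c => a x (b c)) (fun A g k a b x c => by
      simpa [mul_assoc] using mul_mem (a x c) (b _ (conj_mem_cj g c))) (fun Q g a _ n t ih => ?_) (zpowers x)
    (zpowers_le.2 a) g b ((cj_zpowers g x).trans_le (zpowers_le.2 c)) x (mem_zpowers x)
  have l : Q ≤ S ⊓ cj g⁻¹ S := le_inf a (cj_le_iff_le_cj_inv.1 ((cj_eq_of_norm n).trans_le a))
  rcases l.lt_or_eq with e | e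
  · exact fun x b => ih _ (card_lt_of_lt e) inf_le_left g trivial (cj_le_iff_le_cj_inv.2 inf_le_right) x (l b)
  rcases a.lt_or_eq with d | rfl
  swap
  · exact fun x b => htop (inv_mul_conj_mem_commutator b n)
  rw [top_inf_eq] at t
  let T : Subgroup G :=
    { carrier := {m | m ∈ N(Q) ∧ ∀ x ∈ Q, x⁻¹ * (m * x * m⁻¹) ∈ L}
      mul_mem' := fun {u v} b c => ⟨mul_mem b.1 c.1, fun x e => by
        simpa [mul_assoc] using mul_mem (c.2 x e) (b.2 _ (conj_mem_of_mem_normalizer c.1 e))⟩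
      one_mem' := ⟨one_mem _, by simp⟩
      inv_mem' := fun {u} b => ⟨inv_mem b.1, fun x e => by
        simpa [mul_assoc] using inv_mem (b.2 _ (conj_mem_of_mem_normalizer' b.1 e))⟩ }
  have k : ncl N(Q) (S ⊓ N(Q)) ≤ T := ncl_le_iff.2 fun m b r c => ⟨cj_le_of_norm (le_normalizer b) inf_le_right c,
    h Q g n t e.symm m b r c⟩
  obtain ⟨u, b, c⟩ := (t.mono (le_ncl _ _) (ncl_le_of_le inf_le_right)).frattini (le_norm_ncl _ _ n)
  exact ((mul_mem_cancel_left (k b)).1 (show u * g ∈ T from ⟨mul_mem (k b).1 n, fun x f => ih _ (card_lt_of_lt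
    (lt_inf_normalizer hS.pgroup d)) inf_le_left _ trivial ((cj_eq_of_norm c).trans_le inf_le_left) x
      ⟨d.le f, le_normalizer f⟩⟩)).2

/-- Grün's first Theorem: if `P` is a Sylow `p`-subgroup of the finite group `G`, then `P ∩ G'` is the subgroup generated by `P ∩ N_G(P)'` together with the subgroups `P ∩ z P' z⁻¹` for all `z ∈ G`, where `'` denotes the derived subgroup and `N_G(P)` the normalizer of `P`. -/
theorem result {G : Type*} [Group G] [Finite G] {p : ℕ} [Fact p.Prime] (P : Sylow p G) : (P : Subgroup G) ⊓ commutator G = ((P : Subgroup G) ⊓ ⁅Subgroup.normalizer ((P : Subgroup G) : Set G), Subgroup.normalizer ((P : Subgroup G) : Set G)⁆) ⊔ ⨆ z : G, (P : Subgroup G) ⊓ (⁅(P : Subgroup G), (P : Subgroup G)⁆).map (MulAut.conj z).toMonoidHom := by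
  refine le_antisymm ((inf_comm _ _).trans_le (focal_le (IsSylowIn.of_sylow_top P) (le_sup_of_le_left (le_inf
    (comm_le_left le_rfl) (commutator_mono le_normalizer le_rfl))) fun Q g _ _ e m a r b x c => mem_sup_right
      (mem_iSup_of_mem m ⟨?_, ?_⟩))) (sup_le (inf_le_inf_left _ (commutator_mono le_top le_top))
        (iSup_le fun z => inf_le_inf_left _ ((cj_commutator z _ _).trans_le (commutator_mono le_top le_top))))
  · exact (e.ge.trans inf_le_left) (mul_mem (inv_mem c) (conj_mem_of_mem_normalizer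
      (cj_le_of_norm (le_normalizer a) inf_le_right b) c))
  · exact (cj_commutator m _ _).ge (inv_mul_conj_mem_commutator (cj_mono m (e.ge.trans inf_le_left)
      ((cj_eq_of_norm a).ge c)) (cj_mono m inf_le_left b))


end Cfsg.Agent.S4216
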