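import Cfsg.Statements.S4217
import Cfsg.Agent.H2.Cls

set_option autoImplicit false
open Cfsg

namespace Cfsg.Agent.S4217
open Subgroup CfsgH2
open scoped commutatorElement

open CfsgFT CfsgH1
open scoped IsMulCommutative

/-- Let `A` be an abelian normal subgroup of the finite group `G`. Then `A` has a complement in `G` if and only if, for every prime `p` dividing the index of `A`, there are a Sylow `p`-subgroup `S` of `G/A` and a subgroup `K` of `G` with `K ∩ A = 1` and `KA` equal to the preimage of `S` (that is, `A` has a complement in the preimage of a Sylow `p`-subgroup of `G/A`). -/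
theorem result {G : Type*} [Group G] [Finite G] (A : Subgroup G) [A.Normal] (hA : IsMulCommutative A) : (∃ K : Subgroup G, K.IsComplement' A) ↔ ∀ p : ℕ, p.Prime → p ∣ A.index → ∃ (S : Sylow p (G ⧸ A)) (K : Subgroup G), K ⊓ A = ⊥ ∧ K ⊔ A = (S : Subgroup (G ⧸ A)).comap (QuotientGroup.mk' A) := by
  constructor
  · rintro ⟨K, hK⟩ p hp -
    haveI := Fact.mk hp
    obtain ⟨S⟩ : Nonempty (Sylow p (G ⧸ A)) := inferInstance
    refine ⟨S, (S : Subgroup (G ⧸ A)).comap (QuotientGroup.mk' A) ⊓ K, le_bot_iff.1 ((inf_le_inf_right _ inf_le_right).trans hK.disjoint.le_bot), ?_⟩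
    rw [sup_comm, ← CfsgFT.inf_sup_left (le_comap_mk' A S) (le_top.trans (normalizer_eq_top _).ge), sup_comm,
      hK.sup_eq_top, inf_top_eq]
  intro h
  let I : AddSubgroup ℤ :=
    { carrier := {n | ∃ φ : G → A, (∀ g h, φ (g * h) = φ g * MulAut.conjNormal g (φ h)) ∧ ∀ k : A, φ k = k ^ n}
      zero_mem' := ⟨1, by simp, by simp⟩
      add_mem' := fun ⟨φ, a, b⟩ ⟨ψ, c, d⟩ => ⟨φ * ψ, fun g h => by
        simp only [Pi.mul_apply, a, c, map_mul, mul_mul_mul_comm], fun k => by rw [Pi.mul_apply, b, d, zpow_add]⟩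
      neg_mem' := fun ⟨φ, a, b⟩ => ⟨φ⁻¹, fun g h => by simp only [Pi.inv_apply, a, map_inv, mul_inv],
        fun k => by rw [Pi.inv_apply, b, zpow_neg]⟩ }
  have k : ∀ K U : Subgroup G, K ⊓ A = ⊥ → K ⊔ A = U → (U.index : ℤ) ∈ I := fun K U hA hKA => by
    rw [sup_comm] at hKA
    obtain ⟨π, h1, h2, -⟩ := exists_deriv_of_compl hA hKA
    obtain ⟨φ, k1, k2⟩ := exists_cores (MulAut.conjNormal : G →* MulAut A) U π h2
    exact ⟨φ, k1, fun k => by
      rw [k2 k (conjNormal_eq_one k.2) fun t => ⟨hKA ▸ mem_sup_left (‹A.Normal›.conj_mem _ k.2 t), by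
        rw [h1, ← h1 (MulAut.conjNormal t k)]; rfl⟩, h1, zpow_natCast]⟩
  obtain ⟨d, hd⟩ := Int.subgroup_cyclic I
  have k' : ∀ n : ℕ, (n : ℤ) ∈ I → d.natAbs ∣ n := fun n h => by
    rw [hd, AddSubgroup.mem_closure_singleton] at h
    obtain ⟨m, h⟩ := h
    exact Int.natAbs_dvd_natAbs.2 (show d ∣ n from ⟨m, by rw [← h, smul_eq_mul, mul_comm]⟩)
  have h1 : d.natAbs = 1 := by_contra fun e => by
    obtain ⟨p, hp, h1⟩ := Nat.exists_prime_and_dvd e
    haveI := Fact.mk hp
    obtain ⟨S, K, a, b⟩ := h p hp (h1.trans (k' _ (k ⊥ A (bot_inf_eq _) (bot_sup_eq _))))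
    have := h1.trans (k' _ (k K _ a b))
    rw [index_comap_of_surjective _ (QuotientGroup.mk'_surjective A)] at this
    exact S.not_dvd_index this
  obtain ⟨φ, k1, k3⟩ : (1 : ℤ) ∈ I := by
    have : d ∈ I := hd ▸ AddSubgroup.subset_closure rfl
    rcases Int.natAbs_eq_iff.1 h1 with rfl | rfl
    · exact this
    · exact neg_mem_iff.1 this
  have k0 : φ 1 = 1 := by simpa using k1 1 1
  let H : Subgroup G :=
    { carrier := {g | φ g = 1}
      one_mem' := k0
      mul_mem' := fun {a b} ha hb => by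
        rw [Set.mem_ofPred_eq] at *
        rw [k1, ha, hb, map_one, one_mul]
      inv_mem' := fun {a} ha => by
        rw [Set.mem_ofPred_eq] at *
        have := k1 a⁻¹ a
        rwa [inv_mul_cancel, k0, ha, map_one, mul_one, eq_comm] at this }
  refine ⟨H, (isComplement'_of_inf_of_sup (H := H) (eq_bot_iff.2 fun x hx => congrArg Subtype.val
    ((zpow_one _).symm.trans ((k3 ⟨x, hx.1⟩).symm.trans hx.2))) (top_le_iff.1 fun g _ => ?_)).symm⟩
  rw [← mul_inv_cancel_left (φ g : G) g]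
  refine mul_mem_sup (φ g).2 ?_
  change φ (((φ g)⁻¹ : A) * g) = 1
  rw [k1, k3, conjNormal_eq_one ((φ g)⁻¹).2]
  simp


end Cfsg.Agent.S4217
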