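import Cfsg.Statements.S4218
import Cfsg.Agent.H2.PResidual
import Cfsg.Agent.H2.PGroup
import Cfsg.Agent.H1.Coprime
import Cfsg.Agent.H1.Solv

set_option autoImplicit false
open Cfsg

namespace Cfsg.Agent.S4218
open Subgroup CfsgH2
open scoped commutatorElement

open CfsgH1

/-- Let `G` be a finite `p`-solvable group, `N₀ = O_{p'}(G)`, `P₁ = O_{p',p}(G)`, and let `F ≤ P₁` be the preimage of the Frattini subgroup of `P₁/N₀`. Then an element `g` of `G` induces the identity on `P₁/F` by conjugation (that is, `g x g⁻¹ x⁻¹ ∈ F` for all `x ∈ P₁`) if and only if `g ∈ P₁`: the group `G/P₁` acts faithfully on `P₁/F`. -/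
theorem result {G : Type*} [Group G] [Finite G] {p : ℕ} [Fact p.Prime] (hG : Cfsg.IsPSolvable p G) (g : G) : (∀ x ∈ Cfsg.pPrimePCore p G, g * x * g⁻¹ * x⁻¹ ∈ ((frattini (↥(Cfsg.pPrimePCore p G) ⧸ (Cfsg.pPrimeCore p G).subgroupOf (Cfsg.pPrimePCore p G))).comap (QuotientGroup.mk' ((Cfsg.pPrimeCore p G).subgroupOf (Cfsg.pPrimePCore p G)))).map (Cfsg.pPrimePCore p G).subtype) ↔ g ∈ Cfsg.pPrimePCore p G := by
  have hf := QuotientGroup.mk'_surjective (pPrimeCore p G)
  have q : IsPGroup p (pPrimePCore p G ⧸ (pPrimeCore p G).subgroupOf (pPrimePCore p G)) := fun x => by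
    obtain ⟨x, rfl⟩ := QuotientGroup.mk_surjective x
    obtain ⟨k, hk⟩ := isPGroup_pCore p _ ⟨_, x.2⟩
    exact ⟨k, (QuotientGroup.eq_one_iff (x ^ p ^ k)).2 ((QuotientGroup.eq_one_iff (x.1 ^ p ^ k)).1 (congrArg Subtype.val hk))⟩
  refine ⟨fun h => ?_, fun h x a => ⟨⁅(⟨g, h⟩ : pPrimePCore p G), ⟨x, a⟩⁆, commutator_le_frattini q
    (by rw [map_commutatorElement]; exact commutator_mem_commutator (mem_top _) (mem_top _)), rfl⟩⟩
  set Q := pCore p (G ⧸ pPrimeCore p G)
  set F := (frattini Q).map Q.subtype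
  have pq := isPGroup_pCore p (G ⧸ pPrimeCore p G)
  let D := (centralizer (Q.map (QuotientGroup.mk' F) : Set _)).comap (QuotientGroup.mk' F)
  have m : ∀ d, d ∈ D ↔ ∀ x ∈ Q, ⁅x, d⁆ ∈ F := fun d => by
    simp only [D, mem_comap, mem_centralizer_iff, SetLike.mem_coe, mem_map, forall_exists_index, and_imp,
      forall_apply_eq_imp_iff₂, ← commutatorElement_eq_one_iff_mul_comm, ← map_commutatorElement]
    simp only [QuotientGroup.mk'_apply, QuotientGroup.eq_one_iff]
  refine le_pCore (N := D) (fun d => ?_) ((m _).2 fun x a => ?_)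
  · obtain ⟨k, hk⟩ := exists_coprime_orderOf_pow (p := p) d.1
    have := IsPSolvable.centralizer_pCore_le (IsPSolvable.quotient hG _) (pPrimeCore_quotient_pPrimeCore p G)
      (le_centralizer_iff.1 (le_centralizer_of_commutator_le_frattini (A := zpowers (d.1 ^ p ^ k))
        (le_top.trans (normalizer_eq_top _).ge) (IsPGroup.coprime_card_of_coprime (pq.to_subgroup _)
          (by rwa [Nat.card_zpowers])).symm (commutator_le.2 fun x a y b => (m y).1 (zpowers_le.2 (pow_mem d.2 _) b) x a))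
        (mem_zpowers _))
    exact ⟨k, Subtype.ext (eq_one_of_mem_pgroup_of_coprime pq this hk)⟩
  · obtain ⟨x, rfl⟩ := hf x
    obtain ⟨y, b, c⟩ := h x a
    have := frattini_le_of (p := p) (N := F.comap (quotientSubgroupOfMap _ _)) (commutator_le.2 fun u _ v _ => ?_) (fun u => ?_) b
    · rw [← commutatorElement_inv, ← map_commutatorElement, commutatorElement_def, ← c]
      exact inv_mem this
    · obtain ⟨u, rfl⟩ := QuotientGroup.mk_surjective u
      obtain ⟨v, rfl⟩ := QuotientGroup.mk_surjective v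
      rw [mem_comap, map_commutatorElement]
      exact commutator_le_map_frattini pq (commutator_mem_commutator u.2 v.2)
    · obtain ⟨u, rfl⟩ := QuotientGroup.mk_surjective u
      rw [mem_comap, map_pow]
      exact pow_mem_map_frattini pq u.2


end Cfsg.Agent.S4218
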