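import Cfsg.Statements.S4219
import Cfsg.Agent.H2.Cls

set_option autoImplicit false
open Cfsg

namespace Cfsg.Agent.S4219
open Subgroup CfsgH2
open scoped commutatorElement

open CfsgFT

/-- Let a finite group `G` act `t`-fold transitively on a finite set, let `H` be the stabilizer of `t` distinct points and `P` a Sylow `p`-subgroup of `H`. Then the normalizer of `P` in `G` is `t`-fold transitive on the fixed points of `P`: any `t` distinct fixed points of `P` can be carried to any other `t` distinct fixed points of `P` by an element normalizing `P`. -/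
theorem result {G : Type*} [Group G] [Finite G] {α : Type*} [Fintype α] [MulAction G α] {t : ℕ} (hG : MulAction.IsMultiplyPretransitive G α t) (x : Fin t ↪ α) {p : ℕ} [Fact p.Prime] (P : Sylow p (MulAction.stabilizer G x)) (a b : Fin t ↪ α) (ha : ∀ i, a i ∈ MulAction.fixedPoints ((P : Subgroup (MulAction.stabilizer G x)).map (MulAction.stabilizer G x).subtype) α) (hb : ∀ i, b i ∈ MulAction.fixedPoints ((P : Subgroup (MulAction.stabilizer G x)).map (MulAction.stabilizer G x).subtype) α) : ∃ g ∈ Subgroup.normalizer ((((P : Subgroup (MulAction.stabilizer G x)).map (MulAction.stabilizer G x).subtype) : Subgroup G) : Set G), g • a = b := by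
  have hP := IsSylowIn.of_sylow_map P
  generalize (P : Subgroup (MulAction.stabilizer G x)).map (MulAction.stabilizer G x).subtype = Q at *
  have k : ∀ a : Fin t ↪ α, (∀ i, a i ∈ MulAction.fixedPoints Q α) → ∃ g ∈ N(Q), g • a = x := fun a ha => by
    obtain ⟨g, rfl⟩ := hG.exists_smul_eq x a
    have h1 : cj g⁻¹ Q ≤ MulAction.stabilizer G x := cj_le_iff.2 fun y hy => by
      rw [MulAction.mem_stabilizer_iff, mul_smul, mul_smul, inv_inv, inv_smul_eq_iff]
      exact Function.Embedding.ext fun i => ha i ⟨y, hy⟩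
    obtain ⟨h, h2, h3⟩ := hP.exists_cj_le (IsPGroup_cj hP.pgroup g⁻¹) h1
    rw [cj_cj] at h3
    exact ⟨h * g⁻¹, mem_normalizer_of_cj_le h3, by rw [mul_smul, inv_smul_smul]; exact h2⟩
  obtain ⟨g, h1, h2⟩ := k a ha
  obtain ⟨h, h3, h4⟩ := k b hb
  exact ⟨h⁻¹ * g, mul_mem (inv_mem h3) h1, by rw [mul_smul, h2, inv_smul_eq_iff, h4]⟩


end Cfsg.Agent.S4219
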