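import Cfsg.Statements.S4222
import Cfsg.Agent.H2.Cls

set_option autoImplicit false
open Cfsg

namespace Cfsg.Agent.S4222
open Subgroup CfsgH2
open scoped commutatorElement

open CfsgFT

/-- If a normal subgroup `N` of a finite group is complete (its centre is trivial and every automorphism of `N` is inner), then the group is the internal direct product of `N` and the centralizer of `N`: the centralizer is a complement to `N`. -/
theorem result {T : Type*} [Group T] [Finite T] (N : Subgroup T) [N.Normal] (hz : Subgroup.center ↥N = ⊥) (ha : Function.Surjective (MulAut.conj : ↥N →* MulAut ↥N)) : (Subgroup.centralizer (N : Set T)).IsComplement' N := by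
  refine (CfsgH1.isComplement'_of_inf_of_sup ?_ (top_le_iff.1 fun g _ => ?_)).symm
  · rw [← CfsgLead.map_center_subtype, hz, Subgroup.map_bot]
  · obtain ⟨n, hn⟩ := ha (MulAut.conjNormal g)
    rw [show g = n * ((n : T)⁻¹ * g) by group]
    refine mul_mem_sup n.2 (mem_cent.2 fun a h => ?_)
    have : (n : T) * a * (n : T)⁻¹ = g * a * g⁻¹ := by
      simpa using congrArg Subtype.val (DFunLike.congr_fun hn ⟨a, h⟩)
    calc _ = (n : T)⁻¹ * (n * a * (n : T)⁻¹) * g := by group
      _ = _ := by rw [this]; group


end Cfsg.Agent.S4222
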