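import Cfsg.Statements.S4223
import Cfsg.Agent.H1.Basic

set_option autoImplicit false
open Cfsg

namespace Cfsg.Agent.S4223

def Ind (A : Type*) [Group A] : Prop :=
  Nontrivial A ∧ ∀ H K : Subgroup A, H.Normal → K.Normal → H ⊓ K = ⊥ → H ⊔ K = ⊤ → H = ⊥ ∨ K = ⊥

open Subgroup in
theorem split {A B : Type*} [Group A] [Group B] (α : A →* B) (β : B →* A) (h : Function.Bijective (β.comp α)) :
    α.range ⊓ β.ker = ⊥ ∧ α.range ⊔ β.ker = ⊤ := by
  refine ⟨eq_bot_iff.2 ?_, eq_top_iff.2 fun b _ => ?_⟩
  · rintro _ ⟨⟨a, rfl⟩, k⟩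
    rw [show a = 1 from h.1 (k.trans (map_one _).symm), map_one]; exact one_mem _
  · obtain ⟨a, e⟩ := h.2 (β b)
    rw [← mul_inv_cancel_left (α a) b]
    exact mul_mem (mem_sup_left ⟨a, rfl⟩) (mem_sup_right (by simp [MonoidHom.mem_ker, ← e]))

open Subgroup in
theorem two {A : Type*} [Group A] [Finite A] (hA : Ind A) (φ ψ : A →* A) (e : ∀ a, φ a * ψ a = a)
    (c : ∀ a b, Commute (φ a) (ψ b)) : Function.Bijective φ ∨ Function.Bijective ψ := by
  let E : Monoid.End A := φ
  let F : ℕ → A →* A := fun n => (E ^ n : Monoid.End A)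
  have s : ∀ n a, F (n + 1) a = φ (F n a) := fun n a => DFunLike.congr_fun (pow_succ' E n) a
  have ad : ∀ m n a, F (m + n) a = F m (F n a) := fun m n a => DFunLike.congr_fun (pow_add E m n) a
  have nm : ∀ n a x, F n (a * x * a⁻¹) = a * F n x * a⁻¹ := fun n => by
    induction n with
    | zero => exact fun _ _ => rfl
    | succ n ih =>
      intro a x
      rw [s, s, ih, map_mul, map_mul, map_inv]
      conv_rhs => rw [← e a, mul_assoc (φ a), ← (c _ a).eq]
      group
  obtain ⟨n, hn⟩ := WellFoundedGT.monotone_chain_condition (α := Subgroup A) ⟨fun n => (F n).ker, monotone_nat_of_le_succ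
    fun n a ha => by rw [MonoidHom.mem_ker, s, ha, map_one]⟩
  have i : (F (n + 1)).range ⊓ (F (n + 1)).ker = ⊥ := eq_bot_iff.2 (by
    rintro _ ⟨⟨a, rfl⟩, k⟩
    exact ((hn _ n.le_succ).symm.trans (hn (n + 1 + (n + 1)) (by omega))).ge ((ad _ _ a).trans k))
  haveI : (F (n + 1)).range.Normal := ⟨by rintro _ ⟨x, rfl⟩ a; exact ⟨_, nm _ a x⟩⟩
  rcases hA.2 _ _ inferInstance inferInstance i (eq_top_of_card_eq _ (by
    rw [CfsgH1.card_sup_of_disjoint (le_top.trans (normalizer_eq_top _).ge) (disjoint_iff.2 i),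
      ← index_ker, index_mul_card])) with k | k
  · refine .inr (Finite.injective_iff_bijective.1 ((injective_iff_map_eq_one _).2 fun a ha => ?_))
    have : ∀ m, F m a = a := fun m => by
      induction m with
      | zero => rfl
      | succ m ih => rw [s, ih, ← mul_one (φ a), ← ha, e]
    exact k.le ⟨a, this _⟩
  · exact .inl (Finite.injective_iff_bijective.1 ((injective_iff_map_eq_one _).2 fun a ha => k.le
      ((ad n 1 a).trans (by rw [show F 1 a = 1 from ha, map_one]))))

def sp {n : ℕ} (B : Fin (n + 1) → Type*) [∀ j, Group (B j)] (j : Fin (n + 1)) :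
    (∀ i, B i) ≃* B j × ∀ i, B (j.succAbove i) := { (Fin.insertNthEquiv B j).symm with map_mul' := fun _ _ => rfl }

open Subgroup in
theorem pick {A : Type*} [Group A] [Finite A] (hA : Ind A) {n : ℕ} : ∀ (B : Fin n → Type*) [∀ j, Group (B j)], (∀ j, Ind (B j)) →
    ∀ (α : A →* ∀ j, B j) (β : (∀ j, B j) →* A), Function.Bijective (β.comp α) → α.range.Normal →
      ∃ j, Function.Bijective fun a => α a j := by
  induction n with
  | zero =>
    intro B _ _ α β h _
    haveI := hA.1
    obtain ⟨a, b, n⟩ := exists_pair_ne A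
    exact (n (h.1 (congrArg β (Subsingleton.elim _ _)))).elim
  | succ n ih =>
    intro B _ hB α β h hn
    let γ := (MulEquiv.ofBijective _ h).symm.toMonoidHom.comp (β.comp (sp B 0).symm.toMonoidHom)
    let δ := (sp B 0).toMonoidHom.comp α
    rcases two hA ((γ.comp (MonoidHom.inl _ _)).comp ((MonoidHom.fst _ _).comp δ))
      ((γ.comp (MonoidHom.inr _ _)).comp ((MonoidHom.snd _ _).comp δ)) (fun a => by
        simp only [MonoidHom.comp_apply (γ.comp _), MonoidHom.comp_apply γ, ← map_mul]
        exact (MulEquiv.symm_apply_eq (MulEquiv.ofBijective _ h)).2 (congrArg β ((MulEquiv.symm_apply_eq (sp B 0)).2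
          (Prod.ext (mul_one _) (one_mul _)))))
      (fun a b => (MonoidHom.commute_inl_inr _ _).map γ) with k | k
    · obtain ⟨k1, k2⟩ := split _ _ k
      have n1 : ((MonoidHom.fst _ _).comp δ).range.Normal := by
        rw [← MonoidHom.comp_assoc, MonoidHom.range_comp]; exact hn.map _ (Prod.fst_surjective.comp (sp B 0).surjective)
      have i := Function.Injective.of_comp (f := γ.comp (MonoidHom.inl _ _)) k.1
      refine ⟨0, i, (MonoidHom.range_eq_top (f := (MonoidHom.fst _ _).comp δ)).1 ?_⟩
      rcases (hB 0).2 _ _ n1 inferInstance k1 k2 with e | e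
      · haveI := hA.1
        obtain ⟨a, n⟩ := exists_ne (1 : A)
        exact (n (i ((e.le ⟨a, rfl⟩).trans (map_one _).symm))).elim
      · rwa [e, sup_bot_eq] at k2
    · obtain ⟨j, hj⟩ := ih _ (fun j => hB _) _ _ k (by
        rw [← MonoidHom.comp_assoc, MonoidHom.range_comp]; exact hn.map _ (Prod.snd_surjective.comp (sp B 0).surjective))
      exact ⟨_, hj⟩

theorem exch {A H B K : Type*} [Group A] [Group H] [Group B] [Group K] [Finite A] [Finite H] [Finite B] [Finite K]
    (e : A × H ≃* B × K) (h : Function.Bijective fun a => (e (a, 1)).1) : Nonempty (H ≃* K) := by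
  refine ⟨(MulEquiv.ofBijective ((MonoidHom.snd _ _).comp (e.symm.toMonoidHom.comp (MonoidHom.inr _ _)))
    ((Nat.bijective_iff_injective_and_card _).2 ⟨(injective_iff_map_eq_one _).2 fun k hk => ?_, ?_⟩)).symm⟩
  · have a : e ((e.symm (1, k)).1, 1) = (1, k) := by rw [← e.eq_symm_apply]; exact Prod.ext rfl hk.symm
    have b : (e.symm (1, k)).1 = 1 := h.1 (by simp only [a]; exact (congrArg Prod.fst (map_one e)).symm)
    rw [b] at a
    exact (congrArg Prod.snd (a.symm.trans (map_one e)))
  · have := Nat.card_congr e.toEquiv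
    rw [Nat.card_prod, Nat.card_prod, Nat.card_congr (Equiv.ofBijective _ h)] at this
    exact (Nat.eq_of_mul_eq_mul_left Nat.card_pos this).symm

/-- If a finite group is isomorphic both to a direct product of `m` directly indecomposable nontrivial groups and to a direct product of `n` such groups (a group is directly indecomposable when it is not the internal direct product of two nontrivial normal subgroups), then `m = n` and the factors are isomorphic in pairs after a suitable matching. -/
theorem result {m n : ℕ} {A : Fin m → Type*} {B : Fin n → Type*} [∀ i, Group (A i)] [∀ j, Group (B j)] [∀ i, Finite (A i)] [∀ j, Finite (B j)] (hA : ∀ i, Nontrivial (A i) ∧ ∀ H K : Subgroup (A i), H.Normal → K.Normal → H ⊓ K = ⊥ → H ⊔ K = ⊤ → H = ⊥ ∨ K = ⊥) (hB : ∀ j, Nontrivial (B j) ∧ ∀ H K : Subgroup (B j), H.Normal → K.Normal → H ⊓ K = ⊥ → H ⊔ K = ⊤ → H = ⊥ ∨ K = ⊥) (e : ((i : Fin m) → A i) ≃* ((j : Fin n) → B j)) : ∃ σ : Fin m ≃ Fin n, ∀ i, Nonempty (A i ≃* B (σ i)) := by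
  open Subgroup in
  induction m generalizing n with
  | zero =>
    rcases n with _ | n
    · exact ⟨Equiv.refl _, fun i => i.elim0⟩
    · haveI := (hB 0).1
      haveI := e.symm.injective.subsingleton
      exact (not_subsingleton _ (Function.Surjective.subsingleton (Function.surjective_eval (β := B) 0))).elim
  | succ m ih =>
    let α := e.toMonoidHom.comp ((sp A 0).symm.toMonoidHom.comp (MonoidHom.inl _ _))
    obtain ⟨j, hj⟩ := pick (hA 0) B hB α ((MonoidHom.fst _ _).comp ((sp A 0).toMonoidHom.comp e.symm.toMonoidHom))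
      (by
        convert Function.bijective_id; funext a
        exact (congrArg (fun x => (sp A 0 x).1) (e.symm_apply_apply _)).trans (congrArg Prod.fst ((sp A 0).apply_symm_apply _))) (by
        have : (MonoidHom.inl (A 0) (∀ i, A (Fin.succAbove 0 i))).range.Normal := ⟨by
          rintro _ ⟨a, rfl⟩ g; exact ⟨g.1 * a * g.1⁻¹, Prod.ext rfl (show 1 = g.2 * 1 * g.2⁻¹ by group)⟩⟩
        rw [MonoidHom.range_comp, MonoidHom.range_comp]
        exact (this.map _ (sp A 0).symm.surjective).map _ e.surjective)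
    rcases n with _ | n
    · exact j.elim0
    obtain ⟨f⟩ := exch (((sp A 0).symm.trans e).trans (sp B j)) hj
    obtain ⟨σ, hσ⟩ := ih (fun i => hA _) (fun i => hB _) f
    refine ⟨(finSuccEquiv' 0).trans (σ.optionCongr.trans (finSuccEquiv' j).symm), fun i => ?_⟩
    refine Fin.succAboveCases 0 ?_ (fun i => ?_) i
    · rw [show ((finSuccEquiv' 0).trans (σ.optionCongr.trans (finSuccEquiv' j).symm)) 0 = j by simp]
      exact ⟨MulEquiv.ofBijective ((Pi.evalMonoidHom B j).comp α) hj⟩
    · rw [show ((finSuccEquiv' 0).trans (σ.optionCongr.trans (finSuccEquiv' j).symm)) (Fin.succAbove 0 i) = j.succAbove (σ i) by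
        rw [Equiv.trans_apply, finSuccEquiv'_succAbove]; simp]
      exact hσ i

end Cfsg.Agent.S4223
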