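import Cfsg.Statements.S4227
import Cfsg.Agent.H9.HH4
import Cfsg.Agent.H3.Burnside

set_option autoImplicit false
open Cfsg

namespace Cfsg.Agent.S4227

/-- A finite group in which every element has order dividing `6` has `2`-length at most `1` and `3`-length at most `1`. -/
theorem result {G : Type*} [Group G] [Finite G] (h : ∀ x : G, x ^ 6 = 1) : Cfsg.PLengthLE 2 1 G ∧ Cfsg.PLengthLE 3 1 G := by
  open Subgroup CfsgH1 CfsgH2 CfsgH9 in
  have d : ∀ q : ℕ, q.Prime → q ∣ Nat.card G → q = 2 ∨ q = 3 := fun q hq e => by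
    have := Fact.mk hq
    obtain ⟨x, hx⟩ := exists_prime_orderOf_dvd_card' q e
    exact ((Nat.Prime.dvd_mul hq (m := 2) (n := 3)).1 (hx ▸ orderOf_dvd_of_pow_eq_one (h x))).imp
      (Nat.prime_dvd_prime_iff_eq hq Nat.prime_two).1 (Nat.prime_dvd_prime_iff_eq hq Nat.prime_three).1
  have : Group.IsSolvable G := CfsgH3.isSolvable_of_card_dvd_pow_mul_pow (a := Nat.card G) (b := Nat.card G) Nat.prime_two Nat.prime_three (by
    rw [← mul_pow]
    refine (Nat.dvd_iff_prime_pow_dvd_dvd _ _).2 fun q k hq e => ?_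
    rcases k with _ | k
    · simp
    refine (pow_dvd_pow q ((Nat.lt_pow_self hq.one_lt).le.trans (Nat.le_of_dvd Nat.card_pos e))).trans (pow_dvd_pow_of_dvd ?_ _)
    rcases d q hq ((dvd_pow_self q k.succ_ne_zero).trans e) with rfl | rfl <;> decide)
  have k : ∀ q r : ℕ, q.Prime → r.Prime → q ≠ r → ∀ s, r * s = 6 → ∀ Q : Subgroup G, IsPGroup q Q → ∀ x ∈ Q, x ^ s = 1 :=
    fun q r hq hr e s hs Q hQ x hx => by
      have := Fact.mk hq
      obtain ⟨k, hk⟩ := exists_orderOf_eq_pow hQ hx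
      exact orderOf_dvd_iff_pow_eq_one.1 ((hk ▸ ((Nat.coprime_primes hq hr).2 e).pow_left k).dvd_of_dvd_mul_left
        (hs ▸ orderOf_dvd_of_pow_eq_one (h x)))
  have ab : ∀ q : ℕ, q.Prime → q ≠ 3 → ∀ Q : Subgroup G, IsPGroup q Q → Q ≤ centralizer (Q : Set G) := fun q hq e Q hQ x hx y hy => by
    have t := fun x hx => inv_eq_of_mul_eq_one_right ((sq x).symm.trans (k q 3 hq Nat.prime_three e 2 rfl Q hQ x hx))
    rw [← t _ (mul_mem hy hx), mul_inv_rev, t x hx, t y hy]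
  have := Fact.mk Nat.prime_three
  obtain ⟨P⟩ : Nonempty (Sylow 2 G) := inferInstance
  obtain ⟨R⟩ : Nonempty (Sylow 3 G) := inferInstance
  have := isMulCommutative_iff_le_centralizer.2 (ab 2 Nat.prime_two (by decide) P P.isPGroup')
  refine ⟨pLengthLE_one_of_abelian_sylow isPSolvable_of_isSolvable P, pl_of_exp 1 G R isPSolvable_of_isSolvable
    (fun q _ _ a b _ _ _ => ?_) (IsSylowIn.of_sylow_top R) (k 3 2 Nat.prime_three Nat.prime_two (by decide) 3 rfl R R.isPGroup')⟩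
  have := Fact.mk a
  obtain ⟨Q⟩ : Nonempty (Sylow q G) := inferInstance
  exact ⟨Q, IsSylowIn.of_sylow_top Q, ab q a b Q Q.isPGroup'⟩

end Cfsg.Agent.S4227
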