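import Cfsg.Statements.S4230
import Cfsg.Agent.H2.Cls
import Mathlib.RingTheory.Polynomial.Cyclotomic.Expand

set_option autoImplicit false
open Cfsg

namespace Cfsg.Agent.S4230
open Subgroup CfsgH2
open scoped commutatorElement

/-- Let p be an odd prime, q a natural number not divisible by p, and e the multiplicative order of q modulo p. For a natural number f, p divides the value at q of the f-th cyclotomic polynomial if and only if f = e·p^j for some j ≥ 0. -/
theorem result (p q f : ℕ) (hp : p.Prime) (hp2 : p ≠ 2) (hpq : ¬ p ∣ q) :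
    ((p : ℤ) ∣ (Polynomial.cyclotomic f ℤ).eval (q : ℤ)) ↔ ∃ j : ℕ, f = orderOf (q : ZMod p) * p ^ j := by
  haveI := Fact.mk hp
  have hq : (q : ZMod p) ≠ 0 := fun e => hpq ((ZMod.natCast_eq_zero_iff q p).1 e)
  have h1 : ¬ p ∣ orderOf (q : ZMod p) := fun e => by
    have := Nat.le_of_dvd (by have := hp.two_le; omega) (e.trans (ZMod.orderOf_dvd_card_sub_one hq))
    have := hp.two_le
    omega
  by_cases h0 : f = 0
  · subst h0
    refine ⟨fun h => absurd (Nat.dvd_one.1 (by exact_mod_cast (show (p : ℤ) ∣ 1 by simpa using h))) hp.ne_one, fun ⟨j, h⟩ => absurd ?_ h1⟩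
    rw [(mul_eq_zero.1 h.symm).resolve_right (pow_ne_zero j hp.ne_zero)]
    exact dvd_zero p
  obtain ⟨k, m, hm, rfl⟩ := Nat.exists_eq_pow_mul_and_not_dvd h0 p hp.ne_one
  haveI : NeZero (m : ZMod p) := ⟨fun e => hm ((ZMod.natCast_eq_zero_iff m p).1 e)⟩
  rw [← ZMod.intCast_zmod_eq_zero_iff_dvd, ← eq_intCast (Int.castRingHom (ZMod p)), ← Polynomial.eval₂_at_apply,
    ← Polynomial.eval_map, Polynomial.map_cyclotomic, map_natCast, ← Polynomial.IsRoot.def,
    Polynomial.isRoot_cyclotomic_prime_pow_mul_iff_of_charP, IsPrimitiveRoot.iff_orderOf]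
  refine ⟨fun h => ⟨k, by rw [h, mul_comm]⟩, fun ⟨j, h⟩ => Nat.dvd_antisymm ?_ ?_⟩
  · exact (((Nat.Prime.coprime_iff_not_dvd hp).2 h1).symm.pow_right k).dvd_of_dvd_mul_left ⟨_, h⟩
  · exact (((Nat.Prime.coprime_iff_not_dvd hp).2 hm).symm.pow_right j).dvd_of_dvd_mul_right (h ▸ dvd_mul_left _ _)


end Cfsg.Agent.S4230
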