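import Cfsg.Statements.S4231
import Cfsg.Agent.H3.An1

set_option autoImplicit false
open Cfsg

namespace Cfsg.Agent.S4231

open CfsgPm Subgroup Equiv
theorem aux {n : ℕ} (hn : 5 ≤ n) {G : Subgroup (MulAut (alternatingGroup (Fin n)))}
    (hG : (MulAut.conj : alternatingGroup (Fin n) →* MulAut (alternatingGroup (Fin n))).range ≤ G)
    {p q : ℕ} [hp : Fact p.Prime] [hq : Fact q.Prime] (l : p < q) (h : ∀ g : G, orderOf g ≠ p * q) (Q : Sylow q G) : IsMulCommutative (Q : Subgroup G) := by
  have o := hq.out.odd_of_ne_two (by have := hp.out.two_le; omega)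
  have i : Function.Injective (MulAut.conjNormal : Perm (Fin n) →* MulAut (alternatingGroup (Fin n))) := (injective_iff_map_eq_one _).2 fun g hg => Equiv.ext fun o =>
    fix_uniq (fun k => Set.powersetCard.isPretransitive_alternatingGroup (α := Fin n) (n := k) (by simp; omega)) (by simp; omega) (N := MulAction.stabilizer _ o) (by
      haveI := alternatingGroup.isPretransitive_of_three_le_card (Fin n) (by simp; omega)
      rw [MulAction.index_stabilizer_of_transitive, Nat.card_eq_fintype_card]) (fun x hx => by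
      have : g * x * g⁻¹ = x := congrArg Subtype.val (DFunLike.congr_fun hg x)
      show x.1 (g o) = g o
      rw [← this]
      simpa using (show x.1 o = o from hx)) fun _ h => h
  have c := (Nat.coprime_primes hp.out hq.out).2 l.ne
  have n3 : n < 3 * q := by_contra fun n3 => by
    have p2 := hp.out.two_le
    obtain ⟨g, e⟩ := (Perm.exists_with_cycleType_iff (Fin n) (m := {q, p, p})).2 ⟨by simp; omega, by simp; omega⟩
    obtain ⟨k, hk⟩ := o
    refine h ⟨_, hG ⟨⟨g, ?_⟩, rfl⟩⟩ ?_
    · rw [Perm.mem_alternatingGroup, Perm.sign_of_cycleType, e]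
      exact Even.neg_one_pow ⟨k + p + 2, by simp; omega⟩
    rw [orderOf_mk, ← MulAut.conjNormal_val, orderOf_injective _ i, ← Perm.lcm_cycleType, e, mul_comm, ← c.symm.lcm_eq_mul]
    simp; rfl
  obtain ⟨k, hk⟩ := IsPGroup.iff_card.1 Q.2
  have d := card_dvd_of_le (show Q.1.map G.subtype ≤ _ from by
    rintro _ ⟨x, hx, rfl⟩
    obtain ⟨j, hj⟩ := IsPGroup.iff_orderOf.1 Q.2 ⟨x, hx⟩
    exact odd_aut hn _ (by rw [coe_subtype, orderOf_coe, ← orderOf_mk _ hx, hj]; exact o.pow))
  rw [card_map_of_injective G.subtype_injective, ← Nat.card_congr (MonoidHom.ofInjective i).toEquiv, hk, Nat.card_perm, Nat.card_fin,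
    hq.out.pow_dvd_factorial_iff (b := 2) (Nat.log_lt_of_lt_pow (by omega) (by nlinarith [hp.out.two_le]))] at d
  have : k < 3 := d.trans_lt (by simpa using Nat.div_lt_of_lt_mul (by omega))
  by_cases e : k = 2
  · exact IsPGroup.isMulCommutative_of_card_eq_prime_sq (e ▸ hk)
  haveI := isCyclic_of_card_dvd_prime (p := q) (hk ▸ (pow_dvd_pow q (by omega : k ≤ 1)).trans (pow_one q).dvd)
  exact IsCyclic.isMulCommutative

/-- Let n ≥ 5 and let G be a group of automorphisms of the alternating group of degree n containing all inner automorphisms. If p ≠ q are primes and G has no element of order pq, then every Sylow p-subgroup of G is abelian or every Sylow q-subgroup of G is abelian. -/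
theorem result (n : ℕ) (hn : 5 ≤ n) (G : Subgroup (MulAut (alternatingGroup (Fin n))))
    (hG : (MulAut.conj : alternatingGroup (Fin n) →* MulAut (alternatingGroup (Fin n))).range ≤ G)
    (p q : ℕ) [Fact p.Prime] [Fact q.Prime] (hpq : p ≠ q) (h : ∀ g : G, orderOf g ≠ p * q) :
    (∀ P : Sylow p G, IsMulCommutative (P : Subgroup G)) ∨ (∀ Q : Sylow q G, IsMulCommutative (Q : Subgroup G)) := by
  exact hpq.lt_or_gt.symm.imp (fun l => aux hn hG l (mul_comm p q ▸ h)) fun l => aux hn hG l h

end Cfsg.Agent.S4231
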