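import Cfsg.Statements.S4237
import Cfsg.Agent.H9.KU1

set_option autoImplicit false
open Cfsg

namespace Cfsg.Agent.S4237

/-- Let G be a finite group, p a prime and a a natural number such that p^(a+1) divides the order of G. Then the number of subgroups of G of order p^a is congruent to 1 or to 1 + p modulo p². -/
theorem result {G : Type*} [Group G] [Finite G] (p a : ℕ) (hp : p.Prime) (hdvd : p ^ (a + 1) ∣ Nat.card G) :
    Nat.card {H : Subgroup G // Nat.card H = p ^ a} ≡ 1 [MOD p ^ 2] ∨
      Nat.card {H : Subgroup G // Nat.card H = p ^ a} ≡ 1 + p [MOD p ^ 2] := by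
  open Subgroup CfsgH1 CfsgH2 CfsgH9 CfsgH9.KU in
    have : Fact p.Prime := ⟨hp⟩
    by_cases h2 : p = 2
    · subst h2
      have := card_psub_modEq (G := G) (p := 2) (s := a) ((pow_dvd_pow 2 (by omega)).trans hdvd)
      unfold Nat.ModEq at *
      omega
    rcases a with _ | a
    · left
      have := nSub_self (⊥ : Subgroup G)
      rw [nSub, card_bot, card_subtype_congr (Q := fun K : Subgroup G => Nat.card K = p ^ 0) fun K =>
        ⟨fun h => h.2, fun h => ⟨(card_eq_one.1 h).le, h⟩⟩] at this
      rw [this]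
    obtain ⟨P⟩ : Nonempty (Sylow p G) := inferInstance
    by_cases c : IsCyclic P
    · left
      have : IsEmpty {C : Subgroup G // ¬ IsCyclic C ∧ Nat.card C = p ^ (a + 1 + 1)} := ⟨fun C => by
        obtain ⟨Q, hQ⟩ := (IsPGroup.of_card C.2.2).exists_le_sylow
        exact C.2.1 (isCyclic_of_le' (isCyclic_of_surjective _ (P.equiv Q).surjective) hQ)⟩
      have h := nSub_modEq hdvd
      rwa [nNC, Nat.card_of_isEmpty, mul_zero, add_zero, nSub_top] at h
    · exact Or.inr (nSub_modEq' hdvd (dvd_nOrd h2 P c a))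

end Cfsg.Agent.S4237
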