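import Cfsg.Statements.S4238
import Cfsg.Agent.H1.CN
import Cfsg.Agent.H2.Transfer2

set_option autoImplicit false
open Cfsg

namespace Cfsg.Agent.S4238

open Subgroup CfsgH1 CfsgFT CfsgH2 in
theorem aux {X : Type*} [Group X] [Finite X] {p : ℕ} [hp : Fact p.Prime] {Q R : Subgroup X} [Q.Normal] (hQ : IsPGroup p Q)
    (hR : IsPi {p}ᶜ R) (cy : IsCyclic R) (e : Q ⊔ R = ⊤) (h0 : ⁅Q, R⁆ ≠ ⊥) (h : ∀ N : Subgroup X, N.Normal → N ≠ ⊥ → ⁅Q, R⁆ ≤ N) :
    pPrimeCore p X = ⊥ ∧ ∀ k : X, orderOf k ≠ Monoid.exponent X := by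
  have nn : ∀ (A Y : Subgroup X) [Y.Normal], A ≤ N(Y) := fun A Y _ => le_top.trans (normalizer_eq_top Y).ge
  have l := comm_le_left (nn R Q)
  have c := coprime_pgroup_p' hQ hR
  have dp := dvd_card_of_isPGroup (hQ.to_le l) h0
  refine ⟨by_contra fun n => not_dvd_card_pPrimeCore p X (dp.trans (card_dvd_of_le (h _ inferInstance n))), fun k o => ?_⟩
  have z : ⁅Q, R⁆ ≤ C(Q) := (h (Q ⊓ C(Q)) inferInstance (inf_cent_ne_bot_of_pgroup hQ hQ le_normalizer
    fun k => h0 (eq_bot_iff.2 (l.trans k.le)))).trans inf_le_right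
  have f : Q ⊓ C(R) = ⊥ := by_contra fun n => h0 (by
    rw [← commutator_commutator_eq (nn R Q) c.symm]
    refine comm_eq_bot ((h _ (normal_of_top_le (e.ge.trans (sup_le ?_ (le_norm_of_cent' inf_le_right)))) n).trans inf_le_right)
    refine (commutator_sup_centralizer (nn R Q) c.symm (.inr (solvable_of_pgroup hQ))).ge.trans (sup_le ?_ le_normalizer)
    exact le_norm_of_cent (z.trans (cent_anti inf_le_left)))
  obtain ⟨a, b, ha, hb, ⟨i, hi⟩, bo, rfl⟩ := exists_p_part (p := p) k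
  have cm : Commute a b := (mem_cent.1 (comm_of_cyclic inferInstance hb) a ha)
  rw [cm.orderOf_mul_eq_mul_orderOf_of_coprime (hi ▸ bo.symm.pow_left i)] at o
  obtain ⟨j, hj⟩ := IsPGroup.iff_card.1 hQ
  obtain ⟨n, -, l'⟩ := sz_le (nn R Q) (disjoint_of_coprime_natCard c) (B := zpowers b) (e.ge.trans' le_top)
    (by rw [Nat.card_zpowers, hj]; exact bo.pow_right j) (.inl (isSolvable_zpowers b))
  obtain ⟨g, rfl⟩ := (Subgroup.isCyclic_iff_exists_zpowers_eq_top R).1 cy
  have e2 : cj n (zpowers b) = zpowers g := CfsgH2.eq_of_le_of_card_le l' (by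
    rw [card_cj, Nat.card_zpowers b]
    refine Nat.le_of_dvd (orderOf_pos b) (((isPi_compl_singleton_iff_coprime.1 hR).pow_right i).dvd_of_dvd_mul_left ?_)
    rw [← hi, o, Nat.card_zpowers]; exact Monoid.order_dvd_exponent g)
  have aQ : a ∈ Q := mem_of_coprime_orderOf_index (by
    rw [hi, (isComplement'_of_inf_of_sup (inf_eq_bot_of_coprime' c) e).symm.index_eq_card]
    exact (isPi_compl_singleton_iff_coprime.1 hR).symm.pow_left i)
  have : cj n (Q ⊓ C(zpowers b)) = ⊥ := by rw [cj_inf, cj_centralizer, e2, cj_eq_of_normal, f]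
  obtain rfl : a = 1 := (cj_eq_bot_iff.1 this).le ⟨aQ, by rw [cent_zpowers]; exact mem_cent1'.2 cm.eq⟩
  obtain ⟨x, -, xo⟩ := exists_orderOf_eq_prime hp.1 dp
  rw [orderOf_one, one_mul] at o
  exact hp.1.ne_one (Nat.Coprime.eq_one_of_dvd bo.symm (xo ▸ o ▸ Monoid.order_dvd_exponent x))

/-- Let G be a finite group and p a prime. Then G has a normal p-complement if and only if every section K = H/N of G (N a normal subgroup of a subgroup H) whose largest normal subgroup of order prime to p is trivial contains an element whose order equals the exponent of K. -/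
theorem result {G : Type*} [Group G] [Finite G] (p : ℕ) [Fact p.Prime] :
    Cfsg.HasNormalPComplement p G ↔
      ∀ (H : Subgroup G) (N : Subgroup H) [N.Normal], Cfsg.pPrimeCore p (H ⧸ N) = ⊥ →
        ∃ k : H ⧸ N, orderOf k = Monoid.exponent (H ⧸ N) := by
  open Subgroup CfsgH1 CfsgFT CfsgH2 in
  refine ⟨fun h H N _ e => ?_, fun h => by_contra fun n => ?_⟩
  · have k := hasNPC_iff.1 (hasNPC_of_surjective _ (QuotientGroup.mk'_surjective N) (hasNPC_subgroup h H))
    have := resIn_eq_bot_iff.1 (resIn_top.trans (eq_bot_iff.2 ((le_pPrimeCore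
      ((Nat.Prime.coprime_iff_not_dvd Fact.out).2 k).symm).trans e.le)))
    obtain ⟨i, hi⟩ := IsPGroup.iff_card.1 this
    obtain ⟨j, -, hj⟩ := (Nat.dvd_prime_pow Fact.out).1 ((Group.exponent_dvd_nat_card (G := H ⧸ N)).trans (card_top.symm.trans hi).dvd)
    obtain ⟨g, hg⟩ := Nat.Prime.exists_orderOf_eq_pow_factorization_exponent (G := H ⧸ N) (Fact.out : p.Prime)
    exact ⟨g, by rw [hg, hj, Nat.Prime.factorization_pow Fact.out]; simp⟩
  obtain ⟨P⟩ : Nonempty (Sylow p G) := inferInstance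
  obtain ⟨Q, a, q, hq, qp, -, g, g1, g2, g3⟩ := exists_act_of_not_hasNPC P n
  haveI := Fact.mk hq
  set H := Q ⊔ zpowers g
  haveI : (Q.subgroupOf H).Normal := normal_subgroupOf_sup_left (zpowers_le.2 g1)
  have d : ¬ ⁅Q.subgroupOf H, (zpowers g).subgroupOf H⁆ ≤ ⊥ := fun k => g3 (by
    rw [comm_subgroupOf le_sup_left le_sup_right, le_bot_iff, subgroupOf_eq_bot] at k
    exact cent_symm (cent_of_comm_eq_bot (k.eq_bot_of_le ((comm_le_left (zpowers_le.2 g1)).trans le_sup_left))) (mem_zpowers g))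
  obtain ⟨N, -, ⟨_, n1⟩, m⟩ := exists_maximal_subgroup
    (Φ := fun N => N.Normal ∧ ¬ ⁅Q.subgroupOf H, (zpowers g).subgroupOf H⁆ ≤ N) ⟨inferInstance, d⟩
  have sf := QuotientGroup.mk'_surjective N
  have kf := QuotientGroup.ker_mk' N
  haveI := Normal.map ‹(Q.subgroupOf H).Normal› _ sf
  obtain ⟨k1, k2⟩ := aux (Q := (Q.subgroupOf H).map _) ((P.2.to_le a).comap_subtype.map (QuotientGroup.mk' N))
    (((isPi_compl_of_isPGroup g2 qp).subgroupOf H).map _) (isCyclic_map' (isCyclic_subgroupOf inferInstance H) _)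
    (by rw [← Subgroup.map_sup, ← sup_subgroupOf le_sup_left le_sup_right, subgroupOf_self, map_top_of_surjective _ sf])
    (fun k => n1 (by rwa [← map_commutator, Subgroup.map_eq_bot_iff, kf] at k)) fun M _ m0 => by
      rw [← map_commutator, map_le_iff_le_comap]
      by_contra k
      exact m0 (by rw [← map_comap_eq_self_of_surjective sf M, m _ ⟨inferInstance, k⟩ (kf.ge.trans (ker_le_comap _ _)),
        Subgroup.map_eq_bot_iff, kf])
  exact (h H N k1).elim k2

end Cfsg.Agent.S4238
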