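import Cfsg.Statements.S4240
import Cfsg.Agent.H1.GAut

set_option autoImplicit false
open Cfsg

namespace Cfsg.Agent.S4240

/-- Let a finite group A act by automorphisms on a finite group G of order coprime to that of A. Suppose every maximal A-invariant proper subgroup of G is nilpotent while G is not. Then G is solvable, the order of G has the form p^a·q^b for two distinct primes p and q, and G has a normal A-invariant Sylow subgroup for some prime dividing its order. -/
theorem result {A G : Type*} [Group A] [Group G] [Finite A] [Finite G] [MulDistribMulAction A G]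
    (hcop : (Nat.card A).Coprime (Nat.card G))
    (hmax : ∀ H : Subgroup G, H ≠ ⊤ → (∀ a : A, ∀ x ∈ H, a • x ∈ H) →
      (∀ K : Subgroup G, H < K → (∀ a : A, ∀ x ∈ K, a • x ∈ K) → K = ⊤) → Group.IsNilpotent H)
    (hG : ¬ Group.IsNilpotent G) :
    Group.IsSolvable G ∧
      (∃ p q a b : ℕ, p.Prime ∧ q.Prime ∧ p ≠ q ∧ Nat.card G = p ^ a * q ^ b) ∧
      ∃ (p : ℕ) (P : Sylow p G), p.Prime ∧ p ∣ Nat.card G ∧ (P : Subgroup G).Normal ∧ (∀ a : A, ∀ x ∈ (P : Subgroup G), a • x ∈ (P : Subgroup G)) := by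
  open Subgroup CfsgH1 CfsgFT CfsgH2 in
  let φ : A →* MulAut G := MulDistribMulAction.toMulAut A G
  have hinv : ∀ H : Subgroup G, sdR φ ⊤ ≤ N(sdL φ H) → ∀ a : A, ∀ x ∈ H, a • x ∈ H := by
    intro H h a x hx
    have := CfsgH1.conj_mem_of_mem_normalizer (h (inr_mem_sdR.2 (mem_top a))) (inl_mem_sdL.2 hx)
    rw [sd_conj, inl_mem_sdL] at this
    exact this
  have hall : ∀ H : Subgroup G, H ≠ ⊤ → (∀ a : A, ∀ x ∈ H, a • x ∈ H) → Group.IsNilpotent H := by
    intro H
    induction H using subgroup_induction_down with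
    | h H ih =>
    intro h1 h2
    by_cases h3 : ∀ K : Subgroup G, H < K → (∀ a : A, ∀ x ∈ K, a • x ∈ K) → K = ⊤
    · exact hmax H h1 h2 h3
    push Not at h3
    obtain ⟨K, h4, h5, h6⟩ := h3
    exact isNilpotent_of_le (ih K (CfsgH1.card_lt_of_lt h4) h6 h5) h4.le
  obtain ⟨hs, p, q, _, _, hpq, P, Q, hP, hQ, hb, hn, hA, hPQ⟩ := inv_schmidt (A := sdR φ ⊤)
    (K := sdL φ ⊤) (le_normalizer_sdL_top _) (by rwa [card_sdR, card_sdL, card_top, card_top])
    (fun H h1 h2 => by
      obtain ⟨H, rfl⟩ := exists_sdL_eq h1.le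
      haveI := hall H (fun e => h1.ne (by rw [e])) (hinv H h2)
      exact nilpotent_of_mulEquiv (sdLEquiv φ H))
    (fun h => hG (nilpotent_of_mulEquiv (sdLTopEquiv φ).symm))
  refine ⟨isSolvable_of_equiv (sdLTopEquiv φ).symm, ?_, ?_⟩
  · obtain ⟨a, ha⟩ := hP.pgroup.exists_card_eq
    obtain ⟨b, hb⟩ := hQ.exists_card_eq
    have hQK : Q ≤ sdL φ ⊤ := hPQ ▸ le_sup_right
    refine ⟨p, q, a, b, Fact.out, Fact.out, hpq, ?_⟩
    rw [← card_sdL_top (φ := φ), card_of_compl (hQK.trans hn) (inf_eq_bot_of_coprime' ?_) hPQ, ha, hb]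
    rw [ha, hb]
    exact Nat.Coprime.pow _ _ ((Nat.coprime_primes Fact.out Fact.out).2 hpq)
  · obtain ⟨P, rfl⟩ := exists_sdL_eq hP.le
    have hP' : IsSylowIn p P ⊤ := by
      refine ⟨le_top, IsPGroup.of_equiv hP.pgroup (sdLEquiv φ P).symm, ?_⟩
      have := hP.not_dvd
      unfold sdL at this
      rwa [relIndex_map_map_of_injective _ _ SemidirectProduct.inl_injective] at this
    obtain ⟨P', rfl⟩ := hP'.of_top
    refine ⟨p, P', Fact.out, (dvd_card_of_isPGroup P'.isPGroup' fun e => hb ?_).trans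
      (card_subgroup_dvd_card _), ⟨fun x hx g => ?_⟩, hinv _ hA⟩
    · rw [e, sdL_bot]
    · have := CfsgH1.conj_mem_of_mem_normalizer (hn (inl_mem_sdL.2 (mem_top g))) (inl_mem_sdL.2 hx)
      rwa [← map_inv, ← map_mul, ← map_mul, inl_mem_sdL] at this

end Cfsg.Agent.S4240
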