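import Cfsg.Statements.S4242
import Cfsg.Agent.H1.Prim
import Cfsg.Agent.H2.Transfer2

set_option autoImplicit false
open Cfsg

namespace Cfsg.Agent.S4242

/-- Let G be a finite group and p a prime dividing its order. Every maximal subgroup of G of order divisible by p is nilpotent if and only if G is nilpotent, or G is a minimal non-nilpotent group, or G is the internal direct product of a normal subgroup of order p and a normal minimal non-nilpotent subgroup of order prime to p. -/
theorem result {G : Type*} [Group G] [Finite G] (p : ℕ) (hp : p.Prime) (hpG : p ∣ Nat.card G) :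
    (∀ M : Subgroup G, IsCoatom M → p ∣ Nat.card M → Group.IsNilpotent M) ↔
      (Group.IsNilpotent G ∨ Cfsg.IsMinimalNonNilpotent G ∨
        ∃ Z K : Subgroup G, Z.Normal ∧ K.Normal ∧ Z ⊓ K = ⊥ ∧ Z ⊔ K = ⊤ ∧ Nat.card Z = p ∧
          Cfsg.IsMinimalNonNilpotent K ∧ ¬ p ∣ Nat.card K) := by
  open Subgroup CfsgH1 CfsgFT CfsgH2 in
  haveI := Fact.mk hp
  have nil : ∀ {A B : Subgroup G}, A ≤ B → Group.IsNilpotent B → Group.IsNilpotent A := fun l _ =>
    Group.nilpotent_of_mulEquiv (subgroupOfEquivOfLe l)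
  have nn : ∀ (X Y : Subgroup G) [Y.Normal], X ≤ N(Y) := fun X Y _ => le_top.trans (normalizer_eq_top Y).ge
  refine ⟨fun h => or_iff_not_imp_left.2 fun n1 => or_iff_not_imp_left.2 fun n2 => ?_, ?_⟩
  · have h' : ∀ H : Subgroup G, H ≠ ⊤ → p ∣ Nat.card H → Group.IsNilpotent H := fun H a b =>
      (exists_max a).elim fun M k => nil k.2 (h M k.1 (b.trans (card_dvd_of_le k.2)))
    obtain ⟨H, a, b⟩ : ∃ H : Subgroup G, H ≠ ⊤ ∧ ¬ Group.IsNilpotent H := by
      by_contra! k; exact n2 ⟨n1, k⟩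
    obtain ⟨M, hM, l⟩ := exists_max a
    have mn : ¬ Group.IsNilpotent M := fun k => b (nil l k)
    have mp : IsPi {p}ᶜ M := isPi_compl_singleton_iff.2 fun k => mn (h M hM k)
    have key : ∀ Q : Subgroup G, IsPGroup p Q → Q ≠ ⊥ → (∀ (r : ℕ) [Fact r.Prime], ∃ R, IsSylowIn r R M ∧ M ⊓ (Q ⊔ R) = R) →
        M ≤ C(Q) := fun Q q1 q2 k => le_of_forall_sylowIn_le fun r _ _ => by
      obtain ⟨R, r1, r2⟩ := k r
      refine ⟨R, r1, commute_of_nilpotent (h' (Q ⊔ R) (fun e => mn ?_) ((dvd_card_of_isPGroup q1 q2).trans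
        (card_dvd_of_le le_sup_left))) le_sup_right le_sup_left (coprime_pgroup_p' q1 (mp.mono r1.le)).symm⟩
      rw [e, inf_top_eq] at r2
      exact r2 ▸ r1.pgroup.isNilpotent
    have d : ∀ Q : Subgroup G, IsPGroup p Q → M ⊓ Q = ⊥ := fun Q q => inf_eq_bot_of_coprime' (coprime_pgroup_p' q mp).symm
    obtain ⟨Q, q1, q2, q3⟩ : ∃ Q : Subgroup G, IsPGroup p Q ∧ Q ≠ ⊥ ∧ M ≤ C(Q) := by
      obtain ⟨P⟩ : Nonempty (Sylow p G) := inferInstance
      by_cases k : HasNormalPComplement p G
      · obtain ⟨K, _, c⟩ := (hasNPC_iff_sylow P).1 k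
        obtain rfl : K = M := max_eq hM (fun e => P.ne_bot_of_dvd_card hpG (by simpa [e] using c.disjoint))
          (le_of_coprime_card_index (c.symm.index_eq_card ▸ (coprime_pgroup_p' P.2 mp).symm))
        refine ⟨P, P.2, P.ne_bot_of_dvd_card hpG, key _ P.2 (P.ne_bot_of_dvd_card hpG) fun r _ => ?_⟩
        obtain ⟨R, r1, r2⟩ := exists_invariant_sylow (nn P K) (coprime_pgroup_p' P.2 mp) (.inl (solvable_of_pgroup P.2)) r
        exact ⟨R, r1, by rw [sup_comm, inf_sup_left r1.le r2, d _ P.2, sup_bot_eq]⟩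
      · obtain ⟨Q, a, q, hq, qp, -, g, g1, g2, g3⟩ := exists_act_of_not_hasNPC P k
        haveI := Fact.mk hq
        have q1 := P.2.to_le a
        have q2 : Q ≠ ⊥ := by rintro rfl; exact g3 (le_cent_bot ⊤ trivial)
        have : N(Q) = ⊤ := by_contra fun e => g3 (commute_of_nilpotent (h' _ e ((dvd_card_of_isPGroup q1 q2).trans
          (card_dvd_of_le le_normalizer))) (zpowers_le.2 g1) le_normalizer (coprime_pgroup_p' g2
            (isPi_compl_of_isPGroup q1 qp.symm)) (mem_zpowers g))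
        refine ⟨Q, q1, q2, key Q q1 q2 fun r _ => (IsSylowIn.exists_sylowIn (p := r) M).imp fun R r1 => ⟨r1, ?_⟩⟩
        rw [inf_sup_right r1.le (le_top.trans this.ge), d Q q1, bot_sup_eq]
    obtain ⟨x, hx, xp⟩ := exists_orderOf_eq_prime hp (dvd_card_of_isPGroup q1 q2)
    have c : M ≤ C(zpowers x) := q3.trans (cent_anti (zpowers_le.2 hx))
    have zc : Nat.card (zpowers x) = p := by rw [Nat.card_zpowers, xp]
    have zp : IsPGroup p (zpowers x) := .of_card (n := 1) (by rw [zc, pow_one])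
    have e : zpowers x ⊔ M = ⊤ := hM.2 _ (right_lt_sup.2 fun l => isPi_compl_singleton_iff.1 mp (zc ▸ card_dvd_of_le l))
    refine ⟨zpowers x, M, normal_of_top_le (e.ge.trans (sup_le le_normalizer (le_norm_of_cent c))),
      normal_of_top_le (e.ge.trans (sup_le (le_norm_of_cent' c) le_normalizer)), by rw [inf_comm, d _ zp], e, zc,
      ⟨mn, fun L hL => ?_⟩, isPi_compl_singleton_iff.1 mp⟩
    have := nil le_sup_right (h' (zpowers x ⊔ L.map M.subtype) (fun e => hL (map_injective M.subtype_injective ?_))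
      (zc ▸ card_dvd_of_le le_sup_left))
    · exact Group.nilpotent_of_mulEquiv (L.equivMapOfInjective _ M.subtype_injective).symm
    · have := inf_sup_right (map_subtype_le L) (le_norm_of_cent ((map_subtype_le L).trans c))
      rw [e, inf_top_eq, d _ zp, bot_sup_eq] at this
      rw [← this, ← MonoidHom.range_eq_map, range_subtype]
  · rintro (h | h | ⟨Z, K, _, _, d, e, c, h, n⟩) M hM hp'
    · infer_instance
    · exact h.2 M hM.1
    obtain ⟨x, hx, xp⟩ := exists_orderOf_eq_prime hp hp'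
    have i : Z.index = Nat.card K := (isComplement'_of_inf_of_sup d e).symm.index_eq_card
    have l : Z ≤ M := (CfsgH2.eq_of_le_of_card_le (zpowers_le.2 (mem_of_coprime_orderOf_index
      (by rw [xp, i]; exact hp.coprime_iff_not_dvd.2 n))) (by rw [Nat.card_zpowers, xp, c])).ge.trans (zpowers_le.2 hx)
    have e' := inf_sup_left l (nn K Z)
    rw [e, inf_top_eq] at e'
    rw [e']
    refine nilpotent_sup_of_cent (IsPGroup.isNilpotent (p := p) (.of_card (n := 1) (by rw [c, pow_one]))) ?_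
      ((le_centralizer_of_normalize (nn _ _) (nn _ _) d).trans (cent_anti inf_le_right))
    haveI := h.2 (M.subgroupOf K) fun k => hM.1 (top_le_iff.1 (e.ge.trans (sup_le l (subgroupOf_eq_top.1 k))))
    rw [← inf_subgroupOf_right] at this
    exact Group.nilpotent_of_mulEquiv (subgroupOfEquivOfLe inf_le_right)

end Cfsg.Agent.S4242
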