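import Cfsg.Statements.S4244
import Cfsg.Agent.H2.Cls

set_option autoImplicit false
open Cfsg

namespace Cfsg.Agent.S4244
open Subgroup CfsgH2
open scoped commutatorElement

open CfsgFT CfsgLead

/-- Let H be a subnormal subgroup of a finite group G. Then for every subgroup K of G the index of H ∩ K in H divides the index of K in G. -/
theorem result {G : Type*} [Group G] [Finite G] (H : Subgroup G) (hH : H.IsSubnormal) (K : Subgroup G) :
    (H ⊓ K).relIndex H ∣ K.index := by
  rw [inf_relIndex_left]
  exact SN.induction (P := fun H => K.relIndex H ∣ K.index) (by rw [relIndex_top_right])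
    (fun A B h1 h2 _ ih => by
      refine dvd_trans ?_ ih
      haveI := CfsgFT.normal_subgroupOf h2
      have := CfsgH1.relIndex_normal_dvd_index (K.subgroupOf B) (A.subgroupOf B)
      rwa [relIndex_subgroupOf h1] at this) (SN.top_iff.2 hH)


end Cfsg.Agent.S4244
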