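import Cfsg.Statements.S4245
import Cfsg.Agent.H2.CSize

set_option autoImplicit false
open Cfsg

namespace Cfsg.Agent.S4245
open Subgroup CfsgH2
open scoped commutatorElement

open CfsgFT CfsgH1

/-- Let G be a finite group with a subgroup A of prime-power index. Suppose A has a normal cyclic subgroup B such that A/B is cyclic of order a power of 2. Then G is solvable. -/
theorem result {G : Type*} [Group G] [Finite G] (A : Subgroup G) (p s : ℕ) (hp : p.Prime) (hA : A.index = p ^ s)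
    (B : Subgroup A) [B.Normal] (hB : IsCyclic B) (hAB : IsCyclic (A ⧸ B)) (r : ℕ) (hr : Nat.card (A ⧸ B) = 2 ^ r) :
    Group.IsSolvable G := by
  haveI := Fact.mk hp
  refine solv_of_quots fun N _ _ hN => ?_
  haveI : Nontrivial (G ⧸ N) := QuotientGroup.nontrivial_iff.2 hN
  set f := QuotientGroup.mk' N
  obtain ⟨a, ha⟩ := hAB.exists_generator
  obtain ⟨a, rfl⟩ := QuotientGroup.mk'_surjective B a
  obtain ⟨y, -, ⟨j, y1⟩, y2⟩ : ∃ y ∈ zpowers a, (∃ j, orderOf y = 2 ^ j) ∧
      QuotientGroup.mk' B y = QuotientGroup.mk' B a := CfsgH9.exists_p_lift _ a (k := r)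
    (by rw [orderOf_eq_card_of_forall_mem_zpowers ha, hr])
  have e1 : B ⊔ zpowers y = ⊤ := eq_top_iff.2 fun x _ => by
    obtain ⟨i, hi⟩ := ha (QuotientGroup.mk' B x)
    simp only [← y2, ← map_zpow] at hi
    have := mul_mem (mem_sup_right (zpow_mem (mem_zpowers y) i) : _ ∈ B ⊔ zpowers y)
      (mem_sup_left (QuotientGroup.eq.1 hi))
    simpa using this
  set g := f.comp A.subtype
  have e2 : B.map g ⊔ zpowers (g y) = A.map f := by
    rw [← MonoidHom.map_zpowers, ← Subgroup.map_sup, e1, ← map_map, ← MonoidHom.range_eq_map, range_subtype]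
  have e3 : (A.map f).index ∣ p ^ s := hA ▸ index_map_dvd A (QuotientGroup.mk'_surjective N)
  have e4 : zpowers (g y) ≤ N(B.map g) := by
    rw [← MonoidHom.map_zpowers]; exact map_le_norm _ le_normalizer_of_normal
  have e5 : IsCyclic (B.map g) := isCyclic_of_surjective _ (g.subgroupMap_surjective B)
  obtain ⟨i, -, e6⟩ := (Nat.dvd_prime_pow Nat.prime_two).1 (y1 ▸ orderOf_map_dvd g y)
  obtain ⟨h1, h2⟩ := relIndex_sup_dvd e4
  rw [e2] at h1 h2
  by_cases h3 : Even (Nat.card (B.map g))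
  · obtain ⟨t, t1, t2⟩ := exists_invol_of_even h3
    refine exists_solv_of_cs (x := t) (by rintro rfl; simp at t2) hp ((index_dvd_of_le ?_).trans e3)
    refine e2.ge.trans (sup_le ((comm_of_cyclic e5).trans (cent_le_cent1 t1)) (zpowers_le.2 (mem_cent1'.2 ?_)))
    exact mul_inv_eq_iff_eq_mul.1 (uniqInv_of_isCyclic e5 _ (CfsgH2.conj_mem_of_mem_normalizer (e4 (mem_zpowers _)) t1)
      t t1 (by rw [orderOf_conj', t2]) t2)
  by_cases p2 : p = 2
  · subst p2
    by_cases h4 : B.map g = ⊥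
    · refine ⟨⊤, inferInstance, top_ne_bot, solvable_of_pgroup (p := 2) ?_⟩
      rw [h4, bot_sup_eq] at e2
      obtain ⟨l, -, hl⟩ := (Nat.dvd_prime_pow Nat.prime_two).1 e3
      refine IsPGroup.of_card (n := i + l) ?_
      rw [Subgroup.card_top, ← card_mul_index (A.map f), hl, ← e2, Nat.card_zpowers, e6, pow_add]
    obtain ⟨x, x1, x2⟩ := (B.map g).bot_or_exists_ne_one.resolve_left h4
    refine exists_solv_of_cs x2 hp (k := i + s)
      ((index_dvd_of_le ((comm_of_cyclic e5).trans (cent_le_cent1 x1))).trans ?_)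
    rw [← relIndex_mul_index (e2 ▸ le_sup_left : B.map g ≤ A.map f), pow_add, ← e6, ← Nat.card_zpowers]
    exact mul_dvd_mul h1 e3
  refine ⟨⊤, inferInstance, top_ne_bot, ?_⟩
  haveI := solv_of_cyclic_two (T := zpowers (g y)) ⟨le_top, isPGroup_zpowers_of_orderOf e6, fun e => ?_⟩ inferInstance
  · infer_instance
  rw [relIndex_top_right, ← relIndex_mul_index (e2 ▸ le_sup_right : zpowers (g y) ≤ A.map f)] at e
  rcases (Nat.Prime.dvd_mul Nat.prime_two).1 e with e | e
  · exact h3 (even_iff_two_dvd.2 (e.trans h2))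
  · exact p2 ((Nat.prime_dvd_prime_iff_eq Nat.prime_two hp).1 (Nat.prime_two.dvd_of_dvd_pow (e.trans e3))).symm


end Cfsg.Agent.S4245
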