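import Cfsg.Statements.S4249
import Cfsg.Agent.H2.Kegel

set_option autoImplicit false
open Cfsg

namespace Cfsg.Agent.S4249
open Subgroup CfsgH2
open scoped commutatorElement

open CfsgFT CfsgH1

/-- Let G be a finite group and p a prime such that G is not a p-group, and suppose the Hughes subgroup H_p(G), generated by all elements g with g^p ≠ 1, is a proper subgroup. Then H_p(G) is nilpotent and has index p in G. -/
theorem result {G : Type*} [Group G] [Finite G] (p : ℕ) (hp : p.Prime) (hG : ¬ IsPGroup p G)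
    (hH : Subgroup.closure {g : G | g ^ p ≠ 1} ≠ ⊤) :
    Group.IsNilpotent (Subgroup.closure {g : G | g ^ p ≠ 1}) ∧ (Subgroup.closure {g : G | g ^ p ≠ 1}).index = p := by
  haveI := Fact.mk hp
  set H := Subgroup.closure {g : G | g ^ p ≠ 1} with hHdef
  have hout : ∀ g, g ∉ H → g ^ p = 1 := fun g hg => by
    by_contra h; exact hg (subset_closure h)
  haveI hN : H.Normal := by
    refine ⟨fun a ha g => ?_⟩
    have : H ≤ H.comap (MulAut.conj g).toMonoidHom := by
      rw [hHdef, closure_le]
      intro x hx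
      refine subset_closure ?_
      show (g * x * g⁻¹) ^ p ≠ 1
      rw [conj_pow]
      intro e
      apply hx
      have : x ^ p = g⁻¹ * (g * x ^ p * g⁻¹) * g := by group
      rw [this, e]; group
    exact this ha
  obtain ⟨y, hy⟩ : ∃ y, y ∉ H := by
    by_contra h; push Not at h; exact hH (eq_top_iff.2 fun x _ => h x)
  have spl : ∀ y, y ∉ H → Spl p H y := fun y hy =>
    ⟨le_normalizer_of_normal (mem_top y), fun k hk => hout _ fun h => hy ((mul_mem_cancel_left hk).1 h)⟩
  have hnil := kegel hp H y (spl y hy)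
  refine ⟨hnil, ?_⟩
  obtain ⟨r, hr, hrp, hrd⟩ : ∃ r : ℕ, r.Prime ∧ r ≠ p ∧ r ∣ Nat.card G := by
    by_contra hc
    push Not at hc
    apply hG
    have : IsPGroup p (⊤ : Subgroup G) := isPi_singleton_iff.1 fun q hq hd => by
      by_contra h
      exact hc q hq h (by rwa [Subgroup.card_top] at hd)
    exact this.of_equiv topEquiv
  haveI := Fact.mk hr
  obtain ⟨x, hx⟩ := exists_prime_orderOf_dvd_card' r hrd
  have hxH : x ∈ H := by
    by_contra h
    have := orderOf_dvd_of_pow_eq_one (hout x h)
    rw [hx] at this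
    exact hrp ((Nat.prime_dvd_prime_iff_eq hr hp).1 this)
  have hR : IsPGroup r (Opi {r} H) := isPi_singleton_iff.1 (isPi_Opi _ _)
  have hR0 : Opi {r} H ≠ ⊥ := fun e => ((sylow_Opi_of_nilpotent (p := r) hnil).eq_bot_iff.1 e)
    (hx ▸ Subgroup.orderOf_dvd_natCard H hxH)
  set V := Opi {r} H ⊓ C(H) with hV
  have hV0 : V ≠ ⊥ := inf_centralizer_ne_bot_of_nilpotent hnil (Opi_le _ _) (le_normalizer_Opi _ _) hR0
  have hVn : (⊤ : Subgroup G) ≤ N(V) := le_normalizer_inf (le_normalizer_Opi_of _ le_normalizer_of_normal)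
    (le_normalizer_of_normal.trans (CfsgH2.normalizer_le_normalizer_centralizer H))
  haveI : V.Normal := normalizer_eq_top_iff.1 (top_le_iff.1 hVn)
  haveI : Nontrivial V := (V.nontrivial_iff_ne_bot).2 hV0
  let φ : G ⧸ H →* MulAut V := QuotientGroup.lift H (MulAut.conjNormal) fun h hh => by
    ext v
    show h * v * h⁻¹ = v
    rw [(mem_centralizer_iff.1 v.2.2) h hh, mul_inv_cancel_right]
  have hexp : ∀ a : G ⧸ H, a ^ p = 1 := by
    intro a
    induction a using QuotientGroup.induction_on with | _ a => ?_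
    by_cases h : a ∈ H
    · rw [(QuotientGroup.eq_one_iff a).2 h, one_pow]
    · rw [← QuotientGroup.mk_pow, hout a h, QuotientGroup.mk_one]
  have hpg : IsPGroup p (⊤ : Subgroup (G ⧸ H)) := isPGroup_of_forall_pow_eq_one fun a _ => hexp a
  have := cyc_or_quat_of_act φ hpg (by
    intro a _ v hv
    induction a using QuotientGroup.induction_on with | _ a => ?_
    by_cases h : a ∈ H
    · exact Or.inl ((QuotientGroup.eq_one_iff a).2 h)
    right
    have e : a * v * a⁻¹ = v := congrArg Subtype.val hv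
    have := (spl a h).fpf hp (j := 1) hp.not_dvd_one (Opi_le _ _ v.2.1)
      (by rw [pow_one, commute_iff_eq]; exact (mul_inv_eq_iff_eq_mul.1 e).symm)
    exact Subtype.ext (eq_one_of_mem_pgroup_of_coprime hR v.2.1
      (Nat.Coprime.coprime_dvd_left (orderOf_dvd_of_pow_eq_one this) ((Nat.coprime_primes hp hr).2 hrp.symm))))
  rcases this with hc | ⟨rfl, n, ⟨e⟩⟩
  · haveI : IsCyclic (G ⧸ H) := isCyclic_of_surjective _ (topEquiv (G := G ⧸ H)).surjective
    have h1 : Monoid.exponent (G ⧸ H) ∣ p := Monoid.exponent_dvd_of_forall_pow_eq_one hexp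
    rw [IsCyclic.exponent_eq_card] at h1
    rcases (Nat.dvd_prime hp).1 h1 with h | h
    · exact absurd (index_eq_one.1 h) hH
    · exact h
  · exfalso
    have h1 : (e.symm (QuaternionGroup.xa 0)) ^ 2 = 1 := Subtype.ext (hexp _)
    rw [← map_pow, map_eq_one_iff _ e.symm.injective] at h1
    have := orderOf_dvd_of_pow_eq_one h1
    rw [QuaternionGroup.orderOf_xa] at this
    omega


end Cfsg.Agent.S4249
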