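import Cfsg.Statements.S4250
import Cfsg.Agent.S4216

set_option autoImplicit false
open Cfsg

namespace Cfsg.Agent.S4250
open Subgroup CfsgH2
open scoped commutatorElement

open CfsgFT

/-- Let P be a Sylow p-subgroup of a finite group G. Call an intersection H = P ∩ Q with a Sylow p-subgroup Q tame when N_P(H) and N_Q(H) are Sylow p-subgroups of N_G(H). Then P ∩ G′ is generated by [P, N_G(P)] together with the commutator subgroups [P ∩ Q, ⟨x⟩] for all tame intersections P ∩ Q and all p-elements x of N_G(P ∩ Q). -/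
theorem result {G : Type*} [Group G] [Finite G] (p : ℕ) [Fact p.Prime] (P : Sylow p G) :
    (P : Subgroup G) ⊓ commutator G =
      ⁅(P : Subgroup G), Subgroup.normalizer ((P : Subgroup G) : Set G)⁆ ⊔
        ⨆ (Q : Sylow p G) (_ : (¬ p ∣ ((P : Subgroup G) ⊓ Subgroup.normalizer (((P : Subgroup G) ⊓ (Q : Subgroup G) : Subgroup G) : Set G)).relIndex (Subgroup.normalizer (((P : Subgroup G) ⊓ (Q : Subgroup G) : Subgroup G) : Set G)) ∧ ¬ p ∣ ((Q : Subgroup G) ⊓ Subgroup.normalizer (((P : Subgroup G) ⊓ (Q : Subgroup G) : Subgroup G) : Set G)).relIndex (Subgroup.normalizer (((P : Subgroup G) ⊓ (Q : Subgroup G) : Subgroup G) : Set G))))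
          (x : G) (_ : x ∈ Subgroup.normalizer (((P : Subgroup G) ⊓ (Q : Subgroup G) : Subgroup G) : Set G) ∧ ∃ k : ℕ, orderOf x = p ^ k),
          ⁅(P : Subgroup G) ⊓ (Q : Subgroup G), Subgroup.zpowers x⁆ := by
  refine le_antisymm ((inf_comm _ _).trans_le (S4216.focal_le (IsSylowIn.of_sylow_top P) le_sup_left
    fun Q g n t e m a r b x c => mem_sup_right (mem_iSup_of_mem (g⁻¹ • P) ?_))) (sup_le (le_inf (comm_le_left le_rfl)
      (commutator_mono le_top le_top)) (iSup₂_le fun Q _ => iSup₂_le fun x a => le_inf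
        ((comm_le_left (zpowers_le.2 a.1)).trans inf_le_left) (commutator_mono le_top le_top)))
  have t' := t.cj_of_mem_normalizer (le_normalizer (inv_mem n))
  rw [cj_inf, cj_eq_of_mem (inv_mem n)] at t'
  rw [sylow_smul_coe, e]
  exact mem_iSup_of_mem ⟨t.not_dvd, t'.not_dvd⟩ (mem_iSup_of_mem r (mem_iSup_of_mem ⟨cj_le_of_norm (le_normalizer a)
    inf_le_right b, exists_orderOf_eq_pow (IsPGroup_cj t.pgroup m) b⟩ (inv_mul_conj_mem_commutator c (mem_zpowers r))))


end Cfsg.Agent.S4250
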