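import Cfsg.Statements.S4251
import Cfsg.Agent.H2.Focal

set_option autoImplicit false
open Cfsg

namespace Cfsg.Agent.S4251
open Subgroup CfsgH2
open scoped commutatorElement

/-- Let P be a Sylow p-subgroup of a finite group G. Call an intersection H = P ∩ Q with a Sylow p-subgroup Q tame when N_P(H) and N_Q(H) are Sylow p-subgroups of N_G(H). If N_G(H)/C_G(H) is a p-group for every nontrivial tame intersection H = P ∩ Q, then G has a normal p-complement. -/
theorem result {G : Type*} [Group G] [Finite G] (p : ℕ) [Fact p.Prime] (P : Sylow p G)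
    (h : ∀ Q : Sylow p G, (P : Subgroup G) ⊓ (Q : Subgroup G) ≠ ⊥ → (¬ p ∣ ((P : Subgroup G) ⊓ Subgroup.normalizer (((P : Subgroup G) ⊓ (Q : Subgroup G) : Subgroup G) : Set G)).relIndex (Subgroup.normalizer (((P : Subgroup G) ⊓ (Q : Subgroup G) : Subgroup G) : Set G)) ∧ ¬ p ∣ ((Q : Subgroup G) ⊓ Subgroup.normalizer (((P : Subgroup G) ⊓ (Q : Subgroup G) : Subgroup G) : Set G)).relIndex (Subgroup.normalizer (((P : Subgroup G) ⊓ (Q : Subgroup G) : Subgroup G) : Set G))) →
      IsPGroup p (Subgroup.normalizer (((P : Subgroup G) ⊓ (Q : Subgroup G) : Subgroup G) : Set G) ⧸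
        (Subgroup.centralizer (((P : Subgroup G) ⊓ (Q : Subgroup G) : Subgroup G) : Set G)).subgroupOf
          (Subgroup.normalizer (((P : Subgroup G) ⊓ (Q : Subgroup G) : Subgroup G) : Set G)))) :
    Cfsg.HasNormalPComplement p G := by
  have s := IsSylowIn.of_sylow_top P
  refine hasNPC_top_iff.1 (hasNPC_of_controls_self s fun x a g b c => ?_)
  refine (alperin s (fun A g => ∃ v ∈ (P : Subgroup G), ∀ x ∈ A, v * x * v⁻¹ = g * x * g⁻¹)
    (fun A B g ⟨v, a, b⟩ c => ⟨v, a, fun x d => b x (c d)⟩) (fun A g k ⟨v, a, b⟩ ⟨w, c, d⟩ => ⟨w * v, mul_mem c a, fun x e => by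
      have := d _ (conj_mem_cj g e)
      rw [← b x e] at this
      rw [show k * g * x * (k * g)⁻¹ = k * (g * x * g⁻¹) * k⁻¹ by group, ← b x e, ← this]
      group⟩) (fun Q g a _ n t e => ?_) (zpowers x) (zpowers_le.2 a) g b
    ((cj_zpowers g x).trans_le (zpowers_le.2 c))).elim fun v d => ⟨v, d.1, d.2 x (mem_zpowers x)⟩
  by_cases q : Q = ⊥
  · exact ⟨1, one_mem _, fun x a => by simp [mem_bot.1 (q ▸ a)]⟩
  rw [top_inf_eq] at t
  have t' := t.cj_of_mem_normalizer (le_normalizer (inv_mem n))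
  rw [cj_inf, cj_eq_of_mem (inv_mem n)] at t'
  have := h (g⁻¹ • P)
  rw [sylow_smul_coe, e] at this
  obtain ⟨v, a, b⟩ := exists_act_of_centralizes t (Q := Q) (fun x a b => by
    obtain ⟨k, hk⟩ := this q ⟨t.not_dvd, t'.not_dvd⟩ (⟨x, a⟩ : normalizer (Q : Set G))
    exact mem_of_pow_mem_of_coprime (b.pow_right k) ((QuotientGroup.eq_one_iff ((⟨x, a⟩ : normalizer (Q : Set G)) ^ p ^ k)).1 hk)) n
  exact ⟨v, a.1, b⟩


end Cfsg.Agent.S4251
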