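import Cfsg.Statements.S4252
import Cfsg.Agent.H2.Cls

set_option autoImplicit false
open Cfsg

namespace Cfsg.Agent.S4252
open Subgroup CfsgH2
open scoped commutatorElement

open scoped Pointwise

/-- Let a finite group G act on a finite set Ω with more than one point, transitively but not regularly, so that no non-identity element of G fixes two distinct points. Then the stabilizer H of any point is a Frobenius complement in G (nontrivial, proper, meeting its other conjugates trivially), and the Frobenius kernel of G with respect to H (the identity together with the elements lying in no conjugate of H) is exactly the set consisting of the identity and the elements fixing no point. -/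
theorem result {G Ω : Type*} [Group G] [Finite G] [Fintype Ω] [MulAction G Ω] (hΩ : 1 < Fintype.card Ω)
    (htrans : ∀ α β : Ω, ∃ g : G, g • α = β) (hnreg : ∃ g : G, g ≠ 1 ∧ ∃ α : Ω, g • α = α)
    (hfix : ∀ g : G, g ≠ 1 → ∀ α β : Ω, g • α = α → g • β = β → α = β) (α : Ω) :
    Cfsg.IsFrobeniusComplement (MulAction.stabilizer G α) ∧
      Cfsg.frobeniusKernel (MulAction.stabilizer G α) = {g : G | g = 1 ∨ ∀ ω : Ω, g • ω ≠ ω} := by
  have k : ∀ g x : G, x ∈ MulAut.conj g • MulAction.stabilizer G α ↔ x • g • α = g • α := fun g x => by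
    rw [CfsgH1.mem_conj_smul, MulAction.mem_stabilizer_iff, mul_smul, mul_smul, inv_smul_eq_iff]
  refine ⟨⟨fun e => ?_, fun e => ?_, fun g hg => eq_bot_iff.2 fun x ⟨h1, h2⟩ => by_contra fun h =>
    hg (hfix x h _ _ ((k g x).1 h2) h1)⟩, Set.ext fun x => or_congr_right ⟨fun h ω h' => ?_, fun h g h' => h _ ((k g x).1 h')⟩⟩
  · obtain ⟨g, h1, β, h2⟩ := hnreg
    obtain ⟨x, rfl⟩ := htrans α β
    have := (k x g).2 h2
    rw [e, smul_bot] at this
    exact h1 this
  · obtain ⟨β, h⟩ := Fintype.exists_ne_of_one_lt_card hΩ α
    obtain ⟨x, rfl⟩ := htrans α β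
    exact h (e.ge (mem_top x))
  · obtain ⟨g, rfl⟩ := htrans α ω
    exact h g ((k g x).2 h')


end Cfsg.Agent.S4252
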