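import Cfsg.Statements.S4253
import Cfsg.Agent.H2.Cls

set_option autoImplicit false
open Cfsg

namespace Cfsg.Agent.S4253
open Subgroup CfsgH2
open scoped commutatorElement

/-- Let H be a Frobenius complement in a finite group G (a nontrivial proper subgroup meeting each conjugate gHg⁻¹ with g outside H trivially). Then in the action of G on the left cosets of H by left multiplication, no non-identity element of G fixes two distinct cosets. -/
theorem result {G : Type*} [Group G] [Finite G] (H : Subgroup G) (hH : Cfsg.IsFrobeniusComplement H)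
    (g : G) (hg : g ≠ 1) (a b : G ⧸ H) (ha : g • a = a) (hb : g • b = b) : a = b := by
  obtain ⟨a, rfl⟩ := QuotientGroup.mk_surjective a
  obtain ⟨b, rfl⟩ := QuotientGroup.mk_surjective b
  by_contra e
  have h1 := QuotientGroup.eq.1 ha
  have h2 := QuotientGroup.eq.1 hb
  refine hg (inv_eq_one.1 (conj_eq_one_iff.1 (mem_bot.1 ((hH.2.2 (a⁻¹ * b) fun h => e (QuotientGroup.eq.2 h)).le
    (x := a⁻¹ * g⁻¹ * a⁻¹⁻¹) ⟨by simpa using h1, CfsgH1.mem_conj_smul.2 (by simpa [mul_assoc] using h2)⟩))))


end Cfsg.Agent.S4253
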