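import Cfsg.Statements.S4257
import Cfsg.Agent.H1.BHM2

set_option autoImplicit false
open Cfsg

namespace Cfsg.Agent.S4257

open CfsgH1

/-- Let G be a finite group. Call a prime a vertex if it divides some conjugacy class size of G, and two distinct vertices adjacent if their product divides some class size. If this graph is connected, then its diameter is at most 3: any two distinct vertices p and q are adjacent, or joined through one or two intermediate vertices. -/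
theorem result {G : Type*} [Group G] [Finite G]
    (hconn : ∀ S : Set ℕ, (∃ p ∈ S, (p.Prime ∧ ∃ g : G, p ∣ (Subgroup.centralizer ({g} : Set G)).index)) → (∃ q ∉ S, (q.Prime ∧ ∃ g : G, q ∣ (Subgroup.centralizer ({g} : Set G)).index)) →
      ∃ p q : ℕ, (p.Prime ∧ ∃ g : G, p ∣ (Subgroup.centralizer ({g} : Set G)).index) ∧ (q.Prime ∧ ∃ g : G, q ∣ (Subgroup.centralizer ({g} : Set G)).index) ∧ p ∈ S ∧ q ∉ S ∧ (∃ g : G, p * q ∣ (Subgroup.centralizer ({g} : Set G)).index))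
    (p q : ℕ) (hp : (p.Prime ∧ ∃ g : G, p ∣ (Subgroup.centralizer ({g} : Set G)).index)) (hq : (q.Prime ∧ ∃ g : G, q ∣ (Subgroup.centralizer ({g} : Set G)).index)) (hpq : p ≠ q) :
    (∃ g : G, p * q ∣ (Subgroup.centralizer ({g} : Set G)).index) ∨ (∃ r : ℕ, (r.Prime ∧ ∃ g : G, r ∣ (Subgroup.centralizer ({g} : Set G)).index) ∧ r ≠ p ∧ r ≠ q ∧ (∃ g : G, p * r ∣ (Subgroup.centralizer ({g} : Set G)).index) ∧ (∃ g : G, r * q ∣ (Subgroup.centralizer ({g} : Set G)).index)) ∨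
      (∃ r s : ℕ, (r.Prime ∧ ∃ g : G, r ∣ (Subgroup.centralizer ({g} : Set G)).index) ∧ (s.Prime ∧ ∃ g : G, s ∣ (Subgroup.centralizer ({g} : Set G)).index) ∧ r ≠ p ∧ s ≠ q ∧ r ≠ s ∧ r ≠ q ∧ s ≠ p ∧
        (∃ g : G, p * r ∣ (Subgroup.centralizer ({g} : Set G)).index) ∧ (∃ g : G, r * s ∣ (Subgroup.centralizer ({g} : Set G)).index) ∧ (∃ g : G, s * q ∣ (Subgroup.centralizer ({g} : Set G)).index)) := by
  have v : ∀ {r : ℕ}, (∃ g : G, r ∣ (Subgroup.centralizer ({g} : Set G)).index) → RC G r r := fun ⟨g, k⟩ => ⟨g, k, k⟩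
  have l : ∀ {r s : ℕ}, RC G r s → ∃ g : G, r ∣ (Subgroup.centralizer ({g} : Set G)).index := fun ⟨g, k, _⟩ => ⟨g, k⟩
  have e : ∀ {r s : ℕ}, r.Prime → s.Prime → r ≠ s → RC G r s →
      ∃ g : G, r * s ∣ (Subgroup.centralizer ({g} : Set G)).index := fun a b n ⟨g, k1, k2⟩ =>
    ⟨g, ((Nat.coprime_primes a b).2 n).mul_dvd_of_dvd_of_dvd k1 k2⟩
  obtain ⟨r, s, pr, ps, a1, a2, a3⟩ := diam hp.1 hq.1 (v hp.2) (v hq.2) fun S h1 h2 => by
    obtain ⟨s, a, b1, b2, b3, b4, g, b5⟩ := hconn S ⟨p, h1, hp⟩ ⟨q, h2, hq⟩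
    exact ⟨s, a, b1.1, b2.1, b3, b4, g, (dvd_mul_right _ _).trans b5, (dvd_mul_left _ _).trans b5⟩
  by_cases c : RC G p q
  · exact .inl (e hp.1 hq.1 hpq c)
  have mid : ∀ t : ℕ, t.Prime → RC G p t → RC G t q → ∃ r : ℕ, (r.Prime ∧ ∃ g : G, r ∣ (Subgroup.centralizer ({g} : Set G)).index) ∧ r ≠ p ∧ r ≠ q ∧ (∃ g : G, p * r ∣ (Subgroup.centralizer ({g} : Set G)).index) ∧ (∃ g : G, r * q ∣ (Subgroup.centralizer ({g} : Set G)).index) := fun t pt b1 b2 =>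
    have n1 : t ≠ p := fun k => c (k ▸ b2)
    have n2 : t ≠ q := fun k => c (k ▸ b1)
    ⟨t, ⟨pt, l b2⟩, n1, n2, e hp.1 pt n1.symm b1, e pt hq.1 n2 b2⟩
  right
  by_cases c1 : r = p
  · exact .inl (mid s ps (c1 ▸ a2) a3)
  by_cases c2 : s = q
  · exact .inl (mid r pr a1 (c2 ▸ a2))
  by_cases c3 : r = s
  · exact .inl (mid r pr a1 (c3 ▸ a3))
  exact .inr ⟨r, s, ⟨pr, l a2⟩, ⟨ps, l a3⟩, c1, c2, c3, fun k => c (k ▸ a1), fun k => c (k ▸ a3),
    e hp.1 pr (Ne.symm c1) a1, e pr ps c3 a2, e ps hq.1 c2 a3⟩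

end Cfsg.Agent.S4257
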