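import Cfsg.Statements.S4261
import Cfsg.Agent.H2.Cls
import Cfsg.Agent.S0048

set_option autoImplicit false
open Cfsg

namespace Cfsg.Agent.S4261
open Subgroup CfsgH2
open scoped commutatorElement

open CfsgFT

/-- Let M be a maximal subgroup of a finite solvable group G such that x^[G : M] lies in M for every x in G. Then M is normal in G. -/
theorem result {G : Type*} [Group G] [Finite G] (hG : Group.IsSolvable G) (M : Subgroup G) (hM : IsCoatom M)
    (hexp : ∀ x : G, x ^ M.index ∈ M) : M.Normal := by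
  obtain ⟨p, k, hp, -, e⟩ := (isPrimePow_nat_iff _).1 (Cfsg.Agent.S0048.result M hM)
  haveI := Fact.mk hp
  obtain ⟨B, h1, h2, -⟩ := CfsgH1.sn_exists_gt (sn_of_res_le (p := p) (resIn_le_of_pow_mem fun x _ =>
    ⟨k, e ▸ hexp x⟩) le_top) hM.1
  exact normal_of_top_le (hM.2 B h1 ▸ h2)


end Cfsg.Agent.S4261
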