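import Cfsg.Statements.S4262
import Cfsg.Agent.H2.CSize

set_option autoImplicit false
open Cfsg

namespace Cfsg.Agent.S4262
open Subgroup CfsgH2
open scoped commutatorElement

open CfsgFT CfsgH1

/-- Let G be a finite group in which the centralizer of every non-central element is a maximal subgroup of G. Then G is solvable. -/
theorem result {G : Type*} [Group G] [Finite G]
    (h : ∀ g : G, g ∉ Subgroup.center G → IsCoatom (Subgroup.centralizer ({g} : Set G))) :
    Group.IsSolvable G := by
  by_cases hx : ∃ (p : ℕ) (x : G), p.Prime ∧ p ≠ 2 ∧ (∃ k, orderOf x = p ^ k) ∧ x ∉ center G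
  · obtain ⟨p, x, hp, p2, ⟨k, hk⟩, hx⟩ := hx
    haveI := Fact.mk hp
    have key : ∀ y ∈ C1(x), (orderOf y).Coprime p → y ∈ C(C1(x)) := by
      intro y hy ho
      have e := cent1_mul_of_coprime (mem_cent1.1 hy) (hk ▸ (ho.symm.pow_left k))
      have h1 : x * y ∉ center G := fun e' => hx (cent1_eq_top.1 (top_unique
        ((cent1_eq_top.2 e').ge.trans (e.le.trans inf_le_left))))
      have h2 := ((h _ h1).le_iff.1 (e.le.trans inf_le_left)).resolve_left (h x hx).1
      exact le_cent1_iff.1 (h2.le.trans (e.le.trans inf_le_right))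
    refine djt (h x hx) (nil_of_cent_resIn key) ((der_le _).trans fun y hy => cent_anti (Opi_le _ _)
      (key y (Opi_le _ _ hy) ?_))
    obtain ⟨j, hj⟩ := exists_orderOf_eq_pow (isPGroup_Opi _) hy
    exact hj ▸ Nat.Coprime.pow_left _ ((Nat.coprime_primes Nat.prime_two hp).2 p2.symm)
  push Not at hx
  obtain ⟨T, hT⟩ := IsSylowIn.exists_sylowIn 2 (⊤ : Subgroup G)
  have : ⊤ ≤ center G ⊔ T := le_of_forall_sylowIn_le fun q _ _ => by
    by_cases e : q = 2
    · subst e; exact ⟨T, hT, le_sup_right⟩
    · obtain ⟨Q, hQ⟩ := IsSylowIn.exists_sylowIn q (⊤ : Subgroup G)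
      exact ⟨Q, hQ, fun y hy => mem_sup_left (hx q y Fact.out e (exists_orderOf_eq_pow hQ.pgroup hy))⟩
  exact isSolvable_of_top (isSolvable_of_le (isSolvable_sup_of_le_normalizer le_normalizer_of_normal
    isSolvable_of_isMulCommutative (solvable_of_pgroup hT.pgroup)) this)


end Cfsg.Agent.S4262
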