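import Cfsg.Statements.S4263
import Cfsg.Agent.H1.Fitting

set_option autoImplicit false
open Cfsg

namespace Cfsg.Agent.S4263

theorem aux_nil {F : Type*} [Group F] [Finite F] [Group.IsNilpotent F] :
    ∀ (n : ℕ) (K : Subgroup F), K.index = n → ∀ x : F, x ^ K.index ∈ K := by
  intro n
  induction n using Nat.strong_induction_on with
  | _ n ih =>
    intro K hK x
    by_cases h : K = ⊤
    · rw [h]; exact Subgroup.mem_top _
    have hlt : K < Subgroup.normalizer (K : Set F) :=
      Group.normalizerCondition_of_isNilpotent K (lt_top_iff_ne_top.2 h)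
    have hmul := Subgroup.relIndex_mul_index hlt.le
    have hne : K.relIndex (Subgroup.normalizer (K : Set F)) ≠ 1 := by
      intro h1
      exact hlt.not_ge (Subgroup.relIndex_eq_one.1 h1)
    have hpos : 0 < K.relIndex (Subgroup.normalizer (K : Set F)) :=
      Nat.pos_of_ne_zero (Subgroup.FiniteIndex.index_ne_zero (H := K.subgroupOf _))
    have hpos2 : 0 < (Subgroup.normalizer (K : Set F)).index :=
      Nat.pos_of_ne_zero Subgroup.FiniteIndex.index_ne_zero
    have hl : (Subgroup.normalizer (K : Set F)).index < n := by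
      rw [← hK, ← hmul]
      have : 2 ≤ K.relIndex (Subgroup.normalizer (K : Set F)) := by omega
      nlinarith
    have h1 := ih _ hl _ rfl x
    have h2 := Subgroup.pow_index_mem (K.subgroupOf (Subgroup.normalizer (K : Set F))) ⟨_, h1⟩
    rw [Subgroup.mem_subgroupOf] at h2
    rw [← hmul, mul_comm, pow_mul]
    exact h2

/-- Let G be a finite group. An element x lies in the Fitting subgroup F(G) if and only if, for every subgroup H of G, the power x^[G : H] lies in H. -/
theorem result {G : Type*} [Group G] [Finite G] (x : G) :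
    x ∈ Cfsg.fittingSubgroup G ↔ ∀ H : Subgroup G, x ^ H.index ∈ H := by
  open Subgroup CfsgH1 in
  constructor
  · intro hx H
    haveI := isNilpotent_fitting G
    have h1 := aux_nil _ (H.subgroupOf (Cfsg.fittingSubgroup G)) rfl ⟨x, hx⟩
    rw [mem_subgroupOf] at h1
    have h2 : H.relIndex (Cfsg.fittingSubgroup G) ∣ H.index := by
      have h3 : H.relIndex (H ⊔ Cfsg.fittingSubgroup G) * (H ⊔ Cfsg.fittingSubgroup G).index = H.index :=
        relIndex_mul_index le_sup_left
      have h4 : H.relIndex (H ⊔ Cfsg.fittingSubgroup G) = H.relIndex (Cfsg.fittingSubgroup G) := by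
        have a1 := CfsgH1.card_sup_mul_card_inf H (Cfsg.fittingSubgroup G)
        have a2 := Subgroup.card_mul_index (H.subgroupOf (H ⊔ Cfsg.fittingSubgroup G))
        have a3 := Subgroup.card_mul_index (H.subgroupOf (Cfsg.fittingSubgroup G))
        rw [card_subgroupOf_of_le le_sup_left] at a2
        rw [← inf_subgroupOf_right, card_subgroupOf_of_le inf_le_right, inf_subgroupOf_right] at a3
        have p1 : 0 < Nat.card H := Nat.card_pos
        have p2 : 0 < Nat.card (H ⊓ Cfsg.fittingSubgroup G : Subgroup G) := Nat.card_pos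
        unfold relIndex
        rw [← a2, ← a3] at a1
        have : Nat.card H * Nat.card (H ⊓ Cfsg.fittingSubgroup G : Subgroup G) * (H.subgroupOf (H ⊔ Cfsg.fittingSubgroup G)).index = Nat.card H * Nat.card (H ⊓ Cfsg.fittingSubgroup G : Subgroup G) * (H.subgroupOf (Cfsg.fittingSubgroup G)).index := by
          linarith
        exact Nat.eq_of_mul_eq_mul_left (Nat.mul_pos p1 p2) this
      exact ⟨_, by rw [← h3, h4]⟩
    obtain ⟨c, hc⟩ := h2
    rw [hc, pow_mul]
    exact pow_mem h1 c
  · intro h
    rw [← QuotientGroup.eq_one_iff, ← orderOf_eq_one_iff]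
    by_contra hne
    obtain ⟨p, hp, hd⟩ := Nat.exists_prime_and_dvd hne
    haveI := Fact.mk hp
    obtain ⟨P⟩ : Nonempty (Sylow p G) := inferInstance
    have h1 : x ^ (P : Subgroup G).index ∈ Cfsg.pCore p G := by
      rw [pCore_eq_iInf_sylow, mem_iInf]
      intro Q
      have : (P : Subgroup G).index = (Q : Subgroup G).index := by
        have a1 := (P : Subgroup G).card_mul_index
        have a2 := (Q : Subgroup G).card_mul_index
        rw [Sylow.card_eq_multiplicity] at a1 a2
        exact Nat.eq_of_mul_eq_mul_left (pow_pos hp.pos _) (a1.trans a2.symm)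
      rw [this]; exact h _
    have h2 := pCore_le_fitting p h1
    rw [← QuotientGroup.eq_one_iff, QuotientGroup.mk_pow, ← orderOf_dvd_iff_pow_eq_one] at h2
    exact P.not_dvd_index (hd.trans h2)

end Cfsg.Agent.S4263
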