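import Cfsg.Statements.S4269
import Cfsg.Agent.H1.Pron

set_option autoImplicit false
open Cfsg

namespace Cfsg.Agent.S4269

/-- Let G be a finite group, V an abelian normal subgroup and H a subgroup with HV = G. Then H is pronormal in G (H and gHg⁻¹ are conjugate inside the subgroup they generate, for every g) if and only if every H-invariant subgroup U of V satisfies U = N_U(H)·[H, U], that is, U is the join of U ∩ N_G(H) and the commutator subgroup [H, U]. -/
theorem result {G : Type*} [Group G] [Finite G]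
    (V : Subgroup G) [V.Normal] (hV : IsMulCommutative ↥V) (H : Subgroup G) (hHV : H ⊔ V = ⊤) :
    Cfsg.IsPronormal H ↔
      ∀ U : Subgroup G, U ≤ V → (∀ h ∈ H, U.map (MulAut.conj h).toMonoidHom = U) →
        U = (U ⊓ Subgroup.normalizer (H : Set G)) ⊔ ⁅H, U⁆ := by
  open Subgroup CfsgH1 CfsgFT CfsgH2 in
  have cm : ∀ a ∈ V, ∀ b ∈ V, a * b = b * a := fun a ha b hb => mem_cent.1 (comm_iff.1 hV hb) a ha
  have cV : ∀ g, ∀ v ∈ V, g * v * g⁻¹ ∈ V := fun g v hv => ‹V.Normal›.conj_mem v hv g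
  refine ⟨fun h U hU hi => ?_, fun h g => ?_⟩
  · have nU : H ≤ N(U) := fun x hx => mem_norm_iff_cj.2 (hi x hx)
    have l := comm_le_right nU
    have nD : H ≤ N(⁅H, U⁆) := CfsgH1.le_normalizer_commutator le_normalizer nU
    refine le_antisymm (fun u hu => ?_) (sup_le inf_le_left l)
    obtain ⟨x, hx, e⟩ := Prn.norm (h u)
    have : H ⊔ cj u H ≤ ⁅H, U⁆ ⊔ H := sup_le le_sup_right (cj_le_iff.2 fun y hy => by
      have := mul_mem (mem_sup_left (T := H) (inv_mem (commutator_mem_commutator hy hu))) (mem_sup_right hy)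
      convert this using 1
      simp only [commutatorElement_def]; group)
    obtain ⟨d, hd, k, hk, rfl⟩ := (mem_sup_of_normalizer nD).1 (this hx)
    have k1 : d⁻¹ * u ∈ U ⊓ N(H) := mem_inf.2 ⟨mul_mem (inv_mem (l hd)) hu, by
      have := mul_mem (le_normalizer hk) e
      rwa [mul_inv_rev, mul_assoc, mul_inv_cancel_left] at this⟩
    simpa using mul_mem (mem_sup_right hd) (mem_sup_left k1)
  · obtain ⟨v, hv, k, hk, rfl⟩ := (mem_sup_of_normalizer (N := V) (H := H) (le_top.trans (normalizer_eq_top V).ge)).1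
      (by rw [sup_comm, hHV]; trivial : g ∈ V ⊔ H)
    refine Prn.congr (g' := v) ?_ (by rw [← cj_cj, cj_eq_of_mem hk])
    set J := H ⊔ cj v H with hJ
    let U : Subgroup G :=
      { carrier := {u | u ∈ V ∧ ∀ x ∈ H, x * u * x⁻¹ * u⁻¹ ∈ J}
        one_mem' := ⟨one_mem _, fun x _ => by simp⟩
        mul_mem' := fun {a b} ha hb => ⟨mul_mem ha.1 hb.1, fun x hx => by
          have := mul_mem (ha.2 x hx) (hb.2 x hx)
          rw [mul_assoc _ a⁻¹, cm _ (inv_mem ha.1) _ (mul_mem (cV x b hb.1) (inv_mem hb.1))] at this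
          convert this using 1; group⟩
        inv_mem' := fun {a} ha => ⟨inv_mem ha.1, fun x hx => by
          have := inv_mem (ha.2 x hx)
          rw [cm _ (cV x a ha.1) _ (inv_mem ha.1)] at this
          convert this using 1; group⟩ }
    have nU : ∀ x ∈ H, cj x U = U := fun x hx => cj_eq_of_norm (CfsgH2.mem_normalizer_of_conj_mem fun u hu =>
      ⟨cV x u hu.1, fun y hy => by
        have hx' : x ∈ J := mem_sup_left hx
        have := mul_mem (mul_mem hx' (hu.2 _ (mul_mem (mul_mem (inv_mem hx) hy) hx))) (inv_mem hx')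
        convert this using 1; group⟩)
    have vU : v ∈ U := ⟨hv, fun x hx => by
      have := mul_mem (mem_sup_left hx) (mem_sup_right (S := H) (conj_mem_cj v (inv_mem hx)))
      convert this using 1; group⟩
    have l : ⁅H, U⁆ ≤ J ⊓ V := commutator_le.2 fun x hx u hu => mem_inf.2 ⟨hu.2 x hx, mul_mem (cV x u hu.1) (inv_mem hu.1)⟩
    rw [h U (fun u hu => hu.1) nU] at vU
    obtain ⟨n, hn, d, hd, e⟩ := (mem_sup_of_normalizer' (H := U ⊓ N(H)) (le_norm_of_cent fun n hn => mem_cent.2 fun d hd =>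
      cm _ (l hd).2 _ (mem_inf.1 hn).1.1)).1 vU
    exact ⟨d, (l hd).1, by rw [← e, cm _ hn.1.1 _ (l hd).2, ← cj_cj, cj_eq_of_norm hn.2]⟩

end Cfsg.Agent.S4269
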