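import Cfsg.Statements.S4276
import Cfsg.Agent.H3.Pm5

set_option autoImplicit false
open Cfsg

namespace Cfsg.Agent.S4276

open CfsgPm MulAction Subgroup CfsgH8

/-- Let G be a doubly transitive group of permutations of a finite set Ω of size n, let o ∈ Ω, and let α be an automorphism of G of odd order. Suppose that the image under α of the stabilizer of o has an orbit on Ω whose length k is coprime to n. Then α is induced by conjugation by a permutation of Ω normalizing G, and k = 1 or k = n − 1. -/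
theorem result {Ω : Type*} [Fintype Ω] (G : Subgroup (Equiv.Perm Ω)) (h2 : MulAction.IsMultiplyPretransitive G Ω 2) (o : Ω) (α : MulAut G) (hα : Odd (orderOf α)) (ω : Ω) (hk : (Nat.card (MulAction.orbit ((MulAction.stabilizer G o).map α.toMonoidHom) ω)).Coprime (Fintype.card Ω)) : (∃ σ : Equiv.Perm Ω, σ ∈ Subgroup.normalizer (G : Set (Equiv.Perm Ω)) ∧ ∀ g : G, ((α g : G) : Equiv.Perm Ω) = σ * (g : Equiv.Perm Ω) * σ⁻¹) ∧ (Nat.card (MulAction.orbit ((MulAction.stabilizer G o).map α.toMonoidHom) ω) = 1 ∨ Nat.card (MulAction.orbit ((MulAction.stabilizer G o).map α.toMonoidHom) ω) = Fintype.card Ω - 1) := by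
  obtain ⟨σ, hσ⟩ := feit_aut h2 α hα o ω hk
  have h1 : ∀ g : G, ((α g : G) : Equiv.Perm Ω) = σ * (g : Equiv.Perm Ω) * σ⁻¹ := fun g =>
    eq_mul_inv_of_mul_eq (Equiv.ext fun x => (hσ g x).symm)
  refine ⟨⟨σ, mem_normalizer_fintype fun g hg => h1 ⟨g, hg⟩ ▸ (α ⟨g, hg⟩).2, h1⟩, ?_⟩
  have e : (stabilizer G o).map α.toMonoidHom = stabilizer G (σ o) := by
    ext g
    obtain ⟨g, rfl⟩ := α.surjective g
    exact (mem_map_iff_mem α.injective).trans (by rw [mem_stabilizer_iff, mem_stabilizer_iff, ← hσ, σ.apply_eq_iff_eq])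
  rw [e, Nat.card_coe_set_eq]
  rcases eq_or_ne ω (σ o) with rfl | h
  · exact Or.inl (by rw [ncard_orbit_sub, relIndex_self])
  · right
    rw [← Nat.card_eq_fintype_card, ← Set.ncard_univ, ← Set.ncard_diff_singleton_of_mem (Set.mem_univ (σ o))]
    congr 1; ext x
    refine ⟨fun ⟨g, e⟩ => ⟨trivial, fun e' => h (smul_left_cancel g ((e.trans e').trans g.2.symm))⟩, fun hx => ?_⟩
    obtain ⟨g, h1, h3⟩ := mt_two h2 h.symm (Ne.symm hx.2)
    exact ⟨⟨g, h1⟩, h3⟩

end Cfsg.Agent.S4276
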