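import Cfsg.Statements.S4277
import Cfsg.Agent.H3.Pd1
import Cfsg.Agent.S0675
import Cfsg.Agent.S4290

set_option autoImplicit false
open Cfsg

namespace Cfsg.Agent.S4277

open Subgroup CfsgPm MulAction
open scoped commutatorElement

/-- A case of the Schreier conjecture: if a finite simple group G has a subgroup of prime index, then the outer automorphism group of G is solvable. -/
theorem result {G : Type*} [Group G] [Finite G] [IsSimpleGroup G] (H : Subgroup G) (hH : H.index.Prime) : Group.IsSolvable (Cfsg.Out G) := by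
  classical
  by_cases hs : Group.IsSolvable G
  · have := (IsSimpleGroup.comm_iff_isSolvable.2 hs)
    letI : CommGroup G := { (inferInstance : Group G) with mul_comm := this }
    have : IsCyclic G := inferInstance
    have : Group.IsSolvable (MulAut G) := CfsgH1.isSolvable_of_equiv (IsCyclic.mulAutMulEquiv G).symm
    infer_instance
  have inj : Function.Injective (toPermHom G (G ⧸ H)) := by
    rw [← MonoidHom.ker_eq_bot_iff, ← normalCore_eq_ker]
    exact H.normalCore_normal.eq_bot_or_eq_top.resolve_right fun e => hH.ne_one (index_eq_one.2 (top_le_iff.1 (e.ge.trans H.normalCore_le)))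
  have := Fintype.ofFinite (G ⧸ H)
  set K := (toPermHom G (G ⧸ H)).range
  let e : G ≃* K := MonoidHom.ofInjective inj
  have : IsPretransitive K (G ⧸ H) := ⟨fun x y => (exists_smul_eq G x y).elim fun g h => ⟨e g, h⟩⟩
  have hp : (Nat.card (G ⧸ H)).Prime := hH
  have h2 := (S0675.result (Nat.card_eq_fintype_card (α := G ⧸ H) ▸ hp) K).resolve_left fun _ => hs (CfsgH1.isSolvable_of_equiv e.symm)
  have := Fact.mk hp
  obtain ⟨P⟩ : Nonempty (Sylow (Nat.card (G ⧸ H)) K) := inferInstance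
  have hP := card_sylow_of_prime rfl P
  have h3 : (Nat.card (stabilizer K ((1 : G) : G ⧸ H))).Coprime (stabilizer K ((1 : G) : G ⧸ H)).index := by
    have a := (stabilizer K ((1 : G) : G ⧸ H)).index_mul_card
    rw [index_stabilizer_of_transitive] at a ⊢
    rw [← P.1.card_mul_index, hP] at a
    rw [Nat.eq_of_mul_eq_mul_left hp.pos a]
    exact (hp.coprime_iff_not_dvd.2 P.not_dvd_index).symm
  have h4 : ∀ σ ∈ normalizer (K : Set (Equiv.Perm (G ⧸ H))), ∀ τ ∈ normalizer (K : Set (Equiv.Perm (G ⧸ H))), ⁅σ, τ⁆ ∈ K := by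
    have fr : ∀ σ ∈ normalizer (K : Set (Equiv.Perm (G ⧸ H))), ∃ k ∈ K, k * σ ∈ normalizer ((P.1.map K.subtype : Subgroup _) : Set _) :=
      fun σ hσ => by
        obtain ⟨k, hk⟩ := exists_smul_eq K (P.mapSurjective (f := (K.normalizerMonoidHom ⟨σ, hσ⟩).toMonoidHom) (MulEquiv.surjective _)) P
        refine ⟨k, k.2, mem_normalizer_fintype ?_⟩
        rintro _ ⟨x, hx, rfl⟩
        refine ⟨k * K.normalizerMonoidHom ⟨σ, hσ⟩ x * k⁻¹, ?_, by simp [mul_assoc]⟩
        rw [← hk]
        exact smul_mem_pointwise_smul _ (MulAut.conj k) _ ⟨x, hx, rfl⟩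
    intro σ hσ τ hτ
    obtain ⟨k, hk, h⟩ := fr σ hσ
    obtain ⟨l, hl, h'⟩ := fr τ hτ
    have := map_subtype_le _ (comm_norm_of_prime hp ((card_map_of_injective K.subtype_injective).trans hP) h h')
    have n : (K.subgroupOf (normalizer (K : Set (Equiv.Perm (G ⧸ H))))).Normal := inferInstance
    have q := fun x => QuotientGroup.eq_one_iff (N := K.subgroupOf (normalizer (K : Set (Equiv.Perm (G ⧸ H))))) x
    have a := (q ⁅(⟨k, le_normalizer hk⟩ * ⟨σ, hσ⟩ : normalizer (K : Set (Equiv.Perm (G ⧸ H)))), ⟨l, le_normalizer hl⟩ * ⟨τ, hτ⟩⁆).2 this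
    refine (q ⁅(⟨σ, hσ⟩ : normalizer (K : Set (Equiv.Perm (G ⧸ H)))), ⟨τ, hτ⟩⁆).1 ?_
    simpa [-MulMemClass.mk_mul_mk, commutatorElement_def, (q ⟨k, le_normalizer hk⟩).2 hk, (q ⟨l, le_normalizer hl⟩).2 hl] using a
  set O := closure {x : MulAut G | Odd (orderOf x)}
  have h5 : O ≤ ((K.normalizerMonoidHom).range).comap (MulAut.congr e).toMonoidHom := (closure_le _).2 fun x hx => by
    obtain ⟨σ, h, h'⟩ := S4290.result K h2 _ h3 (MulAut.congr e x) (by rwa [MulEquiv.orderOf_eq])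
    exact ⟨⟨σ, h⟩, MulEquiv.ext fun g => Subtype.ext (h' g).symm⟩
  have : O.Normal := ⟨fun x hx g => (closure_le (O.comap (MulAut.conj g).toMonoidHom)).2
    (fun y hy => subset_closure (show Odd (orderOf (MulAut.conj g y)) by rwa [MulEquiv.orderOf_eq])) hx⟩
  have : (O.map (QuotientGroup.mk' (Inn G))).Normal := Normal.map this _ (QuotientGroup.mk'_surjective _)
  refine CfsgH1.isSolvable_of_normal_of_quotient (O.map (QuotientGroup.mk' (Inn G))) (Group.isSolvable_of_comm ?_)
    (CfsgH1.isSolvable_of_isPGroup (p := 2) fun x => ?_)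
  · rintro ⟨_, x, hx, rfl⟩ ⟨_, y, hy, rfl⟩
    obtain ⟨σ, h⟩ := h5 hx
    obtain ⟨τ, h'⟩ := h5 hy
    refine Subtype.ext (commutatorElement_eq_one_iff_mul_comm.1 ((QuotientGroup.eq_one_iff ⁅x, y⁆).2
      ⟨e.symm ⟨_, h4 _ σ.2 _ τ.2⟩, (MulAut.congr e).injective ?_⟩))
    rw [map_commutatorElement]
    erw [← h, ← h']
    rw [← map_commutatorElement]
    ext g
    simp [commutatorElement_def]
  obtain ⟨x, rfl⟩ := QuotientGroup.mk_surjective x
  obtain ⟨x, rfl⟩ := QuotientGroup.mk_surjective x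
  obtain ⟨k, m, hm, h⟩ := Nat.exists_eq_two_pow_mul_odd (orderOf_pos x).ne'
  refine ⟨k, (QuotientGroup.eq_one_iff (_ ^ _)).2 ⟨x ^ 2 ^ k, subset_closure ?_, rfl⟩⟩
  show Odd _
  rwa [orderOf_pow_of_dvd (by positivity) ⟨m, h⟩, h, Nat.mul_div_cancel_left _ (by positivity)]

end Cfsg.Agent.S4277
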