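import Cfsg.Statements.S4279
import Cfsg.Agent.H6.Lg14

set_option autoImplicit false
open Cfsg

namespace Cfsg.Agent.S4279

open CfsgH6 Chev Cfsg.Lie

/-- In the Chevalley group G of type G₂ over a finite field F of odd order q, the centralizer of an involution t has order q²(q² − 1)² and contains two elementwise commuting subgroups, each isomorphic to SL(2, F), which meet exactly in the subgroup generated by t and whose join has index 2 in the centralizer. -/
theorem result {F : Type*} [Field F] [Fintype F] (hF : Odd (Fintype.card F)) (t : ↥(Cfsg.Lie.chevG2.group F)) (ht : orderOf t = 2) : Nat.card (Subgroup.centralizer ({t} : Set ↥(Cfsg.Lie.chevG2.group F))) = Fintype.card F ^ 2 * (Fintype.card F ^ 2 - 1) ^ 2 ∧ ∃ L₁ L₂ : Subgroup ↥(Cfsg.Lie.chevG2.group F), Nonempty (L₁ ≃* Matrix.SpecialLinearGroup (Fin 2) F) ∧ Nonempty (L₂ ≃* Matrix.SpecialLinearGroup (Fin 2) F) ∧ (∀ x ∈ L₁, ∀ y ∈ L₂, x * y = y * x) ∧ L₁ ⊓ L₂ = Subgroup.zpowers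 t ∧ L₁ ⊔ L₂ ≤ Subgroup.centralizer ({t} : Set ↥(Cfsg.Lie.chevG2.group F)) ∧ (L₁ ⊔ L₂).relIndex (Subgroup.centralizer ({t} : Set ↥(Cfsg.Lie.chevG2.group F))) = 2 := by
  have h0 := (card_cent_conj (inv_conjG2 F hF ht)).trans (card_invG2 F hF)
  obtain ⟨A, B, ⟨e⟩, ⟨e'⟩, h1, h2⟩ := cent_invG2 F hF ht
  have h3 : t ∈ A ⊓ B := h2 ▸ Subgroup.mem_zpowers t
  have h4 : A ⊔ B ≤ Subgroup.centralizer {t} := sup_le
    (fun x hx => Subgroup.mem_centralizer_singleton_iff.2 (h1 _ hx _ (ir h3)))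
    fun x hx => Subgroup.mem_centralizer_singleton_iff.2 (h1 _ (il h3) _ hx).symm
  refine ⟨h0, A, B, ⟨e⟩, ⟨e'⟩, h1, h2, h4, ?_⟩
  have h5 := card_sup_comm h1
  rw [h2, Nat.card_zpowers, ht, Nat.card_congr e.toEquiv, Nat.card_congr e'.toEquiv, CfsgH5.card_SL_two] at h5
  have h6 := Subgroup.card_mul_index ((A ⊔ B).subgroupOf (Subgroup.centralizer {t}))
  rw [Nat.card_congr (Subgroup.subgroupOfEquivOfLe h4).toEquiv, h0] at h6
  haveI : Finite (chevG2.group F) := inferInstance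
  exact Nat.eq_of_mul_eq_mul_left Nat.card_pos (h6.trans (h5.trans (by ring)).symm)

end Cfsg.Agent.S4279
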