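import Cfsg.Statements.S4280
import Cfsg.Agent.H6.Lg13

set_option autoImplicit false
open Cfsg

namespace Cfsg.Agent.S4280

open CfsgH6 Chev Cfsg.Lie

/-- In the Chevalley group of type F₄ over a finite field of odd order q there are exactly two conjugacy classes of involutions; the centralizer of an involution in one class has order q¹⁶(q² − 1)(q⁴ − 1)(q⁶ − 1)(q⁸ − 1), and in the other class q¹⁰(q² − 1)²(q⁴ − 1)(q⁶ − 1). -/
theorem result {F : Type*} [Field F] [Fintype F] (hF : Odd (Fintype.card F)) : ∃ s t : ↥(Cfsg.Lie.chevF4.group F), orderOf s = 2 ∧ orderOf t = 2 ∧ ¬ IsConj s t ∧ (∀ u : ↥(Cfsg.Lie.chevF4.group F), orderOf u = 2 → IsConj u s ∨ IsConj u t) ∧ Nat.card (Subgroup.centralizer ({s} : Set ↥(Cfsg.Lie.chevF4.group F))) = Fintype.card F ^ 16 * (Fintype.card F ^ 2 - 1) * (Fintype.card F ^ 4 - 1) * (Fintype.card F ^ 6 - 1) * (Fintype.card F ^ 8 - 1) ∧ Nat.card (Subgroup.centralizer ({t} : Set ↥(Cfsg.Lie.chevF4.group F))) =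 Fintype.card F ^ 10 * (Fintype.card F ^ 2 - 1) ^ 2 * (Fintype.card F ^ 4 - 1) * (Fintype.card F ^ 6 - 1) := by
  refine ⟨_, _, gF4.orderOf_inv _ _ F hF _, gF4.orderOf_inv _ _ F hF _, fun h => ?_, fun u => inv_conjF4 F hF,
    card_invF4_0 F hF, card_invF4_3 F hF⟩
  have h1 := card_cent_conj h
  have h2 : 0 < Fintype.card F := Fintype.card_pos
  rw [card_invF4_0 F hF, card_invF4_3 F hF, show 16 = 10 + 1 + 5 from rfl, pow_add, pow_succ] at h1
  simp only [mul_assoc] at h1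
  refine Fintype.one_lt_card.ne' (Nat.Coprime.eq_one_of_dvd ?_ ⟨_, (Nat.eq_of_mul_eq_mul_left (pow_pos h2 _) h1).symm⟩)
  exact ((cop_pow h2 two_ne_zero).pow_right 2).mul_right ((cop_pow h2 (by decide)).mul_right (cop_pow h2 (by decide)))

end Cfsg.Agent.S4280
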