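import Cfsg.Statements.S4282
import Cfsg.Agent.H9.HH4

set_option autoImplicit false
open Cfsg

namespace Cfsg.Agent.S4282

/-- A critical case behind the Hall–Higman theorem. Let p ≠ q be primes and G a finite group generated by a normal q-subgroup Q and a cyclic p-subgroup generated by x, such that the centralizer of every non-identity element of that cyclic subgroup is its product with the centre of G. Let K be an algebraically closed field of characteristic p and ρ a faithful representation of G on a nonzero finite-dimensional K-space whose restriction to Q is irreducible. If s is the least exponent with (ρ(x) − 1)^s = 0, then |⟨x⟩| − 1 ≤ s ≤ |⟨x⟩|; and if s = |⟨x⟩| − 1 then |⟨x⟩| − 1 is a power of q and Q is non-abelian. -/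
theorem result {G : Type*} [Group G] [Finite G] (p q : ℕ) [Fact p.Prime] [Fact q.Prime] (hpq : p ≠ q) (Q : Subgroup G) [Q.Normal] (hQ : IsPGroup q Q) (x : G) (hx : IsPGroup p (Subgroup.zpowers x)) (hgen : Q ⊔ Subgroup.zpowers x = ⊤) (hC : ∀ y ∈ Subgroup.zpowers x, y ≠ 1 → Subgroup.centralizer ({y} : Set G) = Subgroup.zpowers x ⊔ Subgroup.center G) {K : Type*} [Field K] [IsAlgClosed K] [CharP K p] {V : Type*} [AddCommGroup V] [Module K V] [FiniteDimensional K V] [Nontrivial V] (ρ : Representation K G V) (hfaith : Function.Injective ρ) (hirr : ∀ W : Submodule K V, (∀ g ∈ Q, Submodule.map (ρ g) W ≤ W) → W = ⊥ ∨ W = ⊤) (s : ℕ) (hs : (ρ x - 1) ^ s = 0) (hmin : ∀ k < s, (ρ x - 1) ^ k ≠ 0) : Nat.card (Subgroup.zpowers x) - 1 ≤ s ∧ s ≤ Nat.card (Subgroup.zpowers x) ∧ (s = Nat.card (Subgroup.zpowers x) - 1 → (∃ b : ℕ, Nat.card (Subgroup.zpowers x) - 1 = q ^ b) ∧ ¬ IsMulCommutative Q) := by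
  open Subgroup CfsgH1 CfsgH2 CfsgH9 CfsgFT in
  obtain ⟨n, o⟩ := hx.exists_card_eq
  rw [Nat.card_zpowers] at o ⊢
  have d := dg_pow hs
  have pr : p.Prime := Fact.out
  have := charP_of_injective_algebraMap (algebraMap K (Module.End K V)).injective p
  have l : s ≤ orderOf x := not_lt.1 fun l => hmin _ l (by
    rw [o, sub_pow_char_pow_of_commute _ _ (Commute.one_right _), ← map_pow, ← o, pow_orderOf_eq_one, map_one, one_pow, sub_self])
  have := orderOf_pos x
  rcases l.eq_or_lt with e | l'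
  · exact ⟨by omega, l, by omega⟩
  suffices orderOf x - 1 ≤ s ∧ (∃ b, orderOf x - 1 = q ^ b) ∧ ¬ IsMulCommutative Q from ⟨this.1, l, fun _ => this.2⟩
  have sc : ∀ z ∈ center G, ∃ c : K, ρ z = c • 1 := fun z hz => exists_eq_smul_of_irred
    (fun U h => hirr U fun g _ => Submodule.map_le_iff_le_comap.2 (h g)) _ fun g => (show Commute z g from (mem_center_iff.1 hz g).symm).map ρ
  obtain ⟨k, hk⟩ := hQ.exists_card_eq
  have cp : (Nat.card Q).Coprime p := hk ▸ ((Nat.coprime_primes Fact.out pr).2 hpq.symm).pow_left k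
  have fr : ∀ z ∈ zpowers x, z ≠ 1 → Q ⊓ centralizer {z} ≤ center G := fun z hz h1 c ⟨c1, c2⟩ => by
    rw [hC z hz h1] at c2
    obtain ⟨u, hu, w, hw, rfl⟩ := mem_sup_of_normal_right.1 c2
    have := pow_mem hw (orderOf x)
    rw [← one_mul (w ^ _), ← orderOf_dvd_iff_pow_eq_one.1 (orderOf_dvd_of_mem_zpowers hu),
      ← (show Commute u w from mem_center_iff.1 hw u).mul_pow] at this
    exact zpowers_le.2 this (mem_zpowers_pow_iff.2 (o ▸ (cp.coprime_dvd_left (orderOf_dvd_natCard _ c1)).symm.pow_left n))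
  have ct : ∀ A, A ≤ centralizer (Q : Set G) → A ≤ centralizer (zpowers x : Set G) → A ≤ center G := fun A a b => by
    rw [← centralizer_univ, ← coe_top, ← hgen, cent_sup]; exact le_inf a b
  obtain _ | n := n
  · have := d.pos; rw [pow_zero] at o; omega
  let π := QuotientGroup.mk' (center G)
  let E := Q ⊓ (centralizer (Q.map π : Set (G ⧸ center G))).comap π
  have := Normal.map ‹Q.Normal› π (QuotientGroup.mk'_surjective _)
  have EE : ⁅E, E⁆ ≤ center G := by
    rw [← map_mk'_eq_bot_iff, Subgroup.map_commutator]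
    exact comm_eq_bot ((map_le_iff_le_comap.2 inf_le_right).trans (cent_anti (map_mono inf_le_left)))
  have cE := cp.coprime_dvd_left (card_dvd_of_le (inf_le_left : E ≤ Q))
  by_cases hA : E ⊓ centralizer (E : Set G) ≤ center G
  · rcases symp (ρ := ρ) (Q := E) (le_normalizer_of_normal (mem_top x)) (o ▸ cE.symm.pow_left _) (cast_ne_zero_of_coprime cE) sc EE
      (fun a ha h => hA ⟨ha, fun y hy => hfaith (by rw [map_mul, map_mul, (h y hy).eq])⟩)
      (fun z hz h1 => (inf_le_inf_right _ inf_le_left).trans (fr z hz h1)) d l' with e | ⟨a, b, c⟩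
    · have : Q.map π = ⊥ := by
        by_contra h
        refine inf_cent_ne_bot_of_pgroup (hQ.map π) (hQ.map π) le_normalizer h (eq_bot_iff.2 ?_)
        rintro _ ⟨⟨g, hg, rfl⟩, h⟩
        exact (QuotientGroup.eq_one_iff g).2 (e ⟨hg, h⟩)
      obtain ⟨c, hc⟩ := sc x (ct _ (cent_symm (((map_mk'_eq_bot_iff _).1 this).trans (center_le_centralizer _))) (le_centralizer _)
        (mem_zpowers x))
      rw [hc, show c • (1 : Module.End K V) - 1 = (c - 1) • 1 by rw [sub_smul, one_smul], smul_pow, one_pow, smul_eq_zero] at hs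
      rw [sub_eq_zero.1 (eq_zero_of_pow_eq_zero (hs.resolve_right one_ne_zero)), one_smul, ← map_one ρ] at hc
      have := d.pos
      rw [hfaith hc, orderOf_one] at l'
      omega
    · obtain ⟨m, -, e⟩ := (Nat.dvd_prime_pow Fact.out).1 ((dvd_pow_self _ two_ne_zero).trans (a ▸ hk ▸
        (relIndex_dvd_card _ E).trans (card_dvd_of_le inf_le_left)))
      refine ⟨c, ⟨m, e⟩, fun h => ?_⟩
      rw [relIndex_eq_one.2 fun g hg => hA ⟨hg, cent_anti inf_le_left (isMulCommutative_iff_le_centralizer.1 h hg.1)⟩] at a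
      obtain ⟨k, hk⟩ := Nat.exists_eq_add_of_lt b
      rw [hk, Nat.add_sub_cancel] at a
      nlinarith
  · have y1 : x ^ p ^ n ≠ 1 := pow_ne_one_of_lt_orderOf (pow_ne_zero _ pr.ne_zero) (o ▸ Nat.pow_lt_pow_succ pr.one_lt)
    refine absurd (hhb_ab o (A := E ⊓ centralizer (E : Set G)) (inf_le_right.trans (cent_anti inf_le_left)) (le_normalizer_of_normal (mem_top x))
      (cE.coprime_dvd_left (card_dvd_of_le inf_le_left)) (fun k => hA (le_trans (le_inf (inf_le_left.trans inf_le_left) ?_)
        (fr _ (npow_mem_zpowers x _) y1))) d) (by omega)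
    rw [← centralizer_zpowers_eq]
    exact cent_of_comm_eq_bot (eq_bot_iff.2 fun g hg => hfaith ((k hg).trans (map_one ρ).symm))

end Cfsg.Agent.S4282
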