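import Cfsg.Statements.S4283
import Cfsg.Agent.H1.PG3

set_option autoImplicit false
open Cfsg

namespace Cfsg.Agent.S4283

/-- Let G be a finite group with centre Z and let K, H be abelian subgroups of G containing Z such that G/Z is a Frobenius group with complement H/Z and kernel K/Z. Then the conjugacy class sizes of G are exactly 1, [G : K] and [G : H], and these two indices are coprime. (This is the converse half of the characterization of finite groups whose conjugacy class sizes are exactly 1, m and n with m and n coprime.) -/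
theorem result {G : Type*} [Group G] [Finite G] (K H : Subgroup G) (hZK : Subgroup.center G ≤ K) (hZH : Subgroup.center G ≤ H) (hK : IsMulCommutative K) (hH : IsMulCommutative H) (hFrob : Cfsg.IsFrobeniusComplement (H.map (QuotientGroup.mk' (Subgroup.center G)))) (hker : Cfsg.frobeniusKernel (H.map (QuotientGroup.mk' (Subgroup.center G))) = (K.map (QuotientGroup.mk' (Subgroup.center G)) : Set (G ⧸ Subgroup.center G))) : Set.range (fun x : G => (Subgroup.centralizer ({x} : Set G)).index) = ({1, K.index, H.index} : Set ℕ) ∧ K.index.Coprime H.index := by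
  open Subgroup CfsgH1 CfsgFT CfsgH2 in
  obtain ⟨N, h1, hN, hc, h0, hf⟩ := frob_data hFrob
  obtain rfl : N = K.map (QuotientGroup.mk' (center G)) := SetLike.coe_injective (h1.trans hker)
  set π := QuotientGroup.mk' (center G)
  have hs : Function.Surjective π := QuotientGroup.mk'_surjective _
  have mm : ∀ {L : Subgroup G}, center G ≤ L → ∀ {g}, π g ∈ L.map π ↔ g ∈ L := fun {L} h {g} => by
    rw [← mem_comap, comap_map_eq_self (by rwa [QuotientGroup.ker_mk'])]
  have ix : ∀ {L : Subgroup G}, center G ≤ L → (L.map π).index = L.index := fun {L} h =>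
    index_map_eq _ hs (by rwa [QuotientGroup.ker_mk'])
  have cK : ∀ x ∈ K, π x ≠ 1 → C1(x) = K := fun x hx x1 => le_antisymm (fun g hg => by
    obtain ⟨⟨⟨_, k, hk, rfl⟩, y⟩, e⟩ := hc.2 (π g)
    by_cases y1 : y.1 = 1
    · replace e : π k * y = π g := e
      rw [y1, mul_one] at e; exact (mm hZK).1 (e ▸ mem_map_of_mem π hk)
    refine absurd (eq_bot_iff.1 (hf y y.2 y1) (mem_inf.2 ⟨mem_map_of_mem π hx, mem_C1.2 ?_⟩)) x1
    rw [eq_inv_mul_of_mul_eq (show π k * y = π g from e), ← map_inv, ← map_mul, ← map_mul, ← map_mul, ← mul_assoc,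
      mul_comm_of_isMulCommutative hK hx (inv_mem hk), mul_assoc, mul_assoc, mem_C1.1 hg])
    fun g hg => mem_C1.2 (mul_comm_of_isMulCommutative hK hg hx)
  have cH : ∀ x ∈ H, π x ≠ 1 → C1(x) = H := fun x hx x1 => le_antisymm (fun g hg => (mm hZH).1
    (frob_mem_of_conj hFrob (mem_map_of_mem π hx) x1 (by
      rw [← map_mul, mem_C1.1 hg, map_mul, mul_inv_cancel_right]; exact mem_map_of_mem π hx)))
    fun g hg => mem_C1.2 (mul_comm_of_isMulCommutative hH hg hx)
  refine ⟨Set.ext fun n => ⟨?_, ?_⟩, ?_⟩
  · rintro ⟨x, rfl⟩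
    by_cases x1 : π x = 1
    · exact .inl (index_eq_one.2 (eq_top_iff.2 fun g _ => mem_C1.2
        (mem_center_iff.1 ((QuotientGroup.eq_one_iff x).1 x1) g)))
    by_cases hx : x ∈ K
    · exact .inr (.inl (congrArg index (cK x hx x1)))
    · have : π x ∉ frobeniusKernel (H.map π) := fun e => hx ((mm hZK).1 (by rwa [← h1] at e))
      rw [mem_frobKernel, not_or, not_forall] at this
      obtain ⟨c, hc⟩ := this.2
      obtain ⟨c, rfl⟩ := hs c
      rw [not_not, ← map_inv, ← map_mul, ← map_mul, mm hZH] at hc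
      refine .inr (.inr ?_)
      rw [Set.mem_singleton_iff, ← cH _ hc fun e => x1 (eq_one_of_inv_conj (g := π c) (by simpa using e)),
        ← index_cj c, cj_centralizer_singleton]
      simp [mul_assoc]
  · rintro (rfl | rfl | rfl)
    · exact ⟨1, index_eq_one.2 (eq_top_iff.2 fun g _ => mem_C1.2 (by simp))⟩
    · obtain ⟨_, ⟨x, hx, rfl⟩, x1⟩ := (bot_or_exists_ne_one _).resolve_left h0
      exact ⟨x, congrArg index (cK x hx x1)⟩
    · obtain ⟨_, ⟨x, hx, rfl⟩, x1⟩ := (bot_or_exists_ne_one _).resolve_left hFrob.1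
      exact ⟨x, congrArg index (cH x hx x1)⟩
  · rw [← ix hZK, ← ix hZH, hc.index_eq_card, hc.symm.index_eq_card]
    refine Nat.Coprime.coprime_dvd_left (card_dvd_card_sub_one le_normalizer_of_normal hf) ?_
    exact (Nat.coprime_self_sub_left Nat.card_pos).2 (Nat.coprime_one_left _)

end Cfsg.Agent.S4283
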