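import Cfsg.Statements.S4291
import Cfsg.Agent.H1.FC4

set_option autoImplicit false
open Cfsg

namespace Cfsg.Agent.S4291

open Subgroup CfsgH1 CfsgFT CfsgH2 in
theorem aux {G : Type*} [Group G] [Finite G] (h : FC G) {f g : G →* DihedralGroup 2}
    (hf : Function.Surjective f) (hg : Function.Surjective g) : f.ker = g.ker := by
  have i : ∀ {f : G →* DihedralGroup 2}, Function.Surjective f → f.ker.index = 4 := fun {f} hf => by
    rw [index_ker, MonoidHom.range_eq_top.2 hf, card_top, DihedralGroup.nat_card]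
  let π := QuotientGroup.mk' (f.ker ⊓ g.ker)
  have s : ∀ x, π x * π x = 1 := fun x => (QuotientGroup.eq_one_iff (x * x)).2 (mem_inf.2
    ⟨(map_mul f x x).trans ((by decide : ∀ y : DihedralGroup 2, y * y = 1) _),
      (map_mul g x x).trans ((by decide : ∀ y : DihedralGroup 2, y * y = 1) _)⟩)
  obtain ⟨P⟩ : Nonempty (Sylow 2 G) := inferInstance
  obtain ⟨a, b, e⟩ : ∃ a b : G, (P : Subgroup G) ≤ closure {a, b} := by
    rcases h.cq P.2 with c | ⟨-, n, ⟨e⟩⟩
    · obtain ⟨a, e⟩ := L2.exists_gen c
      exact ⟨a, a, e.le.trans (zpowers_le.2 (subset_closure (by simp)))⟩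
    · obtain ⟨a, b, d, -⟩ := exists_idx2_of_quaternion e
      exact ⟨a, b, d.eq_closure.le⟩
  have p : IsPGroup 2 (⊤ : Subgroup (G ⧸ f.ker ⊓ g.ker)) := fun ⟨x, _⟩ => ⟨1, Subtype.ext (by
    obtain ⟨x, rfl⟩ := QuotientGroup.mk'_surjective _ x; simpa [sq, π] using s x)⟩
  have t := (map_top_of_surjective π (QuotientGroup.mk'_surjective _) ▸ (IsSylowIn.of_sylow_top P).map π).eq_of_isPGroup p
  have l : (f.ker ⊓ g.ker).index ≤ 4 := by
    refine (Nat.card_le_card_of_surjective ![1, π a, π b, π a * π b] fun x => ?_).trans (by simp)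
    have := map_mono (f := π) e (t.ge (mem_top x))
    rw [MonoidHom.map_closure, Set.image_pair, mem_closure_of_commute (s a) (s b)
      (commute_of_mul_self (s a) (s b) (by rw [← map_mul]; exact s _))] at this
    simpa [Fin.exists_fin_succ, eq_comm] using this
  have k : ∀ {K : Subgroup G}, f.ker ⊓ g.ker ≤ K → K.index = 4 → f.ker ⊓ g.ker = K := fun {K} a b =>
    CfsgH1.eq_of_le_of_card_le a (by
      have := K.card_mul_index.trans (f.ker ⊓ g.ker).card_mul_index.symm
      rw [b] at this; nlinarith)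
  exact (k inf_le_left (i hf)).symm.trans (k inf_le_right (i hg))

/-- Let G be a finite group that occurs as a Frobenius complement. Then G has exactly one normal subgroup N such that every Sylow subgroup of N is cyclic and the quotient of G by N is trivial or isomorphic to one of the following five groups: the Klein four-group, the alternating group of degree 4, the symmetric group of degree 4, the alternating group of degree 5, the symmetric group of degree 5. (The quotient is described by a surjective homomorphism with kernel N; the Klein four-group is written as the dihedral group of order 4.) -/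
theorem result {G : Type*} [Group G] [Finite G]
    (hFC : (∃ (L : Type) (_ : Group L) (_ : Finite L) (H : Subgroup L), Cfsg.IsFrobeniusComplement H ∧ Nonempty (G ≃* H))) :
    ∃! N : Subgroup G, N.Normal ∧ (∀ (p : ℕ) [Fact p.Prime] (P : Sylow p N), IsCyclic P) ∧
      (N = ⊤ ∨
        (∃ f : G →* DihedralGroup 2, Function.Surjective f ∧ f.ker = N) ∨
        (∃ f : G →* alternatingGroup (Fin 4), Function.Surjective f ∧ f.ker = N) ∨
        (∃ f : G →* Equiv.Perm (Fin 4), Function.Surjective f ∧ f.ker = N) ∨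
        (∃ f : G →* alternatingGroup (Fin 5), Function.Surjective f ∧ f.ker = N) ∨
        (∃ f : G →* Equiv.Perm (Fin 5), Function.Surjective f ∧ f.ker = N)) := by
  open Subgroup CfsgH1 CfsgFT CfsgH2 in
  have h := fc_of_frob hFC
  refine existsUnique_of_exists_of_unique ?_ ?_
  · by_cases s : Group.IsSolvable G
    · obtain ⟨N, h1, h2, h3⟩ := h.solv
      exact ⟨N, h1, fun p _ P => inferInstance, h3.imp_right (.imp_right (.imp_right .inl))⟩
    obtain ⟨L, φ, _, ⟨e⟩, h1, h2⟩ := h.nonsolv s
    obtain ⟨z, -, -, c, -⟩ := h.cent_struct e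
    haveI : IsZGroup C(L) := (h.sub _).zg fun P => by
      obtain ⟨g, -, k⟩ := c.exists_cj_le (P.2.map (Subgroup.subtype _)) (map_subtype_le _)
      exact ((P.1.equivMapOfInjective _ (subtype_injective _)).trans (cjEquiv g _)).isCyclic.2 (L2.cyc_of_le inferInstance k)
    refine ⟨C(L), inferInstance, fun p _ P => inferInstance, .inr (.inr (.inr (.inr ?_)))⟩
    rcases ((isCoatom_of_index_prime alternatingGroup.index_eq_two).le_iff.1 (h2 ▸ map_le_range φ L)).symm with k | k
    · exact .inl ⟨φ.codRestrict _ fun g => k.le ⟨g, rfl⟩, fun y => let ⟨x, e⟩ := k.ge y.2; ⟨x, Subtype.ext e⟩,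
        (φ.ker_codRestrict _ _).trans h1⟩
    · exact .inr ⟨φ, MonoidHom.range_eq_top.1 k, h1⟩
  have big : ∀ {N : Subgroup G}, _ → (N = ⊤ ∨ ∃ f : G →* DihedralGroup 2, Function.Surjective f ∧ f.ker = N) ∨
      3 ∣ N.index ∧ ∀ M : Subgroup G, M.Normal → IsZGroup M → M ≤ N := fun {N} (k : N = ⊤ ∨
        (∃ f : G →* DihedralGroup 2, Function.Surjective f ∧ f.ker = N) ∨
        (∃ f : G →* alternatingGroup (Fin 4), Function.Surjective f ∧ f.ker = N) ∨
        (∃ f : G →* Equiv.Perm (Fin 4), Function.Surjective f ∧ f.ker = N) ∨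
        (∃ f : G →* alternatingGroup (Fin 5), Function.Surjective f ∧ f.ker = N) ∨
        (∃ f : G →* Equiv.Perm (Fin 5), Function.Surjective f ∧ f.ker = N)) => by
    have key : ∀ {Y : Type} [Group Y] [Finite Y], NCN Y → 3 ∣ Nat.card Y →
        (∃ f : G →* Y, Function.Surjective f ∧ f.ker = N) → 3 ∣ N.index ∧ ∀ M : Subgroup G, M.Normal → IsZGroup M → M ≤ N := by
      rintro Y _ _ a b ⟨f, hf, rfl⟩
      refine ⟨by rwa [index_ker, MonoidHom.range_eq_top.2 hf, card_top], fun M m _ => (Subgroup.map_eq_bot_iff _).1 ?_⟩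
      haveI := m.map f hf
      haveI := IsZGroup.of_surjective (f.subgroupMap_surjective M)
      exact a.zg
    rcases k with k | k | k | k | k | k
    exacts [.inl (.inl k), .inl (.inr k), .inr (key (L2.ncn_A4 (.refl _)) (by rw [alternatingGroup.card_of_card_eq_four (by simp)]; norm_num) k),
      .inr (key (L2.ncn_S4 (.refl _)) (by simp [Fintype.card_perm, Nat.factorial]) k),
      .inr (key (L2.ncn_A5 (H := alternatingGroup (Fin 5)) (.refl _)) (by rw [card_A5]; norm_num) k),
      .inr (key ncn_S5 (by simp [Fintype.card_perm, Nat.factorial]) k)]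
  have sm : ∀ {N M : Subgroup G}, (N = ⊤ ∨ ∃ f : G →* DihedralGroup 2, Function.Surjective f ∧ f.ker = N) →
      N ≤ M → ¬ 3 ∣ M.index := fun {N M} k l d => by
    have := d.trans (index_dvd_of_le l)
    rcases k with rfl | ⟨f, hf, rfl⟩
    · simp at this
    · rw [index_ker, MonoidHom.range_eq_top.2 hf, card_top, DihedralGroup.nat_card] at this; omega
  have nz : IsZGroup (⊤ : Subgroup G) → ∀ f : G →* DihedralGroup 2, ¬ Function.Surjective f := fun _ f hf => by
    haveI := IsZGroup.of_surjective (f := f.comp (Subgroup.subtype ⊤)) (hf.comp topEquiv.surjective)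
    have := IsZGroup.exponent_eq_card (DihedralGroup 2)
    simp [DihedralGroup.exponent, DihedralGroup.nat_card] at this
  rintro N M ⟨n1, n2, n3⟩ ⟨m1, m2, m3⟩
  have z1 : IsZGroup N := ⟨fun p hp => @n2 p ⟨hp⟩⟩
  have z2 : IsZGroup M := ⟨fun p hp => @m2 p ⟨hp⟩⟩
  rcases big n3 with a | a <;> rcases big m3 with b | b
  · rcases a with rfl | ⟨f, hf, rfl⟩ <;> rcases b with rfl | ⟨g, hg, rfl⟩
    exacts [rfl, (nz z1 g hg).elim, (nz z2 f hf).elim, aux h hf hg]
  · exact (sm a (b.2 N n1 z1) b.1).elim
  · exact (sm b (a.2 M m1 z2) a.1).elim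
  · exact le_antisymm (b.2 N n1 z1) (a.2 M m1 z2)

end Cfsg.Agent.S4291
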