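import Cfsg.Statements.S4292
import Cfsg.Agent.H1.FC8

set_option autoImplicit false
open Cfsg

namespace Cfsg.Agent.S4292

/-- Let A and B be nontrivial finite groups. Then the direct product A × B occurs as a Frobenius complement if and only if A and B both occur as Frobenius complements and the orders of A and B are coprime. -/
theorem result {A B : Type*} [Group A] [Finite A] [Nontrivial A] [Group B] [Finite B] [Nontrivial B] :
    (∃ (L : Type) (_ : Group L) (_ : Finite L) (H : Subgroup L), Cfsg.IsFrobeniusComplement H ∧ Nonempty ((A × B) ≃* H)) ↔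
    ((∃ (L : Type) (_ : Group L) (_ : Finite L) (H : Subgroup L), Cfsg.IsFrobeniusComplement H ∧ Nonempty (A ≃* H)) ∧
     (∃ (L : Type) (_ : Group L) (_ : Finite L) (H : Subgroup L), Cfsg.IsFrobeniusComplement H ∧ Nonempty (B ≃* H)) ∧
     (Nat.card A).Coprime (Nat.card B)) := by
  open Subgroup CfsgH1 CfsgFT CfsgH2 in
  refine ⟨fun h => ?_, fun ⟨h1, h2, h3⟩ => ((fc_of_frob h1).prod (fc_of_frob h2) h3).frob⟩
  have h := fc_of_frob h
  refine ⟨(h.comp (.inl A B) fun a b e => congrArg Prod.fst e).frob, (h.comp (.inr A B) fun a b e => congrArg Prod.snd e).frob,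
    Nat.coprime_of_dvd fun r hr d1 d2 => ?_⟩
  haveI := Fact.mk hr
  obtain ⟨a, ha⟩ := exists_prime_orderOf_dvd_card' r d1
  obtain ⟨b, hb⟩ := exists_prime_orderOf_dvd_card' r d2
  haveI := h.cyc (A := (zpowers a).prod (zpowers b)) (by
    rintro _ ⟨⟨i, h1⟩, ⟨j, h2⟩⟩ _ ⟨⟨k, h3⟩, ⟨l, h4⟩⟩
    refine Prod.ext ?_ ?_
    · simp [← h1, ← h3, zpow_mul_comm]
    · simp [← h2, ← h4, zpow_mul_comm])
  haveI := (prodEquiv (zpowers a) (zpowers b)).isCyclic.1 this
  have := coprime_card_of_isCyclic_prod (zpowers a) (zpowers b)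
  rw [Nat.card_zpowers, Nat.card_zpowers, ha, hb, Nat.coprime_self] at this
  exact hr.ne_one this

end Cfsg.Agent.S4292
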