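import Cfsg.Statements.S4296
import Cfsg.Agent.H2.Mix2

set_option autoImplicit false
open Cfsg

namespace Cfsg.Agent.S4296
open Subgroup CfsgH2
open scoped commutatorElement

open CfsgFT CfsgH1 CfsgLead
def res {V : Type*} [Group V] (i : V →* V) (W : Subgroup V) (h : ∀ w ∈ W, i w ∈ W) : W →* W :=
  (i.comp W.subtype).codRestrict W fun w => h w w.2

theorem sq_ea {V : Type*} [CommGroup V] [Finite V] {p : ℕ} [hp : Fact p.Prime] (h2 : p ≠ 2) (he : ∀ v : V, v ^ p = 1)
    (i j : V →* V) (hi : Function.Injective i) (hj : Function.Injective j) (h : ∀ v, i (j v) = (j (i v))⁻¹) :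
    IsSquare (Nat.card V) := by
  letI : Module (ZMod p) (Additive V) := AddCommGroup.zmodModule (n := p) fun x => he x.toMul
  have k : ∀ i : V →* V, Function.Injective i → LinearMap.det (i.toAdditive.toZModLinearMap p) ≠ 0 := fun i hi =>
    (LinearMap.isUnit_det _ ((LinearMap.isUnit_iff_ker_eq_bot _).2 (LinearMap.ker_eq_bot.2 hi))).ne_zero
  have e : i.toAdditive.toZModLinearMap p * j.toAdditive.toZModLinearMap p =
      (-1 : ZMod p) • (j.toAdditive.toZModLinearMap p * i.toAdditive.toZModLinearMap p) := by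
    rw [neg_smul, one_smul]
    exact LinearMap.ext fun v => h v.toMul
  have := congrArg LinearMap.det e
  rw [LinearMap.det_smul, map_mul, map_mul, mul_comm, eq_comm, mul_eq_right₀ (mul_ne_zero (k j hj) (k i hi)),
    neg_one_pow_eq_one_iff_even (by
      haveI : Fact (2 < p) := ⟨lt_of_le_of_ne hp.out.two_le h2.symm⟩
      exact ZMod.neg_one_ne_one)] at this
  rw [Nat.card_congr Additive.ofMul, Module.natCard_eq_pow_finrank (K := ZMod p)]
  exact this.isSquare_pow _

theorem sq_aux (n : ℕ) : ∀ (V : Type*) [CommGroup V] [Finite V], Nat.card V = n → Odd n → ∀ i j : V →* V,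
    Function.Injective i → Function.Injective j → (∀ v, i (j v) = (j (i v))⁻¹) → IsSquare n := by
  induction n using Nat.strong_induction_on with
  | _ n ih =>
  intro V _ _ e ho i j hi hj h
  by_cases c : n = 1
  · exact c ▸ IsSquare.one
  obtain ⟨p, hp, d⟩ := Nat.exists_prime_and_dvd c
  haveI := Fact.mk hp
  have k1 : ∀ i : V →* V, ∀ w ∈ (powMonoidHom p : V →* V).ker, i w ∈ (powMonoidHom p : V →* V).ker := fun i w hw => by
    rw [MonoidHom.mem_ker, powMonoidHom_apply] at *; rw [← map_pow, hw, map_one]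
  have k2 : ∀ i : V →* V, ∀ w ∈ (powMonoidHom p : V →* V).range, i w ∈ (powMonoidHom p : V →* V).range :=
    fun i _ ⟨w, hw⟩ => ⟨i w, by rw [← hw, powMonoidHom_apply, powMonoidHom_apply, map_pow]⟩
  have k := (powMonoidHom p : V →* V).ker.card_mul_index
  rw [index_ker, e] at k
  obtain ⟨x, hx⟩ := exists_prime_orderOf_dvd_card' p (e ▸ d)
  have k3 : 1 < Nat.card (powMonoidHom p : V →* V).ker := (one_lt_card_iff_ne_bot _).2 fun c => by
    have : x ∈ (powMonoidHom p : V →* V).ker := by rw [MonoidHom.mem_ker, powMonoidHom_apply, ← hx, pow_orderOf_eq_one]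
    rw [c, mem_bot] at this
    exact hp.ne_one (by rw [← hx, this, orderOf_one])
  rw [← k]
  refine (sq_ea (p := p) (fun c => by rw [c] at d; exact ho.not_two_dvd_nat d) (fun v => Subtype.ext v.2) (res i _ (k1 i))
    (res j _ (k1 j)) (fun a b c => Subtype.ext (hi (congrArg Subtype.val c)))
    (fun a b c => Subtype.ext (hj (congrArg Subtype.val c))) fun v => Subtype.ext (h v)).mul
    (ih _ (by have := Nat.card_pos (α := (powMonoidHom p : V →* V).range); nlinarith) _ rfl
    (ho.of_dvd_nat (Dvd.intro_left _ k)) (res i _ (k2 i))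
    (res j _ (k2 j)) (fun a b c => Subtype.ext (hi (congrArg Subtype.val c)))
    (fun a b c => Subtype.ext (hj (congrArg Subtype.val c))) fun v => Subtype.ext (h v))

/-- Let H be a Frobenius complement in a finite group, and suppose some Sylow subgroup of H is not cyclic. Then the number of elements of the Frobenius kernel (the identity together with the elements lying in no conjugate of H) is an odd perfect square. -/
theorem result {L : Type*} [Group L] [Finite L] (H : Subgroup L) (hF : Cfsg.IsFrobeniusComplement H)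
    (hZ : ∃ (p : ℕ) (_ : Fact p.Prime) (P : Sylow p H), ¬ IsCyclic P) :
    Odd (Nat.card (Cfsg.frobeniusKernel H)) ∧ IsSquare (Nat.card (Cfsg.frobeniusKernel H)) := by
  obtain ⟨K, h1, h2, h3, h4, h5⟩ := frob_data hF
  obtain ⟨p, _, P, hP⟩ := hZ
  have nK : ∀ X : Subgroup L, X ≤ N(K) := fun _ => le_top.trans (normalizer_eq_top _).ge
  have e0 := equivMapOfInjective (P : Subgroup H) _ H.subtype_injective
  obtain ⟨rfl, n, ⟨e⟩⟩ := (cyc_or_quat_of_fpf (P.2.map H.subtype) (nK _) h4 fun a ha => h5 a (map_subtype_le _ ha)).resolve_left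
    fun c => hP (e0.isCyclic.2 c)
  rcases n with _ | n
  · exact (hP (e0.isCyclic.2 (e.isCyclic.2 QuaternionGroup.quaternionGroup_one_isCyclic))).elim
  obtain ⟨f, hf, fH⟩ : ∃ f : QuaternionGroup (2 ^ (n + 1)) →* L, Function.Injective f ∧ ∀ x, f x ∈ H :=
    ⟨(Subgroup.subtype _).comp e.symm.toMonoidHom, (subtype_injective _).comp e.symm.injective,
      fun x => map_subtype_le _ (e.symm x).2⟩
  have o := QuaternionGroup.orderOf_xa (n := 2 ^ (n + 1)) 0
  have z2 : f (.xa 0 ^ 2) * f (.xa 0 ^ 2) = 1 := by rw [← map_mul, ← pow_add, QuaternionGroup.xa_pow_four, map_one]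
  have z1 := h5 _ (fH (.xa 0 ^ 2)) fun c =>
    pow_ne_one_of_lt_orderOf two_ne_zero (by omega) (hf (c.trans (map_one f).symm))
  have iv := inverts_of_fpf (nK ⊤ (mem_top _)) z2 z1
  have ho : Odd (Nat.card K) := odd_card_iff.2 fun t ht o => ne_one_of_orderOf_two o (mem_bot.1 (z1 ▸ mem_inf.2 ⟨ht, mem_cent1.2
      (mul_inv_eq_iff_eq_mul.1 ((iv t ht).trans (inv_eq_of_orderOf_two o)))⟩))
  rw [← h1]
  haveI := comm_iff.2 (comm_of_inverts iv)
  letI : CommGroup K := { (inferInstance : Group K) with mul_comm := mul_comm' }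
  refine ⟨ho, sq_aux _ K rfl ho (MulAut.conjNormal (f (.xa 0))).toMonoidHom (MulAut.conjNormal (f (.a (2 ^ n)))).toMonoidHom
    (MulEquiv.injective _) (MulEquiv.injective _) fun v => Subtype.ext ?_⟩
  have : f (.xa 0) * f (.a (2 ^ n)) = f (.xa 0 ^ 2) * (f (.a (2 ^ n)) * f (.xa 0)) := by
    simp only [← map_mul, QuaternionGroup.xa_sq, QuaternionGroup.xa_mul_a, QuaternionGroup.a_mul_xa]
    congr 2
    have := ZMod.natCast_self (2 * 2 ^ (n + 1))
    push_cast at this ⊢
    linear_combination this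
  calc _ = f (.xa 0) * f (.a (2 ^ n)) * v * (f (.xa 0) * f (.a (2 ^ n)))⁻¹ := by simp [mul_assoc]
    _ = f (.xa 0 ^ 2) * (f (.a (2 ^ n)) * f (.xa 0) * v * (f (.a (2 ^ n)) * f (.xa 0))⁻¹) * (f (.xa 0 ^ 2))⁻¹ := by
      rw [this]; group
    _ = _ := by rw [iv _ (h2.conj_mem _ v.2 _)]; simp [mul_assoc]


end Cfsg.Agent.S4296
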