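import Cfsg.Statements.S4295
import Cfsg.Agent.H2.Mix2
import Cfsg.Agent.H2.FrobEx
import Cfsg.Agent.S4296
import Cfsg.Agent.S0034

set_option autoImplicit false
open Cfsg

namespace Cfsg.Agent.S4295
open Subgroup CfsgH2
open scoped commutatorElement

open CfsgFT CfsgH1 CfsgLead

/-- For a natural number m the following are equivalent: (a) some finite group has a Frobenius complement isomorphic to the quaternion group of order 8 whose Frobenius kernel (the identity together with the elements lying in no conjugate of the complement) has exactly m elements; (b) m is an odd perfect square greater than 1. -/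
theorem result (m : ℕ) :
    (∃ (L : Type) (_ : Group L) (_ : Finite L) (H : Subgroup L), Cfsg.IsFrobeniusComplement H ∧
        Nonempty (H ≃* QuaternionGroup 2) ∧ Nat.card (Cfsg.frobeniusKernel H) = m) ↔
    (Odd m ∧ IsSquare m ∧ 1 < m) := by
  refine ⟨fun ⟨L, _, _, H, a, ⟨e⟩, b⟩ => ?_, fun ⟨ho, ⟨k, hk⟩, h1⟩ => ?_⟩
  · have hH : IsPGroup 2 H := IsPGroup.of_card (n := 3) (by rw [Nat.card_congr e.toEquiv, Nat.card_eq_fintype_card]; rfl)
    obtain ⟨P⟩ : Nonempty (Sylow 2 H) := inferInstance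
    obtain ⟨c, d⟩ := S4296.result H a ⟨2, inferInstance, P, fun c => by
      rw [(IsSylowIn.of_sylow_top P).eq_of_isPGroup (hH.to_subgroup _), isCyclic_top_iff, e.isCyclic] at c
      exact (by decide : (QuaternionGroup.a 1 : QuaternionGroup 2) * .xa 0 ≠ .xa 0 * .a 1) (c.commGroup.mul_comm _ _)⟩
    refine ⟨b ▸ c, b ▸ d, ?_⟩
    rw [← b, (S0034.result H a).1]
    exact one_lt_index_of_ne_top a.2.1
  have ok : Odd k := (Nat.odd_mul.1 (hk ▸ ho : Odd (k * k))).1
  have k1 : 1 < k := by nlinarith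
  obtain ⟨p, -, hp, e⟩ := Nat.forall_exists_prime_gt_and_modEq 0 (q := 4 * k) (a := 2 * k - 1) (by omega) (by
    obtain ⟨j, rfl⟩ := ok
    rw [show 2 * (2 * j + 1) - 1 = 4 * j + 1 by omega, ← Nat.isCoprime_iff_coprime]
    exact ⟨4 * j + 1, -2 * j, by push_cast; ring⟩)
  haveI := Fact.mk hp
  obtain ⟨a, b, hab⟩ := Nat.Prime.sq_add_sq (p := p) (by
    have := e.of_mul_right k
    obtain ⟨j, rfl⟩ := ok
    unfold Nat.ModEq at this; omega)
  have h2 : (a : ZMod k) ^ 2 + b ^ 2 = -1 := by
    have := (ZMod.natCast_eq_natCast_iff _ _ _).2 (e.of_mul_left 4)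
    rw [← hab, Nat.cast_sub (by omega)] at this
    simpa using this
  haveI : NeZero k := ⟨by omega⟩
  haveI : Fact (1 < k) := ⟨k1⟩
  let A : Matrix.SpecialLinearGroup (Fin 2) (ZMod k) := ⟨!![0, -1; 1, 0], by simp⟩
  let B : Matrix.SpecialLinearGroup (Fin 2) (ZMod k) := ⟨!![a, b; b, -a], by simp; linear_combination -h2⟩
  have A2 : A ^ 2 = -1 := (sq A).trans (Subtype.ext (show !![0, -1; 1, 0] * !![0, -1; 1, 0] = -1 by simp [Matrix.one_fin_two]))
  let f := quatHom (n := 2) (a := A) (b := B) (by rw [mul_comm, pow_mul, A2]; simp) (A2 ▸ Subtype.ext (show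
    !![(a : ZMod k), b; b, -a] * !![(a : ZMod k), b; b, -a] = -1 by
      rw [Matrix.mul_fin_two]; simp [Matrix.one_fin_two, mul_comm, ← sq, h2, add_comm])) (by
    rw [mul_inv_eq_iff_eq_mul, eq_inv_mul_iff_mul_eq]
    exact Subtype.ext (show !![0, -1; 1, 0] * (!![(a : ZMod k), b; b, -a] * !![0, -1; 1, 0]) = !![(a : ZMod k), b; b, -a] by simp))
  let φ := ((MulAutMultiplicative (Fin 2 → ZMod k)).symm.toMonoidHom.comp (DistribMulAction.toAddAut _ _)).comp f
  have hF := frob_of_fpf_act φ fun x v e => or_iff_not_imp_left.2 fun c => by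
    have e2 : φ (.a 2) v = v := by
      rcases (by decide : ∀ x : QuaternionGroup 2, x ≠ 1 → x = .a 2 ∨ x * x = .a 2) x c with d | d
      · rwa [← d]
      · rw [← d, map_mul, MulAut.mul_apply, e, e]
    have e3 : f (.a 2) = -1 := by rw [← A2, ← zpow_natCast, ← quatHom_a]; rfl
    have e4 : f (.a 2) • v.toAdd = v.toAdd := e2
    rw [e3] at e4
    refine eq_one_of_inv_of_odd (Odd.of_dvd_nat (n := k) ok (orderOf_dvd_of_pow_eq_one ?_)) ?_
    · exact Multiplicative.toAdd.injective (funext fun i => by simp)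
    · exact Multiplicative.toAdd.injective (by simpa [Matrix.SpecialLinearGroup.smul_def] using e4)
  refine ⟨_, _, inferInstance, _, hF, ⟨(sdREquiv _ ⊤).symm.trans topEquiv⟩, ?_⟩
  have := (sdR φ ⊤).card_mul_index
  rw [card_sdR, Subgroup.card_top, SemidirectProduct.card, mul_comm, Nat.mul_left_inj Nat.card_pos.ne'] at this
  rw [(S0034.result _ hF).1, this, hk, Nat.card_congr Multiplicative.toAdd]
  simp [sq]


end Cfsg.Agent.S4295
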