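import Cfsg.Statements.S4297
import Cfsg.Agent.H2.FrobEx

set_option autoImplicit false
open Cfsg

namespace Cfsg.Agent.S4297
open Subgroup CfsgH2
open scoped commutatorElement

/-- For every n ≥ 2 the dicyclic group of order 4n (generated by an element a of order 2n and an element x with x² = aⁿ and x a x⁻¹ = a⁻¹) occurs as a Frobenius complement of some finite Frobenius group. -/
theorem result (n : ℕ) (hn : 2 ≤ n) :
    ∃ (L : Type) (_ : Group L) (_ : Finite L) (H : Subgroup L), Cfsg.IsFrobeniusComplement H ∧ Nonempty (H ≃* QuaternionGroup n) := by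
  obtain ⟨p, _, u, a, b, c⟩ := exists_dgSL (n := 2 * n) (2 * (2 * n)) (by omega)
  have e : u ^ n = -1 := Units.ext (((sq_eq_one_iff (a := ((u ^ n : (ZMod p)ˣ) : ZMod p))).1 (by
    rw [← Units.val_pow_eq_pow_val, ← pow_mul, mul_comm, ← b, pow_orderOf_eq_one, Units.val_one])).resolve_left
    (Units.val_eq_one.not.2 (pow_ne_one_of_lt_orderOf (by omega) (by omega))))
  have h := idx2_closure (a := dgSL _ u) (b := ⟨!![0, 1; -1, 0], by simp⟩) (k := -1) (m := n) (by
    rw [zpow_neg_one, ← map_inv]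
    exact mul_inv_eq_iff_eq_mul.2 <| Subtype.ext (show !![0, 1; -1, 0] * !![(u : ZMod p), 0; 0, (u⁻¹ : (ZMod p)ˣ)] =
      !![((u⁻¹ : (ZMod p)ˣ) : ZMod p), 0; 0, (u⁻¹⁻¹ : (ZMod p)ˣ)] * !![0, 1; -1, 0] by
        simp only [Matrix.mul_fin_two, inv_inv, mul_zero, zero_mul, mul_one, one_mul, add_zero, zero_add, mul_neg, neg_mul,
          neg_zero])) (by
      rw [zpow_natCast, ← map_pow, e]
      exact Subtype.ext (show !![0, 1; -1, 0] * !![0, 1; -1, 0] = !![((-1 : (ZMod p)ˣ) : ZMod p), 0; 0, ((-1)⁻¹ : (ZMod p)ˣ)] by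
        simp)) fun ⟨i, hi⟩ => by
    simp only [← map_zpow] at hi
    exact zero_ne_one (congrArg (fun x : Matrix.SpecialLinearGroup (Fin 2) (ZMod p) => x.1 0 1) hi)
  obtain ⟨L, _, _, C, d, ⟨f⟩⟩ := frob_sl2 _ (by rw [h.card, c]; omega) (by
    rw [h.card, c]; exact Nat.not_dvd_of_pos_of_lt (by omega) a)
  exact ⟨L, _, ‹_›, C, d, (h.quaternion c).map f.trans⟩


end Cfsg.Agent.S4297
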