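import Cfsg.Statements.S4298
import Cfsg.Agent.H2.FrobEx

set_option autoImplicit false
open Cfsg

namespace Cfsg.Agent.S4298
open Subgroup CfsgH2
open scoped commutatorElement

def c : Matrix.SpecialLinearGroup (Fin 2) (ZMod 5) := ⟨!![2, 0; 0, 3], by decide⟩
def y : Matrix.SpecialLinearGroup (Fin 2) (ZMod 5) := ⟨!![0, 1; 4, 0], by decide⟩
def g : Matrix.SpecialLinearGroup (Fin 2) (ZMod 5) := ⟨!![1, 1; 2, 3], by decide⟩

theorem sl : SL23 c y g := by
  have h : orderOf c = 4 := orderOf_eq_prime_pow (p := 2) (n := 1) (by decide) (by decide)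
  refine ⟨h, ?_, by decide, by decide, by decide, by decide, by decide⟩
  rw [mem_zpowers_iff_mem_range_orderOf, h]
  decide

/-- The group SL(2,3) of order 24 (the binary tetrahedral group) occurs as a Frobenius complement of some finite Frobenius group. -/
theorem result :
    ∃ (L : Type) (_ : Group L) (_ : Finite L) (H : Subgroup L), Cfsg.IsFrobeniusComplement H ∧ Nonempty (H ≃* Matrix.SpecialLinearGroup (Fin 2) (ZMod 3)) := by
  haveI : Fact (Nat.Prime 5) := ⟨by norm_num⟩
  obtain ⟨L, _, _, C, d, ⟨f⟩⟩ := frob_sl2 _ (by rw [sl.card]; omega) (by rw [sl.card]; omega)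
  exact ⟨L, _, ‹_›, C, d, sl.equivSL.map f.trans⟩


end Cfsg.Agent.S4298
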