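import Cfsg.Statements.S4299
import Cfsg.Agent.H2.FrobEx

set_option autoImplicit false
open Cfsg

namespace Cfsg.Agent.S4299
open Subgroup CfsgH2
open scoped commutatorElement

/-- Every nontrivial finite cyclic group occurs as a Frobenius complement of some finite Frobenius group. -/
theorem result {C : Type*} [Group C] [Finite C] [IsCyclic C] [Nontrivial C] :
    ∃ (L : Type) (_ : Group L) (_ : Finite L) (H : Subgroup L), Cfsg.IsFrobeniusComplement H ∧ Nonempty (C ≃* H) := by
  obtain ⟨p, _, u, a, b, c⟩ := exists_dgSL (Nat.card C) (Nat.card_pos (α := C)).ne'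
  rw [← Nat.card_zpowers] at c
  obtain ⟨L, _, _, H, d, ⟨f⟩⟩ := frob_sl2 _ (c.symm ▸ Finite.one_lt_card) (c.symm ▸ Nat.not_dvd_of_pos_of_lt Nat.card_pos a)
  exact ⟨L, _, ‹_›, H, d, ⟨(mulEquivOfCyclicCardEq c.symm).trans f.symm⟩⟩


end Cfsg.Agent.S4299
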