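import Cfsg.Statements.S4300
import Cfsg.Agent.H2.SylowIn

set_option autoImplicit false
open Cfsg

namespace Cfsg.Agent.S4300
open Subgroup CfsgH2
open scoped commutatorElement

/-- Let G act faithfully and primitively on a set X, and suppose the stabilizer of some point is a simple group. Then either G is simple, or G has a normal subgroup, neither trivial nor the whole group, that acts regularly on X (transitively with trivial point stabilizers). -/
theorem result {G : Type*} [Group G] {X : Type*} [MulAction G X] [FaithfulSMul G X]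
    (hprim : MulAction.IsPreprimitive G X) (x : X) (hsimple : IsSimpleGroup (MulAction.stabilizer G x)) :
    IsSimpleGroup G ∨ ∃ N : Subgroup G, N.Normal ∧ N ≠ ⊥ ∧ N ≠ ⊤ ∧
      MulAction.IsPretransitive N X ∧ ∀ y : X, MulAction.stabilizer N y = ⊥ := by
  refine or_iff_not_imp_right.2 fun h => ?_
  haveI := hsimple.toNontrivial
  haveI := (MulAction.stabilizer G x).subtype_injective.nontrivial
  refine ⟨fun N n => by_contra fun c => h ⟨N, n, fun e => c (.inl e), fun e => c (.inr e), ?_⟩⟩
  have t : MulAction.IsPretransitive N X := MulAction.IsQuasiPreprimitive.isPretransitive_of_normal fun e => c (.inl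
    (eq_bot_iff.2 fun g a => FaithfulSMul.eq_of_smul_eq_smul fun y : X => by
      simpa using (e.ge (Set.mem_univ y) : y ∈ MulAction.fixedPoints N X) ⟨g, a⟩))
  refine ⟨t, fun y => eq_bot_iff.2 fun g a => ?_⟩
  obtain ⟨u, rfl⟩ := t.exists_smul_eq x y
  obtain e | e := (n.subgroupOf (MulAction.stabilizer G x)).eq_bot_or_eq_top
  · have := congrArg Subtype.val (mem_bot.1 (e.le (x := ⟨(u⁻¹ * g * u : N), by
      change (u⁻¹ * g * u) • x = x
      rw [mul_smul, mul_smul, show g • u • x = u • x from a, inv_smul_smul]⟩) (u⁻¹ * g * u).2))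
    simpa [mul_assoc, inv_mul_eq_one] using this
  · refine (c (.inr (top_le_iff.1 fun g _ => ?_))).elim
    obtain ⟨v, hv⟩ := t.exists_smul_eq x (g • x)
    exact (mul_mem_cancel_left (inv_mem v.2)).1 (subgroupOf_eq_top.1 e (show _ • x = x by
      rw [mul_smul, ← hv]; exact inv_smul_smul v x))


end Cfsg.Agent.S4300
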