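import Cfsg.Statements.S4301
import Cfsg.Agent.H8.Perm2

set_option autoImplicit false
open Cfsg

namespace Cfsg.Agent.S4301

/-- One-point extension of a multiply transitive group. Let X be a set and G a group of permutations of Option X (the set X with one extra point ∗ = none) all of whose elements fix ∗, such that G is k-transitive on the points of X for some k ≥ 2, X having at least k points. Suppose a permutation h of Option X and an element g of G satisfy: h interchanges ∗ with a point x of X and fixes a point y of X; g interchanges x and y; (g h)³ and h² lie in G; and for every f in G fixing x, the product h f h lies in G and fixes x. Then an element of the group generated by G and h fixes ∗ exactly when it lies in G, and that group acts (k+1)-transitively on Option X. -/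
theorem result {X : Type*} (G : Subgroup (Equiv.Perm (Option X))) (hfix : ∀ f ∈ G, f none = none)
    (k : ℕ) (hk : 2 ≤ k) (hkX : Nonempty (Fin k ↪ X))
    (htrans : ∀ a b : Fin k ↪ X, ∃ f ∈ G, ∀ i, f (some (a i)) = some (b i))
    (h g : Equiv.Perm (Option X)) (hg : g ∈ G) (x y : X)
    (h1 : h none = some x) (h2 : h (some x) = none) (h3 : h (some y) = some y)
    (h4 : g (some x) = some y) (h5 : g (some y) = some x)
    (h6 : (g * h) ^ 3 ∈ G) (h7 : h ^ 2 ∈ G)
    (h8 : ∀ f ∈ G, f (some x) = some x → h * f * h ∈ G ∧ (h * f * h) (some x) = some x) :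
    (∀ f ∈ Subgroup.closure ((G : Set (Equiv.Perm (Option X))) ∪ {h}), f none = none ↔ f ∈ G) ∧
      MulAction.IsMultiplyPretransitive (Subgroup.closure ((G : Set (Equiv.Perm (Option X))) ∪ {h})) (Option X) (k + 1) := by
  open Subgroup CfsgH8 MulAction in
  have sm : ∀ f ∈ G, ∀ a, ∃ b, f (some a) = some b := fun f hf a =>
    Option.ne_none_iff_exists'.1 fun e => by simpa using f.injective (e.trans (hfix f hf).symm)
  have xy : x ≠ y := by rintro rfl; simp [h2] at h3
  have two : ∀ a b c d : X, a ≠ b → c ≠ d → ∃ f ∈ G, f (some a) = some c ∧ f (some b) = some d := fun a b c d ab cd => by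
    obtain ⟨e⟩ := hkX
    have ne : e ⟨0, by omega⟩ ≠ e ⟨1, by omega⟩ := e.injective.ne (by simp)
    obtain ⟨σ, s1, s2⟩ := mt_two (Equiv.Perm.isMultiplyPretransitive X 2) ne ab
    obtain ⟨τ, t1, t2⟩ := mt_two (Equiv.Perm.isMultiplyPretransitive X 2) ne cd
    obtain ⟨f, hf, h⟩ := htrans (e.trans σ.toEmbedding) (e.trans τ.toEmbedding)
    exact ⟨f, hf, s1 ▸ t1 ▸ h _, s2 ▸ t2 ▸ h _⟩
  let T : Equiv.Perm (Option X) → Prop := fun f => ∃ a ∈ G, ∃ b ∈ G, f = a * h * b
  have ml : ∀ a ∈ G, ∀ b ∈ G, ∀ f, T f → T (a * f * b) := by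
    rintro a ha b hb _ ⟨c, hc, d, hd, rfl⟩
    exact ⟨_, mul_mem ha hc, _, mul_mem hd hb, by group⟩
  have ti : T h⁻¹ := ⟨_, inv_mem h7, 1, one_mem _, by group⟩
  have key : ∀ f ∈ G, h * f * h ∈ G ∨ T (h * f * h) := fun f hf => by
    by_cases hx : f (some x) = some x
    · exact .inl (h8 f hf hx).1
    obtain ⟨z, hz⟩ := sm f hf x
    obtain ⟨a, ha, a1, a2⟩ := two x y x z xy fun e => hx (e ▸ hz)
    have hb : g⁻¹ * a⁻¹ * f ∈ G := mul_mem (mul_mem (inv_mem hg) (inv_mem ha)) hf
    have := ml _ (mul_mem (mul_mem (mul_mem (h8 a ha a1).1 (inv_mem h7)) (inv_mem hg)) h6) _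
      (mul_mem (mul_mem (inv_mem hg) (inv_mem h7)) (h8 _ hb (by
        rw [Equiv.Perm.mul_apply, Equiv.Perm.mul_apply, hz, ← a2, ← h4]; simp)).1) _ ti
    exact .inr (by convert this using 1; simp [pow_succ, mul_assoc])
  let L : Subgroup (Equiv.Perm (Option X)) :=
    { carrier := {f | f ∈ G ∨ T f}
      one_mem' := .inl (one_mem _)
      mul_mem' := by
        rintro u v (hu | hu) (hv | hv)
        · exact .inl (mul_mem hu hv)
        · exact .inr (by simpa using ml _ hu _ (one_mem _) _ hv)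
        · exact .inr (by simpa using ml _ (one_mem _) _ hv _ hu)
        · obtain ⟨a, ha, b, hb, rfl⟩ := hu
          obtain ⟨c, hc, d, hd, rfl⟩ := hv
          rw [show a * h * b * (c * h * d) = a * (h * (b * c) * h) * d by group]
          exact (key _ (mul_mem hb hc)).imp (fun e => mul_mem (mul_mem ha e) hd) (ml _ ha _ hd _)
      inv_mem' := by
        rintro u (hu | ⟨a, ha, b, hb, rfl⟩)
        · exact .inl (inv_mem hu)
        · exact .inr (by simpa [mul_assoc] using ml _ (inv_mem hb) _ (inv_mem ha) _ ti) }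
  have hL : closure ((G : Set (Equiv.Perm (Option X))) ∪ {h}) ≤ L := (closure_le _).2 (by
    rintro f (hf | rfl)
    · exact .inl hf
    · exact .inr ⟨1, one_mem _, 1, one_mem _, by simp⟩)
  have sG : ∀ f ∈ G, f ∈ closure ((G : Set (Equiv.Perm (Option X))) ∪ {h}) := fun f hf => subset_closure (.inl hf)
  refine ⟨fun f hf => ⟨fun e => (hL hf).resolve_right ?_, hfix f⟩, mt_iff.2 ?_⟩
  · rintro ⟨a, ha, b, hb, rfl⟩
    obtain ⟨z, hz⟩ := sm a ha x
    simp [hfix b hb, h1, hz] at e
  have mv : ∀ e : Fin (k + 1) ↪ Option X, ∃ l ∈ closure ((G : Set (Equiv.Perm (Option X))) ∪ {h}), l (e 0) = none ∧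
      ∃ a : Fin k ↪ X, ∀ i, l (e i.succ) = some (a i) := fun e => by
    obtain ⟨l, hl, h0⟩ : ∃ l ∈ closure ((G : Set (Equiv.Perm (Option X))) ∪ {h}), l (e 0) = none := by
      rcases he : e 0 with _ | z
      · exact ⟨1, one_mem _, rfl⟩
      · obtain ⟨w, hw⟩ : ∃ w, z ≠ w := by
          by_cases hz : z = x
          exacts [⟨y, hz ▸ xy⟩, ⟨x, hz⟩]
        obtain ⟨f, hf, f1, -⟩ := two z w x y hw xy
        exact ⟨h * f, mul_mem (subset_closure (.inr rfl)) (sG f hf), by simp [f1, h2]⟩
    choose a ha using fun i : Fin k => Option.ne_none_iff_exists'.1 fun (c : l (e i.succ) = none) =>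
      Fin.succ_ne_zero i (e.injective (l.injective (c.trans h0.symm)))
    exact ⟨l, hl, h0, ⟨a, fun i j c => Fin.succ_injective _ (e.injective (l.injective (by rw [ha, ha, c])))⟩, ha⟩
  intro e e'
  obtain ⟨l, hl, l0, a, ha⟩ := mv e
  obtain ⟨m, hm, m0, b, hb⟩ := mv e'
  obtain ⟨f, hf, hab⟩ := htrans a b
  refine ⟨⟨m⁻¹ * f * l, mul_mem (mul_mem (inv_mem hm) (sG f hf)) hl⟩, fun i => ?_⟩
  change m⁻¹ (f (l (e i))) = e' i
  rw [Equiv.Perm.inv_eq_iff_eq]
  refine i.cases ?_ fun j => ?_
  · rw [l0, m0, hfix f hf]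
  · rw [ha, hb, hab]

end Cfsg.Agent.S4301
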