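import Cfsg.Statements.S4304
import Cfsg.Agent.H2.PseudoSyl

set_option autoImplicit false
open Cfsg

namespace Cfsg.Agent.S4304
open Subgroup CfsgH2
open scoped commutatorElement

/-- No finite group has exactly 15 Sylow 7-subgroups. -/
theorem result {G : Type*} [Group G] [Finite G] : Nat.card (Sylow 7 G) ≠ 15 := by
  haveI : Fact (Nat.Prime 7) := ⟨by norm_num⟩
  refine CfsgH2.PS.ne_of_simple (by norm_num) (fun m hm e => ?_)
    (CfsgH2.PS.npp Nat.prime_three Nat.prime_five (by norm_num)) (fun S _ _ _ => CfsgH2.PS.not_fifteen) G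
  have := Nat.le_of_dvd (by norm_num) hm
  interval_cases m <;> simp_all


end Cfsg.Agent.S4304
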