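import Cfsg.Statements.S4314
import Cfsg.Agent.H1.BHM
import Cfsg.Agent.S3778
import Cfsg.Agent.S4134

set_option autoImplicit false
open Cfsg

namespace Cfsg.Agent.S4314

open Subgroup CfsgH1 CfsgH2 CfsgFT
open scoped commutatorElement

/-- Let `G` be a finite group every conjugacy class of which has size 1 or a prime. Then either `G` is nilpotent of class at most 2, or `G/Z(G)` is a non-abelian group of order `pq` for distinct primes `p, q` (a Frobenius group of order `pq`). -/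
theorem result {G : Type*} [Group G] [Finite G]
    (h : ∀ x : G, (Subgroup.centralizer ({x} : Set G)).index = 1 ∨ ((Subgroup.centralizer ({x} : Set G)).index).Prime) :
    Subgroup.upperCentralSeries G 2 = ⊤ ∨
      ∃ p q : ℕ, p.Prime ∧ q.Prime ∧ p ≠ q ∧ Nat.card (G ⧸ Subgroup.center G) = p * q ∧ ¬ IsMulCommutative (G ⧸ Subgroup.center G) := by
  have n : ∀ {g : G}, g ∉ center G → (C1(g)).index.Prime := fun {g} k =>
    (h g).resolve_left fun e => k (cent1_eq_top.1 (index_eq_one.1 e))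
  by_cases k : ∃ x y : G, x ∉ center G ∧ y ∉ center G ∧ (C1(x)).index ≠ (C1(y)).index
  · obtain ⟨x, y, hx, hy, e⟩ := k
    have h' : ∀ g : G, IsPiNum {(C1(x)).index} (C1(g)).index ∨ IsPiNum {(C1(x)).index}ᶜ (C1(g)).index := fun g => by
      rcases h g with k | k
      · exact .inl (k ▸ IsPiNum.one)
      · by_cases c : (C1(g)).index = (C1(x)).index
        · exact .inl fun r pr d => ((Nat.prime_dvd_prime_iff_eq pr k).1 d).trans c
        · exact .inr fun r pr d m => c (((Nat.prime_dvd_prime_iff_eq pr k).1 d).symm.trans m)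
    obtain ⟨σ, M, H, k⟩ := exists_QF h' (fun r pr d => (Nat.prime_dvd_prime_iff_eq pr (n hx)).1 d) hx
      ((h' y).resolve_left fun k => e (k _ (n hy) dvd_rfl).symm) hy
    obtain ⟨a, b, a1, b1, c1, c2⟩ := k.card
    refine .inr ⟨_, _, n a1, n b1, (Nat.coprime_primes (n a1) (n b1)).1 c2, c1, fun m => ?_⟩
    obtain ⟨u, u1, u2⟩ := SetLike.not_le_iff_exists.1 k.ne1
    obtain ⟨v, v1, v2⟩ := SetLike.not_le_iff_exists.1 k.ne2
    have := k.frob.2.ge (⟨u, u1, rfl⟩ : QuotientGroup.mk' (center G) u ∈ (M.map (QuotientGroup.mk' (center G)) : Set _))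
    obtain ⟨N, e1, -, -, -, e2⟩ := frob_data k.frob.1
    exact u2 ((QuotientGroup.eq_one_iff _).1 ((e2 _ ⟨v, v1, rfl⟩ fun e => v2 ((QuotientGroup.eq_one_iff _).1 e)).le
      ⟨e1.ge this, mem_cent1.2 (m.is_comm.comm _ _)⟩))
  left
  push Not at k
  rw [eq_top_iff']
  by_cases c : ∃ x : G, x ∉ center G
  swap
  · push Not at c
    exact fun x => Subgroup.mem_upperCentralSeries_succ_iff.2 fun y => Subgroup.upperCentralSeries_one G ▸ c _
  obtain ⟨x0, hx⟩ := c
  obtain ⟨p, hp, a, e, hP⟩ := Cfsg.Agent.S4134.result _ (n hx).one_lt (fun x => by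
    by_cases c : x ∈ center G
    · exact .inl (by rw [cent1_eq_top.2 c, index_top])
    · exact .inr (k x x0 c hx)) ⟨x0, rfl⟩
  obtain ⟨P⟩ : Nonempty (Sylow p G) := inferInstance
  obtain ⟨nP, ⟨N, nN, cN, mN, hN⟩, -⟩ := hP P
  have a1 : a = 1 := (Nat.Prime.eq_one_of_pow (e ▸ n hx))
  subst a1
  obtain ⟨c, c1, c2, -⟩ := Cfsg.Agent.S3778.result P.isPGroup' 1 fun x => by
    have := (index_C1_dvd x.2 le_rfl).trans (relIndex_normal_dvd_index C1(x.1) P)
    refine (Nat.le_of_dvd (Nat.pos_of_ne_zero index_ne_zero_of_finite) this).trans ?_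
    by_cases c : x.1 ∈ center G
    · rw [cent1_eq_top.2 c, index_top]; exact Nat.one_le_pow _ _ hp.out.pos
    · rw [k _ x0 c hx, e]
  have c3 := (Subgroup.lowerCentralSeries_antitone ⊤ (c2 one_ne_zero).2).trans c1.le
  have d : ∀ g : G, ∃ z ∈ center G, ∃ u : (P : Subgroup G), g = z * u := fun g => by
    obtain ⟨⟨z, u⟩, rfl⟩ := cN.2 g
    refine ⟨z, mem_center_iff.2 fun y => ?_, u, rfl⟩
    obtain ⟨⟨w, v⟩, rfl⟩ := cN.2 y
    have := congrArg Subtype.val (mN.is_comm.comm w z)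
    simp only [Subgroup.coe_mul] at this
    change (w : G) * v * z = z * (w * v)
    rw [mul_assoc, ← hN _ z.2 _ v.2, ← mul_assoc, this, mul_assoc]
  refine fun x => Subgroup.mem_upperCentralSeries_succ_iff.2 fun y => Subgroup.upperCentralSeries_one G ▸
    mem_center_iff.2 fun w => ?_
  obtain ⟨z1, h1, u, rfl⟩ := d x
  obtain ⟨z2, h2, v, rfl⟩ := d y
  obtain ⟨z3, h3, w, rfl⟩ := d w
  have e1 : ⁅z1 * u, z2 * v⁆ = ((⁅u, v⁆ : (P : Subgroup G)) : G) := by
    have t1 := mem_center_iff.1 h1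
    have t2 := mem_center_iff.1 h2
    calc _ = z1 * (u * (z2 * (v * (u : G)⁻¹))) * z1⁻¹ * (v : G)⁻¹ * z2⁻¹ := by rw [commutatorElement_def]; group
      _ = _ := by
        rw [← t1, mul_inv_cancel_right, ← t2, ← mul_assoc, mul_assoc _ z2, ← t2, ← mul_assoc, mul_inv_cancel_right]
        simp [commutatorElement_def, mul_assoc]
  have e2 := congrArg Subtype.val (commutatorElement_eq_one_iff_mul_comm.1 (mem_bot.1 (c3 (commutator_mem_commutator
    (commutator_mem_commutator (mem_top u) (mem_top v)) (mem_top w)))))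
  simp only [Subgroup.coe_mul] at e2
  rw [e1, mul_assoc, ← e2, ← mul_assoc, ← mem_center_iff.1 h3, mul_assoc]

end Cfsg.Agent.S4314
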