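import Cfsg.Statements.S4331
import Cfsg.Agent.H7.Diag
import Cfsg.Agent.H7.Srch
import Cfsg.Agent.H7.Grp
import Cfsg.Agent.H1.Cores
import Cfsg.Agent.S0144
import Cfsg.Agent.S0064

set_option autoImplicit false
open Cfsg

namespace Cfsg.Agent.S4331

open CfsgH7 Subgroup Equiv
abbrev A := permAct 9 ⟨9, 4, 15⟩ ⟨⟨rfl, by decide⟩, rfl⟩
def L : List (ℕ × List (ℕ × ℕ)) := [(0, [(28038217761, 31814013186)]), (1, [(13540677696, 10270902096)]), (3, [(22607782416, 22607782416)])]
def f0 : ℕ := 22607782416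
theorem c0 : lall A.F.isPerm (Fmt.gens L) = true ∧ A.F.loChk L = true ∧ A.F.hiChk L = true ∧ A.F.size (A.F.build L) = 144 ∧
    A.F.srch Fmt.okAll (fun c => bnot (A.F.srch Fmt.okAll (fun x => bnot (force (A.F.conj x c) fun d => bor (A.F.g d 0 == 0) (A.F.comm d f0)))
      (A.F.build L) [] A.F.one)) (A.F.build L) [] A.F.one = true ∧
    A.F.srch Fmt.okAll (fun c => bor (bnot (A.F.g c 0 == 0)) (A.F.isOne (Act.powT A.F c 8))) (A.F.build L) [] A.F.one = true ∧
    A.F.srch Fmt.okAll (fun x => bnot (force (A.F.comp f0 (A.F.conj x f0)) fun d =>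
      band (bnot (A.F.isOne d)) (force (Act.powT A.F d 3) A.F.isOne))) (A.F.build L) [] A.F.one = false ∧
    f0 ∈ Fmt.gens L ∧ A.F.g f0 0 = 0 ∧ band (bnot (A.F.isOne f0)) (force (Act.powT A.F f0 2) A.F.isOne) = true := by decide +kernel

/-- There is a finite solvable group G with a subgroup A of order 2 such that every conjugacy class of G contains an element g for which A is subnormal in the subgroup generated by A and g, and yet A is not contained in O_2(G). (So the corresponding criteria for odd primes fail at the prime 2, even for solvable groups.) -/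
theorem result :
    ∃ (G : Type) (_ : Group G) (_ : Finite G) (A : Subgroup G), Group.IsSolvable G ∧ Nat.card A = 2 ∧
      (∀ c : G, ∃ g : G, IsConj c g ∧ (A.subgroupOf (A ⊔ Subgroup.zpowers g)).IsSubnormal) ∧
      ¬ A ≤ Cfsg.pCore 2 G := by
  obtain ⟨a1, a2, a3, a4, a5, a6, a7, a8, a9, a10⟩ := c0
  have f := Act.full_clo (A := A) (permAct_valid a1) a2 a3
  set H := A.clo (Fmt.gens L)
  have F := f.sub_top
  obtain ⟨a, ha, ra⟩ := Act.Valid.mem_clo (A := A) (permAct_valid a1) _ a8
  have ra : (A.sub H).Rep ⟨a, ha⟩ f0 := ra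
  generalize (⟨a, ha⟩ : H) = a at ra
  have oa := ra.orderOf_prime 2 Nat.prime_two a10
  refine ⟨H, inferInstance, inferInstance, zpowers a, S0144.result 2 3 4 2 Nat.prime_two Nat.prime_three (f.card.trans a4),
    by rw [Nat.card_zpowers, oa], fun c => ?_, fun h => ?_⟩
  · obtain ⟨t, r, e⟩ := F.all a5 (mem_top c)
    obtain ⟨x, -, s, q, e⟩ := F.2.1.exists_of_srch (ok := Fmt.okAll) ((Bool.not_eq_true' _).mp ((bnot_eq _).symm.trans e))
    have rc := q.conj r
    refine ⟨_, isConj_iff.2 ⟨x, rfl⟩, ?_⟩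
    generalize x * c * x⁻¹ = g at rc
    simp only [force_eq, bor_eq, Bool.or_eq_true, beq_iff_eq] at e
    rcases e with e | e
    · have p : IsPGroup 2 (MulAction.stabilizer H ((A.sub H).pt 0)) := fun y => by
        obtain ⟨u, ru, e⟩ := F.all a6 (mem_top y.1)
        have := (ru.fix_iff (i := 0) (by decide)).1 y.2
        refine ⟨3, Subtype.ext ((ru.pow_eq_one_iff 8).2 ?_)⟩
        simp only [bor_eq, bnot_eq, Bool.or_eq_true, Bool.not_eq_true', beq_eq_false_iff_ne] at e
        exact e.resolve_left fun h => h this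
      haveI := Fact.mk Nat.prime_two
      exact (S0064.result.1 (p.to_le (sup_le (zpowers_le.2 ((ra.fix_iff (by decide)).2 a9))
        (zpowers_le.2 ((rc.fix_iff (by decide)).2 e)))).isNilpotent) _
    · have k : zpowers a ⊔ zpowers g ≤ centralizer {a} := sup_le (zpowers_le.2 (mem_centralizer_singleton_iff.2 rfl))
        (zpowers_le.2 (mem_centralizer_singleton_iff.2 ((rc.comm_iff ra).2 e)))
      refine Normal.isSubnormal ⟨fun n hn y => ?_⟩
      obtain ⟨i, hi⟩ := mem_zpowers_iff.1 (mem_subgroupOf.1 hn)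
      have : Commute (y : H) n := hi ▸ (show Commute (y : H) a from mem_centralizer_singleton_iff.1 (k y.2)).zpow_right i
      exact mem_subgroupOf.2 (by simpa [this.eq] using mem_subgroupOf.1 hn)
  · obtain ⟨x, -, s, q, e⟩ := F.2.1.exists_of_srch (ok := Fmt.okAll) a7
    have o := (ra.mul (q.conj ra)).orderOf_prime 3 Nat.prime_three ((force_eq _ _).symm.trans e)
    have m : a ∈ pCore 2 H := h (mem_zpowers a)
    obtain ⟨k, hk⟩ := CfsgH1.isPGroup_pCore 2 H ⟨_, mul_mem m ((pCore_normal 2 H).conj_mem _ m x)⟩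
    have := orderOf_dvd_of_pow_eq_one (congrArg Subtype.val hk)
    exact absurd ((Nat.prime_three.dvd_of_dvd_pow (o ▸ this))) (by decide)

end Cfsg.Agent.S4331
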