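import Cfsg.Statements.S4332
import Cfsg.Agent.H1.Cores

set_option autoImplicit false
open Pointwise
open Cfsg

namespace Cfsg.Agent.S4332

open Subgroup Equiv Equiv.Perm Finset
open scoped Pointwise
theorem three (c : Perm (Fin 8)) : ∃ T : Finset (Fin 8), #T = 3 ∧ ((∀ x ∈ T, c x ∈ T) ∨ ∀ x ∈ T, c x ∉ T) := by
  by_cases h : 3 ≤ #c.supportᶜ
  · obtain ⟨T, h1, h2⟩ := exists_subset_card_eq h
    exact ⟨T, h2, .inl fun x hx => by rwa [notMem_support.1 (mem_compl.1 (h1 hx))]⟩
  have h1 := card_add_card_compl c.support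
  rw [Fintype.card_fin] at h1
  obtain ⟨a, ha⟩ := card_pos.1 (show 0 < #c.support by omega)
  have ha := mem_support.1 ha
  have i := c.injective
  have k : ∀ b, c b ≠ b → b ≠ a → c a ≠ b → c b ≠ a → #({a, c a, c⁻¹ a, b, c b, c⁻¹ b} : Finset _) < #c.support →
      ∃ T : Finset (Fin 8), #T = 3 ∧ ((∀ x ∈ T, c x ∈ T) ∨ ∀ x ∈ T, c x ∉ T) := fun b h1 h2 h3 h4 h => by
    obtain ⟨d, h5, h6⟩ := exists_mem_notMem_of_card_lt_card h
    simp only [mem_insert, mem_singleton, not_or, Perm.eq_inv_iff_eq] at h6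
    have := mem_support.1 h5
    exact ⟨{a, b, d}, card_eq_three.2 ⟨_, _, _, h2.symm, Ne.symm h6.1, Ne.symm h6.2.2.2.1, rfl⟩, .inr (by grind)⟩
  by_cases h2 : c (c a) = a
  · by_cases h3 : #c.supportᶜ = 0
    · obtain ⟨b, h5, h6⟩ := exists_mem_notMem_of_card_lt_card (show #{a, c a} < #c.support from card_le_two.trans_lt (by omega))
      exact k b (mem_support.1 h5) (by grind) (by grind) (by grind) (card_le_six.trans_lt (by omega))
    obtain ⟨b, hb⟩ := card_pos.1 (Nat.pos_of_ne_zero h3)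
    have := notMem_support.1 (mem_compl.1 hb)
    exact ⟨{a, c a, b}, card_eq_three.2 ⟨_, _, _, ha.symm, by grind, by grind, rfl⟩, .inl (by grind)⟩
  by_cases h3 : c (c (c a)) = a
  · exact ⟨{a, c a, c (c a)}, card_eq_three.2 ⟨_, _, _, ha.symm, Ne.symm h2, by grind, rfl⟩, .inl (by grind)⟩
  refine k (c (c a)) (by grind) h2 (by grind) h3 (lt_of_le_of_lt (card_le_card (t := {a, c a, c⁻¹ a, c (c a), c (c (c a))}) ?_)
    (card_le_five.trans_lt (by omega)))
  simp [insert_subset_iff]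

/-- In the symmetric group of degree 8, let A be the subgroup generated by a 3-cycle. Then every conjugacy class contains an element g for which A is subnormal in the subgroup generated by A and its conjugate by g, although O_3 of the symmetric group of degree 8 is trivial. -/
theorem result
    (σ : Equiv.Perm (Fin 8)) (hσ : σ.IsThreeCycle) :
    (∀ c : Equiv.Perm (Fin 8), ∃ g : Equiv.Perm (Fin 8), IsConj c g ∧
      ((Subgroup.zpowers σ).subgroupOf (Subgroup.zpowers σ ⊔ MulAut.conj g • Subgroup.zpowers σ)).IsSubnormal) ∧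
    Cfsg.pCore 3 (Equiv.Perm (Fin 8)) = ⊥ := by
  refine ⟨fun c => ?_, (pCore 3 _).bot_or_nontrivial.resolve_right fun h => ?_⟩
  swap
  · have := Fact.mk Nat.prime_three
    obtain ⟨k, hk⟩ := (CfsgH1.isPGroup_pCore 3 (Perm (Fin 8))).exists_card_eq
    have := card_dvd_of_le (alternatingGroup_le_of_normal (by simp) h)
    rw [hk, nat_card_alternatingGroup] at this
    simpa using Nat.prime_two.dvd_of_dvd_pow (Dvd.dvd.trans (by simp [Nat.factorial]) this)
  obtain ⟨T, h1, h2⟩ := three c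
  obtain ⟨u, hu⟩ := Equiv.Perm.exists_map_finset_eq T σ.support (h1.trans hσ.card_support.symm)
  have m : ∀ x, x ∈ σ.support ↔ u⁻¹ x ∈ T := fun x => by rw [← hu, mem_map_equiv]; rfl
  refine ⟨u * c * u⁻¹, isConj_iff.2 ⟨u, rfl⟩, Normal.isSubnormal ?_⟩
  have m' : ∀ x, x ∈ (u * c * u⁻¹ * σ * (u * c * u⁻¹)⁻¹).support ↔ c⁻¹ (u⁻¹ x) ∈ T := fun x => by
    rw [support_conj, mem_map_equiv, m, ← Perm.inv_def]; simp
  have h3 : Commute σ (u * c * u⁻¹ * σ * (u * c * u⁻¹)⁻¹) := by
    rcases h2 with h2 | h2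
    · have := alternatingGroup.isMulCommutative_of_card_le_three (α := σ.support) (by rw [Nat.card_eq_fintype_card, Fintype.card_coe, hσ.card_support])
      obtain ⟨x, hx⟩ := (alternatingGroup.mem_range_ofSubtype_iff _ ⟨σ, hσ.mem_alternatingGroup⟩).2 subset_rfl
      obtain ⟨y, hy⟩ := (alternatingGroup.mem_range_ofSubtype_iff σ.support ⟨u * c * u⁻¹ * σ * (u * c * u⁻¹)⁻¹,
        (inferInstance : (alternatingGroup _).Normal).conj_mem _ hσ.mem_alternatingGroup _⟩).2
        fun x hx => (m x).2 (by simpa using h2 _ ((m' x).1 hx))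
      exact (congrArg Subtype.val (hx ▸ hy ▸ (Commute.map (mul_comm' x y) (alternatingGroup.ofSubtype σ.support)).eq) :)
    · exact Equiv.Perm.Disjoint.commute (disjoint_iff_disjoint_support.2 (disjoint_left.2 fun x h h' =>
        h2 _ ((m' x).1 h') (by simpa using (m x).1 h)))
  refine (normal_subgroupOf_iff_le_normalizer le_sup_left).2 (sup_le le_normalizer (le_trans ?_ (centralizer_le_normalizer _)))
  rintro _ ⟨_, ⟨k, rfl⟩, rfl⟩ _ ⟨l, rfl⟩
  have := (h3.zpow_zpow l k).eq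
  rwa [conj_zpow] at this

end Cfsg.Agent.S4332
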