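import Cfsg.Statements.S4333
import Cfsg.Agent.H1.Subn

set_option autoImplicit false
open Pointwise
open Cfsg

namespace Cfsg.Agent.S4333

/-- Let A be a subgroup of a finite group G. If A is subnormal in the subgroup generated by A and its conjugate by g⁻¹ a g, for every a ∈ A and every g ∈ G, then A is subnormal in G. (A sharpening of Wielandt's subnormality criterion: only conjugates of A by conjugates of elements of A are needed.) -/
theorem result {G : Type*} [Group G] [Finite G]
    (A : Subgroup G)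
    (h : ∀ a ∈ A, ∀ g : G, (A.subgroupOf (A ⊔ MulAut.conj (g⁻¹ * a * g) • A)).IsSubnormal) :
    A.IsSubnormal := by
  open Subgroup CfsgH1 CfsgFT CfsgH2 CfsgLead in
  have key : ∀ L : Subgroup G, A ≤ L → SN A L := fun L => by
    induction L using WellFoundedLT.induction with | _ L ih => ?_
    intro hA
    by_contra hn
    have hlt : A < L := lt_of_le_of_ne hA fun e => hn (e ▸ SN.refl A)
    have h1 : ∀ V, A ≤ V → V < L → SN A V := fun V a b => ih V b a
    obtain ⟨M, k1, k2, k3⟩ := zipper hlt hn h1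
    have k4 : ∀ V, M ≤ V → V < L → V = M := fun V a b => le_antisymm (k3 V (k1.trans a) b) a
    have k5 : ¬ L ≤ N(M) := fun l => hn ((h1 M k1 k2).trans (SN.of_normal k2.le l))
    have k6 : L ⊓ N(M) = M := k4 _ (le_inf k2.le le_normalizer) (inf_lt_left.2 k5)
    have hD : sSup {B | ∃ g ∈ L, B = cj g A} ≤ M := sSup_le (by
      rintro _ ⟨g, hg, rfl⟩
      refine cj_le_iff.2 fun a ha => k6.le ?_
      have xL := mul_mem (mul_mem hg (hA ha)) (inv_mem hg)
      have s : SN A (A ⊔ cj (g * a * g⁻¹) A) := ⟨le_sup_left, by have := h a ha g⁻¹; rwa [inv_inv] at this⟩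
      have l := le_sup_right.trans (k3 _ le_sup_left (lt_of_le_of_ne (sup_le hA (cj_le_of_mem xL hA)) fun e => hn (e ▸ s)))
      refine mem_inf.2 ⟨xL, (inv_mem_iff (x := g * a * g⁻¹)).1 (mem_normalizer_of_cj_le (k3 _ (cj_le_iff_le_cj_inv.1 l) ?_))⟩
      exact lt_of_le_of_ne (cj_le_of_mem (inv_mem xL) k2.le) fun e => k2.ne (by
        rw [cj_eq_iff_eq_cj_inv, cj_eq_of_mem (inv_mem (inv_mem xL))] at e; exact e))
    refine hn (SN.trans (h1 _ (le_sSup (by exact ⟨1, one_mem _, (CfsgH2.cj_one A).symm⟩)) (hD.trans_lt k2))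
      (SN.of_normal (hD.trans k2.le) (le_norm_sSup ?_)))
    rintro x hx _ ⟨g, hg, rfl⟩
    exact ⟨x * g, mul_mem hx hg, CfsgH2.cj_cj _ _ _⟩
  exact SN.top_iff.1 (key ⊤ le_top)

end Cfsg.Agent.S4333
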