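import Cfsg.Statements.S4334
import Cfsg.Agent.FT.Hall
import Cfsg.Agent.H2.Focal
import Cfsg.Agent.H2.PGroup

set_option autoImplicit false
open Cfsg

namespace Cfsg.Agent.S4334

open Subgroup CfsgH1 CfsgH2 CfsgFT in
theorem main {G : Type*} [Group G] [Finite G] {τ : Set ℕ} (hD : IsDPiGroup τ G) {Ht : Subgroup G}
    (ht : IsPi τ Ht) (Hs : Subgroup G) : ∀ π : Set ℕ, τ ⊆ π → Hall π (Hs ⊔ Ht) ⊤ → IsPi τᶜ Hs →
    Group.IsNilpotent Hs → Hs ≤ C(Ht) → ∀ K : Subgroup G, IsPi π K → ∃ g, cj g K ≤ Hs ⊔ Ht := by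
  induction Hs using subgroup_induction_up with
  | h Hs ih =>
  intro π hτ hH hs hn hc K hK
  by_cases h0 : Hs = ⊥
  · subst h0
    rw [bot_sup_eq] at hH ⊢
    obtain ⟨M, hKM, hM, hmax⟩ := exists_maximal_subgroup (Φ := fun X => IsPi τ X)
      (IsPiNum.of_dvd ht (hH.card_dvd hK le_top))
    obtain ⟨g, hg⟩ := hD M Ht ⟨hM, fun L hL h => (hmax L hL h).le⟩
      ⟨ht, fun L hL h => (hH.eq_of_le (IsPiNum.mono hL hτ) h le_top).le⟩
    exact ⟨g, hg ▸ cj_mono g hKM⟩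
  obtain ⟨p, hp, hd⟩ := exists_prime_dvd_card h0
  haveI := Fact.mk hp
  set P := Opi {p} Hs with hP
  set H' := Opi {p}ᶜ Hs ⊔ Ht with hH'
  have hpτ : p ∉ τ := hs p hp hd
  have e1 : Hs ⊔ Ht = H' ⊔ P := by
    rw [← Opi_sup_Opi_compl hn {p}, hH', ← hP, sup_assoc, sup_comm]
  have c1 : P ≤ C(H') := le_cent_sup (Opi_commute _ fun q _ h1 h2 => h2 h1) ((Opi_le _ _).trans hc)
  have p1 : IsPi {p}ᶜ H' := (isPi_Opi _ _).sup (ht.sub fun q _ h e => hpτ (e ▸ h))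
    (le_norm_of_cent' ((Opi_le _ _).trans hc))
  have h1 : Hall {p}ᶜ H' (H' ⊔ P) := Hall.of_sup (le_norm_of_cent c1) p1 (isPi_compl_compl.2 (isPi_Opi _ _))
  have h2 : Hall {p} P (H' ⊔ P) := Hall.of_sup' (le_norm_of_cent c1) (isPi_Opi _ _) p1
  have hpπ : p ∈ π := hH.isPi p hp (hd.trans (card_dvd_of_le le_sup_left))
  rw [e1] at hH ⊢
  have h3 : IsSylowIn p P ⊤ := hH.sylow hpπ (hall_singleton_iff.1 h2)
  have h4 : Hall (π \ {p}) H' ⊤ := by
    refine ⟨le_top, fun q hq h => ⟨hH.isPi q hq (h.trans (card_dvd_of_le le_sup_left)), p1 q hq h⟩, ?_⟩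
    rw [← relIndex_mul_relIndex _ _ _ h1.le le_top]
    exact IsPiNum.mul (fun q hq h e => h1.idx q hq h e.2) (fun q hq h e => hH.idx q hq h e.1)
  obtain ⟨S, hS⟩ := IsSylowIn.exists_sylowIn p K
  have h5 : HasNormalPComplement p K := by
    refine frobenius_hasNPC hS fun Q hQ _ _ g hg hgn ho => ?_
    obtain ⟨c, -, hc'⟩ := h3.exists_cj_le (hS.2.to_le hQ) le_top
    refine zpowers_le.1 (le_of_forall_sylowIn_le fun r hr hrd => ?_)
    obtain ⟨Y, hY⟩ := IsSylowIn.exists_sylowIn r (zpowers g)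
    refine ⟨Y, hY, ?_⟩
    obtain ⟨T, hT⟩ := IsSylowIn.exists_sylowIn r H'
    have k1 : H' ≤ C(cj c Q) := (cent_symm c1).trans (cent_anti hc')
    have k2 : IsSylowIn r T N(cj c Q) := (h4.sylow ⟨hK r hr.out (hrd.trans (card_dvd_of_le (zpowers_le.2 hg))), by
      rintro rfl
      rw [Nat.card_zpowers] at hrd
      exact hp.one_lt.ne' (Nat.eq_one_of_dvd_coprimes ho hrd dvd_rfl)⟩ hT).mono
      (hT.1.trans (le_norm_of_cent k1)) le_top
    obtain ⟨n, hn', k3⟩ := k2.exists_cj_le (IsPGroup_cj hY.2 c)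
      (cj_le_norm_cj (hY.1.trans (zpowers_le.2 hgn)) c)
    have k4 := cj_le_iff_le_cj_inv.1 (k3.trans (hT.1.trans k1))
    rw [cj_eq_of_norm (CfsgH2.normalizer_le_normalizer_centralizer _ (inv_mem hn')), ← cj_centralizer,
      cj_le_cj_iff] at k4
    exact k4
  obtain ⟨g, hg⟩ := ih (Opi {p}ᶜ Hs) (CfsgH2.card_lt_of_lt (lt_of_le_of_ne (Opi_le _ _) fun e =>
      isPi_Opi {p}ᶜ Hs p hp (e.symm ▸ hd) rfl)) (π \ {p}) (fun q h => ⟨hτ h, fun e => hpτ (e ▸ h)⟩) h4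
    (hs.mono (Opi_le _ _)) (isNilpotent_of_le hn (Opi_le _ _)) ((Opi_le _ _).trans hc) (Opi {p}ᶜ K)
    (fun q hq h => ⟨hK q hq (h.trans (card_dvd_of_le (Opi_le _ _))), isPi_Opi _ _ q hq h⟩)
  rw [← hH'] at hg
  obtain ⟨n, hn', k⟩ := (h3.mono (le_norm_of_cent (c1.trans (cent_anti hg))) le_top).exists_cj_le
    (IsPGroup_cj hS.2 g) (cj_le_norm_cj (hS.1.trans (le_normalizer_Opi _ _)) g)
  refine ⟨n * g, ?_⟩
  rw [← npc_sup h5 hS, ← cj_cj, cj_sup, cj_sup, cj_eq_of_norm hn']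
  exact sup_le_sup hg k

/-- Let σ and τ be disjoint sets of primes with union π. Suppose a finite group G has a Hall π-subgroup H which is the direct product of a nilpotent σ-subgroup and a τ-subgroup (two elementwise-commuting subgroups generating H), and that the maximal τ-subgroups of G are pairwise conjugate. Then the maximal π-subgroups of G are pairwise conjugate. -/
theorem result {G : Type*} [Group G] [Finite G]
    (σ τ π : Set ℕ) (hπ : π = σ ∪ τ) (hd : Disjoint σ τ) (H Hs Ht : Subgroup G) (hH : Cfsg.IsPiHall π H)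
    (hs : Cfsg.IsPiSubgroup σ Hs) (ht : Cfsg.IsPiSubgroup τ Ht) (hsn : Group.IsNilpotent Hs)
    (hjoin : Hs ⊔ Ht = H) (hcomm : ∀ a ∈ Hs, ∀ b ∈ Ht, a * b = b * a) (hD : Cfsg.IsDPiGroup τ G) :
    Cfsg.IsDPiGroup π G := by
  open Subgroup CfsgH1 CfsgH2 CfsgFT in
  subst hjoin
  have key : ∀ K, Maximal (IsPiSubgroup π) K → ∃ g, cj g K = Hs ⊔ Ht := by
    intro K hK
    obtain ⟨g, hg⟩ := main hD ht Hs π (hπ ▸ Set.subset_union_right) (hall_top_iff.2 hH)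
      (fun q hq h e => Set.disjoint_left.1 hd (hs q hq h) e) hsn
      (fun a ha => mem_cent.2 fun b hb => (hcomm a ha b hb).symm) K hK.1
    refine ⟨g, le_antisymm hg ?_⟩
    rw [← cj_inv_cj g⁻¹ (Hs ⊔ Ht), inv_inv, cj_le_cj_iff]
    exact hK.2 (IsPi.cj hH.1 g⁻¹) (cj_le_iff_le_cj_inv.1 hg)
  intro K L hK hL
  obtain ⟨a, ha⟩ := key K hK
  obtain ⟨b, hb⟩ := key L hL
  exact ⟨b⁻¹ * a, by rw [cj_def, ← cj_cj, ha, ← hb, cj_inv_cj]⟩

end Cfsg.Agent.S4334
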