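import Cfsg.Statements.S4337
import Cfsg.Agent.H3.Burnside
import Cfsg.Agent.H9.Swaps

set_option autoImplicit false
open Cfsg

namespace Cfsg.Agent.S4337

/-- In a finite symmetric group, any three transpositions generate a solvable subgroup. -/
theorem result (n : ℕ) (a b c : Equiv.Perm (Fin n))
    (ha : a.IsSwap) (hb : b.IsSwap) (hc : c.IsSwap) :
    Group.IsSolvable (Subgroup.closure ({a, b, c} : Set (Equiv.Perm (Fin n)))) := by
  classical
  have h : ∀ r : ℕ, r.Prime → r ∣ Nat.card (Subgroup.closure ({a, b, c} : Set (Equiv.Perm (Fin n)))) → r = 2 ∨ r = 3 := fun r hr h => by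
    have := CfsgH9.prime_le_of_swaps {a, b, c} (by simp [ha, hb, hc]) hr (by simpa using h)
    have := Finset.card_le_three (a := a) (b := b) (c := c)
    have := hr.two_le
    have : r ≠ 4 := by rintro rfl; norm_num at hr
    omega
  set N := Nat.card (Subgroup.closure ({a, b, c} : Set (Equiv.Perm (Fin n))))
  refine CfsgH3.isSolvable_of_card_dvd_pow_mul_pow (a := N.factorization 2) (b := N.factorization 3) Nat.prime_two Nat.prime_three
    ((Nat.dvd_iff_prime_pow_dvd_dvd _ _).2 fun r k hr hk => ?_)
  have N0 : N ≠ 0 := Nat.card_pos.ne'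
  rcases k with _ | k
  · simp
  rcases h r hr ((dvd_pow_self r k.succ_ne_zero).trans hk) with rfl | rfl
  · exact (pow_dvd_pow _ ((hr.pow_dvd_iff_le_factorization N0).1 hk)).mul_right _
  · exact (pow_dvd_pow _ ((hr.pow_dvd_iff_le_factorization N0).1 hk)).mul_left _

end Cfsg.Agent.S4337
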