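import Cfsg.Statements.S4342
import Cfsg.Agent.H2.SylNum

set_option autoImplicit false
open Cfsg

namespace Cfsg.Agent.S4342
open Subgroup CfsgH2
open scoped commutatorElement

open CfsgFT

/-- Let H be a normal subgroup of a finite group G and p a prime not dividing the index of H. Then the number of Sylow p-subgroups of H/Z(H) equals the number of Sylow p-subgroups of G. -/
theorem result {G : Type*} [Group G] [Finite G]
    (p : ℕ) [Fact p.Prime] (H : Subgroup G) [H.Normal] (hp : ¬ p ∣ H.index) :
    Nat.card (Sylow p (H ⧸ Subgroup.center H)) = Nat.card (Sylow p G) := by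
  obtain ⟨P, hP⟩ := IsSylowIn.exists_sylowIn p H
  have h := hP.trans_of_not_dvd le_top (by rwa [relIndex_top_right])
  rw [card_sylow_map (QuotientGroup.mk'_surjective _) (IsSylowIn.of_sylow_top hP.toSylow), QuotientGroup.ker_mk',
    sup_eq_left.2 (le_norm_of_cent (center_le_centralizer _)), hP.toSylow_coe, norm_subgroupOf hP.le, card_sylow_top h,
    ← relIndex_top_right, ← relIndex_top_right N(P), ← sylow_frattini_sup hP le_top (normalizer_eq_top _).ge,
    top_inf_eq, relIndex_sup_norm' (le_top.trans (normalizer_eq_top _).ge), relIndex_top_right, relIndex]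


end Cfsg.Agent.S4342
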