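import Cfsg.Statements.S4343
import Cfsg.Agent.H2.SylNum
import Cfsg.Agent.S0060

set_option autoImplicit false
open Cfsg

namespace Cfsg.Agent.S4343
open Subgroup CfsgH2
open scoped commutatorElement

open CfsgFT

/-- Let S be a finite non-abelian simple group and p a prime dividing its order. If S has fewer than p² Sylow p-subgroups, then its Sylow p-subgroups have order p. -/
theorem result {S : Type*} [Group S] [Finite S]
    [IsSimpleGroup S] (hS : ¬ IsMulCommutative S) (p : ℕ) [Fact p.Prime] (hp : p ∣ Nat.card S)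
    (hn : Nat.card (Sylow p S) < p ^ 2) (P : Sylow p S) : Nat.card P = p := by
  have hP := IsSylowIn.of_sylow_top P
  have nt : ∀ K : Subgroup S, IsPGroup p K → K ≠ ⊤ := fun K hK e => hS (by
    haveI := (IsPGroup.of_equiv (e ▸ hK) topEquiv : IsPGroup p S).isNilpotent
    exact ⟨⟨IsSimpleGroup.comm_iff_isSolvable.2 inferInstance⟩⟩)
  have k : ∀ g, ∃ i ≤ 1, (cj g (P : Subgroup S)).relIndex P = p ^ i := fun g => by
    have h1 := hP.cj g
    rw [cj_top] at h1
    obtain ⟨i, hi⟩ := (IsPGroup.iff_card.1 P.2)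
    obtain ⟨j, -, hj⟩ := (Nat.dvd_prime_pow Fact.out).1 (hi ▸ relIndex_dvd_card (cj g (P : Subgroup S)) P)
    refine ⟨j, Nat.lt_succ_iff.1 ((Nat.pow_lt_pow_iff_right (Fact.out : p.Prime).one_lt).1 (lt_of_le_of_lt ?_ hn)), hj⟩
    rw [← hj, card_sylow_top h1, ← inf_relIndex_right, show cj g (P : Subgroup S) ⊓ P = N(cj g (P : Subgroup S)) ⊓ P from
      le_antisymm (inf_le_inf_right _ le_normalizer) (le_inf (h1.le_of_le_normalizer P.2.to_inf_right le_top
        inf_le_left) inf_le_right), inf_relIndex_right, ← relIndex_top_right]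
    exact relIndex_le_of_le_right le_top (relIndex_ne_zero _ _)
  have c : ⁅(P : Subgroup S), (P : Subgroup S)⁆ ≤ (P : Subgroup S).normalCore := fun x hx g => by
    obtain ⟨i, hi, e⟩ := k g⁻¹
    have := commutator_le_of_card_sq P.2 (inf_le_right : cj g⁻¹ (P : Subgroup S) ⊓ P ≤ P) ?_ ?_ hx
    · simpa using mem_cj.1 this.1
    · rcases Nat.le_one_iff_eq_zero_or_eq_one.1 hi with rfl | rfl
      · rw [inf_eq_right.2 (relIndex_eq_one.1 e)]; exact le_normalizer
      · exact le_normalizer_of_relIndex_prime P.2 inf_le_right (by rw [inf_relIndex_right, e, pow_one])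
    · rw [← CfsgH1.card_inf_mul_relIndex (cj g⁻¹ (P : Subgroup S)) P, e]
      exact Nat.mul_le_mul_left _ (Nat.pow_le_pow_right (Fact.out : p.Prime).pos (by omega))
  rw [(normalCore_normal _).eq_bot_or_eq_top.resolve_right (nt _ (P.2.to_le (normalCore_le _)))] at c
  obtain ⟨g, hg⟩ := Cfsg.Agent.S0060.result p P (comm_iff.2 (cent_of_comm_eq_bot (le_bot_iff.1 c)))
    ((inferInstance : (pCore p S).Normal).eq_bot_or_eq_top.resolve_right (nt _ (CfsgH1.isPGroup_pCore p S)))
  obtain ⟨i, hi, e⟩ := k g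
  rw [← inf_relIndex_right, inf_comm, cj_eq_smul, hg, relIndex_bot_left] at e
  rcases Nat.le_one_iff_eq_zero_or_eq_one.1 hi with rfl | rfl
  · exact absurd (by rwa [Subgroup.card_top]) (hP.eq_bot_iff.1 (card_eq_one.1 e))
  · rw [e, pow_one]


end Cfsg.Agent.S4343
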