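import Cfsg.Statements.S4344
import Cfsg.Agent.H2.Cls

set_option autoImplicit false
open Cfsg

namespace Cfsg.Agent.S4344
open Subgroup CfsgH2
open scoped commutatorElement

open CfsgFT

/-- Let S be a finite non-abelian simple group, M a maximal subgroup of S and C a cyclic normal subgroup of M. If a Sylow p-subgroup P of S (for a prime p dividing the order of S) is contained in C, then the number of Sylow p-subgroups of S equals the index of M. -/
theorem result {S : Type*} [Group S] [Finite S]
    [IsSimpleGroup S] (hS : ¬ IsMulCommutative S) (p : ℕ) [Fact p.Prime] (hp : p ∣ Nat.card S)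
    (M : Subgroup S) (hM : IsCoatom M) (C : Subgroup S) (hCM : C ≤ M) (hCn : (C.subgroupOf M).Normal)
    (hC : IsCyclic C) (P : Sylow p S) (hP : (P : Subgroup S) ≤ C) :
    Nat.card (Sylow p S) = M.index := by
  have h1 : M ≤ N(P) := by
    have : IsSylowIn p (P : Subgroup S) C := .of_sylow P hP
    rw [sylow_eq_Op this (le_norm_of_comm (comm_of_cyclic hC) hP)]
    exact le_norm_Op (le_norm_of_normal_subgroupOf hCM hCn)
  refine P.card_eq_index_normalizer.trans (congrArg index ((hM.le_iff.1 h1).resolve_left fun e => ?_))
  rcases (normal_of_top_le e.ge).eq_bot_or_eq_top with h | h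
  · exact (IsSylowIn.of_sylow_top P).eq_bot_iff.1 h (by rwa [Subgroup.card_top])
  · exact hM.1 (top_le_iff.1 (h.ge.trans (hP.trans hCM)))


end Cfsg.Agent.S4344
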