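import Cfsg.Statements.S4345
import Cfsg.Agent.H2.SylNum

set_option autoImplicit false
open Cfsg

namespace Cfsg.Agent.S4345
open Subgroup CfsgH2
open scoped commutatorElement

open CfsgFT

/-- Let G be a finite solvable group and p, ℓ primes. Then the largest power of ℓ dividing the number of Sylow p-subgroups of G is congruent to 1 modulo p. -/
theorem result {G : Type*} [Group G] [Finite G]
    (hG : Group.IsSolvable G) (p ℓ : ℕ) [Fact p.Prime] (hℓ : ℓ.Prime) :
    ℓ ^ (Nat.card (Sylow p G)).factorization ℓ ≡ 1 [MOD p] := by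
  obtain ⟨l, a, b⟩ := sylow_number_list (p := p) _ G rfl
  rw [← a]
  have b' : ∀ m ∈ l, m ≠ 0 ∧ ℓ ^ m.factorization ℓ ≡ 1 [MOD p] := fun m hm => by
    rcases b m hm with ⟨h1, h2⟩ | ⟨S, _, _, c, d, rfl⟩
    · obtain ⟨q, k, hq, -, rfl⟩ := (isPrimePow_nat_iff _).1 h1
      refine ⟨h1.ne_zero, ?_⟩
      rw [hq.factorization_pow, Finsupp.single_apply]
      split_ifs with e
      · exact e ▸ h2.trans (Nat.mod_eq_of_lt (Fact.out : p.Prime).one_lt).symm
      · rfl
    · obtain ⟨P, hP⟩ := IsSylowIn.exists_sylowIn p (⊤ : Subgroup S)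
      haveI := d hG
      rw [card_sylow_top hP, top_le_iff.1 (le_norm_of_comm (fun x _ => mem_cent.2 fun y _ =>
        IsSimpleGroup.comm_iff_isSolvable.2 this y x) le_top), index_top]
      simp [Nat.ModEq]
  clear a b
  induction l with
  | nil => simp [Nat.ModEq]
  | cons m l ih =>
    rw [List.prod_cons, Nat.factorization_mul (b' m List.mem_cons_self).1 (List.prod_ne_zero fun h =>
      (b' 0 (List.mem_cons_of_mem _ h)).1 rfl), Finsupp.add_apply, pow_add]
    exact (b' m List.mem_cons_self).2.mul (ih fun n h => b' n (List.mem_cons_of_mem _ h))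


end Cfsg.Agent.S4345
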