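import Cfsg.Statements.S4347
import Cfsg.Agent.H2.Cls

set_option autoImplicit false
open Cfsg

namespace Cfsg.Agent.S4347
open Subgroup CfsgH2
open scoped commutatorElement

/-- Let G be a finite group and p a prime. Say a Sylow p-subgroup Q is redundant when every element of p-power order lies in some Sylow p-subgroup other than Q. Then G has no redundant Sylow p-subgroup if and only if some element of p-power order lies in exactly one Sylow p-subgroup. -/
theorem result {G : Type*} [Group G] [Finite G]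
    (p : ℕ) [Fact p.Prime] :
    (¬ ∃ Q : Sylow p G, ∀ x : G, (∃ k : ℕ, orderOf x = p ^ k) → ∃ P : Sylow p G, P ≠ Q ∧ x ∈ P) ↔
      ∃ x : G, (∃ k : ℕ, orderOf x = p ^ k) ∧ ∃! P : Sylow p G, x ∈ P := by
  constructor
  · intro h
    push Not at h
    obtain ⟨x, h1, h2⟩ := h default
    obtain ⟨k, hk⟩ := h1
    obtain ⟨Q, hQ⟩ := (isPGroup_zpowers_of_orderOf hk).exists_le_sylow
    have e : ∀ P : Sylow p G, x ∈ P → P = default := fun P h => by_contra fun e => h2 P e h
    exact ⟨x, ⟨k, hk⟩, Q, hQ (mem_zpowers x), fun P h => (e P h).trans (e Q (hQ (mem_zpowers x))).symm⟩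
  · rintro ⟨x, ⟨k, hk⟩, P, h1, h2⟩ ⟨Q, h⟩
    obtain ⟨g, rfl⟩ := MulAction.exists_smul_eq G P Q
    obtain ⟨R, a, b⟩ := h (g * x * g⁻¹) ⟨k, by rwa [orderOf_conj']⟩
    refine a (inv_smul_eq_iff.1 (h2 (g⁻¹ • R) ?_))
    change x ∈ ((g⁻¹ • R : Sylow p G) : Subgroup G)
    rw [sylow_smul_coe, mem_cj, inv_inv]
    exact b


end Cfsg.Agent.S4347
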