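import Cfsg.Statements.S4348
import Cfsg.Agent.H2.Cls

set_option autoImplicit false
open Cfsg

namespace Cfsg.Agent.S4348
open Subgroup CfsgH2
open scoped commutatorElement

/-- Let G be a finite group, p a prime and P a Sylow p-subgroup of G, and let O_p(G) be the largest normal p-subgroup of G. If P/O_p(G) is cyclic, then some element of p-power order of G lies in exactly one Sylow p-subgroup. -/
theorem result {G : Type*} [Group G] [Finite G]
    (p : ℕ) [Fact p.Prime] (P : Sylow p G)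
    [hn : ((Cfsg.pCore p G).subgroupOf (P : Subgroup G)).Normal]
    (hc : IsCyclic ((P : Subgroup G) ⧸ (Cfsg.pCore p G).subgroupOf (P : Subgroup G))) :
    ∃ x : G, (∃ k : ℕ, orderOf x = p ^ k) ∧ ∃! Q : Sylow p G, x ∈ Q := by
  obtain ⟨y, hy⟩ := hc.exists_zpow_surjective
  obtain ⟨x, rfl⟩ := QuotientGroup.mk_surjective y
  refine ⟨x, exists_orderOf_eq_pow P.2 x.2, P, x.2, fun Q h => (Sylow.ext_iff.2 ?_).symm⟩
  refine ((IsSylowIn.of_sylow_top P).eq_of_le Q.2 (fun z hz => ?_) le_top).symm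
  obtain ⟨k, hk⟩ := hy (QuotientGroup.mk ⟨z, hz⟩)
  have h0 : (x ^ k)⁻¹ * ⟨z, hz⟩ ∈ (pCore p G).subgroupOf (P : Subgroup G) := QuotientGroup.eq.1 hk
  have := CfsgH1.pCore_le_sylow Q h0
  simpa using (Q : Subgroup G).mul_mem ((Q : Subgroup G).zpow_mem h k) this


end Cfsg.Agent.S4348
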