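import Cfsg.Statements.S4349
import Cfsg.Agent.H3.Hl2

set_option autoImplicit false
open Cfsg

namespace Cfsg.Agent.S4349

open CfsgPm CfsgH2 Subgroup Equiv Equiv.Perm Finset MulAction
variable {Ω : Type} [Fintype Ω] [DecidableEq Ω] {x : Perm Ω}

def Cd (x : Perm Ω) : Prop := #x.supportᶜ ≤ 2 ∧ ∀ u v, x u ≠ u → (∀ i : ℕ, (x ^ i) u = u ↔ (x ^ i) v = v) → ∃ i : ℕ, (x ^ i) u = v

omit [Fintype Ω] [DecidableEq Ω] in
theorem pe {u : Ω} {i : ℕ} : (x ^ i) u = u ↔ period x u ∣ i := pow_smul_eq_iff_period_dvd (m := x)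

omit [Fintype Ω] [DecidableEq Ω] in
theorem hf {u : Ω} {i j : ℕ} (a : (x ^ i) ((x ^ i) u) = u) (b : (x ^ j) ((x ^ j) u) = u) (c : (x ^ i) u ≠ u) (d : (x ^ j) u ≠ u) : (x ^ i) u = (x ^ j) u := by

  refine (x ^ i).injective (a.trans (Eq.symm ?_))
  simp only [← Perm.mul_apply, ← pow_add, pe, Ne] at *
  obtain ⟨s, a⟩ := a
  obtain ⟨t, b⟩ := b
  obtain ⟨s, rfl | rfl⟩ := Nat.even_or_odd' s
  · exact (c ⟨s, by linarith⟩).elim
  obtain ⟨t, rfl | rfl⟩ := Nat.even_or_odd' t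
  exacts [(d ⟨t, by linarith⟩).elim, ⟨s + t + 1, by linarith⟩]

theorem half {k : ℕ} (hx : orderOf x = 2 ^ k) {u : Ω} (n : x u ≠ u) {i : ℕ} (e : (x ^ i) u = u) : ∃ j, i = j + j :=
  (Nat.even_or_odd i).resolve_right fun o => n (fixpow (hx ▸ (Nat.coprime_two_right.2 o).pow_right k) e)

theorem part {P : Sylow 2 (Perm Ω)} (hP : x ∈ P.1) {t : Perm Ω} (ht : t ∈ Tr P.1) {u : Ω} (a : t u ≠ u) (i : ℕ) :
    (x ^ i * t * (x ^ i)⁻¹ = t ↔ (x ^ i) u = u ∨ (x ^ i) u = t u) ∧ ((x ^ i) u = u ↔ (x ^ i) (t u) = t u) ∧ ((x ^ i) u = t u → (x ^ i) (t u) = u) := by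
  have m := (le_nTr _ (pow_mem hP i) t).1 ht
  have e : ∀ z, t z ≠ z → t ((x ^ i) z) ≠ (x ^ i) z → ∀ y, (x ^ i) (t y) = t ((x ^ i) y) := fun z b c =>
    DFunLike.congr_fun (mul_inv_eq_iff_eq_mul.1 (tr_eq P.2 m ht (by simpa using b) c))
  have s := sw_sw ht.2 u
  refine ⟨⟨fun h => eq_or_eq_of_swap_apply_ne_self (by rw [← sw_eq ht.2 a, ← h]; simpa), fun h => tr_eq P.2 m ht (x := (x ^ i) u) (by simpa) (by rcases h with h | h <;> simpa [h])⟩,
    ⟨fun h => by rw [e u a (by rwa [h]), h], fun h => ?_⟩, fun h => by rw [e u a (by simpa [h]), h, s]⟩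
  simpa [s, h] using e (t u) (by simpa) (by simpa [h]) (t u)

theorem uniq (n : ℕ) : ∀ {Ω : Type} [Fintype Ω] [DecidableEq Ω] {x : Perm Ω}, Fintype.card Ω = n → (∃ k, orderOf x = 2 ^ k) → Cd x → ∀ P Q : Sylow 2 (Perm Ω), x ∈ P.1 → x ∈ Q.1 → P = Q := by
  induction n using Nat.strong_induction_on with | _ n ih => ?_
  rintro Ω _ _ x rfl ⟨k, hx⟩ c P Q hP hQ
  classical
  have w : ∀ {P : Sylow 2 (Perm Ω)}, x ∈ P.1 → ∀ t ∈ Tr P.1, ∀ u, t u ≠ u → x u ≠ u → ∃ i : ℕ, (x ^ i) u = t u ∧ (x ^ i) ((x ^ i) u) = u := fun hP t ht u a b =>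
    (c.2 u (t u) b fun i => (part hP ht a i).2.1).imp fun i e => ⟨e, e ▸ (part hP ht a i).2.2 e⟩
  have f : ∀ {P : Sylow 2 (Perm Ω)}, x ∈ P.1 → ∀ t ∈ Tr P.1, ∀ u, t u ≠ u → x u = u → ∀ z, x z = z → z = u ∨ z = t u := fun hP t ht u a b z e => by
    have := (part hP ht a 1).2.1.1 b
    simpa [e] using (eq_of_subset_of_card_le (s := {u, t u}) (by simpa [insert_subset_iff] using ⟨b, this⟩) (c.1.trans (card_pair a.symm).ge)).ge (show z ∈ _ by simpa)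
  have l : ∀ P Q : Sylow 2 (Perm Ω), x ∈ P.1 → x ∈ Q.1 → Tr P.1 ⊆ Tr Q.1 := fun P Q hP hQ t ht => by
    obtain ⟨u, a, s, hs, b⟩ : ∃ u, t u ≠ u ∧ ∃ s ∈ Tr Q.1, s u ≠ u := by
      obtain ⟨u, a⟩ := sw_mv ht.2
      by_contra! k
      exact a (unc Q (k _ (by simpa)) (k u a))
    refine sw_eq ht.2 a ▸ (?_ : s u = t u) ▸ sw_eq hs.2 b ▸ hs
    by_cases e : x u = u
    · exact (f hP t ht u a e _ ((part hQ hs b 1).2.1.1 e)).resolve_left b
    obtain ⟨i, i1, i2⟩ := w hP t ht u a e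
    obtain ⟨j, j1, j2⟩ := w hQ s hs u b e
    exact j1 ▸ i1 ▸ hf j2 i2 (j1 ▸ b) (i1 ▸ a)
  obtain ⟨R, hR⟩ := ex_bar P
  obtain ⟨S, hS⟩ := ex_bar Q
  have e := (l P Q hP hQ).antisymm (l Q P hQ hP)
  have p := le_nTr P.1
  have q := le_nTr Q.1
  revert S q
  rw [← e]
  intro S hS q
  rcases isEmpty_or_nonempty Ω with _ | _
  · exact Sylow.ext (Subsingleton.elim _ _)
  let y := nh (Tr P.1) ⟨x, p hP⟩
  have a : ∀ (i : ℕ) t, ((y ^ i) t).1 = x ^ i * t * (x ^ i)⁻¹ := fun i t => by rw [← map_pow]; rfl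
  suffices r : R = S from Sylow.ext (Subgroup.ext fun g => ⟨fun h => (hS ⟨g, p h⟩).1 (r ▸ (hR _).2 h), fun h => (hR ⟨g, q h⟩).1 (r ▸ (hS _).2 h)⟩)
  refine ih _ (by have := card_tr P; have := Fintype.card_pos (α := Ω); rw [Nat.card_eq_fintype_card] at *; omega) (x := y) rfl
    (let ⟨j, _, h⟩ := (Nat.dvd_prime_pow Nat.prime_two).1 (hx ▸ (orderOf_map_dvd _ _).trans (orderOf_mk _ _).dvd); ⟨j, h⟩) ⟨?_, fun t s n h => ?_⟩ R S ((hR _).2 hP) ((hS _).2 hQ)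
  · choose u hu using fun t : Tr P.1 => sw_mv t.2.2
    refine (card_le_card_of_injOn (t := univ) (fun t => decide (x (u t) = u t)) (fun _ _ => mem_univ _) fun t ht s hs e => Subtype.ext ?_).trans (by simp)
    simp only [decide_eq_decide, mem_coe, mem_compl, notMem_support, Subtype.ext_iff] at e ht hs
    by_cases k : x (u t) = u t
    · exact tr_eq P.2 t.2 s.2 (x := u s) (by rcases f hP t t.2 _ (hu t) k _ (e.1 k) with h | h <;> simpa [h] using hu t) (hu s)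
    have z : ∀ t : Tr P.1, (y t).1 = t → x (u t) ≠ u t → ∀ i : ℕ, (x ^ (i + i)) (u t) = u t := fun t h n i => by
      have := ((part hP t.2 (hu t) 1).1.1 ((a 1 t).symm.trans h)).resolve_left n
      rw [← two_mul, pow_mul]
      exact pow_apply_eq_self_of_apply_eq_self ((congrArg x this).trans ((part hP t.2 (hu t) 1).2.2 this) : x (x _) = _) i
    obtain ⟨i, hi⟩ := c.2 (u t) (u s) k fun i => ⟨fun h => by obtain ⟨j, rfl⟩ := half hx k h; exact z s hs (mt e.2 k) j, fun h => by obtain ⟨j, rfl⟩ := half hx (mt e.2 k) h; exact z t ht k j⟩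
    refine tr_eq P.2 t.2 s.2 (x := u s) ?_ (hu s)
    rw [← hi, ← (a i t).symm.trans (congrArg _ (pow_apply_eq_self_of_apply_eq_self (Subtype.ext ht) i))]
    simpa using hu t
  have z : ∀ t : Tr P.1, y t ≠ t → ∃ u, t.1 u ≠ u ∧ x u ≠ u ∧ ∀ i : ℕ, (y ^ i) t = t ↔ (x ^ (i + i)) u = u := fun t n => by
    obtain ⟨u, b⟩ := sw_mv t.2.2
    have d : x u ≠ u := fun e => n (Subtype.ext ((a 1 t).trans ((part hP t.2 b 1).1.2 (.inl e))))
    obtain ⟨j, j1, j2⟩ := w hP t t.2 u b d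
    refine ⟨u, b, d, fun i => ?_⟩
    rw [Subtype.ext_iff, a, (part hP t.2 b i).1, pow_add, Perm.mul_apply]
    exact ⟨fun h => h.elim (fun h => by rw [h, h]) fun h => h ▸ (part hP t.2 b i).2.2 h, fun h => or_iff_not_imp_left.2 fun g => j1 ▸ hf h j2 g (j1 ▸ b)⟩
  obtain ⟨u, u1, u2, u3⟩ := z t n
  obtain ⟨v, v1, v2, v3⟩ := z s (mt (h 1).2 n)
  obtain ⟨i, rfl⟩ := c.2 u v u2 fun i => ⟨fun e => by obtain ⟨j, rfl⟩ := half hx u2 e; exact (v3 j).1 ((h j).1 ((u3 j).2 e)),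
    fun e => by obtain ⟨j, rfl⟩ := half hx v2 e; exact (u3 j).1 ((h j).2 ((v3 j).2 e))⟩
  exact ⟨i, Subtype.ext (tr_eq P.2 ((y ^ i) t).2 s.2 (by simpa [a] using u1) v1)⟩

theorem sw {k : ℕ} (hx : orderOf x = 2 ^ k) {u v : Ω} (h : ∀ i : ℕ, ((x ^ i) u = u ↔ (x ^ i) v = v) ∧ ((x ^ i) u = v ↔ (x ^ i) v = u)) : ∃ P : Sylow 2 (Perm Ω), x ∈ P.1 ∧ swap u v ∈ P.1 := by
  let S := Set.range fun i : ℕ => swap ((x ^ i) u) ((x ^ i) v)
  have c : ∀ i j : ℕ, Commute (swap ((x ^ i) u) ((x ^ i) v)) (swap ((x ^ (i + j)) u) ((x ^ (i + j)) v)) := fun i j => by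
    rw [pow_add, Perm.mul_apply, Perm.mul_apply, swap_apply_apply, swap_apply_apply (x ^ i)]
    refine Commute.map ?_ (MulAut.conj (x ^ i))
    have := h j
    by_cases a : (x ^ j) u = u
    · rw [a, this.1.1 a]; rfl
    by_cases b : (x ^ j) u = v
    · rw [b, this.2.1 b, swap_comm]; rfl
    exact mul_inv_eq_iff_eq_mul.1 (by rw [← swap_apply_apply, swap_apply_of_ne_of_ne a b, swap_apply_of_ne_of_ne (mt this.2.2 b) (mt this.1.2 a)])
  haveI := isMulCommutative_closure (k := S) (by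
    rintro _ ⟨i, rfl⟩ _ ⟨j, rfl⟩
    obtain ⟨j, rfl⟩ | ⟨i, rfl⟩ := (le_total i j).imp Nat.exists_eq_add_of_le Nat.exists_eq_add_of_le
    exacts [c i j, (c j i).symm])
  obtain ⟨P, hP⟩ := (IsPGroup.to_sup_of_normal_left' (H := closure S) (fun ⟨g, hg⟩ => ⟨1, Subtype.ext (show g ^ 2 = 1 by
      induction hg using closure_induction with
      | mem g h => obtain ⟨i, rfl⟩ := h; simp [sq]
      | one => simp
      | mul g h a b c d => rw [Commute.mul_pow (setLike_mul_comm a b), c, d, one_mul]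
      | inv g _ a => rw [inv_pow, a, inv_one])⟩) (isPGroup_zpowers_of_orderOf hx) (zpowers_le.2 (mem_normalizer_of_cj_le (by
    rw [cj, MonoidHom.map_closure]
    exact closure_mono fun _ ⟨_, ⟨i, rfl⟩, e⟩ => ⟨i + 1, by simp [← e, pow_succ', swap_apply_apply x]⟩)))).exists_le_sylow
  exact ⟨P, hP (mem_sup_right (mem_zpowers x)), hP (mem_sup_left (subset_closure ⟨0, rfl⟩))⟩

theorem cd_iff : Cd x ↔ Fintype.card Ω ≤ #x.support + 2 ∧ x.cycleType.Nodup := by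
  have p : ∀ u, x u ≠ u → ∀ i : ℕ, (x ^ i) u = u ↔ #(x.cycleOf u).support ∣ i := fun u h i =>
    (isCycleOn_support_cycleOf x u).pow_apply_eq (mem_support_cycleOf_iff.2 ⟨.refl _ _, mem_support.2 h⟩)
  rw [Cd, card_compl, cycleType_def, Multiset.nodup_map_iff_inj_on (Finset.nodup _)]
  refine and_congr (by omega) ⟨fun h c hc d hd e => ?_, fun h u v a e => ?_⟩
  · obtain ⟨u, a⟩ := (mem_cycleFactorsFinset_iff.1 hc).1.nonempty_support
    obtain ⟨v, b⟩ := (mem_cycleFactorsFinset_iff.1 hd).1.nonempty_support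
    have a' := mem_support.1 (mem_cycleFactorsFinset_support_le hc a)
    obtain rfl := cycle_is_cycleOf a hc
    obtain rfl := cycle_is_cycleOf b hd
    obtain ⟨i, rfl⟩ := h u v a' fun i => by rw [p u a', p v (mem_support.1 (mem_cycleFactorsFinset_support_le hd b)), show #_ = #_ from e]
    simp
  have b : x v ≠ v := mt (e 1).2 a
  obtain ⟨i, -, r⟩ := ((sameCycle_iff_cycleOf_eq_of_mem_support (mem_support.2 a) (mem_support.2 b)).2 (h _ (cycleOf_mem_cycleFactorsFinset_iff.2 (mem_support.2 a)) _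
    (cycleOf_mem_cycleFactorsFinset_iff.2 (mem_support.2 b)) (Nat.dvd_antisymm ((p u a _).1 ((e _).2 ((p v b _).2 dvd_rfl))) ((p v b _).1 ((e _).1 ((p u a _).2 dvd_rfl)))))).exists_pow_eq'
  exact ⟨i, r⟩

/-- Let n ≥ 2 and let x be an element of 2-power order of the symmetric group of degree n. Then x lies in exactly one Sylow 2-subgroup if and only if x has at most two fixed points and the nontrivial cycles of x have pairwise different lengths. -/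
theorem result (n : ℕ) (hn : 2 ≤ n)
    (x : Equiv.Perm (Fin n)) (hx : ∃ k : ℕ, orderOf x = 2 ^ k) :
    (∃! P : Sylow 2 (Equiv.Perm (Fin n)), x ∈ P) ↔ (n ≤ x.support.card + 2 ∧ x.cycleType.Nodup) := by
  obtain ⟨k, hk⟩ := hx
  refine .trans ⟨fun ⟨P, _, h⟩ => ?_, fun c => ?_⟩ (cd_iff.trans (by rw [Fintype.card_fin]))
  · obtain ⟨P, hP⟩ := (isPGroup_zpowers_of_orderOf hk).exists_le_sylow
    exact ⟨P, hP (mem_zpowers x), fun Q hQ => uniq _ rfl ⟨k, hk⟩ c _ _ hQ (hP (mem_zpowers x))⟩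
  have s := fun u v e => let ⟨Q, a, b⟩ := sw (u := u) (v := v) hk e; (h Q a ▸ b : swap u v ∈ P.1)
  refine ⟨not_lt.1 fun l => ?_, fun u v a e => by_contra fun n => ?_⟩
  · obtain ⟨u, v, w, a, b, c, d, e, f⟩ := two_lt_card_iff.1 l
    simp only [mem_compl, notMem_support] at a b c
    exact f (sw_uniq P.2 (s u v fun i => by simp [pow_apply_eq_self_of_apply_eq_self, a, b, eq_comm]) (s u w fun i => by simp [pow_apply_eq_self_of_apply_eq_self, a, c, eq_comm]) d.symm e.symm)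
  push Not at n
  obtain ⟨j, hj⟩ := half hk a (pe.2 dvd_rfl)
  have p := period_pos_of_orderOf_pos (orderOf_pos x) u
  have m : (x ^ j) ((x ^ j) u) = u := by rw [← Perm.mul_apply, ← pow_add, ← hj]; exact pe.2 dvd_rfl
  have c : ∀ i z, (x ^ i) ((x ^ j) z) = (x ^ j) ((x ^ i) z) := fun i z => by rw [← Perm.mul_apply, pow_mul_comm, Perm.mul_apply]
  refine n j (sw_uniq P.2 (s u _ fun i => ⟨by simp [c], by rw [c, ← (x ^ j).apply_eq_iff_eq, m]⟩) (s u v fun i => ⟨e i, iff_of_false (n i) fun r => ?_⟩)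
    (fun r => (Nat.le_of_dvd (by omega) (pe.1 r)).not_gt (by omega)) (n 0).symm)
  obtain ⟨i, -, r⟩ := (show x.SameCycle v u from ⟨i, r⟩).symm.exists_pow_eq'
  exact n i r

end Cfsg.Agent.S4349
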