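import Cfsg.Statements.S4354
import Cfsg.Agent.H2.CSize

set_option autoImplicit false
open Cfsg

namespace Cfsg.Agent.S4354
open Subgroup CfsgH2
open scoped commutatorElement

open CfsgFT CfsgH1

/-- Let G be a finite group and p a prime such that the Sylow p-subgroups of G are non-abelian while every element of p-power order has conjugacy class size prime to p, and suppose no nontrivial proper normal subgroup N of G has this property and no quotient G/N by such an N has it. Then G is simple. -/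
theorem result {G : Type*} [Group G] [Finite G]
    (p : ℕ) [Fact p.Prime] (h : ((∃ P : Sylow p G, ¬ IsMulCommutative P) ∧ ∀ x : G, (∃ k : ℕ, orderOf x = p ^ k) → ¬ p ∣ (Subgroup.centralizer ({x} : Set G)).index))
    (hmin : ∀ (N : Subgroup G) [N.Normal], N ≠ ⊥ → N ≠ ⊤ →
      ¬ ((∃ P : Sylow p N, ¬ IsMulCommutative P) ∧ ∀ x : N, (∃ k : ℕ, orderOf x = p ^ k) → ¬ p ∣ (Subgroup.centralizer ({x} : Set N)).index) ∧
      ¬ ((∃ P : Sylow p (G ⧸ N), ¬ IsMulCommutative P) ∧ ∀ x : (G ⧸ N), (∃ k : ℕ, orderOf x = p ^ k) → ¬ p ∣ (Subgroup.centralizer ({x} : Set (G ⧸ N))).index)) :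
    IsSimpleGroup G := by
  obtain ⟨⟨P, hP⟩, h⟩ := h
  haveI : Nontrivial G := by
    by_contra e
    haveI := not_nontrivial_iff_subsingleton.1 e
    exact hP ⟨⟨fun _ _ => Subsingleton.elim _ _⟩⟩
  refine ⟨fun N _ => ?_⟩
  by_contra hc
  push Not at hc
  obtain ⟨h1, h2⟩ := hmin N hc.1 hc.2
  have h1 : ∀ Q : Sylow p N, IsMulCommutative Q := fun Q => by
    by_contra e
    exact h1 ⟨⟨Q, e⟩, fun x ⟨k, hk⟩ hd => h x ⟨k, by rw [orderOf_coe, hk]⟩ (hd.trans (index_C1_subgroup_dvd x))⟩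
  have h2 : ∀ Q : Sylow p (G ⧸ N), IsMulCommutative Q := fun Q => by
    by_contra e
    refine h2 ⟨⟨Q, e⟩, fun x ⟨k, hk⟩ hd => ?_⟩
    obtain ⟨x, rfl⟩ := QuotientGroup.mk'_surjective N x
    obtain ⟨y, -, y1, y2⟩ := CfsgH9.exists_p_lift (QuotientGroup.mk' N) x hk
    exact h y y1 ((y2 ▸ hd).trans (index_C1_map_dvd _ (QuotientGroup.mk'_surjective N) y))
  refine hP (comm_iff.2 (comm_of_pcentral (N := N) (IsSylowIn.of_sylow_top P)
    (fun x hx => h x (exists_orderOf_eq_pow P.2 hx)) ?_ ?_))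
  · have := IsSylowIn.sylow_inf_normal P N
    rw [← this.toSylow_map]
    exact map_le_cent _ (comm_iff.1 (h1 _))
  · have := (IsSylowIn.of_sylow_top P).map (QuotientGroup.mk' N)
    rw [map_top_of_surjective _ (QuotientGroup.mk'_surjective N)] at this
    obtain ⟨Q, hQ⟩ := this.of_top
    rw [← map_mk'_eq_bot_iff, map_commutator, ← hQ]
    exact comm_eq_bot (comm_iff.1 (h2 Q))


end Cfsg.Agent.S4354
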