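import Cfsg.Statements.S4364
import Cfsg.Agent.H1.Ten4

set_option autoImplicit false
open Cfsg

namespace Cfsg.Agent.S4364

/-- Let G be a finite group, p a prime and x an element whose conjugacy class has p-power size. Then for any two conjugates y and z of x, the commutator y z y⁻¹ z⁻¹ lies in O_p(G), the largest normal p-subgroup of G. -/
theorem result {G : Type*} [Group G] [Finite G] (p : ℕ) [Fact p.Prime]
    (x : G) (hx : ∃ a : ℕ, (Subgroup.centralizer ({x} : Set G)).index = p ^ a) (g h : G) :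
    (g * x * g⁻¹) * (h * x * h⁻¹) * (g * x * g⁻¹)⁻¹ * (h * x * h⁻¹)⁻¹ ∈ Cfsg.pCore p G := by
  open Subgroup CfsgH1 CfsgFT CfsgH2 in
  have h1 := kaz_quo hx
  set f := QuotientGroup.mk' (Cfsg.pCore p G)
  set Z := Cfsg.fittingSubgroup (G ⧸ Cfsg.pCore p G) ⊓
    centralizer (Cfsg.fittingSubgroup (G ⧸ Cfsg.pCore p G) : Set _)
  haveI : Z.Normal := inferInstance
  have h2 : ∀ g : G, f (g * x * g⁻¹) ∈ Z := fun g => by
    rw [map_mul, map_mul, map_inv]; exact Normal.conj_mem inferInstance _ h1 _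
  rw [← QuotientGroup.ker_mk' (Cfsg.pCore p G), MonoidHom.mem_ker, map_mul, map_mul, map_mul,
    map_inv, map_inv]
  change f _ * f _ * (f _)⁻¹ * (f _)⁻¹ = 1
  rw [(h2 h).2 _ (h2 g).1]
  group

end Cfsg.Agent.S4364
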