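import Cfsg.Statements.S4365
import Cfsg.Agent.H2.PGroup2
import Cfsg.Agent.FT.Hall

set_option autoImplicit false
open Cfsg

namespace Cfsg.Agent.S4365

/-- Let P be a finite p-group whose conjugacy class sizes are exactly 1 and pᵃ for some a ≥ 1. Then every element of P has its p-th power in the center of P (P/Z(P) has exponent p). -/
theorem result {P : Type*} [Group P] [Finite P] (p : ℕ) [Fact p.Prime]
    (hP : IsPGroup p P) (a : ℕ) (ha : 1 ≤ a)
    (hcs : {k : ℕ | ∃ x : P, (Subgroup.centralizer ({x} : Set P)).index = k} = {1, p ^ a}) (x : P) :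
    x ^ p ∈ Subgroup.center P := by
  open Subgroup CfsgH1 CfsgH2 CfsgFT in
  have hp : p.Prime := Fact.out
  have ix : ∀ y : P, y ∉ center P → (centralizer ({y} : Set P)).index = p ^ a := fun y hy =>
    (hcs.le ⟨y, rfl⟩).resolve_left fun e => hy (mem_center_iff.2 fun g =>
      mem_centralizer_singleton_iff.1 ((index_eq_one.1 e).ge (mem_top g)))
  have eqc : ∀ y z : P, y ∉ center P → z ∉ center P → centralizer ({y} : Set P) ≤ centralizer {z} → centralizer ({y} : Set P) = centralizer {z} :=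
    fun y z a b c => le_antisymm c (relIndex_eq_one.1 (Nat.eq_of_mul_eq_mul_right (Nat.pos_of_ne_zero index_ne_zero_of_finite)
      ((relIndex_mul_index c).trans (by rw [ix y a, ix z b, one_mul]))))
  by_contra hx
  have x0 : x ∉ center P := fun h => hx (pow_mem h p)
  obtain ⟨z, -, z1, z2, z3⟩ := exists_central_mod (V := ⊤) (N := ⊤) (hP.to_subgroup ⊤) le_rfl le_normalizer fun h => x0 (h (mem_top x))
  have pw : ∀ u v : P, v * u * v⁻¹ * u⁻¹ ∈ center P → ∀ k : ℕ, v ^ k * u * (v ^ k)⁻¹ * u⁻¹ = (v * u * v⁻¹ * u⁻¹) ^ k := fun u v h k => by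
    induction k with
    | zero => simp
    | succ k ih =>
      calc _ = v * (v ^ k * u * (v ^ k)⁻¹ * u⁻¹) * v⁻¹ * (v * u * v⁻¹ * u⁻¹) := by group
        _ = _ := by rw [ih, mem_center_iff.1 (pow_mem h k) v, mul_inv_cancel_right, pow_succ]
  have sw : ∀ u v : P, v * u * v⁻¹ * u⁻¹ ∈ center P → u * v * u⁻¹ * v⁻¹ ∈ center P := fun u v h => by
    simpa [mul_assoc] using inv_mem h
  have pp : ∀ u v : P, v * u * v⁻¹ * u⁻¹ ∈ center P → v ^ p * u = u * v ^ p → u ^ p * v = v * u ^ p := fun u v h e => by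
    have h1 := pw u v h p
    have h2 := pw v u (sw u v h) p
    rw [e, mul_inv_cancel_right, mul_inv_cancel] at h1
    rw [show u * v * u⁻¹ * v⁻¹ = (v * u * v⁻¹ * u⁻¹)⁻¹ by group, inv_pow, ← h1, inv_one, mul_inv_eq_one, mul_inv_eq_iff_eq_mul] at h2
    exact h2
  set C := centralizer ({z} : Set P)
  have out : ∀ y, y ∉ C → y ^ p ∈ center P := fun y hy => by
    by_contra e
    have := eqc y (y ^ p) (fun h => e (pow_mem h p)) e fun g hg => mem_cent1.2 (Commute.pow_left (mem_cent1.1 hg) p)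
    exact hy (mem_cent1_symm (this.ge (mem_cent1.2 (pp y z (sw _ _ (z3 y (mem_top y))) (mem_center_iff.1 z2 y).symm))))
  have xC : x ∈ C := by by_contra e; exact hx (out x e)
  have eC : centralizer {x} = C := eqc x z x0 z1 fun w hw => by
    by_contra e
    have := out (x * w) fun h => e (by simpa using mul_mem (inv_mem xC) h)
    rw [Commute.mul_pow (mem_cent1.1 hw)] at this
    exact hx (by simpa using mul_mem this (inv_mem (out w e)))
  have dC : ∀ u v : P, u * v * u⁻¹ * v⁻¹ ∈ C := fun u v => mem_cent1'.2 (by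
    have a := mem_center_iff.1 (z3 (u * v) (mem_top _))
    have b := mem_center_iff.1 (z3 u (mem_top _))
    have c := mem_center_iff.1 (z3 v (mem_top _))
    have : ∀ u v : P, u * v * z * (u * v)⁻¹ * z⁻¹ = (u * z * u⁻¹ * z⁻¹) * (v * z * v⁻¹ * z⁻¹) := fun u v => by
      calc _ = u * (v * z * v⁻¹ * z⁻¹) * u⁻¹ * (u * z * u⁻¹ * z⁻¹) := by group
        _ = _ := by rw [mem_center_iff.1 (z3 v (mem_top _)) u, mul_inv_cancel_right, mem_center_iff.1 (z3 u (mem_top _))]
    have e : u * v * z * (u * v)⁻¹ = v * u * z * (v * u)⁻¹ := mul_right_cancel (b := z⁻¹) (by rw [this, this, b])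
    have e2 := this (u * v) (v * u)⁻¹
    have e3 := this (v * u) (v * u)⁻¹
    rw [e, ← e3] at e2
    calc _ = (u * v * (v * u)⁻¹ * z * (u * v * (v * u)⁻¹)⁻¹ * z⁻¹) * z * (u * v * u⁻¹ * v⁻¹) := by group
      _ = _ := by rw [e2]; group)
  haveI : C.Normal := ⟨fun c hc g => by simpa using mul_mem (dC g c) hc⟩
  set A := C ⊓ centralizer (C : Set P)
  have xA : x ∈ A := ⟨xC, fun c hc => mem_cent1'.1 (eC.ge hc)⟩
  have cA : ∀ u ∈ A, ∀ y, y ∉ C → y * u = u * y → u ∈ center P := fun u hu y hy e => by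
    by_contra k
    exact hy ((eqc z u z1 k fun c hc => mem_cent1'.2 (hu.2 c hc)).ge (mem_cent1'.2 e))
  obtain ⟨y, hy⟩ : ∃ y, y ∉ C := by
    by_contra! e; exact z1 (mem_center_iff.2 fun g => mem_cent1'.1 (e g))
  have y0 : y ∉ center P := fun h => hy (mem_cent1.2 (mem_center_iff.1 h z))
  let π := QuotientGroup.mk' (center P)
  set B := A ⊓ (center (P ⧸ center P)).comap π
  have mB : ∀ u, u ∈ (center (P ⧸ center P)).comap π ↔ ∀ g, g * u * g⁻¹ * u⁻¹ ∈ center P := fun u => by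
    rw [mem_comap, mem_center_iff, QuotientGroup.forall_mk]
    refine forall_congr' fun g => ?_
    rw [← QuotientGroup.eq_one_iff, QuotientGroup.mk_mul, QuotientGroup.mk_mul, QuotientGroup.mk_mul, QuotientGroup.mk_inv,
      QuotientGroup.mk_inv, mul_inv_eq_one, mul_inv_eq_iff_eq_mul]; rfl
  have xB : x ∉ B := fun h => hx (cA _ (pow_mem xA p) y hy (pp x y ((mB x).1 h.2 y) (mem_center_iff.1 (out y hy) x).symm).symm)
  obtain ⟨u, u1, u2, -, u3⟩ := exists_central_mod (V := ⊤) (N := A) (M := B) (hP.to_subgroup ⊤) le_top le_normalizer_of_normal fun h => xB (h xA)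
  have K : (centralizer ({π u} : Set _)).comap π ≤ C := fun g hg => by
    by_contra e
    have g1 : g * u * g⁻¹ * u⁻¹ ∈ center P := by
      rw [← QuotientGroup.eq_one_iff, QuotientGroup.mk_mul, QuotientGroup.mk_mul, QuotientGroup.mk_mul, QuotientGroup.mk_inv,
        QuotientGroup.mk_inv, mul_inv_eq_one, mul_inv_eq_iff_eq_mul]
      exact mem_cent1'.1 hg
    refine u2 ⟨u1, (mB u).2 fun h => cA _ (u3 h (mem_top h)).1 g e ?_⟩
    have a := u1.2 _ (dC h⁻¹ g⁻¹)
    have b := mem_center_iff.1 g1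
    rw [← mul_inv_eq_iff_eq_mul]
    calc _ = h * g * ((h⁻¹ * g⁻¹ * h⁻¹⁻¹ * g⁻¹⁻¹)⁻¹ * u * (h⁻¹ * g⁻¹ * h⁻¹⁻¹ * g⁻¹⁻¹)) * g⁻¹ * h⁻¹ * (g * u * g⁻¹)⁻¹ := by group
      _ = h * (g * u * g⁻¹) * h⁻¹ * (g * u * g⁻¹)⁻¹ := by rw [mul_assoc _ u, ← a]; group
      _ = (h * (g * u * g⁻¹ * u⁻¹)) * u * h⁻¹ * u⁻¹ * (g * u * g⁻¹ * u⁻¹)⁻¹ := by group
      _ = (g * u * g⁻¹ * u⁻¹) * (h * u * h⁻¹ * u⁻¹) * (g * u * g⁻¹ * u⁻¹)⁻¹ := by rw [b h]; group
      _ = _ := by rw [← b, mul_inv_cancel_right]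
  have hs := QuotientGroup.mk'_surjective (center P)
  have l1 : p ^ a ≤ (center P).relIndex B := by
    have := relIndex_centralizer_le (V := ⊤) (B := B.map π) (x := π u) fun g _ => by
      obtain ⟨g, rfl⟩ := hs g
      exact mem_map_of_mem π (u3 g (mem_top g))
    rw [relIndex_top_right, ← index_comap_of_surjective _ hs, ← relIndex_ker, QuotientGroup.ker_mk'] at this
    exact (ix z z1).ge.trans ((Nat.le_of_dvd (Nat.pos_of_ne_zero index_ne_zero_of_finite) (index_dvd_of_le K)).trans this)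
  have zB : center P ≤ B := fun c hc => ⟨⟨mem_cent1.2 (mem_center_iff.1 hc z), fun g _ => mem_center_iff.1 hc g⟩,
    (mB c).2 fun g => by rw [mem_center_iff.1 hc g]; simp⟩
  have l2 : (center P).relIndex A ≤ p ^ a := by
    rw [← ix y y0, ← relIndex_top_right, ← inf_relIndex_right, show center P ⊓ A = centralizer {y} ⊓ A from le_antisymm
      (inf_le_inf_right _ (center_le_centralizer _)) fun c hc => ⟨cA c hc.2 y hy (mem_cent1.1 hc.1), hc.2⟩, inf_relIndex_right]
    exact relIndex_le_of_le_right le_top (CfsgH2.relIndex_ne_zero _ _)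
  rw [← relIndex_mul_relIndex _ B A zB inf_le_left] at l2
  have := Nat.pos_of_ne_zero (CfsgH2.relIndex_ne_zero (center P) B)
  have : B.relIndex A ≠ 1 := fun h => xB (relIndex_eq_one.1 h xA)
  have := CfsgH2.relIndex_ne_zero B A
  have : 2 ≤ B.relIndex A := by omega
  nlinarith

end Cfsg.Agent.S4365
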