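import Cfsg.Statements.S4370
import Cfsg.Agent.H2.Mix2

set_option autoImplicit false
open Cfsg

namespace Cfsg.Agent.S4370
open Subgroup CfsgH2
open scoped commutatorElement

open CfsgFT CfsgH1 CfsgLead
open QuaternionGroup in
theorem quat_cent {n : ℕ} [NeZero n] (x : QuaternionGroup n) (hx : x ∉ center _) : ∃ u, C1(x) ≤ zpowers u := by
  have k : ∀ j : ZMod (2 * n), -j = j → j = 0 ∨ j = n := fun j h => (ZMod.neg_eq_self_iff j).1 h |>.imp_right fun e => by
    rw [← ZMod.natCast_zmod_val j, show j.val = n by omega]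
  rcases x with i | i
  · refine ⟨a 1, fun y hy => ?_⟩
    rcases y with j | j
    · exact mem_zpowers_iff.2 ⟨j.val, by rw [zpow_natCast, a_one_pow, ZMod.natCast_zmod_val]⟩
    · refine (hx (mem_center_iff.2 fun z => ?_)).elim
      have := mem_cent1.1 hy
      simp only [a_mul_xa, xa_mul_a, xa.injEq, sub_eq_add_neg, add_right_inj] at this
      rcases z with l | l
      · simp [add_comm]
      · simp [sub_eq_add_neg, this]
  · refine ⟨xa i, fun y hy => ?_⟩
    have := mem_cent1.1 hy
    have h2 : a n ∈ zpowers (xa i) := xa_sq i ▸ pow_mem (mem_zpowers _) 2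
    rcases y with j | j
    · simp only [a_mul_xa, xa_mul_a, xa.injEq, sub_eq_add_neg, add_right_inj] at this
      rcases k j this.symm with rfl | rfl
      · exact one_mem _
      · exact h2
    · simp only [xa_mul_xa, a.injEq] at this
      rcases k (j - i) (by linear_combination -this) with e | e
      · rw [sub_eq_zero.1 e]; exact mem_zpowers _
      · rw [sub_eq_iff_eq_add'.1 e, ← xa_mul_a]; exact mul_mem (mem_zpowers _) h2

/-- Let G be a finite non-abelian nilpotent group. Then the centralizer of every non-central element of G is cyclic if and only if G is isomorphic to the direct product of a generalized quaternion group and a cyclic group of odd order. -/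
theorem result {G : Type*} [Group G] [Finite G] (hG : Group.IsNilpotent G)
    (hna : ¬ IsMulCommutative G) :
    (∀ x : G, x ∉ Subgroup.center G → IsCyclic (Subgroup.centralizer ({x} : Set G))) ↔
      ∃ (k m : ℕ), 1 ≤ k ∧ Odd m ∧ Nonempty (G ≃* QuaternionGroup (2 ^ k) × Multiplicative (ZMod m)) := by
  refine ⟨fun h => ?_, fun ⟨k, m, hk, hm, ⟨e⟩⟩ x hx => ?_⟩
  · have ab : ∀ A : Subgroup G, A ≤ C(A) → IsCyclic A := fun A hA => by
      by_cases c : A ≤ center G
      · obtain ⟨x, -, hx⟩ := SetLike.not_le_iff_exists.1 fun e : ⊤ ≤ center G =>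
          hna ⟨⟨fun a b => mem_center_iff.1 (e (mem_top b)) a⟩⟩
        exact CfsgFT.isCyclic_of_le' (h x hx) fun a ha => mem_cent1.2 (mem_center_iff.1 (c ha) x)
      · obtain ⟨x, a, b⟩ := SetLike.not_le_iff_exists.1 c
        exact CfsgFT.isCyclic_of_le' (h x b) (le_cent1_iff.2 (hA a))
    have cq : ∀ (p : ℕ) [Fact p.Prime] (R : Subgroup G), IsPGroup p R → IsCyclic R ∨
        (p = 2 ∧ ∃ n : ℕ, Nonempty (R ≃* QuaternionGroup (2 ^ n))) := fun p _ R hR => cyc_or_quat_of_ab hR fun A hA =>
      (equivMapOfInjective _ _ R.subtype_injective).isCyclic.2 (ab _ (comm_iff.1 (ea_map hA R.subtype).1))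
    have ho := not_dvd_card_pPrimeCore 2 G
    haveI : IsZGroup (pPrimeCore 2 G) := ⟨fun p hp P => by
      haveI := Fact.mk hp
      rcases cq p _ (P.2.map (pPrimeCore 2 G).subtype) with c | ⟨rfl, n, ⟨e⟩⟩
      · exact (equivMapOfInjective _ _ (subtype_injective _)).isCyclic.2 c
      · refine (ho (Dvd.dvd.trans ?_ (card_dvd_of_le (map_subtype_le (P : Subgroup _))))).elim
        rw [Nat.card_congr e.toEquiv, Nat.card_eq_fintype_card, QuaternionGroup.card]; omega⟩
    have hK : IsCyclic (pPrimeCore 2 G) := inferInstance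
    have hs := pCore_sup_pPrimeCore_eq_top (G := G) 2
    have nc : ¬ IsCyclic (pCore 2 G) := fun c => hna (by
      have := isMulCommutative_sup (comm_iff.2 (comm_of_cyclic c)) (comm_iff.2 (comm_of_cyclic hK))
        pPrimeCore_le_centralizer_pCore
      rw [hs] at this
      exact ⟨⟨fun a b => mul_comm_of_isMulCommutative this (mem_top a) (mem_top b)⟩⟩)
    obtain ⟨-, n, ⟨e⟩⟩ := (cq 2 _ (isPGroup_pCore 2 G)).resolve_left nc
    obtain ⟨f⟩ := sup_equiv_prod' (cent_symm pPrimeCore_le_centralizer_pCore) (disjoint_pCore_pPrimeCore (G := G) (p := 2)).eq_bot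
    refine ⟨n, Nat.card (pPrimeCore 2 G), Nat.pos_of_ne_zero fun c => nc ?_, Nat.odd_iff.2 (Nat.two_dvd_ne_zero.1 ho),
      ⟨topEquiv.symm.trans ((MulEquiv.subgroupCongr hs.symm).trans (f.trans (e.prodCongr (zmodCyclicMulEquiv hK).symm)))⟩⟩
    subst c
    exact e.isCyclic.2 QuaternionGroup.quaternionGroup_one_isCyclic
  · obtain ⟨u, hu⟩ := quat_cent (e x).1 fun c => hx (mem_center_iff.2 fun y => e.injective (by
      rw [map_mul, map_mul]; exact Prod.ext (mem_center_iff.1 c _) (mul_comm _ _)))
    have h1 : IsCyclic ((zpowers u).prod (⊤ : Subgroup (Multiplicative (ZMod m)))) := by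
      rw [(prodEquiv _ _).isCyclic, Group.isCyclic_prod_iff]
      refine ⟨inferInstance, inferInstance, ?_⟩
      rw [Subgroup.card_top, Nat.card_congr Multiplicative.toAdd, Nat.card_zmod]
      refine Nat.Coprime.coprime_dvd_left (card_subgroup_dvd_card _) ?_
      rw [Nat.card_eq_fintype_card, QuaternionGroup.card, show 4 * 2 ^ k = 2 ^ (k + 2) by ring]
      exact (Nat.coprime_two_left.2 hm).pow_left _
    refine (equivMapOfInjective _ (e : G →* _) e.injective).isCyclic.2 (CfsgFT.isCyclic_of_le' h1 ?_)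
    rintro _ ⟨y, hy, rfl⟩
    exact ⟨hu (mem_cent1.2 (by simpa using congrArg (fun z => (e z).1) (mem_cent1.1 hy))), trivial⟩


end Cfsg.Agent.S4370
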