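import Cfsg.Statements.S4376
import Cfsg.Agent.H7.Diag
import Cfsg.Agent.H2.PGroup

set_option autoImplicit false
open Cfsg

namespace Cfsg.Agent.S4376
open Subgroup CfsgH2
open scoped commutatorElement

open CfsgH7

abbrev BL := List (ℕ × List (ℕ × ℕ))
abbrev Cert := ℕ × BL × List BL × ℕ

def F (k : ℕ) : Fmt := ⟨Nat.succ k, 4, 15⟩

noncomputable def A (k : ℕ) (hk : k < 16) : Act (Equiv.Perm (Fin (k + 1))) (Fin (k + 1)) :=
  permAct (k + 1) (F k) ⟨⟨rfl, hk⟩, rfl⟩

noncomputable def okL (k : ℕ) (L : BL) : Bool := lall (F k).isPerm (Fmt.gens L) &&ₙ (F k).loChk L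

noncomputable def pw (k : ℕ) (d : ℕ × ℕ × ℕ) (t : ℕ) : Bool :=
  force (Act.powT (F k) t d.1) fun x => force (Act.powT (F k) x d.2.1) fun y =>
    force (Act.powT (F k) y d.2.2) (F k).isOne

noncomputable def cnt (k : ℕ) (L : BL) (d : ℕ × ℕ × ℕ) : ℕ :=
  (F k).srchSum Fmt.okAll (fun t => Act.b2n (pw k d t)) ((F k).build L) [] (F k).one

noncomputable def cmT (k s t : ℕ) : ℕ := force ((F k).conj s t) fun x => (F k).comp x ((F k).inv t)

noncomputable def solChk (k : ℕ) (r : List BL) : BL → Bool :=
  List.rec (fun L => lall (fun _ => false) (Fmt.gens L)) (fun L' _ ih L => okL k L' &&ₙ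
    lall (fun s => lall (fun t => force ((F k).conj s t) ((F k).sift ((F k).build L'))) (Fmt.gens L') &&ₙ
      lall (fun t => force (cmT k s t) ((F k).sift ((F k).build L'))) (Fmt.gens L)) (Fmt.gens L) &&ₙ ih L') r

noncomputable def basChk (k : ℕ) (L : BL) : Bool :=
  (Nat.succ k ≤ₙ 16) &&ₙ okL k L &&ₙ (F k).hiChk L &&ₙ
    (F k).srch Fmt.okAll (pw k (4, 3, 7)) ((F k).build L) [] (F k).one

def D : List (ℕ × ℕ × ℕ) := [(1, 1, 1), (2, 1, 1), (4, 1, 1), (1, 3, 1), (2, 3, 1), (4, 3, 1),
  (1, 1, 7), (2, 1, 7), (4, 1, 7), (1, 3, 7), (2, 3, 7), (4, 3, 7)]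

noncomputable def EE (G : Type) [Group G] (d : ℕ) : ℕ := Nat.card {g : G // g ^ d = 1}

def Real (s : Prop) (v : ℕ × ℕ × ℕ → ℕ) : Prop :=
  ∃ (G : Type) (_ : Group G) (_ : Finite G), (Group.IsSolvable G ↔ s) ∧ (∀ g : G, g ^ 84 = 1) ∧
    ∀ d, EE G (d.1 * d.2.1 * d.2.2) = v d

theorem Real.mul {s t : Prop} {v w : ℕ × ℕ × ℕ → ℕ} (h1 : Real s v) (h2 : Real t w) :
    Real (s ∧ t) fun d => v d * w d := by
  obtain ⟨G, _, _, a1, a2, a3⟩ := h1
  obtain ⟨H, _, _, b1, b2, b3⟩ := h2
  refine ⟨G × H, inferInstance, inferInstance, ⟨fun h => ⟨a1.1 ?_, b1.1 ?_⟩, fun h => ?_⟩,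
    fun g => Prod.ext (a2 g.1) (b2 g.2), fun d => ?_⟩
  · exact Group.isSolvable_of_isSolvable_injective (f := MonoidHom.inl G H) fun a b e => congrArg Prod.fst e
  · exact Group.isSolvable_of_isSolvable_injective (f := MonoidHom.inr G H) fun a b e => congrArg Prod.snd e
  · haveI := a1.2 h.1
    haveI := b1.2 h.2
    infer_instance
  · show _ = v d * w d
    rw [← a3, ← b3, EE, EE, EE, ← Nat.card_prod]
    exact Nat.card_congr ((Equiv.subtypeEquivRight fun g => Prod.ext_iff).trans (Equiv.subtypeProdEquivProd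
      (p := fun g : G => g ^ (d.1 * d.2.1 * d.2.2) = 1) (q := fun g : H => g ^ (d.1 * d.2.1 * d.2.2) = 1)))

theorem Real.congr {s t : Prop} {v w : ℕ × ℕ × ℕ → ℕ} (h : Real s v) (e : s ↔ t) (e' : ∀ d, v d = w d) :
    Real t w := by
  obtain ⟨G, _, _, a1, a2, a3⟩ := h
  exact ⟨G, _, ‹_›, a1.trans e, a2, fun d => (a3 d).trans (e' d)⟩

theorem real_one : Real True fun _ => 1 :=
  ⟨Unit, inferInstance, inferInstance, ⟨fun _ => trivial, fun _ => inferInstance⟩, fun _ => rfl,
    fun d => Nat.card_eq_one_iff_unique.2 ⟨inferInstance, ⟨⟨1, rfl⟩⟩⟩⟩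

theorem Real.pow {s : Prop} {v : ℕ × ℕ × ℕ → ℕ} (h : Real s v) (m : ℕ) :
    Real (m = 0 ∨ s) fun d => v d ^ m := by
  induction m with
  | zero => exact real_one.congr (by simp) (by simp)
  | succ m ih => exact (ih.mul h).congr (by simp; tauto) fun d => (pow_succ _ _).symm

theorem pw_iff {k : ℕ} {hk : k < 16} {g : Equiv.Perm (Fin (k + 1))} {t : ℕ} (h : (A k hk).Rep g t)
    (d : ℕ × ℕ × ℕ) : g ^ (d.1 * d.2.1 * d.2.2) = 1 ↔ pw k d t = true := by
  rw [pw, force_eq, force_eq, force_eq, pow_mul, pow_mul]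
  exact ((h.pow _).pow _).pow_eq_one_iff _

theorem okL_spec {k : ℕ} (hk : k < 16) {L : BL} (h : okL k L = true) :
    (A k hk).Valid (Fmt.gens L) ∧ (F k).loChk L = true := by
  rw [okL, band_eq, Bool.and_eq_true] at h
  exact ⟨permAct_valid h.1, h.2⟩

theorem real_bas {k : ℕ} {L : BL} (h : basChk k L = true) :
    ∃ hk : k < 16, okL k L = true ∧ Real (Group.IsSolvable ((A k hk).clo (Fmt.gens L))) (cnt k L) := by
  simp only [basChk, band_eq, Bool.and_eq_true, n_ble] at h
  obtain ⟨hk, h1, h2, h3⟩ := h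
  have hk : k < 16 := hk
  have hF := Act.full_clo (okL_spec hk h1).1 (okL_spec hk h1).2 h2
  refine ⟨hk, h1, (A k hk).clo (Fmt.gens L), inferInstance, inferInstance, Iff.rfl, fun g => ?_, fun d => ?_⟩
  · obtain ⟨t, ht, e⟩ := hF.all h3 g.2
    exact Subtype.ext ((pw_iff ht (4, 3, 7)).2 e)
  · refine Eq.trans ?_ (hF.card_filter (P := fun g => g ^ (d.1 * d.2.1 * d.2.2) = 1) (Act.prunes_all _)
      fun g t ht => pw_iff ht d)
    exact Nat.card_congr (Equiv.subtypeEquivRight fun g => Subtype.ext_iff)

theorem solv_of {G : Type*} [Group G] {H K : Subgroup G} [Group.IsSolvable K] (h : ⁅H, H⁆ ≤ K) :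
    Group.IsSolvable H := by
  haveI : Group.IsSolvable (_root_.commutator H) := Group.isSolvable_of_isSolvable_injective
    (f := (H.subtype.comp (_root_.commutator H).subtype).codRestrict K fun x => h (by
      rw [← map_subtype_commutator]; exact mem_map_of_mem _ x.2))
    fun a b e => by
      have e' : (a.1.1 : G) = b.1.1 := congrArg (fun x : K => (x : G)) e
      exact Subtype.ext (Subtype.ext e')
  exact Group.isSolvable_of_ker_le_range (_root_.commutator H).subtype Abelianization.of
    (by rw [Abelianization.ker_of, range_subtype])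

theorem rep_cm {k : ℕ} {hk : k < 16} {g h : Equiv.Perm (Fin (k + 1))} {s t : ℕ} (hg : (A k hk).Rep g s)
    (hh : (A k hk).Rep h t) : (A k hk).Rep ⁅g, h⁆ (cmT k s t) := by
  rw [cmT, force_eq]
  exact (hg.conj hh).mul hh.invT

theorem sol_spec {k : ℕ} (hk : k < 16) (r : List BL) : ∀ L : BL, solChk k r L = true →
    Group.IsSolvable ((A k hk).clo (Fmt.gens L)) := by
  induction r with
  | nil =>
    intro L h
    have h : lall (fun _ => false) (Fmt.gens L) = true := h
    have : (A k hk).clo (Fmt.gens L) = ⊥ :=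
      eq_bot_iff.2 (Act.clo_le fun t ht => absurd ((lall_iff _ _).1 h t ht) (by simp))
    rw [this]; infer_instance
  | cons L' r ih =>
    intro L h
    have h : (okL k L' &&ₙ lall (fun s => lall (fun t => force ((F k).conj s t)
      ((F k).sift ((F k).build L'))) (Fmt.gens L') &&ₙ lall (fun t => force (cmT k s t)
        ((F k).sift ((F k).build L'))) (Fmt.gens L)) (Fmt.gens L) &&ₙ solChk k r L') = true := h
    simp only [band_eq, Bool.and_eq_true, lall_iff, force_eq] at h
    obtain ⟨h1, h2, h3⟩ := h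
    haveI := ih L' h3
    have hG := Act.good_build_clo (okL_spec hk h1).1 (okL_spec hk h1).2
    have c1 : ∀ t ∈ Fmt.gens L, ∀ s, (A k hk).Rep s t → ∀ x ∈ (A k hk).clo (Fmt.gens L'),
        s * x * s⁻¹ ∈ (A k hk).clo (Fmt.gens L') := fun t ht s hs x hx =>
      Act.clo_induction (fun x => s * x * s⁻¹ ∈ (A k hk).clo (Fmt.gens L')) (by simp)
        (fun u hu y hy z hz => by
          rw [show s * (y * z) * s⁻¹ = s * y * s⁻¹ * (s * z * s⁻¹) by group]
          exact mul_mem (hG.mem (hs.conj hy) ((h2 t ht).1 u hu)) hz) hx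
    have c2 : ∀ t ∈ Fmt.gens L, ∀ s, (A k hk).Rep s t → ∀ x ∈ (A k hk).clo (Fmt.gens L),
        ⁅s, x⁆ ∈ (A k hk).clo (Fmt.gens L') := fun t ht s hs x hx =>
      Act.clo_induction (fun x => ⁅s, x⁆ ∈ (A k hk).clo (Fmt.gens L')) (by simp)
        (fun u hu y hy z hz => by
          rw [show ⁅s, y * z⁆ = ⁅s, y⁆ * (y * ⁅s, z⁆ * y⁻¹) by simp only [commutatorElement_def]; group]
          exact mul_mem (hG.mem (rep_cm hs hy) ((h2 t ht).2 u hu)) (c1 u hu y hy _ hz)) hx
    refine solv_of (K := (A k hk).clo (Fmt.gens L')) (commutator_le.2 fun a ha b hb => ?_)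
    exact Act.clo_induction (fun a => ⁅a, b⁆ ∈ (A k hk).clo (Fmt.gens L')) (by simp)
      (fun u hu y hy z hz => by
        rw [show ⁅y * z, b⁆ = y * ⁅z, b⁆ * y⁻¹ * ⁅y, b⁆ by simp only [commutatorElement_def]; group]
        exact mul_mem (c1 u hu y hy _ hz) (c2 u hu y hy b hb)) ha

noncomputable def val (l : List Cert) (d : ℕ × ℕ × ℕ) : ℕ :=
  List.rec 1 (fun c _ r => force (cnt c.1 c.2.1 d) fun x => Nat.pow x c.2.2.2 *ₙ r) l

noncomputable def chk (l : List Cert) : Bool := lall (fun c => basChk c.1 c.2.1 &&ₙ solChk c.1 c.2.2.1 c.2.1) l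

theorem real_val (l : List Cert) (h : chk l = true) : Real True (val l) := by
  induction l with
  | nil => exact real_one
  | cons c l ih =>
    simp only [chk, lall_iff, List.forall_mem_cons, band_eq, Bool.and_eq_true] at h ih
    obtain ⟨hk, -, h1⟩ := real_bas h.1.1
    refine ((h1.pow c.2.2.2).mul (ih h.2)).congr (by simp [sol_spec hk _ _ h.1.2]) fun d => ?_
    exact (force_eq (cnt c.1 c.2.1 d) fun x => Nat.pow x c.2.2.2 *ₙ val l d).symm

theorem fin_step {G H : Type} [Group G] [Finite G] [Group H] [Finite H] (h1 : ∀ g : G, g ^ 84 = 1)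
    (h2 : ∀ g : H, g ^ 84 = 1) (h : ∀ d ∈ D, EE G (d.1 * d.2.1 * d.2.2) = EE H (d.1 * d.2.1 * d.2.2)) (n : ℕ) :
    Nat.card {g : G // orderOf g = n} = Nat.card {h : H // orderOf h = n} := by
  classical
  haveI := Fintype.ofFinite G
  haveI := Fintype.ofFinite H
  have k : ∀ (K : Type) [Group K], (∀ g : K, g ^ 84 = 1) → ∀ n, EE K n = EE K (Nat.gcd n 84) :=
    fun K _ hK n => Nat.card_congr (Equiv.subtypeEquivRight fun g => by simp [pow_gcd_eq_one, hK g])
  have e : ∀ n, EE G n = EE H n := fun n => by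
    rw [k G h1, k H h2]
    have : ∀ m ∈ Nat.divisors 84, ∃ d ∈ D, d.1 * d.2.1 * d.2.2 = m := by decide
    obtain ⟨d, hd, e⟩ := this _ (Nat.mem_divisors.2 ⟨Nat.gcd_dvd_right n 84, by norm_num⟩)
    rw [← e]; exact h d hd
  have s : ∀ (K : Type) [Group K] [Fintype K] (n : ℕ), n ≠ 0 →
      EE K n = ∑ m ∈ n.divisors, Nat.card {g : K // orderOf g = m} := fun K _ _ n hn => by
    simp only [EE, Nat.card_eq_fintype_card, Fintype.card_subtype]
    convert (sum_card_orderOf_eq_card_pow_eq_one (G := K) hn).symm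
  induction n using Nat.strong_induction_on with
  | _ n ih =>
  rcases n.eq_zero_or_pos with rfl | hn
  · simp [(orderOf_pos _).ne']
  have := e n
  rw [s G n hn.ne', s H n hn.ne',
    ← Nat.cons_self_properDivisors hn.ne', Finset.sum_cons, Finset.sum_cons,
    Finset.sum_congr rfl fun m hm => ih m (Nat.mem_properDivisors.1 hm).2] at this
  exact Nat.add_right_cancel this

def any' {α : Type} (f : α → Bool) (l : List α) : Bool := l.any f

def pos : List Cert :=
  [(6, [(0, [(38142801, 68494851)])], [[]], 2),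
   (5, [(0, [(5513985, 5513985)]), (1, [(5509680, 5509680)]), (4, [(4534800, 4534800)])], [[(0, [(5509170, 5509170)])], []], 6),
   (3, [(0, [(12801, 12801)]), (1, [(12576, 12576)]), (2, [(8976, 8976)])], [[(0, [(8961, 8961)]), (1, [(4896, 8496)])], [(0, [(8961, 8961), (4146, 4146)])], []], 6),
   (7, [(0, [(1661419858, 1192452133)]), (2, [(1701987088, 1466115088)])], [[(0, [(1661419858, 1192452133), (88217203, 308610103)])], [(0, [(874935553, 874935553)])], []], 12),
   (8, [(2, [(18630583056, 18630583056)]), (0, [(36344967681, 36344967681)]), (3, [(14049313296, 14049313296)])], [[(2, [(10861495056, 31763671056)])], []], 9),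
   (10, [(4, [(5126167540240, 10477124596240)]), (5, [(9180131099425, 7191244579075)]), (0, [(11649936527410, 11649936527410)])], [[(4, [(5126167540240, 10477124596240)])], []], 6),
   (10, [(4, [(5126167540240, 10477124596240)]), (0, [(11649936532225, 11649936532225)]), (1, [(10400940954400, 8412054430000)])], [[(4, [(5126167540240, 10477124596240)]), (0, [(11649936532225, 11649936532225), (11649936527410, 11649936527410)])], []], 12),
   (13, [(0, [(38750970682037761, 38750970682037761)]), (7, [(35408301052408336, 57325821153784336)]), (1, [(38750970664142176, 38750970664142176)])], [[(0, [(62129658759824161, 62129658841473286)]), (7, [(35408301052408336, 57325821153784336)])], []], 4),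
   (7, [(0, [(1732584193, 1732584193)]), (1, [(1683428128, 1196826928)]), (2, [(846615568, 1412593168)])], [[(0, [(1732584193, 1732584193)]), (1, [(1460888608, 1668432208)])], [(0, [(1732584193, 1732584193), (1417023538, 1417023538), (839939668, 839939668)])], []], 6),
   (10, [(4, [(5126167540240, 10477124596240)]), (5, [(9180131103280, 7191244575280)]), (0, [(11649936524065, 11649936531715)])], [[(4, [(5126167540240, 10477124596240)]), (0, [(11649936527410, 11649936527410)])], []], 6),
   (14, [(7, [(983977057011905040, 714820717594817040), (612169293313094160, 917213144652460560)]), (0, [(781584114488989185, 781584114488989185)]), (1, [(781584114520499760, 781584114490151760)])], [[(0, [(1070935975290815265, 1070935975372464390)]), (7, [(763499623256175120, 763499623256175120)])], []], 6)]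

def neg : List Cert :=
  [(3, [(0, [(801, 8451)])], [[]], 9),
   (6, [(0, [(6636321, 88285446)]), (1, [(87122976, 56774976)])], [[(0, [(6636321, 88285446)])], []], 14),
   (10, [(4, [(5126167540240, 10477124596240)]), (0, [(5942248997665, 5942249005315)])], [[(4, [(5126167540240, 10477124596240)])], []], 3),
   (7, [(0, [(1985225473, 1985225473)]), (4, [(1732588048, 1732588048), (1417032208, 1417032208)]), (1, [(1985221408, 1985225008)])], [[(0, [(1985225473, 1985225473), (1985220658, 1985220658)])], []], 18),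
   (10, [(4, [(5126167540240, 10477124596240)]), (0, [(5942249005825, 5942249005825)]), (1, [(5942249001520, 5942249001520)])], [[(4, [(5126167540240, 10477124596240)]), (0, [(11649936527410, 11649936527410)])], []], 12),
   (14, [(0, [(1070935975066550610, 1070935974597582885)]), (8, [(643394250478989840, 994074572101005840)]), (2, [(858738133686174480, 989081800949310480)])], [[(0, [(1070935975066550610, 1070935974597582885), (1070935973493347955, 1070935973713740855)]), (8, [(643394250478989840, 994074572101005840)])], [(0, [(1070935974280066305, 1070935974280066305)])], []], 6),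
   (13, [(0, [(52013335770846721, 43866856552158721)]), (7, [(35408301052408336, 57325821153784336)]), (8, [(52013335752951136, 43866856534263136)])], [[(0, [(62129658759824161, 62129658841473286)]), (7, [(35408301052408336, 57325821153784336)])], []], 4),
   (14, [(0, [(1070935974280066305, 1070935974280066305), (1070935975066550610, 1070935974597582885)]), (8, [(773737917977997840, 773737917977997840)]), (9, [(909074806797910800, 778731139063030800)])], [[(0, [(1070935975066550610, 1070935974597582885), (1070935973493347955, 1070935973713740855)]), (8, [(643394250478989840, 994074572101005840)])], [(0, [(1070935974280066305, 1070935974280066305)])], []], 6)]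

def LT : BL := [(0, [(55861761, 55861761)]), (1, [(104091936, 104091936)]), (2, [(72753936, 72753936), (55731216, 55731216)])]

def trT : List (ℕ × ℕ × ℕ) := [(55861761, 72360246, 38814051), (104091936, 72360246, 2502996), (72753936, 100811601, 34890501), (55731216, 72360246, 38879286)]

theorem chk_pos : chk pos = true := by decide +kernel
theorem chk_neg : chk neg = true := by decide +kernel
theorem chk_T : (basChk 6 LT &&ₙ lall (fun s => any' (fun c => (s =ₙ c.1) &&ₙ (F 6).siftAll ((F 6).build LT) [c.2.1, c.2.2]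
    &&ₙ (F 6).eqv s (cmT 6 c.2.1 c.2.2)) trT) (Fmt.gens LT)) = true := by decide +kernel
theorem chk_val : lall (fun d => val pos d =ₙ force (cnt 6 LT d) fun x => Nat.pow x 6 *ₙ val neg d) D = true := by
  decide +kernel

/-- There are finite groups G and H having the same number of elements of each order (the same order type) with G solvable and H not solvable. -/
theorem result :
    ∃ (G : Type) (_ : Group G) (_ : Finite G) (H : Type) (_ : Group H) (_ : Finite H),
      Group.IsSolvable G ∧ ¬ Group.IsSolvable H ∧ ∀ n : ℕ, Nat.card {g : G // orderOf g = n} = Nat.card {h : H // orderOf h = n} := by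
  have hT := chk_T
  simp only [band_eq, Bool.and_eq_true, lall_iff, any', List.any_eq_true] at hT
  obtain ⟨hk, h0, h1⟩ := real_bas hT.1
  have hG := Act.good_build_clo (okL_spec hk h0).1 (okL_spec hk h0).2
  have ns : ¬ Group.IsSolvable ((A 6 hk).clo (Fmt.gens LT)) := by
    intro hs
    have l : (A 6 hk).clo (Fmt.gens LT) ≤ ⁅(A 6 hk).clo (Fmt.gens LT), (A 6 hk).clo (Fmt.gens LT)⁆ :=
      Act.clo_le fun s hs g hg => by
        obtain ⟨c, -, -, c1, c2⟩ := hT.2 s hs
        obtain ⟨x, hx, rx⟩ := hG.siftAll c1 c.2.1 (by simp)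
        obtain ⟨y, hy, ry⟩ := hG.siftAll c1 c.2.2 (by simp)
        rw [(hg.eq_iff (rep_cm rx ry)).2 c2]
        exact commutator_mem_commutator hx hy
    have nt : Nontrivial ((A 6 hk).clo (Fmt.gens LT)) := by
      obtain ⟨g, hg⟩ := (okL_spec hk h0).1 55861761 (by decide +kernel)
      refine ⟨⟨g, Act.mem_clo (by decide +kernel) hg⟩, 1, fun e => ?_⟩
      exact absurd (hg.isOne_iff.1 (congrArg Subtype.val e)) (show ¬ (F 6).isOne 55861761 = true by decide +kernel)
    have := Group.IsSolvable.commutator_lt_top_of_nontrivial ((A 6 hk).clo (Fmt.gens LT))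
    refine this.not_ge fun g _ => ?_
    obtain ⟨x, hx, e⟩ := (map_subtype_commutator _).ge (l g.2)
    rwa [← show x = g from Subtype.ext e]
  obtain ⟨G, _, _, a1, a2, a3⟩ := real_val pos chk_pos
  obtain ⟨H, _, _, b1, b2, b3⟩ := (h1.pow 6).mul (real_val neg chk_neg)
  refine ⟨G, _, ‹_›, H, _, ‹_›, a1.2 trivial, fun h => ns (by simpa using b1.1 h),
    fin_step a2 b2 fun d hd => ?_⟩
  rw [a3, b3]
  have := (lall_iff _ _).1 chk_val d hd
  rw [n_beq, force_eq] at this
  exact this


end Cfsg.Agent.S4376
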