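import Cfsg.Statements.S4377
import Cfsg.Agent.H2.Cls
import Cfsg.Agent.H1.Ten1

set_option autoImplicit false
open Cfsg

namespace Cfsg.Agent.S4377
open Subgroup CfsgH2
open scoped commutatorElement

theorem aux (X : Type*) [Group X] [Finite X] {n : ℕ} (h : n ≠ 0) : Nat.card {g : X // g ^ n = 1} =
    ∑ d ∈ n.properDivisors, Nat.card {g : X // orderOf g = d} + Nat.card {g : X // orderOf g = n} := by
  classical
  haveI := Fintype.ofFinite X
  simp only [Nat.card_eq_fintype_card, Fintype.card_subtype]
  have := sum_card_orderOf_eq_card_pow_eq_one (G := X) h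
  rw [← Nat.insert_self_properDivisors h, Finset.sum_insert Nat.self_notMem_properDivisors, add_comm] at this
  convert this.symm

/-- Two finite groups have the same number of elements of each order if and only if, for every n, they have the same number of elements g with gⁿ = 1. -/
theorem result {G H : Type*} [Group G] [Finite G] [Group H] [Finite H] :
    (∀ n : ℕ, Nat.card {g : G // orderOf g = n} = Nat.card {h : H // orderOf h = n}) ↔
      ∀ n : ℕ, Nat.card {g : G // g ^ n = 1} = Nat.card {h : H // h ^ n = 1} := by
  constructor
  · intro h n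
    obtain ⟨e, he⟩ := CfsgH1.exists_equiv_orderOf h
    exact Nat.card_congr (e.subtypeEquiv fun g => by rw [← orderOf_dvd_iff_pow_eq_one, ← orderOf_dvd_iff_pow_eq_one, he])
  · intro h n
    induction n using Nat.strong_induction_on with
    | _ n ih =>
    by_cases e : n = 0
    · haveI : IsEmpty {g : G // orderOf g = n} := ⟨fun g => (orderOf_pos g.1).ne' (g.2.trans e)⟩
      haveI : IsEmpty {g : H // orderOf g = n} := ⟨fun g => (orderOf_pos g.1).ne' (g.2.trans e)⟩
      simp
    have := h n
    rw [aux G e, aux H e, Finset.sum_congr rfl fun d hd => ih d (Nat.mem_properDivisors.1 hd).2] at this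
    exact add_left_cancel this


end Cfsg.Agent.S4377
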