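import Cfsg.Statements.S4379
import Cfsg.Agent.FT.Hall
import Cfsg.Agent.H2.PGroup
import Cfsg.Agent.H1.PLength
import Cfsg.Agent.H1.Solv

set_option autoImplicit false
open Cfsg

namespace Cfsg.Agent.S4379

universe u in
open Subgroup CfsgH1 CfsgH2 CfsgFT in
theorem main {p : ℕ} [hp : Fact p.Prime] (n : ℕ) : ∀ (G : Type u) [Group G] [Finite G], Nat.card G = n →
    IsPSolvable p G → (∀ M : Subgroup G, IsCoatom M → HasNormalPComplement p M ∨ M.index.Prime) →
    ¬ p ∣ (pPrimePCore p G).relIndex (pResidual p G) := by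
  induction n using Nat.strong_induction_on with
  | _ n ih =>
  intro G _ _ hn hG hmax
  have key : ∀ (N : Subgroup G) [N.Normal], N ≠ ⊥ →
      ¬ p ∣ ((pPrimePCore p (G ⧸ N)).comap (QuotientGroup.mk' N)).relIndex (pResidual p G) := by
    intro N _ h0
    rw [relIndex_comap, map_pResidual_of_surjective _ (QuotientGroup.mk'_surjective N)]
    refine ih _ (hn ▸ card_quotient_lt h0) _ rfl (CfsgH1.IsPSolvable.quotient hG N) fun M hM => ?_
    refine (hmax _ (isCoatom_comap_of_surjective (QuotientGroup.mk'_surjective N) hM)).imp (fun h => ?_) (fun h => ?_)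
    · have := hasNPC_map (QuotientGroup.mk' N) h
      rwa [map_comap_eq_self_of_surjective (QuotientGroup.mk'_surjective N)] at this
    · rwa [index_comap_of_surjective _ (QuotientGroup.mk'_surjective N)] at h
  by_cases h0 : pPrimeCore p G = ⊥
  swap
  · refine fun h => key _ h0 (h.trans (relIndex_dvd_of_le_left _ ?_))
    have := comap_ups_le_of_coprime_ker (p := p) (QuotientGroup.mk' (pPrimeCore p G))
      (by rw [QuotientGroup.ker_mk']; exact coprime_card_pPrimeCore p G) 1
    rwa [ups_two, ups_two] at this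
  rcases subsingleton_or_nontrivial G with h | h
  · rw [Subsingleton.elim (pPrimePCore p G) ⊤, relIndex_top_left]; exact hp.out.not_dvd_one
  obtain ⟨N, _, hN0, -, hmin⟩ := exists_minNormal_le (⊤ : Subgroup G) top_ne_bot
  have hN : IsPGroup p N := by
    obtain ⟨M, _, h1, h2, h3 | h3⟩ := CfsgH1.IsPSolvable.exists_normal_le hG N hN0
    · exact absurd (le_bot_iff.1 (h0 ▸ le_pPrimeCore h3)) h1
    · exact (hmin M ‹_› h2).resolve_left h1 ▸ h3
  set K := (pPrimeCore p (G ⧸ N)).comap (QuotientGroup.mk' N) with hK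
  set L := (pPrimePCore p (G ⧸ N)).comap (QuotientGroup.mk' N) with hL
  have hNK : IsPiNum {p}ᶜ (N.relIndex K) := by
    rw [hK, relIndex_comap_mk', IsPiNum.compl_singleton_iff hp.out]; exact coprime_card_pPrimeCore _ _
  obtain ⟨C, _, c1, c2⟩ : ∃ C : Subgroup G, C.Normal ∧ C ⊓ K ≤ N ∧ ¬ p ∣ C.relIndex (pResidual p G) := by
    by_cases hΦ : N ≤ frattini G
    · refine ⟨⊤, inferInstance, inf_le_right.trans ?_, by rw [relIndex_top_left]; exact hp.out.not_dvd_one⟩
      have h1 : Hall {p} N K := ⟨le_comap_mk' _ _, isPi_singleton_iff.2 hN, hNK⟩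
      obtain ⟨H, hH⟩ := h1.exists_compl (le_top.trans (normalizer_eq_top _).ge)
      have h2 : N(H) = ⊤ := by
        refine eq_top_of_sup_le_frattini hΦ ?_
        have h3 := frattini_sup (H := H) (L := K) (M := ⊤) le_top fun g _ => by
          obtain ⟨k, hk, e⟩ := (piSep_of_isPSolvable (CfsgH1.IsPSolvable.subgroup hG K)).exists_conj_le_hallOf
            hH.of (cj_le_of_norm (le_top.trans (normalizer_eq_top _).ge (mem_top g)) hH.le) (hH.isPi.cj g) False.elim
          rw [← cj_eq_smul, cj_cj] at e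
          exact ⟨k, hk, CfsgH2.mem_normalizer_of_cj_le e⟩
        rw [top_inf_eq, ← h1.sup_eq hH, sup_assoc, sup_eq_right.2 le_normalizer, sup_comm] at h3
        exact h3
      haveI := normalizer_eq_top_iff.1 h2
      have h4 : H ≤ ⊥ := h0 ▸ le_pPrimeCore (isPi_compl_singleton_iff_coprime.1 hH.isPi)
      rw [← h1.sup_eq hH]
      exact sup_le le_rfl (h4.trans bot_le)
    refine ⟨C(N), inferInstance, ?_, ?_⟩
    · have := le_sup_piCore_compl (π := {p}) (D := C(N) ⊓ K) (isPi_singleton_iff.2 hN)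
        (hNK.of_dvd (relIndex_dvd_of_le_right _ inf_le_right)) inf_le_left
      rwa [piCore_compl_singleton hp.out, h0, sup_bot_eq] at this
    obtain ⟨M, hM, e⟩ := exists_coatom_sup_eq_top hΦ
    have hc : N ≤ C(N) := comm_iff.1 (isMulCommutative_of_minNormal (solvable_of_pgroup hN) hmin)
    rcases hmax M hM with h1 | h1
    · have h2 := hasNPC_map (QuotientGroup.mk' C(N)) h1
      have h3 : M.map (QuotientGroup.mk' C(N)) = ⊤ := by
        rw [← map_top_of_surjective _ (QuotientGroup.mk'_surjective C(N)), ← e, Subgroup.map_sup,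
          (map_mk'_eq_bot_iff _).2 hc, sup_bot_eq]
      rw [h3, hasNPC_top_iff, hasNPC_iff, ← map_pResidual_of_surjective _ (QuotientGroup.mk'_surjective C(N)),
        card_map_mk'] at h2
      exact h2
    · have h2 : M ⊓ N = ⊥ := by
        refine (hmin _ (normal_of_top_le ?_) inf_le_right).resolve_right fun e' => hM.1 ?_
        · rw [← e]
          exact sup_le (le_normalizer_inf' le_normalizer (le_top.trans (normalizer_eq_top _).ge))
            (le_norm_of_comm hc inf_le_right)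
        · rw [← e, left_eq_sup, ← e']; exact inf_le_left
      have h3 := CfsgH1.card_sup_mul_card_inf M N
      rw [e, h2, card_bot, mul_one, card_top, ← M.card_mul_index] at h3
      rw [Nat.eq_of_mul_eq_mul_left Nat.card_pos h3] at h1
      obtain ⟨P, hP⟩ := IsSylowIn.exists_sylowIn p (⊤ : Subgroup G)
      obtain ⟨x, x1, x2, -, x3⟩ := exists_central_of_ne_bot hP.2
        (hP.le_of_normalizer hN le_top (normalizer_eq_top _).ge) (le_top.trans (normalizer_eq_top _).ge) hN0
      have h4 : N ⊓ C(P) = N := by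
        rcases (Nat.dvd_prime h1).1 (card_dvd_of_le (inf_le_left : N ⊓ C(P) ≤ N)) with h5 | h5
        · rw [card_eq_one] at h5
          exact absurd (mem_bot.1 (h5.le ⟨x1, x3⟩)) x2
        · exact CfsgH2.eq_of_le_of_card_le inf_le_left h5.ge
      exact fun h => hP.not_dvd_of_le (cent_symm (h4.ge.trans inf_le_right)) le_top
        (h.trans (relIndex_dvd_of_le_right _ le_top))
  have h1 := isPiNum_relIndex_inf ((IsPiNum.compl_singleton_iff hp.out).2 (hp.out.coprime_iff_not_dvd.2 c2).symm)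
    ((IsPiNum.compl_singleton_iff hp.out).2 (hp.out.coprime_iff_not_dvd.2 (key N hN0)).symm)
  rw [inf_idem, IsPiNum.compl_singleton_iff hp.out, Nat.coprime_comm, hp.out.coprime_iff_not_dvd] at h1
  refine fun h => h1 (h.trans (relIndex_dvd_of_le_left _ (le_trans (CfsgH1.le_pCore ?_) pCore_le_pPrimePCore)))
  rw [← isPi_singleton_iff]
  show IsPiNum _ _
  rw [← card_inf_mul_relIndex K]
  refine IsPiNum.mul ((isPi_singleton_iff.2 hN).mono (le_trans ?_ c1)) ?_
  · exact le_inf (inf_le_right.trans inf_le_left) inf_le_left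
  · have := isPiNum_relIndex_comap (QuotientGroup.mk' N) (isPiNum_relIndex_ups (p := p) (G := G ⧸ N) 1)
    rw [ups_one, ups_two, altSet_odd (by decide)] at this
    exact this.of_dvd (relIndex_dvd_of_le_right _ inf_le_right)

open Subgroup CfsgH1 CfsgH2 CfsgFT in
theorem main' {G : Type*} [Group G] [Finite G] (p : ℕ) [hp : Fact p.Prime] (hG : IsPSolvable p G)
    (hmax : ∀ M : Subgroup G, IsCoatom M → (∃ K : Subgroup ↥M, K.Normal ∧ ¬ p ∣ Nat.card K ∧ ∃ k : ℕ, K.index = p ^ k) ∨ (M.index).Prime) :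
    ∃ A B C : Subgroup G, A.Normal ∧ B.Normal ∧ C.Normal ∧ A ≤ B ∧ B ≤ C ∧ ¬ p ∣ Nat.card A ∧
      (∃ k : ℕ, A.relIndex B = p ^ k) ∧ ¬ p ∣ B.relIndex C ∧ ∃ k : ℕ, C.index = p ^ k := by
  have h := main _ G rfl hG fun M hM => (hmax M hM).imp_left fun ⟨K, _, h1, k, h2⟩ => hasNPC_of_normal K h1 h2
  refine ⟨pPrimeCore p G, pPrimePCore p G, pPrimePCore p G ⊔ pResidual p G, inferInstance, inferInstance,
    inferInstance, pPrimeCore_le_pPrimePCore, le_sup_left, not_dvd_card_pPrimeCore p G,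
    exists_relIndex_pPrimePCore, by rwa [relIndex_sup_left], ?_⟩
  obtain ⟨k, hk⟩ := index_pResidual p G
  obtain ⟨j, -, hj⟩ := (Nat.dvd_prime_pow hp.out).1 (hk ▸ index_dvd_of_le
    (le_sup_right : pResidual p G ≤ pPrimePCore p G ⊔ pResidual p G))
  exact ⟨j, hj⟩

/-- Let p be an odd prime and G a finite p-solvable group in which every maximal subgroup either has a normal p-complement or has prime index. Then G has a chain of normal subgroups 1 ≤ A ≤ B ≤ C ≤ D ≤ G in which A, C/B and G/D have order prime to p and B/A and D/C are p-groups (so the p-length of G is at most 2). -/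
theorem result {G : Type*} [Group G] [Finite G]
    (p : ℕ) [Fact p.Prime] (hp : p ≠ 2) (hG : Cfsg.IsPSolvable p G)
    (hmax : ∀ M : Subgroup G, IsCoatom M → (∃ K : Subgroup ↥M, K.Normal ∧ ¬ p ∣ Nat.card K ∧ ∃ k : ℕ, K.index = p ^ k) ∨ (M.index).Prime) :
    ∃ A B C D : Subgroup G, A.Normal ∧ B.Normal ∧ C.Normal ∧ D.Normal ∧ A ≤ B ∧ B ≤ C ∧ C ≤ D ∧ ¬ p ∣ Nat.card A ∧
      (∃ k : ℕ, A.relIndex B = p ^ k) ∧ ¬ p ∣ B.relIndex C ∧ (∃ k : ℕ, C.relIndex D = p ^ k) ∧ ¬ p ∣ D.index := by
  obtain ⟨A, B, C, h1, h2, h3, h4, h5, h6, h7, h8, h9⟩ := main' p hG hmax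
  exact ⟨A, B, C, ⊤, h1, h2, h3, inferInstance, h4, h5, le_top, h6, h7, h8, by simpa using h9,
    by simpa using (Fact.out : p.Prime).one_lt.ne'⟩

end Cfsg.Agent.S4379
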