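import Cfsg.Statements.S4381
import Cfsg.Agent.H2.Mix2
import Cfsg.Agent.H2.Meta
import Cfsg.Agent.H2.BG4

set_option autoImplicit false
open Pointwise
open Cfsg

namespace Cfsg.Agent.S4381
open Subgroup CfsgH2
open scoped commutatorElement

open CfsgFT CfsgH1 CfsgLead

/-- Let the finite group A act by automorphisms on the finite group G with the orders of A and G coprime, and assume that A or G is solvable. Call a proper A-invariant subgroup of G maximal A-invariant when no A-invariant subgroup lies strictly between it and G. Then all maximal A-invariant subgroups of G are conjugate under elements of the fixed-point subgroup C_G(A) if and only if G is a p-group for some prime p and A leaves invariant no subgroup strictly between the Frattini subgroup of G and G. In that case, if G is nontrivial, the Frattini subgroup is the only maximal A-invariant subgroup (a trivial G has none).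 -/
theorem result {A G : Type*} [Group A] [Finite A]
    [Group G] [Finite G] [MulDistribMulAction A G] (hcop : (Nat.card A).Coprime (Nat.card G)) (hsol : Group.IsSolvable A ∨ Group.IsSolvable G) :
    ((∀ M N : Subgroup G, (M ≠ ⊤ ∧ (∀ a : A, ∀ x ∈ M, a • x ∈ M) ∧ ∀ L : Subgroup G, M < L → (∀ a : A, ∀ x ∈ L, a • x ∈ L) → L = ⊤) → (N ≠ ⊤ ∧ (∀ a : A, ∀ x ∈ N, a • x ∈ N) ∧ ∀ L : Subgroup G, N < L → (∀ a : A, ∀ x ∈ L, a • x ∈ L) → L = ⊤) →
        ∃ c : G, (∀ a : A, a • c = c) ∧ N = MulAut.conj c • M) ↔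
      ((∃ p : ℕ, p.Prime ∧ IsPGroup p G) ∧ ∀ L : Subgroup G, frattini G < L → (∀ a : A, ∀ x ∈ L, a • x ∈ L) → L = ⊤)) ∧
    (((∃ p : ℕ, p.Prime ∧ IsPGroup p G) ∧ ∀ L : Subgroup G, frattini G < L → (∀ a : A, ∀ x ∈ L, a • x ∈ L) → L = ⊤) →
      ∀ M : Subgroup G, (M ≠ ⊤ ∧ (∀ a : A, ∀ x ∈ M, a • x ∈ M) ∧ ∀ L : Subgroup G, M < L → (∀ a : A, ∀ x ∈ L, a • x ∈ L) → L = ⊤) ↔ (M = frattini G ∧ M ≠ ⊤)) := by
  obtain ⟨φ, hφ⟩ : ∃ φ : A →* MulAut G, ∀ a x, φ a x = a • x := ⟨MulDistribMulAction.toMulAut A G, fun _ _ => rfl⟩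
  simp only [← hφ]
  have br : ∀ L : Subgroup G, (∀ a, ∀ x ∈ L, φ a x ∈ L) ↔ sdR φ ⊤ ≤ N(sdL φ L) := fun L =>
    ⟨fun h => sdR_le_normalizer fun a _ => h a, fun h a x hx => inl_mem_sdL.1 (sd_conj (φ := φ) a x ▸
      CfsgH2.conj_mem_of_mem_normalizer (h (inr_mem_sdR.2 (mem_top a))) (inl_mem_sdL.2 hx))⟩
  have f0 : ∀ a, ∀ x ∈ frattini G, φ a x ∈ frattini G := fun a x => apply_mem_of_characteristic inferInstance (φ a)
  set Mx := fun M : Subgroup G => M ≠ ⊤ ∧ (∀ a, ∀ x ∈ M, φ a x ∈ M) ∧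
    ∀ L : Subgroup G, M < L → (∀ a, ∀ x ∈ L, φ a x ∈ L) → L = ⊤ with hMx
  have f2 : ∀ L ≠ ⊤, (∀ a, ∀ x ∈ L, φ a x ∈ L) → ∃ M, L ≤ M ∧ Mx M := fun L a b => by
    obtain ⟨M, c, ⟨d, e⟩, f⟩ := exists_maximal_subgroup (Φ := fun M => M ≠ ⊤ ∧ ∀ a, ∀ x ∈ M, φ a x ∈ M) ⟨a, b⟩
    exact ⟨M, c, d, e, fun K k1 k2 => by_contra fun k3 => k1.ne' (f K ⟨k3, k2⟩ k1.le)⟩
  have f3 : ∀ M, Mx M → frattini G ≤ M := fun M ⟨a, b, c⟩ => by_contra fun d =>
    a (eq_top_of_sup_le_frattini le_rfl (c _ (left_lt_sup.2 d) ((br _).2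
      (by rw [sdL_sup]; exact le_normalizer_sup' ((br _).1 b) ((br _).1 f0)))))
  have f4 : ((∃ p : ℕ, p.Prime ∧ IsPGroup p G) ∧ ∀ L : Subgroup G, frattini G < L → (∀ a, ∀ x ∈ L, φ a x ∈ L) → L = ⊤) →
      ∀ M, Mx M ↔ (M = frattini G ∧ M ≠ ⊤) := fun ⟨_, h⟩ M => ⟨fun k => ⟨((f3 M k).eq_or_lt.resolve_right fun c =>
        k.1 (h M c k.2.1)).symm, k.1⟩, fun ⟨a, b⟩ => ⟨b, a ▸ f0, a ▸ h⟩⟩
  refine ⟨⟨fun h => ?_, fun h M N a b => ⟨1, fun a => map_one _, by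
    rw [((f4 h M).1 a).1, ((f4 h N).1 b).1, conj_one_smul]⟩⟩, f4⟩
  have c1 : (Nat.card (sdR φ ⊤)).Coprime (Nat.card (sdL φ ⊤)) := by rwa [card_sdR, card_sdL_top, Subgroup.card_top]
  have hp : ∃ p : ℕ, p.Prime ∧ IsPGroup p G := by
    by_contra! c
    obtain ⟨M, -, hM⟩ := f2 ⊥ (fun e => c 2 Nat.prime_two ((e ▸ IsPGroup.of_bot : IsPGroup 2 (⊤ : Subgroup G)).of_equiv
      topEquiv)) (by simp)
    refine hM.1 (eq_top_of_forall_sylow_le fun q _ _ => ?_)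
    obtain ⟨S, a, b⟩ := exists_invariant_sylow (le_normalizer_sdL_top _) c1 (hsol.imp
      (fun (_ : Group.IsSolvable A) => isSolvable_of_equiv (topEquiv.symm.trans (sdREquiv φ ⊤)))
      fun (_ : Group.IsSolvable G) => isSolvable_of_equiv (sdLTopEquiv φ)) q
    obtain ⟨S, rfl⟩ := exists_sdL_eq a.le
    have d : IsSylowIn q S ⊤ := ⟨le_top, a.pgroup.of_equiv (sdLEquiv φ S).symm, by
      have := a.not_dvd
      rwa [sdL, sdL, relIndex_map_map_of_injective _ _ SemidirectProduct.inl_injective] at this⟩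
    obtain ⟨N, e, f⟩ := f2 S (fun e => c q Fact.out ((e ▸ d.pgroup : IsPGroup q (⊤ : Subgroup G)).of_equiv topEquiv))
      ((br S).2 b)
    obtain ⟨x, -, rfl⟩ := h M N hM f
    obtain ⟨P, rfl⟩ := d.of_top
    exact ⟨x⁻¹ • P, by rw [sylow_smul_coe, cj_le_iff_le_cj_inv, inv_inv]; exact e⟩
  refine ⟨hp, fun L a b => by_contra fun c => ?_⟩
  obtain ⟨p, hp, hG⟩ := hp
  haveI := Fact.mk hp
  have d : ⁅(⊤ : Subgroup G), ⊤⁆ ≤ frattini G := commutator_le_frattini hG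
  have n1 : sdL φ ⊤ ≤ N(sdL φ (frattini G)) := le_norm_of_der_le (by rw [← sdL_commutator]; exact sdL_le_iff.2 d)
    (sdL_le_iff.2 le_top)
  have n2 := (br _).1 f0
  haveI : Nontrivial G := ⟨by
    obtain ⟨x, x1, x2⟩ := SetLike.exists_of_lt a
    exact ⟨x, 1, fun e => x2 (e ▸ one_mem _)⟩⟩
  obtain ⟨X, x1, x2, x3, x4⟩ := maschke (p := p) (A := quo (sdL φ (frattini G)) (sdR φ ⊤)) (ea_quo_of n1
    (by rw [← sdL_commutator]; exact sdL_le_iff.2 d) fun x hx => by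
      obtain ⟨x, -, rfl⟩ := mem_sdL.1 hx
      rw [← map_pow]; exact inl_mem_sdL.2 (pow_mem_frattini hG x)) (quo_le_norm (le_normalizer_sdL_top _))
    ((c1.coprime_dvd_left (card_quo_dvd _ _)).coprime_dvd_right (by
      rw [card_sdL_top]; exact hG.card_eq_or_dvd.resolve_left Finite.one_lt_card.ne'))
    (quo_mono (sdL_le_iff.2 (le_top : L ≤ ⊤))) (quo_le_norm ((br L).1 b))
  obtain ⟨Y, hY⟩ := exists_sdL_eq (unq_le_of_le_quo n1 (sdL_le_iff.2 le_top) x1)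
  have n3 := (sdL_le_iff.2 (le_top : L ≤ ⊤)).trans n1
  obtain ⟨M, m1, m2⟩ := f2 L c b
  obtain ⟨N, k1, k2⟩ := f2 Y (fun e => a.not_ge (by
    rw [← quo_unq X, ← hY, e, inf_eq_right.2 (quo_mono (sdL_le_iff.2 le_top)), quo_eq_bot_iff n3] at x3
    exact sdL_le_iff.1 x3)) ((br Y).2 (hY ▸ le_norm_unq n2 x2))
  obtain ⟨x, -, rfl⟩ := h M N m2 k2
  rw [← cj_eq_smul, cj_eq_of_norm (le_norm_of_der_le (d.trans (f3 M m2)) le_top (mem_top x))] at k1
  refine m2.1 (top_le_iff.1 (sdL_le_iff.1 (le_of_quo_le n1 ((sdL_le_iff.2 le_top).trans n1) (sdL_le_iff.2 (f3 M m2)) ?_)))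
  rw [← x4, ← quo_unq X, ← hY]
  exact sup_le (quo_mono (sdL_le_iff.2 k1)) (quo_mono (sdL_le_iff.2 m1))


end Cfsg.Agent.S4381
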