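import Cfsg.Statements.S4387
import Cfsg.Agent.H2.Cls
import Cfsg.Agent.H1.Frob

set_option autoImplicit false
open Pointwise
open Cfsg

namespace Cfsg.Agent.S4387
open Subgroup CfsgH2
open scoped commutatorElement

/-- Let G be a non-trivial finite group in which any two maximal subgroups are conjugate. Then G is cyclic of prime-power order. -/
theorem result {G : Type*} [Group G] [Finite G] [Nontrivial G]
    (h : ∀ M N : Subgroup G, IsCoatom M → IsCoatom N → ∃ g : G, N = MulAut.conj g • M) :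
    IsCyclic G ∧ IsPrimePow (Nat.card G) := by
  obtain ⟨M, hM, -⟩ := CfsgH1.exists_coatom_ge (H := (⊥ : Subgroup G)) bot_ne_top
  obtain ⟨x, hx⟩ : ∃ x : G, ∀ g, x ∉ cj g M := by
    by_contra e
    push Not at e
    exact hM.1 (CfsgH1.eq_top_of_forall_conj fun x => (e x).imp fun _ h => mem_cj.1 h)
  have h1 : zpowers x = ⊤ := by_contra fun e => by
    obtain ⟨K, a, b⟩ := CfsgH1.exists_coatom_ge e
    obtain ⟨g, rfl⟩ := h M K hM a
    exact hx g (b (mem_zpowers x))
  haveI : IsCyclic G := isCyclic_iff_exists_zpowers_eq_top.2 ⟨x, h1⟩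
  refine ⟨this, ?_⟩
  obtain ⟨q, hq, h2⟩ := Nat.exists_prime_and_dvd (fun e => hM.1 (index_eq_one.1 e) : M.index ≠ 1)
  haveI := Fact.mk hq
  obtain ⟨Q, hQ⟩ := IsSylowIn.exists_sylowIn q (⊤ : Subgroup G)
  have h3 : Q = ⊤ := by_contra fun e => by
    obtain ⟨K, a, b⟩ := CfsgH1.exists_coatom_ge e
    obtain ⟨g, rfl⟩ := h M K hM a
    exact hQ.not_dvd_of_le b le_top (by rwa [relIndex_top_right, CfsgH1.index_conj_smul])
  have := CfsgH1.isPrimePow_card_of_isPGroup hQ.pgroup (h3 ▸ top_ne_bot)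
  rwa [h3, Subgroup.card_top] at this


end Cfsg.Agent.S4387
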