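import Cfsg.Statements.S4397
import Cfsg.Agent.H9.SRk
import Cfsg.Agent.H2.PGroup3
import Cfsg.Agent.H2.PResidual

set_option autoImplicit false
open Cfsg

namespace Cfsg.Agent.S4397

open Subgroup CfsgH1 CfsgH2 CfsgFT in
theorem comm_le_of_gen {G : Type*} [Group G] {a b : G} (h : zpowers a ⊔ zpowers b = ⊤) (M : Subgroup G) [M.Normal]
    (hM : b * a * b⁻¹ * a⁻¹ ∈ M) : _root_.commutator G ≤ M := by
  rw [← Normal.quotient_commutative_iff_commutator_le]
  have e := congrArg (Subgroup.map (QuotientGroup.mk' M)) h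
  rw [Subgroup.map_sup, MonoidHom.map_zpowers, MonoidHom.map_zpowers,
    map_top_of_surjective _ (QuotientGroup.mk'_surjective M)] at e
  have := isMulCommutative_sup_zpowers (A := zpowers (QuotientGroup.mk' M a)) inferInstance
    (x := QuotientGroup.mk' M b) (by
      rw [cent_zpowers, mem_cent1', ← mul_inv_eq_one, mul_inv_rev, ← mul_assoc]
      rw [← QuotientGroup.eq_one_iff] at hM
      simpa [mul_assoc] using hM)
  rw [e] at this
  exact ⟨⟨fun x y => mul_comm_of_isMulCommutative this (mem_top x) (mem_top y)⟩⟩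

open Subgroup CfsgH1 CfsgH2 CfsgFT in
theorem meta_of {G : Type*} [Group G] {a b : G} (h : zpowers a ⊔ zpowers b = ⊤)
    (hM : _root_.commutator G ≤ zpowers a) : IsMetacyclic G :=
  isMetacyclic_top_iff.1 (isMetacyclic_iff.2 ⟨zpowers a, le_top, le_norm_of_der_le hM le_top, inferInstance,
    b, mem_top b, h⟩)

open Subgroup CfsgH1 CfsgH2 CfsgFT CfsgH9 in
theorem cls2 {G : Type*} [Group G] [Finite G] (h2 : IsPGroup 2 G)
    (hr : ∀ E : Subgroup G, (∀ x ∈ E, x ^ 2 = 1) → Nat.card E ≤ 4) {z : G} (z1 : z ≠ 1) (z2 : z ^ 2 = 1)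
    (hz : z ∈ center G) (hd : _root_.commutator G = zpowers z) (h : ∃ a b : G, zpowers a ⊔ zpowers b = ⊤) :
    IsMetacyclic G := by
  by_contra hn
  have k1 : ∀ a b : G, zpowers a ⊔ zpowers b = ⊤ → ∀ x ∈ zpowers a, x ∈ zpowers z → x = 1 := by
    intro a b e x h1 h3
    by_contra h4
    refine hn (meta_of e (hd.le.trans ?_))
    rw [← eq_of_card_two (Z := zpowers z) (A := zpowers x) (by rw [Nat.card_zpowers, orderOf_eq_prime z2 z1])
      (zpowers_le.2 h3) (by simpa using h4)]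
    exact zpowers_le.2 h1
  have k2 : ∀ (a b : G) (j : ℕ), zpowers a ⊔ zpowers b = ⊤ → zpowers (a ^ j * b) ⊔ zpowers a = ⊤ := by
    intro a b j e
    rw [eq_top_iff, ← e]
    refine sup_le le_sup_right (zpowers_le.2 ?_)
    exact (mul_mem_cancel_left (pow_mem (mem_sup_right (mem_zpowers a)) j)).1 (mem_sup_left (mem_zpowers _))
  haveI : (zpowers z).Normal := hd ▸ inferInstance
  have k3 : ∀ x y : G, Commute (x : G ⧸ zpowers z) y := fun x y =>
    (Normal.quotient_commutative_iff_commutator_le.2 hd.le).is_comm.comm _ _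
  have k4 : ∀ x : G, x ^ 2 ∈ center G := by
    intro x
    rw [mem_center_iff]
    intro y
    have m : x * y * x⁻¹ * y⁻¹ ∈ zpowers z := hd.le (commutator_mem_commutator (mem_top x) (mem_top y))
    have c := mem_center_iff.1 (zpowers_le.2 hz m)
    have s : (x * y * x⁻¹ * y⁻¹) ^ 2 = 1 := by
      obtain ⟨i, hi⟩ := m
      rw [← hi]
      show (z ^ i) ^ 2 = 1
      rw [← zpow_natCast, zpow_comm, zpow_natCast, z2, one_zpow]
    generalize hw : x * y * x⁻¹ * y⁻¹ = w at c s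
    have e : x * y = w * y * x := by rw [← hw]; group
    symm
    calc x ^ 2 * y = x * (x * y) := by rw [sq, mul_assoc]
      _ = x * w * y * x := by rw [e]; group
      _ = w * (x * y) * x := by rw [c x]; group
      _ = w ^ 2 * (y * x ^ 2) := by rw [e, sq, sq]; group
      _ = _ := by rw [s, one_mul]
  classical
  have ex : ∃ n, ∃ b a : G, zpowers b ⊔ zpowers a = ⊤ ∧ orderOf b = n := by
    obtain ⟨a, b, e⟩ := h
    exact ⟨_, a, b, e, rfl⟩
  obtain ⟨b, a, e, hb⟩ := Nat.find_spec ex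
  have hmin : ∀ x y : G, zpowers x ⊔ zpowers y = ⊤ → orderOf b ≤ orderOf x := fun x y e' =>
    hb ▸ Nat.find_min' ex ⟨x, y, e', rfl⟩
  have e' : zpowers a ⊔ zpowers b = ⊤ := by rw [sup_comm, e]
  obtain ⟨n, hn'⟩ := (IsPGroup.iff_orderOf.1 h2) b
  obtain ⟨m, hm⟩ := (IsPGroup.iff_orderOf.1 h2) a
  have hnm := hmin a b e'
  rw [hn', hm, Nat.pow_le_pow_iff_right one_lt_two] at hnm
  obtain ⟨n, rfl⟩ : ∃ k, n = k + 1 := Nat.exists_eq_succ_of_ne_zero (by
    rintro rfl
    rw [pow_zero, orderOf_eq_one_iff] at hn'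
    rw [hn', zpowers_one_eq_bot, bot_sup_eq] at e
    exact z1 (k1 a b e' z (e.ge (mem_top z)) (mem_zpowers z)))
  obtain ⟨d, rfl⟩ : ∃ d, m = d + n + 1 := ⟨m - (n + 1), by omega⟩
  have a1 : a ^ 2 ^ (d + n) ≠ 1 := pow_ne_one_of_lt_orderOf (by positivity) (by rw [hm]; exact Nat.pow_lt_pow_right one_lt_two (by omega))
  have b1 : b ^ 2 ^ n ≠ 1 := pow_ne_one_of_lt_orderOf (by positivity) (by rw [hn']; exact Nat.pow_lt_pow_right one_lt_two (by omega))
  have a2 : (a ^ 2 ^ (d + n)) ^ 2 = 1 := by rw [← pow_mul, ← pow_succ, ← hm, pow_orderOf_eq_one]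
  have b2 : (b ^ 2 ^ n) ^ 2 = 1 := by rw [← pow_mul, ← pow_succ, ← hn', pow_orderOf_eq_one]
  have hc : (a ^ 2 ^ (d + n) : G ⧸ zpowers z) * b ^ 2 ^ n ≠ 1 := by
    intro h1
    have h3 := k1 _ _ (k2 a b (2 ^ d) e') _ (npow_mem_zpowers _ (2 ^ n)) (by
      rw [← QuotientGroup.eq_one_iff, QuotientGroup.mk_pow, QuotientGroup.mk_mul, (k3 _ _).mul_pow,
        QuotientGroup.mk_pow, ← pow_mul, ← pow_add, h1])
    have h4 := (hmin _ _ (k2 a b (2 ^ d) e')).trans (orderOf_le_of_pow_eq_one (by positivity) h3)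
    rw [hn', Nat.pow_le_pow_iff_right one_lt_two] at h4
    omega
  have hdn : d + n ≠ 0 := by
    intro h0
    obtain ⟨rfl, rfl⟩ : d = 0 ∧ n = 0 := by omega
    simp only [add_zero, pow_zero, pow_one] at a2 b2
    have h3 := k1 _ _ (k2 a b 1 e') _ (npow_mem_zpowers _ 2) (by
      rw [← QuotientGroup.eq_one_iff, QuotientGroup.mk_pow, QuotientGroup.mk_mul, (k3 _ _).mul_pow,
        pow_one, ← QuotientGroup.mk_pow, ← QuotientGroup.mk_pow, a2, b2]; simp)
    have h4 := comm_le_of_gen e' ⊥ (by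
      rw [sq] at a2 b2 h3
      rw [inv_eq_of_mul_eq_one_left a2, inv_eq_of_mul_eq_one_left b2, mem_bot]
      rw [pow_one] at h3
      calc b * a * b * a = (a * a)⁻¹ * a * (a * b * (a * b)) * a := by group
        _ = 1 := by rw [h3, a2]; simpa using a2)
    exact z1 (mem_bot.1 (h4 (hd.ge (mem_zpowers z))))
  have ca : a ^ 2 ^ (d + n) ∈ center G := by
    obtain ⟨k, hk⟩ := Nat.exists_eq_succ_of_ne_zero hdn
    rw [hk, pow_succ, pow_mul]; exact k4 _
  have sq1 : ∀ x : G, x ^ 2 = 1 → ∀ y ∈ zpowers x, y ^ 2 ∈ (⊥ : Subgroup G) := by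
    rintro x hx _ ⟨i, rfl⟩
    show (x ^ i) ^ 2 ∈ _
    rw [← zpow_natCast, zpow_comm, zpow_natCast, hx, one_zpow]; exact one_mem _
  have c1 : zpowers z ⊔ zpowers (a ^ 2 ^ (d + n)) ≤ center G := sup_le (zpowers_le.2 hz) (zpowers_le.2 ca)
  have h5 := hr (zpowers z ⊔ zpowers (a ^ 2 ^ (d + n)) ⊔ zpowers (b ^ 2 ^ n)) fun x hx => mem_bot.1
    (sq_sup (cent_symm (c1.trans (center_le_centralizer _))) (sq_sup (zpowers_le.2 (center_le_centralizer _ ca))
      (sq1 z z2) (sq1 _ a2)) (sq1 _ b2) x hx)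
  rw [card_sup_zpowers (p := 2) (le_norm_of_cent' (A := ⊤) (c1.trans (center_le_centralizer _)) (mem_top _)) ?_
    (b2 ▸ one_mem _), card_sup_zpowers (p := 2) ((normalizer_eq_top _).ge (mem_top _))
    (fun h => a1 (k1 a b e' _ (npow_mem_zpowers _ _) h)) (a2 ▸ one_mem _), Nat.card_zpowers,
    orderOf_eq_prime z2 z1] at h5
  · omega
  intro h6
  obtain ⟨u, hu, i, hi⟩ := (mem_sup_zpowers ((normalizer_eq_top _).ge (mem_top _))).1 h6
  obtain ⟨j, rfl | rfl⟩ := Int.even_or_odd' i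
  · rw [zpow_mul, show (a ^ 2 ^ (d + n)) ^ (2 : ℤ) = 1 from by exact_mod_cast a2, one_zpow, mul_one] at hi
    exact b1 (k1 b a e _ (npow_mem_zpowers _ _) (hi ▸ hu))
  · rw [zpow_add_one, zpow_mul, show (a ^ 2 ^ (d + n)) ^ (2 : ℤ) = 1 from by exact_mod_cast a2, one_zpow,
      one_mul] at hi
    apply hc
    rw [← QuotientGroup.mk_pow, ← QuotientGroup.mk_pow, ← hi, QuotientGroup.mk_mul,
      (QuotientGroup.eq_one_iff u).2 hu, one_mul, ← QuotientGroup.mk_mul, ← sq, a2, QuotientGroup.mk_one]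

universe u in
open Subgroup CfsgH1 CfsgH2 CfsgFT CfsgH9 in
theorem main (n : ℕ) : ∀ (G : Type u) [Group G] [Finite G], Nat.card G = n → IsPGroup 2 G →
    (∀ H N : Subgroup G, N ≤ H → H ≤ N(N) → (∀ x ∈ H, x ^ 2 ∈ N) → Nat.card H ≤ Nat.card N * 2 ^ 2) →
    IsMetacyclic G := by
  induction n using Nat.strong_induction_on with
  | _ n ih =>
  intro G _ _ hn h2 hr
  by_cases hab : _root_.commutator G = ⊥
  · have h3 := hr ⊤ (frattini G) le_top (normalizer_eq_top _).ge fun x _ => pow_mem_frattini h2 x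
    have k : ∀ a b : G, zpowers a ⊔ zpowers b ⊔ frattini G = ⊤ → IsMetacyclic G := fun a b e =>
      meta_of (eq_top_of_sup_le_frattini le_rfl e) (hab.le.trans bot_le)
    by_cases e1 : frattini G = ⊤
    · exact k 1 1 (by rw [e1, sup_top_eq])
    obtain ⟨a, -, ha⟩ := SetLike.exists_of_lt (lt_top_iff_ne_top.2 e1)
    by_cases e2 : zpowers a ⊔ frattini G = ⊤
    · exact k a a (by rw [sup_idem, e2])
    obtain ⟨b, -, hb⟩ := SetLike.exists_of_lt (lt_top_iff_ne_top.2 e2)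
    refine k a b (CfsgH2.eq_of_le_of_card_le le_top (h3.trans ?_))
    have i1 := CfsgH2.mul_card_le_of_lt (h2.to_subgroup (zpowers a ⊔ frattini G)) (lt_of_le_of_ne le_sup_right
      fun e => ha (e ▸ (le_sup_left : zpowers a ≤ _) (mem_zpowers a)))
    have i2 := CfsgH2.mul_card_le_of_lt (h2.to_subgroup (zpowers a ⊔ zpowers b ⊔ frattini G))
      (lt_of_le_of_ne (sup_le_sup_right le_sup_left _) fun e => hb (e.ge
        (mem_sup_left (mem_sup_right (mem_zpowers b)))))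
    omega
  obtain ⟨z, zm, z1, z2, hz⟩ := exists_central_of_ne_bot (h2.to_subgroup ⊤) le_top (normalizer_eq_top _).ge hab
  rw [coe_top, centralizer_univ] at hz
  haveI : (zpowers z).Normal := normal_of_top_le (le_norm_of_cent' (zpowers_le.2 (center_le_centralizer _ hz)))
  set f := QuotientGroup.mk' (zpowers z) with hf
  have hs : Function.Surjective f := QuotientGroup.mk'_surjective _
  have h3 := ih _ (hn ▸ card_quotient_lt (by simpa using z1)) (G ⧸ zpowers z) rfl (h2.to_quotient _) (by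
    intro H M h1 h3 h4
    have := hr (H.comap f) (M.comap f) (comap_mono h1) ((comap_mono h3).trans (le_normalizer_comap _))
      fun x hx => by rw [mem_comap, map_pow]; exact h4 _ hx
    rw [card_comap_of_surjective f hs, card_comap_of_surjective f hs, mul_right_comm] at this
    exact Nat.le_of_mul_le_mul_right this Nat.card_pos)
  obtain ⟨M, -, m1, m2, b, -, m3⟩ := isMetacyclic_iff.1 (isMetacyclic_top_iff.2 h3)
  obtain ⟨a, rfl⟩ := (Subgroup.isCyclic_iff_exists_zpowers_eq_top M).1 m2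
  obtain ⟨a, rfl⟩ := hs a
  obtain ⟨b, rfl⟩ := hs b
  have e : zpowers a ⊔ zpowers b = ⊤ := by
    refine eq_top_of_sup_le_frattini ((zpowers_le.2 zm).trans (commutator_le_frattini h2)) ?_
    rw [← comap_map_mk', Subgroup.map_sup, MonoidHom.map_zpowers, MonoidHom.map_zpowers, m3, comap_top]
  have e1 : b * a * b⁻¹ ∈ zpowers z ⊔ zpowers a := by
    rw [sup_comm, ← comap_map_mk', MonoidHom.map_zpowers, mem_comap, map_mul, map_mul, map_inv]
    exact CfsgH2.conj_mem_of_mem_normalizer (m1 (mem_top _)) (mem_zpowers _)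
  obtain ⟨u, hu, k, hk⟩ := (mem_sup_zpowers ((normalizer_eq_top _).ge (mem_top _))).1 e1
  have cu : ∀ g, Commute g u := mem_center_iff.1 (zpowers_le.2 hz hu)
  have hw : b * a * b⁻¹ * a⁻¹ = u * a ^ (k - 1) := by rw [← hk]; group
  have u2 : u ^ (2 : ℤ) = 1 := by
    obtain ⟨i, rfl⟩ := hu
    show (z ^ i) ^ (2 : ℤ) = 1
    rw [zpow_comm, show z ^ (2 : ℤ) = 1 from by exact_mod_cast z2, one_zpow]
  haveI : (zpowers (u * a ^ (k - 1))).Normal := by
    apply normal_of_top_le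
    rw [← e]
    refine sup_le (zpowers_le.2 (cent1_le_norm_zpowers _ (mem_cent1'.2
      ((cu a).mul_right ((Commute.refl a).zpow_right _)).eq))) (zpowers_le.2 (CfsgH2.mem_normalizer_of_conj_mem ?_))
    rintro _ ⟨i, rfl⟩
    show b * (u * a ^ (k - 1)) ^ i * b⁻¹ ∈ _
    rw [← conj_zpow]
    refine zpow_mem (mem_zpowers_iff.2 ⟨k, ?_⟩) i
    show (u * a ^ (k - 1)) ^ k = _
    have : b * (u * a ^ (k - 1)) * b⁻¹ = u * (b * a * b⁻¹) ^ (k - 1) := by
      rw [conj_zpow, ← mul_assoc, (cu b).eq]; group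
    rw [this, ← hk, (cu _).symm.mul_zpow, (cu _).symm.mul_zpow, ← mul_assoc, zpow_comm a]
    group
  have h4 := comm_le_of_gen e (zpowers (u * a ^ (k - 1))) (hw ▸ mem_zpowers _)
  by_cases h5 : z ∈ zpowers a
  · refine meta_of e (h4.trans (zpowers_le.2 (mul_mem (zpowers_le.2 h5 hu) (zpow_mem_zpowers _ _))))
  refine cls2 h2 (fun E hE => ?_) z1 z2 hz (le_antisymm (h4.trans (zpowers_le.2 ?_)) (zpowers_le.2 zm)) ⟨a, b, e⟩
  · simpa using hr E ⊥ bot_le (le_norm_bot _) fun x hx => mem_bot.2 (hE x hx)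
  obtain ⟨j, hj⟩ := (mem_powers_iff_mem_zpowers.2 (h4 zm))
  replace hj : (u * a ^ (k - 1)) ^ j = z := hj
  refine mem_of_pow_mem_of_coprime (n := j) ?_ (hj ▸ mem_zpowers _)
  obtain ⟨l, hl⟩ := (IsPGroup.iff_orderOf.1 h2) (u * a ^ (k - 1))
  rw [hl]
  refine (Nat.coprime_two_left.2 ?_).pow_left _
  by_contra hj2
  obtain ⟨r, rfl⟩ := Nat.not_odd_iff_even.1 hj2
  apply h5
  rw [← hj, (cu _).symm.mul_pow, ← two_mul, pow_mul, show u ^ 2 = 1 from by exact_mod_cast u2, one_pow, one_mul]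
  exact pow_mem (zpow_mem_zpowers _ _) _

/-- A finite 2-group of sectional 2-rank at most 2 (every section has no elementary abelian subgroup of order 8) is metacyclic: it has a cyclic normal subgroup with cyclic quotient. -/
theorem result {S : Type*} [Group S] [Finite S] (h2 : IsPGroup 2 S) (hr : Cfsg.SectionalPRankLE 2 2 S) : Cfsg.IsMetacyclic S := by
  exact main _ S rfl h2 fun H N h1 h3 h4 => CfsgH9.srk_card hr h1 h3 h4

end Cfsg.Agent.S4397
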