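import Cfsg.Statements.S4398
import Cfsg.Agent.H2.MaxClass

set_option autoImplicit false
open Cfsg

namespace Cfsg.Agent.S4398
open Subgroup CfsgH2
open scoped commutatorElement

/-- Let S be a finite 2-group of sectional 2-rank at most 2 that contains a subgroup isomorphic to the dihedral group of order 8 or to the quaternion group of order 8. Then S is dihedral of order at least 8, semidihedral of order at least 16 (order 2^(k+4) with an element a of order 2^(k+3) and an involution b with b a b⁻¹ = a^(2^(k+2)−1)), or generalized quaternion of order at least 8. -/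
theorem result {S : Type*} [Group S] [Finite S] (h2 : IsPGroup 2 S) (hr : Cfsg.SectionalPRankLE 2 2 S)
    (hsub : ∃ H : Subgroup S, Nonempty (↥H ≃* DihedralGroup 4) ∨ Nonempty (↥H ≃* QuaternionGroup 2)) :
    ((∃ k : ℕ, Nonempty (S ≃* DihedralGroup (2 ^ (k + 2)))) ∨
      (∃ k : ℕ, Nat.card S = 2 ^ (k + 4) ∧ ∃ a b : S, orderOf a = 2 ^ (k + 3) ∧ orderOf b = 2 ∧ b * a * b⁻¹ = a ^ (2 ^ (k + 2) - 1)) ∨
      (∃ k : ℕ, Nonempty (S ≃* QuaternionGroup (2 ^ (k + 1))))) := by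
  obtain ⟨H, hH⟩ := hsub
  obtain ⟨a, b, k, m, h⟩ : ∃ a b k m, MC H a b k m 0 := by
    rcases hH with ⟨⟨e⟩⟩ | ⟨⟨e⟩⟩
    · obtain ⟨a, b, r, h, h1⟩ := mc_of_dihedral (h2.to_subgroup H) (by norm_num) e
      obtain rfl : r = 0 := by
        have := Nat.pow_right_injective le_rfl ((by norm_num : 2 ^ 2 = 4).trans h1); omega
      exact ⟨_, _, _, _, h⟩
    · obtain ⟨a, b, h⟩ := mc_of_quaternion (n := 0) e
      exact ⟨_, _, _, _, h⟩
  obtain ⟨n, hn⟩ := h2.exists_card_eq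
  have h8 := h.card_eq
  have h3 : 3 ≤ n := by
    have := card_le_card_group H
    rwa [h8, hn, Nat.pow_le_pow_iff_right (by norm_num)] at this
  by_cases hC : centralizer (H : Set S) ≤ H
  · exact (isMC_of_class hn h3 (class_of_cube hn h8 h.not_comm hC)).cases_top'
  exfalso
  obtain ⟨c₀, hc₀, hc₀'⟩ := SetLike.not_le_iff_exists.1 hC
  obtain ⟨e, he⟩ := h2 c₀
  obtain ⟨j, hj, hj'⟩ := exists_pow_not_mem hc₀' (k := e) (p := 2) (by rw [he]; exact one_mem _)
  obtain ⟨c, hc⟩ : ∃ c, c = c₀ ^ 2 ^ j := ⟨_, rfl⟩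
  rw [← hc] at hj hj'
  have hcC : c ∈ centralizer (H : Set S) := hc ▸ pow_mem hc₀ _
  obtain ⟨Z, hZ⟩ : ∃ Z, Z = zpowers (a ^ (2 : ℤ) ^ (0 + 1)) := ⟨_, rfl⟩
  have hZ' := h.inf_centralizer_eq
  rw [← hZ] at hZ'
  have h4 : c ^ 2 ∈ Z := hZ' ▸ mem_inf.2 ⟨hj', pow_mem hcC _⟩
  have h5 : ∀ x ∈ H, x ^ 2 ∈ Z := fun x hx => by
    obtain ⟨i, rfl | rfl⟩ := (h.mem x).1 hx
    · rw [hZ, ← zpow_natCast, ← zpow_mul, h.mem_iff (by omega)]; simp
    · rw [hZ, sq]; exact h.sq_out i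
  have hcn := Subgroup.centralizer_le_normalizer _ hcC
  have h6 : ∀ x ∈ H ⊔ zpowers c, x ^ 2 ∈ Z := fun x hx => by
    obtain ⟨y, hy, i, rfl⟩ := (mem_sup_zpowers hcn).1 hx
    rw [(Commute.zpow_right (hcC y hy) i).mul_pow, ← zpow_natCast (c ^ i), ← zpow_mul, mul_comm i,
      zpow_mul, zpow_natCast]
    exact mul_mem (h5 y hy) (zpow_mem h4 i)
  have h7 : H ⊔ zpowers c ≤ normalizer (Z : Set S) := by
    rw [← hZ']
    refine sup_le (le_normalizer_inf' le_normalizer (le_normalizer_centralizer' le_normalizer))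
      (le_normalizer_inf' (zpowers_le.2 hcn) (le_normalizer_centralizer' (zpowers_le.2 hcn)))
  haveI : (Z.subgroupOf (H ⊔ zpowers c)).Normal := (normal_subgroupOf_iff_le_normalizer
    ((hZ' ▸ inf_le_left : Z ≤ H).trans le_sup_left)).2 h7
  have h9 : ∀ x : ↥(H ⊔ zpowers c) ⧸ Z.subgroupOf (H ⊔ zpowers c), x ^ 2 = 1 := fun x => by
    obtain ⟨x, rfl⟩ := QuotientGroup.mk_surjective x
    rw [← QuotientGroup.mk_pow, QuotientGroup.eq_one_iff]
    exact h6 x x.2
  have h10 := hr (H ⊔ zpowers c) (Z.subgroupOf _) ⊤ (isMulCommutative_of_forall fun x _ y _ =>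
    commute_of_mul_self (by rw [← sq, h9]) (by rw [← sq, h9]) (by rw [← sq, h9])) fun x _ => h9 x
  rw [Subgroup.card_top] at h10
  have h11 := card_mul_relIndex ((hZ' ▸ inf_le_left : Z ≤ H).trans (le_sup_left (b := zpowers c)))
  rw [card_sup_zpowers hcn hj hj', h8, hZ, Nat.card_zpowers, h.orderOf_z, ← hZ] at h11
  change Z.relIndex (H ⊔ zpowers c) ≤ _ at h10
  omega


end Cfsg.Agent.S4398
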