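import Cfsg.Statements.S4400
import Cfsg.Agent.H9.SRk

set_option autoImplicit false
open Cfsg

namespace Cfsg.Agent.S4400

/-- Let S be a finite 2-group of sectional 2-rank at most 4, and let P and Q be normal non-abelian subgroups of S whose centres have order 2 and are different. Then P and Q commute elementwise and intersect trivially, and PQ contains its own centralizer in S. -/
theorem result {S : Type*} [Group S] [Finite S] (h2 : IsPGroup 2 S) (hr : Cfsg.SectionalPRankLE 2 4 S)
    (P Q : Subgroup S) [P.Normal] [Q.Normal] (hP : ¬ IsMulCommutative ↥P) (hQ : ¬ IsMulCommutative ↥Q)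
    (hZP : Nat.card ↥(Subgroup.center ↥P) = 2) (hZQ : Nat.card ↥(Subgroup.center ↥Q) = 2)
    (hne : (Subgroup.center ↥P).map P.subtype ≠ (Subgroup.center ↥Q).map Q.subtype) :
    ⁅P, Q⁆ = ⊥ ∧ P ⊓ Q = ⊥ ∧ Subgroup.centralizer ((P ⊔ Q : Subgroup S) : Set S) ≤ P ⊔ Q := by
  open Subgroup CfsgH1 CfsgH2 CfsgFT CfsgH9 in
  rw [map_center_eq_inf, map_center_eq_inf] at hne
  rw [← card_map_subtype, map_center_eq_inf] at hZP hZQ
  obtain ⟨h3, h4, h5⟩ := two_normal hr (h2.to_subgroup ⊤) le_top le_top (normalizer_eq_top P).ge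
    (normalizer_eq_top Q).ge (mt comm_iff.2 hP) (mt comm_iff.2 hQ) hZP hZQ hne
  rw [top_inf_eq] at h5
  exact ⟨comm_eq_bot (cent_symm h4), h3, h5.trans (sup_le_sup inf_le_left inf_le_left)⟩

end Cfsg.Agent.S4400
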