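import Cfsg.Statements.S4401
import Cfsg.Agent.H9.SRk

set_option autoImplicit false
open Cfsg

namespace Cfsg.Agent.S4401

/-- Let S be a finite 2-group of sectional 2-rank at most 4 and P a proper non-abelian subgroup whose centre has order 2. Let S₀ be the centralizer in S of Z(P) and suppose P is normal in S₀. Then either S₀ = S, or P has sectional 2-rank at most 2 and S₀ has index 2 in S. -/
theorem result {S : Type*} [Group S] [Finite S] (h2 : IsPGroup 2 S) (hr : Cfsg.SectionalPRankLE 2 4 S)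
    (P : Subgroup S) (hPlt : P ≠ ⊤) (hP : ¬ IsMulCommutative ↥P) (hZP : Nat.card ↥(Subgroup.center ↥P) = 2)
    (S₀ : Subgroup S) (hS₀ : S₀ = Subgroup.centralizer (((Subgroup.center ↥P).map P.subtype : Subgroup S) : Set S))
    (hPn : ∀ s ∈ S₀, ∀ x ∈ P, s * x * s⁻¹ ∈ P) :
    S₀ = ⊤ ∨ (Cfsg.SectionalPRankLE 2 2 ↥P ∧ S₀.index = 2) := by
  open Subgroup CfsgH1 CfsgH2 CfsgFT CfsgH9 in
  rw [map_center_eq_inf] at hS₀
  rw [← card_map_subtype, map_center_eq_inf] at hZP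
  rw [or_iff_not_imp_left]
  intro hne
  replace hP := mt comm_iff.2 hP
  obtain ⟨z, z1, hz⟩ : ∃ z : S, z ≠ 1 ∧ ∀ x, x ∈ Z(P) ↔ x = 1 ∨ x = z := by
    obtain ⟨⟨z, zm⟩, h1, h3⟩ := (Nat.card_eq_two_iff' (1 : (Z(P) : Subgroup S))).1 hZP
    refine ⟨z, fun e => h1 (Subtype.ext e), fun x => ⟨fun hx => ?_, ?_⟩⟩
    · by_cases e : x = 1
      · exact Or.inl e
      · exact Or.inr (congrArg Subtype.val (h3 ⟨x, hx⟩ fun e' => e (congrArg Subtype.val e')))
    · rintro (rfl | rfl)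
      · exact one_mem _
      · exact zm
  have zZ : z ∈ Z(P) := (hz z).2 (Or.inr rfl)
  have e0 : S₀ = C1(z) := by
    rw [hS₀]
    refine le_antisymm (cent_le_cent1 zZ) fun y hy => mem_cent.2 fun x hx => ?_
    rcases (hz x).1 hx with rfl | rfl
    · simp
    · exact mem_cent1.1 hy
  have nP : S₀ ≤ N(P) := fun s hs => CfsgH2.mem_normalizer_of_conj_mem (hPn s hs)
  have hPS : P ≤ S₀ := hS₀ ▸ cent_symm inf_le_right
  have zS : Z(P) ≤ C(S₀) := cent_symm hS₀.le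
  have F : ∀ g ∈ N(S₀), g ∉ S₀ → P ⊓ cj g P = ⊥ ∧ cj g P ≤ C(P) ∧ S₀ ⊓ C(P ⊔ cj g P) ≤ Z(P) ⊔ cj g Z(P) ∧
      Z(P) ⊔ cj g Z(P) ≤ C(S₀) := by
    intro g hg hg'
    have e : Z(cj g P) = cj g Z(P) := by rw [cj_inf, cj_centralizer]
    have := two_normal hr (h2.to_subgroup S₀) hPS (cj_le_of_norm hg hPS) nP (le_norm_cj_of_norm nP hg) hP
      (by rwa [← cj_centralizer, cj_le_cj_iff]) hZP (by rw [e, card_cj, hZP]) (by
        rw [e]
        intro h
        rcases (hz _).1 (h.ge (conj_mem_cj g zZ)) with h1 | h1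
        · exact z1 (conj_eq_one_iff.1 h1)
        · exact hg' (e0 ▸ mem_cent1'.2 (mul_inv_eq_iff_eq_mul.1 h1)))
    rw [e] at this
    exact ⟨this.1, this.2.1, this.2.2, sup_le zS (cj_le_of_norm (CfsgH2.normalizer_le_normalizer_centralizer _ hg) zS)⟩
  have hlt : S₀ < N(S₀) := by
    simpa using lt_inf_normalizer (h2.to_subgroup ⊤) (lt_top_iff_ne_top.2 hne)
  obtain ⟨g, hg, hg'⟩ := SetLike.exists_of_lt hlt
  obtain ⟨f1, f2, f3, f4⟩ := F g hg hg'
  have hi : S₀.relIndex N(S₀) = 2 := by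
    have h1 := card_cls_in N(S₀) z
    rw [← e0, inf_eq_right.2 hlt.le, ← CfsgH2.card_mul_relIndex hlt.le, mul_comm] at h1
    have h3 := Nat.eq_of_mul_eq_mul_left Nat.card_pos h1
    have h4 := card_add_card_not (fun y => y ∈ Z(P) ⊔ cj g Z(P)) (fun y => y = 1)
    have h5 : Nat.card {y // y ∈ Z(P) ⊔ cj g Z(P)} = 4 := by
      have := card_sup_comm f2 f1 (inf_le_left : Z(P) ≤ _) (cj_mono g inf_le_left : cj g Z(P) ≤ _)
      rwa [card_cj, hZP] at this
    have h6 : 0 < Nat.card {y // y ∈ Z(P) ⊔ cj g Z(P) ∧ y = 1} :=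
      @Nat.card_pos _ ⟨⟨1, one_mem _, rfl⟩⟩ _
    have h7 := card_subtype_le (P := fun y => ∃ a ∈ N(S₀), a * z * a⁻¹ = y)
      (Q := fun y => y ∈ Z(P) ⊔ cj g Z(P) ∧ ¬ y = 1) (by
        rintro _ ⟨a, ha, rfl⟩
        refine ⟨f3 ⟨CfsgH2.conj_mem_of_mem_normalizer ha (hPS zZ.1), ?_⟩, fun e => z1 (conj_eq_one_iff.1 e)⟩
        exact cent_anti (sup_le hPS (cj_le_of_norm hg hPS))
          (CfsgH2.conj_mem_of_mem_normalizer (CfsgH2.normalizer_le_normalizer_centralizer _ ha) (zS zZ)))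
    obtain ⟨k, hk⟩ := (h2.to_subgroup N(S₀)).index (S₀.subgroupOf _)
    have h8 : S₀.relIndex N(S₀) ≠ 1 := fun e => hlt.not_ge (relIndex_eq_one.1 e)
    rw [← relIndex] at hk
    rw [hk] at h3 h8 ⊢
    rcases k with _ | _ | k
    · simp at h8
    · rfl
    · rw [pow_succ, pow_succ] at h3
      have : 0 < 2 ^ k := by positivity
      omega
  have two : ∀ a ∈ N(S₀), ∀ b ∈ N(S₀), a ∉ S₀ → b ∉ S₀ → a * b ∈ S₀ := fun a ha b hb h1 h3 =>
    (mul_mem_iff_of_index_two hi (a := ⟨a, ha⟩) (b := ⟨b, hb⟩)).2 (iff_of_false h1 h3)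
  constructor
  · intro H M _ A hA hA2
    let φ : H →* S := P.subtype.comp H.subtype
    have hφ : Function.Injective φ := P.subtype_injective.comp H.subtype_injective
    have lP : ∀ X : Subgroup H, X.map φ ≤ P := by rintro X _ ⟨x, -, rfl⟩; exact x.1.2
    set B := A.comap (QuotientGroup.mk' M) with hB
    have n1 : B.map φ ≤ N(M.map φ) := map_le_norm φ (le_top.trans (normalizer_eq_top M).ge)
    have s1 : ∀ x ∈ B.map φ, x ^ 2 ∈ M.map φ := by
      rintro _ ⟨x, hx, rfl⟩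
      refine ⟨x ^ 2, ?_, map_pow _ _ _⟩
      rw [SetLike.mem_coe, ← QuotientGroup.eq_one_iff, QuotientGroup.mk_pow]
      exact hA2 _ hx
    have l1 : M.map φ ≤ B.map φ := map_mono (le_comap_mk' _ _)
    have := srk_card hr (H := B.map φ ⊔ cj g (B.map φ)) (N := M.map φ ⊔ cj g (M.map φ)) (sup_le_sup l1 (cj_mono g l1))
      (sup_le (le_normalizer_sup' n1 (le_norm_of_cent' (cent_mono f2 (cj_mono g (lP _)) (lP _))))
        (le_normalizer_sup' (le_norm_of_cent (cent_mono f2 (cj_mono g (lP _)) (lP _))) (cj_le_norm_cj n1 g)))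
      (sq_sup (cent_mono f2 (cj_mono g (lP _)) (lP _)) (fun x h => mem_sup_left (s1 x h)) fun x h => mem_sup_right (by
        have := s1 _ (mem_cj.1 h)
        rw [mem_cj]
        convert this using 1
        simp [sq, mul_assoc]))
    rw [card_sup_comm f2 f1 (lP _) (cj_mono g (lP _)), card_sup_comm f2 f1 (lP _) (cj_mono g (lP _)), card_cj, card_cj,
      card_map_of_injective hφ, card_map_of_injective hφ, ← CfsgH2.card_mul_relIndex (le_comap_mk' M A),
      relIndex_comap_mk'] at this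
    have p1 : 0 < Nat.card M := Nat.card_pos
    by_contra hc
    push Not at hc
    nlinarith [Nat.mul_le_mul hc hc, Nat.mul_pos p1 p1]
  rw [← relIndex_top_right, ← hi]
  congr 1
  by_contra hne1
  have hlt1 : N(S₀) < N(N(S₀)) := by
    simpa using lt_inf_normalizer (h2.to_subgroup ⊤) (lt_top_iff_ne_top.2 (Ne.symm hne1))
  obtain ⟨h, hh, hh'⟩ := SetLike.exists_of_lt hlt1
  have k1 : ∀ y ∈ N(S₀), y * z * y⁻¹ * z⁻¹ ∈ C(N(S₀)) := by
    intro y hy
    by_cases e : y ∈ S₀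
    · rw [mem_cent1'.1 (e0.le e)]; simp
    have c1 : y * z * y⁻¹ ∈ C(S₀) :=
      CfsgH2.conj_mem_of_mem_normalizer (CfsgH2.normalizer_le_normalizer_centralizer _ hy) (zS zZ)
    have c2 : y * z * y⁻¹ * z⁻¹ ∈ C(S₀) := mul_mem c1 (inv_mem (zS zZ))
    have zz : z⁻¹ = z := ((hz _).1 (inv_mem zZ)).resolve_left (inv_ne_one.2 z1)
    have c3 : y * (y * z * y⁻¹ * z⁻¹) = y * z * y⁻¹ * z⁻¹ * y := by
      have d1 := mem_cent1'.1 (e0.le (two y hy y hy e e))
      have d2 := mem_cent.1 c1 z (hPS zZ.1)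
      rw [zz]
      calc y * (y * z * y⁻¹ * z) = y * y * z * y⁻¹ * z := by group
        _ = z * (y * z * y⁻¹) * y := by rw [d1]; group
        _ = _ := by rw [d2]
    refine mem_cent.2 fun t ht => ?_
    by_cases e' : t ∈ S₀
    · exact mem_cent.1 c2 t e'
    have d := mem_cent.1 c2 _ (two t ht y hy e' e)
    rw [mul_assoc, c3, ← mul_assoc, ← mul_assoc (y * z * y⁻¹ * z⁻¹)] at d
    exact mul_right_cancel d
  set v := h * z * h⁻¹ with hv
  have k2 : ∀ y ∈ N(S₀), y * v * y⁻¹ * v⁻¹ ∈ C(N(S₀)) := by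
    intro y hy
    have := CfsgH2.conj_mem_of_mem_normalizer (CfsgH2.normalizer_le_normalizer_centralizer _ hh)
      (k1 _ (CfsgH2.conj_mem_of_mem_normalizer' hh hy))
    convert this using 1
    rw [hv]; group
  have vS : v ∈ N(S₀) := CfsgH2.conj_mem_of_mem_normalizer hh (hlt.le (hPS zZ.1))
  have k3 : P ⊓ C(N(S₀)) = ⊥ := by
    rw [eq_bot_iff]
    rintro x ⟨x1, x2⟩
    rcases (hz x).1 ⟨x1, cent_anti (hPS.trans hlt.le) x2⟩ with rfl | rfl
    · exact one_mem _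
    · exact absurd (e0 ▸ mem_cent1'.2 (mem_cent.1 x2 g hg)) hg'
  by_cases e : v ∈ S₀
  · have k4 : ∀ X ≤ S₀, S₀ ≤ N(X) → X ⊓ C(N(S₀)) = ⊥ → v ∈ C(X) := by
      intro X h1 h3 h4
      refine mem_cent.2 fun y hy => ?_
      have m : y * v * y⁻¹ * v⁻¹ ∈ X := by
        have := X.mul_mem hy (CfsgH2.conj_mem_of_mem_normalizer (h3 e) (X.inv_mem hy))
        simpa [mul_assoc] using this
      have := mem_bot.1 (h4.le ⟨m, k2 y (hlt.le (h1 hy))⟩)
      rwa [mul_inv_eq_one, mul_inv_eq_iff_eq_mul] at this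
    have k5 : v ∈ C(S₀) := f4 (f3 ⟨e, (cent_sup _ _).ge ⟨k4 P hPS nP k3, k4 _ (cj_le_of_norm hg hPS)
      (le_norm_cj_of_norm nP hg) (by
        rw [← cj_eq_of_norm (CfsgH2.normalizer_le_normalizer_centralizer _ (le_normalizer hg)), ← cj_inf, k3, cj_bot])⟩⟩)
    apply hh'
    rw [← cj_eq_iff_mem_normalizer]
    symm
    apply CfsgH2.eq_of_le_of_card_le _ (card_cj _ _).le
    nth_rewrite 2 [e0]
    rw [cj_centralizer_singleton]
    exact le_cent1_iff.2 k5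
  · obtain ⟨g1, g2, -, -⟩ := F v vS e
    refine hP fun y hy => ?_
    have m1 : y * (v * y⁻¹ * v⁻¹) ∈ C(P) := by
      have := cent_anti (hPS.trans hlt.le) (k2 y (hlt.le (hPS hy)))
      simpa [mul_assoc] using this
    exact (mul_mem_cancel_right (g2 (conj_mem_cj v (P.inv_mem hy)))).1 m1

end Cfsg.Agent.S4401
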