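import Cfsg.Statements.S4403
import Cfsg.Agent.H2.Roq
import Mathlib.RingTheory.ZMod.UnitsCyclic

set_option autoImplicit false
open Cfsg

namespace Cfsg.Agent.S4403
open Subgroup CfsgH2
open scoped commutatorElement

/-- Let K be a finite group, p a prime dividing its order with O_{p'}(K) = 1 (no nontrivial normal subgroup of order prime to p), and P a cyclic Sylow p-subgroup of K. Then either P is normal and self-centralizing in K with K/P cyclic of order dividing p − 1 (so K is the semidirect product of P by a group of automorphisms of P of order dividing p − 1), or the generalized Fitting subgroup F*(K) is a non-abelian simple group and p does not divide the index of F*(K) in K. -/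
theorem result {K : Type*} [Group K] [Finite K] (p : ℕ) [Fact p.Prime] (hp : p ∣ Nat.card K) (hO : Cfsg.pPrimeCore p K = ⊥)
    (P : Sylow p K) (hP : IsCyclic ↥(P : Subgroup K)) :
    ((P : Subgroup K).Normal ∧ Subgroup.centralizer ((P : Subgroup K) : Set K) = (P : Subgroup K) ∧
      (∀ (_ : (P : Subgroup K).Normal), IsCyclic (K ⧸ (P : Subgroup K))) ∧ (P : Subgroup K).index ∣ p - 1) ∨
    (IsSimpleGroup ↥(Cfsg.generalizedFittingSubgroup K) ∧ ¬ IsMulCommutative ↥(Cfsg.generalizedFittingSubgroup K) ∧
      ¬ p ∣ (Cfsg.generalizedFittingSubgroup K).index) := by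
  have hp' : Fact p.Prime := inferInstance
  have hS := IsSylowIn.of_sylow_top P
  have hP0 : (P : Subgroup K) ≠ ⊥ := fun h => hS.eq_bot_iff.1 h (by rwa [card_top])
  have hPc : (P : Subgroup K) ≤ centralizer ((P : Subgroup K) : Set K) := by
    intro x hx y hy
    obtain ⟨g, hg⟩ := isCyclic_iff_zpowers.1 hP
    rw [← hg] at hx hy
    obtain ⟨i, rfl⟩ := hx
    obtain ⟨j, rfl⟩ := hy
    exact Commute.zpow_zpow_self g j i
  have hF := CfsgH1.fitting_eq_pCore_of_pPrimeCore_eq_bot p hO
  have hOP := CfsgH1.pCore_le_sylow P
  by_cases hE : layer K = ⊥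
  · left
    have h1 := CfsgLead.centralizer_fitting_le_of_layer_eq_bot hE
    rw [hF] at h1
    have h2 : (P : Subgroup K) = pCore p K :=
      le_antisymm ((hPc.trans (centralizer_le hOP)).trans h1) hOP
    haveI hn : (P : Subgroup K).Normal := by rw [h2]; infer_instance
    have h3 : centralizer ((P : Subgroup K) : Set K) = P := le_antisymm (by rw [h2]; exact h1) hPc
    have hker : (MulAut.conjNormal : K →* MulAut (P : Subgroup K)).ker = P := by
      refine Eq.trans ?_ h3
      ext g
      rw [MonoidHom.mem_ker, mem_centralizer_iff]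
      constructor
      · intro h x hx
        have := congrArg Subtype.val (DFunLike.congr_fun h (⟨x, hx⟩ : (P : Subgroup K)))
        rw [MulAut.conjNormal_apply] at this
        exact (mul_inv_eq_iff_eq_mul.1 this).symm
      · intro h
        ext x
        rw [MulAut.conjNormal_apply, ← h x x.2]; simp
    obtain ⟨k, hk⟩ := IsPGroup.iff_card.1 P.isPGroup'
    have hk0 : 0 < k := by
      rcases k with _ | k
      · exact absurd (card_eq_one.1 hk) hP0
      · omega
    have hi : (P : Subgroup K).index ∣ p - 1 := by
      have h4 : (P : Subgroup K).index ∣ p ^ (k - 1) * (p - 1) := by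
        rw [← Nat.totient_prime_pow hp'.out hk0, ← hk, ← IsCyclic.card_mulAut]
        have := card_subgroup_dvd_card (MulAut.conjNormal : K →* MulAut (P : Subgroup K)).range
        rwa [← index_ker, hker] at this
      exact Nat.Coprime.dvd_of_dvd_mul_left (Nat.Coprime.pow_right _
        ((Nat.Prime.coprime_iff_not_dvd hp'.out).2 P.not_dvd_index).symm) h4
    refine ⟨hn, h3, fun _ => ?_, hi⟩
    by_cases h2' : p = 2
    · subst h2'
      have : Nat.card (K ⧸ (P : Subgroup K)) = 1 := Nat.dvd_one.1 hi
      haveI := (Nat.card_eq_one_iff_unique.1 this).1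
      infer_instance
    · haveI : IsCyclic (MulAut (P : Subgroup K)) :=
        (IsCyclic.mulAutMulEquiv (P : Subgroup K)).isCyclic.2
          (by rw [hk]; exact ZMod.isCyclic_units_of_prime_pow p hp'.out h2' k)
      exact isCyclic_of_injective (QuotientGroup.lift (P : Subgroup K) MulAut.conjNormal hker.ge)
        ((QuotientGroup.injective_lift_iff _ _ _).2 hker.symm)
  · right
    haveI := CfsgLead.layer_normal K
    have hPE : (P : Subgroup K) ≤ layer K := by
      by_contra hn
      have := roquette (N := layer K) hS (le_frattini_of_cyclic P.isPGroup' hP inf_le_right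
        fun e => hn (e.ge.trans inf_le_left))
      apply hE
      rw [eq_bot_iff, CfsgLead.layer_le_iff]
      intro L hL
      exact absurd (pgroup_of_npc hO hL.1 (hasNPC_mono (CfsgLead.le_layer hL) this)) (qs_not_pgroup hL.2)
    have hPL : ∀ L : Subgroup K, IsComponent L → (P : Subgroup K) ≤ L := by
      intro L hL
      by_contra hn
      have := roquette' (hS.mono hPE le_top) (CfsgLead.le_layer hL) (layer_le_normalizer_component hL)
        (le_frattini_of_cyclic P.isPGroup' hP inf_le_right fun e => hn (e.ge.trans inf_le_left))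
      exact qs_not_pgroup hL.2 (pgroup_of_npc hO hL.1 this)
    have hZ : ∀ L : Subgroup K, IsComponent L → (P : Subgroup K) ⊓ centralizer (L : Set K) = ⊥ := by
      intro L hL
      rw [eq_bot_iff]
      rintro g ⟨h1, h2⟩
      have := mem_der_of_central (hS.mono (hPL L hL) le_top) (CfsgLead.qs_perfect hL.2) h1 h2
      rwa [commutator_eq_bot_iff_le_centralizer.2 hPc] at this
    obtain ⟨L, hL⟩ : ∃ L : Subgroup K, IsComponent L := by
      by_contra hn
      exact hE (eq_bot_iff.2 (CfsgLead.layer_le_iff.2 fun L hL => absurd ⟨L, hL⟩ hn))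
    have hEL : layer K = L := by
      refine le_antisymm (CfsgLead.layer_le_iff.2 fun M hM => ?_) (CfsgLead.le_layer hL)
      rcases CfsgLead.component_eq_or_commute hM hL with e | e
      · exact e.le
      · exact absurd (eq_bot_iff.2 ((le_inf le_rfl ((hPL M hM).trans
          (commutator_eq_bot_iff_le_centralizer.1 e))).trans (hZ L hL).le)) hP0
    have hF0 : fittingSubgroup K = ⊥ := by
      have h1 := CfsgLead.layer_commute_fitting K
      rw [commutator_comm, hEL, commutator_eq_bot_iff_le_centralizer] at h1
      exact eq_bot_iff.2 ((le_inf (hF.le.trans hOP) h1).trans (hZ L hL).le)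
    have hFs : generalizedFittingSubgroup K = L := by
      rw [generalizedFittingSubgroup, hEL, hF0, sup_bot_eq]
    rw [hFs]
    haveI hLn : L.Normal := hEL ▸ CfsgLead.layer_normal K
    have hZ0 : center L = ⊥ := by
      have h1 : (center L).map L.subtype ≤ fittingSubgroup K :=
        CfsgH1.le_fitting (CfsgH1.isNilpotent_map CfsgH1.isNilpotent_of_isMulCommutative _)
      rw [hF0, le_bot_iff, map_eq_bot_iff_of_injective _ L.subtype_injective] at h1
      exact h1
    refine ⟨?_, fun h => CfsgLead.qs_not_solvable hL.2
      (by haveI : Group.IsNilpotent L := CfsgH1.isNilpotent_of_isMulCommutative; infer_instance), fun h =>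
      P.not_dvd_index (h.trans (index_dvd_of_le (hPL L hL)))⟩
    haveI := hL.2.2
    exact ((QuotientGroup.quotientMulEquivOfEq hZ0).trans QuotientGroup.quotientBot).symm.isSimpleGroup


end Cfsg.Agent.S4403
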