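import Cfsg.Statements.S4405
import Cfsg.Agent.H2.Minus5
import Cfsg.Agent.H2.CharP

set_option autoImplicit false
open Cfsg

namespace Cfsg.Agent.S4405
open Subgroup CfsgH2
open scoped commutatorElement

open CfsgFT

/-- Let G be a finite group of order 320 = 64·5 whose largest normal 2-subgroup H = O₂(G) equals the Fitting subgroup F(G) and is extraspecial of order 32 containing no elementary abelian subgroup of order 8 (so H is the central product of a quaternion group and a dihedral group of order 8). If T is an involution of G outside H whose centralizer in H contains an elementary abelian subgroup of order 4, then C_H(T) itself is elementary abelian of order 4. -/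
theorem result {G : Type*} [Group G] [Finite G]
    (hG : Nat.card G = 320) (hHF : Cfsg.pCore 2 G = Cfsg.fittingSubgroup G)
    (hex : Cfsg.IsExtraspecial 2 ↥(Cfsg.pCore 2 G)) (h32 : Nat.card ↥(Cfsg.pCore 2 G) = 32)
    (hminus : ∀ A : Subgroup G, A ≤ Cfsg.pCore 2 G → Cfsg.IsElementaryAbelian 2 A → Nat.card ↥A ≤ 4)
    (T : G) (hT : orderOf T = 2) (hTH : T ∉ Cfsg.pCore 2 G)
    (V : Subgroup G) (hV : V ≤ Cfsg.pCore 2 G ⊓ Subgroup.centralizer ({T} : Set G)) (hV4 : Nat.card ↥V = 4) (hVe : Cfsg.IsElementaryAbelian 2 V) :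
    Nat.card ↥(Cfsg.pCore 2 G ⊓ Subgroup.centralizer ({T} : Set G)) = 4 ∧
      Cfsg.IsElementaryAbelian 2 (Cfsg.pCore 2 G ⊓ Subgroup.centralizer ({T} : Set G)) := by
  set H := pCore 2 G with hH
  haveI hn : H.Normal := inferInstance
  have hp : IsPGroup 2 H := CfsgH1.isPGroup_pCore 2 G
  obtain ⟨z, h⟩ := M5.of hex h32 fun A hA => by
    have := hminus (A.map H.subtype) (map_subtype_le _) (ea_map hA _)
    rwa [card_map_of_injective H.subtype_injective] at this
  have hidx : H.index = 10 := by have := H.card_mul_index; rw [h32, hG] at this; omega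
  have hC : centralizer (H : Set G) ≤ H := by
    haveI : Group.IsSolvable H := by haveI := hp.isNilpotent; infer_instance
    haveI : IsZGroup (G ⧸ H) := IsZGroup.of_squarefree (by
      rw [← index_eq_card, hidx, show 10 = 2 * 5 from rfl]
      exact (Nat.squarefree_mul (by norm_num)).2 ⟨Nat.prime_two.squarefree, Nat.prime_five.squarefree⟩)
    haveI : Group.IsSolvable G := Group.isSolvable_of_ker_le_range H.subtype (QuotientGroup.mk' H) (by simp)
    rw [hHF]; exact CfsgH1.centralizer_fitting_le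
  letI : MulAction G (Om H) := MulAction.compHom _ (MulAut.conjNormal : G →* MulAut H)
  have sm : ∀ (g : G) (v : Om H), g • v = (MulAut.conjNormal g : MulAut H) • v := fun _ _ => rfl
  have hker : ∀ g : G, (∀ v : Om H, g • v = v) ↔ g ∈ H := fun g => by
    refine ⟨fun e => ?_, fun e v => ?_⟩
    · obtain ⟨k, hk⟩ := h.inner_of_triv e
      refine (mul_mem_cancel_left (inv_mem k.2)).1 (hC (mem_centralizer_iff.2 fun x hx => ?_))
      have : g * x * g⁻¹ = k * x * (k : G)⁻¹ := congrArg Subtype.val (hk ⟨x, hx⟩)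
      rw [mul_assoc, eq_mul_of_mul_inv_eq this]; group
    · have h1 : MulAut.conj (⟨g, e⟩ : H) ∈ (MulAction.toPermHom (MulAut H) (Om H)).ker :=
        h.ker_eq ▸ ⟨_, rfl⟩
      exact DFunLike.congr_fun (MonoidHom.mem_ker.1 h1) v
  haveI : Fact (Nat.Prime 5) := ⟨Nat.prime_five⟩
  obtain ⟨f, hf⟩ := exists_prime_orderOf_dvd_card' (G := G) 5 (by rw [hG]; norm_num)
  have hfix : ∀ v : Om H, f • v ≠ v := fun v e => by
    have h1 := (isPGroup_zpowers_of_orderOf (p := 5) (k := 1) hf).card_modEq_card_fixedPoints (Om H)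
    have h2 : v ∈ MulAction.fixedPoints (zpowers f) (Om H) := fun g =>
      (zpowers_le_of_mem (MulAction.mem_stabilizer_iff.2 e) g.2 : (g : G) • v = v)
    have h3 : 0 < Nat.card (MulAction.fixedPoints (zpowers f) (Om H)) := Nat.card_pos_iff.2 ⟨⟨⟨v, h2⟩⟩, inferInstance⟩
    have h4 := Set.ncard_le_card (MulAction.fixedPoints (zpowers f) (Om H))
    rw [Nat.card_coe_set_eq] at h1 h3
    have h5 : MulAction.fixedPoints (zpowers f) (Om H) = Set.univ := (Set.eq_univ_iff_ncard _).2 (by
      rw [h.card_Om] at h1 h4 ⊢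
      unfold Nat.ModEq at h1
      omega)
    have h6 := (hker f).1 fun w => (h5 ▸ Set.mem_univ w : w ∈ MulAction.fixedPoints (zpowers f) (Om H))
      ⟨f, mem_zpowers f⟩
    have := eq_one_of_odd_of_mem hp h6 (by rw [hf]; decide)
    rw [this, orderOf_one] at hf
    omega
  have T2 : T ^ 2 = 1 := hT ▸ pow_orderOf_eq_one T
  have hTn : T ∈ normalizer (H : Set G) := by rw [normalizer_eq_top]; trivial
  have hS := card_sup_zpowers (p := 2) hTn hTH (T2 ▸ one_mem _)
  have hSi : (H ⊔ zpowers T).relIndex ⊤ = 5 := by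
    have := (H ⊔ zpowers T).card_mul_index
    rw [hS, h32, hG] at this
    rw [relIndex_top_right]; omega
  have hst : ∀ v : Om H, T • v = v → MulAction.stabilizer G v = H ⊔ zpowers T := fun v e =>
    (eq_or_eq_of_relIndex_prime hSi (sup_le (fun g hg => (hker g).2 hg v) (zpowers_le_of_mem e))
      le_top).resolve_right fun e' => hfix v (e' ▸ mem_top f : f ∈ MulAction.stabilizer G v)
  have huniq : ∀ a : Om H, T • a = a → ∀ v : Om H, T • v = v → v = a := fun a ha v hv => by
    have h1 : MulAction.orbit G a = Set.univ := (Set.eq_univ_iff_ncard _).2 (by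
      rw [← MulAction.index_stabilizer, hst a ha, h.card_Om, ← relIndex_top_right, hSi])
    obtain ⟨g, rfl⟩ : v ∈ MulAction.orbit G a := h1 ▸ Set.mem_univ v
    have h2 := hst _ hv
    rw [MulAction.stabilizer_smul_eq_stabilizer_map_conj, hst a ha, cj_def, cj_eq_iff_mem_normalizer] at h2
    rcases eq_or_eq_of_relIndex_prime hSi le_normalizer le_top with e | e
    · rw [e, ← hst a ha] at h2
      exact h2
    · haveI := normalizer_eq_top_iff.1 e
      exact (hTH (CfsgH1.le_pCore (pg_sup hp (isPGroup_zpowers_of_orderOf (k := 1) hT)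
        (zpowers_le_of_mem hTn)) (mem_sup_right (mem_zpowers T)))).elim
  have fx : ∀ x : H, (x : G) ∈ centralizer ({T} : Set G) → MulAut.conjNormal T x = x := fun x hx =>
    Subtype.ext (by
      rw [MulAut.conjNormal_apply, ← (mem_centralizer_singleton_iff'.1 hx).eq, mul_inv_cancel_right])
  obtain ⟨x, hxV, hx⟩ : ∃ x ∈ V, x ∉ zpowers (z : G) := by
    by_contra hn'
    push Not at hn'
    have := card_le_of_le (show V ≤ zpowers (z : G) from hn')
    rw [hV4, Nat.card_zpowers, Subgroup.orderOf_coe, h.ord] at this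
    omega
  have x2 : (⟨x, (hV hxV).1⟩ : H) ^ 2 = 1 := Subtype.ext (hVe.2 x hxV)
  have xc : (⟨x, (hV hxV).1⟩ : H) ∉ center H := fun e => hx (by
    rw [h.center_eq] at e
    obtain ⟨k, hk⟩ := e
    exact ⟨k, congrArg Subtype.val hk⟩)
  have h1 : ∀ c ∈ H ⊓ centralizer ({T} : Set G), c ^ 2 = 1 := fun c hc => congrArg Subtype.val
    (h.sq_of_fixed (φ := MulAut.conjNormal T) (fun y => by
      rw [← MulAut.mul_apply, ← map_mul, ← sq, T2, map_one, MulAut.one_apply])
      (huniq (Om.mk _ x2 xc) ((Om.smul_mk _ _ _ _).trans (Om.mk_eq.2 (by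
        rw [fx _ (hV hxV).2, inv_mul_cancel]; exact one_mem _)))) x2 xc (fx _ (hV hxV).2) (fx ⟨c, hc.1⟩ hc.2))
  have h2 : IsElementaryAbelian 2 (H ⊓ centralizer ({T} : Set G)) := ea_iff.2 ⟨fun a ha b hb =>
    commute_of_mul_self (by rw [← sq, h1 a ha]) (by rw [← sq, h1 b hb])
      (by rw [← sq, h1 _ (mul_mem ha hb)]), h1⟩
  exact ⟨le_antisymm (hminus _ inf_le_left h2) (hV4 ▸ card_le_of_le hV), h2⟩


end Cfsg.Agent.S4405
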