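import Cfsg.Statements.S4406
import Cfsg.Agent.H1.PG3

set_option autoImplicit false
open Cfsg

namespace Cfsg.Agent.S4406

set_option synthInstance.maxSize 1000 in
theorem aux : ∀ a : alternatingGroup (Fin 4), a ^ 3 = 1 → a ≠ 1 → ∀ s : alternatingGroup (Fin 4), s ^ 4 = 1 → s ≠ 1 →
    ∀ t : alternatingGroup (Fin 4), t ^ 4 = 1 → t ≠ 1 → s ≠ t → s * s = 1 ∧ t * t = 1 ∧ s * t = t * s ∧
    ∃ b, (b = a ∨ b = a⁻¹) ∧ b * s * b⁻¹ = t ∧ b * t * b⁻¹ = s * t := by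
  decide +kernel

/-- In the direct product P = A₄ × A₄, let X be the Sylow 2-subgroup, X₁ and X₂ its intersections with the two direct factors, Q a Sylow 3-subgroup and Q₁, Q₂ its intersections with the two factors. Then every subgroup B of X of order 4 either meets X₁ or X₂ nontrivially, or is normalized by one of the two subgroups of Q of order 3 other than Q₁ and Q₂. -/
theorem result
    (X : Sylow 2 (↥(alternatingGroup (Fin 4)) × ↥(alternatingGroup (Fin 4))))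
    (Q : Sylow 3 (↥(alternatingGroup (Fin 4)) × ↥(alternatingGroup (Fin 4))))
    (B : Subgroup (↥(alternatingGroup (Fin 4)) × ↥(alternatingGroup (Fin 4)))) (hBX : B ≤ (X : Subgroup _)) (hB4 : Nat.card ↥B = 4) :
    B ⊓ ((X : Subgroup _) ⊓ Subgroup.prod ⊤ ⊥) ≠ ⊥ ∨ B ⊓ ((X : Subgroup _) ⊓ Subgroup.prod ⊥ ⊤) ≠ ⊥ ∨
      ∃ R : Subgroup (↥(alternatingGroup (Fin 4)) × ↥(alternatingGroup (Fin 4))), R ≤ (Q : Subgroup _) ∧ Nat.card ↥R = 3 ∧
        R ≠ (Q : Subgroup _) ⊓ Subgroup.prod ⊤ ⊥ ∧ R ≠ (Q : Subgroup _) ⊓ Subgroup.prod ⊥ ⊤ ∧ R ≤ Subgroup.normalizer (B : Set _) := by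
  open Subgroup CfsgH1 CfsgFT CfsgH2 in
  by_contra! hc
  obtain ⟨c1, c2, c3⟩ := hc
  have n1 : ∀ s ∈ B, s.1 = 1 → s = 1 := fun s hs e => eq_bot_iff.1 c2 ⟨hs, hBX hs, e, trivial⟩
  have n2 : ∀ s ∈ B, s.2 = 1 → s = 1 := fun s hs e => eq_bot_iff.1 c1 ⟨hs, hBX hs, trivial, e⟩
  have p4 : ∀ s ∈ B, s ^ 4 = 1 := fun s hs => orderOf_dvd_iff_pow_eq_one.1 ((Subgroup.orderOf_dvd_natCard _ hs).trans hB4.dvd)
  haveI := Fact.mk Nat.prime_three
  have ex : ∀ M : Subgroup (alternatingGroup (Fin 4) × alternatingGroup (Fin 4)), M.Normal → Nat.card M = 12 →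
      ∃ a ∈ (Q : Subgroup _) ⊓ M, a ≠ 1 ∧ a ^ 3 = 1 := fun M _ hM => by
    obtain ⟨a, h1, h2, h3, -⟩ := exists_central_of_ne_bot (IsSylowIn.sylow_inf_normal Q M).pgroup le_rfl le_normalizer
      (mt (IsSylowIn.sylow_inf_normal Q M).eq_bot_iff.1 (by rw [hM]; norm_num))
    exact ⟨a, h1, h2, h3⟩
  obtain ⟨⟨a, _⟩, ⟨a0, -, rfl : _ = 1⟩, a1, a3⟩ := ex (Subgroup.prod ⊤ ⊥) inferInstance
    (by rw [Nat.card_congr (prodEquiv _ _).toEquiv, Nat.card_prod, card_top, card_bot, card_A4])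
  obtain ⟨⟨_, b⟩, ⟨b0, rfl : _ = 1, -⟩, b1, b3⟩ := ex (Subgroup.prod ⊥ ⊤) inferInstance
    (by rw [Nat.card_congr (prodEquiv _ _).toEquiv, Nat.card_prod, card_top, card_bot, card_A4])
  obtain ⟨s, t, u, st, su, tu⟩ := (@Fintype.two_lt_card_iff {x // x ∈ B ∧ x ≠ 1} (Fintype.ofFinite _)).1 (by
    have := card_sdiff (bot_le : ⊥ ≤ B)
    rw [card_bot, hB4] at this
    simp only [mem_bot] at this
    rw [← @Nat.card_eq_fintype_card _ (Fintype.ofFinite _)]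
    exact this.symm ▸ by norm_num)
  obtain ⟨s, hs, s1⟩ := s
  obtain ⟨t, ht, t1⟩ := t
  replace st : s ≠ t := fun e => st (Subtype.ext e)
  have st' : s * t⁻¹ ≠ 1 := mt mul_inv_eq_one.1 st
  have m := mul_mem hs (inv_mem ht)
  obtain ⟨e1, e2, e3, a', ha, e4, e5⟩ := aux a (congrArg Prod.fst a3) (fun e => a1 (by rw [e]; rfl)) s.1
    (congrArg Prod.fst (p4 s hs)) (mt (n1 s hs) s1) t.1 (congrArg Prod.fst (p4 t ht)) (mt (n1 t ht) t1)
    fun e => st' (n1 _ m (by simp [e]))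
  obtain ⟨f1, f2, f3, b', hb, f4, f5⟩ := aux b (congrArg Prod.snd b3) (fun e => b1 (by rw [e]; rfl)) s.2
    (congrArg Prod.snd (p4 s hs)) (mt (n2 s hs) s1) t.2 (congrArg Prod.snd (p4 t ht)) (mt (n2 t ht) t1)
    fun e => st' (n2 _ m (by simp [e]))
  have a1' : a' ≠ 1 := by rcases ha with rfl | rfl <;> simpa using a1
  have b1' : b' ≠ 1 := by rcases hb with rfl | rfl <;> simpa using b1
  have hB : closure {s, t} = B := CfsgH1.eq_of_le_of_card_le ((closure_le _).2 (Set.pair_subset hs ht)) (by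
    rw [hB4, (isKleinFour_closure (orderOf_eq_prime (by rw [pow_two]; exact Prod.ext e1 f1) s1)
      (orderOf_eq_prime (by rw [pow_two]; exact Prod.ext e2 f2) t1) st (Prod.ext e3 f3)).1])
  refine c3 (zpowers (a', b')) (zpowers_le.2 ?_) ?_ (fun e => b1' (e ▸ mem_zpowers (a', b')).2.2)
    (fun e => a1' (e ▸ mem_zpowers (a', b')).2.1) (zpowers_le.2 (mem_normalizer_of_cj_le ?_))
  · have : (a', b') = (a', 1) * (1, b') := by simp
    rw [this]
    refine mul_mem ?_ ?_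
    · rcases ha with rfl | rfl
      exacts [a0, by simpa using Q.1.inv_mem a0]
    · rcases hb with rfl | rfl
      exacts [b0, by simpa using Q.1.inv_mem b0]
  · rw [Nat.card_zpowers]
    refine orderOf_eq_prime (Prod.ext ?_ ?_) fun e => a1' (congrArg Prod.fst e)
    · rcases ha with rfl | rfl <;> simpa using congrArg Prod.fst a3
    · rcases hb with rfl | rfl <;> simpa using congrArg Prod.snd b3
  · rw [cj_le_iff_le_cj_inv]
    conv_lhs => rw [← hB]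
    refine (closure_le _).2 (Set.pair_subset (mem_cj.2 ?_) (mem_cj.2 ?_)) <;> rw [inv_inv]
    · rw [show (a', b') * s * (a', b')⁻¹ = t from Prod.ext e4 f4]; exact ht
    · rw [show (a', b') * t * (a', b')⁻¹ = s * t from Prod.ext e5 f5]; exact mul_mem hs ht

end Cfsg.Agent.S4406
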