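import Cfsg.Statements.S4408
import Cfsg.Agent.H2.Mix2

set_option autoImplicit false
open Cfsg

namespace Cfsg.Agent.S4408
open Subgroup CfsgH2
open scoped commutatorElement

open CfsgFT CfsgH1 CfsgLead
variable {G : Type*} [Group G] [Finite G]

theorem ex_prime {I V : Subgroup G} (hI : IsElementaryAbelian 2 I) (hn : I ≤ N(V)) (ho : Odd (Nat.card V)) (hb : V ≠ ⊥) :
    ∃ W ≤ V, (Nat.card W).Prime ∧ I ≤ N(W) := by
  obtain ⟨W, w1, ⟨w2, w3⟩, w4⟩ := exists_minimal_subgroup (Φ := fun W => W ≠ ⊥ ∧ I ≤ N(W)) ⟨hb, hn⟩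
  obtain ⟨q, hq, d⟩ := Nat.exists_prime_and_dvd fun e => w2 (card_eq_one.1 e)
  haveI := Fact.mk hq
  obtain ⟨⟨x, hx⟩, e⟩ := exists_prime_orderOf_dvd_card' q d
  rw [orderOf_mk] at e
  refine ⟨zpowers x, (zpowers_le.2 hx).trans w1, by rwa [Nat.card_zpowers, e], fun i hi => mem_norm_iff_cj.2 ?_⟩
  rw [cj_zpowers]
  by_cases c : W ⊓ C1(i) = ⊥
  · rw [inverts_of_fpf (w3 hi) (by rw [← pow_two]; exact hI.2 i hi) c x hx, zpowers_inv]
  · have := w4 _ ⟨c, le_normalizer_inf' w3 (le_norm_of_le (le_cent1_iff.2 (comm_iff.1 hI.1 hi)))⟩ inf_le_left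
    rw [mem_cent1.1 (this.ge hx).2, mul_inv_cancel_right]

theorem aux {I : Subgroup G} (hI : IsElementaryAbelian 2 I) (n : ℕ) : ∀ J A : Subgroup G, J ≤ I → Nat.card J = 2 ^ n →
    A ≤ C(A) → Odd (Nat.card A) → I ≤ N(A) → J ⊓ C(A) = ⊥ → ∃ f : Fin n → Subgroup G, (∀ i, (Nat.card (f i)).Prime) ∧
      (∀ i, f i ≤ A) ∧ (∀ i, I ≤ N(f i)) ∧ Nat.card ↥(⨆ i, f i) = ∏ i, Nat.card ↥(f i) ∧ J ⊓ C(⨆ i, f i) = ⊥ := by
  have hc := comm_iff.1 hI.1
  induction n with
  | zero =>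
    intro J A _ e _ _ _ _
    exact ⟨Fin.elim0, by simp, by simp, by simp, by simp, by simp [card_eq_one.1 e]⟩
  | succ n ih =>
    intro J A h1 h2 h3 h4 h5 h6
    haveI := comm_iff.2 h3
    have pI : IsPGroup 2 I := isPGroup_of_forall_pow_eq_one hI.2
    have cop : ∀ B ≤ I, (Nat.card B).Coprime (Nat.card A) := fun B hB =>
      IsPGroup.coprime_card_of_coprime (pI.to_le hB) (coprime_two_iff_odd.2 h4)
    have nc : ∀ B ≤ I, I ≤ N(⁅A, B⁆) := fun B hB => le_normalizer_commutator' h5 (le_norm_of_comm hc hB)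
    have lc : ∀ B ≤ I, ⁅A, B⁆ ≤ A := fun B hB => comm_le_left (hB.trans h5)
    have db := fun B hB => centralizer_inf_commutator_eq_bot (hB.trans h5) (cop B hB)
    have J0 : J ≠ ⊥ := fun e => by
      rw [e, card_bot] at h2; exact absurd h2.symm (Nat.ne_of_gt (Nat.one_lt_two_pow n.succ_ne_zero))
    obtain ⟨W, w1, w2, w3⟩ := ex_prime hI (nc J h1) (h4.of_dvd_nat (card_dvd_of_le (lc J h1))) fun e =>
      J0 (eq_bot_iff.2 ((le_inf le_rfl (cent_symm (cent_of_comm_eq_bot e))).trans h6.le))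
    have W0 : W ≠ ⊥ := fun e => w2.ne_one (card_eq_one.2 e)
    have WA := w1.trans (lc J h1)
    have c1 : ¬ J ≤ C(W) := fun e => W0 (eq_bot_iff.2 ((le_inf (le_inf WA (cent_symm e)) w1).trans (db J h1).le))
    have c2 : (J ⊓ C(W)).relIndex J = 2 := by
      obtain ⟨x, x1, rfl⟩ := CfsgFT.exists_zpowers_of_card_prime w2
      have k : ∀ i ∈ I, i ∉ C(zpowers x) → i * x * i⁻¹ = x⁻¹ := fun i hi e => by
        refine inverts_of_fpf (w3 hi) (by rw [← pow_two]; exact hI.2 i hi) ?_ x (mem_zpowers x)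
        exact (eq_bot_or_eq_of_card_prime w2 inf_le_left).resolve_right fun c => e (le_cent1_iff.1 (c.ge.trans inf_le_right))
      obtain ⟨a, a1, a2⟩ := SetLike.not_le_iff_exists.1 c1
      refine relIndex_eq_two_iff_exists_notMem_and.2 ⟨a, a1, fun e => a2 e.2, fun b hb => or_iff_not_imp_right.2 fun e =>
        mem_inf.2 ⟨mul_mem hb a1, ?_⟩⟩
      have := k b (h1 hb) fun c => e ⟨hb, c⟩
      rw [cent_zpowers, mem_cent1, eq_comm, ← mul_inv_eq_iff_eq_mul]
      calc _ = b * (a * x * a⁻¹) * b⁻¹ := by group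
        _ = (b * x * b⁻¹)⁻¹ := by rw [k a (h1 a1) a2]; group
        _ = _ := by rw [this, inv_inv]
    obtain ⟨f, f1, f2, f3, f4, f5⟩ := ih (J ⊓ C(W)) ⁅A, J ⊓ C(W)⁆ (inf_le_left.trans h1) (by
      have := CfsgH2.card_mul_relIndex (inf_le_left : J ⊓ C(W) ≤ J)
      rw [c2, h2, pow_succ] at this
      omega) (cent_mono h3 (lc _ (inf_le_left.trans h1)) (lc _ (inf_le_left.trans h1)))
      (h4.of_dvd_nat (card_dvd_of_le (lc _ (inf_le_left.trans h1)))) (nc _ (inf_le_left.trans h1)) (by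
        refine eq_bot_iff.2 (le_trans (le_inf (inf_le_left.trans inf_le_left) ?_) h6.le)
        exact (le_cent_sup inf_le_right (inf_le_left.trans (cent_symm inf_le_right))).trans (cent_anti
          (commutator_sup_centralizer (A := J ⊓ C(W)) ((inf_le_left.trans h1).trans h5) (cop _ (inf_le_left.trans h1))
          (Or.inr (isSolvable_of_nilpotent (nilpotent_of_comm h3)))).ge))
    have e : ⨆ i, Fin.cons (α := fun _ => Subgroup G) W f i = W ⊔ ⨆ i, f i := le_antisymm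
      (iSup_le (Fin.cases le_sup_left fun i => le_sup_of_le_right (le_iSup f i)))
      (sup_le (le_iSup (Fin.cons (α := fun _ => Subgroup G) W f) 0) (iSup_le fun i =>
        le_iSup (Fin.cons (α := fun _ => Subgroup G) W f) i.succ))
    have l := (iSup_le f2)
    refine ⟨Fin.cons W f, Fin.cases w2 f1, Fin.cases WA fun i => (f2 i).trans (lc _ (inf_le_left.trans h1)),
      Fin.cases w3 f3, ?_, ?_⟩
    · rw [e, Fin.prod_univ_succ, card_sup_of_disjoint (le_norm_of_cent (cent_mono h3 (l.trans (lc _ (inf_le_left.trans h1))) WA))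
        (disjoint_iff.2 (eq_bot_iff.2 ((inf_le_inf (le_inf WA (cent_symm inf_le_right)) l).trans
        (db _ (inf_le_left.trans h1)).le))), f4]
      simp
    · rw [e, cent_sup, ← inf_assoc, f5]

/-- Let S be a finite solvable group whose Fitting subgroup F(S) has odd order, and let I be an elementary abelian 2-subgroup of S of order 2ⁿ with n ≥ 1. Then F(S) contains subgroups A₁, …, Aₙ of prime order, each normalized by I, pairwise commuting and generating a subgroup A of order |A₁|⋯|Aₙ| (their internal direct product), such that no non-identity element of I centralizes A. -/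
theorem result {S : Type*} [Group S] [Finite S]
    [Group.IsSolvable S] (hF : Odd (Nat.card ↥(Cfsg.fittingSubgroup S)))
    (I : Subgroup S) (hI : Cfsg.IsElementaryAbelian 2 I) (n : ℕ) (hn : 1 ≤ n) (hIn : Nat.card ↥I = 2 ^ n) :
    ∃ f : Fin n → Subgroup S, (∀ i, (Nat.card ↥(f i)).Prime) ∧ (∀ i, f i ≤ Cfsg.fittingSubgroup S) ∧
      (∀ i, I ≤ Subgroup.normalizer ((f i) : Set S)) ∧ (∀ i j, i ≠ j → ∀ a ∈ f i, ∀ b ∈ f j, a * b = b * a) ∧
      Nat.card ↥(⨆ i, f i) = ∏ i, Nat.card ↥(f i) ∧ I ⊓ Subgroup.centralizer ((⨆ i, f i : Subgroup S) : Set S) = ⊥ := by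
  have hN := isNilpotent_fitting S
  have nF : ∀ X : Subgroup S, X ≤ N(fittingSubgroup S) := fun _ => le_top.trans (normalizer_eq_top _).ge
  obtain ⟨A, -, ⟨a1, a2, a3, a4⟩, a5⟩ := exists_maximal_subgroup
    (Φ := fun A => A ≤ fittingSubgroup S ∧ A ≤ C(A) ∧ I ≤ N(A) ∧ fittingSubgroup S ≤ N(A)) (A := ⊥)
    (And.intro bot_le ⟨bot_le, le_norm_bot _, le_norm_bot _⟩)
  have cop : (Nat.card I).Coprime (Nat.card (fittingSubgroup S)) := hIn ▸ (Nat.coprime_two_left.2 hF).pow_left _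
  generalize hF' : fittingSubgroup S = F at *
  have a6 : F ⊓ C(A) ≤ A := by
    by_contra c
    have n1 : I ≤ N(F ⊓ C(A)) := le_normalizer_inf' (nF I) (le_normalizer_centralizer' a3)
    have n2 : F ≤ N(F ⊓ C(A)) := le_normalizer_inf' (nF F) (le_normalizer_centralizer' a4)
    obtain ⟨W, w1, w2, w3⟩ := ex_prime (I := quo A I) (V := quo A (F ⊓ C(A)) ⊓ C(quo A F)) (ea_quo hI A)
      (le_normalizer_inf' (quo_le_norm n1) (le_normalizer_centralizer' (quo_le_norm (nF I))))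
      ((odd_quo hF A).of_dvd_nat (card_dvd_of_le (inf_le_left.trans (quo_mono inf_le_left))))
      (inf_centralizer_ne_bot_of_nilpotent (nilpotent_quo hN A) (quo_mono inf_le_left) (quo_le_norm n2)
        fun e => c ((quo_eq_bot_iff (inf_le_left.trans a4)).1 e))
    have w4 := unq_le_of_le_quo (inf_le_left.trans a4) (le_inf a1 a2) (w1.trans inf_le_left)
    refine w2.ne_one (card_eq_one.2 ?_)
    rw [← quo_unq W, a5 (unq A W) ⟨w4.trans inf_le_left, ?_, le_norm_unq a3 w3,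
      le_norm_unq a4 (le_norm_of_cent' (w1.trans inf_le_right))⟩ (le_unq W), quo_self]
    obtain ⟨x, -, rfl⟩ := CfsgFT.exists_zpowers_of_card_prime w2
    obtain ⟨x, rfl⟩ := qm_surj A x
    rw [← quo_zpowers, unq_quo (zpowers_le.2 x.2)] at w4 ⊢
    exact comm_iff.1 (isMulCommutative_sup_zpowers (comm_iff.2 a2) (w4 (mem_sup_right (mem_zpowers _))).2)
  obtain ⟨f, f1, f2, f3, f4, f5⟩ := aux hI n I A le_rfl hIn a2 (hF.of_dvd_nat (card_dvd_of_le a1)) a3 (by
    have := le_centralizer_of_selfCentralizing (A := I ⊓ C(A)) (nF _) (coprime_of_le_left cop inf_le_left) a4 a6 inf_le_right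
    exact eq_bot_iff.2 ((le_inf inf_le_left (this.trans (hF' ▸ centralizer_fitting_le))).trans
      (inf_eq_bot_of_coprime' cop).le))
  exact ⟨f, f1, fun i => (f2 i).trans a1, f3, fun i j _ a ha b hb => mem_cent.1 (a2 (f2 j hb)) a (f2 i ha), f4, f5⟩


end Cfsg.Agent.S4408
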