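import Cfsg.Statements.S4410
import Cfsg.Agent.FT.Pi
import Cfsg.Agent.H1.Solv

set_option autoImplicit false
open Cfsg

namespace Cfsg.Agent.S4410

theorem ring4 {R : Type*} [Ring R] (h2 : (2 : R) = 0) {A B : R} (hA : A * A = 0) (hB : B * B = 0)
    (h : B * A = 0) : ((1 + A) * (1 + B)) ^ 4 = 1 := by
  have e : ((1 + A) * (1 + B)) ^ 2 = 1 + A * B := by
    calc ((1 + A) * (1 + B)) ^ 2 = 1 + 2 * (A + B + A * B) + A * B + A * A + B * A + B * B + A * A * B +
        B * A * B + A * (B * A) + A * (B * B) + A * (B * A) * B := by noncomm_ring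
      _ = _ := by rw [h2, hA, hB, h]; simp
  calc ((1 + A) * (1 + B)) ^ 4 = (((1 + A) * (1 + B)) ^ 2) ^ 2 := by rw [← pow_mul]
    _ = 1 + 2 * (A * B) + A * (B * A) * B := by rw [e]; noncomm_ring
    _ = 1 := by rw [h2, h]; simp

theorem tv4 {V : Type*} [AddCommGroup V] [Module (ZMod 2) V] {a b : V ≃ₗ[ZMod 2] V} {u : V}
    (ha : a * a = 1) (hb : b * b = 1) (h : ∀ w, a w = w ∨ a w = w + u) (hu : b u = u) : (a * b) ^ 4 = 1 := by
  have h2 : (2 : Module.End (ZMod 2) V) = 0 := by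
    ext w
    have : (2 : ZMod 2) • w = 0 := by rw [show (2 : ZMod 2) = 0 from rfl, zero_smul]
    rw [two_smul] at this
    exact (congrArg (fun t : Module.End (ZMod 2) V => t w) one_add_one_eq_two).symm.trans this
  have k : ∀ c : V ≃ₗ[ZMod 2] V, c * c = 1 → ((c : Module.End (ZMod 2) V) - 1) * ((c : Module.End (ZMod 2) V) - 1) = 0 := by
    intro c hc
    have e : (c : Module.End (ZMod 2) V) * c = 1 := by
      ext w; exact congrArg (fun t : V ≃ₗ[ZMod 2] V => t w) hc
    calc _ = (c : Module.End (ZMod 2) V) * c + 1 - 2 * (c : Module.End (ZMod 2) V) := by noncomm_ring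
      _ = 0 := by rw [e, one_add_one_eq_two, h2]; simp
  have := ring4 h2 (k a ha) (k b hb) (by
    ext w
    rcases h w with e | e <;> simp [e, hu])
  rw [add_sub_cancel, add_sub_cancel] at this
  ext w
  have e := congrArg (fun t : Module.End (ZMod 2) V => t w) this
  simpa [pow_succ] using e

/-- Let V be a finite-dimensional vector space over the field with two elements and S a solvable group of linear automorphisms of V with O₂(S) = 1. If P ∈ S has order 4 and (P − 1)³ = 0 on V, then the image of (P − 1)² has at least 4 elements; equivalently, in the decomposition of V into indecomposable modules for the cyclic group generated by P, at least two summands have dimension 3. -/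
theorem result
    {V : Type*} [AddCommGroup V] [Module (ZMod 2) V] [Finite V]
    (S : Subgroup (V ≃ₗ[ZMod 2] V)) (hS : Group.IsSolvable ↥S) (hO2 : Cfsg.pCore 2 ↥S = ⊥)
    (P : V ≃ₗ[ZMod 2] V) (hPS : P ∈ S) (hP4 : orderOf P = 4)
    (hcub : ((P : V →ₗ[ZMod 2] V) - LinearMap.id) ^ 3 = 0) :
    4 ≤ Nat.card ↥(LinearMap.range (((P : V →ₗ[ZMod 2] V) - LinearMap.id) ^ 2)) := by
  open Subgroup CfsgH1 CfsgH2 CfsgFT in
  by_contra hlt
  haveI : Finite (V ≃ₗ[ZMod 2] V) := Finite.of_injective (fun f : V ≃ₗ[ZMod 2] V => (f : V → V)) DFunLike.coe_injective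
  have v2 : ∀ w : V, w + w = 0 := fun w => by
    rw [← two_smul (ZMod 2), show (2 : ZMod 2) = 0 from rfl, zero_smul]
  obtain ⟨⟨u, um⟩, hu⟩ : ∃ v : LinearMap.range (((P : V →ₗ[ZMod 2] V) - LinearMap.id) ^ 2), ∀ w, ∃ c : ZMod 2, c • v = w := by
    rw [← finrank_le_one_iff]
    rw [Module.natCard_eq_pow_finrank (K := ZMod 2), Nat.card_zmod] at hlt
    by_contra h
    exact hlt (Nat.pow_le_pow_right two_pos (show 2 ≤ _ by omega))
  have hT : ∀ w, (P * P) w = w ∨ (P * P) w = w + u := by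
    intro w
    obtain ⟨c, hc⟩ := hu ⟨_, w, rfl⟩
    have e : c • u = P (P w) - w := by
      have := congrArg Subtype.val hc
      simp only [sq, Submodule.coe_smul, Module.End.mul_apply, LinearMap.sub_apply, LinearMap.id_apply,
        LinearEquiv.coe_coe, map_sub] at this
      rw [this, ← sub_eq_zero]
      calc _ = (w + w) - (P w + P w) := by abel
        _ = 0 := by rw [v2, v2, sub_zero]
    show P (P w) = w ∨ P (P w) = w + u
    rcases (by decide : ∀ c : ZMod 2, c = 0 ∨ c = 1) c with rfl | rfl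
    · left; rw [zero_smul] at e; exact sub_eq_zero.1 e.symm
    · right; rw [one_smul] at e; rw [e]; abel
  set Q : S := ⟨P, hPS⟩ with hQ
  have hF : ∀ y ∈ fittingSubgroup S, y ^ 4 = 1 → y = 1 := by
    intro y hy h4
    haveI := Fact.mk Nat.prime_two
    have := le_Opi_of_le_fit (K := ⊤) (π := {2}) (H := zpowers y) (by rw [fit_top]; exact zpowers_le.2 hy)
      (isPi_zpowers.2 ((IsPiNum.prime_pow (π := {2}) Nat.prime_two rfl 2).of_dvd (orderOf_dvd_of_pow_eq_one h4)))
    rw [Opi_top, piCore_singleton Nat.prime_two, hO2] at this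
    exact mem_bot.1 (this (mem_zpowers y))
  have Q4 : Q ^ 4 = 1 := Subtype.ext (by rw [← hP4]; exact pow_orderOf_eq_one P)
  set t := Q * Q with ht
  have tt : t * t = 1 := by rw [← Q4, ht]; simp [pow_succ, mul_assoc]
  have t1 : t ≠ 1 := fun e => by
    have : orderOf P ∣ 2 := orderOf_dvd_of_pow_eq_one (by rw [sq]; exact congrArg Subtype.val e)
    rw [hP4] at this; omega
  obtain ⟨f, hf, hft⟩ : ∃ f ∈ fittingSubgroup S, f * t ≠ t * f := by
    by_contra h
    push Not at h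
    exact t1 (hF t (centralizer_fitting_le (mem_centralizer_iff.2 h)) (by
      rw [show 4 = 2 * 2 from rfl, pow_mul, sq t, tt, one_pow]))
  let D : S → V → Prop := fun a v => a * a = 1 ∧ t * a ∈ fittingSubgroup S ∧
    ∀ w, (a : V ≃ₗ[ZMod 2] V) w = w ∨ (a : V ≃ₗ[ZMod 2] V) w = w + v
  have ti : t⁻¹ = t := inv_eq_of_mul_eq_one_left tt
  have D1 : ∀ a v b w, D a v → D b w → (b : V ≃ₗ[ZMod 2] V) v = v → a = b := by
    intro a v b w ha hb e
    have h1 := tv4 (congrArg Subtype.val ha.1) (congrArg Subtype.val hb.1) ha.2.2 e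
    have h2 := hF (a * b) (by
      have := mul_mem (inv_mem ha.2.1) hb.2.1
      rwa [mul_inv_rev, inv_eq_of_mul_eq_one_left ha.1, mul_assoc, inv_mul_cancel_left] at this) (Subtype.ext h1)
    rw [eq_inv_of_mul_eq_one_left h2, inv_eq_of_mul_eq_one_left hb.1]
  have D2 : ∀ a v b w, D a v → D b w → a ≠ b → (b : V ≃ₗ[ZMod 2] V) v = v + w := fun a v b w ha hb e =>
    (hb.2.2 v).resolve_left fun h => e (D1 a v b w ha hb h)
  have D3 : ∀ a v (g : S), D a v → t * (g * t * g⁻¹) ∈ fittingSubgroup S →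
      D (g * a * g⁻¹) ((g : V ≃ₗ[ZMod 2] V) v) := by
    intro a v g ha hg
    refine ⟨by rw [conj_mul, ha.1]; simp, ?_, fun w => ?_⟩
    · have := mul_mem hg ((inferInstance : (fittingSubgroup S).Normal).conj_mem _ ha.2.1 g)
      convert this using 1
      calc t * (g * a * g⁻¹) = t * g * (t * t) * a * g⁻¹ := by rw [tt]; group
        _ = _ := by group
    · rcases ha.2.2 ((g : V ≃ₗ[ZMod 2] V)⁻¹ w) with e | e
      · left
        show (g : V ≃ₗ[ZMod 2] V) ((a : V ≃ₗ[ZMod 2] V) ((g : V ≃ₗ[ZMod 2] V)⁻¹ w)) = w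
        rw [e]; simp
      · right
        show (g : V ≃ₗ[ZMod 2] V) ((a : V ≃ₗ[ZMod 2] V) ((g : V ≃ₗ[ZMod 2] V)⁻¹ w)) = _
        rw [e]; simp
  have d0 : D t u := ⟨tt, by rw [tt]; exact one_mem _, hT⟩
  have d1 := D3 t u f d0 (by
    have := mul_mem ((inferInstance : (fittingSubgroup S).Normal).conj_mem _ hf t) (inv_mem hf)
    rw [ti] at this
    simpa [mul_assoc] using this)
  have Qt : Q * t * Q⁻¹ = t := by rw [ht]; group
  have n1 : f * t * f⁻¹ ≠ t := fun e => hft (mul_inv_eq_iff_eq_mul.1 e)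
  generalize f * t * f⁻¹ = s at d1 n1
  have d2 := D3 s _ Q d1 (by rw [Qt, tt]; exact one_mem _)
  have d3 := D3 s _ t d1 (by rw [mul_inv_cancel_right, tt]; exact one_mem _)
  have n2 : Q * s * Q⁻¹ ≠ t := fun e => n1 (by
    rw [← Qt, mul_left_inj, mul_right_inj] at e; exact e)
  have k : t * s * t⁻¹ = s := by
    have e0 : t * s * t⁻¹ = Q * (Q * s * Q⁻¹) * Q⁻¹ := by rw [ht]; group
    by_cases e : s = Q * s * Q⁻¹
    · rw [e0, ← e, ← e]
    have e1 := D1 _ _ _ _ d3 d2 (by
      rw [D2 _ _ _ _ d1 d0 n1, map_add, D2 _ _ _ _ d1 d2 e, D2 _ _ _ _ d0 d2 n2.symm, add_add_add_comm, v2, add_zero])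
    have e2 : Q * (t * s * t⁻¹) * Q⁻¹ = t * (Q * s * Q⁻¹) * t⁻¹ := by rw [ht]; group
    calc t * s * t⁻¹ = Q * (t * s * t⁻¹) * Q⁻¹ := by rw [e1]; exact e1.symm.trans e0
      _ = t * (t * s * t⁻¹) * t⁻¹ := by rw [e2, ← e1]
      _ = (t * t) * s * (t * t)⁻¹ := by group
      _ = s := by rw [tt]; simp
  have k2 := hF _ d1.2.1 (by
    have : (t * s) ^ 2 = 1 := by rw [ti] at k; rw [sq, ← mul_assoc, k, d1.1]
    rw [show 4 = 2 * 2 from rfl, pow_mul, this, one_pow])
  exact n1 (by rw [eq_inv_of_mul_eq_one_right k2, ti])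

end Cfsg.Agent.S4410
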