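import Cfsg.Statements.S4412
import Cfsg.Agent.H2.Hol
import Cfsg.Agent.H2.Dih
import Cfsg.Agent.H2.Meta
import Cfsg.Agent.H2.Focal
import Cfsg.Agent.H1.Generation
import Cfsg.Agent.FT.Cyc

set_option autoImplicit false
open Cfsg

namespace Cfsg.Agent.S4412
open Subgroup CfsgH2
open scoped commutatorElement

open CfsgFT

variable {P : Type*} [Group P] [Finite P] {p : ℕ} [hp : Fact p.Prime]

def Cy (T : MulAut P) : Prop := ∃ g : P, ∀ x : P, (T x = x ↔ x ∈ Subgroup.zpowers g)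

omit [Finite P] in
theorem sq1 (hp2 : p ≠ 2) (hP : IsPGroup p P) {x : P} (h : x * x = 1) : x = 1 := by
  obtain ⟨k, hk⟩ := hP x
  have := pow_gcd_eq_one.2 ⟨(pow_two x).trans h, hk⟩
  rwa [(Nat.Coprime.pow_right k ((Nat.coprime_primes Nat.prime_two hp.out).2 hp2.symm)).gcd_eq_one, pow_one] at this

theorem pm (hp2 : p ≠ 2) (hP : IsPGroup p P) {T : MulAut P} (hT : T * T = 1) {x : P} (h : T x ∈ zpowers x)
    (h1 : T x ≠ x) : T x = x⁻¹ := by
  obtain ⟨k, hk⟩ := mem_zpowers_iff.1 h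
  obtain ⟨n, hn⟩ := IsPGroup.iff_orderOf.1 hP x
  have h2 : x ^ ((k - 1) * (k + 1)) = 1 := by
    rw [show (k - 1) * (k + 1) = k * k - 1 by ring, zpow_sub_one, zpow_mul, hk, ← map_zpow, hk,
      ← MulAut.mul_apply, hT]; simp
  rw [← orderOf_dvd_iff_zpow_eq_one, hn] at h2
  have hq := Nat.prime_iff_prime_int.1 hp.out
  by_cases e : (p : ℤ) ∣ k + 1
  · have h3 : ¬ (p : ℤ) ∣ k - 1 := fun e' => hp2 ((Nat.prime_dvd_prime_iff_eq hp.out Nat.prime_two).1 (by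
      have := dvd_sub e e'
      rw [show k + 1 - (k - 1) = ((2 : ℕ) : ℤ) by push_cast; ring] at this
      exact_mod_cast this))
    have h4 := hq.pow_dvd_of_dvd_mul_left n h3 (by exact_mod_cast h2)
    rw [← Nat.cast_pow, ← hn, orderOf_dvd_iff_zpow_eq_one, zpow_add_one, hk] at h4
    exact eq_inv_of_mul_eq_one_left h4
  · have h4 := hq.pow_dvd_of_dvd_mul_right n e (by exact_mod_cast h2)
    rw [← Nat.cast_pow, ← hn, orderOf_dvd_iff_zpow_eq_one, zpow_sub_one, hk] at h4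
    exact absurd (mul_inv_eq_one.1 h4) h1

theorem cmem (hp2 : p ≠ 2) (hP : IsPGroup p P) {u T : MulAut P} (hu : u * u = 1) {x y z : P} (ux : u x = x⁻¹)
    (uy : u y = y⁻¹) (uz : ∀ w, u w = w → w ∈ zpowers z) (tx : T x = x) (ty : T y = y) (tz : T z = z⁻¹) :
    Commute (x : P ⧸ ⁅⁅(⊤ : Subgroup P), (⊤ : Subgroup P)⁆, (⊤ : Subgroup P)⁆) (QuotientGroup.mk y) := by
  have h1 : ⁅x, y⁆⁻¹ * u ⁅x, y⁆ ∈ ⁅⁅(⊤ : Subgroup P), (⊤ : Subgroup P)⁆, (⊤ : Subgroup P)⁆ := by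
    rw [map_commutatorElement, ux, uy, show ⁅x, y⁆⁻¹ * ⁅x⁻¹, y⁻¹⁆ = ⁅⁅x, y⁆⁻¹, (x * y)⁻¹⁆ by
      simp only [commutatorElement_def]; group]
    exact commutator_mem_commutator (inv_mem (commutator_mem_commutator (mem_top _) (mem_top _))) (mem_top _)
  set c := ⁅x, y⁆ with hc
  obtain ⟨k, hk⟩ : Odd (orderOf (c⁻¹ * u c)) := by
    obtain ⟨n, hn⟩ := IsPGroup.iff_orderOf.1 hP (c⁻¹ * u c)
    exact hn ▸ (hp.out.odd_of_ne_two hp2).pow
  have h2 : u (c⁻¹ * u c) = (c⁻¹ * u c)⁻¹ := by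
    rw [map_mul, map_inv, ← MulAut.mul_apply _ u u, hu]; simp
  obtain ⟨j, hj⟩ := mem_zpowers_iff.1 (uz (c * (c⁻¹ * u c) ^ (k + 1)) (by
    rw [map_mul, map_pow, h2, ← mul_inv_cancel_left c (u c), mul_assoc, mul_right_inj, mul_inv_cancel_left,
      inv_pow, mul_inv_eq_iff_eq_mul, ← pow_add, show k + 1 + (k + 1) = 2 * k + 1 + 1 by ring, ← hk, pow_succ,
      pow_orderOf_eq_one, one_mul]))
  have h3 : T (z ^ j) = (z ^ j)⁻¹ := by rw [map_zpow, tz, inv_zpow]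
  have h4 := (QuotientGroup.eq_one_iff _).2 (pow_mem h1 (k + 1))
  have h5 := (QuotientGroup.eq_one_iff (T _)).2 (mem_comap.1 ((characteristic_iff_le_comap.1 inferInstance T) (pow_mem h1 (k + 1))))
  rw [hj, map_mul, show T c = c by rw [hc, map_commutatorElement, tx, ty]] at h3
  have h6 := congrArg (QuotientGroup.mk (s := ⁅⁅(⊤ : Subgroup P), (⊤ : Subgroup P)⁆, (⊤ : Subgroup P)⁆)) h3
  rw [QuotientGroup.mk_mul, QuotientGroup.mk_inv, QuotientGroup.mk_mul, h4, h5,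
    mul_one] at h6
  exact commutatorElement_eq_one_iff_commute.1 (sq1 hp2 (hP.to_quotient _) (mul_eq_one_iff_eq_inv.2 h6))

theorem gen (hp2 : p ≠ 2) (hP : IsPGroup p P) {s t : MulAut P} (hs : orderOf s = 2) (ht : orderOf t = 2)
    (hst : s ≠ t) (hc : Commute s t) {X : Subgroup P} (h1 : ∀ w, s w = w → w ∈ X) (h2 : ∀ w, t w = w → w ∈ X)
    (h3 : ∀ w, (s * t) w = w → w ∈ X) : X = ⊤ := by
  have hK := isKleinFour_closure hs ht hst hc
  have hK' := isKleinFour_of_equiv (sdREquiv (MonoidHom.id (MulAut P)) _) hK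
  haveI : IsMulCommutative (sdR (MonoidHom.id (MulAut P)) (closure {s, t})) :=
    ⟨⟨fun a b => Subtype.ext (IsKleinFour_comm hK' a.2 b.2)⟩⟩
  refine top_le_iff.1 (sdL_le_iff.1 (CfsgH1.le_of_noncyclic hK'.not_isCyclic (le_normalizer_sdL_top _) ?_ ?_))
  · obtain ⟨n, hn⟩ := hP.exists_card_eq
    rw [hK'.card_four, card_sdL_top, hn]
    exact Nat.Coprime.pow 2 n ((Nat.coprime_primes Nat.prime_two hp.out).2 hp2.symm)
  rintro _ ⟨a, ha, rfl⟩ a1 _ ⟨⟨w, -, rfl⟩, hw⟩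
  have h4 : a w = w := SemidirectProduct.inl_injective ((sd_conj a w).symm.trans
    (mul_inv_eq_iff_eq_mul.2 (mem_centralizer_singleton_iff.1 hw).symm))
  refine inl_mem_sdL.2 ?_
  rcases (mem_closure_of_commute (mul_self_of_orderOf_two hs) (mul_self_of_orderOf_two ht) hc).1 ha with
    rfl | rfl | rfl | rfl
  exacts [absurd (map_one _) a1, h1 w h4, h2 w h4, h3 w h4]

theorem dis (hp2 : p ≠ 2) (hP : IsPGroup p P) {T : MulAut P} {x : P} {K L : Subgroup P} (hx : T x = x⁻¹)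
    (hK : K ≤ zpowers x) (hL : ∀ w ∈ L, T w = w) : Disjoint K L := disjoint_def.2 fun {w} h1 h2 => by
  obtain ⟨k, rfl⟩ := mem_zpowers_iff.1 (hK h1)
  have := hL _ h2
  rw [map_zpow, hx, inv_zpow] at this
  exact sq1 hp2 hP (mul_eq_one_iff_eq_inv.2 this.symm)

theorem sub (hP : IsPGroup p P) {x : P} (hx : x ≠ 1) : ∃ K ≤ zpowers x, Nat.card K = p ∧ ∀ w ∈ K, w ^ p = 1 := by
  obtain ⟨n, hn⟩ := (hP.to_subgroup (zpowers x)).exists_card_eq
  obtain ⟨K, h1, h2⟩ := exists_le_card_pow (p := p) (k := 1) (H := zpowers x) (hn ▸ pow_dvd_pow p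
    (Nat.pos_of_ne_zero fun e => hx (by rwa [e, pow_zero, card_eq_one, zpowers_eq_bot] at hn)))
  rw [pow_one] at h2
  exact ⟨K, h1, h2, fun w hw => by rw [← h2]; exact congrArg Subtype.val (pow_card_eq_one' (x := (⟨w, hw⟩ : K)))⟩

omit [Finite P] in
theorem fixz {T : MulAut P} {x : P} (h : T x = x) : ∀ w ∈ zpowers x, T w = w := by
  rintro _ ⟨k, rfl⟩; rw [map_zpow, h]

theorem ncy (hp2 : p ≠ 2) (hP : IsPGroup p P) {T U : MulAut P} {y z : P} (y1 : y ≠ 1) (z1 : z ≠ 1) (ty : T y = y)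
    (tz : T z = z) (uy : U y = y⁻¹) (uz : U z = z) : ¬ Cy T := fun ⟨g, hg⟩ => by
  obtain ⟨K, a1, a2, -⟩ := sub hP y1
  obtain ⟨L, b1, b2, -⟩ := sub hP z1
  have h1 := dis hp2 hP uy a1 fun w hw => fixz uz w (b1 hw)
  have h2 : K ≤ zpowers g := fun w hw => (hg w).1 (fixz ty w (a1 hw))
  have h3 : L ≤ zpowers g := fun w hw => (hg w).1 (fixz tz w (b1 hw))
  have h4 : K = L := eq_of_card_eq_of_cyclic inferInstance h2 h3 (a2.trans b2.symm)
  rw [h4, disjoint_self] at h1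
  rw [h1, card_bot] at b2
  exact hp.out.one_lt.ne b2

/-- Let p be an odd prime, P a finite p-group and I an elementary abelian subgroup of order 8 of Aut(P). Call T ∈ I, T ≠ 1, broad when its fixed-point subgroup C_P(T) is not cyclic. Suppose I has a proper subgroup I₀ containing no broad element such that the product of any two broad elements lies in I₀. Then P is abelian of rank exactly 3 (generated by three elements but not by two), there are exactly three broad elements and they generate I, and I₀ is exactly the set of products of two broad elements. -/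
theorem result
    {P : Type*} [Group P] [Finite P] (p : ℕ) (hp : p.Prime) (hp2 : p ≠ 2) (hP : IsPGroup p P)
    (I : Subgroup (MulAut P)) (hI : Cfsg.IsElementaryAbelian 2 I) (hI8 : Nat.card ↥I = 8)
    (I₀ : Subgroup (MulAut P)) (hI₀ : I₀ < I)
    (hdisj : ∀ T ∈ I₀, T ≠ 1 → ∃ g : P, ∀ x : P, (T x = x ↔ x ∈ Subgroup.zpowers g))
    (hprod : ∀ T ∈ I, ∀ T' ∈ I, T ≠ 1 → T' ≠ 1 → (¬ ∃ g : P, ∀ x : P, (T x = x ↔ x ∈ Subgroup.zpowers g)) →
      (¬ ∃ g : P, ∀ x : P, (T' x = x ↔ x ∈ Subgroup.zpowers g)) → T * T' ∈ I₀) :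
    IsMulCommutative P ∧ (∃ a b c : P, Subgroup.closure {a, b, c} = ⊤) ∧ (¬ ∃ a b : P, Subgroup.closure {a, b} = ⊤) ∧
      Nat.card {T : MulAut P // T ∈ I ∧ T ≠ 1 ∧ ¬ ∃ g : P, ∀ x : P, (T x = x ↔ x ∈ Subgroup.zpowers g)} = 3 ∧
      Subgroup.closure {T : MulAut P | T ∈ I ∧ T ≠ 1 ∧ ¬ ∃ g : P, ∀ x : P, (T x = x ↔ x ∈ Subgroup.zpowers g)} = I ∧
      (I₀ : Set (MulAut P)) = {S : MulAut P | ∃ T T' : MulAut P, T ∈ I ∧ T' ∈ I ∧ T ≠ 1 ∧ T' ≠ 1 ∧
        (¬ ∃ g : P, ∀ x : P, (T x = x ↔ x ∈ Subgroup.zpowers g)) ∧ (¬ ∃ g : P, ∀ x : P, (T' x = x ↔ x ∈ Subgroup.zpowers g)) ∧ S = T * T'} := by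
  classical
  haveI := Fact.mk hp
  haveI : Fact (Nat.Prime 2) := ⟨Nat.prime_two⟩
  change ∀ T ∈ I₀, T ≠ 1 → Cy T at hdisj
  change ∀ T ∈ I, ∀ T' ∈ I, T ≠ 1 → T' ≠ 1 → ¬ Cy T → ¬ Cy T' → T * T' ∈ I₀ at hprod
  change _ ∧ _ ∧ _ ∧ Nat.card {T // T ∈ I ∧ T ≠ 1 ∧ ¬ Cy T} = 3 ∧ closure {T | T ∈ I ∧ T ≠ 1 ∧ ¬ Cy T} = I ∧
    _ = {S | ∃ T T', T ∈ I ∧ T' ∈ I ∧ T ≠ 1 ∧ T' ≠ 1 ∧ ¬ Cy T ∧ ¬ Cy T' ∧ S = T * T'}
  have i2 : ∀ T ∈ I, T * T = 1 := fun T h => (pow_two T).symm.trans (hI.2 T h)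
  have ic := (ea_iff.1 hI).1
  obtain ⟨J, j1, j2, j3⟩ : ∃ J ≤ I, 2 < Nat.card J ∧ ∀ T ∈ J, T ≠ 1 → Cy T := by
    by_cases h : ∀ T ∈ I, T ≠ 1 → Cy T
    · exact ⟨I, le_rfl, by omega, h⟩
    push Not at h
    obtain ⟨U, u1, u2, u3⟩ := h
    obtain ⟨X, a1, a2, a3⟩ := exists_compl_of_ea hI (sup_le hI₀.le (zpowers_le_of_mem u1))
    have n1 : ∀ A ≤ I, ∀ B ≤ I, A ≤ normalizer (B : Set (MulAut P)) := fun A hA B hB =>
      (hA.trans ((ea_le_centralizer hI).trans (centralizer_le hB))).trans (centralizer_le_normalizer _)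
    have h1 : U ∉ X ⊔ I₀ := fun h => by
      obtain ⟨x, hx, i, hi, e⟩ := (mem_sup_of_normalizer (n1 _ hI₀.le _ a1)).1 h
      have : x ∈ X ⊓ (I₀ ⊔ zpowers U) := ⟨hx, by
        rw [eq_mul_inv_of_mul_eq e]
        exact mul_mem (mem_sup_right (mem_zpowers U)) (mem_sup_left (inv_mem hi))⟩
      rw [a2, mem_bot] at this
      rw [this, one_mul] at e
      exact u3 (hdisj U (e ▸ hi) u2)
    refine ⟨X ⊔ I₀, sup_le a1 hI₀.le, ?_, fun T hT h2 => by_contra fun h3 => h1 ?_⟩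
    · have := Nat.le_of_dvd (Nat.mul_pos Nat.card_pos Nat.card_pos) (CfsgH1.card_sup_dvd_of_le_normalizer
        (n1 _ (zpowers_le_of_mem u1) _ (sup_le a1 hI₀.le)))
      rw [sup_assoc, a3, hI8, Nat.card_zpowers, orderOf_eq_of_mem_ea hI u1 u2] at this
      omega
    · exact (mul_mem_cancel_left hT).1 (mem_sup_right (hprod T (sup_le a1 hI₀.le hT) U u1 h2 u2 h3 u3))
  obtain ⟨s, s0, s1⟩ := (bot_or_exists_ne_one J).resolve_left fun e => by rw [e, card_bot] at j2; omega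
  obtain ⟨t, t0, t1⟩ := SetLike.not_le_iff_exists.1 fun e : J ≤ zpowers s => by
    have := card_le_of_le e
    rw [Nat.card_zpowers, orderOf_eq_of_mem_ea hI (j1 s0) s1] at this
    omega
  have t2 : t ≠ 1 := fun e => t1 (e ▸ one_mem _)
  have st : s ≠ t := fun e => t1 (e ▸ mem_zpowers s)
  have st1 : s * t ≠ 1 := fun e => st (mul_right_cancel (e.trans (i2 t (j1 t0)).symm))
  have cs := j3 s s0 s1
  have ct := j3 t t0 t2
  have cu := j3 _ (mul_mem s0 t0) st1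
  obtain ⟨x, hx⟩ := id cs
  obtain ⟨y, hy⟩ := id ct
  obtain ⟨z, hz⟩ := id cu
  have mx : x ∈ closure ({x, y, z} : Set P) := subset_closure (by simp)
  have my : y ∈ closure ({x, y, z} : Set P) := subset_closure (by simp)
  have mz : z ∈ closure ({x, y, z} : Set P) := subset_closure (by simp)
  have hg : closure ({x, y, z} : Set P) = ⊤ := gen hp2 hP (orderOf_eq_of_mem_ea hI (j1 s0) s1)
    (orderOf_eq_of_mem_ea hI (j1 t0) t2) st (ic s (j1 s0) t (j1 t0))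
    (fun w h => zpowers_le_of_mem mx ((hx w).1 h)) (fun w h => zpowers_le_of_mem my ((hy w).1 h))
    fun w h => zpowers_le_of_mem mz ((hz w).1 h)
  have ex : ∀ T U : MulAut P, T x = U x → T y = U y → T z = U z → T = U := fun T U a b c =>
    MulEquiv.toMonoidHom_injective (MonoidHom.eq_of_eqOn_dense hg (by rintro _ (rfl | rfl | rfl) <;> assumption))
  have pv : ∀ u ∈ I, ∀ v : P, (∀ w, u w = w ↔ w ∈ zpowers v) → ∀ T ∈ I, T v ≠ v → T v = v⁻¹ :=
    fun u hu v hv T hT => pm hp2 hP (i2 T hT) ((hv _).1 (by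
      rw [← MulAut.mul_apply, ic u hu T hT, MulAut.mul_apply, (hv v).2 (mem_zpowers v)]))
  have px := pv s (j1 s0) x hx
  have py := pv t (j1 t0) y hy
  have pz := pv _ (j1 (mul_mem s0 t0)) z hz
  have eq : ∀ v : P, (∀ T ∈ I, T v ≠ v → T v = v⁻¹) → ∀ T ∈ I, ∀ U ∈ I, (T v = v) = (U v = v) → T v = U v :=
    fun v h T hT U hU e => by
      by_cases a : T v = v
      · rw [a, e.mp a]
      · rw [h T hT a, h U hU fun b => a (e.mpr b)]
  have hs := (Function.Injective.bijective_of_nat_card_le (f := fun T : I => (T.1 x = x, T.1 y = y, T.1 z = z))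
    (fun T U e => Subtype.ext (ex _ _ (eq x px _ T.2 _ U.2 (congrArg (·.1) e))
      (eq y py _ T.2 _ U.2 (congrArg (·.2.1) e)) (eq z pz _ T.2 _ U.2 (congrArg (·.2.2) e))))
    (by rw [hI8]; simp)).2
  obtain ⟨⟨A, A0⟩, hA⟩ := hs (False, True, True)
  obtain ⟨⟨B, B0⟩, hB⟩ := hs (True, False, True)
  obtain ⟨⟨C, C0⟩, hC⟩ := hs (True, True, False)
  simp only [Prod.mk.injEq, eq_iff_iff, iff_false, iff_true] at hA hB hC
  obtain ⟨a0, a2, a3⟩ := hA
  obtain ⟨b1, b0, b3⟩ := hB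
  obtain ⟨c1, c2, c0⟩ := hC
  have a1 := px A A0 a0
  have b2 := py B B0 b0
  have c3 := pz C C0 c0
  have x1 : x ≠ 1 := fun e => a0 (by rw [e, map_one])
  have y1 : y ≠ 1 := fun e => b0 (by rw [e, map_one])
  have z1 : z ≠ 1 := fun e => c0 (by rw [e, map_one])
  have iv : ∀ {u T : MulAut P} {v w : P}, (∀ w, u w = w ↔ w ∈ zpowers v) → T v = v → T w ≠ w → u w ≠ w :=
    fun h a b c => b (fixz a _ ((h _).1 c))
  have sy := py s (j1 s0) (iv hx b1 b0)
  have sz := pz s (j1 s0) (iv hx c1 c0)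
  have tx := px t (j1 t0) (iv hy a2 a0)
  have tz := pz t (j1 t0) (iv hy c2 c0)
  have ux := px _ (j1 (mul_mem s0 t0)) (iv hz a3 a0)
  have uy := py _ (j1 (mul_mem s0 t0)) (iv hz b3 b0)
  have sx := (hx x).2 (mem_zpowers x)
  have ty := (hy y).2 (mem_zpowers y)
  have uz := (hz z).2 (mem_zpowers z)
  have ab : IsMulCommutative P := by
    haveI := hP.isNilpotent
    have k1 := cmem hp2 hP (i2 _ (j1 (mul_mem s0 t0))) ux uy (fun w => (hz w).1) c1 c2 c3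
    have k2 := cmem hp2 hP (i2 _ (j1 t0)) tx tz (fun w => (hy w).1) b1 b3 b2
    have k3 := cmem hp2 hP (i2 _ (j1 s0)) sy sz (fun w => (hx w).1) a2 a3 a1
    have h1 : ⁅(⊤ : Subgroup P), (⊤ : Subgroup P)⁆ = ⊥ := eq_bot_of_le_commutator_top (commutator_le.2 fun g _ h _ => by
      rw [← QuotientGroup.eq_one_iff, ← QuotientGroup.mk'_apply, map_commutatorElement,
        commutatorElement_eq_one_iff_commute]
      refine closure_induction₂ (p := fun g h _ _ => Commute (QuotientGroup.mk' _ g) (QuotientGroup.mk' _ h))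
        ?_ (fun _ _ => by simp) (fun _ _ => by simp) (fun _ _ _ _ _ _ a b => by rw [map_mul]; exact a.mul_left b)
        (fun _ _ _ _ _ _ a b => by rw [map_mul]; exact a.mul_right b) (fun _ _ _ _ a => by rw [map_inv]; exact a.inv_left)
        (fun _ _ _ _ a => by rw [map_inv]; exact a.inv_right) (hg.ge (mem_top g)) (hg.ge (mem_top h))
      rintro _ _ (rfl | rfl | rfl) (rfl | rfl | rfl)
      exacts [Commute.refl _, k1, k2, k1.symm, Commute.refl _, k3, k2.symm, k3.symm, Commute.refl _])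
    exact ⟨⟨fun a b => commutatorElement_eq_one_iff_mul_comm.1 (mem_bot.1 (h1.le
      (commutator_mem_commutator (mem_top a) (mem_top b))))⟩⟩
  letI : CommGroup P := { (inferInstance : Group P) with mul_comm := mul_comm' }
  have eS : s = B * C := ex _ _ (by simp [*]) (by simp [*]) (by simp [*])
  have eT : t = A * C := ex _ _ (by simp [*]) (by simp [*]) (by simp [*])
  have eU : s * t = A * B := ex _ _ (by rw [ux]; simp [*]) (by rw [uy]; simp [*]) (by rw [uz]; simp [*])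
  have cv : Cy (A * (B * C)) := ⟨1, fun w => by
    rw [show A * (B * C) = MulEquiv.inv P from ex _ _ (by simp [*]) (by simp [*]) (by simp [*]), zpowers_one_eq_bot,
      mem_bot]
    exact ⟨fun h => sq1 hp2 hP (mul_eq_one_iff_eq_inv.2 (Eq.symm h)), fun h => by rw [h, map_one]⟩⟩
  have cl : ∀ T ∈ I, T = 1 ∨ T = A ∨ T = B ∨ T = C ∨ T = B * C ∨ T = A * C ∨ T = A * B ∨ T = A * (B * C) :=
    fun T hT => by
      rcases (em _).imp_right (px T hT) with k1 | k1 <;> rcases (em _).imp_right (py T hT) with k2 | k2 <;>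
        rcases (em _).imp_right (pz T hT) with k3 | k3
      · exact .inl (ex _ _ k1 k2 k3)
      · exact .inr (.inr (.inr (.inl (ex _ _ (by rw [k1, c1]) (by rw [k2, c2]) (by rw [k3, c3])))))
      · exact .inr (.inr (.inl (ex _ _ (by rw [k1, b1]) (by rw [k2, b2]) (by rw [k3, b3]))))
      · exact .inr (.inr (.inr (.inr (.inl ((ex _ _ (by rw [k1, sx]) (by rw [k2, sy]) (by rw [k3, sz])).trans eS)))))
      · exact .inr (.inl (ex _ _ (by rw [k1, a1]) (by rw [k2, a2]) (by rw [k3, a3])))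
      · exact .inr (.inr (.inr (.inr (.inr (.inl ((ex _ _ (by rw [k1, tx]) (by rw [k2, ty]) (by rw [k3, tz])).trans eT))))))
      · exact .inr (.inr (.inr (.inr (.inr (.inr (.inl ((ex _ _ (by rw [k1, ux]) (by rw [k2, uy]) (by rw [k3, uz])).trans eU)))))))
      · exact .inr (.inr (.inr (.inr (.inr (.inr (.inr (ex _ _ (by simp [k1, a1, b1, c1]) (by simp [k2, a2, b2, c2])
          (by simp [k3, a3, b3, c3]))))))))
  have nA := ncy hp2 hP y1 z1 a2 a3 b2 b3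
  have nB := ncy hp2 hP x1 z1 b1 b3 a1 a3
  have nC := ncy hp2 hP x1 y1 c1 c2 a1 a2
  have A1 : A ≠ 1 := fun e => a0 (e ▸ rfl)
  have B1 : B ≠ 1 := fun e => b0 (e ▸ rfl)
  have C1 : C ≠ 1 := fun e => c0 (e ▸ rfl)
  have hat : {T | T ∈ I ∧ T ≠ 1 ∧ ¬ Cy T} = {A, B, C} := Set.ext fun T => ⟨fun ⟨h1, h2, h3⟩ => by
    rcases cl T h1 with rfl | rfl | rfl | rfl | rfl | rfl | rfl | rfl
    exacts [absurd rfl h2, .inl rfl, .inr (.inl rfl), .inr (.inr rfl), absurd (eS ▸ cs) h3, absurd (eT ▸ ct) h3,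
      absurd (eU ▸ cu) h3, absurd cv h3], by
    rintro (rfl | rfl | rfl)
    exacts [⟨A0, A1, nA⟩, ⟨B0, B1, nB⟩, ⟨C0, C1, nC⟩]⟩
  refine ⟨ab, ⟨x, y, z, hg⟩, fun ⟨a, b, h⟩ => ?_, ?_, ?_, Set.ext fun S => ⟨fun h => ?_, ?_⟩⟩
  · obtain ⟨K, k1, k2, k3⟩ := sub hP x1
    obtain ⟨L, l1, l2, l3⟩ := sub hP y1
    obtain ⟨M, m1, m2, m3⟩ := sub hP z1
    have h1 := card_le_of_le (sup_le k3 (sup_le l3 m3) : K ⊔ (L ⊔ M) ≤ (powMonoidHom p : P →* P).ker)
    rw [CfsgH1.card_sup_of_disjoint le_normalizer_of_normal (dis hp2 hP a1 k1 (sup_le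
      (fun w hw => fixz a2 w (l1 hw)) (fun w hw => fixz a3 w (m1 hw)) : L ⊔ M ≤ A.toMonoidHom.eqLocus (MonoidHom.id P))),
      CfsgH1.card_sup_of_disjoint le_normalizer_of_normal (dis hp2 hP b2 l1 fun w hw => fixz b3 w (m1 hw)),
      k2, l2, m2, ← index_range] at h1
    have h2 := Nat.le_of_dvd (pow_pos hp.pos _) (card_dvd_exponent_pow_rank' (P ⧸ (powMonoidHom p : P →* P).range)
      (n := p) fun g => by
        obtain ⟨g, rfl⟩ := QuotientGroup.mk_surjective g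
        exact (QuotientGroup.eq_one_iff (g ^ p)).2 ⟨g, rfl⟩)
    have h3 := (Group.rank_le_of_surjective _ (QuotientGroup.mk'_surjective (powMonoidHom p : P →* P).range)).trans
      ((Group.rank_le (S := {a, b}) (by rw [Finset.coe_pair, h])).trans Finset.card_le_two)
    have h4 := (h1.trans h2).trans (Nat.pow_le_pow_right hp.pos h3)
    have := hp.one_lt
    nlinarith
  · rw [show Nat.card {T // T ∈ I ∧ T ≠ 1 ∧ ¬ Cy T} = Set.ncard {T | T ∈ I ∧ T ≠ 1 ∧ ¬ Cy T} from rfl, hat]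
    exact Set.ncard_eq_three.2 ⟨A, B, C, fun e => a0 (e ▸ b1), fun e => a0 (e ▸ c1), fun e => b0 (e ▸ c2), rfl⟩
  · refine le_antisymm ((closure_le _).2 fun T h => h.1) fun T hT => ?_
    rw [hat]
    have mA : A ∈ closure ({A, B, C} : Set (MulAut P)) := subset_closure (by simp)
    have mB : B ∈ closure ({A, B, C} : Set (MulAut P)) := subset_closure (by simp)
    have mC : C ∈ closure ({A, B, C} : Set (MulAut P)) := subset_closure (by simp)
    rcases cl T hT with rfl | rfl | rfl | rfl | rfl | rfl | rfl | rfl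
    exacts [one_mem _, mA, mB, mC, mul_mem mB mC, mul_mem mA mC, mul_mem mA mB, mul_mem mA (mul_mem mB mC)]
  · rcases cl S (hI₀.le h) with rfl | rfl | rfl | rfl | rfl | rfl | rfl | rfl
    exacts [⟨A, A, A0, A0, A1, A1, nA, nA, (i2 A A0).symm⟩, absurd (hdisj _ h A1) nA, absurd (hdisj _ h B1) nB,
      absurd (hdisj _ h C1) nC, ⟨B, C, B0, C0, B1, C1, nB, nC, rfl⟩, ⟨A, C, A0, C0, A1, C1, nA, nC, rfl⟩,
      ⟨A, B, A0, B0, A1, B1, nA, nB, rfl⟩,
      absurd (hdisj _ ((mul_mem_cancel_right (hprod B B0 C C0 B1 C1 nB nC)).1 h) A1) nA]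
  · rintro ⟨T, U, h1, h2, h3, h4, h5, h6, rfl⟩
    exact hprod T h1 U h2 h3 h4 h5 h6


end Cfsg.Agent.S4412
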