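import Cfsg.Statements.S4413
import Cfsg.Agent.H2.Minus5

set_option autoImplicit false
open Cfsg

namespace Cfsg.Agent.S4413
open Subgroup CfsgH2
open scoped commutatorElement

open CfsgFT

/-- Let P be an extraspecial 2-group of order 32 with no elementary abelian subgroup of order 8 (the central product of a dihedral and a quaternion group of order 8). Then the inner automorphism group of P has order 16 and the outer automorphism group Aut(P)/Inn(P) is isomorphic to the symmetric group of degree 5; in particular Aut(P) has order 1920. -/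
theorem result {P : Type*} [Group P] [Finite P]
    (hex : Cfsg.IsExtraspecial 2 P) (h32 : Nat.card P = 32)
    (hminus : ∀ A : Subgroup P, Cfsg.IsElementaryAbelian 2 A → Nat.card ↥A ≤ 4)
    [(MulAut.conj : P →* MulAut P).range.Normal] :
    Nat.card ↥(MulAut.conj : P →* MulAut P).range = 16 ∧ Nat.card (MulAut P) = 1920 ∧
      Nonempty ((MulAut P ⧸ (MulAut.conj : P →* MulAut P).range) ≃* Equiv.Perm (Fin 5)) := by
  obtain ⟨z, h⟩ := M5.of hex h32 hminus
  have h1 : (MulAut.conj : P →* MulAut P).ker = zpowers z := by
    rw [← h.center_eq]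
    ext x
    rw [MonoidHom.mem_ker, mem_center_iff, MulEquiv.ext_iff]
    exact forall_congr' fun y => by rw [MulAut.conj_apply, MulAut.one_apply, mul_inv_eq_iff_eq_mul, eq_comm]
  have h2 : Nat.card ↥(MulAut.conj : P →* MulAut P).range = 16 := by
    have := (zpowers z).card_mul_index
    rw [h.card_z, h32, ← h1, index_ker] at this
    omega
  have e : (MulAut P ⧸ (MulAut.conj : P →* MulAut P).range) ≃* Equiv.Perm (Fin 5) :=
    ((QuotientGroup.quotientMulEquivOfEq h.ker_eq.symm).trans
      (QuotientGroup.quotientKerEquivOfSurjective _ h.surj)).trans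
      (Finite.equivFinOfCardEq h.card_Om).permCongrHom
  refine ⟨h2, ?_, ⟨e⟩⟩
  rw [card_eq_card_quotient_mul_card_subgroup (MulAut.conj : P →* MulAut P).range, h2,
    Nat.card_congr e.toEquiv, Nat.card_perm, Nat.card_fin]
  rfl


end Cfsg.Agent.S4413
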