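import Cfsg.Statements.S4417
import Cfsg.Agent.H9.DLen

set_option autoImplicit false
open Cfsg

namespace Cfsg.Agent.S4417

/-- Let F be a field with q elements, p a prime not dividing q, and e the multiplicative order of q modulo p; assume e ≤ n. Then every p-subgroup of GL_n(F) has derived length at most ⌊log₂(n/e)⌋ + 1: that term of its derived series is trivial (n/e is the integer quotient). -/
theorem result {F : Type*} [Field F] [Fintype F] (q : ℕ) (hF : Fintype.card F = q) (p : ℕ) [Fact p.Prime] (hpq : ¬ p ∣ q) (n e : ℕ) (he : e = orderOf (q : ZMod p)) (hen : e ≤ n) (P : Subgroup (GL (Fin n) F)) (hP : IsPGroup p P) : derivedSeries ↥P (Nat.log 2 (n / e) + 1) = ⊥ := by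
  open Subgroup CfsgH9 in
    have hp : p.Prime := Fact.out
    subst hF he
    rw [eq_bot_iff]
    intro g hg
    have h1 := fin_bound (F := F) hpq hP ((Matrix.toLinAlgEquiv' : Matrix (Fin n) (Fin n) F ≃ₐ[F] _).toMonoidHom.comp
        ((Units.coeHom _).comp P.subtype)) (by
      rw [Module.finrank_fin_fun]
      exact (Nat.lt_pow_succ_log_self (by norm_num) _).trans_le (Nat.pow_le_pow_left hp.two_le _)) hg
    exact Subtype.ext (Units.ext
      ((Matrix.toLinAlgEquiv' : Matrix (Fin n) (Fin n) F ≃ₐ[F] _).injective (h1.trans (map_one _).symm)))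

end Cfsg.Agent.S4417
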