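import Cfsg.Statements.S4418
import Cfsg.Agent.H2.Meta2
import Cfsg.Agent.H2.HomoB
import Cfsg.Agent.FT.PF14c

set_option autoImplicit false
open Cfsg

namespace Cfsg.Agent.S4418
open Subgroup CfsgH2
open scoped commutatorElement

open CfsgFT CfsgH1

/-- Let G be a finite group whose Sylow 2-subgroup S is metacyclic via a cyclic normal subgroup N of S with S/N cyclic of order greater than 2. Then G is soluble. -/
theorem result {G : Type*} [Group G] [Finite G] (S : Sylow 2 G) (N : Subgroup ↥(S : Subgroup G)) [hN : N.Normal] (hNc : IsCyclic N) (hQc : IsCyclic (↥(S : Subgroup G) ⧸ N)) (hQ : 2 < Nat.card (↥(S : Subgroup G) ⧸ N)) : Group.IsSolvable G := by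
  have hS := IsSylowIn.of_sylow_top S
  have k : HasNormalPComplement 2 G → Group.IsSolvable G := fun h => isSolvable_of_normal_of_quotient (pResidual 2 G)
    (CfsgPF.feit_thompson (Nat.not_even_iff_odd.1 (mt even_iff_two_dvd.1 (hasNPC_iff.1 h))))
      (isSolvable_of_isPGroup (isPGroup_quotient_pResidual 2 G))
  by_cases hc : IsCyclic (S : Subgroup G)
  · exact k (hasNPC_top_iff.1 (hasNPC_of_cyclic_two hS hc))
  refine (meta_fusion hS ⟨N, hN, hNc, hQc⟩ (fun e => hc ?_)).elim k fun ⟨x, y, r, h⟩ => ?_
  swap
  · haveI := brauer_solvable hS h.ak (h.card ▸ Nat.pow_le_pow_right two_pos (show 4 ≤ 2 * (r + 2) by omega))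
    refine isSolvable_of_normal_of_quotient (pPrimeCore 2 G ⊔ S) (isSolvable_sup_of_le_normalizer
      (le_top.trans (normalizer_eq_top _).ge) (CfsgPF.feit_thompson (coprime_two_iff_odd.1
        (coprime_card_pPrimeCore 2 G))) (isSolvable_of_isPGroup S.isPGroup')) (CfsgPF.feit_thompson
          (Nat.not_even_iff_odd.1 (mt even_iff_two_dvd.1 ?_)))
    have := hS.not_dvd_of_le (le_sup_right (a := pPrimeCore 2 G)) le_top
    rwa [relIndex_top_right] at this
  · obtain ⟨y, hy⟩ := isCyclic_quotient_iff.1 hQc
    have l : _root_.commutator (S : Subgroup G) ≤ N := Subgroup.Normal.quotient_commutative_iff_commutator_le.1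
      inferInstance
    have d := index_dvd_of_le l
    rw [e] at d
    rw [← index_eq_card] at hQ
    have h4 : N.index = 4 := by
      have := Nat.le_of_dvd (by norm_num) d
      interval_cases N.index <;> omega
    have : _root_.commutator (S : Subgroup G) = N := CfsgH2.eq_of_le_of_card_le l (Nat.le_of_mul_le_mul_right (by
      rw [← h4, card_mul_index, h4.trans e.symm, card_mul_index]) (show 0 < 4 by norm_num))
    refine isCyclic_top_iff.1 (isCyclic_iff_zpowers.2 ⟨y, frattini_nongenerating (top_le_iff.1 (hy.ge.trans ?_))⟩)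
    exact sup_le (le_sup_of_le_right (this ▸ commutator_le_frattini S.isPGroup')) le_sup_left


end Cfsg.Agent.S4418
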