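import Cfsg.Statements.S4419
import Cfsg.Agent.H1.Mx1

set_option autoImplicit false
open Cfsg

namespace Cfsg.Agent.S4419

/-- Let p be a prime and G a finite group whose Sylow p-subgroups are metacyclic (a cyclic normal subgroup with cyclic quotient). Then G has a normal p-complement if and only if the order of G/O_{p′,p}(G) is coprime to p² − 1. -/
theorem result {G : Type*} [Group G] [Finite G] (p : ℕ) [Fact p.Prime] (S : Sylow p G) (hS : Cfsg.IsMetacyclic ↥(S : Subgroup G)) : Cfsg.HasNormalPComplement p G ↔ Nat.Coprime (Nat.card (G ⧸ Cfsg.pPrimePCore p G)) (p ^ 2 - 1) := by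
  open Subgroup CfsgH1 CfsgFT CfsgH2 in
  refine ⟨fun h => ?_, fun h => ?_⟩
  · rw [← index_eq_card, top_le_iff.1 (CfsgFT.le_pPrimePCore (hasNPC_top_iff.2 h)), index_top]; simp
  have hp := (Fact.out : p.Prime)
  refine hasNPC_of_quotient (pPrimeCore p G) (hp.coprime_iff_not_dvd.1 (coprime_card_pPrimeCore p G).symm)
    (npc_of_meta (S.mapSurjective (QuotientGroup.mk'_surjective _)) (isMetacyclic_of_surjective _
      ((QuotientGroup.mk' _).subgroupMap_surjective S.1) hS) fun q h1 h2 h3 h4 => h1.ne_one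
      (Nat.eq_one_of_dvd_coprimes h ?_ h4))
  obtain ⟨k, hk⟩ := exists_relIndex_pPrimePCore (p := p) (G := G)
  rw [← index_eq_card, ← relIndex_mul_index pPrimeCore_le_pPrimePCore, hk] at h3
  exact (((Nat.coprime_primes h1 hp).2 h2).pow_right k).dvd_of_dvd_mul_left h3

end Cfsg.Agent.S4419
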