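import Cfsg.Statements.S4420
import Cfsg.Agent.H2.Dih
import Cfsg.Agent.H2.PGroup

set_option autoImplicit false
open Cfsg

namespace Cfsg.Agent.S4420
open Subgroup CfsgH2
open scoped commutatorElement

/-- Structure of groups in which every element outside some proper subgroup has square 1. Let H be a finite group with a proper subgroup A such that every element outside A has square 1. Then H has an abelian normal subgroup B of index 2 such that every element outside B is an involution inverting every element of B; and if H is not an elementary abelian 2-group, B is the only abelian normal subgroup of index 2 with this property. -/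
theorem result {H : Type*} [Group H] [Finite H] (A : Subgroup H) (hA : A ≠ ⊤) (hD : ∀ x : H, x ∉ A → x ^ 2 = 1) :
    ∃ B : Subgroup H, B.Normal ∧ IsMulCommutative ↥B ∧ B.index = 2 ∧
      (∀ x : H, x ∉ B → x ^ 2 = 1 ∧ ∀ b ∈ B, x * b * x⁻¹ = b⁻¹) ∧
      (¬ (IsMulCommutative H ∧ ∀ x : H, x ^ 2 = 1) →
        ∀ B' : Subgroup H, B'.Normal → IsMulCommutative ↥B' → B'.index = 2 →
          (∀ x : H, x ∉ B' → x ^ 2 = 1 ∧ ∀ b ∈ B', x * b * x⁻¹ = b⁻¹) → B' = B) := by
  obtain ⟨x, -, hx⟩ := SetLike.exists_of_lt (lt_top_iff_ne_top.2 hA)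
  have k : ∀ B : Subgroup H, (∀ x, x ∉ B → x ^ 2 = 1) → ∀ x ∉ B, ∀ b ∈ B, x * b * x⁻¹ = b⁻¹ := fun B h x a b c => by
    have := h (x * b) fun d => a ((mul_mem_cancel_right c).1 d)
    rw [inv_eq_of_mul_self ((sq x).symm.trans (h x a)), eq_inv_iff_mul_eq_one, ← this, sq, mul_assoc (x * b)]
  have ea : (∀ x : H, x ^ 2 = 1) → IsMulCommutative H := fun h => ⟨⟨fun a b =>
    commute_of_mul_self ((sq a).symm.trans (h a)) ((sq b).symm.trans (h b)) ((sq _).symm.trans (h _))⟩⟩
  suffices ∃ B : Subgroup H, B.index = 2 ∧ ∀ x, x ∉ B → x ^ 2 = 1 by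
    obtain ⟨B, a, b⟩ := this
    obtain ⟨y, -, hy⟩ := SetLike.exists_of_lt (lt_top_iff_ne_top.2 fun e : B = ⊤ => by simp [e] at a)
    have ab : ∀ u ∈ B, ∀ v ∈ B, u * v = v * u := fun u c v d => by
      rw [← inv_inj, ← k B b y hy _ (mul_mem c d), mul_inv_rev, ← k B b y hy _ c, ← k B b y hy _ d]; group
    refine ⟨B, normal_of_index_eq_two a, isMulCommutative_of_forall ab, a, fun x c => ⟨b x c, k B b x c⟩,
      fun n C _ _ c d => by_contra fun e => ?_⟩
    obtain ⟨w, w1, w2⟩ : ∃ w ∈ B, w ∉ C := by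
      by_contra! f
      exact e (CfsgH2.eq_of_le_of_card_le f (Nat.le_of_mul_le_mul_right (by
        rw [← a, B.card_mul_index, a, ← c, C.card_mul_index]) two_pos)).symm
    suffices ∀ x : H, x ^ 2 = 1 from n ⟨ea this, this⟩
    intro z
    by_cases z1 : z ∈ B
    · by_cases z2 : z ∈ C
      · have := (d w w2).2 z z2
        rw [ab w w1 z z1, mul_inv_cancel_right] at this
        exact (sq z).trans (mul_eq_one_iff_eq_inv.2 this)
      · exact (d z z2).1
    · exact b z z1
  by_cases e : ∀ x : H, x ^ 2 = 1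
  · obtain ⟨M, -, -, a, -⟩ := exists_relIndex_prime (p := 2) (P := ⊤) (fun g => ⟨1, Subtype.ext (e g)⟩) (lt_top_iff_ne_top.2 hA)
    exact ⟨M, by simpa using a, fun x _ => e x⟩
  refine ⟨A, index_eq_two_iff.2 ⟨x, fun y => ?_⟩, hD⟩
  by_cases c : y ∈ A
  · exact .inr ⟨c, fun d => hx ((mul_mem_cancel_left c).1 d)⟩
  refine .inl ⟨by_contra fun d => e fun a => by_contra fun f => ?_, c⟩
  have a1 : a ∈ A := by_contra fun g => f (hD a g)
  have := k A hD _ d a a1
  rw [mul_inv_rev, ← mul_assoc, mul_assoc y, mul_assoc y, k A hD x hx a a1, k A hD y c _ (inv_mem a1), inv_inv] at this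
  exact f ((sq a).trans (mul_eq_one_iff_eq_inv.2 this))


end Cfsg.Agent.S4420
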