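import Cfsg.Statements.S4422
import Cfsg.Agent.H2.Cls

set_option autoImplicit false
open Cfsg

namespace Cfsg.Agent.S4422
open Subgroup CfsgH2
open scoped commutatorElement

/-- Primitive divisors of `q^e - 1` are congruent to 1 modulo `e`. Let `q ≥ 2` and `e ≥ 1` be natural numbers and let `m` be a divisor of `q^e - 1` that is coprime to `q^i - 1` for every `1 ≤ i < e` (so `m` divides the primitive part of `q^e - 1`, the largest such divisor). Then `m ≡ 1 (mod e)`. -/
theorem result (q e m : ℕ) (hq : 2 ≤ q) (he : 1 ≤ e)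
    (hm : m ∣ q ^ e - 1) (hcop : ∀ i : ℕ, 1 ≤ i → i < e → Nat.Coprime m (q ^ i - 1)) :
    m % e = 1 % e := by
  have h1 : 1 < q ^ e := Nat.one_lt_pow (by omega) hq
  have k : ∀ r : ℕ, r.Prime → r ∣ m → r ≡ 1 [MOD e] := fun r hr h => by
    haveI := Fact.mk hr
    have c : ∀ i, r ∣ q ^ i - 1 ↔ (q : ZMod r) ^ i = 1 := fun i => by
      rw [← ZMod.natCast_eq_zero_iff, Nat.cast_sub (Nat.one_le_pow _ _ (by omega)), Nat.cast_pow, Nat.cast_one,
        sub_eq_zero]
    have h2 := (c e).1 (h.trans hm)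
    have h3 : orderOf (q : ZMod r) = e := (orderOf_eq_iff (by omega)).2 ⟨h2, fun i a b e' =>
      hr.one_lt.ne' (Nat.eq_one_of_dvd_coprimes (hcop i b a) h ((c i).2 e'))⟩
    have h4 := ZMod.orderOf_dvd_card_sub_one (a := (q : ZMod r)) fun e' => by
      rw [e', zero_pow (by omega)] at h2; exact zero_ne_one h2
    exact ((Nat.modEq_iff_dvd' hr.one_lt.le).2 (h3 ▸ h4)).symm
  have m0 : m ≠ 0 := fun e' => by rw [e', zero_dvd_iff] at hm; omega
  clear hm hcop
  induction m using induction_on_primes with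
  | zero => exact absurd rfl m0
  | one => rfl
  | prime_mul r n hr ih =>
    exact (k r hr (dvd_mul_right _ _)).mul (ih (fun s a b => k s a (b.mul_left _)) fun e => m0 (by rw [e, mul_zero]))


end Cfsg.Agent.S4422
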