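import Cfsg.Statements.S4423
import Cfsg.Agent.H9.Zsig
import Cfsg.Agent.H2.SylowIn

set_option autoImplicit false
open Cfsg

namespace Cfsg.Agent.S4423
open Subgroup CfsgH2
open scoped commutatorElement

open CfsgH9

theorem chk1 : ((List.range 2593).all fun n => n ≤ 181 || 37 ≤ ([1, 2, 3, 5, 7, 11, 13, 17, 19, 23, 29, 31, 37, 41, 43, 47, 53, 59, 61, 67,
    71, 73, 79, 83, 89, 97, 101, 103, 107, 109, 113, 127, 131, 137, 139, 149, 151, 157, 163, 167, 173, 179, 181].filter fun k => n.gcd k == 1).length) = true := by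
  decide +kernel

theorem chk2 : ((List.range 182).all fun n => n ≤ 2 || (List.range 320).all fun a => a ≤ 1 ||
    n * (3 * n) ≤ (a - 1) ^ ((List.range n).filter fun k => n.gcd k == 1).length ||
    3 * n + 1 ≤ cyF a n n / (cyF a n n).gcd n ||
    (a, n) ∈ [(2, 6), (2, 4), (2, 10), (2, 12), (2, 18), (3, 4), (3, 6), (5, 6), (2, 3), (2, 8), (2, 20), (4, 3), (4, 6)]) = true := by
  decide +kernel

theorem chk3 : ∀ x ∈ [(2, 6), (2, 4), (2, 10), (2, 12), (2, 18), (3, 4), (3, 6), (5, 6), (2, 3), (2, 8), (2, 20), (4, 3), (4, 6)],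
    ∃ c ∈ [1, x.2 + 1, 2 * x.2 + 1], x.1 ^ x.2 - 1 ∣ c * (∏ i ∈ Finset.Ico 1 x.2, (x.1 ^ i - 1)) ^ 2 := by
  decide +kernel

theorem lt_two_pow_37 (j : ℕ) : ((j + 37 + 1) * (3 * (2 * (j + 37) ^ 2))) ^ 2 < 2 ^ (j + 37) := by
  induction j with
  | zero => norm_num
  | succ j ih =>
    rw [show j + 1 + 37 = j + 37 + 1 by ring, pow_succ 2]
    refine lt_of_le_of_lt ?_ (Nat.mul_lt_mul_of_pos_right ih two_pos)
    ring_nf
    omega

/-- Size of the primitive part of `q^e - 1`. For a prime power `q` and `e ≥ 3`, call a divisor of `q^e - 1` primitive when it is coprime to `q^i - 1` for every `1 ≤ i < e`; the primitive part is the largest primitive divisor. Apart from thirteen exceptional pairs, the primitive part is at least `3e + 1`: there is a primitive divisor `m ≥ 3e + 1` unless `(q, e)` is `(2, 6)` (where every primitive divisor is 1), one of `(2,4), (2,10), (2,12), (2,18), (3,4), (3,6), (5,6)` (where the primitive part is exactly `e + 1`), or one of `(2,3), (2,8), (2,20),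 (4,3), (4,6)` (where it is exactly `2e + 1`). The statement asserts the existence of a primitive divisor `m ≥ 3e + 1` outside the thirteen pairs, and that every primitive divisor is at most `2e + 1` for the thirteen pairs. -/
theorem result (q e : ℕ) (hq : IsPrimePow q) (he : 3 ≤ e) :
    ((q, e) ∉ [(2, 6), (2, 4), (2, 10), (2, 12), (2, 18), (3, 4), (3, 6), (5, 6), (2, 3), (2, 8), (2, 20), (4, 3), (4, 6)] →
      ∃ m : ℕ, m ∣ q ^ e - 1 ∧ (∀ i : ℕ, 1 ≤ i → i < e → Nat.Coprime m (q ^ i - 1)) ∧ 3 * e + 1 ≤ m) ∧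
    ((q, e) ∈ [(2, 6), (2, 4), (2, 10), (2, 12), (2, 18), (3, 4), (3, 6), (5, 6), (2, 3), (2, 8), (2, 20), (4, 3), (4, 6)] →
      ∀ m : ℕ, m ∣ q ^ e - 1 → (∀ i : ℕ, 1 ≤ i → i < e → Nat.Coprime m (q ^ i - 1)) → m ≤ 2 * e + 1) := by
  refine ⟨fun hx => ?_, fun hx m hm hc => ?_⟩
  swap
  · obtain ⟨c, hc1, hc2⟩ := chk3 _ hx
    have h1 : m ∣ c := (Nat.Coprime.pow_right 2 (Nat.Coprime.prod_right fun i hi =>
      hc i (Finset.mem_Ico.1 hi).1 (Finset.mem_Ico.1 hi).2)).dvd_of_dvd_mul_right (hm.trans hc2)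
    simp only [List.mem_cons, List.not_mem_nil, or_false] at hc1
    have := Nat.le_of_dvd (by omega) h1
    omega
  have hq2 : 1 < q := hq.one_lt
  have hn : 2 < e := he
  obtain ⟨r, M, e0, g1, g2⟩ := cyV_eq hq2 hn
  refine ⟨M, (Dvd.intro_left r e0.symm).trans (cyV_dvd hq2), fun i i0 i1 =>
    Nat.coprime_of_dvd fun p hp h1 => (g1 p hp h1).1.2 i i0 i1, not_lt.1 fun hM => hx ?_⟩
  have t0 : 0 < e.totient := Nat.totient_pos.2 (by omega)
  have r1 : r ∣ e ∧ r ≤ e.totient + 1 := by
    rcases g2 with rfl | ⟨hr, k, d, e1, -, -⟩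
    · exact ⟨one_dvd _, by omega⟩
    · have l : r ∣ e := e1 ▸ (dvd_pow_self r (Nat.succ_ne_zero k)).mul_right d
      have := Nat.le_of_dvd t0 (Nat.totient_dvd_of_dvd l)
      rw [Nat.totient_prime hr] at this
      exact ⟨l, by omega⟩
  have r0 : 0 < r := Nat.pos_of_dvd_of_pos r1.1 (by omega)
  have cop : Nat.Coprime M e := Nat.coprime_of_dvd fun p hp h1 h2 => by
    have h3 := h2.trans (g1 p hp h1).2
    have := hp.two_le
    have := Nat.le_of_dvd (by omega) h3
    omega
  have gc : (cyV e q).gcd e = r := by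
    rw [e0, cop.gcd_mul_right_cancel, Nat.gcd_eq_left r1.1]
  have b1 := (le_totient_sq e).2
  have b2 : e.totient ≤ 36 := not_lt.1 fun c => by
    obtain ⟨j, hj⟩ : ∃ j, e.totient = j + 37 := ⟨e.totient - 37, by omega⟩
    have := (two_pow_le_sq hq2 hn).trans (Nat.pow_le_pow_left (e0.le.trans (Nat.mul_le_mul r1.2
      (by omega : M ≤ 3 * (2 * e.totient ^ 2)))) 2)
    rw [hj] at this
    exact (lt_two_pow_37 j).not_ge this
  have b3 : e ≤ 181 := not_lt.1 fun c => by
    have := List.all_eq_true.1 chk1 e (List.mem_range.2 (by nlinarith))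
    simp only [Bool.or_eq_true, decide_eq_true_eq] at this
    have := (this.resolve_left c.not_ge).trans (count_le_totient (by decide) fun k hk => by simp at hk; omega)
    omega
  have b4 := (lt_cyV hq2 (by omega : 1 < e)).trans_le (e0.le.trans (Nat.mul_le_mul
    (Nat.le_of_dvd (by omega) r1.1) (by omega : M ≤ 3 * e)))
  have t2 : 2 ≤ e.totient := Nat.le_of_dvd t0 (Nat.totient_even hn).two_dvd
  have b5 : q < 320 := not_le.1 fun c => by
    have := (Nat.pow_le_pow_left (by omega : 319 ≤ q - 1) 2).trans (Nat.pow_le_pow_right (by omega) t2)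
    nlinarith
  have := List.all_eq_true.1 chk2 e (List.mem_range.2 (by omega))
  simp only [Bool.or_eq_true, decide_eq_true_eq] at this
  have := List.all_eq_true.1 (this.resolve_left hn.not_ge) q (List.mem_range.2 b5)
  simp only [Bool.or_eq_true, decide_eq_true_eq] at this
  rw [cyF_eq hq2 e e (by omega) le_rfl, gc] at this
  rcases this with ((c | c) | c) | c
  · omega
  · have e4 : ((List.range e).filter fun k => e.gcd k == 1).length = e.totient := by
      rw [← List.toFinset_card_of_nodup (List.nodup_range.filter _)]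
      exact congrArg Finset.card (Finset.ext fun k => by simp)
    exact absurd (e4 ▸ c) b4.not_ge
  · rw [e0, Nat.mul_div_cancel_left _ r0] at c; omega
  · exact c


end Cfsg.Agent.S4423
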