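import Cfsg.Statements.S4425
import Cfsg.Agent.H4.Reg2

set_option autoImplicit false
open Cfsg

namespace Cfsg.Agent.S4425

open CfsgH4 CfsgH3 CfsgH2 MonoidAlgebra

/-- Let χ be an irreducible character of the finite group G, p a prime, p^a the p-part of the order of G and p^b the p-part of the degree χ(1). Let χ̃ be the class function equal to p^a · χ on p-regular elements and zero on p-singular elements. Then p^(−b) · χ̃ is a generalized character of G, while p^(−(b+1)) · χ̃ is not. -/
theorem result {G : Type*} [Group G] [Finite G] (p : ℕ) [Fact p.Prime] (χ : Cfsg.IrrCharacter G) : Cfsg.IsGeneralizedCharacter G (fun x : G => if p ∣ orderOf x then (0 : ℂ) else ((p ^ ((Nat.card G).factorization p - (Cfsg.charDegree (χ : G → ℂ)).factorization p) : ℕ) : ℂ) * (χ : G → ℂ) x) ∧ ¬ Cfsg.IsGeneralizedCharacter G (fun x : G => if p ∣ orderOf x then (0 : ℂ) else ((p ^ (Nat.card G).factorization p : ℕ) : ℂ) / ((p ^ ((Cfsg.charDegree (χ : G → ℂ)).factorization p + 1) : ℕ) : ℂ) * (χ : G → ℂ) x) := by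
  have := Fintype.ofFinite G
  obtain ⟨M, hM⟩ := CfsgH4.exists_isPModular p
  have := hM.2.1
  have := charP_of_isPModular hM
  rw [ite_eq_smul_regPart, ite_eq_smul_regPart]
  constructor
  · refine isGen_of_inner_int (isClassFunction_smul _ (regPart_classFun χ.2.classFun)) fun ψ hψ => ?_
    rw [CfsgH3.inner_smul_left, ← mR_eq_inner _ hψ.isChar.apply_inv, mR_comm]
    push_cast
    exact exists_int_pow_mR hψ.isGen χ.2
  · intro h
    have hB := isPBlock_blockOf (M := M) χ
    obtain ⟨ψ, hψ, h0⟩ := exists_height_zero (p := p) (block_nonempty hB)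
    obtain ⟨n, hn⟩ := h.inner_int ψ.2.isGen
    rw [CfsgH3.inner_smul_left, ← mR_eq_inner_irr, mR_comm] at hn
    refine (not_dvd_wI_iff hB (mem_blockOf_self χ)).2 ⟨hψ, h0⟩ ⟨n, ?_⟩
    have h1 := coe_wI (p := p) ψ.2.isGen χ.2
    have h2 := nu_le (p := p) χ.2
    obtain ⟨k, hk⟩ := Nat.exists_eq_add_of_le h2
    have h3 : (wI p ψ.1 χ.1 : ℂ) = p * n := by
      rw [h1, ← hn, hk, Nat.add_sub_cancel_left]
      have := p_pow_ne_zero (p := p) 1
      rw [pow_one] at this
      push_cast
      field_simp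
      ring
    exact_mod_cast h3

end Cfsg.Agent.S4425
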