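import Cfsg.Statements.S4431
import Cfsg.Agent.H4.Reg2

set_option autoImplicit false
open Cfsg

namespace Cfsg.Agent.S4431

open CfsgH4 CfsgH3 CfsgH2 MonoidAlgebra

/-- Let H be a subgroup of the finite group G and b a block of H whose induced block B₀ in G is defined (relative to a maximal ideal M of the algebraic integers containing p). Let χ be an irreducible character of G, ψ ∈ b, and let η be the class function on H equal to p^a · χ on the p-regular elements of H and zero elsewhere, p^a being the p-part of the order of H. Then (a) if χ ∉ B₀, the number [η, ψ]/ψ(1) lies in the local ideal at M; (b) if χ ∈ B₀ has height zero, it does not. -/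
theorem result {G : Type*} [Group G] [Fintype G] (p : ℕ) [Fact p.Prime] (M : Ideal Cfsg.AlgInt) (hM : Cfsg.IsPModular p M) (H : Subgroup G) [Fintype H] (b : Set (Cfsg.IrrCharacter H)) (B₀ : Set (Cfsg.IrrCharacter G)) (hind : Cfsg.IsInducedBlock M H b B₀) (χ : Cfsg.IrrCharacter G) (ψ : Cfsg.IrrCharacter H) (hψ : ψ ∈ b) : (χ ∉ B₀ → Cfsg.MemLocalIdeal M (Cfsg.classInner (fun h : H => if p ∣ orderOf h then (0 : ℂ) else ((p ^ (Nat.card H).factorization p : ℕ) : ℂ) * (χ : G → ℂ) h) (ψ : H → ℂ) / (ψ : H → ℂ) 1)) ∧ (χ ∈ B₀ → Cfsg.blockHeight p B₀ (χ : G → ℂ) = 0 → ¬ Cfsg.MemLocalIdeal M (Cfsg.classInner (fun h : H => if p ∣ orderOf h then (0 : ℂ) else ((p ^ (Nat.card H).factorization p : ℕ) : ℂ) * (χ : G → ℂ) h) (ψ : H → ℂ) / (ψ : H → ℂ) 1)) := by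
  have := hM.2.1
  have := charP_of_isPModular hM
  obtain ⟨χ0, hχ0⟩ := block_nonempty hind.2.1
  have hS : tReg p χ.1 ∈ SG M G := tReg_mem_SG (irr_mem_Loc χ)
  have hF := tReg_mem_Fix (p := p) χ.2.classFun
  have e : classInner (fun h : H => if p ∣ orderOf h then (0 : ℂ) else
      ((p ^ (Nat.card H).factorization p : ℕ) : ℂ) * (χ : G → ℂ) h) (ψ : H → ℂ) / (ψ : H → ℂ) 1 =
      ((p ^ (Nat.card H).factorization p : ℕ) : ℂ) / Nat.card H * om ψ.1 (res H (tReg p χ.1)) := by
    rw [ite_eq_smul_regPart _ (fun h : H => χ.1 h), CfsgH3.inner_smul_left, ← mR_eq_inner_irr,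
      mR_eq_om _ ψ.2, res_tReg]
    have := ψ.2.one_ne_zero
    field_simp
  have hu : red M (((p ^ (Nat.card H).factorization p : ℕ) : ℂ) / Nat.card H) ≠ 0 :=
    (red_natCast_div_ne_zero_iff (p := p) (pow_ne_zero _ (Fact.out : p.Prime).ne_zero)
      Nat.card_pos.ne').2 (by simp [(Fact.out : p.Prime).factorization_self])
  have h1 := om_res_mem_Loc (M := M) ψ (Fix_anti le_top hF) hS
  rw [e, memLocalIdeal_iff_red (mul_mem (mem_Loc_of_red_ne_zero hu) h1),
    red_mul (mem_Loc_of_red_ne_zero hu) h1, red_om_res_of_induced hind hψ hχ0 hF hS, mul_eq_zero,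
    or_iff_right hu]
  have := red_om_tReg_ne_zero_iff (p := p) (χ := χ) hind.2.1 hχ0
  exact ⟨fun h => by by_contra h'; exact h (this.1 h').1, fun h h' => this.2 ⟨h, h'⟩⟩

end Cfsg.Agent.S4431
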