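import Cfsg.Statements.S4432
import Cfsg.Agent.H4.Cover2

set_option autoImplicit false
open Cfsg

namespace Cfsg.Agent.S4432

open CfsgH4 CfsgH3 CfsgH2 MonoidAlgebra

/-- Let N be a normal subgroup of the finite group G, b a block of N and B a block of G (relative to a maximal ideal M of the algebraic integers containing p) such that B covers b: some member of B has a constituent in b on restriction to N. Then every θ ∈ b is a constituent of the restriction of some χ ∈ B. -/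
theorem result {G : Type*} [Group G] [Fintype G] (p : ℕ) [Fact p.Prime] (M : Ideal Cfsg.AlgInt) (hM : Cfsg.IsPModular p M) (N : Subgroup G) [hN : N.Normal] [Fintype N] (B : Set (Cfsg.IrrCharacter G)) (hB : Cfsg.IsPBlock M B) (b : Set (Cfsg.IrrCharacter N)) (hb : Cfsg.IsPBlock M b) (hcov : (∃ χ ∈ B, ∃ θ ∈ b, Cfsg.classInner (fun n : N => (χ : G → ℂ) n) (θ : N → ℂ) ≠ 0)) (θ : Cfsg.IrrCharacter N) (hθ : θ ∈ b) : ∃ χ ∈ B, Cfsg.classInner (fun n : N => (χ : G → ℂ) n) (θ : N → ℂ) ≠ 0 := by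
  have := hM.2.1
  have hE := isPrim_bId hB
  obtain ⟨c, hc, h⟩ := exists_lam_tr_ne_zero (Fix_anti le_top hE.mem.2) hE.idem (isPrim_bIdS hb)
    ((cover_iff hB hb).1 hcov)
  have h1 : liftA M c * eSet B ∈ Fix ℂ N :=
    mul_mem (liftA_mem_Fix hc) (Fix_anti le_top (eSet_mem_Fix B))
  have h2 := lam_bIdS hb hθ h1 (mul_mem (liftA_mem_SG c) (eSet_mem_SG hB))
  rw [redA_mul (liftA_mem_SG c) (eSet_mem_SG hB), redA_liftA] at h2
  rw [← eSet_mul_eSetS_ne_zero_iff]
  intro h3
  refine h (h2.trans ?_)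
  have hθ' := isPrim_eSetS_singleton θ
  rw [← lam_eSetS_singleton θ h1, (hθ'.lam_eq_zero_iff (isComm_Z N) (tr_mem_Z le_rfl
    (mem_Zc_top.2 h1))).2, red_zero]
  rw [← tr_mul_of_Supp_left hθ'.mem.1, ← mul_comm_of_Fix_of_Supp h1 hθ'.mem.1, mul_assoc, h3, mul_zero,
    map_zero]
  exact IsNilpotent.zero

end Cfsg.Agent.S4432
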