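import Cfsg.Statements.S4434
import Cfsg.Agent.H4.Dom

set_option autoImplicit false
open Cfsg

namespace Cfsg.Agent.S4434

open CfsgH4 CfsgH3 CfsgH2 MonoidAlgebra

/-- Let N be a normal p-subgroup of the finite group G and write Ḡ = G/N; fix a maximal ideal M of the algebraic integers containing p. Then every block B of G contains a block B̄ of Ḡ (the inflation of every member of B̄ lies in B) whose defect groups are exactly the images in Ḡ of the defect groups of B. -/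
theorem result {G : Type*} [Group G] [Finite G] (p : ℕ) [Fact p.Prime] (M : Ideal Cfsg.AlgInt) (hM : Cfsg.IsPModular p M) (N : Subgroup G) [N.Normal] (hN : IsPGroup p N) (B : Set (Cfsg.IrrCharacter G)) (hB : Cfsg.IsPBlock M B) : ∃ Bbar : Set (Cfsg.IrrCharacter (G ⧸ N)), Cfsg.IsPBlock M Bbar ∧ (∀ χ ∈ Bbar, ∀ ψ : Cfsg.IrrCharacter G, (ψ : G → ℂ) = (χ : G ⧸ N → ℂ) ∘ QuotientGroup.mk → ψ ∈ B) ∧ ∀ Dbar : Subgroup (G ⧸ N), Cfsg.IsDefectGroup p M Bbar Dbar ↔ ∃ P : Subgroup G, Cfsg.IsDefectGroup p M B P ∧ Dbar = P.map (QuotientGroup.mk' N) := by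
  have := hM.2.1
  have := charP_of_isPModular hM
  obtain ⟨P, hP⟩ := exists_isDefectGroup p hB
  have hP' := (isDefectGroup_iff hB).1 hP
  obtain ⟨b, hb, h1, h2⟩ := exists_dom_isDef hN hB hP'
  refine ⟨b, hb, fun χ hχ ψ e => ?_, fun D => ?_⟩
  · have : ψ = infl N χ := Subtype.ext e
    exact this ▸ h1 χ hχ
  · rw [isDefectGroup_iff hb]
    constructor
    · intro hD
      obtain ⟨n, -, rfl⟩ := h2.exists_cj_eq hD
      obtain ⟨g, rfl⟩ := QuotientGroup.mk'_surjective N n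
      exact ⟨_, (isDefectGroup_iff hB).2 (hP'.cj (mem_Zc_top.1 (bId_mem B)) (n := g) trivial),
        (map_cj _ _ _).symm⟩
    · rintro ⟨Q, hQ, rfl⟩
      obtain ⟨g, -, rfl⟩ := hP'.exists_cj_eq ((isDefectGroup_iff hB).1 hQ)
      rw [map_cj]
      exact h2.cj (mem_Zc_top.1 (bId_mem b)) trivial

end Cfsg.Agent.S4434
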