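import Cfsg.Statements.S4437
import Cfsg.Agent.H4.Cover2

set_option autoImplicit false
open Cfsg

namespace Cfsg.Agent.S4437

open CfsgH4 CfsgH3 CfsgH2 MonoidAlgebra

/-- Let P be a p-subgroup of the finite group G, H = P·C_G(P), and b a block of H (relative to a maximal ideal M of the algebraic integers containing p) having P as a defect group; let B be the block of G induced by b. Let T be the stabilizer of b in N_G(P): the elements g of N_G(P) such that the g-conjugate of every member of b is again a member of b. Then B has defect group P if and only if p does not divide the index of H in T. -/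
theorem result {G : Type*} [Group G] [Fintype G] (p : ℕ) [Fact p.Prime] (M : Ideal Cfsg.AlgInt) (hM : Cfsg.IsPModular p M) (P : Subgroup G) (hP : IsPGroup p P) (H : Subgroup G) [Fintype H] (hH : H = P ⊔ Subgroup.centralizer (P : Set G)) (b : Set (Cfsg.IrrCharacter H)) (hb : Cfsg.IsPBlock M b) (hbP : Cfsg.IsDefectGroup p M b (P.subgroupOf H)) (B : Set (Cfsg.IrrCharacter G)) (hind : Cfsg.IsInducedBlock M H b B) (T : Subgroup G) (hT : ∀ g : G, g ∈ T ↔ (g ∈ Subgroup.normalizer (P : Set G) ∧ ∀ θ ∈ b, ∀ θ' : Cfsg.IrrCharacter H, (∀ h h' : H, (h' : G) = g * h * g⁻¹ → (θ' : H → ℂ) h' = (θ : H → ℂ) h) → θ' ∈ b)) : Cfsg.IsDefectGroup p M B P ↔ ¬ p ∣ H.relIndex T := by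
  have := hM.2.1
  have := charP_of_isPModular hM
  have hB := hind.2.1
  have hE := isPrim_bId hB
  have hf := isPrim_bIdS hb
  have h1 : P ≤ H := hH ▸ le_sup_left
  have h2 : ⊤ ⊓ Subgroup.centralizer (P : Set G) ≤ H := inf_le_right.trans (hH ▸ le_sup_right)
  have h3 : H ≤ Subgroup.normalizer (P : Set G) :=
    hH ▸ sup_le Subgroup.le_normalizer (Subgroup.centralizer_le_normalizer _)
  have h4 : Subgroup.normalizer (P : Set G) ≤ Subgroup.normalizer (H : Set G) := fun g hg => by
    rw [← cj_eq_iff_mem_normalizer] at hg ⊢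
    rw [hH, cj_sup, cj_centralizer, hg]
  have hT' : T = ⊤ ⊓ Subgroup.normalizer (P : Set G) ⊓ stabA (bIdS M H b) := by
    ext g
    rw [hT, top_inf_eq, Subgroup.mem_inf]
    exact and_congr_right fun hg => (mem_stabA_iff_forall hb (h4 hg)).symm
  have h5 := (ind_iff_mul_Br hP h1 h2 le_top h3 hf hE).1 (ind_of_isInducedBlock hind)
  have hHT : H ≤ T := hT' ▸ le_inf (le_inf le_top h3) hf.le_stabA
  have hTP : T ≤ Subgroup.normalizer (P : Set G) := hT' ▸ inf_le_left.trans inf_le_right
  have hfT : bIdS M H b ∈ Fix (Res M) T := le_stabA_iff.1 (hT' ▸ inf_le_right)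
  have hD := (isDefectGroup_iff_S' hb h1).1 hbP
  rw [isDefectGroup_iff hB]
  constructor
  · intro h
    have := (isDef_loc_of_isDef hP h2 hf hE.mem.2 h5 (h1.trans hHT) hHT hT'.le h).not_dvd_relIndex hf hHT
      (hTP.trans h4) hfT
    rwa [sup_eq_left.2 h1] at this
  · intro h
    obtain ⟨D, hD'⟩ := (hf.of_Fix hHT hfT).exists_isDef p hHT (hTP.trans h4)
    have h6 := hD.eq_of_le (le_of_not_dvd_relIndex hHT (hTP.trans h4) h hD'.pgroup hD'.le) hD'.pgroup
      hD'.ne_zero (hD'.le_of_normal (h1.trans hHT) hTP hP ⟨Supp_mono hHT hf.mem.1, hfT⟩ hf.idem)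
    subst h6
    exact isDef_of_stab hP le_top h2 (le_inf le_top h3) (inf_le_right.trans h4) hf hE h5 (hT' ▸ hD')

end Cfsg.Agent.S4437
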