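import Cfsg.Statements.S4442
import Mathlib
import Cfsg.Agent.H8.Def2d

set_option autoImplicit false
open Cfsg

namespace Cfsg.Agent.S4442

open CfsgH8 CfsgH4 CfsgH2 CfsgH3 Subgroup

/-- Blocks of defect one. Let p be an odd prime and G a finite group whose Sylow p-subgroup P has order p; let C = C_G(P) and N = N_G(P), and fix a maximal ideal M of the algebraic integers containing p. Let B be a block of G with defect group P, b a block of C inducing B, and θ the member of b having P in its kernel (there is exactly one). Let T be the stabilizer of θ in N (the elements g ∈ N with θ(g c g⁻¹) = θ(c) for all c ∈ C) and e the index of C in T. Then e divides p − 1 and B contains exactly e + (p − 1)/e irreducible characters. Moreover B is the disjoint union of a set X of e characters and a set Y of (p − 1)/e characters such that, with f the index of C in N: every χ ∈ X has χ(1) ≡ ±(f/e)·θ(1) (mod p), there is one sign ε with ψ(1) ≡ ε f θ(1) (mod p) for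 all ψ ∈ Y, and all members of Y agree on the p-regular elements of G. -/
theorem result {G : Type*} [Group G] [Finite G] (p : ℕ) [Fact p.Prime] (M : Ideal Cfsg.AlgInt) (hM : Cfsg.IsPModular p M) (hodd : p ≠ 2) (P : Sylow p G) (hP : Nat.card P = p) (B : Set (Cfsg.IrrCharacter G)) (hB : Cfsg.IsPBlock M B) (hBP : Cfsg.IsDefectGroup p M B P) (b : Set (Cfsg.IrrCharacter (Subgroup.centralizer ((P : Subgroup G) : Set G)))) (hind : Cfsg.IsInducedBlock M (Subgroup.centralizer ((P : Subgroup G) : Set G)) b B) (θ : Cfsg.IrrCharacter (Subgroup.centralizer ((P : Subgroup G) : Set G))) (hθ : θ ∈ b) (hθP : ∀ x : Subgroup.centralizer ((P : Subgroup G) : Set G), (x : G) ∈ (P : Subgroup G) → (θ : Subgroup.centralizer ((P : Subgroup G) : Set G) → ℂ) x = (θ : Subgroup.centralizer ((P : Subgroup G) : Set G) → ℂ) 1) (T : Subgroup G) (hT : ∀ g : G, g ∈ T ↔ (g ∈ Subgroup.normalizer ((P : Subgroup G) : Set G) ∧ ∀ c c' : Subgroup.centralizer ((P : Subgroup G) : Set G), (c'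 : G) = g * c * g⁻¹ → (θ : Subgroup.centralizer ((P : Subgroup G) : Set G) → ℂ) c' = (θ : Subgroup.centralizer ((P : Subgroup G) : Set G) → ℂ) c)) (e f : ℕ) (he : (Subgroup.centralizer ((P : Subgroup G) : Set G)).relIndex T = e) (hf : (Subgroup.centralizer ((P : Subgroup G) : Set G)).relIndex (Subgroup.normalizer ((P : Subgroup G) : Set G)) = f) : e ∣ p - 1 ∧ Nat.card B = e + (p - 1) / e ∧ ∃ X Y : Set (Cfsg.IrrCharacter G), B = X ∪ Y ∧ Disjoint X Y ∧ Nat.card X = e ∧ Nat.card Y = (p - 1) / e ∧ (∀ χ ∈ X, (Cfsg.charDegree (χ : G → ℂ) : ℤ) ≡ ((f / e * Cfsg.charDegree (θ : Subgroup.centralizer ((P : Subgroup G) : Set G) → ℂ) : ℕ) : ℤ) [ZMOD p] ∨ (Cfsg.charDegree (χ : G → ℂ) : ℤ) ≡ -((f / e * Cfsg.charDegree (θ : Subgroup.centralizer ((P : Subgroup G) : Set G) → ℂ) : ℕ) : ℤ) [ZMOD p]) ∧ (∃ ε : ℤ, (ε = 1 ∨ ε = -1) ∧ ∀ ψ ∈ Y, (Cfsg.charDegree (ψ : G → ℂ) : ℤ) ≡ ε * ((f * Cfsg.charDegree (θ : Subgroup.centralizer ((P : Subgroup G) : Set G) → ℂ) : ℕ) : ℤ)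 [ZMOD p]) ∧ ∀ ψ ∈ Y, ∀ ψ' ∈ Y, ∀ g : G, ¬ p ∣ orderOf g → (ψ : G → ℂ) g = (ψ' : G → ℂ) g := by
  have := Fintype.ofFinite G
  have := hM.2.1
  have := charP_of_isPModular hM
  have : O1 P := ⟨hP⟩
  have hk : KT θ := hθP
  rw [block_eq_blockOf (isInducedBlock_iff.mp hind).1 hθ] at hind
  obtain ⟨χ₀, h0⟩ := block_nonempty hB
  obtain ⟨X, ζ, a, δ, S, h1, h2, -⟩ := exists_excT hk hind h0
  obtain ⟨u1, u2, u3⟩ := S.eq_union
  have hTN : T ≤ NP P := fun g hg => ((hT g).mp hg).1
  have e1 : T.subgroupOf (NP P) = TT θ := Subgroup.ext fun n => by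
    rw [mem_subgroupOf, hT, ← inv_mem_iff (H := TT θ)]
    refine ⟨fun h => Subtype.ext (funext fun c => h.2 c _ (by simp)), fun h => ⟨n.2, fun c c' e => ?_⟩⟩
    exact (congrArg _ (Subtype.ext (by simp [e]))).trans (congrFun (congrArg Subtype.val h) c)
  have e2 : eT θ = e := by rw [eT, ← e1, relIndex_subgroupOf hTN, he]
  have e3 : f / e = (TT θ).index := Nat.div_eq_of_eq_mul_left (e2 ▸ eT_pos) (by rw [← hf, ← e2, index_TT])
  rw [← e2, ← card_orbT' (θ := θ)] at *
  subst hf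
  refine ⟨Dvd.intro_left _ (card_orbT _).symm, by rw [S.card_B, h1], X, Set.range ζ, u1, u2, by simpa using h1, u3,
    fun χ hχ => ?_, ⟨δ, S.sign, ?_⟩, ?_⟩
  · have := degX hk hind S hχ
    rw [e3]
    rcases h2 χ hχ with e | e <;> rw [e] at this
    · exact Or.inl (by simpa using this)
    · exact Or.inr (by simpa using this)
  · rintro _ ⟨i, rfl⟩; exact degY hk hind S i
  · rintro _ ⟨i, rfl⟩ _ ⟨j, rfl⟩ g hg; exact (excT hk hind).agree S i j hg

end Cfsg.Agent.S4442
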