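import Cfsg.Statements.S4443
import Cfsg.Agent.H4.Rob2

set_option autoImplicit false
open Cfsg

namespace Cfsg.Agent.S4443

open CfsgH4 CfsgH3 CfsgH2 MonoidAlgebra

theorem rank_aux {F ι κ : Type*} [Field F] [Fintype ι] [Fintype κ] [DecidableEq κ]
    (A : Matrix ι ι F) (c : κ → F) (l m u w : κ → ι → F) (hc : ∀ k, c k ≠ 0)
    (hA : ∀ i j, A i j = ∑ k, c k * (l k j * m k i))
    (h1 : ∀ k k', ∑ j, w k' j * l k j = if k = k' then 1 else 0)
    (h2 : ∀ k k', ∑ j, u k' j * m k j = if k = k' then 1 else 0) : Fintype.card κ = A.rank := by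
  have h3 : A = (Matrix.of fun i k => c k * m k i) * Matrix.of l := by
    ext i j
    rw [hA, Matrix.mul_apply]
    exact Finset.sum_congr rfl fun k _ => by simp only [Matrix.of_apply]; ring
  refine le_antisymm ?_ (h3 ▸ (Matrix.rank_mul_le_right _ _).trans (Matrix.rank_le_card_height _))
  have h4 : Matrix.of u * (Matrix.of fun i k => c k * m k i) = Matrix.diagonal c := by
    ext k k'
    rw [Matrix.mul_apply, Matrix.diagonal_apply]
    simp only [Matrix.of_apply, mul_left_comm _ (c k'), ← Finset.mul_sum, h2]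
    by_cases h : k = k'
    · subst h; simp
    · rw [if_neg h, if_neg (Ne.symm h), mul_zero]
  have h5 : Matrix.of l * (Matrix.of w).transpose = 1 := by
    ext k k'
    rw [Matrix.mul_apply, Matrix.one_apply, ← h1]
    exact Finset.sum_congr rfl fun j _ => by simp [mul_comm]
  have h6 : Matrix.of u * A * (Matrix.of w).transpose = Matrix.diagonal c := by
    rw [h3, ← Matrix.mul_assoc, h4, Matrix.mul_assoc, h5, Matrix.mul_one]
  have h7 : (Matrix.diagonal c).rank = Fintype.card κ := Matrix.rank_of_isUnit _ (by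
    rw [Matrix.isUnit_iff_isUnit_det, Matrix.det_diagonal, isUnit_iff_ne_zero]
    exact Finset.prod_ne_zero_iff.2 fun k _ => hc k)
  rw [← h7, ← h6]
  exact (Matrix.rank_mul_le_left _ _).trans (Matrix.rank_mul_le_right _ _)

/-- Let D be a normal p-subgroup of the finite group G, of order p^d, let p^a be the p-part of the order of G, and fix a Sylow p-subgroup S and a maximal ideal M of the algebraic integers containing p. Index by a finite type ι (via an injective map K) exactly the conjugacy classes of p-regular elements x of G for which D is a Sylow p-subgroup of C_G(x). For classes K_i, K_j let ω(i, j) be the number of pairs (y, z) ∈ K_i × K_j with z y⁻¹ ∈ S; this number is divisible by p^(a−d). Then the number of p-blocks of G having D as a defect group equals the rank over ℤ/pℤ of the matrix with (i, j) entry ω(i, j)/p^(a−d) reduced modulo p. -/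
theorem result {G : Type*} [Group G] [Finite G] (p : ℕ) [Fact p.Prime] (M : Ideal Cfsg.AlgInt) (hM : Cfsg.IsPModular p M) (D : Subgroup G) [D.Normal] (hD : IsPGroup p D) (S : Sylow p G) {ι : Type*} [Fintype ι] [DecidableEq ι] (K : ι → ConjClasses G) (hKinj : Function.Injective K) (hK : ∀ C : ConjClasses G, (∃ i, K i = C) ↔ ∃ x ∈ C.carrier, ¬ p ∣ orderOf x ∧ ∃ Q : Sylow p (Subgroup.centralizer ({x} : Set G)), (Q : Subgroup (Subgroup.centralizer ({x} : Set G))).map (Subgroup.centralizer ({x} : Set G)).subtype = D) : Nat.card {B : Set (Cfsg.IrrCharacter G) // Cfsg.IsPBlock M B ∧ Cfsg.IsDefectGroup p M B D} = (Matrix.of fun i j : ι => ((Nat.card {yz : G × G // yz.1 ∈ (K i).carrier ∧ yz.2 ∈ (K j).carrier ∧ yz.2 * yz.1⁻¹ ∈ (S : Subgroup G)} / p ^ ((Nat.card G).factorization p - (Nat.card D).factorization p) : ℕ) : ZMod p)).rank := by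
  classical
  have := hM.2.1
  have := charP_of_isPModular hM
  have hp : p.Prime := Fact.out
  have h0 : ∀ i, ∃ x, ConjClasses.mk x = K i ∧ ¬ p ∣ orderOf x ∧
      IsSylowIn p D (Subgroup.centralizer {x}) := fun i => by
    obtain ⟨x, h1, h2, Q, h3⟩ := (hK _).1 ⟨i, rfl⟩
    exact ⟨x, ConjClasses.mem_carrier_iff_mk_eq.1 h1, h2, exists_sylow_map_iff.1 ⟨Q, h3.symm⟩⟩
  choose x hx1 hx2 hx3 using h0
  set d := (Nat.card D).factorization p with hd
  have hfac : ∀ y : G, IsSylowIn p D (Subgroup.centralizer {y}) →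
      (Nat.card (Subgroup.centralizer ({y} : Set G))).factorization p = d := fun y h => by
    rw [hd, h.card_eq, hp.factorization_pow]; simp
  have hinj : ∀ i j, IsConj (x i) (x j) → i = j := fun i j h =>
    hKinj (by rw [← hx1, ← hx1, ConjClasses.mk_eq_mk_iff_isConj.2 h])
  let κ := {B : Set (IrrCharacter G) // IsPBlock M B ∧ IsDefectGroup p M B D}
  have := Fintype.ofFinite κ
  have hdef : ∀ B : κ, IsDef p ⊤ (bId M B.1) D := fun B => (isDefectGroup_iff B.2.1).1 B.2.2
  have hκ : ∀ B : κ, blockDefect p B.1 = d := fun B => by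
    rw [hd, card_isDef B.2.1 (hdef B), hp.factorization_pow]; simp
  have hsurj : ∀ (B B' : κ) y, (bId M B'.1).coeff y ≠ 0 → lamC M B.1 y ≠ 0 →
      ¬ p ∣ orderOf y ∧ IsSylowIn p D (Subgroup.centralizer {y}) := by
    intro B B' y h1 h2
    have h3 : D ≤ Subgroup.centralizer {y} := le_centralizer_singleton_iff.2 (mem_of_coeff_ne_zero
      (mem_Supp_centralizer_of_idem le_top le_normalizer_top hD (bId_mem _)
        (isPrim_bId B'.2.1).idem) h1)
    exact ⟨not_dvd_of_coeff_bId B'.2.1 h1, by simpa using (hdef B').isSylowIn h1 h3⟩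
  have hrep : ∀ y, ¬ p ∣ orderOf y → IsSylowIn p D (Subgroup.centralizer {y}) →
      ∃ i, IsConj (x i) y := by
    intro y h1 h2
    obtain ⟨Q, hQ⟩ := exists_sylow_map_iff.2 h2
    obtain ⟨i, hi⟩ := (hK (ConjClasses.mk y)).2 ⟨y, ConjClasses.mem_carrier_mk, h1, Q, hQ.symm⟩
    exact ⟨i, ConjClasses.mk_eq_mk_iff_isConj.1 ((hx1 i).trans hi)⟩
  rw [← rank_map_field (ZMod.castHom (dvd_refl p) (Res M)), Nat.card_eq_fintype_card]
  refine rank_aux _ (fun B : κ => cB p M B.1) (fun B j => lamC M B.1 (x j))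
    (fun B i => lamC M B.1 (x i)⁻¹) (fun B i => (bId M B.1).coeff (x i)⁻¹)
    (fun B i => (bId M B.1).coeff (x i)) (fun B => cB_ne_zero B.2.1) (fun i j => ?_)
    (fun B B' => ?_) fun B B' => ?_
  · have h1 : Nat.card {yz : G × G // yz.1 ∈ (K i).carrier ∧ yz.2 ∈ (K j).carrier ∧
        yz.2 * yz.1⁻¹ ∈ (S : Subgroup G)} = pc (S : Subgroup G) (x i) (x j) := by
      refine Nat.card_congr (Equiv.subtypeEquivRight fun yz => ?_)
      rw [← hx1, ← hx1, ConjClasses.mem_carrier_iff_mk_eq, ConjClasses.mem_carrier_iff_mk_eq,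
        ConjClasses.mk_eq_mk_iff_isConj, ConjClasses.mk_eq_mk_iff_isConj, isConj_comm,
        isConj_comm (g := yz.2)]
      rfl
    have h2 := pow_dvd_pc (p := p) S.card_eq_multiplicity (x i) (x j)
    rw [hfac _ (hx3 i)] at h2
    rw [Matrix.map_apply, Matrix.of_apply, map_natCast, h1, ← red_natCast (M := M),
      Nat.cast_div h2 (by exact_mod_cast pow_ne_zero _ hp.ne_zero), Nat.cast_pow,
      red_pc S (hfac _ (hx3 i)) (hfac _ (hx3 j)).le,
      ← Finset.sum_subset (s₁ := (Finset.univ : Finset κ).map (Function.Embedding.subtype _)),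
      Finset.sum_map]
    · rfl
    · intro B hB
      obtain ⟨B, -, rfl⟩ := Finset.mem_map.1 hB
      exact Finset.mem_filter.2 ⟨mem_blocksF.2 B.2.1, hκ B⟩
    · intro B hB hB'
      rw [Finset.mem_filter, mem_blocksF] at hB
      by_cases h : lamC M B (x j) = 0
      · rw [h, zero_mul, mul_zero]
      · exact absurd (Finset.mem_map.2 ⟨(⟨B, hB.1, (isDefectGroup_iff hB.1).2 (isDef_of_lamC hB.1 h
          (hx3 j) (hB.2.trans (hfac _ (hx3 j)).symm))⟩ : κ), Finset.mem_univ _, rfl⟩) hB'
  · rw [sum_index_delta B.2.1 B'.2.1 x hinj fun y h1 h2 =>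
      hrep y (hsurj B B' y h1 h2).1 (hsurj B B' y h1 h2).2]
    simp only [Subtype.val_inj]
  · rw [sum_index_delta B.2.1 B'.2.1 (fun i => (x i)⁻¹) (fun i j h => hinj i j (isConj_inv_inv.1 h))
      fun y h1 h2 => ?_]
    · simp only [Subtype.val_inj]
    · obtain ⟨i, hi⟩ := hrep y⁻¹ (by simpa using (hsurj B B' y h1 h2).1)
        (by rw [centralizer_inv]; exact (hsurj B B' y h1 h2).2)
      exact ⟨i, by rw [← isConj_inv_inv, inv_inv]; exact hi⟩

end Cfsg.Agent.S4443
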