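import Cfsg.Statements.S4444
import Cfsg.Agent.H4.Glaub4

set_option autoImplicit false
open Cfsg

namespace Cfsg.Agent.S4444

open CfsgH4 CfsgH3

/-- The Glauberman correspondence for a p-group of operators. Inside a finite group Γ let S normalise G with the orders of G and S coprime, S a p-group, and let C = G ⊓ C(S) be the fixed points. Call an irreducible character χ of G S-invariant when χ(s g s⁻¹) = χ(g) for s ∈ S, g ∈ G. Then: (i) for every S-invariant χ there is exactly one irreducible character β of C whose multiplicity [χ_C, β] in the restriction of χ is not divisible by p; (ii) that multiplicity is ≡ 1 or ≡ −1 (mod p); (iii) distinct S-invariant χ give distinct β; (iv) every irreducible character of C arises in this way. So χ ↦ β is a bijection from the S-invariant irreducible characters of G onto the irreducible characters of C. -/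
theorem result {Γ : Type*} [Group Γ] [Fintype Γ] (G S : Subgroup Γ) [Fintype G] (hnorm : ∀ s ∈ S, ∀ g ∈ G, s * g * s⁻¹ ∈ G) (hcop : (Nat.card G).Coprime (Nat.card S)) (p : ℕ) (hp : p.Prime) (hS : IsPGroup p S) (C : Subgroup Γ) [Fintype C] (hC : C = G ⊓ Subgroup.centralizer (S : Set Γ)) (hCG : C ≤ G) : (∀ χ : Cfsg.IrrCharacter G, (∀ s ∈ S, ∀ g g' : G, (g' : Γ) = s * g * s⁻¹ → (χ : G → ℂ) g' = (χ : G → ℂ) g) → ∃! β : Cfsg.IrrCharacter C, ∃ m : ℕ, Cfsg.classInner (fun c : C => (χ : G → ℂ) ⟨c, hCG c.2⟩) (β : C → ℂ) = (m : ℂ) ∧ ¬ p ∣ m) ∧ (∀ χ : Cfsg.IrrCharacter G, (∀ s ∈ S, ∀ g g' : G, (g' : Γ) = s * g * s⁻¹ → (χ : G → ℂ) g' = (χ : G → ℂ) g) → ∀ β : Cfsg.IrrCharacter C, ∀ m : ℕ, Cfsg.classInner (fun c : C => (χ : G → ℂ) ⟨c, hCG c.2⟩) (β : C → ℂ) = (m : ℂ) → ¬ p ∣ m → ((m : ℤ) ≡ 1 [ZMOD p] ∨ (m : ℤ) ≡ -1 [ZMOD p])) ∧ (∀ χ χ' : Cfsg.IrrCharacter G,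 (∀ s ∈ S, ∀ g g' : G, (g' : Γ) = s * g * s⁻¹ → (χ : G → ℂ) g' = (χ : G → ℂ) g) → (∀ s ∈ S, ∀ g g' : G, (g' : Γ) = s * g * s⁻¹ → (χ' : G → ℂ) g' = (χ' : G → ℂ) g) → ∀ β : Cfsg.IrrCharacter C, ∀ m m' : ℕ, Cfsg.classInner (fun c : C => (χ : G → ℂ) ⟨c, hCG c.2⟩) (β : C → ℂ) = (m : ℂ) → ¬ p ∣ m → Cfsg.classInner (fun c : C => (χ' : G → ℂ) ⟨c, hCG c.2⟩) (β : C → ℂ) = (m' : ℂ) → ¬ p ∣ m' → χ = χ') ∧ (∀ β : Cfsg.IrrCharacter C, ∃ χ : Cfsg.IrrCharacter G, (∀ s ∈ S, ∀ g g' : G, (g' : Γ) = s * g * s⁻¹ → (χ : G → ℂ) g' = (χ : G → ℂ) g) ∧ ∃ m : ℕ, Cfsg.classInner (fun c : C => (χ : G → ℂ) ⟨c, hCG c.2⟩) (β : C → ℂ) = (m : ℂ) ∧ ¬ p ∣ m) := by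
  have hn := le_normalizer_of_conj hnorm
  have H : GlR p S hCG := glR_cop hp hS hn hcop hC hCG
  have all : ∀ β : C → ℂ, SInv S β := fun β => sInv_cent β (hC ▸ le_cent_inf G S)
  have key : ∀ (χ : G → ℂ) (β : C → ℂ) (m : ℕ), classInner (resLe hCG χ) β = m →
      mlt (resLe hCG χ) β = m := fun χ β m h => mlt_eq (by exact_mod_cast h)
  have key2 : ∀ (χ : G → ℂ) (β : C → ℂ), IsIrrCharacter G χ → IsIrrCharacter C β →
      ¬ (p : ℤ) ∣ mlt (resLe hCG χ) β → ∃ m : ℕ, classInner (resLe hCG χ) β = m ∧ ¬ p ∣ m := by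
    intro χ β hχ hβ h
    obtain ⟨m, hm⟩ := (hχ.isChar.resLe hCG).inner_nat hβ.isChar
    exact ⟨m, hm, fun h2 => h (key _ _ _ hm ▸ Int.natCast_dvd_natCast.2 h2)⟩
  have key3 : ∀ (χ : G → ℂ) (β : C → ℂ) (m : ℕ), classInner (resLe hCG χ) β = m → ¬ p ∣ m →
      ¬ (p : ℤ) ∣ mlt (resLe hCG χ) β := fun χ β m h h2 h3 =>
    h2 (Int.natCast_dvd_natCast.1 (key _ _ _ h ▸ h3))
  refine ⟨fun χ hχ => ?_, fun χ hχ β m hm h => ?_, fun χ χ' hχ hχ' β m m' hm h hm' h' => ?_,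
    fun β => ?_⟩
  · obtain ⟨ξ, h1, h2, h3, -⟩ := H.ex χ.1 χ.2 hχ
    refine ⟨⟨ξ, h1⟩, key2 _ _ χ.2 h1 (not_dvd_of_pm hp h3), ?_⟩
    rintro β ⟨m, hm, h⟩
    exact Subtype.ext (H.eq χ.2 hχ β.2 (all _) h1 h2 (key3 _ _ _ hm h) (not_dvd_of_pm hp h3))
  · have := H.pm χ.2 hχ β.2 (all _) (key3 _ _ _ hm h)
    rw [key _ _ _ hm] at this
    rcases this with h1 | h1
    · exact Or.inl (Int.ModEq.symm (Int.modEq_iff_dvd.2 h1))
    · exact Or.inr (Int.ModEq.symm (Int.modEq_iff_dvd.2 (by simpa using h1)))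
  · exact Subtype.ext (H.inj _ _ _ χ.2 hχ χ'.2 hχ' β.2 (all _) (key3 _ _ _ hm h) (key3 _ _ _ hm' h'))
  · obtain ⟨χ, h1, h2, h3⟩ := H.surj β.1 β.2 (all _)
    exact ⟨⟨χ, h1⟩, h2, key2 _ _ h1 β.2 h3⟩

end Cfsg.Agent.S4444
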