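import Cfsg.Statements.S4445
import Cfsg.Agent.H4.Glaub4

set_option autoImplicit false
open Cfsg

namespace Cfsg.Agent.S4445

open CfsgH4 CfsgH3

/-- Inside a finite group Γ let the solvable subgroup S normalise G with the orders of G and S coprime. Then the number of S-invariant irreducible characters of G (χ(s g s⁻¹) = χ(g) for all s ∈ S, g ∈ G) equals the number of conjugacy classes of G mapped to themselves by conjugation by every element of S. -/
theorem result {Γ : Type*} [Group Γ] [Fintype Γ] (G S : Subgroup Γ) [Fintype G] (hnorm : ∀ s ∈ S, ∀ g ∈ G, s * g * s⁻¹ ∈ G) (hcop : (Nat.card G).Coprime (Nat.card S)) (hsolv : Group.IsSolvable S) : Nat.card {χ : Cfsg.IrrCharacter G // (∀ s ∈ S, ∀ g g' : G, (g' : Γ) = s * g * s⁻¹ → (χ : G → ℂ) g' = (χ : G → ℂ) g)} = Nat.card {K : ConjClasses G // ∀ s ∈ S, ∀ g g' : G, (g' : Γ) = s * g * s⁻¹ → ConjClasses.mk g = K → ConjClasses.mk g' = K} := by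
  have hn := le_normalizer_of_conj hnorm
  refine (card_sInv_eq hn hcop).trans ?_
  rw [card_irr_eq_card_conjClasses, ← exists_bij_classes hn hcop (Or.inl hsolv) (fun _ => True) _
    (fun _ h => h)]
  · exact (Nat.card_congr (Equiv.subtypeUnivEquiv fun _ => trivial)).symm
  · intro c
    refine iff_of_true trivial fun s hs g g' e h => ?_
    rw [ConjClasses.mk_eq_mk_iff_isConj, isConj_iff] at h ⊢
    obtain ⟨x, hx⟩ := h
    refine ⟨⟨s * x * s⁻¹, hnorm s hs _ x.2⟩, Subtype.ext ?_⟩
    have h1 : (x : Γ) * g * (x : Γ)⁻¹ = c := congrArg Subtype.val hx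
    have h2 : s * c = c * s := c.2.2 s hs
    change s * x * s⁻¹ * g' * (s * x * s⁻¹)⁻¹ = c
    rw [e]
    calc _ = s * ((x : Γ) * g * (x : Γ)⁻¹) * s⁻¹ := by group
      _ = c := by rw [h1, h2]; group

end Cfsg.Agent.S4445
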