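import Cfsg.Statements.S4446
import Cfsg.Agent.H4.Glaub4

set_option autoImplicit false
open Cfsg

namespace Cfsg.Agent.S4446

open CfsgH4 CfsgH3

/-- Let the finite group Γ be generated by a normal subgroup G and a cyclic subgroup S of coprime orders, C = G ⊓ C(S), and let χ be an S-invariant irreducible character of G with canonical extension χ̂ to Γ (the extension whose determinantal order is coprime to the order of S). Then there are exactly one irreducible character β of C and one sign ε such that χ̂(c s) = ε β(c) for every c ∈ C and every generator s of S; this β is a constituent of the restriction of χ to C; distinct S-invariant χ give distinct β; and every irreducible character of C arises in this way. -/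
theorem result {Γ : Type*} [Group Γ] [Fintype Γ] (G S : Subgroup Γ) [Fintype G] (hnorm : ∀ s ∈ S, ∀ g ∈ G, s * g * s⁻¹ ∈ G) (hcop : (Nat.card G).Coprime (Nat.card S)) (htop : G ⊔ S = ⊤) (hcyc : IsCyclic S) (C : Subgroup Γ) [Fintype C] (hC : C = G ⊓ Subgroup.centralizer (S : Set Γ)) (hCG : C ≤ G) : (∀ (χ : Cfsg.IrrCharacter G) (χh : Cfsg.IrrCharacter Γ), (∀ s ∈ S, ∀ g g' : G, (g' : Γ) = s * g * s⁻¹ → (χ : G → ℂ) g' = (χ : G → ℂ) g) → (∀ g : G, (χh : Γ → ℂ) g = (χ : G → ℂ) g) → (Cfsg.detOrder (χh : Γ → ℂ)).Coprime (Nat.card S) → (∃! βε : Cfsg.IrrCharacter C × ℤ, (βε.2 = 1 ∨ βε.2 = -1) ∧ ∀ c : C, ∀ s : Γ, Subgroup.zpowers s = S → (χh : Γ → ℂ) ((c : Γ) * s) = (βε.2 : ℂ) * (βε.1 : C → ℂ) c) ∧ ∀ β : Cfsg.IrrCharacter C, ∀ ε : ℤ, (ε = 1 ∨ ε = -1) → (∀ c : C, ∀ s : Γ, Subgroup.zpowers s = S → (χh : Γ → ℂ) ((c : Γ) * s) = (ε : ℂ) * (β : C → ℂ) c) → Cfsg.classInner (fun c : C =>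 (χ : G → ℂ) ⟨c, hCG c.2⟩) (β : C → ℂ) ≠ 0) ∧ (∀ (χ χ' : Cfsg.IrrCharacter G) (χh χh' : Cfsg.IrrCharacter Γ), (∀ s ∈ S, ∀ g g' : G, (g' : Γ) = s * g * s⁻¹ → (χ : G → ℂ) g' = (χ : G → ℂ) g) → (∀ s ∈ S, ∀ g g' : G, (g' : Γ) = s * g * s⁻¹ → (χ' : G → ℂ) g' = (χ' : G → ℂ) g) → (∀ g : G, (χh : Γ → ℂ) g = (χ : G → ℂ) g) → (∀ g : G, (χh' : Γ → ℂ) g = (χ' : G → ℂ) g) → (Cfsg.detOrder (χh : Γ → ℂ)).Coprime (Nat.card S) → (Cfsg.detOrder (χh' : Γ → ℂ)).Coprime (Nat.card S) → ∀ β : Cfsg.IrrCharacter C, ∀ ε ε' : ℤ, (ε = 1 ∨ ε = -1) → (ε' = 1 ∨ ε' = -1) → (∀ c : C, ∀ s : Γ, Subgroup.zpowers s = S → (χh : Γ → ℂ) ((c : Γ) * s) = (ε : ℂ) * (β : C → ℂ) c) → (∀ c : C, ∀ s : Γ, Subgroup.zpowers s = S → (χh' : Γ → ℂ) ((c : Γ) * s) = (ε' : ℂ) * (β : C → ℂ) c) → χ = χ') ∧ (∀ β : Cfsg.IrrCharacter C, ∃ (χ : Cfsg.IrrCharacter G) (χh : Cfsg.IrrCharacter Γ) (ε : ℤ), (∀ s ∈ S, ∀ g g' : G, (g' : Γ)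 = s * g * s⁻¹ → (χ : G → ℂ) g' = (χ : G → ℂ) g) ∧ (∀ g : G, (χh : Γ → ℂ) g = (χ : G → ℂ) g) ∧ (Cfsg.detOrder (χh : Γ → ℂ)).Coprime (Nat.card S) ∧ (ε = 1 ∨ ε = -1) ∧ ∀ c : C, ∀ s : Γ, Subgroup.zpowers s = S → (χh : Γ → ℂ) ((c : Γ) * s) = (ε : ℂ) * (β : C → ℂ) c) := by
  obtain ⟨s, rfl⟩ := (Subgroup.isCyclic_iff_exists_zpowers_eq_top _).1 hcyc
  have hG : G.Normal := normal_of_sup (fun k hk a ha => G.mul_mem (G.mul_mem hk ha) (G.inv_mem hk))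
    hnorm htop
  rw [Nat.card_zpowers] at hcop ⊢
  have h : GlC G s C.subtype := ⟨hG, htop, hcop, C.subtype_injective, by
    rw [Subgroup.range_subtype, hC, centralizer_zpowers']⟩
  have hgen : ∀ {χ : Γ → ℂ}, IsIrrCharacter Γ χ → IsIrrCharacter G (fun g : G => χ g) →
      (detOrder χ).Coprime (orderOf s) → ∀ (c : C) t, Subgroup.zpowers t = Subgroup.zpowers s →
      χ (c * t) = χ (c * s) := by
    intro χ h1 h2 h3 c t ht
    obtain ⟨k, hk, rfl⟩ := exists_coprime_pow_of_zpowers_eq ht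
    exact h.pow_inv h1 h2 h3 hk c
  refine ⟨fun χ χh _ he hd => ?_, fun χ χ' χh χh' _ _ he he' hd hd' β ε ε' hε hε' h1 h2 => ?_,
    fun β => ?_⟩
  · have hG : IsIrrCharacter G (fun g : G => χh.1 g) := by rw [funext he]; exact χ.2
    obtain ⟨β, ε, h1, h2, h3⟩ := h.exists_corr χh.2 hG hd
    refine ⟨⟨⟨⟨β, h1⟩, ε⟩, ⟨h2, fun c t ht => (hgen χh.2 hG hd c t ht).trans (h3 c)⟩, ?_⟩, ?_⟩
    · rintro ⟨β', ε'⟩ ⟨h4, h5⟩
      obtain ⟨h6, h7⟩ := sign_irr_unique β'.2 h1 h4 (ε' := ε) fun c => (h5 c s rfl).symm.trans (h3 c)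
      exact Prod.ext (Subtype.ext h6) h7
    · intro β' ε' h4 h5 h0
      have h6 := (h.isChar_slice χh.2.isChar β'.2.isChar).eq_zero_of_deg (by
        rw [← h0]; congr 1; funext c; rw [← he]; simp)
      have h7 := congrFun h6 ⟨s, Subgroup.mem_zpowers s⟩
      have h8 : (fun c : C => χh.1 (C.subtype c * s)) = (ε' : ℂ) • β'.1 := funext fun c => h5 c s rfl
      simp only [h8, CfsgH3.inner_smul_left, β'.2.inner_self, mul_one, Pi.zero_apply] at h7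
      rcases h4 with rfl | rfl <;> simp at h7
  · have hG : IsIrrCharacter G (fun g : G => χh.1 g) := by rw [funext he]; exact χ.2
    have hG' : IsIrrCharacter G (fun g : G => χh'.1 g) := by rw [funext he']; exact χ'.2
    have := h.corr_inj χh.2.isChar χh'.2.isChar hG hG' β.2 hε hε' (fun c => h1 c s rfl)
      (fun c => h2 c s rfl)
    rw [funext he, funext he'] at this
    exact Subtype.ext this
  · obtain ⟨χ, ε, h1, h2, h3, h4, h5⟩ := h.corr_surj β.2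
    refine ⟨⟨_, h2⟩, ⟨χ, h1⟩, ε, fun t _ g g' e => ?_, fun _ => rfl, h3, h4,
      fun c t ht => (hgen h1 h2 h3 c t ht).trans (h5 c)⟩
    change χ g' = χ g
    rw [e]; exact h1.classFun _ _

end Cfsg.Agent.S4446
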