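import Cfsg.Statements.S4450
import Cfsg.Agent.H4.Glaub4

set_option autoImplicit false
open Cfsg

namespace Cfsg.Agent.S4450

open CfsgH4 CfsgH3

/-- Let N ≤ G be normal subgroups of the finite group Γ with the index of G in Γ coprime to the index of N in G, and Γ/G or G/N solvable. Then for every irreducible character ϑ of N invariant under conjugation by Γ, the induced character ϑ^G has an irreducible constituent invariant under conjugation by Γ. -/
theorem result {Γ : Type*} [Group Γ] [Fintype Γ] (G N : Subgroup Γ) [hG : G.Normal] [hN : N.Normal] [Fintype G] [Fintype N] (hNG : N ≤ G) (hcop : (G.index).Coprime (N.relIndex G)) (hsolv : Group.IsSolvable (Γ ⧸ G) ∨ Group.IsSolvable (G ⧸ N.subgroupOf G)) (θ : Cfsg.IrrCharacter N) (hinv : ∀ (x : Γ) (n : N), (θ : N → ℂ) ⟨x * n * x⁻¹, hN.conj_mem n n.2 x⟩ = (θ : N → ℂ) n) : ∃ χ : Cfsg.IrrCharacter G, Cfsg.classInner (fun n : N => (χ : G → ℂ) ⟨n, hNG n.2⟩) (θ : N → ℂ) ≠ 0 ∧ ∀ (x : Γ) (g : G), (χ : G → ℂ) ⟨x * g * x⁻¹, hG.conj_mem g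 g.2 x⟩ = (χ : G → ℂ) g := by
  have hc1 : Nat.card (G.map (QuotientGroup.mk' N)) = N.relIndex G := by
    conv_rhs => rw [← QuotientGroup.ker_mk' N]
    rw [Subgroup.relIndex_ker]
  have hc2 : (G.map (QuotientGroup.mk' N)).index = G.index := by
    rw [Subgroup.index_map_eq _ (QuotientGroup.mk'_surjective N) (by rwa [QuotientGroup.ker_mk'])]
  obtain ⟨H, hH⟩ := Subgroup.exists_right_complement'_of_coprime
    (N := G.map (QuotientGroup.mk' N)) (by rw [hc1, hc2]; exact hcop.symm)
  set S := H.comap (QuotientGroup.mk' N) with hS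
  have hNS : N ≤ S := by
    intro n hn; rw [hS, Subgroup.mem_comap, QuotientGroup.mk'_apply, (QuotientGroup.eq_one_iff n).2 hn]
    exact one_mem _
  have h3 : N.relIndex S = G.index := by
    conv_lhs => rw [← QuotientGroup.ker_mk' N]
    rw [Subgroup.relIndex_ker, hS, Subgroup.map_comap_eq_self_of_surjective
      (QuotientGroup.mk'_surjective N), ← hc2, hH.symm.index_eq_card]
  have h4 : G ⊔ S = ⊤ := by
    have := congrArg (Subgroup.comap (QuotientGroup.mk' N)) hH.sup_eq_top
    rwa [← Subgroup.comap_sup_eq _ _ _ (QuotientGroup.mk'_surjective N), Subgroup.comap_map_eq,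
      QuotientGroup.ker_mk', sup_eq_left.2 hNG, Subgroup.comap_top] at this
  have hnG : ∀ X : Subgroup Γ, X ≤ Subgroup.normalizer (G : Set Γ) := fun X => by
    rw [Subgroup.normalizer_eq_top]; exact le_top
  have hnN : ∀ X : Subgroup Γ, X ≤ Subgroup.normalizer (N : Set Γ) := fun X => by
    rw [Subgroup.normalizer_eq_top]; exact le_top
  have hi : SInv S θ.1 := sInv_iff_cj.2 fun s _ => funext (hinv s)
  have key : ∃ χ, IsIrrCharacter G χ ∧ SInv S χ ∧ mlt (resLe hNG χ) θ.1 ≠ 0 := by
    rcases hsolv with hs | hs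
    · have : Group.IsSolvable (S ⧸ N.subgroupOf S) := by
        have hk : N.subgroupOf S = ((QuotientGroup.mk' G).comp S.subtype).ker := by
          ext x
          rw [MonoidHom.mem_ker, Subgroup.mem_subgroupOf]
          refine ⟨fun h => (QuotientGroup.eq_one_iff _).2 (hNG h), fun h => ?_⟩
          have h5 : (x : Γ) ∈ G := (QuotientGroup.eq_one_iff _).1 h
          exact (QuotientGroup.eq_one_iff _).1 (Subgroup.disjoint_def.1 hH.disjoint
            (Subgroup.mem_map_of_mem _ h5) x.2)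
        exact Group.isSolvable_of_isSolvable_injective
          (f := QuotientGroup.lift _ ((QuotientGroup.mk' G).comp S.subtype) hk.le)
          ((QuotientGroup.injective_lift_iff _ _ _).2 hk)
      exact exists_sInv_over_of_solv hNG (hnN _) (hnG _) (hnN _) (h3 ▸ hcop.symm) θ.2 hi
    · exact exists_sInv_over_of_solv' hNG (hnN _) (hnG _) (hnN _) (solvMod_of hNG) (h3 ▸ hcop.symm)
        θ.2 hi
  obtain ⟨χ, h5, h6, h7⟩ := key
  refine ⟨⟨χ, h5⟩, mlt_ne_zero h7, fun x g => ?_⟩
  have := (sInv_self h5.classFun le_rfl).sup h6 (hnG _) (hnG _)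
  exact this x (h4 ▸ Subgroup.mem_top x) _ _ rfl

end Cfsg.Agent.S4450
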