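import Cfsg.Statements.S4451
import Cfsg.Agent.H4.Glaub4

set_option autoImplicit false
open Cfsg

namespace Cfsg.Agent.S4451

open CfsgH4 CfsgH3

/-- Let the finite group Γ be generated by a normal subgroup G and a cyclic subgroup S of coprime orders such that every non-identity element of S has the same centraliser C = G ⊓ C(S) in G. Let χ be an S-invariant irreducible character of G, χ̂ its canonical extension to Γ (determinantal order coprime to the order of S), and β the irreducible character of C with χ̂(c s) = ε₀ β(c) for c ∈ C and generators s of S (ε₀ = ±1). Then there are a sign ε = ±1, which may differ from ε₀, and a linear character μ of S with μ² = 1, such that: (a) χ̂(c x) = ε β(c) μ(x) for all c ∈ C and all x ∈ S other than 1; (b) the restriction of χ to C equals |S|·ϑ + ε β for some character ϑ of C or ϑ = 0; (c) |S| divides χ(1) − ε β(1). -/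
theorem result {Γ : Type*} [Group Γ] [Fintype Γ] (G S : Subgroup Γ) [Fintype G] (hnorm : ∀ s ∈ S, ∀ g ∈ G, s * g * s⁻¹ ∈ G) (hcop : (Nat.card G).Coprime (Nat.card S)) (htop : G ⊔ S = ⊤) (hcyc : IsCyclic S) (C : Subgroup Γ) [Fintype C] (hC : C = G ⊓ Subgroup.centralizer (S : Set Γ)) (hCG : C ≤ G) (hfpf : ∀ x ∈ S, x ≠ 1 → G ⊓ Subgroup.centralizer ({x} : Set Γ) = C) (χ : Cfsg.IrrCharacter G) (hinv : (∀ s ∈ S, ∀ g g' : G, (g' : Γ) = s * g * s⁻¹ → (χ : G → ℂ) g' = (χ : G → ℂ) g)) (χh : Cfsg.IrrCharacter Γ) (hext : (∀ g : G, (χh : Γ → ℂ) g = (χ : G → ℂ) g)) (hdet : (Cfsg.detOrder (χh : Γ → ℂ)).Coprime (Nat.card S)) (β : Cfsg.IrrCharacter C) (ε₀ : ℤ) (hε₀ : ε₀ = 1 ∨ ε₀ = -1) (hβ : ∀ c : C, ∀ s : Γ, Subgroup.zpowers s = S → (χh : Γ → ℂ) ((c : Γ) * s) = (ε₀ : ℂ) * (β : C → ℂ) c) : ∃ ε : ℤ, (ε = 1 ∨ ε = -1) ∧ (∃ μ : S → ℂ, Cfsg.IsCharacter S μ ∧ μ 1 = 1 ∧ (∀ x : S, μ x * μ x = 1) ∧ ∀ c : C, ∀ x : S, x ≠ 1 → (χh : Γ → ℂ) ((c : Γ) * x) = (ε : ℂ) * (β :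 C → ℂ) c * μ x) ∧ (∃ ϑ : C → ℂ, Cfsg.IsCharacter C ϑ ∧ (fun c : C => (χ : G → ℂ) ⟨c, hCG c.2⟩) = fun c => (Nat.card S : ℂ) * ϑ c + (ε : ℂ) * (β : C → ℂ) c) ∧ (Nat.card S : ℤ) ∣ (Cfsg.charDegree (χ : G → ℂ) : ℤ) - ε * (Cfsg.charDegree (β : C → ℂ) : ℤ) := by
  obtain ⟨s, rfl⟩ := (Subgroup.isCyclic_iff_exists_zpowers_eq_top _).1 hcyc
  have hG : G.Normal := normal_of_sup (fun k hk a ha => G.mul_mem (G.mul_mem hk ha) (G.inv_mem hk))
    hnorm htop
  have hχG : IsIrrCharacter G (fun g : G => χh.1 g) := by rw [funext hext]; exact χ.2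
  have hβs := fun c => hβ c s rfl
  by_cases hs : s = 1
  · subst hs
    refine ⟨ε₀, hε₀, ⟨fun _ => 1, isChar_one, rfl, fun _ => mul_one _, fun c x hx => ?_⟩,
      ⟨0, isChar_zero, funext fun c => ?_⟩, by simp⟩
    · exact absurd (Subtype.ext (by simpa using x.2)) hx
    · rw [← hβs, ← hext]; simp
  have := Fintype.ofFinite (Subgroup.zpowers s)
  have h : GlC G s C.subtype := ⟨hG, htop, by rwa [Nat.card_zpowers] at hcop, C.subtype_injective, by
    rw [Subgroup.range_subtype, hC, centralizer_zpowers']⟩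
  set ψ : (C → ℂ) → Subgroup.zpowers s → ℂ :=
    fun γ t => classInner (fun c : C => χh.1 (c * t)) γ with hψ
  have hψc : ∀ γ, IsIrrCharacter C γ → IsCharacter _ (ψ γ) := fun γ hγ =>
    h.isChar_slice χh.2.isChar hγ.isChar
  have hcorr : ∀ x : Subgroup.zpowers s, x ≠ 1 → ∃ (β : C → ℂ) (ε : ℤ), IsIrrCharacter C β ∧
      (ε = 1 ∨ ε = -1) ∧ ∀ c : C, χh.1 (c * x) = ε * β c := by
    intro x hx
    have h1 : orderOf (x : Γ) ∣ Nat.card (Subgroup.zpowers s) := by
      rw [Subgroup.orderOf_coe]; exact orderOf_dvd_natCard x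
    exact exists_corr_sub (Nat.Coprime.coprime_dvd_right h1 hcop)
      (hfpf x x.2 (fun e => hx (Subtype.ext e))) χh.2.isChar hχG (Nat.Coprime.coprime_dvd_right h1 hdet)
  choose! B E hB hE hBE using hcorr
  have hv1 : ∀ x, x ≠ 1 → ψ (B x) x = E x := by
    intro x hx
    have : (fun c : C => χh.1 (c * x)) = (E x : ℂ) • B x := funext (hBE x hx)
    simp only [hψ, this, CfsgH3.inner_smul_left, (hB x hx).inner_self, mul_one]
  have hv0 : ∀ x, x ≠ 1 → ∀ γ, IsIrrCharacter C γ → γ ≠ B x → ψ γ x = (0 : ℤ) := by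
    intro x hx γ hγ hne
    have : (fun c : C => χh.1 (c * x)) = (E x : ℂ) • B x := funext (hBE x hx)
    simp only [hψ, this, CfsgH3.inner_smul_left, (hB x hx).inner_of_ne hγ hne.symm, mul_zero,
      Int.cast_zero]
  have hpm : ∀ {q : ℕ}, q.Prime → ∀ {e : ℤ}, (e = 1 ∨ e = -1) → ¬ (q : ℤ) ∣ e := by
    intro q hq e he h
    have : (q : ℤ) ∣ 1 := by
      rcases he with rfl | rfl
      exacts [h, (dvd_neg.1 h)]
    exact hq.one_lt.ne' (Nat.dvd_one.1 (by exact_mod_cast this))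
  have hind : ∀ n, ∀ x : Subgroup.zpowers s, orderOf x = n → x ≠ 1 → ∀ q : ℕ, q.Prime →
      q ∣ orderOf x → ¬ (q : ℤ) ∣ charDegree (ψ (B x)) := by
    intro n
    induction n using Nat.strong_induction_on with
    | _ n ih =>
    intro x hn hx q hq hd
    by_cases hpp : ∃ k, orderOf x = q ^ k
    · have := int_dvd_sub_of_ppart hq (hψc _ (hB x hx)) (Commute.one_right x) hpp (a := E x)
        (b := charDegree (ψ (B x))) (by rw [mul_one, hv1 x hx])
        (by rw [Int.cast_natCast, coe_charDegree (hψc _ (hB x hx))])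
      intro h2
      exact hpm hq (hE x hx) (by simpa using dvd_add this h2)
    · obtain ⟨p, hp, hpd, hpq⟩ : ∃ p : ℕ, p.Prime ∧ p ∣ orderOf x ∧ p ≠ q := by
        by_contra! h3
        exact hpp ⟨_, Nat.eq_prime_pow_of_unique_prime_dvd (orderOf_pos x).ne' (fun a b => h3 _ a b)⟩
      have := Fact.mk hp
      obtain ⟨u, y, e, hc, hu, hy⟩ := exists_isPPart p x
      obtain ⟨k, hk⟩ := hu
      have ho : orderOf x = p ^ k * orderOf y := by
        rw [← e, hc.orderOf_mul_eq_mul_orderOf_of_coprime, hk]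
        rw [hk]; exact Nat.Coprime.pow_left _ ((Nat.Prime.coprime_iff_not_dvd hp).2 hy)
      have hqy : q ∣ orderOf y := by
        rw [ho] at hd
        exact (Nat.Coprime.dvd_of_dvd_mul_left (Nat.Coprime.pow_right _
          ((Nat.coprime_primes hq hp).2 hpq.symm)) hd)
      have hy1 : y ≠ 1 := by
        rintro rfl; exact hq.one_lt.ne' (by simpa using hqy)
      have hlt : orderOf y < n := by
        rw [← hn, ho]
        rcases k with _ | k
        · exact absurd (by simpa [ho] using hpd) hy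
        · exact lt_mul_of_one_lt_left (orderOf_pos y) (Nat.one_lt_pow (by omega) hp.one_lt)
      have hBy : B x = B y := by
        by_contra hne
        have := int_dvd_sub_of_ppart hp (hψc _ (hB x hx)) hc ⟨k, hk⟩ (a := E x) (b := 0)
          (by rw [e, hv1 x hx]) (hv0 y hy1 _ (hB x hx) hne)
        exact hpm hp (hE x hx) (by simpa using this)
      rw [hBy]
      exact ih _ hlt y rfl hy1 q hq hqy
  set s' : Subgroup.zpowers s := ⟨s, Subgroup.mem_zpowers s⟩ with hs'
  have hs1 : s' ≠ 1 := fun e => hs (congrArg Subtype.val e)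
  have hBs : B s' = β.1 :=
    (sign_irr_unique (hB s' hs1) β.2 (hE s' hs1) fun c => (hBE s' hs1 c).symm.trans (hβs c)).1
  have hBx : ∀ x, x ≠ 1 → B x = β.1 := by
    intro x hx
    obtain ⟨q, hq, hqx⟩ := Nat.exists_prime_and_dvd (mt orderOf_eq_one_iff.1 hx)
    have := Fact.mk hq
    obtain ⟨y, hy⟩ := exists_prime_orderOf_dvd_card' q (hqx.trans (orderOf_dvd_natCard x))
    have hy1 : y ≠ 1 := by rintro rfl; exact hq.one_lt.ne (by simpa using hy)
    have key : ∀ γ, IsIrrCharacter C γ → ¬ (q : ℤ) ∣ charDegree (ψ γ) → γ = B y := by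
      intro γ hγ h2
      by_contra hne
      have := int_dvd_sub_of_ppart hq (hψc _ hγ) (Commute.one_right y) ⟨1, by simpa using hy⟩
        (a := 0) (b := charDegree (ψ γ)) (by rw [mul_one, hv0 y hy1 _ hγ hne])
        (by rw [Int.cast_natCast, coe_charDegree (hψc _ hγ)])
      exact h2 (by simpa using this)
    have hqs : q ∣ orderOf s' := by
      rw [hs', Subgroup.orderOf_mk, ← Nat.card_zpowers]; exact hqx.trans (orderOf_dvd_natCard x)
    rw [key _ (hB x hx) (hind _ x rfl hx q hq hqx), ← hBs,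
      key _ (hB s' hs1) (hind _ s' rfl hs1 q hq hqs)]
  have h2 : 2 ≤ Nat.card (Subgroup.zpowers s) := by
    have : Nontrivial (Subgroup.zpowers s) := ⟨s', 1, hs1⟩
    exact Finite.one_lt_card
  obtain ⟨m, ε, μ, hε, hm, hμ⟩ := exists_of_unit_values (fun a b => mul_comm' a b) h2
    (hψc _ β.2).isGen (fun x hx => by
      rw [← hBx x hx, hv1 x hx]; rcases hE x hx with e | e <;> simp [e])
  have hEx : ∀ x, x ≠ 1 → (E x : ℂ) = ε * μ x := fun x hx => by
    rw [← hμ x hx, ← hv1 x hx, hBx x hx]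
  have hS0 : (Nat.card (Subgroup.zpowers s) : ℂ) ≠ 0 := card_ne_zero_complex _
  have hψ1 : ∀ γ, ψ γ 1 = classInner (resLe hCG χ.1) γ := by
    intro γ; simp only [hψ]; congr 1; funext c; rw [resLe_apply, ← hext]; simp
  have hϑ : IsCharacter C ((Nat.card (Subgroup.zpowers s) : ℂ)⁻¹ •
      (resLe hCG χ.1 - (ε : ℂ) • β.1)) := by
    refine isChar_of_inner_nat (isClassFunction_smul _ (isClassFunction_sub
      (χ.2.classFun.resLe hCG) (isClassFunction_smul _ β.2.classFun))) fun γ hγ => ?_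
    rw [CfsgH3.inner_smul_left, CfsgH3.inner_sub_left, CfsgH3.inner_smul_left, ← hψ1]
    by_cases e : γ = β.1
    · rw [e, β.2.inner_self, hm]
      obtain ⟨d, hd⟩ := (hψc _ β.2).exists_deg
      have h3 : (d : ℤ) = m * Nat.card (Subgroup.zpowers s) + ε := by
        have := hd.symm.trans hm; exact_mod_cast this
      have h4 : 0 ≤ m := by
        by_contra! h5
        have : m * Nat.card (Subgroup.zpowers s) ≤ -1 * 2 := by nlinarith
        rcases hε with rfl | rfl <;> omega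
      refine ⟨m.toNat, ?_⟩
      rw [← Int.cast_natCast m.toNat, Int.toNat_of_nonneg h4]
      field_simp; ring
    · rw [β.2.inner_of_ne hγ (Ne.symm e), mul_zero, sub_zero]
      obtain ⟨n, hn⟩ := (hψc _ hγ).inner_nat isChar_one
      refine ⟨n, ?_⟩
      rw [← hn, inner_one_right, Finset.sum_eq_single 1 (fun x _ hx => by
        rw [hv0 x hx γ hγ (hBx x hx ▸ e)]; simp) (by simp)]
  have heq : (fun c : C => χ.1 ⟨c, hCG c.2⟩) = fun c => (Nat.card (Subgroup.zpowers s) : ℂ) *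
      ((Nat.card (Subgroup.zpowers s) : ℂ)⁻¹ • (resLe hCG χ.1 - (ε : ℂ) • β.1)) c + ε * β.1 c := by
    funext c
    simp only [Pi.smul_apply, Pi.sub_apply, smul_eq_mul, resLe_apply]
    field_simp; ring
  refine ⟨ε, hε, ⟨fun x => μ x, (isIrr_unitsHom μ).isChar, by simp, fun x => ?_, fun c x hx => ?_⟩,
    ⟨_, hϑ, heq⟩, ?_⟩
  · by_cases hx : x = 1
    · simp [hx]
    · have h3 := hEx x hx
      have h4 : (ε : ℂ) * ε = 1 := by rcases hε with e | e <;> simp [e]
      have h5 : (E x : ℂ) * E x = 1 := by rcases hE x hx with e | e <;> simp [e]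
      rw [h3] at h5
      linear_combination h5 - (μ x : ℂ) * μ x * h4
  · rw [hBE x hx, hEx x hx, hBx x hx]; ring
  · obtain ⟨d, hd⟩ := hϑ.exists_deg
    have h3 := congrFun heq 1
    rw [hd] at h3
    refine ⟨d, ?_⟩
    have h4 : ((charDegree χ.1 : ℂ)) - ε * charDegree β.1 = Nat.card (Subgroup.zpowers s) * d := by
      rw [coe_charDegree χ.2.isChar, coe_charDegree β.2.isChar]
      change χ.1 1 = _ at h3
      rw [h3]; ring
    exact_mod_cast h4

end Cfsg.Agent.S4451
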