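import Cfsg.Statements.S4452
import Cfsg.Agent.H4.Glaub4

set_option autoImplicit false
open Cfsg

namespace Cfsg.Agent.S4452

open CfsgH4 CfsgH3

/-- Let the finite group G be the product of a normal subgroup K and a solvable subgroup H of coprime orders, and let N = N_G(H). Then the number of irreducible characters of G of degree coprime to the order of H equals the number of irreducible characters of N of degree coprime to the order of H. (The two sets are in fact in a canonical bijection; only the equality of their sizes is stated here.) -/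
theorem result {G : Type*} [Group G] [Finite G] (K H : Subgroup G) [K.Normal] (hKH : K ⊔ H = ⊤) (hcop : (Nat.card K).Coprime (Nat.card H)) (hsolv : Group.IsSolvable H) : Nat.card {χ : Cfsg.IrrCharacter G // (Cfsg.charDegree (χ : G → ℂ)).Coprime (Nat.card H)} = Nat.card {η : Cfsg.IrrCharacter (Subgroup.normalizer (H : Set G)) // (Cfsg.charDegree (η : Subgroup.normalizer (H : Set G) → ℂ)).Coprime (Nat.card H)} := by
  have hn : H ≤ Subgroup.normalizer (K : Set G) := by rw [Subgroup.normalizer_eq_top]; exact le_top
  rw [card_coprime_deg' hKH hcop, card_sInv_eq hn hcop]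
  set N := Subgroup.normalizer (H : Set G) with hN
  set C := K ⊓ Subgroup.centralizer (H : Set G) with hC
  have hHN : H ≤ N := Subgroup.le_normalizer
  have hCN : C ≤ N := inf_le_right.trans (Subgroup.centralizer_le_normalizer _)
  have hd := Subgroup.disjoint_of_coprime_natCard hcop
  have hKN : ∀ k ∈ K, k ∈ N → k ∈ C := by
    intro k hk hkN
    refine ⟨hk, fun h hh => ?_⟩
    have h1 : k * h * k⁻¹ * h⁻¹ ∈ H := mul_mem (CfsgH2.conj_mem_of_mem_normalizer hkN hh) (inv_mem hh)
    have h2 : k * h * k⁻¹ * h⁻¹ ∈ K := by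
      have := mul_mem hk ((inferInstance : K.Normal).conj_mem _ (inv_mem hk) h)
      simpa [mul_assoc] using this
    have h3 := Subgroup.disjoint_def.1 hd h2 h1
    rw [mul_inv_eq_one, mul_inv_eq_iff_eq_mul] at h3
    exact h3.symm
  have hC' : C.subgroupOf N = K.subgroupOf N := by
    ext x; simp only [Subgroup.mem_subgroupOf]; exact ⟨fun h => h.1, fun h => hKN _ h x.2⟩
  have hnorm : (C.subgroupOf N).Normal := by rw [hC']; infer_instance
  have hsup : C.subgroupOf N ⊔ H.subgroupOf N = ⊤ := by
    rw [eq_top_iff]; intro x _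
    obtain ⟨k, hk, h, hh, e⟩ := Subgroup.mem_sup_of_normal_left.1 (hKH ▸ Subgroup.mem_top (x : G))
    have hkN : k ∈ N := by
      rw [show k = x * h⁻¹ by rw [← e]; simp]; exact mul_mem x.2 (inv_mem (hHN hh))
    have : x = ⟨k, hkN⟩ * ⟨h, hHN hh⟩ := Subtype.ext e.symm
    rw [this]
    exact Subgroup.mul_mem_sup (hKN k hk hkN) hh
  have e1 := Subgroup.subgroupOfEquivOfLe hHN
  have e2 := Subgroup.subgroupOfEquivOfLe hCN
  have h4 := card_coprime_deg' hsup (by
    rw [Nat.card_congr e1.toEquiv, Nat.card_congr e2.toEquiv]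
    exact Nat.Coprime.coprime_dvd_left (Subgroup.card_dvd_of_le inf_le_left) hcop)
  rw [Nat.card_congr e1.toEquiv, card_lin_congr e1] at h4
  rw [h4]
  congr 1
  symm
  rw [Nat.card_congr (Equiv.subtypeUnivEquiv fun θ => ?_), Nat.card_congr (irrEquiv e2)]
  refine sInv_cent _ fun h hh => ?_
  rw [Subgroup.mem_centralizer_iff]
  intro c hc
  exact Subtype.ext (hc.2 h hh).symm

end Cfsg.Agent.S4452
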