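import Cfsg.Statements.S4454
import Cfsg.Agent.H4.Glaub4

set_option autoImplicit false
open Cfsg

namespace Cfsg.Agent.S4454

open CfsgH4 CfsgH3

/-- Let N ≤ G be normal subgroups of the finite group Γ with Γ/G cyclic and Γ/N a Frobenius group with kernel G/N: G ≠ Γ, N ≠ G, and no element of Γ outside G fixes a non-identity coset of N in G under conjugation. Let ϑ be an irreducible character of N invariant under conjugation by Γ and suppose ϑ is fully ramified in G: the character of G induced from ϑ equals e·χ for an irreducible character χ of G and a natural number e. Then the index of G in Γ divides e − 1 or e + 1. -/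
theorem result {Γ : Type*} [Group Γ] [Fintype Γ] (G N : Subgroup Γ) [hG : G.Normal] [hN : N.Normal] [Fintype G] [Fintype N] (hNG : N ≤ G) (hGlt : G ≠ ⊤) (hNlt : N ≠ G) (hcyc : IsCyclic (Γ ⧸ G)) (hfrob : ∀ x : Γ, x ∉ G → ∀ g : Γ, g ∈ G → x * g * x⁻¹ * g⁻¹ ∈ N → g ∈ N) (θ : Cfsg.IrrCharacter N) (hinv : ∀ (x : Γ) (n : N), (θ : N → ℂ) ⟨x * n * x⁻¹, hN.conj_mem n n.2 x⟩ = (θ : N → ℂ) n) (χ : Cfsg.IrrCharacter G) (e : ℕ) (hram : Cfsg.indFun (N.subgroupOf G) (fun n : N.subgroupOf G => (θ : N → ℂ) ⟨(n : G), n.2⟩) = fun g => (e : ℂ) * (χ : G → ℂ) g) : (G.index : ℤ) ∣ (e : ℤ) - 1 ∨ (G.index : ℤ) ∣ (e : ℤ) + 1 := by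
  set T := indFun (N.subgroupOf G) (toSubOf G θ.1) with hT
  have hram' : T = fun g => (e : ℂ) * χ.1 g := hram
  have hinv' : ∀ x : Γ, CfsgH3.cj x θ.1 = θ.1 := fun x => funext (hinv x)
  have hTN : ∀ n : N, T ⟨n, hNG n.2⟩ = (N.subgroupOf G).index * θ.1 n := by
    intro n
    have := congrFun (res_indFun_of_invariant (N := N.subgroupOf G) (θ := toSubOf G θ.1)
      (fun g => by rw [cj_toSubOf, hinv'])) ⟨⟨n, hNG n.2⟩, n.2⟩
    exact this
  have hi0 : ((N.subgroupOf G).index : ℂ) ≠ 0 := by exact_mod_cast Subgroup.index_ne_zero_of_finite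
  have he0 : (e : ℂ) ≠ 0 := by
    intro h0
    have := hTN 1
    rw [hram'] at this
    simp only [h0, zero_mul] at this
    exact mul_ne_zero hi0 θ.2.one_ne_zero this.symm
  have hχinv : ∀ x : Γ, CfsgH3.cj x χ.1 = χ.1 := by
    intro x; funext g
    apply mul_left_cancel₀ he0
    change (fun g => (e : ℂ) * χ.1 g) _ = (fun g => (e : ℂ) * χ.1 g) _
    rw [← hram']
    by_cases hg : (g : Γ) ∈ N
    · exact ((hTN ⟨_, hN.conj_mem _ hg x⟩).trans (by rw [hinv x ⟨g, hg⟩])).trans (hTN ⟨g, hg⟩).symm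
    · rw [hT, indFun_of_not_mem_normal _ _ (show g ∉ N.subgroupOf G from hg),
        indFun_of_not_mem_normal]
      intro h; exact hg (by simpa [mul_assoc] using hN.conj_mem' _ h x)
  have hχN : resLe hNG χ.1 = (e : ℂ) • θ.1 := by
    have h1 : resLe hNG χ.1 = (((N.subgroupOf G).index : ℂ) / e) • θ.1 := by
      funext n
      have := hTN n
      rw [hram'] at this
      simp only [Pi.smul_apply, smul_eq_mul, resLe_apply]
      field_simp; rw [mul_comm]; exact this
    have h2 := ip_ind_toSubOf hNG θ.1 χ.2.classFun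
    rw [← hT, show T = (e : ℂ) • χ.1 from hram', CfsgH3.inner_smul_left, χ.2.inner_self,
      θ.2.isChar.inner_comm (χ.2.isChar.resLe hNG), h1, CfsgH3.inner_smul_left, θ.2.inner_self] at h2
    rw [h1, ← mul_one (_ / _ : ℂ), ← h2, mul_one]
  obtain ⟨χh, hχh, hext⟩ := ext_of_cyclic χ.2 hχinv hcyc
  have hχG : IsIrrCharacter G (fun g : G => χh g) := by rw [funext hext]; exact χ.2
  obtain ⟨q, hq⟩ := hcyc.exists_generator
  obtain ⟨x, rfl⟩ := QuotientGroup.mk_surjective q
  have hsup : G ⊔ Subgroup.zpowers x = ⊤ := by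
    rw [eq_top_iff]; intro y _
    obtain ⟨k, hk⟩ := hq (y : Γ ⧸ G)
    have h1 : (x ^ k)⁻¹ * y ∈ G := QuotientGroup.eq.1 (by rw [QuotientGroup.mk_zpow]; exact hk)
    have : y = x ^ k * ((x ^ k)⁻¹ * y) := by group
    rw [this]
    exact mul_mem (Subgroup.mem_sup_right (Subgroup.zpow_mem_zpowers x k)) (Subgroup.mem_sup_left h1)
  have hxG : x ∉ G := fun h => hGlt (by
    rw [← hsup, left_eq_sup, Subgroup.zpowers_le]; exact h)
  set H := N ⊔ Subgroup.zpowers x with hH
  have hNH : N ≤ H := le_sup_left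
  have hHG : ∀ h ∈ H, h ∈ G → h ∈ N := by
    intro h hh hg
    obtain ⟨n, hn, t, ⟨k, rfl⟩, rfl⟩ := Subgroup.mem_sup_of_normal_left.1 hh
    have h1 : x ^ k ∈ G := by simpa using mul_mem (inv_mem (hNG hn)) hg
    exact mul_mem hn (hfrob x hxG _ h1 (by
      rw [show x * x ^ k * x⁻¹ * (x ^ k)⁻¹ = 1 by group]; exact one_mem _))
  have hidx : (N.subgroupOf H).index = G.index := by
    have : N.subgroupOf H = G.subgroupOf H := by
      ext h; exact ⟨fun a => hNG a, fun a => hHG _ h.2 a⟩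
    rw [this, ← Subgroup.relIndex, hH, ← Subgroup.relIndex_sup_left, ← sup_assoc, sup_eq_left.2 hNG,
      hsup, Subgroup.relIndex_top_right]
  have hcH : IsCyclic (H ⧸ N.subgroupOf H) := isCyclic_quot_of_sup (sub_sup_zp N x)
  obtain ⟨θh, hθh, hθe⟩ := ext_of_cyclic (θ.2.toSubOf hNH) (fun g => by rw [cj_toSubOf, hinv']) hcH
  have hθN : IsIrrCharacter _ (fun n : N.subgroupOf H => θh n) := by
    rw [funext hθe]; exact θ.2.toSubOf hNH
  obtain ⟨β, hβ, hfac⟩ := exists_factor_homog hθh.isChar hθN (hχh.isChar.restrict H) ⟨e, by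
    funext n
    rw [Pi.smul_apply, hθe]
    exact (hext ⟨n, hNG n.2⟩).trans (congrFun hχN ⟨n, n.2⟩)⟩
  have hβ1 : β 1 = e := by
    have h1 := congrFun hfac 1
    have h2 := (hext 1).trans (congrFun hχN 1)
    have h3 : θh 1 = θ.1 1 := hθe 1
    simp only [OneMemClass.coe_one, QuotientGroup.mk_one, Pi.smul_apply, smul_eq_mul] at h1 h2
    rw [h2, h3] at h1
    exact (mul_right_cancel₀ θ.2.one_ne_zero h1).symm
  have := Fintype.ofFinite (H ⧸ N.subgroupOf H)
  have := Fintype.ofFinite (N.subgroupOf H)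
  have hcard : Nat.card (H ⧸ N.subgroupOf H) = G.index := hidx
  obtain ⟨m, ε, μ, hε, hm, -⟩ := exists_of_unit_values (Q := H ⧸ N.subgroupOf H)
    (fun a b => mul_comm' a b) (by
      rw [hcard]
      have h1 : G.index ≠ 0 := Subgroup.index_ne_zero_of_finite
      have h2 : G.index ≠ 1 := fun h => hGlt (Subgroup.index_eq_one.1 h)
      omega) hβ.isGen (by
      intro y hy
      obtain ⟨h, rfl⟩ := QuotientGroup.mk_surjective y
      have hhG : (h : Γ) ∉ G := fun a => hy ((QuotientGroup.eq_one_iff _).2 (hHG _ h.2 a))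
      have hrel : RelC G N h := by
        refine ⟨hNG, by rw [Subgroup.normalizer_eq_top]; trivial,
          by rw [Subgroup.normalizer_eq_top]; trivial, fun k hk => ?_, fun g hg c hc c' hc' e => ?_⟩
        · obtain ⟨y, ⟨z, hz, rfl⟩, hy⟩ := exists_conj_of_fpf (K := G.map (QuotientGroup.mk' N))
            (h := ((h : Γ) : Γ ⧸ N)) (by
              rintro _ ⟨k, hk, rfl⟩ e
              refine (QuotientGroup.eq_one_iff _).2 (hfrob h hhG k hk ((QuotientGroup.eq_one_iff _).1 ?_))
              simp only [QuotientGroup.mk_mul, QuotientGroup.mk_inv]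
              rw [show ((k : Γ) : Γ ⧸ N) = QuotientGroup.mk' N k from rfl, e]; group)
            (Subgroup.mem_map_of_mem _ hk)
          refine ⟨z⁻¹, inv_mem hz, z⁻¹ * (k * h) * z⁻¹⁻¹ * (h : Γ)⁻¹, ?_, by group⟩
          rw [← QuotientGroup.eq_one_iff]
          simp only [QuotientGroup.mk_mul, QuotientGroup.mk_inv, QuotientGroup.mk'_apply] at hy ⊢
          rw [hy]; group
        · refine hfrob h hhG g hg ((QuotientGroup.eq_one_iff _).1 ?_)
          have := congrArg (QuotientGroup.mk (s := N)) e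
          simp only [QuotientGroup.mk_mul, QuotientGroup.mk_inv, (QuotientGroup.eq_one_iff _).2 hc,
            (QuotientGroup.eq_one_iff _).2 hc', one_mul] at this ⊢
          rw [mul_inv_eq_iff_eq_mul] at this
          rw [← this]; group
      have h1 := hrel.sum_coset (F := fun y => χh y * (starRingEnd ℂ) (χh y))
        (fun x _ k _ => by rw [hχh.classFun])
      rw [sum_coset_mul_conj_self hχh.isChar hχG, mul_comm] at h1
      have h2 := mul_left_cancel₀ (card_ne_zero_complex G) h1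
      have h3 := sum_coset_mul_conj_self hθh.isChar hθN h
      have h4 : ∑ c : N, χh (c * h) * (starRingEnd ℂ) (χh (c * h)) =
          β h * (starRingEnd ℂ) (β h) * ∑ n : N.subgroupOf H, θh (n * h) * (starRingEnd ℂ) (θh (n * h)) := by
        rw [Finset.mul_sum, ← (Subgroup.subgroupOfEquivOfLe hNH).toEquiv.sum_comp]
        refine Finset.sum_congr rfl fun n _ => ?_
        have h5 := congrFun hfac (n * h)
        rw [QuotientGroup.mk_mul, (QuotientGroup.eq_one_iff _).2 n.2, one_mul] at h5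
        change χh (n * h : H) * (starRingEnd ℂ) (χh (n * h : H)) = _
        rw [h5, map_mul]; ring
      rw [h4, h3, Nat.card_congr (Subgroup.subgroupOfEquivOfLe hNH).toEquiv] at h2
      have h6 : β h * (starRingEnd ℂ) (β h) = 1 :=
        (mul_right_cancel₀ (card_ne_zero_complex N) (by rw [one_mul]; exact h2)).symm
      rw [Complex.mul_conj, Complex.normSq_eq_norm_sq] at h6
      have h7 : ‖β h‖ ^ 2 = 1 := by exact_mod_cast h6
      exact (pow_eq_one_iff_of_nonneg (norm_nonneg _) two_ne_zero).1 h7)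
  rw [hβ1, hcard] at hm
  have h8 : (e : ℤ) = m * G.index + ε := by exact_mod_cast hm
  rcases hε with rfl | rfl
  · exact Or.inl ⟨m, by rw [h8]; ring⟩
  · exact Or.inr ⟨m, by rw [h8]; ring⟩

end Cfsg.Agent.S4454
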