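import Cfsg.Statements.S4455
import Cfsg.Agent.H4.Ord4

set_option autoImplicit false
open Cfsg

namespace Cfsg.Agent.S4455

open CfsgH4 CfsgH3

/-- Fix a prime p and a finite group G. Let s be the sum of χ(1)² over the irreducible characters χ of G whose degree is not divisible by p and whose determinantal order o(χ) is not divisible by p. Then the order of O^p(G), the subgroup generated by the elements of order prime to p, is congruent to s modulo p. -/
theorem result {G : Type*} [Group G] [Finite G] (p : ℕ) (hp : p.Prime) : (Nat.card (Cfsg.pResidual p G) : ℤ) ≡ (∑ᶠ χ ∈ {χ : Cfsg.IrrCharacter G | ¬ p ∣ Cfsg.charDegree (χ : G → ℂ) ∧ ¬ p ∣ Cfsg.detOrder (χ : G → ℂ)}, (Cfsg.charDegree (χ : G → ℂ) : ℤ) ^ 2) [ZMOD p] := by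
  classical
  have := Fact.mk hp
  obtain ⟨k, hk⟩ := CfsgH2.index_pResidual p G
  have hK := CfsgH2.pResidual_normal p G
  have hmin : ∀ L : Subgroup G, L.Normal → L ≤ pResidual p G →
      (∃ k, L.relIndex (pResidual p G) = p ^ k) → L = pResidual p G := by
    rintro L hL hLK ⟨j, hj⟩
    exact le_antisymm hLK (CfsgH2.pResidual_le_of_index (k := j + k)
      (by rw [← Subgroup.relIndex_mul_index hLK, hj, hk, pow_add]))
  generalize pResidual p G = K at *
  have cop : ∀ n, ¬ p ∣ n → K.index.Coprime n := fun n hn => by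
    rw [hk]; exact Nat.Coprime.pow_left _ ((Nat.Prime.coprime_iff_not_dvd hp).2 hn)
  let P : IrrCharacter K → Prop := fun θ => (∀ g : G, CfsgH3.cj g θ.1 = θ.1) ∧ ¬ p ∣ charDegree θ.1
  have h1 : (p : ℤ) ∣ ∑ θ : IrrCharacter K, if P θ then 0 else (charDegree θ.1 : ℤ) ^ 2 := by
    by_contra hs
    obtain ⟨θ, a, b⟩ := exists_inv_irr_of_not_dvd hp hk _ (fun g θ => by
      by_cases e : CfsgH3.cj g θ.1 = θ.1
      · rw [show (⟨CfsgH3.cj g θ.1, θ.2.cj g⟩ : IrrCharacter K) = θ from Subtype.ext e]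
      · rw [if_neg (fun h => e (by
          have : CfsgH3.cj g⁻¹ (CfsgH3.cj g θ.1) = CfsgH3.cj g θ.1 := h.1 g⁻¹
          rw [← this, cj_inv_cj])), if_neg (fun h => e (h.1 g))]
        simp only [charDegree, cj_apply_one]) hs
    apply b
    split_ifs with h
    · exact dvd_zero _
    · exact dvd_pow (Int.natCast_dvd_natCast.2 (by_contra fun h' => h ⟨a, h'⟩)) two_ne_zero
  have h2 : (Nat.card K : ℤ) = (∑ θ : IrrCharacter K, if P θ then 0 else (charDegree θ.1 : ℤ) ^ 2) +
      ∑ θ with P θ, (charDegree θ.1 : ℤ) ^ 2 := by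
    rw [Finset.sum_filter, ← Finset.sum_add_distrib, ← sum_charDegree_sq (G := K)]
    push_cast
    exact Finset.sum_congr rfl fun θ _ => by split_ifs <;> simp
  rw [finsum_mem_eq_finite_toFinset_sum _ (Set.toFinite _), h2]
  have res : ∀ χ : IrrCharacter G, ¬ p ∣ charDegree χ.1 → IsIrrCharacter K fun n : K => χ.1 n :=
    fun χ h => irr_res_of_coprime_deg χ.2 (cop _ h).symm
  rw [Finset.sum_bij (t := Finset.univ.filter P) (g := fun θ => (charDegree θ.1 : ℤ) ^ 2)
    (fun χ h => ⟨fun n : K => χ.1 n, res χ ((Set.Finite.mem_toFinset _).1 h).1⟩)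
    (fun χ h => Finset.mem_filter.2 ⟨Finset.mem_univ _, cj_res χ.2.classFun,
      ((Set.Finite.mem_toFinset _).1 h).1⟩) ?_ ?_ (fun _ _ => rfl)]
  · exact (Int.modEq_iff_dvd.2 (by simpa using h1)).symm
  · intro χ h ψ h' e
    obtain ⟨a, b⟩ := (Set.Finite.mem_toFinset _).1 h
    obtain ⟨c, d⟩ := (Set.Finite.mem_toFinset _).1 h'
    obtain ⟨η, -, u⟩ := ext_coprime (res χ a) (cj_res χ.2.classFun) (coe_charDegree χ.2.isChar).symm
      (cop _ fun h => ((Nat.Prime.dvd_mul hp).1 h).elim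
        (fun h => b (h.trans (detOrder_comp_dvd χ.2.isChar K.subtype))) a)
    exact Subtype.ext ((u _ χ.2 (fun _ => rfl) (cop _ b)).trans
      (u _ ψ.2 (fun n => (congrFun (congrArg Subtype.val e) n).symm) (cop _ d)).symm)
  · intro θ h
    obtain ⟨a, b⟩ := (Finset.mem_filter.1 h).2
    obtain ⟨δ, hδ⟩ := exists_detHom θ.2.isChar
    have c : ¬ p ∣ detOrder θ.1 := by
      rw [detOrder_eq hδ]; exact not_dvd_orderOf_of_residual hp hmin (linInv_det θ.2.isChar a hδ)
    obtain ⟨η, ⟨u, v, w⟩, -⟩ := ext_coprime θ.2 a (coe_charDegree θ.2.isChar).symm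
      (cop _ fun h => ((Nat.Prime.dvd_mul hp).1 h).elim c b)
    refine ⟨⟨η, u⟩, (Set.Finite.mem_toFinset _).2 ⟨?_, by rwa [← w] at c⟩, Subtype.ext (funext v)⟩
    rwa [charDegree_eq ((v 1).trans (coe_charDegree θ.2.isChar).symm)]

end Cfsg.Agent.S4455
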