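import Cfsg.Statements.S4459
import Cfsg.Agent.H4.Deg3

set_option autoImplicit false
open Cfsg

namespace Cfsg.Agent.S4459

open CfsgH4 CfsgH3 CfsgH2 MonoidAlgebra

open Subgroup in
theorem deg_sq_le {G : Type*} [Group G] [Finite G] {χ : G → ℂ} (hχ : IsIrrCharacter G χ) :
    charDegree χ ^ 2 ≤ (center G).index := by
  classical
  have := Fintype.ofFinite G
  have h1 : ∑ g ∈ Finset.univ.filter (· ∈ center G), ‖χ g‖ ^ 2 ≤ ∑ g, ‖χ g‖ ^ 2 :=
    Finset.sum_le_sum_of_subset_of_nonneg (Finset.filter_subset _ _) fun _ _ _ => by positivity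
  rw [sum_normSq_irr hχ, Finset.sum_congr rfl (g := fun _ => ((charDegree χ ^ 2 : ℕ) : ℝ)) fun g hg => by
    rw [hχ.isChar.mem_cent.1 (hχ.center_le_cent (Finset.mem_filter.1 hg).2), norm_one_eq hχ.isChar, Nat.cast_pow],
    Finset.sum_const, ← Fintype.card_subtype, ← Nat.card_eq_fintype_card, nsmul_eq_mul, ← Nat.cast_mul,
    Nat.cast_le, ← card_mul_index (center G)] at h1
  exact Nat.le_of_mul_le_mul_left h1 Nat.card_pos

theorem sum_ite_sub {G : Type*} [Group G] [Fintype G] (H : Subgroup G) [DecidablePred (· ∈ H)] (a : ℤ) :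
    ∑ g : G, (if g ∈ H then a else 0) = Nat.card H * a := by
  rw [← Finset.sum_filter, Finset.sum_const, ← Fintype.card_subtype, ← Nat.card_eq_fintype_card, nsmul_eq_mul]

open Subgroup in
theorem core {G : Type*} [Group G] [Finite G] {p j : ℕ} (hp : p.Prime)
    (h : ∀ χ, IsIrrCharacter G χ → charDegree χ = 1 ∨ charDegree χ = p) (hj : (center G).index = p ^ j)
    (hno : ¬ ∃ A : Subgroup G, A.Normal ∧ (∀ a ∈ A, ∀ b ∈ A, a * b = b * a) ∧ A.index = p)
    {K : Subgroup G} [K.Normal] (h1 : (Nat.card (commutator (G ⧸ K))).Prime) (h2 : commutator (G ⧸ K) ≤ center _) :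
    (center G).index = p ^ 3 := by
  classical
  have := Fintype.ofFinite G
  obtain ⟨β, hβ, h3⟩ := exists_nonlin (G := G ⧸ K) fun e => h1.ne_one (card_eq_one.2 e)
  have dβ : charDegree β = p := (h _ hβ.inflate).resolve_left ((charDegree_eq_one_iff hβ.isChar).not.2 h3)
  have hs := QuotientGroup.mk'_surjective K
  set Z := (center (G ⧸ K)).comap (QuotientGroup.mk' K) with hZ
  have := Fintype.ofFinite Z
  have iZ : Z.index = p ^ 2 := by
    rw [hZ, index_comap_of_surjective _ hs, ← deg_sq_of_prime_comm h1 h2 hβ h3, dβ]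
  have cZ : commutator G ≤ Z := by rw [hZ, ← map_le_iff_le_comap, ← commutator_quot]; exact h2
  have zZ : center G ≤ Z := fun z hz => mem_center_iff.2 fun q => by
    obtain ⟨g, rfl⟩ := hs q
    rw [← map_mul, ← map_mul, mem_center_iff.1 hz]
  have hab : ∀ a ∈ Z, ∀ b ∈ Z, a * b = b * a := comm_of_deg' fun θ hθ => by_contra fun d => by
    obtain ⟨χ, hχ, hc⟩ := hθ.exists_over
    obtain ⟨e, h4, -⟩ := deg_mul_of_over hθ hχ hc
    have h5 := (h χ hχ).resolve_left fun k => d (Nat.eq_one_of_mul_eq_one_left (h4.symm.trans k))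
    have h6 := (hp.eq_one_or_self_of_dvd _ ⟨e, (h5.symm.trans h4).trans (mul_comm _ _)⟩).resolve_left d
    have h7 := (hχ.isChar.restrict Z).eq_of_constituent_of_deg_eq hθ hc (by
      rw [coe_one, ← coe_charDegree hχ.isChar, h5, ← h6, coe_charDegree hθ.isChar])
    have h8 := hχ.isChar.mul hβ.inflate.isChar
    have h9 := ip_res_eq_of_vanish Z (a := χ * fun g : G => β g) (χ * fun g : G => β g) fun g hg => by
      rw [Pi.mul_apply, vanish_of_prime_comm h1 h2 hβ h3 (g := g) hg, mul_zero]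
    rw [inner_self_eq, Finset.sum_congr rfl (g := fun z => ‖θ z‖ ^ 2 * p ^ 2) fun z _ => by
      rw [Pi.mul_apply, norm_mul, mul_pow, ← h7, (hβ.isChar.mem_cent (g := (z : G))).1 (hβ.center_le_cent z.2),
        norm_one_eq hβ.isChar, dβ], ← Finset.sum_mul, sum_normSq_irr hθ,
      inv_mul_cancel_left₀ (Nat.cast_ne_zero.2 Nat.card_pos.ne'), iZ] at h9
    have := h _ (h8.irr_of_inner_eq_one (mul_left_cancel₀ (Nat.cast_ne_zero.2 (pow_ne_zero 2 hp.ne_zero))
      (h9.symm.trans (by simp))))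
    rw [charDegree_mul hχ.isChar hβ.inflate.isChar, h5, show charDegree (fun g : G => β g) = p from dβ] at this
    have h10 := hp.two_le
    rcases this with k | k <;> nlinarith
  have idx : ∀ B : Subgroup G, Z < B → B ≠ ⊤ → B.index = p := fun B a b => by
    obtain ⟨i, hi, e⟩ := (Nat.dvd_prime_pow hp).1 (iZ ▸ index_dvd_of_le a.le)
    have := index_strictAnti a
    rw [e, iZ, Nat.pow_lt_pow_iff_right hp.one_lt] at this
    obtain rfl : i = 1 := by
      have : i ≠ 0 := fun k => b (index_eq_one.1 (by rw [e, k, pow_zero]))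
      omega
    rw [e, pow_one]
  have hB : ∀ x ∉ Z, ∃ w ∈ Z, x * w * x⁻¹ * w⁻¹ ≠ 1 := fun x hx => by_contra fun k => by
    push Not at k
    replace k : ∀ w ∈ Z, x * w = w * x := fun w hw => mul_inv_eq_iff_eq_mul.1 (mul_inv_eq_one.1 (k w hw))
    obtain ⟨B, a, -, b⟩ := exists_comm_ge (X := insert x (Z : Set G)) (by
      rintro a (rfl | ha) b (rfl | hb)
      exacts [rfl, k b hb, (k a ha).symm, hab a ha b hb])
    have c : Z ≤ B := fun z hz => a (Or.inr hz)
    refine hno ⟨B, normal_of_commutator_le' (cZ.trans c), b, idx B (lt_of_le_of_ne c fun e => hx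
      (e.ge (a (Or.inl rfl)))) fun e => h3 (hβ.inflate.deg_one_of_comm fun x y => b x (e.ge trivial) y (e.ge trivial))⟩
  have hC : ∀ z ∈ Z, z ∉ center G → ∀ x, x * z = z * x → x ∈ Z := fun z hz hz' x hx => by_contra fun k => by
    obtain ⟨w, hw, hu⟩ := hB x k
    obtain ⟨g, hg⟩ := not_forall.1 (mem_center_iff.not.1 hz')
    have key : ∀ l : Z →* ℂˣ, l ⟨_, cZ (conj_mul_inv_mem g z)⟩ = 1 ∨ l ⟨_, cZ (conj_mul_inv_mem x w)⟩ = 1 := by
      intro l
      have aux : ∀ t, t ∈ inertia (fun n => (l n : ℂ)) → ∀ (n : G) (hn : n ∈ Z) (y : Z),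
          (y : G) = t * n * t⁻¹ * n⁻¹ → l y = 1 := fun t ht n hn y e => by
        have := Units.val_inj.1 (mem_inertia'.1 ht ⟨n, hn⟩)
        rw [show y = ⟨_, Normal.conj_mem inferInstance n hn t⟩ * ⟨n, hn⟩⁻¹ from Subtype.ext e, map_mul, this,
          ← map_mul, mul_inv_cancel, map_one]
      refine or_iff_not_imp_right.2 fun k' => ?_
      have a1 : x ∉ inertia fun n => (l n : ℂ) := fun ht => k' (aux x ht w hw _ rfl)
      obtain ⟨ψ, hψ, a2⟩ := exists_over_deg_dvd (isIrr_unitsHom l)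
      have a3 : (inertia fun n => (l n : ℂ)).index = p := by
        refine (hp.eq_one_or_self_of_dvd _ (((Dvd.intro _ rfl).trans a2).trans ?_)).resolve_left
          fun e => a1 (index_eq_one.1 e ▸ mem_top x)
        rcases h ψ hψ with e | e <;> simp [e]
      have := normal_of_commutator_le' (cZ.trans (le_inertia (isIrr_unitsHom l).classFun))
      obtain ⟨t, ht, c, hc, rfl⟩ := mem_sup_of_normal_left.1
        ((sup_zpowers_eq_top_of_index_prime (a3 ▸ hp) a1).ge (mem_top g))
      have a4 : c * z = z * c := mem_centralizer_singleton_iff.1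
        (zpowers_le_of_mem (mem_centralizer_singleton_iff.2 hx) hc)
      refine aux t ht z hz _ ?_
      calc t * c * z * (t * c)⁻¹ * z⁻¹ = t * (c * z) * c⁻¹ * t⁻¹ * z⁻¹ := by group
        _ = _ := by rw [a4]; group
    have c0 : commutator Z ≤ ⊥ := commutator_le.2 fun a _ b _ =>
      commutatorElement_eq_one_iff_mul_comm.2 (Subtype.ext (hab _ a.2 _ b.2))
    obtain ⟨l₁, a1⟩ := exists_lin_ne_one (G := Z) (g := ⟨_, cZ (conj_mul_inv_mem g z)⟩) fun e =>
      hg (mul_inv_eq_iff_eq_mul.1 (mul_inv_eq_one.1 (congrArg Subtype.val (mem_bot.1 (c0 e)))))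
    obtain ⟨l₂, a2⟩ := exists_lin_ne_one (G := Z) (g := ⟨_, cZ (conj_mul_inv_mem x w)⟩) fun e =>
      hu (congrArg Subtype.val (mem_bot.1 (c0 e)))
    rcases key (l₁ * l₂) with e | e <;> rw [MonoidHom.mul_apply] at e
    · exact a1 (by rwa [(key l₂).resolve_right a2, mul_one] at e)
    · exact a2 (by rwa [(key l₁).resolve_left a1, one_mul] at e)
  have hD : ∀ x ∉ Z, Nat.card (centralizer ({x} : Set G)) = Nat.card (center G) * p := fun x hx => by
    have a1 : Z ⊓ centralizer {x} = center G := le_antisymm (fun z hz => by_contra fun k =>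
      hx (hC z hz.1 k x (mem_centralizer_singleton_iff.1 hz.2).symm)) (le_inf zZ (center_le_centralizer _))
    have a2 := idx (centralizer {x} ⊔ Z) (lt_of_le_of_ne le_sup_right fun e => hx (e.ge (mem_sup_left
      (mem_centralizer_singleton_iff.2 rfl)))) fun e => hx (mem_center_iff.2 fun q => by
        obtain ⟨g, rfl⟩ := hs q
        obtain ⟨c, hc, z, hz, rfl⟩ := mem_sup_of_normal_right.1 (e.ge (mem_top g))
        rw [map_mul, mul_assoc, ← mem_center_iff.1 hz, ← mul_assoc, ← map_mul, mem_centralizer_singleton_iff.1 hc,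
          map_mul, mul_assoc])
    have a3 := relIndex_mul_index (le_sup_right : Z ≤ centralizer {x} ⊔ Z)
    rw [a2, iZ, relIndex_sup_right, sq, Nat.mul_left_inj hp.ne_zero] at a3
    rw [← a1, ← a3, ← inf_relIndex_right, card_mul_relIndex inf_le_right]
  have a1 : Nat.card G < Nat.card (ConjClasses G) * p ^ 2 := by
    rw [← sum_charDegree_sq, ← card_irr_eq_card_conjClasses, Nat.card_eq_fintype_card, ← smul_eq_mul,
      ← Finset.card_univ, ← Finset.sum_const]
    refine Finset.sum_lt_sum (fun χ _ => Nat.pow_le_pow_left ?_ 2) ⟨⟨_, isIrr_one⟩, Finset.mem_univ _, by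
      rw [charDegree_one]; exact Nat.pow_lt_pow_left hp.one_lt two_ne_zero⟩
    rcases h _ χ.2 with e | e <;> rw [e]
    exact hp.one_le
  have a2 : ((∑ g : G, Nat.card (centralizer ({g} : Set G)) : ℕ) : ℤ) ≤ ∑ g : G, ((Nat.card (center G) * p : ℤ) +
      (if g ∈ Z then (Nat.card Z - Nat.card (center G) * p : ℤ) else 0) +
      if g ∈ center G then (Nat.card G - Nat.card Z : ℤ) else 0) := by
    rw [Nat.cast_sum]
    refine Finset.sum_le_sum fun g _ => ?_
    by_cases k : g ∈ center G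
    · have := card_le_card_group (centralizer ({g} : Set G))
      rw [if_pos k, if_pos (zZ k)]; omega
    by_cases k' : g ∈ Z
    · have := card_le_of_le fun x hx => hC g k' k x (mem_centralizer_singleton_iff.1 hx)
      rw [if_neg k, if_pos k']; omega
    · rw [if_neg k, if_neg k', hD g k']; simp
  rw [Finset.sum_add_distrib, Finset.sum_add_distrib, sum_ite_sub, sum_ite_sub, sum_card_centralizer,
    Finset.sum_const, Finset.card_univ, ← Nat.card_eq_fintype_card, nsmul_eq_mul] at a2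
  have a3 := relIndex_mul_index zZ
  have a4 := card_mul_relIndex zZ
  have a5 := card_mul_index Z
  rw [iZ] at a3 a5
  obtain ⟨i, -, a6⟩ := (Nat.dvd_prime_pow hp).1 (hj ▸ Dvd.intro _ a3)
  have a7 : (center G).relIndex Z < p + 1 := by
    have b1 : 0 < Nat.card (center G) := Nat.card_pos
    have b2 : 0 < Nat.card Z := Nat.card_pos
    have b3 := hp.two_le
    rw [← a5] at a1 a2
    rw [← a4] at a1 a2 b2
    generalize Nat.card (center G) = c at *
    generalize (center G).relIndex Z = s at *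
    generalize Nat.card (ConjClasses G) = k at *
    have b4 : c * s < k := Nat.lt_of_mul_lt_mul_right a1
    have b5 : 0 < s := Nat.pos_of_mul_pos_left b2
    push_cast at a2
    by_contra b6
    have b7 : (p : ℤ) + 1 ≤ s := by omega
    have b8 : (c : ℤ) * s < k := by exact_mod_cast b4
    have b9 : (0 : ℤ) < c * s := by exact_mod_cast b2
    have b10 : (0 : ℤ) < p ^ 2 - 1 := by nlinarith
    have b11 : (c : ℤ) * s * (c * s * p ^ 2) < k * (c * s * p ^ 2) := by gcongr
    have b12 : (0 : ℤ) ≤ c * s * (c * (p ^ 2 - 1) * (s - (p + 1))) := by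
      have : (0 : ℤ) ≤ s - (p + 1) := by omega
      positivity
    nlinarith
  obtain rfl : i = 1 := by
    have b1 : i ≠ 0 := fun e => by
      obtain ⟨x, hx⟩ : ∃ x, x ∉ Z := by_contra fun k => by
        push Not at k
        have := (Nat.one_lt_pow two_ne_zero hp.one_lt).ne'
        exact this (iZ ▸ index_eq_one.2 (eq_top_iff.2 fun x _ => k x))
      obtain ⟨w, hw, k⟩ := hB x hx
      rw [e, pow_zero, relIndex_eq_one] at a6
      exact k (by rw [mem_center_iff.1 (a6 hw) x]; simp)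
    have := (Nat.pow_le_pow_iff_right hp.one_lt (n := i) (m := 1)).1 (by rw [← a6, pow_one]; omega)
    omega
  rw [← a3, a6]; ring

/-- Let G be a non-abelian finite group and p a prime. Then the irreducible character degrees of G are exactly 1 and p if and only if either G has an abelian normal subgroup of index p or the centre of G has index p³. -/
theorem result {G : Type*} [Group G] [Finite G] (hG : ∃ a b : G, a * b ≠ b * a) (p : ℕ) (hp : p.Prime) : ((∀ χ : Cfsg.IrrCharacter G, Cfsg.charDegree (χ : G → ℂ) = 1 ∨ Cfsg.charDegree (χ : G → ℂ) = p) ∧ ∃ χ : Cfsg.IrrCharacter G, Cfsg.charDegree (χ : G → ℂ) = p) ↔ ((∃ A : Subgroup G, A.Normal ∧ (∀ a ∈ A, ∀ b ∈ A, a * b = b * a) ∧ A.index = p) ∨ (Subgroup.center G).index = p ^ 3) := by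
  have h0 : ¬ commutator G ≤ ⊥ := fun h => by
    obtain ⟨a, b, k⟩ := hG
    exact k (mul_inv_eq_iff_eq_mul.1 (mul_inv_eq_one.1 (Subgroup.mem_bot.1 (h (conj_mul_inv_mem a b)))))
  constructor
  · rintro ⟨h, -⟩
    replace h : ∀ χ, IsIrrCharacter G χ → charDegree χ = 1 ∨ charDegree χ = p := fun χ hχ => h ⟨χ, hχ⟩
    refine or_iff_not_imp_left.2 fun hno => ?_
    obtain ⟨q, e, hq, h1, P, A, _, _, h2, h3, -, h4⟩ := (two_deg h h0).resolve_left hno
    obtain ⟨rfl, -⟩ := (Nat.Prime.pow_eq_iff hp).1 h1.symm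
    have := Fact.mk hq
    obtain ⟨i, hi⟩ := IsPGroup.iff_card.1 h2
    obtain ⟨j, -, hj⟩ := (Nat.dvd_prime_pow hq (m := i)).1 ((Subgroup.index_dvd_of_le h3).trans (by
      rw [← Subgroup.relIndex_top_right, ← h4, Subgroup.relIndex_sup_right, ← hi]
      exact Subgroup.relIndex_dvd_card _ _))
    obtain ⟨K, _, -, hK⟩ := exists_minNA h0
    rcases two_cases h hK with ⟨r, -, hr, -, -, h5, h6⟩ | ⟨B, a, b, c, -⟩
    exacts [core hq h hj hno (h5 ▸ hr) h6, absurd ⟨B, a, b, c⟩ hno]
  · intro h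
    have h1 : ∀ χ : IrrCharacter G, charDegree χ.1 = 1 ∨ charDegree χ.1 = p := fun χ => by
      rcases h with ⟨A, _, h1, h2⟩ | h
      · exact hp.eq_one_or_self_of_dvd _ (h2 ▸ deg_dvd_index_of_abelian χ.2 (coe_charDegree χ.2.isChar).symm h1)
      · obtain ⟨i, -, hi⟩ := (Nat.dvd_prime_pow hp).1
          (h ▸ χ.2.deg_dvd_index_center (coe_charDegree χ.2.isChar).symm)
        have := deg_sq_le χ.2
        rw [hi, h, ← pow_mul, Nat.pow_le_pow_iff_right hp.one_lt] at this
        obtain rfl | rfl : i = 0 ∨ i = 1 := by omega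
        exacts [Or.inl hi, Or.inr (hi.trans (pow_one p))]
    obtain ⟨χ, hχ, h2⟩ := exists_nonlin' fun e => h0 e.le
    exact ⟨h1, ⟨χ, hχ⟩, (h1 ⟨χ, hχ⟩).resolve_left h2⟩

end Cfsg.Agent.S4459
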