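import Cfsg.Statements.S4460
import Cfsg.Agent.H4.Deg3

set_option autoImplicit false
open Cfsg

namespace Cfsg.Agent.S4460

open CfsgH4 CfsgH3 CfsgH2 MonoidAlgebra

/-- A finite group with exactly three distinct irreducible character degrees is solvable of derived length at most 3: its third derived subgroup is trivial. -/
theorem result {G : Type*} [Group G] [Finite G] (hcd : Nat.card {n : ℕ // ∃ χ : Cfsg.IrrCharacter G, Cfsg.charDegree (χ : G → ℂ) = n} = 3) : derivedSeries G 3 = ⊥ := by
  obtain ⟨x, y, z, -, -, -, h⟩ := Set.ncard_eq_three.1 ((Nat.card_coe_set_eq (charDegrees G)).symm.trans hcd)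
  have h1 : ∀ χ, IsIrrCharacter G χ → charDegree χ = x ∨ charDegree χ = y ∨ charDegree χ = z :=
    fun χ hχ => h.le (mem_cd hχ)
  rcases charDegree_one (G := G) ▸ h1 _ isIrr_one with rfl | rfl | rfl
  exacts [three_deg _ G y z le_rfl h1, three_deg _ G x z le_rfl fun χ hχ => by have := h1 χ hχ; omega,
    three_deg _ G x y le_rfl fun χ hχ => by have := h1 χ hχ; omega]

end Cfsg.Agent.S4460
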