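import Cfsg.Statements.S4464
import Cfsg.Agent.H4.Ord4

set_option autoImplicit false
open Cfsg

namespace Cfsg.Agent.S4464

open CfsgH4 CfsgH3

/-- Let p be a prime and G a finite group all of whose irreducible character degrees are less than p. Then G has a normal abelian Sylow p-subgroup. -/
theorem result {G : Type*} [Group G] [Finite G] (p : ℕ) (hp : p.Prime) (hb : ∀ χ : Cfsg.IrrCharacter G, Cfsg.charDegree (χ : G → ℂ) < p) : ∃ P : Subgroup G, P.Normal ∧ (∀ x ∈ P, ∀ y ∈ P, x * y = y * x) ∧ IsPGroup p P ∧ ¬ p ∣ P.index := by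
  classical
  have := Fact.mk hp
  have := Fintype.ofFinite G
  obtain ⟨P⟩ : Nonempty (Sylow p G) := inferInstance
  have := Fintype.ofFinite (Sylow p G)
  have hnd : ∀ χ, IsIrrCharacter G χ → ¬ p ∣ charDegree χ := fun χ hχ h =>
    absurd (Nat.le_of_dvd (charDegree_pos hχ) h) (not_le.2 (hb ⟨χ, hχ⟩))
  suffices hn : (P : Subgroup G).Normal from
    ⟨P, hn, fun x hx y hy => congrArg Subtype.val
      (comm_of_normal_of_not_dvd hp P.2 hnd ⟨x, hx⟩ ⟨y, hy⟩), P.2, P.not_dvd_index⟩
  let θ : G → ℂ := permChar (Sylow p G)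
  have hθ : IsCharacter G θ := isChar_permChar
  have e : θ = indFun (MulAction.stabilizer G P) (fun _ => 1) := permChar_eq_indFun P
  have h1 : classInner θ (fun _ => 1) = 1 := e ▸ ip_indFun_one_one _
  have hθ' : IsCharacter G (θ - fun _ => 1) :=
    hθ.sub_constituent isIrr_one (by rw [h1]; exact one_ne_zero)
  have hle : (P : Subgroup G) ≤ MulAction.stabilizer G P := by
    rw [Sylow.stabilizer_eq_normalizer]; exact Subgroup.le_normalizer
  have key := deg_le_mul_ip (P : Subgroup G) (b := p - 1) hθ' (fun χ hχ h =>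
    ⟨Nat.le_sub_one_of_lt (hb ⟨χ, hχ⟩), by
      have h2 : classInner θ χ ≠ 0 := fun h2 => h (hθ'.ip_eq_zero_of_add isChar_one hχ.isChar
        (by rwa [sub_add_cancel])).1
      rw [e, inner_indFun_left _ _ hχ.classFun, Ne, CfsgH3.inner_eq_zero_symm] at h2
      exact ip_comp_ne_zero_of_constituent (Subgroup.inclusion hle) (hχ.isChar.restrict _) isIrr_one h2
        isChar_one (by rw [isIrr_one.inner_self]; exact one_ne_zero)⟩)
  have dc := sum_card_fixedBy (G := (P : Subgroup G)) (Sylow p G)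
  have b1 : ∀ Q ∈ Finset.univ.erase P,
      p * Nat.card (MulAction.stabilizer (P : Subgroup G) Q) ≤ Nat.card P := by
    intro Q hQ
    obtain ⟨k, hk⟩ := P.2.index (MulAction.stabilizer (P : Subgroup G) Q)
    rw [← (MulAction.stabilizer (P : Subgroup G) Q).index_mul_card, hk]
    refine Nat.mul_le_mul_right _ (Nat.le_self_pow (fun e => ?_) p)
    rw [e, pow_zero, Subgroup.index_eq_one] at hk
    have : Q ∈ MulAction.fixedPoints (P : Subgroup G) (Sylow p G) := fun x => hk.ge trivial
    exact (Finset.mem_erase.1 hQ).1 (Sylow.ext (P.is_maximal' Q.2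
      (P.2.sylow_mem_fixedPoints_iff.1 this)))
  have b2 := Finset.sum_le_card_nsmul _ _ _ b1
  rw [← Finset.mul_sum, Finset.card_erase_of_mem (Finset.mem_univ _), Finset.card_univ,
    smul_eq_mul] at b2
  rw [← Finset.add_sum_erase _ _ (Finset.mem_univ P)] at dc
  have b3 : Nat.card (MulAction.stabilizer (P : Subgroup G) P) ≤ Nat.card P :=
    Subgroup.card_le_card_group _
  have e1 : ((θ - (fun _ => 1 : G → ℂ)) 1).re = (Fintype.card (Sylow p G) - 1 : ℕ) := by
    rw [Nat.cast_sub Fintype.card_pos]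
    simp [θ, permChar]
  have e2 : (classInner (fun x : (P : Subgroup G) => (θ - (fun _ => 1 : G → ℂ)) x) (fun _ => 1)).re =
      (Nat.card P : ℝ)⁻¹ * ((∑ x : (P : Subgroup G),
        Nat.card (MulAction.fixedBy (Sylow p G) x) : ℕ) - Nat.card P) := by
    rw [inner_one_right, ← Complex.ofReal_re (_ * _)]
    congr 1
    push_cast
    simp only [Pi.sub_apply, Finset.sum_sub_distrib, Finset.sum_const, Finset.card_univ,
      nsmul_eq_mul, mul_one, Nat.card_eq_fintype_card (α := (P : Subgroup G))]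
    rfl
  rw [e1, e2, dc, Nat.cast_sub hp.pos] at key
  have c0 : (0 : ℝ) < Nat.card P := by exact_mod_cast Nat.card_pos
  have c1 : (1 : ℝ) < p := by exact_mod_cast hp.one_lt
  have b2' := (Nat.cast_le (α := ℝ)).2 b2
  have b3' := (Nat.cast_le (α := ℝ)).2 b3
  push_cast [-Nat.cast_sum] at b2' key
  set m : ℝ := ((Fintype.card (Sylow p G) - 1 : ℕ) : ℝ) with hm
  set s : ℝ := ((∑ x ∈ Finset.univ.erase P, Nat.card (MulAction.stabilizer (P : Subgroup G) x) : ℕ) : ℝ)
  rw [← mul_assoc, mul_comm _ (_⁻¹), mul_assoc, le_inv_mul_iff₀ c0] at key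
  have k1 : Nat.card P * m ≤ (p - 1) * s :=
    key.trans (mul_le_mul_of_nonneg_left (by linarith) (by linarith))
  have k2 := mul_le_mul_of_nonneg_left k1 (zero_le_one.trans c1.le)
  have k3 := mul_le_mul_of_nonneg_left b2' (sub_pos.2 c1).le
  have : Nat.card P * m ≤ 0 := by nlinarith
  have : m ≤ 0 := by nlinarith
  have : Fintype.card (Sylow p G) ≤ 1 := by
    have : Fintype.card (Sylow p G) - 1 ≤ 0 := by rw [hm] at this; exact_mod_cast this
    omega
  have := Fintype.card_le_one_iff_subsingleton.1 this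
  exact P.normal_of_subsingleton

end Cfsg.Agent.S4464
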