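import Cfsg.Statements.S4466
import Cfsg.Agent.H4.Deg3
import Cfsg.Agent.S4441

set_option autoImplicit false
open Cfsg

namespace Cfsg.Agent.S4466

open CfsgH4 CfsgH3 CfsgH2 MonoidAlgebra

/-- If every irreducible character of the finite group G of degree greater than one has prime degree, then G is solvable. -/
theorem result {G : Type*} [Group G] [Finite G] (h : ∀ χ : Cfsg.IrrCharacter G, Cfsg.charDegree (χ : G → ℂ) ≠ 1 → (Cfsg.charDegree (χ : G → ℂ)).Prime) : Group.IsSolvable G := by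
  refine isSolvable_of_simple_sections (fun G _ => ∀ χ, IsIrrCharacter G χ → charDegree χ ≠ 1 → (charDegree χ).Prime)
    (fun G _ _ N _ h θ hθ h1 => ?_) (fun G _ _ N _ h β hβ => h _ hβ.inflate) (fun G _ _ _ h => ?_) G
    fun χ hχ => h ⟨χ, hχ⟩
  · obtain ⟨χ, e, hχ, h2, -⟩ := exists_over' hθ
    have := h χ hχ fun k => h1 (Nat.eq_one_of_mul_eq_one_left (h2.symm.trans k))
    rwa [(this.eq_one_or_self_of_dvd _ ⟨e, h2.trans (mul_comm _ _)⟩).resolve_left h1]
  by_contra hno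
  have := Fintype.ofFinite G
  classical
  have hs : ¬ Group.IsSolvable G := fun k => hno (IsSimpleGroup.comm_iff_isSolvable.2 k)
  have h3 : ∀ a b, ¬ ∀ χ, IsIrrCharacter G χ → charDegree χ = 1 ∨ charDegree χ = a ∨ charDegree χ = b :=
    fun a b k => hs ⟨⟨3, three_deg _ G a b le_rfl k⟩⟩
  have hf : ∀ χ, IsIrrCharacter G χ → χ ≠ (fun _ => 1) → ∀ g, χ g = χ 1 → g = 1 := fun χ hχ h1 g hg =>
    Subgroup.mem_bot.1 ((hχ.ker_eq_bot_of_simple h1).le hg)
  have hl : ∀ χ : IrrCharacter G, charDegree χ.1 = 1 → χ = ⟨_, isIrr_one⟩ := fun χ h1 => Subtype.ext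
    (by_contra fun k => hno fun a b => mul_inv_eq_iff_eq_mul.1 (mul_inv_eq_one.1 (hf _ χ.2 k _
      (apply_commutator_of_deg_one χ.2.isChar ((charDegree_eq_one_iff χ.2.isChar).1 h1) (conj_mul_inv_mem a b)))))
  have hn : ∀ χ : G → ℂ, charDegree χ ≠ 1 → χ ≠ fun _ => 1 := fun χ h e => h (e ▸ charDegree_one)
  obtain ⟨χ, -, hχ⟩ := Finset.exists_max_image Finset.univ (fun β : IrrCharacter G => charDegree β.1)
    ⟨⟨_, isIrr_one⟩, Finset.mem_univ _⟩
  replace hχ : ∀ ψ, IsIrrCharacter G ψ → charDegree ψ ≤ charDegree χ.1 := fun ψ h => hχ ⟨ψ, h⟩ (Finset.mem_univ _)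
  generalize hd : charDegree χ.1 = p at hχ
  have p3 : 3 < p := not_le.1 fun k => h3 2 3 fun ψ hψ => by
    have := hχ ψ hψ; have := charDegree_pos hψ; omega
  have hp : p.Prime := hd ▸ h _ χ.2 (by omega)
  have := Fact.mk hp
  obtain ⟨ψ, hψ, h4, h5⟩ : ∃ ψ, IsIrrCharacter G ψ ∧ charDegree ψ ≠ 1 ∧ charDegree ψ ≠ p := by
    by_contra k
    push Not at k
    exact h3 p p fun ψ hψ => by have := k ψ hψ; omega
  obtain ⟨P⟩ : Nonempty (Sylow p G) := inferInstance
  have := Fintype.ofFinite (P : Subgroup G)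
  obtain ⟨a, ha⟩ := IsPGroup.iff_card.1 P.isPGroup'
  have hab : ∀ x y : P, x * y = y * x := fun x y => mul_inv_eq_iff_eq_mul.1 (mul_inv_eq_one.1 (Subtype.ext
    (hf ψ hψ (hn _ h4) _ (apply_commutator_of_deg_lt (hψ.isChar.restrict P) (coe_charDegree hψ.isChar).symm
      (fun q hq hd => (Nat.prime_dvd_prime_iff_eq hq hp).1 (hq.dvd_of_dvd_pow (ha ▸ hd)) ▸
        lt_of_le_of_ne (hχ ψ hψ) h5) (conj_mul_inv_mem x y)))))
  have h0 : ∀ z : P, z ≠ 1 → χ.1 z = 0 := fun z hz => by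
    refine (χ.2.eq_zero_or_norm_eq_of_coprime (coe_charDegree χ.2.isChar).symm z.1 ?_).resolve_right fun h => ?_
    · rw [hd]
      exact (Nat.Prime.coprime_iff_not_dvd hp).2 fun k => P.not_dvd_index (k.trans (Subgroup.index_dvd_of_le
        fun x hx => Subgroup.mem_centralizer_singleton_iff.2 (congrArg Subtype.val (hab ⟨x, hx⟩ z))))
    · refine hno (comm_of_simple_of_center (g := z) (fun e => hz (Subtype.ext e))
        (Subgroup.mem_center_iff.2 fun g => ?_))
      exact (mul_inv_eq_iff_eq_mul.1 (mul_inv_eq_one.1 (hf _ χ.2 (hn _ (by omega)) _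
        (χ.2.isChar.commutator_mem_ker h g)))).symm
  obtain ⟨k, hk⟩ := (χ.2.isChar.restrict P).inner_nat isChar_one
  rw [inner_one_right, Finset.sum_eq_single (f := fun z : (P : Subgroup G) => χ.1 z) 1 (fun z _ => h0 z) (by simp),
    inv_mul_eq_iff_eq_mul₀ (card_ne_zero_complex _), Subgroup.coe_one, ← coe_charDegree χ.2.isChar, hd,
    ← Nat.cast_mul, Nat.cast_inj] at hk
  have hP : Nat.card P = p := (hp.eq_one_or_self_of_dvd _ ⟨k, hk⟩).resolve_left fun e =>
    P.not_dvd_index (by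
      rw [← mul_one (P : Subgroup G).index, ← e, Subgroup.index_mul_card]
      exact hd ▸ charDegree_dvd_card χ.2)
  obtain ⟨M, hM⟩ := CfsgH4.exists_isPModular p
  obtain ⟨X, Y, -, -, hX, hY, ε, δ, h6, h7, h8, -⟩ := S4441.result p M hM (by omega) P hP _ rfl
  have key : ∀ (β : IrrCharacter G) (s : ℤ), (s = 1 ∨ s = -1) → (charDegree β.1 : ℤ) ≡ s [ZMOD p] →
      β = ⟨_, isIrr_one⟩ := fun β s hs hb => hl β (by_contra fun k => by
    have a1 := hχ _ β.2
    have a2 := h _ β.2 k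
    have a3 := a2.two_le
    rcases hs with rfl | rfl
    · have := Int.le_of_dvd (by omega) hb.symm.dvd
      omega
    · have := Int.le_of_dvd (by omega) hb.symm.dvd
      have a4 : charDegree β.1 ≠ p := fun e => by
        rw [e] at hb
        have := Int.le_of_dvd one_pos ((dvd_add_right dvd_rfl).1 (by simpa using hb.symm.dvd))
        omega
      have := a2.eq_two_or_odd
      have := hp.eq_two_or_odd
      omega)
  have sub : ∀ Z : Set (IrrCharacter G), (∀ β ∈ Z, β = ⟨_, isIrr_one⟩) → Nat.card Z ≤ 1 := fun Z h =>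
    Finite.card_le_one_iff_subsingleton.2 ⟨fun a b => Subtype.ext ((h _ a.2).trans (h _ b.2).symm)⟩
  have h9 := sub X fun β hβ => key β _ (h6 β hβ).1 (h6 β hβ).2.1
  rw [hX] at h9
  rw [le_antisymm h9 (Nat.pos_of_ne_zero Subgroup.index_ne_zero_of_finite)] at hY h8
  have := sub Y fun β hβ => key β _ h7 (by simpa using h8 β hβ)
  omega

end Cfsg.Agent.S4466
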