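import Cfsg.Statements.S4468
import Cfsg.Agent.H2.Ito
import Cfsg.Agent.H2.Transfer
import Cfsg.Agent.S0185
import Cfsg.Agent.H3.Kernel
import Cfsg.Agent.H1.Solv
import Cfsg.Agent.H1.Fitting
import Cfsg.Agent.H1.Coprime

set_option autoImplicit false
open Cfsg

namespace Cfsg.Agent.S4468
open Subgroup CfsgH2
open scoped commutatorElement

/-- Let the finite p-solvable group G have a faithful character χ of degree n ≤ p − 1 and suppose that a Sylow p-subgroup of G is not normal. Then n = p − 1, n is a power of 2, and χ is irreducible. -/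
theorem result {G : Type*} [Group G] [Finite G] (χ : G → ℂ) (hχ : Cfsg.IsCharacter G χ) (hfaith : ∀ g : G, χ g = χ 1 → g = 1) (n : ℕ) (hn : Cfsg.charDegree χ = n) (p : ℕ) (hp : p.Prime) (hsolv : Cfsg.IsPSolvable p G) (hnp : n + 1 ≤ p) (P : Sylow p G) (hP : ¬ (P : Subgroup G).Normal) : n + 1 = p ∧ (∃ k : ℕ, n = 2 ^ k) ∧ Cfsg.IsIrrCharacter G χ := by
  haveI := Fact.mk hp
  obtain ⟨m, ρ, rfl⟩ := hχ
  have hm : Module.finrank ℂ (Fin m → ℂ) = n := by
    rw [← hn, charDegree, Representation.char_one]; simp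
  have hker : MonoidHom.ker ρ = ⊥ := eq_bot_iff.2 fun g hg =>
    hfaith g ((CfsgH3.character_eq_one_iff_mem_ker ρ g).2 hg)
  have hinj : Function.Injective ρ := (MonoidHom.ker_eq_bot_iff ρ).1 hker
  have hPc : (P : Subgroup G) ≤ centralizer ((P : Subgroup G) : Set G) := by
    intro a ha b hb
    exact congrArg Subtype.val (Cfsg.Agent.S0185.result (G := (P : Subgroup G))
      (ρ.comp (P : Subgroup G).subtype) (hinj.comp Subtype.val_injective) (fun r hr hd => by
        obtain ⟨k, hk⟩ := IsPGroup.iff_card.1 P.isPGroup'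
        rw [hk] at hd
        rw [(Nat.prime_dvd_prime_iff_eq hr hp).1 (hr.dvd_of_dvd_pow hd), hm]; omega) ⟨b, hb⟩ ⟨a, ha⟩)
  have hS := IsSylowIn.of_sylow_top P
  obtain ⟨x, hxP, hx⟩ : ∃ x ∈ (P : Subgroup G), ¬ pPrimeCore p G ≤ centralizer {x} := by
    by_contra hn'
    push Not at hn'
    apply hP
    have h1 := IsSylowIn.sylow_inf_normal P (pPrimePCore p G)
    obtain ⟨k, hk⟩ : ∃ k, (pPrimeCore p G).relIndex (pPrimePCore p G) = p ^ k := by
      obtain ⟨k, hk⟩ := IsPGroup.iff_card.1 (CfsgH1.isPGroup_quotient_pPrimePCore p G)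
      exact ⟨k, by rw [← hk, ← relIndex_ker, QuotientGroup.ker_mk']⟩
    have h2 := h1.sup_eq_of_pow CfsgH1.pPrimeCore_le_pPrimePCore hk
    have h3 : (P : Subgroup G) ≤ pPrimePCore p G :=
      (hPc.trans (centralizer_le inf_le_left)).trans
        (CfsgH1.IsPSolvable.centralizer_le_pPrimePCore hsolv h2.ge)
    rw [inf_eq_left.2 h3] at h1 h2
    have h4 : pPrimePCore p G ≤ normalizer ((P : Subgroup G) : Set G) := by
      rw [← h2]
      refine sup_le le_normalizer (le_trans ?_ (centralizer_le_normalizer _))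
      intro a ha b hb
      exact (mem_centralizer_singleton_iff.1 (hn' b hb ha)).symm
    refine normalizer_eq_top_iff.1 (eq_top_iff.2 fun g _ => ?_)
    obtain ⟨u, hu, e⟩ := h1.frattini (g := g) (by rw [normalizer_eq_top]; exact mem_top g)
    exact ((normalizer _).mul_mem_cancel_left (h4 hu)).1 e
  obtain ⟨k, hk⟩ := exists_orderOf_eq_pow P.isPGroup' hxP
  obtain ⟨q, hq, Q, hQ, hxQ, hne⟩ : ∃ q : ℕ, q.Prime ∧ ∃ Q : Subgroup G, IsSylowIn q Q (pPrimeCore p G) ∧
      x ∈ normalizer (Q : Set G) ∧ ¬ Q ≤ centralizer {x} := by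
    by_contra hn'
    push Not at hn'
    refine hx (CfsgH1.le_of_forall_sylow_le fun q _ _ => ?_)
    obtain ⟨S, h1, h2⟩ := CfsgH1.exists_invariant_sylow (A := zpowers x) (K := pPrimeCore p G)
      le_normalizer_of_normal (by
        rw [Nat.card_zpowers, hk]
        exact Nat.Coprime.pow_left _ (CfsgH1.coprime_card_pPrimeCore p G).symm)
      (Or.inl (by haveI := (isPGroup_zpowers_of_orderOf hk).isNilpotent; infer_instance)) q
    exact ⟨h1.toSylow, by rw [h1.toSylow_map]; exact hn' q Fact.out S h1 (h2 (mem_zpowers x))⟩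
  haveI := Fact.mk hq
  have hcop : p.Coprime (Nat.card Q) :=
    (CfsgH1.coprime_card_pPrimeCore p G).symm.coprime_dvd_right (card_dvd_of_le hQ.le)
  have hQs : Group.IsSolvable Q := by haveI := hQ.pgroup.isNilpotent; infer_instance
  have hxk : x ^ p ^ k = 1 := hk ▸ pow_orderOf_eq_one x
  have key := ito_gen (ρ := ρ) hxQ hxk hcop hQs (by omega) (fun h => hne fun a ha =>
    mem_centralizer_singleton_iff.2 (hinj (by rw [map_mul, map_mul]; exact h a ha)))
  rw [hm] at key
  refine ⟨key.1, ?_, ?_⟩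
  · obtain ⟨a, ha⟩ := IsPGroup.iff_card.1 hQ.pgroup
    obtain ⟨b, -, hb⟩ := (Nat.dvd_prime_pow hq).1 (ha ▸ (dvd_pow_self n two_ne_zero).trans key.2)
    rcases b with _ | b
    · exact ⟨0, hb⟩
    · by_cases h2 : q = 2
      · exact ⟨b + 1, h2 ▸ hb⟩
      · have ho : Odd n := hb ▸ (hq.odd_of_ne_two h2).pow
        have : p = 2 := hp.even_iff.1 (key.1 ▸ ho.add_one)
        exact ⟨0, by omega⟩
  · haveI : Nontrivial (Fin m → ℂ) := Module.nontrivial_of_finrank_pos (R := ℂ) (by
      have := hp.two_le; omega)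
    refine ⟨m, ρ, CfsgH3.irreducible_of_forall ρ fun U hU => ?_, rfl⟩
    by_contra hn'
    push Not at hn'
    haveI : NeZero (Nat.card G : ℂ) := ⟨Nat.cast_ne_zero.2 Nat.card_pos.ne'⟩
    obtain ⟨W, hW⟩ := exists_isCompl (⟨U, fun g v hv => hU g v hv⟩ : Subrepresentation ρ)
    have hc := CfsgH3.subrep_isCompl hW
    have hW2 : W.toSubmodule ≠ ⊤ := by
      intro h
      rw [h] at hc
      exact hn'.1 (eq_bot_of_isCompl_top hc)
    have sub : ∀ T : Subrepresentation ρ, T.toSubmodule ≠ ⊤ → ∀ a ∈ Q, ∀ v ∈ T.toSubmodule,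
        ρ a (ρ x v) = ρ x (ρ a v) := by
      intro T hT a ha v hv
      have l := Submodule.finrank_lt hT
      by_contra hv'
      have := (ito_gen (ρ := T.toRepresentation) hxQ hxk hcop hQs (by omega) (fun h => hv'
        (congrArg Subtype.val (DFunLike.congr_fun (h a ha) (⟨v, hv⟩ : T.toSubmodule))))).1
      omega
    refine hne fun a ha => mem_centralizer_singleton_iff.2 (hinj ?_)
    rw [map_mul, map_mul]
    refine LinearMap.ext fun v => ?_
    obtain ⟨u, hu, w, hw, rfl⟩ := Submodule.mem_sup.1 (hc.sup_eq_top.ge (Submodule.mem_top (x := v)))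
    simp only [Module.End.mul_apply, map_add]
    rw [sub _ hn'.2 a ha u hu, sub _ hW2 a ha w hw]


end Cfsg.Agent.S4468
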