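import Cfsg.Statements.S4478
import Cfsg.Agent.H4.Ord4

set_option autoImplicit false
open Cfsg

namespace Cfsg.Agent.S4478

open CfsgH4 CfsgH3

/-- Let G be a finite group of even order and χ an irreducible character of G whose degree x is divisible by the full power of 2 dividing the order of G and, for every odd prime p such that G has an element of order 2p, by the full power of p dividing the order of G. Then all involutions of G are conjugate, the centralizer of every involution has order exactly x with x coprime to its index, and the Frobenius–Schur indicator of χ equals 1. -/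
theorem result {G : Type*} [Group G] [Fintype G] (heven : Even (Nat.card G)) (χ : Cfsg.IrrCharacter G) (h2 : 2 ^ (Nat.card G).factorization 2 ∣ Cfsg.charDegree (χ : G → ℂ)) (hp : ∀ p : ℕ, p.Prime → p ≠ 2 → (∃ g : G, orderOf g = 2 * p) → p ^ (Nat.card G).factorization p ∣ Cfsg.charDegree (χ : G → ℂ)) : (∀ s t : G, orderOf s = 2 → orderOf t = 2 → IsConj s t) ∧ (∀ s : G, orderOf s = 2 → Nat.card (Subgroup.centralizer ({s} : Set G)) = Cfsg.charDegree (χ : G → ℂ) ∧ (Nat.card (Subgroup.centralizer ({s} : Set G))).Coprime (Subgroup.centralizer ({s} : Set G)).index) ∧ (Nat.card G : ℂ)⁻¹ * ∑ g : G, (χ : G → ℂ) (g * g) = 1 := by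
  classical
  have := Fact.mk Nat.prime_two
  have g0 := (Nat.card_pos (α := G)).ne'
  have v2 : ∀ g, 2 ∣ orderOf g → χ.1 g = 0 := fun g => vanish_of_dvd Nat.prime_two χ.2 h2
  have hne : χ.1 ≠ fun _ => 1 := fun e => by
    obtain ⟨x, hx⟩ := exists_prime_orderOf_dvd_card' 2 heven.two_dvd
    have := v2 x hx.symm.dvd
    rw [e] at this; exact one_ne_zero this
  have two : ∀ (g : G) (p : ℕ), p.Prime → p ≠ 2 → 2 ∣ orderOf g → p ∣ orderOf g →
      ∃ g : G, orderOf g = 2 * p := fun g p a b c d =>
    ⟨_, orderOf_pow_orderOf_div (orderOf_pos g).ne' (Nat.Coprime.mul_dvd_of_dvd_of_dvd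
      ((Nat.coprime_primes Nat.prime_two a).2 b.symm) c d)⟩
  have e1 : ∑ g, χ.1 (g * g) = Nat.card {s : G // orderOf s = 2} * charDegree χ.1 := by
    rw [← Finset.sum_filter_add_sum_filter_not _ (fun g => Odd (orderOf g)), sum_odd_sq,
      Finset.sum_filter_of_ne (fun g _ h => Nat.not_even_iff_odd.1 fun e => h (v2 g e.two_dvd))]
    have h1 := χ.2.inner_of_ne isIrr_one hne
    rw [inner_one_right, mul_eq_zero, inv_eq_zero] at h1
    rw [h1.resolve_left (card_ne_zero_complex G), zero_add, Nat.card_eq_fintype_card,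
      Fintype.card_subtype, ← nsmul_eq_mul, ← Finset.sum_const, Finset.sum_filter, Finset.sum_filter]
    refine Finset.sum_congr rfl fun g _ => ?_
    by_cases h : orderOf g = 2
    · rw [if_pos h, if_pos (by rw [h]; decide), (orderOf_eq_two_iff.1 h).1, coe_charDegree χ.2.isChar]
    rw [if_neg h]
    split_ifs with h3
    · rfl
    have h4 := (Nat.not_odd_iff_even.1 h3).two_dvd
    have h5 : g * g ≠ 1 := fun e => h (orderOf_eq_two_iff.2 ⟨e, by rintro rfl; simp at h4⟩)
    obtain ⟨p, a, b⟩ := Nat.exists_prime_and_dvd (mt orderOf_eq_one_iff.1 h5)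
    by_cases c : p = 2
    · exact v2 _ (c ▸ b)
    · refine vanish_of_dvd a χ.2 (hp p a c (two g p a c h4 (b.trans ?_))) b
      rw [← pow_two]; exact orderOf_pow_dvd 2
  have d0 := charDegree_pos χ.2
  obtain ⟨s₀, hs₀⟩ := exists_prime_orderOf_dvd_card' 2 heven.two_dvd
  have : Nonempty {x : G // orderOf x = 2} := ⟨⟨s₀, hs₀⟩⟩
  have t0 := Nat.card_pos (α := {x : G // orderOf x = 2})
  have e2 : (Nat.card G : ℂ)⁻¹ * ∑ g, χ.1 (g * g) = 1 := by
    have pos : 0 < ((Nat.card G : ℂ)⁻¹ * ∑ g, χ.1 (g * g)).re := by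
      rw [e1, ← Nat.cast_mul, ← Complex.ofReal_natCast, ← Complex.ofReal_natCast, ← Complex.ofReal_inv,
        ← Complex.ofReal_mul, Complex.ofReal_re]
      have := Nat.card_pos (α := G)
      positivity
    rcases fs_cases_irr χ.2 with ⟨-, b⟩ | ⟨-, b | b⟩
    · rw [b] at pos; simp at pos
    · exact b
    · rw [b] at pos; norm_num at pos
  have e3 : Nat.card {s : G // orderOf s = 2} * charDegree χ.1 = Nat.card G := by
    rw [e1, inv_mul_eq_one₀ (card_ne_zero_complex G)] at e2
    exact_mod_cast e2.symm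
  have full : ∀ s : G, orderOf s = 2 → ∀ p : ℕ, p.Prime →
      p ∣ Nat.card (Subgroup.centralizer ({s} : Set G)) →
      p ^ (Nat.card G).factorization p ∣ charDegree χ.1 := by
    intro s hs p a b
    by_cases c : p = 2
    · exact c ▸ h2
    have := Fact.mk a
    obtain ⟨y, hy⟩ := exists_prime_orderOf_dvd_card' p b
    rw [← Subgroup.orderOf_coe] at hy
    refine hp p a c ⟨s * y, ?_⟩
    rw [Commute.orderOf_mul_eq_mul_orderOf_of_coprime (y.2 s rfl)
      (by rw [hs, hy]; exact (Nat.coprime_primes Nat.prime_two a).2 (Ne.symm c)), hs, hy]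
  have key : ∀ s : G, orderOf s = 2 →
      Nat.card (Subgroup.centralizer ({s} : Set G)) = charDegree χ.1 ∧
      ∀ t : G, orderOf t = 2 → IsConj s t := by
    intro s hs
    have h1 : Nat.card (Subgroup.centralizer ({s} : Set G)) ∣ charDegree χ.1 := by
      refine (Nat.dvd_iff_prime_pow_dvd_dvd _ _).2 fun p k a b => ?_
      rcases k with _ | k
      · simp
      · exact (pow_dvd_pow p ((a.pow_dvd_iff_le_factorization g0).1
          (b.trans (Subgroup.card_subgroup_dvd_card _)))).trans
          (full s hs p a ((dvd_pow_self p k.succ_ne_zero).trans b))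
    have sub : {t | IsConj s t} ⊆ {t | orderOf t = 2} := fun t ht => by
      obtain ⟨c, rfl⟩ := isConj_iff.1 ht
      exact ((MulAut.conj c).orderOf_eq s).trans hs
    have h3 : (Subgroup.centralizer ({s} : Set G)).index ≤ Nat.card {s : G // orderOf s = 2} := by
      rw [← card_isConj_eq_index]; exact Set.ncard_le_ncard sub
    have h4 := (Subgroup.centralizer ({s} : Set G)).index_mul_card
    have h5 := Nat.le_of_dvd d0 h1
    have h6 : Nat.card (Subgroup.centralizer ({s} : Set G)) = charDegree χ.1 := by nlinarith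
    refine ⟨h6, fun t ht => ?_⟩
    rw [h6, ← e3, ← card_isConj_eq_index] at h4
    exact (Set.eq_of_subset_of_ncard_le sub (Nat.eq_of_mul_eq_mul_right d0 h4).ge).ge ht
  refine ⟨fun s t a b => (key s a).2 t b, fun s hs => ⟨(key s hs).1, ?_⟩, e2⟩
  refine Nat.coprime_of_dvd fun p a b c => ?_
  have h1 := full s hs p a b
  rw [← (key s hs).1] at h1
  have h3 := Nat.mul_dvd_mul h1 c
  rw [Subgroup.card_mul_index, ← pow_succ, a.pow_dvd_iff_le_factorization g0] at h3
  omega

end Cfsg.Agent.S4478
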