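import Cfsg.Statements.S4480
import Mathlib
import Cfsg.Agent.H8.Dih2

set_option autoImplicit false
open Cfsg

namespace Cfsg.Agent.S4480

open CfsgH8 CfsgH4 CfsgH2 CfsgH3 Subgroup

theorem dvd_idx {G : Type*} [Group G] [Finite G] (χ : IrrCharacter G) {J : G} {ε : ℤ} (hε : ε = 1 ∨ ε = -1)
    (hv : χ.1 J = ε) : charDegree χ.1 ∣ (centralizer ({J} : Set G)).index := by
  have h1 := isIntegral_centralChar χ.2 J
  have h0 := (charDegree_pos χ.2).ne'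
  rw [centralChar, hv, ← coe_charDegree χ.2.isChar] at h1
  have h2 : IsIntegral ℤ (((centralizer ({J} : Set G)).index : ℚ) * ε / charDegree χ.1) := by
    rw [← isIntegral_algebraMap_iff (algebraMap ℚ ℂ).injective]; simpa using h1
  obtain ⟨n, hn⟩ := IsIntegrallyClosed.isIntegral_iff.1 h2
  rw [eq_div_iff (Nat.cast_ne_zero.2 h0)] at hn
  have h3 : n * charDegree χ.1 = (centralizer ({J} : Set G)).index * ε := by
    simp only [algebraMap_int_eq, eq_intCast] at hn; exact_mod_cast hn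
  rw [← Int.natCast_dvd_natCast]
  rcases hε with rfl | rfl
  · exact ⟨n, by linarith⟩
  · exact ⟨-n, by linarith⟩

theorem num {g c d x k : ℕ} (hx : 0 < x) (hc : 0 < c) (hd : 0 < d) (hg : g = c * k) (h1 : x ∣ k) (h2 : 2 * x + 1 ∣ k)
    (h : g * ((x + 1) * (x + 1) * (2 * x)) * d ^ 2 = 8 * (x * x * (2 * x + 1)) * c ^ 3) :
    ∃ m, 4 * c = m * d * (2 * x + 1 + 1) ∧ 8 * g = m ^ 3 * d * ((2 * x + 1) ^ 3 - (2 * x + 1)) := by
  obtain ⟨n, rfl⟩ := Nat.Coprime.mul_dvd_of_dvd_of_dvd (by simp) h1 h2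
  have h3 : ((x + 1) * d) ^ 2 * n = (2 * c) ^ 2 := by
    refine Nat.eq_of_mul_eq_mul_left (show 0 < 2 * x * x * (2 * x + 1) * c by positivity) ?_
    subst hg; linear_combination h
  obtain ⟨m, hm⟩ := (Nat.pow_dvd_pow_iff two_ne_zero).1 ⟨n, h3.symm⟩
  refine ⟨m, by linear_combination 2 * hm, ?_⟩
  rw [show (2 * x + 1) ^ 3 - (2 * x + 1) = 4 * x * (x + 1) * (2 * x + 1) from
    Nat.sub_eq_of_eq_add (by ring)]
  refine Nat.eq_of_mul_eq_mul_left (show 0 < ((x + 1) * d) ^ 2 * (2 * x) by positivity) ?_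
  have h4 : (2 * c) ^ 3 = ((x + 1) * d * m) ^ 3 := by rw [hm]
  linear_combination 8 * h + 8 * (x * x * (2 * x + 1)) * h4

/-- Same setting as the Klein-four order formula: G of order 4·g₀ (g₀ odd) with no normal 2-complement, P a Sylow 2-subgroup, J an involution of P, M over 2, principal 2-block {1, χ₁, χ₂, χ₃} with χ_i(J) = ε_i = ±1. Suppose ε₁ε₂ε₃ = −1 and ε₃ = −1, and put q = x₃ = χ₃(1). Then there is a natural number m with 4·c(J) = m·c(P)·(q + 1), and the order of G equals (m³·c(P)/4)·(q³ − q)/2, that is 8·#G = m³·c(P)·(q³ − q). -/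
theorem result {G : Type*} [Group G] [Finite G] (M : Ideal Cfsg.AlgInt) (hM : Cfsg.IsPModular 2 M) (g₀ : ℕ) (hg₀ : Odd g₀) (hG : Nat.card G = 4 * g₀) (hnc : ¬ ∃ N : Subgroup G, N.Normal ∧ Nat.card N = g₀) (P : Sylow 2 G) (J : G) (hJ : J ∈ (P : Subgroup G)) (hJ2 : orderOf J = 2) (χ₁ χ₂ χ₃ : Cfsg.IrrCharacter G) (ε₁ ε₂ ε₃ : ℤ) (hB : Cfsg.principalBlock M G = {χ : Cfsg.IrrCharacter G | (χ : G → ℂ) = (fun _ => 1) ∨ χ = χ₁ ∨ χ = χ₂ ∨ χ = χ₃}) (hdist : (χ₁ : G → ℂ) ≠ (fun _ => 1) ∧ (χ₂ : G → ℂ) ≠ (fun _ => 1) ∧ (χ₃ : G → ℂ) ≠ (fun _ => 1) ∧ χ₁ ≠ χ₂ ∧ χ₁ ≠ χ₃ ∧ χ₂ ≠ χ₃) (hε : (ε₁ = 1 ∨ ε₁ = -1) ∧ (ε₂ = 1 ∨ ε₂ = -1) ∧ (ε₃ = 1 ∨ ε₃ = -1)) (hval : (χ₁ : G → ℂ) J = ε₁ ∧ (χ₂ : G → ℂ) J = ε₂ ∧ (χ₃ : G → ℂ) J = ε₃) (hprod : ε₁ * ε₂ * ε₃ = -1) (hε₃ : ε₃ = -1) : ∃ m : ℕ, 4 * Nat.card (Subgroup.centralizer ({J} : Set G)) = m * Nat.card (Subgroup.centralizer ((P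 : Subgroup G) : Set G)) * (Cfsg.charDegree (χ₃ : G → ℂ) + 1) ∧ 8 * Nat.card G = m ^ 3 * Nat.card (Subgroup.centralizer ((P : Subgroup G) : Set G)) * (Cfsg.charDegree (χ₃ : G → ℂ) ^ 3 - Cfsg.charDegree (χ₃ : G → ℂ)) := by
  have := Fintype.ofFinite G
  have := hM.2.1
  have : Fact (Nat.Prime 2) := ⟨Nat.prime_two⟩
  have := charP_of_isPModular hM
  obtain ⟨h1, h2⟩ := klein_setup hg₀ hG hnc P
  have h : KB M P.1 J χ₁ χ₂ χ₃ ε₁ ε₂ ε₃ := ⟨IsSylowIn.of_sylow_top P, h1, h2, hJ, hJ2, hB, hdist, hε, hval⟩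
  have h3 := h.reg (g := 1) (by simp)
  rw [← coe_charDegree χ₁.2.isChar, ← coe_charDegree χ₂.2.isChar, ← coe_charDegree χ₃.2.isChar] at h3
  have h4 : 1 + ε₁ * charDegree χ₁.1 + ε₂ * charDegree χ₂.1 + ε₃ * charDegree χ₃.1 = 0 := by exact_mod_cast h3
  have p1 := charDegree_pos χ₁.2
  have p2 := charDegree_pos χ₂.2
  have p3 := charDegree_pos χ₃.2
  subst hε₃
  obtain ⟨rfl, rfl⟩ : ε₁ = 1 ∧ ε₂ = 1 := by
    obtain ⟨rfl | rfl, rfl | rfl, -⟩ := hε <;> omega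
  have h5 : charDegree χ₂.1 = charDegree χ₁.1 := by rw [charDegree, charDegree, h.deg_eq rfl rfl rfl]
  have h6 : charDegree χ₃.1 = 2 * charDegree χ₁.1 + 1 := by omega
  have h7 := h.formulaZ
  have h8 := dvd_idx χ₃ hε.2.2 hval.2.2
  rw [h6] at h8 ⊢
  refine num p1 Nat.card_pos Nat.card_pos (card_mul_index _).symm (dvd_idx χ₁ hε.1 hval.1) h8 ?_
  rw [h5, h6] at h7
  zify
  push_cast at h7
  linear_combination h7

end Cfsg.Agent.S4480
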