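import Cfsg.Statements.S4481
import Mathlib
import Cfsg.Agent.H8.Dih3

set_option autoImplicit false
open Cfsg

namespace Cfsg.Agent.S4481

open CfsgH8 CfsgH4 CfsgH2 CfsgH3 Subgroup

/-- The principal 2-block of a group with dihedral Sylow 2-subgroups. Let G be a finite group whose Sylow 2-subgroup P is dihedral of order 2^n ≥ 8, let σ be an element of P of order 2^(n−1), ζ a primitive 2^(n−1)-th root of unity, and M a maximal ideal of the algebraic integers containing 2. Then the principal 2-block consists of exactly 3 + 2^(n−2) irreducible characters, which can be labelled 1, χ₁, χ₂, χ₃ and χ^(j) for 1 ≤ j ≤ 2^(n−2) − 1 (all distinct), with signs δ₁, δ₂, δ₃ such that for 0 < λ < 2^(n−1): χ₁(σ^λ) = δ₁, χ₂(σ^λ) = δ₂(−1)^(λ+1), χ₃(σ^λ) = δ₃(−1)^(λ+1) and χ^(j)(σ^λ) = δ₁(ζ^(jλ) + ζ^(−jλ)); and for every element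 ρ of odd order and every j: 1 + δ₁χ₁(ρ) = −δ₂χ₂(ρ) − δ₃χ₃(ρ) = δ₁χ^(j)(ρ). -/
theorem result {G : Type*} [Group G] [Finite G] (M : Ideal Cfsg.AlgInt) (hM : Cfsg.IsPModular 2 M) (n : ℕ) (hn : 3 ≤ n) (P : Sylow 2 G) (hP : Nonempty ((P : Subgroup G) ≃* DihedralGroup (2 ^ (n - 1)))) (σ : G) (hσ : σ ∈ (P : Subgroup G)) (hσo : orderOf σ = 2 ^ (n - 1)) (ζ : ℂ) (hζ : IsPrimitiveRoot ζ (2 ^ (n - 1))) : Nat.card (Cfsg.principalBlock M G) = 3 + 2 ^ (n - 2) ∧ ∃ (χ₁ χ₂ χ₃ : Cfsg.IrrCharacter G) (χ' : Fin (2 ^ (n - 2) - 1) → Cfsg.IrrCharacter G) (δ₁ δ₂ δ₃ : ℤ), (δ₁ = 1 ∨ δ₁ = -1) ∧ (δ₂ = 1 ∨ δ₂ = -1) ∧ (δ₃ = 1 ∨ δ₃ = -1) ∧ Function.Injective χ' ∧ (χ₁ : G → ℂ) ≠ (fun _ => 1) ∧ (χ₂ : G → ℂ) ≠ (fun _ => 1) ∧ (χ₃ : G → ℂ) ≠ (fun _ => 1) ∧ χ₁ ≠ χ₂ ∧ χ₁ ≠ χ₃ ∧ χ₂ ≠ χ₃ ∧ (∀ j, χ' j ≠ χ₁ ∧ χ' j ≠ χ₂ ∧ χ' j ≠ χ₃ ∧ (χ' j : G → ℂ)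 ≠ (fun _ => 1)) ∧ Cfsg.principalBlock M G = {χ : Cfsg.IrrCharacter G | (χ : G → ℂ) = (fun _ => 1) ∨ χ = χ₁ ∨ χ = χ₂ ∨ χ = χ₃ ∨ ∃ j, χ = χ' j} ∧ (∀ l : ℕ, 0 < l → l < 2 ^ (n - 1) → (χ₁ : G → ℂ) (σ ^ l) = δ₁ ∧ (χ₂ : G → ℂ) (σ ^ l) = δ₂ * (-1) ^ (l + 1) ∧ (χ₃ : G → ℂ) (σ ^ l) = δ₃ * (-1) ^ (l + 1) ∧ ∀ j : Fin (2 ^ (n - 2) - 1), (χ' j : G → ℂ) (σ ^ l) = δ₁ * (ζ ^ (((j : ℕ) + 1) * l) + (ζ ^ (((j : ℕ) + 1) * l))⁻¹)) ∧ ∀ ρ : G, Odd (orderOf ρ) → ∀ j : Fin (2 ^ (n - 2) - 1), 1 + δ₁ * (χ₁ : G → ℂ) ρ = -δ₂ * (χ₂ : G → ℂ) ρ - δ₃ * (χ₃ : G → ℂ) ρ ∧ 1 + δ₁ * (χ₁ : G → ℂ) ρ = δ₁ * (χ' j : G → ℂ) ρ := by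
  classical
  have := Fintype.ofFinite G
  have := hM.2.1
  have : Fact (Nat.Prime 2) := ⟨Nat.prime_two⟩
  have := charP_of_isPModular hM
  obtain ⟨e⟩ := hP
  obtain ⟨a, b, h1, h2⟩ := exists_idx2_of_dihedral e
  obtain ⟨k, rfl⟩ : ∃ k, n = k + 3 := ⟨n - 3, by omega⟩
  have hk : 0 < 2 ^ k := by positivity
  have e1 : 2 ^ (k + 3 - 1) = 2 * (2 ^ (k + 3 - 2) - 1 + 1) := by
    rw [show k + 3 - 1 = k + 2 from rfl, show k + 3 - 2 = k + 1 from rfl, pow_succ, pow_succ]; omega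
  have e2 : 2 ^ (k + 3 - 2) = 2 * 2 ^ k := by rw [show k + 3 - 2 = k + 1 from rfl, pow_succ']
  have h3 : σ ∈ zpowers a := by_contra fun c => by
    obtain ⟨i, rfl⟩ := h1.eq_of_notMem hσ c
    have := orderOf_le_of_pow_eq_one (x := a ^ i * b) (n := 2) two_pos (by rw [pow_two, h1.mul_eq]; simp)
    omega
  have h4 : zpowers σ = zpowers a := eq_of_le_of_card_ge (zpowers_le.2 h3) (by rw [Nat.card_zpowers, Nat.card_zpowers, hσo, h2])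
  have h5 : Idx2 (closure {σ, b}) σ b (-1) 0 := idx2_closure (by
    obtain ⟨i, rfl⟩ := h3
    rw [conj_zpow_of_eq h1.conj, ← zpow_mul, mul_comm]) (by simpa using h1.sq) (h4 ▸ h1.notMem)
  rw [h5.eq_sup, h4, ← h1.eq_sup] at h5
  have h : DS P.1 σ b (2 ^ (k + 3 - 2) - 1 + 1) := ⟨IsSylowIn.of_sylow_top P, h5, hσo.trans e1⟩
  obtain ⟨χ, ξ, δ, B⟩ := h.block M (by omega) (by omega) (e1 ▸ hζ)
  have hB : principalBlock M G = {φ : IrrCharacter G | (φ : G → ℂ) = (fun _ => 1) ∨ φ = χ 0 ∨ φ = χ 1 ∨ φ = χ 2 ∨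
      ∃ j, φ = ξ j} := Set.ext fun φ => by simp [B.mem, Fin.exists_fin_succ, or_assoc]
  refine ⟨?_, χ 0, χ 1, χ 2, ξ, δ 0, δ 1, δ 2, B.sign 0, B.sign 1, B.sign 2, B.inj', B.ne1 0, B.ne1 1, B.ne1 2,
    B.inj.ne (by decide), B.inj.ne (by decide), B.inj.ne (by decide),
    fun j => ⟨B.ne 0 j, B.ne 1 j, B.ne 2 j, B.ne1' j⟩, hB,
    fun l l0 l1 => B.val l (pow_ne_one_of_lt_orderOf l0.ne' (hσo ▸ l1)), fun ρ hρ j => ?_⟩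
  · have : principalBlock M G = ↑(insert (⟨_, isIrr_one⟩ : IrrCharacter G)
        (Finset.univ.image χ ∪ Finset.univ.image ξ)) := Set.ext fun φ => by
      simp [B.mem, Subtype.ext_iff, eq_comm]
    rw [this, Nat.card_coe_set_eq, Set.ncard_coe_finset, Finset.card_insert_of_notMem (by
      simpa [Subtype.ext_iff] using ⟨B.ne1, B.ne1'⟩), Finset.card_union_of_disjoint (by
        simpa [Finset.disjoint_left] using fun k j => B.ne k j), Finset.card_image_of_injective _ B.inj,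
      Finset.card_image_of_injective _ B.inj']
    simp only [Finset.card_univ, Fintype.card_fin]
    omega
  · obtain ⟨r1, r2⟩ := B.reg ρ hρ.not_two_dvd_nat
    exact ⟨by linear_combination r1, r2 j⟩

end Cfsg.Agent.S4481
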