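import Cfsg.Statements.S4482
import Mathlib
import Cfsg.Agent.H8.Dih3

set_option autoImplicit false
open Cfsg

namespace Cfsg.Agent.S4482

open CfsgH8 CfsgH4 CfsgH2 CfsgH3 Subgroup

theorem num {g c d x j1 j2 δ : ℂ} (hδ : δ * δ = 1) (h1 : δ * x * j1 = g)
    (h2 : -(1 + δ * x) * j2 = g * 4) (h : g + j1 + j2 = 2 * c ^ 3 * d ^ 2) :
    g * (x - δ) ^ 2 = 2 * x * (x + δ) * c ^ 3 * d ^ 2 := by
  linear_combination (δ * x * (1 + δ * x)) * h - (1 + δ * x) * h1 + δ * x * h2 +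
    (g - g * x ^ 2 + 2 * x ^ 2 * c ^ 3 * d ^ 2) * hδ

/-- An order formula for groups with dihedral Sylow 2-subgroups and one class of involutions. Let G be a finite group whose Sylow 2-subgroup P = ⟨σ, τ⟩ is dihedral of order 2^n ≥ 8 (σ of order 2^(n−1), τ an involution inverting σ), let J be the central involution σ^(2^(n−2)), and suppose J, τ and στ are conjugate in G. Fix M over 2 and let χ₁ be an irreducible character in the principal 2-block taking one constant value δ₁ = ±1 at every non-identity power of σ, with χ₁ ≠ 1. Then, with x₁ = χ₁(1) and c(·) denoting orders of centralizers, x₁ ≠ δ₁ and #G · (x₁ − δ₁)² = 2·x₁(x₁ + δ₁)·c(J)³·(1/c(J, τ) + 1/c(J, στ))², where c(J, y) is the order of the joint centralizer of J and y. -/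
theorem result {G : Type*} [Group G] [Finite G] (M : Ideal Cfsg.AlgInt) (hM : Cfsg.IsPModular 2 M) (n : ℕ) (hn : 3 ≤ n) (P : Sylow 2 G) (σ τ : G) (hσ : σ ∈ (P : Subgroup G)) (hτ : τ ∈ (P : Subgroup G)) (hσo : orderOf σ = 2 ^ (n - 1)) (hτo : orderOf τ = 2) (hrel : τ * σ * τ⁻¹ = σ⁻¹) (hgen : Subgroup.closure ({σ, τ} : Set G) = (P : Subgroup G)) (hconj : IsConj (σ ^ (2 ^ (n - 2))) τ ∧ IsConj (σ ^ (2 ^ (n - 2))) (σ * τ)) (χ₁ : Cfsg.IrrCharacter G) (hχ₁ : χ₁ ∈ Cfsg.principalBlock M G) (h1 : (χ₁ : G → ℂ) ≠ (fun _ => 1)) (δ₁ : ℤ) (hδ₁ : δ₁ = 1 ∨ δ₁ = -1) (hval : ∀ l : ℕ, 0 < l → l < 2 ^ (n - 1) → (χ₁ : G → ℂ) (σ ^ l) = δ₁) : (Cfsg.charDegree (χ₁ : G → ℂ) : ℤ) ≠ δ₁ ∧ (Nat.card G : ℚ) * ((Cfsg.charDegree (χ₁ : G → ℂ) : ℚ) - δ₁) ^ 2 = 2 * (Cfsg.charDegree (χ₁ : G → ℂ) : ℚ) * ((Cfsg.charDegree (χ₁ : G → ℂ) : ℚ) + δ₁) * (Nat.card (Subgroup.centralizer ({σ ^ (2 ^ (n - 2))} : Set G)) : ℚ) ^ 3 * (1 / (Nat.card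 (Subgroup.centralizer ({σ ^ (2 ^ (n - 2)), τ} : Set G)) : ℚ) + 1 / (Nat.card (Subgroup.centralizer ({σ ^ (2 ^ (n - 2)), σ * τ} : Set G)) : ℚ)) ^ 2 := by
  classical
  have := Fintype.ofFinite G
  have := hM.2.1
  have : Fact (Nat.Prime 2) := ⟨Nat.prime_two⟩
  have := charP_of_isPModular hM
  obtain ⟨k, rfl⟩ : ∃ k, n = k + 3 := ⟨n - 3, by omega⟩
  have hk : 0 < 2 ^ k := by positivity
  obtain ⟨r, hr⟩ : ∃ r, 2 ^ (k + 3 - 2) = r + 1 := ⟨2 ^ (k + 3 - 2) - 1, by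
    have : 0 < 2 ^ (k + 3 - 2) := by positivity
    omega⟩
  have e2 : r + 1 = 2 * 2 ^ k := by rw [← hr, show k + 3 - 2 = k + 1 from rfl, pow_succ']
  have e1 : 2 ^ (k + 3 - 1) = 2 * (r + 1) := by rw [← hr, show k + 3 - 1 = k + 3 - 2 + 1 from rfl, pow_succ']
  rw [e1] at hσo hval
  rw [hr] at hconj ⊢
  have h : DS P.1 σ τ (r + 1) := ⟨IsSylowIn.of_sylow_top P, hgen ▸ idx2_closure (by simpa using hrel)
    (by simpa using mul_self_of_orderOf_two hτo) fun ⟨i, hi⟩ => by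
      have := orderOf_le_of_pow_eq_one (x := σ) (n := 2) two_pos (by
        rw [pow_two, ← eq_inv_iff_mul_eq_one, ← hrel, ← hi]; group)
      omega, hσo⟩
  have hζ := Complex.isPrimitiveRoot_exp (2 * (r + 1)) (by omega)
  generalize Complex.exp _ = ζ at hζ
  have hζ0 := hζ.ne_zero (by omega)
  obtain ⟨χ, ξ, δ, B⟩ := h.block M (by omega) (by omega) hζ
  have sq : ∀ ε : ℤ, ε = 1 ∨ ε = -1 → (ε : ℂ) * ε = 1 := by rintro _ (rfl | rfl) <;> simp
  have nl : ∀ l, 0 < l → l < 2 * (r + 1) → σ ^ l ≠ 1 := fun l a b => pow_ne_one_of_lt_orderOf a.ne' (hσo ▸ b)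
  have v := fun l a b => And.intro (hval l a b) (B.val l (nl l a b))
  obtain ⟨v1, w1, w2, w3, w4⟩ := v 1 (by omega) (by omega)
  obtain ⟨v2, -, u2, u3, -⟩ := v 2 (by omega) (by omega)
  obtain ⟨v3, -, -, -, u4⟩ := v 3 (by omega) (by omega)
  have s1 := sq _ hδ₁
  obtain rfl : χ₁ = χ 0 := by
    rcases (B.mem χ₁).1 hχ₁ with c | ⟨i, rfl⟩ | ⟨j, rfl⟩
    · exact absurd c h1
    · obtain rfl | rfl | rfl : i = 0 ∨ i = 1 ∨ i = 2 := by omega
      · rfl
      · exact absurd (by linear_combination -s1 + (δ₁ / 2 : ℂ) * (w2 + u2 - v1 - v2) : (1 : ℂ) = 0) one_ne_zero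
      · exact absurd (by linear_combination -s1 + (δ₁ / 2 : ℂ) * (w3 + u3 - v1 - v2) : (1 : ℂ) = 0) one_ne_zero
    · exfalso
      have a1 := (w4 j).symm.trans v1
      have a3 := (u4 j).symm.trans v3
      rw [pow_mul, pow_one] at a1
      rw [pow_mul, ← inv_pow] at a3
      have a0 := mul_inv_cancel₀ (pow_ne_zero ((j : ℕ) + 1) hζ0)
      generalize (ζ ^ ((j : ℕ) + 1))⁻¹ = y at *
      generalize ζ ^ ((j : ℕ) + 1) = z at *
      have a4 : (3 : ℂ) * δ₁ = 0 := by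
        have b1 : z + y = δ 0 * δ₁ := by linear_combination (δ 0 : ℂ) * a1 - (z + y) * sq _ (B.sign 0)
        have b2 : (z + y) ^ 2 = 1 := by rw [b1]; linear_combination (δ₁ * δ₁ : ℂ) * sq _ (B.sign 0) + s1
        linear_combination -a3 - 2 * a1 + (δ 0 * (z + y)) * b2 - 3 * δ 0 * (z + y) * a0
      rcases hδ₁ with rfl | rfl <;> simp at a4
  obtain rfl : δ₁ = δ 0 := by exact_mod_cast v1.symm.trans w1
  let j : Fin r := ⟨0, by omega⟩
  have bξ := (B.mem (ξ j)).2 (Or.inr (Or.inr ⟨j, rfl⟩))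
  set f : G → ℂ := (fun _ => 1) + (δ 0 : ℂ) • (χ 0).1 + ((-δ 0 : ℤ) : ℂ) • (ξ j).1 with hf
  have f0 : ∀ g, ¬ 2 ∣ orderOf g → f g = 0 := fun g c => by
    simp only [hf, Pi.add_apply, Pi.smul_apply, smul_eq_mul, (B.reg g c).2 j]; simp
  have key := h.Jsum_eq (fun t ht => by
      obtain ⟨c, -, hc⟩ := exists_conj_mem_sylowIn h.syl (mem_top t) (k := 1) ht
      refine IsConj.trans ?_ (isConj_iff.2 ⟨c, rfl⟩).symm
      obtain ⟨i, hi | hi⟩ := (h.idx.mem _).1 hc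
      · rw [h.invol_eq (x := c * t * c⁻¹) (hi ▸ zpow_mem_zpowers σ i) (by rwa [orderOf_conj'])]
      · rw [hi]
        rcases Int.even_or_odd' i with ⟨l, rfl | rfl⟩
        · exact hconj.1.trans (isConj_iff.2 ⟨σ ^ l, by
            have := h.idx.conj_b 0 l
            rw [zpow_zero, one_mul] at this
            rw [this]; congr 2; ring⟩)
        · exact hconj.2.trans (isConj_iff.2 ⟨σ ^ l, by
            have := h.idx.conj_b 1 l
            rw [zpow_one] at this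
            rw [this]; congr 2; ring⟩)) (f := f)
    (fun g x => by simp only [hf, Pi.add_apply, Pi.smul_apply, (χ 0).2.classFun g x, (ξ j).2.classFun g x])
    (f0 1 (by simp)) (fun g x hx => by
      by_cases e : x = 1
      · subst e; rw [f0 g (isPPart_one_iff.1 hx), f0 1 (by simp)]
      · simp only [hf, Pi.add_apply, Pi.smul_apply, h.ppart hχ₁ hx e, h.ppart bξ hx e])
    (ω := ζ) hζ.pow_eq_one (fun i => by
      obtain ⟨l, hl⟩ := Int.eq_ofNat_of_zero_le (Int.emod_nonneg i (b := (2 * (r + 1) : ℕ)) (by omega))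
      have a1 : σ ^ i = σ ^ l := by rw [← zpow_mod_orderOf, hσo, hl, zpow_natCast]
      have a2 : ζ ^ i = ζ ^ l := by
        rw [← Int.emod_add_mul_ediv i (2 * (r + 1) : ℕ), zpow_add₀ hζ0, zpow_mul, zpow_natCast, hζ.pow_eq_one, hl]
        simp
      rw [zpow_neg, a1, a2]
      by_cases e : σ ^ l = 1
      · rw [e, f0 1 (by simp), (hζ.pow_eq_one_iff_dvd l).2 (hσo ▸ orderOf_dvd_of_pow_eq_one e)]; norm_num
      · obtain ⟨b1, -, -, b2⟩ := B.val l e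
        simp only [hf, Pi.add_apply, Pi.smul_apply, smul_eq_mul, b1, b2, j, zero_add, one_mul]
        push_cast
        linear_combination (1 - ζ ^ l - (ζ ^ l)⁻¹) * s1)
    (Or.inl (hζ.pow_ne_one_of_pos_of_lt two_ne_zero (by omega)))
  rw [hf, Jsum_add, Jsum_add, Jsum_one] at key
  obtain ⟨b1, -, -, b2⟩ := B.val (r + 1) (ne_one_of_orderOf_two h.ordJ)
  have hm : ζ ^ (r + 1) = -1 := (hζ.pow (by omega) (mul_comm _ _)).eq_neg_one_of_two_right
  have hδ' : -δ 0 = 1 ∨ -δ 0 = -1 := by omega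
  have c0 := (B.reg 1 (by simp)).2 j
  have c1 := Jsum_dirr (σ ^ (r + 1)) (dirr_sign (χ 0).2 hδ₁)
  have c2 := Jsum_dirr (σ ^ (r + 1)) (dirr_sign (ξ j).2 hδ')
  simp only [Pi.smul_apply, smul_eq_mul, b1, b2, j, zero_add, one_mul, hm, s1, mul_one] at c1 c2
  have fin := num s1 c1 (by
    rw [c0, ← neg_mul, ← Int.cast_neg, c2]; push_cast
    linear_combination 4 * (Nat.card G : ℂ) * (δ 0 * δ 0 + 1) * s1) key
  rw [← coe_charDegree (χ 0).2.isChar] at fin c0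
  have fin' : (Nat.card G : ℚ) * ((charDegree (χ 0).1 : ℚ) - δ 0) ^ 2 = 2 * (charDegree (χ 0).1 : ℚ) *
      ((charDegree (χ 0).1 : ℚ) + δ 0) * (Nat.card (centralizer ({σ ^ (r + 1)} : Set G)) : ℚ) ^ 3 *
      (1 / (Nat.card (centralizer ({σ ^ (r + 1), τ} : Set G)) : ℚ) +
        1 / (Nat.card (centralizer ({σ ^ (r + 1), σ * τ} : Set G)) : ℚ)) ^ 2 := by
    apply Rat.cast_injective (α := ℂ); push_cast; exact fin
  refine ⟨fun c => ?_, fin'⟩
  have c' : (charDegree (χ 0).1 : ℚ) = δ 0 := by exact_mod_cast c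
  have p0 : (0 : ℚ) < charDegree (χ 0).1 := by exact_mod_cast charDegree_pos (χ 0).2
  have p1 : ∀ H : Subgroup G, (0 : ℚ) < Nat.card H := fun H => by exact_mod_cast Nat.card_pos
  rw [← c', sub_self, zero_pow two_ne_zero, mul_zero] at fin'
  have := p1 (centralizer ({σ ^ (r + 1)} : Set G))
  have := p1 (centralizer ({σ ^ (r + 1), τ} : Set G))
  have := p1 (centralizer ({σ ^ (r + 1), σ * τ} : Set G))
  exact absurd fin' (by positivity : (0 : ℚ) < _).ne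

end Cfsg.Agent.S4482
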