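import Cfsg.Statements.S4483
import Cfsg.Agent.H4.Reg2

set_option autoImplicit false
open Cfsg

namespace Cfsg.Agent.S4483

open CfsgH4 CfsgH3 CfsgH2 MonoidAlgebra

/-- Let G be a finite group of order 2^n·g₀ with g₀ odd, and M a maximal ideal of the algebraic integers containing 2. Every real-valued irreducible character of G of odd degree lies in the principal 2-block; consequently G has at most 2^(2n) real-valued irreducible characters of odd degree. -/
theorem result {G : Type*} [Group G] [Finite G] (M : Ideal Cfsg.AlgInt) (hM : Cfsg.IsPModular 2 M) : (∀ χ : Cfsg.IrrCharacter G, (∀ g : G, ((χ : G → ℂ) g).im = 0) → Odd (Cfsg.charDegree (χ : G → ℂ)) → χ ∈ Cfsg.principalBlock M G) ∧ Nat.card {χ : Cfsg.IrrCharacter G // (∀ g : G, ((χ : G → ℂ) g).im = 0) ∧ Odd (Cfsg.charDegree (χ : G → ℂ))} ≤ 2 ^ (2 * (Nat.card G).factorization 2) := by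
  have := hM.2.1
  have := charP_of_isPModular hM
  have h1 : ∀ χ : IrrCharacter G, (∀ g : G, ((χ : G → ℂ) g).im = 0) →
      Odd (charDegree (χ : G → ℂ)) → χ ∈ principalBlock M G := by
    intro χ h hodd
    refine mem_principal_of_two (isPBlock_blockOf χ) (mem_blockOf_self χ) (mem_blockOf_self χ)
      (by rw [Nat.odd_iff] at hodd; omega) fun g _ => ?_
    rw [χ.2.isChar.apply_inv, eq_comm, Complex.conj_eq_iff_im, h]
  refine ⟨h1, ?_⟩
  have h2 := card_le_pow (p := 2) (isPBlock_principal (M := M) (G := G))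
  rw [blockDefect_principal] at h2
  refine le_trans ?_ h2
  exact Nat.card_le_card_of_injective (fun χ => ⟨χ.1, h1 _ χ.2.1 χ.2.2⟩)
    fun a b h => Subtype.ext (Subtype.mk.inj h)

end Cfsg.Agent.S4483
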