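import Cfsg.Statements.S4485
import Mathlib
import Cfsg.Agent.H8.TI2

set_option autoImplicit false
open Cfsg

namespace Cfsg.Agent.S4485

open CfsgH8 Subgroup CfsgH4 CfsgH3 TI
open scoped commutatorElement

/-- Let G be a finite group and p a prime dividing its order such that every non-identity element of a Sylow p-subgroup P has the same centralizer as P itself (so P is abelian); let p^n be the order of P. If G has a faithful character of degree x with x² < p^n − 1, then P is normal in G. -/
theorem result {G : Type*} [Group G] [Finite G] (p : ℕ) (hp : p.Prime) (hpG : p ∣ Nat.card G) (P : Sylow p G) (hstar : ∀ x ∈ (P : Subgroup G), x ≠ 1 → Subgroup.centralizer ({x} : Set G) = Subgroup.centralizer ((P : Subgroup G) : Set G)) (n : ℕ) (hn : Nat.card P = p ^ n) (χ : G → ℂ) (hχ : Cfsg.IsCharacter G χ) (hfaith : ∀ g : G, χ g = χ 1 → g = 1) (hdeg : Cfsg.charDegree χ ^ 2 + 1 < p ^ n) : (P : Subgroup G).Normal := by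
  have := Fintype.ofFinite G
  have := Fact.mk hp
  let H := normalClosure (P.1 : Set G)
  have hP : P.1 ≤ H := subset_normalClosure
  letI := Fintype.ofFinite H
  have : TIc (P.subtype hP) := ⟨fun y hy h1 => by
    refine le_antisymm (fun g hg z hz => Subtype.ext ?_) (centralizer_le (Set.singleton_subset_iff.mpr hy))
    exact (hstar y hy fun e => h1 (Subtype.ext e)).le (mem_centralizer_singleton_iff.mpr
      (congrArg Subtype.val (mem_centralizer_singleton_iff.mp hg))) z hz⟩
  have h1 : ∀ c ∈ commutator H, χ c = χ (1 : H) := fun c hc => apply_eq_of_constituents (hχ.restrict H) fun ψ hψ h => by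
    refine apply_commutator_of_deg_one hψ.isChar ?_ hc
    rcases eq_or_ne (⟨ψ, hψ⟩ : IrrCharacter H) (i1 H) with e | e
    · exact congrFun (congrArg Subtype.val e) 1
    have h2 := (hχ.restrict H).deg_le_of_constituent hψ h (coe_charDegree hχ).symm (deg_spec ⟨ψ, hψ⟩)
    exact (deg_spec ⟨ψ, hψ⟩).trans (by rw [(linear_of_small (top_of_ncl P) e (by
      rw [show Nat.card (P.subtype hP).1 = p ^ n from (Nat.card_congr (subgroupOfEquivOfLe hP).toEquiv).trans hn]
      nlinarith)).2, Nat.cast_one])
  have h2 : H ≤ normalizer P.1 := fun g hg => centralizer_le_normalizer _ fun y hy => mul_inv_eq_iff_eq_mul.mp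
    (mul_inv_eq_one.mp (hfaith _ (h1 ⁅⟨y, hP hy⟩, ⟨g, hg⟩⁆ (commutator_mem_commutator (mem_top _) (mem_top _)))))
  exact normalizer_eq_top_iff.mp ((sup_eq_left.mpr h2).symm.trans (P.normalizer_sup_eq_top' hP))

end Cfsg.Agent.S4485
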