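import Cfsg.Statements.S4490
import Cfsg.Agent.H4.Reg2

set_option autoImplicit false
open Cfsg

namespace Cfsg.Agent.S4490

open CfsgH4 CfsgH3 CfsgH2 MonoidAlgebra

/-- Let G be a finite group and M a maximal ideal of the algebraic integers containing 2. Every 2-block B of G whose defect groups are the Sylow 2-subgroups of G (a block of full defect) and which is not the principal block is different from its complex-conjugate block, the block formed by the complex conjugates of the members of B. -/
theorem result {G : Type*} [Group G] [Finite G] (M : Ideal Cfsg.AlgInt) (hM : Cfsg.IsPModular 2 M) (B : Set (Cfsg.IrrCharacter G)) (hB : Cfsg.IsPBlock M B) (P : Sylow 2 G) (hfull : Cfsg.IsDefectGroup 2 M B (P : Subgroup G)) (hnp : B ≠ Cfsg.principalBlock M G) : {ψ : Cfsg.IrrCharacter G | ∃ χ ∈ B, (ψ : G → ℂ) = fun g => (starRingEnd ℂ) ((χ : G → ℂ) g)} ≠ B := by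
  have := hM.2.1
  have := charP_of_isPModular hM
  intro h
  obtain ⟨χ, hχ, hodd⟩ := exists_not_dvd_of_full (block_nonempty hB) (blockDefect_of_sylow hB P hfull)
  have h1 : (⟨_, χ.2.conj_char⟩ : IrrCharacter G) ∈ B := by
    rw [← h]; exact ⟨χ, hχ, rfl⟩
  exact hnp (block_eq_of_mem hB isPBlock_principal hχ
    (mem_principal_of_two hB hχ h1 hodd fun g _ => (χ.2.isChar.apply_inv g).symm))

end Cfsg.Agent.S4490
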