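import Cfsg.Statements.S4493
import Cfsg.Agent.H4.Ord4

set_option autoImplicit false
open Cfsg

namespace Cfsg.Agent.S4493

open CfsgH4 CfsgH3

/-- Let G be a finite solvable group and p a prime. Then G has a normal abelian Sylow p-subgroup if and only if no irreducible character degree of G is divisible by p. -/
theorem result {G : Type*} [Group G] [Finite G] (hsolv : Group.IsSolvable G) (p : ℕ) (hp : p.Prime) : (∃ P : Subgroup G, P.Normal ∧ (∀ x ∈ P, ∀ y ∈ P, x * y = y * x) ∧ IsPGroup p P ∧ ¬ p ∣ P.index) ↔ ∀ χ : Cfsg.IrrCharacter G, ¬ p ∣ Cfsg.charDegree (χ : G → ℂ) := by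
  have := Fact.mk hp
  constructor
  · rintro ⟨P, h1, h2, -, h4⟩ χ h
    exact h4 (h.trans (deg_dvd_index_of_abelian χ.2 (coe_charDegree χ.2.isChar).symm h2))
  · intro h
    obtain ⟨P⟩ : Nonempty (Sylow p G) := inferInstance
    have hn := normal_sylow_of_not_dvd _ G le_rfl CfsgH1.isPSolvable_of_isSolvable
      (fun χ hχ => h ⟨χ, hχ⟩) P
    exact ⟨P, hn, fun x hx y hy => congrArg Subtype.val
      (comm_of_normal_of_not_dvd hp P.2 (fun χ hχ => h ⟨χ, hχ⟩) ⟨x, hx⟩ ⟨y, hy⟩), P.2, P.not_dvd_index⟩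

end Cfsg.Agent.S4493
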