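import Cfsg.Statements.S4496
import Mathlib
import Cfsg.Agent.H8.Def3e

set_option autoImplicit false
open Cfsg

namespace Cfsg.Agent.S4496

open CfsgH8 Subgroup

/-- Let the finite group G contain an element x of prime order p with C_G(x) = ⟨x⟩. Then: (a) every normal subgroup of order divisible by p contains the commutator subgroup; (b) every normal subgroup S of order prime to p has order dividing the number of subgroups of order p of G and congruent to 1 modulo p, and in G/S the image of x again has prime order p and commutes only with its own powers. -/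
theorem result {G : Type*} [Group G] [Finite G] (p : ℕ) (hp : p.Prime) (x : G) (hx : orderOf x = p) (hC : Subgroup.centralizer ({x} : Set G) = Subgroup.zpowers x) (S : Subgroup G) [S.Normal] : (p ∣ Nat.card S → commutator G ≤ S) ∧ (¬ p ∣ Nat.card S → Nat.card S ∣ Nat.card {H : Subgroup G // Nat.card H = p} ∧ Nat.card S % p = 1 ∧ orderOf (QuotientGroup.mk x : G ⧸ S) = p ∧ Subgroup.centralizer ({(QuotientGroup.mk x : G ⧸ S)} : Set (G ⧸ S)) = Subgroup.zpowers (QuotientGroup.mk x : G ⧸ S)) := by
  have := Fintype.ofFinite G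
  have := Fact.mk hp
  obtain ⟨P, _, hP, hC'⟩ := exists_sc hx hC
  have xP : x ∈ P.1 := hP ▸ mem_zpowers x
  have x1 : x ≠ 1 := by rintro rfl; exact hp.one_lt.ne (by simpa using hx)
  refine ⟨fun h => comm_le_sc hC' (le_of_dvd_card h), fun h => ⟨card_subp P ▸ ⟨_, (card_mul_index_sc hC' h).symm⟩,
    card_mod_sc hC' h, ?_, le_antisymm (fun g hg => ?_) (zpowers_le.mpr (mem_centralizer_singleton_iff.mpr rfl))⟩⟩
  · refine orderOf_eq_prime (by rw [← QuotientGroup.mk_pow, ← hx, pow_orderOf_eq_one]; rfl) fun e => ?_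
    exact x1 (disjoint_def.mp (disj_P h) ((QuotientGroup.eq_one_iff x).mp e) xP)
  · obtain ⟨g, rfl⟩ := QuotientGroup.mk_surjective g
    obtain ⟨t, ht, e⟩ := exists_conj_of_reg hC' h xP x1 (s := g * x * g⁻¹ * x⁻¹) ((QuotientGroup.eq_one_iff _).mp (by
      simp [mem_centralizer_singleton_iff.mp hg]))
    obtain ⟨k, hk⟩ : t⁻¹ * g ∈ zpowers x := hC ▸ mem_centralizer_singleton_iff.mpr (by
      calc t⁻¹ * g * x = t⁻¹ * (g * x * g⁻¹ * x⁻¹ * x) * g := by group
        _ = _ := by rw [← e]; group)
    exact ⟨k, by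
      rw [← mul_inv_cancel_left t g, ← hk]; simp [(QuotientGroup.eq_one_iff t).mpr ht]⟩

end Cfsg.Agent.S4496
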