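import Cfsg.Statements.S4497
import Mathlib
import Cfsg.Agent.H8.Def3e

set_option autoImplicit false
open Cfsg

namespace Cfsg.Agent.S4497

open CfsgH8 Subgroup

/-- Let the finite group G contain an element x of prime order p with C_G(x) = ⟨x⟩, let t be the number of conjugacy classes of elements of order p, and let S* = O_{p′}(G) be the largest normal subgroup of order prime to p. Then S* ≤ G′; if t ≠ p − 1 the quotient G′/S* is simple (in particular non-trivial); if t = p − 1 then G′ = S*. -/
theorem result {G : Type*} [Group G] [Finite G] (p : ℕ) (hp : p.Prime) (x : G) (hx : orderOf x = p) (hC : Subgroup.centralizer ({x} : Set G) = Subgroup.zpowers x) (t : ℕ) (ht : Nat.card {C : ConjClasses G // ∃ g ∈ C.carrier, orderOf g = p} = t) : Cfsg.pPrimeCore p G ≤ commutator G ∧ (t ≠ p - 1 → ∀ h : ((Cfsg.pPrimeCore p G).subgroupOf (commutator G)).Normal, IsSimpleGroup (↥(commutator G) ⧸ (Cfsg.pPrimeCore p G).subgroupOf (commutator G))) ∧ (t = p - 1 → commutator G = Cfsg.pPrimeCore p G) := by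
  have := Fintype.ofFinite G
  have := Fact.mk hp
  obtain ⟨P, hO, -, hC'⟩ := exists_sc hx hC
  have h1 := ht ▸ card_cls P
  have p2 := hp.two_le
  have h0 := hp.coprime_iff_not_dvd.mp (CfsgH1.coprime_card_pPrimeCore p G).symm
  refine ⟨le_comm_sc hC' h0, fun h _ => ?_, fun h => (index_comm_of_one hC' ?_).2.1⟩
  · have h2 := P_le_comm (P := P) fun e => h (by rwa [e, mul_one] at h1)
    obtain ⟨y, hy, y1⟩ := O1.exists_gen P
    have : Nontrivial (commutator G ⧸ (pPrimeCore p G).subgroupOf (commutator G)) := ⟨(⟨y, h2 hy⟩ : commutator G), 1,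
      fun e => y1 (disjoint_def.mp (disj_P h0) ((QuotientGroup.eq_one_iff (⟨y, h2 hy⟩ : commutator G)).mp e) hy)⟩
    refine ⟨fun M hM => ?_⟩
    have h3 := hM.comap (QuotientGroup.mk' ((pPrimeCore p G).subgroupOf (commutator G)))
    set K := M.comap (QuotientGroup.mk' ((pPrimeCore p G).subgroupOf (commutator G)))
    by_cases h4 : p ∣ Nat.card K
    · have : O1 (P.subtype h2) := ⟨(Nat.card_congr (subgroupOfEquivOfLe h2).toEquiv).trans hO.card⟩
      letI := Fintype.ofFinite (commutator G)
      have h5 := le_of_dvd_card (P := P.subtype h2) h4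
      have h6 := comm_le_of_norm hC' (M := K.map (commutator G).subtype) (by
        simpa [normalizer_eq_top, ← MonoidHom.range_eq_map] using le_normalizer_map (H := K) (commutator G).subtype)
        (fun g hg => ⟨⟨g, h2 hg⟩, h5 hg, rfl⟩) h2
      refine Or.inr (eq_top_iff.mpr fun q _ => ?_)
      obtain ⟨g, rfl⟩ := QuotientGroup.mk_surjective q
      obtain ⟨g', h7, e⟩ := h6 g.2
      exact Subtype.ext e ▸ h7
    · refine Or.inl (eq_bot_iff.mpr fun q hq => ?_)
      obtain ⟨g, rfl⟩ := QuotientGroup.mk_surjective q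
      have h5 : g ∈ pPrimeCore p (commutator G) := CfsgH1.le_pPrimeCore (hp.coprime_iff_not_dvd.mpr h4).symm hq
      exact (QuotientGroup.eq_one_iff _).mpr (CfsgH1.le_pPrimeCore (N := (pPrimeCore p (commutator G)).map (commutator G).subtype)
        (by rw [card_map_of_injective (subtype_injective _)]; exact CfsgH1.coprime_card_pPrimeCore _ _) ⟨g, h5, rfl⟩)
  · rw [h] at h1
    exact (Nat.mul_eq_left (by omega)).mp h1

end Cfsg.Agent.S4497
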