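import Cfsg.Statements.S4498
import Cfsg.Agent.H4.Rob2

set_option autoImplicit false
open Cfsg

namespace Cfsg.Agent.S4498

open CfsgH4 CfsgH3 CfsgH2 MonoidAlgebra

/-- Let p and q be distinct primes dividing the order of the finite group G, and suppose G has no element of order p·q. Fix maximal ideals M_p over p and M_q over q of the algebraic integers. Then the principal p-block and the principal q-block of G have a non-principal irreducible character in common. -/
theorem result {G : Type*} [Group G] [Finite G] (p q : ℕ) [Fact p.Prime] [Fact q.Prime] (hpq : p ≠ q) (hp : p ∣ Nat.card G) (hq : q ∣ Nat.card G) (hno : ∀ g : G, orderOf g ≠ p * q) (Mp Mq : Ideal Cfsg.AlgInt) (hMp : Cfsg.IsPModular p Mp) (hMq : Cfsg.IsPModular q Mq) : ∃ χ : Cfsg.IrrCharacter G, (χ : G → ℂ) ≠ (fun _ => 1) ∧ χ ∈ Cfsg.principalBlock Mp G ∧ χ ∈ Cfsg.principalBlock Mq G := by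
  have := hMp.2.1
  have := hMq.2.1
  by_contra hc
  push Not at hc
  obtain ⟨y, hy⟩ := exists_prime_orderOf_dvd_card' p hp
  have h := isIntegral_sum_inter hpq hno hMp hMq isPBlock_principal isPBlock_principal
    (y := y) (by rw [hy])
  have h1 : irrF (principalBlock Mp G ∩ principalBlock Mq G) = {⟨_, isIrr_one⟩} := by
    ext χ
    rw [mem_irrF, Finset.mem_singleton]
    refine ⟨fun h => Subtype.ext (by_contra fun h' => hc χ h' h.1 h.2), ?_⟩
    rintro rfl
    exact ⟨one_mem_principal, one_mem_principal⟩
  rw [h1, Finset.sum_singleton] at h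
  have h2 := nat_dvd_of_isIntegral_div (a := 1) (pow_ne_zero ((Nat.card G).factorization q)
    (Fact.out : q.Prime).ne_zero) (by simpa using h)
  have h3 := (Fact.out : q.Prime).factorization_pos_of_dvd (Nat.card_pos (α := G)).ne' hq
  exact (Fact.out : q.Prime).one_lt.ne' (Nat.dvd_one.1 ((dvd_pow_self q h3.ne').trans h2))

end Cfsg.Agent.S4498
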