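import Cfsg.Statements.S4506
import Cfsg.Agent.H4.Star3

set_option autoImplicit false
open Cfsg

namespace Cfsg.Agent.S4506

open CfsgH4 CfsgH3 CfsgH2 MonoidAlgebra

open scoped ComplexConjugate

@[reducible] noncomputable def galAct (G : Type*) [Group G] [Finite G] (Γ : Subgroup (RingAut ℂ)) :
    MulAction Γ (IrrCharacter G) where
  smul σ χ := ⟨fun g => σ.1 (χ.1 g), χ.2.map_ringHom (σ.1 : ℂ ≃+* ℂ).toRingHom⟩
  one_smul _ := rfl
  mul_smul _ _ _ := rfl

theorem gal_pow {G : Type*} [Group G] [Finite G] (σ : ℂ ≃+* ℂ) : ∃ k : ℕ,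
    (∀ z : ℂ, z ^ Nat.card G = 1 → σ z = z ^ k) ∧
      ∀ χ : G → ℂ, IsIrrCharacter G χ → ∀ g, σ (χ g) = χ (g ^ k) := by
  obtain ⟨k, -, hk⟩ := exists_pow_of_ringHom σ.toRingHom (Nat.card_pos (α := G)).ne'
  exact ⟨k, hk, fun χ hχ g => hχ.isGen.map_eq_apply_pow (σ := σ.toRingHom)
    fun z hz => hk z (pow_eq_one_of_dvd hz (orderOf_dvd_natCard g))⟩

theorem pow_fix {G : Type*} [Group G] [Finite G] (ζ : ℂ) (χ : IrrCharacter G) {r : ℕ}
    (hr : Nat.card {ψ : IrrCharacter G // ∃ σ : ℂ ≃+* ℂ, σ ζ = ζ ∧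
      (ψ : G → ℂ) = fun g => σ ((χ : G → ℂ) g)} = r) (σ : RingAut ℂ) (hσ : σ ζ = ζ) (g : G) :
    (σ ^ r) (χ.1 g) = χ.1 g := by
  let Γ : Subgroup (RingAut ℂ) := MulAction.stabilizer (RingAut ℂ) ζ
  letI := galAct G Γ
  have hcomm : ∀ (a b : Γ) (ψ : IrrCharacter G), a • b • ψ = b • a • ψ := by
    intro a b ψ
    obtain ⟨k, -, hk⟩ := gal_pow (G := G) a.1
    obtain ⟨l, -, hl⟩ := gal_pow (G := G) b.1
    refine Subtype.ext (funext fun g => ?_)
    change a.1 (b.1 (ψ.1 g)) = b.1 (a.1 (ψ.1 g))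
    rw [hl _ ψ.2, hk _ ψ.2, hk _ ψ.2, hl _ ψ.2, ← pow_mul, ← pow_mul, mul_comm]
  have : (MulAction.stabilizer Γ χ).Normal := ⟨fun t ht s => by
    rw [MulAction.mem_stabilizer_iff] at ht ⊢
    rw [mul_smul, mul_smul, hcomm t, ht, smul_inv_smul]⟩
  have hi : (MulAction.stabilizer Γ χ).index = r := by
    rw [MulAction.index_stabilizer, ← hr, ← Nat.card_coe_set_eq]
    refine Nat.card_congr (Equiv.subtypeEquivRight fun ψ => ?_)
    constructor
    · rintro ⟨s, rfl⟩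
      exact ⟨s.1, s.2, rfl⟩
    · rintro ⟨s, hs, e⟩
      exact ⟨⟨s, hs⟩, Subtype.ext e.symm⟩
  have h1 := Subgroup.pow_index_mem (MulAction.stabilizer Γ χ) ⟨σ, hσ⟩
  rw [hi, MulAction.mem_stabilizer_iff] at h1
  exact congrFun (congrArg Subtype.val h1) g

/-- Let G be a finite group, p a prime, p^a the p-part of the order of G and g′ its p′-part. Call two irreducible characters p-conjugate when one is obtained from the other by applying a field automorphism of ℂ that fixes the g′-th roots of unity, and let r be the number of characters p-conjugate to the irreducible character χ (χ included). Then the exponent of p in r·χ(1) is at most a; and if p^a divides r·χ(1) then p^a already divides χ(1). -/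
theorem result {G : Type*} [Group G] [Finite G] (p : ℕ) (hp : p.Prime) (χ : Cfsg.IrrCharacter G) (r : ℕ) (hr : Nat.card {ψ : Cfsg.IrrCharacter G // ∃ σ : ℂ ≃+* ℂ, σ (Complex.exp (2 * Real.pi * Complex.I / ((Nat.card G / p ^ (Nat.card G).factorization p) : ℕ))) = Complex.exp (2 * Real.pi * Complex.I / ((Nat.card G / p ^ (Nat.card G).factorization p) : ℕ)) ∧ (ψ : G → ℂ) = fun g => σ ((χ : G → ℂ) g)} = r) : (r * Cfsg.charDegree (χ : G → ℂ)).factorization p ≤ (Nat.card G).factorization p ∧ (p ^ (Nat.card G).factorization p ∣ r * Cfsg.charDegree (χ : G → ℂ) → p ^ (Nat.card G).factorization p ∣ Cfsg.charDegree (χ : G → ℂ)) := by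
  classical
  have := Fact.mk hp
  have := Fintype.ofFinite G
  have hn0 : Nat.card G ≠ 0 := Nat.card_pos.ne'
  have hg0 : Nat.card G / p ^ (Nat.card G).factorization p ≠ 0 := (Nat.ordCompl_pos p hn0).ne'
  have hζ := Complex.isPrimitiveRoot_exp _ hg0
  generalize Complex.exp (2 * Real.pi * Complex.I /
    ((Nat.card G / p ^ (Nat.card G).factorization p) : ℕ)) = ζ at hr hζ
  have hreg : ∀ (σ : ℂ ≃+* ℂ) (k : ℕ), σ ζ = ζ → (∀ z : ℂ, z ^ Nat.card G = 1 → σ z = z ^ k) →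
      ∀ g : G, ¬ p ∣ orderOf g → g ^ k = g := by
    intro σ k h1 h2 g hg
    have h3 : ζ ^ k = ζ ^ 1 := by
      rw [← h2 ζ (pow_eq_one_of_dvd hζ.pow_eq_one (Nat.ordCompl_dvd _ p)), h1, pow_one]
    have h4 : k ≡ 1 [MOD Nat.card G / p ^ (Nat.card G).factorization p] := by
      have hfin : IsOfFinOrder ζ := isOfFinOrder_iff_pow_eq_one.2 ⟨_, Nat.pos_of_ne_zero hg0,
        hζ.pow_eq_one⟩
      rw [hζ.eq_orderOf]
      exact hfin.pow_eq_pow_iff_modEq.1 h3
    have h5 : orderOf g ∣ Nat.card G / p ^ (Nat.card G).factorization p :=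
      Nat.dvd_ordCompl_of_dvd_not_dvd (orderOf_dvd_natCard g) hg
    conv_rhs => rw [← pow_one g]
    exact pow_eq_pow_iff_modEq.2 (h4.of_dvd h5)
  set T := Finset.univ.filter fun ψ : IrrCharacter G => ∃ σ : ℂ ≃+* ℂ, σ ζ = ζ ∧
      (ψ : G → ℂ) = fun g => σ ((χ : G → ℂ) g) with hT
  have hTc : T.card = r := by rw [← hr, Nat.card_eq_fintype_card, Fintype.card_subtype]
  have hχT : χ ∈ T := Finset.mem_filter.2 ⟨Finset.mem_univ _, RingEquiv.refl ℂ, rfl, rfl⟩
  have hr0 : 0 < r := hTc ▸ Finset.card_pos.2 ⟨χ, hχT⟩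
  have hm : ∀ ψ ∈ T, classInner (regPart p χ.1) ψ.1 = mR p χ.1 χ.1 := by
    intro ψ hψ
    obtain ⟨σ, h1, e⟩ := (Finset.mem_filter.1 hψ).2
    obtain ⟨k, hk, hk'⟩ := gal_pow (G := G) σ
    rw [← mR_eq_inner_irr, mR_comm]
    refine mR_congr (fun g hg => ?_) _
    rw [e]
    simp only
    rw [hk' _ χ.2, hreg σ k h1 hk g hg]
  have hff := mR_self_re (p := p) χ.2.isChar.apply_inv
  obtain ⟨c, hc⟩ := exists_int_pow_mR (p := p) χ.2.isGen χ.2
  have hnu := nu_le (p := p) χ.2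
  generalize hd : (Nat.card G).factorization p - nu p χ.1 = d at hc
  have hp0 : (p : ℂ) ^ d ≠ 0 := pow_ne_zero _ (by exact_mod_cast hp.ne_zero)
  have hmc : mR p χ.1 χ.1 = c / (p : ℂ) ^ d := by rw [eq_div_iff hp0, ← hc, mul_comm]
  have hmr : conj (mR p χ.1 χ.1) = mR p χ.1 χ.1 := conj_mR χ.2.isGen χ.2.isGen
  have hfS : classInner (regPart p χ.1) (∑ ψ ∈ T, ψ.1) = r * mR p χ.1 χ.1 := by
    rw [CfsgH3.inner_sum_right, Finset.sum_congr rfl hm, Finset.sum_const, hTc, nsmul_eq_mul]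
  have hSf : classInner (∑ ψ ∈ T, ψ.1) (regPart p χ.1) = r * mR p χ.1 χ.1 := by
    rw [← CfsgH3.inner_conj_symm, hfS, map_mul, hmr, Complex.conj_natCast]
  have hSS : classInner (∑ ψ ∈ T, ψ.1) (∑ ψ ∈ T, ψ.1) = r := by
    rw [CfsgH3.inner_sum_left, Finset.sum_congr rfl (g := fun _ => 1), Finset.sum_const, hTc,
      nsmul_eq_mul, mul_one]
    intro ψ hψ
    rw [CfsgH3.inner_sum_right]
    simp only [inner_irr]
    rw [Finset.sum_ite_eq, if_pos hψ]
  have hhh : classInner (regPart p χ.1 - mR p χ.1 χ.1 • ∑ ψ ∈ T, ψ.1)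
      (regPart p χ.1 - mR p χ.1 χ.1 • ∑ ψ ∈ T, ψ.1) =
      ((((c : ℝ) * ((p : ℝ) ^ d - r * c)) / ((p : ℝ) ^ d) ^ 2 : ℝ) : ℂ) := by
    rw [CfsgH3.inner_sub_left, CfsgH3.inner_sub_right, CfsgH3.inner_sub_right,
      CfsgH3.inner_smul_left, CfsgH3.inner_smul_left, CfsgH3.inner_smul_right,
      CfsgH3.inner_smul_right, hfS, hSf, hSS, ← hff, hmr, hmc]
    push_cast
    field_simp
    ring
  have hpd : (0 : ℝ) < (p : ℝ) ^ d := pow_pos (by exact_mod_cast hp.pos) _
  have hc0 : 0 < c := by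
    have h1 := CfsgH3.inner_self_re_nonneg (regPart p χ.1)
    have h2 : c ≠ 0 := by
      rintro rfl
      rw [hff, Int.cast_zero, zero_div, CfsgH3.inner_self_eq_zero] at hmc
      exact χ.2.one_ne_zero (by rw [← regPart_one (p := p) χ.1, hmc]; rfl)
    rw [← hff, hmc, show (c : ℂ) / (p : ℂ) ^ d = (((c : ℝ) / (p : ℝ) ^ d : ℝ) : ℂ) by push_cast; rfl,
      Complex.ofReal_re] at h1
    have h3 : (0 : ℝ) ≤ c := by
      have := mul_nonneg h1 hpd.le
      rwa [div_mul_cancel₀ _ hpd.ne'] at this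
    have h4 : 0 ≤ c := by exact_mod_cast h3
    omega
  have hle : (r : ℤ) * c ≤ p ^ d := by
    have h1 := CfsgH3.inner_self_re_nonneg (regPart p χ.1 - mR p χ.1 χ.1 • ∑ ψ ∈ T, ψ.1)
    rw [hhh, Complex.ofReal_re] at h1
    have h2 := mul_nonneg h1 (pow_pos hpd 2).le
    rw [div_mul_cancel₀ _ (pow_pos hpd 2).ne'] at h2
    have h3 : (0 : ℝ) < c := by exact_mod_cast hc0
    have h4 := nonneg_of_mul_nonneg_right h2 h3
    have h5 : (r : ℝ) * c ≤ p ^ d := by linarith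
    exact_mod_cast h5
  have hrd : r ≤ p ^ d := by
    have : (r : ℤ) ≤ p ^ d := by nlinarith
    exact_mod_cast this
  have hfac : r.factorization p ≤ d :=
    (Nat.pow_le_pow_iff_right hp.one_lt).1 ((Nat.ordProj_le p hr0.ne').trans hrd)
  have hdeg := (charDegree_pos χ.2).ne'
  have hmul : (r * charDegree χ.1).factorization p = r.factorization p + nu p χ.1 := by
    rw [Nat.factorization_mul hr0.ne' hdeg]; rfl
  refine ⟨by omega, fun h => ?_⟩
  rw [hp.pow_dvd_iff_le_factorization (mul_ne_zero hr0.ne' hdeg), hmul] at h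
  rw [hp.pow_dvd_iff_le_factorization hdeg]
  change _ ≤ nu p χ.1
  by_contra hlt
  have hrp : r = p ^ d :=
    le_antisymm hrd (Nat.le_of_dvd hr0 ((hp.pow_dvd_iff_le_factorization hr0.ne').2 (by omega)))
  have hc1 : c = 1 := by
    have h1 : (r : ℤ) = p ^ d := by exact_mod_cast hrp
    have h2 : (0 : ℤ) < r := by exact_mod_cast hr0
    rw [← h1] at hle
    nlinarith
  have hz : regPart p χ.1 = mR p χ.1 χ.1 • ∑ ψ ∈ T, ψ.1 := by
    rw [← sub_eq_zero, ← CfsgH3.inner_self_eq_zero, hhh, hc1, hrp]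
    simp
  obtain ⟨M, hM⟩ := CfsgH4.exists_isPModular p
  have := hM.2.1
  have := charP_of_isPModular hM
  have hB := isPBlock_blockOf (M := M) χ
  obtain ⟨D, hD⟩ := exists_isDefectGroup (p := p) hB
  obtain ⟨e, he⟩ := ((isDefectGroup_iff hB).1 hD).exists_mp (isPrim_bId hB)
  have hD1 : D ≠ ⊥ := by
    intro e
    have h1 := card_defectGroup hB hD
    rw [e, Subgroup.card_bot, defect_eq_height_add (mem_blockOf_self χ), eq_comm,
      Nat.pow_eq_one] at h1
    have := hp.one_lt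
    omega
  obtain ⟨u, hu, u1, hup, huc⟩ := exists_central_of_ne_bot he.bp.pgroup le_rfl Subgroup.le_normalizer hD1
  obtain ⟨x, ⟨y, rfl, hxy, -, hy⟩, hx⟩ := he.exists_ne_zero_major hB hu huc (mem_blockOf_self χ)
  have hou : orderOf u = p := orderOf_eq_prime hup u1
  have hdvd : p ∣ orderOf (u * y) := by
    rw [hxy.orderOf_mul_eq_mul_orderOf_of_coprime (hou ▸ (hp.coprime_iff_not_dvd.2 hy)), hou]
    exact dvd_mul_right _ _
  have h1 := congrFun hz (u * y)
  rw [regPart_of_dvd _ hdvd, Pi.smul_apply, Finset.sum_apply,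
    Finset.sum_congr rfl (g := fun _ => χ.1 (u * y)), Finset.sum_const, hTc, hmc, hc1] at h1
  · simp only [smul_eq_mul, nsmul_eq_mul, zero_eq_mul, div_eq_zero_iff, hp0, hx, or_false,
      Int.cast_one, one_ne_zero, false_or, mul_eq_zero, Nat.cast_eq_zero] at h1
    omega
  · intro ψ hψ
    obtain ⟨σ, h2, e⟩ := (Finset.mem_filter.1 hψ).2
    obtain ⟨k, hk, hk'⟩ := gal_pow (G := G) σ
    have h3 : ∀ (j : ℕ) (g : G), ((show RingAut ℂ from σ) ^ j) (χ.1 g) = χ.1 (g ^ k ^ j) := by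
      intro j
      induction j with
      | zero => intro g; simp
      | succ j ih =>
        intro g
        rw [pow_succ', pow_succ, pow_mul, ← hk' _ χ.2, ← ih]
        rfl
    have h4 := pow_fix ζ χ hr σ h2 (u * y)
    rw [h3] at h4
    rw [e]
    simp only
    rw [hk' _ χ.2, ← h4, hxy.mul_pow, hxy.mul_pow]
    have h5 : ∀ j, y ^ k ^ j = y := by
      intro j
      induction j with
      | zero => simp
      | succ j ih => rw [pow_succ, pow_mul, ih, hreg σ k h2 hk y hy]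
    rw [h5, hreg σ k h2 hk y hy, hrp]
    refine congrArg (fun t => χ.1 (t * y)) ?_
    rw [pow_eq_pow_iff_modEq, hou, ← ZMod.natCast_eq_natCast_iff]
    push_cast
    exact (ZMod.pow_card_pow _).symm

end Cfsg.Agent.S4506
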