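import Cfsg.Statements.S4507
import Mathlib
import Cfsg.Agent.H8.Def2d

set_option autoImplicit false
open Cfsg

namespace Cfsg.Agent.S4507

open CfsgH8 CfsgH4 CfsgH2 CfsgH3 Subgroup O1

/-- Let G be a finite group whose order g is divisible by the prime p exactly once, g′ = g/p, and fix a maximal ideal M of the algebraic integers containing p. Call two irreducible characters p-conjugate when a field automorphism of ℂ fixing the g′-th roots of unity carries one to the other. Let B be a p-block of positive defect (its defect group is a Sylow p-subgroup). Then B contains a subset Y (the exceptional family) such that: Y is a full p-conjugacy class (its members are pairwise p-conjugate and every p-conjugate of a member of Y lies in Y); every member of B outside Y is p-conjugate only to itself; the size t of Y divides p − 1 and B has exactly t + (p − 1)/t members; and there are signs δ_χ = ±1 (χ ∈ B) such that for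 every p-regular element x and every θ ∈ Y, Σ_{χ ∈ B ∖ Y} δ_χ χ(x) + δ_θ θ(x) = 0. -/
theorem result {G : Type*} [Group G] [Finite G] (p : ℕ) [Fact p.Prime] (M : Ideal Cfsg.AlgInt) (hM : Cfsg.IsPModular p M) (hdiv : p ∣ Nat.card G) (hsq : ¬ p ^ 2 ∣ Nat.card G) (B : Set (Cfsg.IrrCharacter G)) (hB : Cfsg.IsPBlock M B) (hd : 0 < Cfsg.blockDefect p B) : ∃ Y : Set (Cfsg.IrrCharacter G), Y ⊆ B ∧ Y.Nonempty ∧ (∀ θ ∈ Y, ∀ ψ : Cfsg.IrrCharacter G, (∃ σ : ℂ ≃+* ℂ, σ (Complex.exp (2 * Real.pi * Complex.I / ((Nat.card G / p ^ (Nat.card G).factorization p) : ℕ))) = Complex.exp (2 * Real.pi * Complex.I / ((Nat.card G / p ^ (Nat.card G).factorization p) : ℕ)) ∧ (ψ : G → ℂ) = fun g => σ ((θ : G → ℂ) g)) ↔ ψ ∈ Y) ∧ (∀ χ ∈ B, χ ∉ Y → ∀ ψ : Cfsg.IrrCharacter G, (∃ σ : ℂ ≃+* ℂ, σ (Complex.exp (2 * Real.pi * Complex.I / ((Nat.card G / p ^ (Nat.card G).factorization p) : ℕ))) = Complex.exp (2 * Real.pi * Complex.I / ((Nat.card G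 / p ^ (Nat.card G).factorization p) : ℕ)) ∧ (ψ : G → ℂ) = fun g => σ ((χ : G → ℂ) g)) → ψ = χ) ∧ Nat.card Y ∣ p - 1 ∧ Nat.card B = Nat.card Y + (p - 1) / Nat.card Y ∧ ∃ δ : Cfsg.IrrCharacter G → ℤ, (∀ χ ∈ B, δ χ = 1 ∨ δ χ = -1) ∧ ∀ x : G, ¬ p ∣ orderOf x → ∀ θ ∈ Y, (∑ᶠ χ ∈ B \ Y, (δ χ : ℂ) * (χ : G → ℂ) x) + (δ θ : ℂ) * (θ : G → ℂ) x = 0 := by
  classical
  have := Fintype.ofFinite G
  have := hM.2.1
  have := charP_of_isPModular hM
  have hp : p.Prime := Fact.out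
  have hf : (Nat.card G).factorization p = 1 := le_antisymm
    (by_contra fun h => hsq ((hp.pow_dvd_iff_le_factorization Nat.card_pos.ne').mpr (by omega)))
    (hp.factorization_pos_of_dvd Nat.card_pos.ne' hdiv)
  obtain ⟨D, hD⟩ := exists_isDefectGroup p hB
  obtain ⟨P, hP⟩ := ((isDefectGroup_iff hB).mp hD).pgroup.exists_le_sylow
  have : O1 P := ⟨by rw [P.card_eq_multiplicity, hf, pow_one]⟩
  obtain rfl : D = P.1 := eq_of_le_of_card_ge hP (by
    rw [O1.card, card_defectGroup hB hD]; exact Nat.le_self_pow hd.ne' p)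
  obtain ⟨θ, hk, hi⟩ := exists_root hB hD
  obtain ⟨χ₀, h0⟩ := block_nonempty hB
  obtain ⟨X, ζ, a, δ, S, h1, h2, -⟩ := exists_excT hk hi h0
  obtain ⟨u1, u2, u3⟩ := S.eq_union
  obtain ⟨g', hg'⟩ := hdiv
  have c1 : p.Coprime g' := hp.coprime_iff_not_dvd.mpr fun h => hsq (by rw [hg', pow_two]; exact mul_dvd_mul_left p h)
  have c2 : g' ≠ 0 := by rintro rfl; exact Nat.card_pos.ne' hg'
  rw [hf, pow_one, show Nat.card G / p = g' by rw [hg', Nat.mul_div_cancel_left _ hp.pos]]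
  have fx : ∀ σ : ℂ ≃+* ℂ, σ (Complex.exp (2 * Real.pi * Complex.I / g')) = Complex.exp (2 * Real.pi * Complex.I / g') →
      (∀ (χ : IrrCharacter G) g, ¬ p ∣ orderOf g → σ (χ.1 g) = χ.1 g) ∧ ∀ c, σ (θ.1 c) = θ.1 c := fun σ hσ => by
    have : NeZero g' := ⟨c2⟩
    have k1 : ∀ n : ℕ, n ∣ Nat.card G → ¬ p ∣ n → ∀ z : ℂ, z ^ n = 1 → σ z = z ^ 1 := fun n h1 h2 z hz => by
      obtain ⟨i, -, rfl⟩ := (Complex.isPrimitiveRoot_exp g' c2).eq_pow_of_pow_eq_one (pow_eq_one_of_dvd hz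
        ((hp.coprime_iff_not_dvd.mpr h2).symm.dvd_of_dvd_mul_left (hg' ▸ h1)))
      rw [map_pow, hσ, pow_one]
    refine ⟨fun χ g hg => by simpa using χ.2.isGen.map_eq_apply_pow (σ := σ) (k1 _ (_root_.orderOf_dvd_natCard g) hg),
      fun c => ?_⟩
    let y : CP P := ⟨rt P c, le_C P (rt P c).2⟩
    have k2 : ¬ p ∣ orderOf ((y⁻¹ * c : CP P) : G) := rt_eq_one.mp (by simp [y, rt_coe (c := y) (rt P c).2])
    rw [← mul_inv_cancel_left y c, θ.2.isChar.ker_mul (hk y (rt P c).2)]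
    simpa using θ.2.isGen.map_eq_apply_pow (σ := σ) (g := y⁻¹ * c)
      (k1 _ (orderOf_coe (y⁻¹ * c) ▸ _root_.orderOf_dvd_natCard _) (orderOf_coe (y⁻¹ * c) ▸ k2))
  have red : ∀ {f f' : G → ℂ}, IsClassFunction G f → IsClassFunction G f' → (∀ g, ¬ p ∣ orderOf g → f g = f' g) →
      (∀ z : CP P, p ∣ orderOf (z : G) → f z = f' z) → f = f' := fun hf hf' h1 h2 => funext fun g => by
    by_cases h : p ∣ orderOf g
    · obtain ⟨c, y, hy, h3, h4⟩ := exists_conj_ppart P h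
      rw [← hf g c, ← hf' g c]
      exact h2 ⟨_, cent hy h3 ▸ mem_centralizer_ppart h4⟩ ((isPPart_ne_one_iff h4).mp h3)
    · exact h1 g h
  have pw : ∀ (ψ : P.1 →* ℂˣ) y, (ψ y : ℂ) ^ p = 1 := fun ψ y => by
    rw [← Units.val_pow_eq_pow_val, ← map_pow, show y ^ p = 1 from
      orderOf_dvd_iff_pow_eq_one.mp ((_root_.orderOf_dvd_natCard _).trans O1.card.dvd)]; simp
  have gal : ∀ σ : ℂ ≃+* ℂ, σ (Complex.exp (2 * Real.pi * Complex.I / g')) = Complex.exp (2 * Real.pi * Complex.I / g') →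
      ∀ k, (∀ z : ℂ, z ^ p = 1 → σ z = z ^ k) → ∀ ψ (h : ψ ≠ 1) (h' : ψ ^ k ≠ 1),
      (ζ (mkT _ _ h')).1 = fun g => σ ((ζ (mkT _ ψ h)).1 g) := fun σ hσ k hk' ψ h h' =>
    red (ζ _).2.classFun ((ζ _).2.map_ringHom σ.toRingHom).classFun
      (fun g hg => ((excT hk hi).agree S _ _ hg).trans ((fx σ hσ).1 _ g hg).symm) fun z hz => by
        simp only [valYT hk hi S _ hz, map_mul, map_sum, map_intCast, map_inv₀, map_natCast, tw_apply, (fx σ hσ).2,
          hk' _ (pw _ _), MonoidHom.pow_apply, Units.val_pow_eq_pow_val]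
  have hc : Nat.card (P.1 →* ℂˣ) = p := by rw [Nat.card_eq_fintype_card, card_hom_comm, O1.card]
  have op : ∀ ψ : P.1 →* ℂˣ, ψ ≠ 1 → orderOf ψ = p := fun ψ h =>
    ((Nat.dvd_prime hp).mp ((_root_.orderOf_dvd_natCard ψ).trans hc.dvd)).resolve_left (mt orderOf_eq_one_iff.mp h)
  have e1 : B \ Set.range ζ = X := by rw [u1, Set.union_sdiff_cancel_right (Set.disjoint_iff.mp u2)]
  refine ⟨Set.range ζ, u1 ▸ Set.subset_union_right, Set.range_nonempty _, ?_, fun χ h3 h4 ψ ⟨σ, hσ, e⟩ => ?_,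
    u3 ▸ Dvd.intro _ (card_orbT _).symm, by
      rw [u3, S.card_B, h1, add_comm, card_orbT (TT θ), Nat.mul_div_cancel_left _ Fintype.card_pos],
    fun χ => if χ ∈ X then a χ else -δ, fun χ _ => ?_, ?_⟩
  · rintro _ ⟨i, rfl⟩ ψ
    rw [← mkT_out i]
    refine ⟨fun ⟨σ, hσ, e⟩ => ?_, ?_⟩
    · obtain ⟨k, h3, h4⟩ := exists_pow_of_ringHom σ.toRingHom hp.ne_zero
      refine ⟨_, Subtype.ext ((gal σ hσ k h4 _ _ fun e => ?_).trans e.symm)⟩
      exact hp.one_lt.ne' (h3.symm.eq_one_of_dvd (op _ (outT_ne_one i) ▸ orderOf_dvd_of_pow_eq_one e))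
    · rintro ⟨j, rfl⟩
      have : Fact (Nat.card (P.1 →* ℂˣ)).Prime := ⟨hc.symm ▸ hp⟩
      obtain ⟨k, h3⟩ := mem_powers_of_prime_card (g' := j.1.out) rfl (outT_ne_one i)
      obtain ⟨σ, h4, h5⟩ := exists_ringEquiv_pow_fix (k := k) hp.ne_zero c2 c1 (hp.coprime_iff_not_dvd.mpr fun h =>
        outT_ne_one j (h3.symm.trans (orderOf_dvd_iff_pow_eq_one.mp ((op _ (outT_ne_one i)).dvd.trans h)))).symm
      have h6 := h5 _ (Complex.isPrimitiveRoot_exp g' c2).pow_eq_one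
      refine ⟨σ, h6, Eq.trans ?_ (gal σ h6 k h4 _ _ (h3.trans_ne (outT_ne_one j)))⟩
      simp only at h3
      simp only [h3, mkT_out]
  · have h5 : χ ∈ X := by rw [← Finset.mem_coe, ← e1]; exact ⟨h3, h4⟩
    refine Subtype.ext (e.trans (red (χ.2.map_ringHom σ.toRingHom).classFun χ.2.classFun ((fx σ hσ).1 χ) fun z hz => ?_))
    simp only [valXT hk hi S h5 hz, map_mul, map_sum, map_intCast, map_inv₀, map_natCast, (fx σ hσ).2]
  · beta_reduce
    split_ifs with h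
    · exact h2 χ h
    · have := S.sign; omega
  · rintro x hx _ ⟨i, rfl⟩
    beta_reduce
    rw [e1, finsum_mem_coe_finset, Finset.sum_congr rfl fun χ h => by rw [if_pos h], ← relT hk hi S i hx,
      if_neg (S.disj i)]
    simp

end Cfsg.Agent.S4507
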