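import Cfsg.Statements.S4508
import Mathlib
import Cfsg.Agent.H8.Def3e

set_option autoImplicit false
open Cfsg

namespace Cfsg.Agent.S4508

open CfsgH8 Subgroup CfsgH4 CfsgH3 CfsgH3.IP

/-- Let the finite group G contain an element x of prime order p with C_G(x) = ⟨x⟩, and let t be the number of conjugacy classes of elements of order p. If G has an irreducible character of degree p − 1, then t is even or the commutator subgroup has even index. -/
theorem result {G : Type*} [Group G] [Finite G] (p : ℕ) (hp : p.Prime) (x : G) (hx : orderOf x = p) (hC : Subgroup.centralizer ({x} : Set G) = Subgroup.zpowers x) (t : ℕ) (ht : Nat.card {C : ConjClasses G // ∃ g ∈ C.carrier, orderOf g = p} = t) (χ : Cfsg.IrrCharacter G) (hχ : Cfsg.charDegree (χ : G → ℂ) + 1 = p) : Even t ∨ Even (commutator G).index := by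
  have := Fintype.ofFinite G
  have := Fact.mk hp
  obtain ⟨P, _, -, hC'⟩ := exists_sc hx hC
  have h1 := ht ▸ card_cls P
  refine (Nat.even_or_odd t).imp_right fun t2 => even_iff_two_dvd.mpr ?_
  obtain rfl | p2 := hp.eq_two_or_odd'
  · rw [(index_comm_of_one hC' (Nat.eq_one_of_mul_eq_one_left h1)).1]
  have h2 : 2 ∣ fN P := (Nat.Coprime.dvd_mul_left t2.coprime_two_left).mp (h1 ▸ (p2.tsub_odd odd_one).two_dvd)
  have h3 : χ.1 1 = p - 1 := by rw [← coe_charDegree χ.2.isChar, ← hχ]; simp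
  have h4 : fN P ≤ p - 1 := h1 ▸ Nat.le_mul_of_pos_left _ t2.pos
  have h5 : 0 < fN P := Nat.pos_of_ne_zero index_ne_zero_of_finite
  have p3 := hp.two_le
  refine even_index_comm hC' h2 h1 t2 χ.2.isChar h3 ?_
  obtain ⟨m, hm⟩ := exists_fix_nat (P := P) χ.2.isChar
  obtain ⟨X, ζ, a, δ, B⟩ := exists_PBl P
  have h6 : ∃ l : ℤ, LP P χ.1 = l ∧ (l ≤ 0 ∨ l = p - 1 ∨ l = fN P) := by
    by_cases hX : χ ∈ X
    · exact ⟨(p - 1) * a χ, by simp [B.LP_X hX], by rcases B.sg χ hX with h | h <;> rw [h] <;> omega⟩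
    by_cases hY : ∃ i, ζ i = χ
    · obtain ⟨i, rfl⟩ := hY
      exact ⟨-δ * fN P, by simp [B.LP_Y], by rcases B.sign with h | h <;> rw [h] <;> omega⟩
    · exact ⟨0, by simp [B.LP_out hC' hX (not_exists.mp hY)], Or.inl le_rfl⟩
  obtain ⟨l, h6, h7⟩ := h6
  rw [hm]
  rw [h3, h6] at hm
  have h8 : (p : ℤ) - 1 + l = p * m := by exact_mod_cast hm
  have h9 : l ≤ p - 1 := by omega
  rcases m with _ | _ | m
  · simp
  · omega
  · push_cast at h8; nlinarith

end Cfsg.Agent.S4508
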