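import Cfsg.Statements.S4509
import Mathlib
import Cfsg.Agent.H8.Def3e

set_option autoImplicit false
open Cfsg

namespace Cfsg.Agent.S4509

open CfsgH8 Subgroup CfsgH4

/-- Let the finite group G contain an element x of prime order p with C_G(x) = ⟨x⟩; let t be the number of conjugacy classes of elements of order p and 1 + n·p the number of subgroups of order p. Then G has a normal subgroup of order 1 + n·p if and only if either t = p − 1, or t < p − 1 and G″ ≠ G′. Moreover, if t = p − 1 then G′ has order 1 + n·p and G/G′ is cyclic of order p; and if t < p − 1 and G″ ≠ G′ then G″ has order 1 + n·p and G′ has order p·(1 + n·p). -/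
theorem result {G : Type*} [Group G] [Finite G] (p : ℕ) (hp : p.Prime) (x : G) (hx : orderOf x = p) (hC : Subgroup.centralizer ({x} : Set G) = Subgroup.zpowers x) (t : ℕ) (ht : Nat.card {C : ConjClasses G // ∃ g ∈ C.carrier, orderOf g = p} = t) (n : ℕ) (hn : Nat.card {H : Subgroup G // Nat.card H = p} = 1 + n * p) : ((∃ S : Subgroup G, S.Normal ∧ Nat.card S = 1 + n * p) ↔ (t = p - 1 ∨ (t < p - 1 ∧ derivedSeries G 2 ≠ derivedSeries G 1))) ∧ (t = p - 1 → Nat.card (commutator G) = 1 + n * p ∧ IsCyclic (G ⧸ commutator G) ∧ (commutator G).index = p) ∧ (t < p - 1 → derivedSeries G 2 ≠ derivedSeries G 1 → Nat.card (derivedSeries G 2) = 1 + n * p ∧ Nat.card (commutator G) = p * (1 + n * p)) := by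
  have := Fintype.ofFinite G
  have := Fact.mk hp
  obtain ⟨P, hO, -, hC'⟩ := exists_sc hx hC
  have h1 := ht ▸ card_cls P
  have p2 := hp.two_le
  rw [card_subp P] at hn
  have e0 : 0 < fN P := Nat.pos_of_ne_zero index_ne_zero_of_finite
  have t1 : t ≤ p - 1 := h1 ▸ Nat.le_mul_of_pos_right _ e0
  have k1 : t = p - 1 → fN P = 1 := fun h => (Nat.mul_eq_left (by omega)).mp (h ▸ h1)
  have k2 : t < p - 1 → P.1 ≤ commutator G := fun h => P_le_comm fun e => h.ne (by rwa [e, mul_one] at h1)
  have k3 : t < p - 1 → derivedSeries G 2 ≠ derivedSeries G 1 → Nat.card (derivedSeries G 2) = 1 + n * p ∧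
      Nat.card (commutator G) = p * (1 + n * p) := fun h h2 => by
    set K := derivedSeries G 2
    have h3 : K ≤ commutator G := commutator_le_left _ _
    have h4 : ¬ p ∣ Nat.card K := fun h => h2 (le_antisymm h3 (comm_le_sc hC' (le_of_dvd_card h)))
    have h5 : P.1 ⊔ K = commutator G := le_antisymm (sup_le (k2 h) h3) (comm_le_of_norm hC'
      (fun g hg => mem_normalizer_fintype fun z hz => by
        simpa [commutatorElement_def] using mul_mem (mem_sup_right (S := P.1) (T := K) (commutator_mem_commutator hg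
          (sup_le (k2 h) h3 hz))) hz) le_sup_left (k2 h))
    have h6 := card_mul_index_sc hC' h4
    rw [show NP P ⊔ K = ⊤ by rw [← sup_NP (k2 h), ← h5, ← sup_assoc, sup_eq_left.mpr le_normalizer], index_top,
      mul_one, hn] at h6
    have h7 := card_sup_mul_card_inf' (K := K) (D := P.1) le_normalizer_of_normal
    rw [(disj_P h4).eq_bot, card_bot, mul_one, sup_comm, h5, h6, hO.card, mul_comm] at h7
    exact ⟨h6, h7⟩
  refine ⟨⟨fun ⟨S, _, hS⟩ => t1.eq_or_lt.imp_right fun h => ⟨h, fun e => ?_⟩, fun h => ?_⟩, fun h => ?_, k3⟩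
  · have h2 : ¬ p ∣ Nat.card S := by rw [hS]; simp [Nat.dvd_add_left, hp.one_lt.ne']
    have h3 := card_mul_index_sc hC' h2
    rw [hS, hn, Nat.mul_eq_left (by omega), index_eq_one] at h3
    have h4 := comm_le_sup hC' h3
    have h5 : derivedSeries G 2 ≤ S := commutator_le.mpr fun a ha b hb => by
      obtain ⟨a, ha', x, hx, rfl⟩ := mem_sup_of_normal_right.mp (h4 ha)
      obtain ⟨b, hb', y, hy, rfl⟩ := mem_sup_of_normal_right.mp (h4 hb)
      have h1 : ∀ z ∈ S, QuotientGroup.mk' S z = 1 := fun z => (QuotientGroup.eq_one_iff z).mpr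
      refine (QuotientGroup.eq_one_iff _).mp ?_
      rw [← QuotientGroup.mk'_apply, map_commutatorElement, map_mul, map_mul, h1 x hx, h1 y hy, mul_one, mul_one,
        ← map_commutatorElement, commutatorElement_eq_one_iff_mul_comm.mpr (O1.le_C P hb' a ha'), map_one]
    exact h2 (hO.card ▸ card_dvd_of_le ((k2 h).trans (e.ge.trans h5)))
  · rcases h with h | h
    · exact ⟨_, inferInstance, (index_comm_of_one hC' (k1 h)).2.2.trans hn⟩
    · exact ⟨_, inferInstance, (k3 h.1 h.2).1⟩
  · have h2 := index_comm_of_one hC' (k1 h)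
    exact ⟨h2.2.2.trans hn, isCyclic_of_prime_card h2.1, h2.1⟩

end Cfsg.Agent.S4509
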