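import Cfsg.Statements.S4510
import Cfsg.Agent.H4.Rob

set_option autoImplicit false
open Cfsg

namespace Cfsg.Agent.S4510

open CfsgH4 CfsgH3 CfsgH2 MonoidAlgebra

/-- Let G be a finite group, p a prime, M a maximal ideal of the algebraic integers containing p, and call the defect of a conjugacy class the exponent of p in the order of the centralizer of its elements. Two irreducible characters lying in p-blocks of defect exactly d lie in the same block if and only if their central characters (class size times χ(x)/χ(1)) agree modulo the local ideal at M at every p-regular element x whose class has defect exactly d. -/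
theorem result {G : Type*} [Group G] [Finite G] (p : ℕ) [Fact p.Prime] (M : Ideal Cfsg.AlgInt) (hM : Cfsg.IsPModular p M) (d : ℕ) (χ ψ : Cfsg.IrrCharacter G) (hχ : Cfsg.blockDefect p (Cfsg.blockOf M (χ : G → ℂ)) = d) (hψ : Cfsg.blockDefect p (Cfsg.blockOf M (ψ : G → ℂ)) = d) : Cfsg.SameBlock M (χ : G → ℂ) (ψ : G → ℂ) ↔ ∀ x : G, ¬ p ∣ orderOf x → (Nat.card (Subgroup.centralizer ({x} : Set G))).factorization p = d → Cfsg.MemLocalIdeal M (Cfsg.centralChar (χ : G → ℂ) x - Cfsg.centralChar (ψ : G → ℂ) x) := by
  have := hM.2.1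
  have := charP_of_isPModular hM
  refine ⟨fun h x _ _ => h x, fun h => ?_⟩
  have hB := isPBlock_blockOf (M := M) χ
  have hB' := isPBlock_blockOf (M := M) ψ
  by_contra hne
  have hne' : blockOf M χ.1 ≠ blockOf M ψ.1 := fun h => hne (by
    have := mem_blockOf_self (M := M) ψ
    rw [← h] at this; exact this)
  have h1 := sum_reps_delta hB hB'
  have h2 := sum_reps_delta hB' hB'
  rw [if_neg hne'] at h1
  rw [if_pos rfl] at h2
  refine zero_ne_one (h1.symm.trans (Eq.trans ?_ h2))
  refine Finset.sum_congr rfl fun x _ => ?_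
  by_cases h3 : (bId M (blockOf M ψ.1)).coeff x = 0
  · rw [h3, zero_mul, zero_mul]
  congr 1
  have h4 := le_defect_of_coeff (p := p) hB' h3
  rcases h4.lt_or_eq with h5 | h5
  · have h6 : ∀ B : Set (IrrCharacter G), IsPBlock M B → blockDefect p B = d → lamC M B x = 0 := by
      intro B hB hd
      by_contra h7
      have := defect_le_of_lamC (p := p) hB h7
      omega
    rw [h6 _ hB hχ, h6 _ hB' hψ]
  · rw [lamC, lamC, lam_bId_cs hB (mem_blockOf_self χ), lam_bId_cs hB' (mem_blockOf_self ψ),
      ← memLocalIdeal_sub_iff (centralChar_mem_Loc χ.2 _) (centralChar_mem_Loc ψ.2 _)]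
    exact h x (not_dvd_of_coeff_bId hB' h3) (h5.trans hψ)

end Cfsg.Agent.S4510
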