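import Cfsg.Statements.S4512
import Cfsg.Agent.H4.Star3

set_option autoImplicit false
open Cfsg

namespace Cfsg.Agent.S4512

open CfsgH4 CfsgH3 CfsgH2 MonoidAlgebra

/-- If G is a finite group with a Sylow 2-subgroup that is a Klein four-group and a single conjugacy class of involutions, then its principal 2-block (relative to a maximal ideal M of the algebraic integers containing 2) has 2-regular rank 3: the restrictions of its irreducible characters to the elements of odd order span a space of dimension 3 (it has three irreducible Brauer characters). -/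
theorem result {G : Type*} [Group G] [Finite G] (M : Ideal Cfsg.AlgInt) (hM : Cfsg.IsPModular 2 M) (P : Sylow 2 G)
    (hP : Nat.card P = 4) (hexp : ∀ x : P, x * x = 1)
    (hone : ∀ s t : G, orderOf s = 2 → orderOf t = 2 → IsConj s t) :
    Cfsg.blockRank 2 (Cfsg.principalBlock M G) = 3 := by
  classical
  have := hM.2.1
  have := charP_of_isPModular hM
  have := Fintype.ofFinite P
  have hm := mp_principal (M := M) (IsSylowIn.of_sylow_top P)
  have h := hm.klein isPBlock_principal hP (fun x hx => congrArg Subtype.val (hexp ⟨x, hx⟩)) rfl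
  have : Nontrivial P := Finite.one_lt_card_iff_nontrivial.1 (by omega)
  obtain ⟨u, hu⟩ := exists_ne (1 : P)
  have h2 : ∀ v : P, v ≠ 1 → orderOf (v : G) = 2 := fun v hv => by
    rw [Subgroup.orderOf_coe]; exact orderOf_eq_prime (by rw [sq, hexp]) hv
  rw [h.2.2.1, ← h.2.2.2 u hu, nF, Nat.card_congr (Equiv.subtypeEquivRight
    (q := fun v => ¬ v = 1) fun v => ⟨fun h e => hu (by subst e; exact h.symm.eq_one), fun hv => ?_⟩),
    Nat.card_eq_fintype_card, Fintype.card_subtype_compl, Fintype.card_subtype_eq,
    ← Nat.card_eq_fintype_card, hP]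
  obtain ⟨g, hg⟩ := isConj_iff.1 (hone _ _ (h2 u hu) (h2 v hv))
  refine fus_of_sl (sl_principal P.isPGroup' (Subgroup.zpowers_le.2 u.2)) ?_
    (Subgroup.mem_zpowers _) hg
  rw [cjA_principal (cj_centralizer _ _)]
  exact sl_principal P.isPGroup' (by rw [cj_zpowers, hg]; exact Subgroup.zpowers_le.2 v.2)

end Cfsg.Agent.S4512
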