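import Cfsg.Statements.S4513
import Cfsg.Agent.H4.Star3

set_option autoImplicit false
open Cfsg

namespace Cfsg.Agent.S4513

open CfsgH4 CfsgH3 CfsgH2 MonoidAlgebra

/-- Blocks of defect one for p = 2. Let M be a maximal ideal of the algebraic integers containing 2, B a 2-block of the finite group G whose defect group is the subgroup generated by an involution x, C = C_G(x), b a block of C inducing B and θ a member of b taking the same value at x as at 1 (there is exactly one). Then B consists of exactly two irreducible characters, which agree on every element of odd order, and they can be labelled χ₁, χ₂ with signs ε₁, ε₂ = ±1, ε₁ε₂ = −1, such that χᵢ(x y) = εᵢ θ(y) for every element y of C of odd order. -/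
theorem result {G : Type*} [Group G] [Finite G] (M : Ideal Cfsg.AlgInt) (hM : Cfsg.IsPModular 2 M) (x : G) (hx : orderOf x = 2)
    (B : Set (Cfsg.IrrCharacter G)) (hB : Cfsg.IsPBlock M B) (hBD : Cfsg.IsDefectGroup 2 M B (Subgroup.zpowers x))
    (b : Set (Cfsg.IrrCharacter ↥(Subgroup.centralizer ({x} : Set G)))) (hb : Cfsg.IsInducedBlock M (Subgroup.centralizer ({x} : Set G)) b B)
    (θ : Cfsg.IrrCharacter ↥(Subgroup.centralizer ({x} : Set G))) (hθ : θ ∈ b)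
    (hθx : ∀ z : ↥(Subgroup.centralizer ({x} : Set G)), (z : G) = x → (θ : ↥(Subgroup.centralizer ({x} : Set G)) → ℂ) z = (θ : ↥(Subgroup.centralizer ({x} : Set G)) → ℂ) 1) :
    Nat.card B = 2 ∧ (∀ χ ∈ B, ∀ ψ ∈ B, ∀ g : G, ¬ 2 ∣ orderOf g → (χ : G → ℂ) g = (ψ : G → ℂ) g) ∧
      ∃ χ₁ ∈ B, ∃ χ₂ ∈ B, χ₁ ≠ χ₂ ∧ ∃ ε₁ ε₂ : ℤ, (ε₁ = 1 ∨ ε₁ = -1) ∧ (ε₂ = 1 ∨ ε₂ = -1) ∧ ε₁ * ε₂ = -1 ∧
        ∀ y : ↥(Subgroup.centralizer ({x} : Set G)), ¬ 2 ∣ orderOf y →
          (χ₁ : G → ℂ) (x * y) = (ε₁ : ℂ) * (θ : ↥(Subgroup.centralizer ({x} : Set G)) → ℂ) y ∧ (χ₂ : G → ℂ) (x * y) = (ε₂ : ℂ) * (θ : ↥(Subgroup.centralizer ({x} : Set G)) → ℂ) y := by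
  classical
  have := hM.2.1
  have := charP_of_isPModular hM
  have := Fintype.ofFinite G
  have := Fintype.ofFinite (Subgroup.zpowers x)
  have hx' : ∃ k, orderOf x = 2 ^ k := ⟨1, hx⟩
  have hf := mem_bps.2 (isPrim_bIdS hb.1)
  have hD := (isDefectGroup_iff hB).1 hBD
  have hm : MP 2 ⊤ (bId M B) (Subgroup.zpowers x) (bIdS M _ b) := ⟨isPrim_bId hB,
    (mem_bps_iff hx').1 hf, (blk_induced_iff hx' hf hB).1 (by rwa [blk_bIdS hb.1]), hD⟩
  let u : Subgroup.zpowers x := ⟨x, Subgroup.mem_zpowers x⟩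
  have hu : u ≠ 1 := fun h => by
    rw [show x = 1 from congrArg Subtype.val h] at hx; simp at hx
  have hP : Nat.card (Subgroup.zpowers x) = 2 := by rw [Nat.card_zpowers, hx]
  have h1 : ∀ v : Subgroup.zpowers x, v ≠ 1 → v = u := fun v hv =>
    ((Nat.card_eq_two_iff' 1).1 hP).unique hv hu
  have h2 : ∀ v : Subgroup.zpowers x, IsConj (u : G) v → v = u := fun v h => h1 v fun e => hu (by
    rw [e] at h; exact Subtype.ext (isConj_one_left.1 h))
  have hA : ∀ v w : Subgroup.zpowers x, Fus 2 (bIdS M _ b) v w → IsConj v w := fun v w h => by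
    by_cases hv : v = 1
    · subst hv; rw [h.eq_one]
    · obtain rfl := h1 v hv
      rw [h2 w h.isConj]
  have hcomm : ∀ a b : Subgroup.zpowers x, a * b = b * a := fun a b => mul_comm' a b
  obtain ⟨χ, hχ, h0⟩ := exists_height_zero (p := 2) (block_nonempty hB)
  obtain ⟨Ψ, hΨ⟩ := hm.exists_equiv hB hA hχ h0
  have hk : Nat.card (IrrCharacter (Subgroup.zpowers x)) = 2 := by
    rw [card_irr_eq_card_conjClasses, ← hP]
    exact (Nat.card_congr (Equiv.ofBijective ConjClasses.mk ⟨fun a b h => by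
      obtain ⟨c, rfl⟩ := isConj_iff.1 (ConjClasses.mk_eq_mk_iff_isConj.1 h)
      rw [hcomm c, mul_inv_cancel_right], ConjClasses.mk_surjective⟩)).symm
  have h3 : ∀ ψ ∈ B, ∀ g, ¬ 2 ∣ orderOf g → ψ.1 g = χ.1 g := fun ψ hψ g hg => by
    obtain ⟨μ, hμ⟩ := Ψ.surjective ⟨ψ, hψ⟩
    rw [← one_mul (χ.1 g), ← μ.2.deg_one_of_comm hcomm, ← hm.star_reg hB _ hχ hg, ← hΨ, hμ]
  refine ⟨by rw [← Nat.card_congr Ψ, hk], fun χ h ψ h' g hg => by rw [h3 χ h g hg, h3 ψ h' g hg], ?_⟩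
  obtain ⟨μ, hμ, -⟩ := (Nat.card_eq_two_iff' ⟨fun _ => 1, isIrr_one⟩).1 hk
  have h4 : μ.1 u = -1 := by
    have h5 := μ.2.deg_one_of_comm hcomm
    have := μ.2.isChar.map_mul_of_deg_one h5 u u
    rw [show u * u = 1 from Subtype.ext (by
      change x * x = 1; rw [← sq, ← hx, pow_orderOf_eq_one]), h5] at this
    refine (mul_self_eq_one_iff.1 this.symm).resolve_left fun h => hμ (Subtype.ext (funext fun v => ?_))
    by_cases hv : v = 1
    · rw [hv, h5]
    · rw [h1 v hv, h]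
  have hs := subEl_zc hx'
  have hfb : fb 2 _ (bIdS M _ b) x = bIdS M _ b := (SL.refl hm.bp).eq_fb.symm
  have hpi : piU 2 _ (bIdS M _ b) u = cmp 2 _ b (zc x) := by rw [piU, hfb, cA_bIdS hb.1]
  have hxC : Subgroup.zpowers x ≤ Subgroup.centralizer {x} := Subgroup.zpowers_le.2 (zc x).2
  have hZ : (Subgroup.zpowers x).subgroupOf (Subgroup.centralizer {x}) ≤ Subgroup.center _ := by
    have := center_subgroupOf (Subgroup.zpowers x)
    rwa [centralizer_zpowers, inf_eq_left.2 hxC] at this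
  have hbD := (isDef_subgroupOf_iff (b := b) hxC).2 (by
    have := hm.isDef_center_top
    rwa [centralizer_zpowers, inf_eq_left.2 hxC] at this)
  have hl := blockRank_DC (DC_of_central hZ) hb.1 hbD
  have h5 := card_mul_mR_self (DC_of_central hZ) hb.1 hbD hθ (height_zero_of_central hZ hb.1 hbD hθ)
  rw [Nat.card_congr (Subgroup.subgroupOfEquivOfLe hxC).toEquiv,
    hP] at h5
  obtain ⟨d, hd⟩ : ∃ d : ℂ, ∀ s, ¬ 2 ∣ orderOf s →
      shf (zc x) (blockPart b fun c => χ.1 c) s = d * θ.1 s := ⟨_, fun s h => by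
    rw [← bp_shf hs.central (classFun_res χ.2.classFun _), bp_of_rank_one hl hθ _ h]⟩
  have h6 := hm.xS_eq_one hB hA hχ h0 u
  rw [xS, hpi, hP, show nF 2 (bIdS M _ b) u = 1 from Nat.card_eq_one_iff_exists.2
    ⟨⟨u, Fus.refl u⟩, fun v => Subtype.ext (h2 _ v.2.isConj)⟩,
    inner_cmp_eq_mR hs (eSet_mem_SG hb.1) _ χ.2.isGen, show (zc x)⁻¹ = zc x from
      inv_eq_of_mul_eq_one_right (Subtype.ext (by
        change x * x = 1; rw [← sq, ← hx, pow_orderOf_eq_one])),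
    mR_congr (χ' := d • θ.1) hd, mR_comm, mR_congr (χ' := d • θ.1) hd, mR_smul_left,
    mR_smul_right] at h6
  have h7 : d * d = 1 := by
    simp only [Nat.cast_one, inv_one, one_mul] at h6
    linear_combination h6 - d * d * h5
  have h8 : ∀ η, ∀ y : Subgroup.centralizer {x}, ¬ 2 ∣ orderOf y →
      star 2 _ (bIdS M _ b) η χ.1 (x * y) = η u * (d * θ.1 y) := fun η y hy => by
    have := (isPPart_mul_iff hs.central hs.ord' y).2 hy
    rw [star_apply_of (u := u) (g := x * y) (isPPart_coe.2 this) h2, hpi, ← hd y hy]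
    exact congrArg _ (cmp_apply hs _ this)
  obtain ⟨ε, hε, rfl⟩ : ∃ ε : ℤ, (ε = 1 ∨ ε = -1) ∧ d = ε := by
    rcases mul_self_eq_one_iff.1 h7 with h | h
    · exact ⟨1, Or.inl rfl, by simp [h]⟩
    · exact ⟨-1, Or.inr rfl, by simp [h]⟩
  refine ⟨_, (Ψ ⟨fun _ => 1, isIrr_one⟩).2, _, (Ψ μ).2, fun h => hμ (Ψ.injective
    (Subtype.ext h)).symm, ε, -ε, hε, by omega, by rcases hε with rfl | rfl <;> rfl,
    fun y hy => ?_⟩
  rw [hΨ, hΨ, h8 _ y hy, h8 _ y hy, h4]
  simp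

end Cfsg.Agent.S4513
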