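import Cfsg.Statements.S4518
import Cfsg.Agent.H4.Ord4

set_option autoImplicit false
open Cfsg

namespace Cfsg.Agent.S4518

open CfsgH4 CfsgH3

/-- Let N be a normal subgroup of the finite group G whose index is not divisible by the prime p, and let k be coprime to the order of G with k ^ (p ^ e) ≡ 1 modulo the order of G for some e (so g ↦ g ^ k induces a field automorphism of p-power order on character values). If an irreducible character χ of G satisfies χ (g ^ k) = χ g for all g, then every irreducible constituent θ of the restriction of χ to N satisfies θ (n ^ k) = θ n for all n. -/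
theorem result {G : Type*} [Group G] [Fintype G] (p : ℕ) [Fact p.Prime] (N : Subgroup G) [N.Normal] [Fintype N] (hidx : ¬ p ∣ N.index) (k e : ℕ) (hk : Nat.Coprime k (Nat.card G)) (hke : k ^ (p ^ e) ≡ 1 [MOD Nat.card G]) (χ : Cfsg.IrrCharacter G) (hχ : ∀ g : G, (χ : G → ℂ) (g ^ k) = (χ : G → ℂ) g) (θ : Cfsg.IrrCharacter N) (hθ : Cfsg.classInner (fun n : N => (χ : G → ℂ) n) (θ : N → ℂ) ≠ 0) : ∀ n : N, (θ : N → ℂ) (n ^ k) = (θ : N → ℂ) n := by
  obtain ⟨σ, hσ⟩ := exists_ringEquiv_pow (Nat.card_pos (α := G)).ne' hk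
  have h1 : ∀ n : N, σ (θ.1 n) = θ.1 (n ^ k) := fun n =>
    θ.2.isGen.map_eq_apply_pow (σ := σ.toRingHom) fun z hz => hσ z (pow_eq_one_of_dvd hz
      ((orderOf_dvd_natCard n).trans N.card_subgroup_dvd_card))
  have h2 : ∀ g : G, σ (χ.1 g) = χ.1 g := fun g =>
    (χ.2.isGen.map_eq_apply_pow (σ := σ.toRingHom) fun z hz => hσ z (pow_eq_one_of_dvd hz
      (orderOf_dvd_natCard g))).trans (hχ g)
  have h3 := ip_map_ringHom_gen σ.toRingHom (χ.2.isGen.restrict N) θ.2.isGen
  simp only [RingEquiv.toRingHom_eq_coe, RingHom.coe_coe, h2] at h3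
  obtain ⟨g, hg⟩ := exists_cj_of_constituents χ.2 θ.2 (θ.2.map_ringHom σ.toRingHom) hθ (h3 ▸ hθ)
  have h4 : ∀ n, CfsgH3.cj g θ.1 n = θ.1 (n ^ k) := fun n => (congrFun hg n).symm.trans (h1 n)
  have h5 : ∀ j n, CfsgH3.cj (g ^ j) θ.1 n = θ.1 (n ^ k ^ j) := by
    intro j
    induction j with
    | zero => intro n; simp [cj_one]
    | succ j ih =>
      intro n
      rw [pow_succ, ← cj_cj, cj_apply, ih, pow_succ, pow_mul, ← h4, cj_apply]
      exact congrArg θ.1 (Subtype.ext (conj_pow (a := g) (b := (n : G))))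
  have h6 : g ∈ inertia θ.1 := mem_of_pow_coprime (m := p ^ e) (n := N.index) (funext fun n => by
      rw [h5, pow_eq_pow_iff_modEq.2 (hke.of_dvd
        ((orderOf_dvd_natCard n).trans N.card_subgroup_dvd_card)), pow_one])
    (le_inertia θ.2.classFun (N.pow_index_mem g))
    (Nat.Coprime.pow_left _ ((Nat.Prime.coprime_iff_not_dvd Fact.out).2 hidx))
  intro n
  rw [← h4, mem_inertia.1 h6]

end Cfsg.Agent.S4518
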