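import Cfsg.Statements.S4519
import Cfsg.Agent.H4.Ord4

set_option autoImplicit false
open Cfsg

namespace Cfsg.Agent.S4519

open CfsgH4 CfsgH3

/-- Let N be a normal subgroup of odd index in the finite group G, and let k be coprime to the order of G with k ^ (2 ^ e) ≡ 1 modulo the order of G for some e and g ^ k = g⁻¹ for every element g of odd order (so g ↦ g ^ k induces a field automorphism of 2-power order inverting the roots of unity of odd order). If an irreducible character θ of N satisfies θ (n ^ k) = θ n for all n, then there is exactly one irreducible character χ of G with θ a constituent of its restriction to N and χ (g ^ k) = χ g for all g; moreover, if θ is invariant under conjugation by G, that χ restricts to θ. -/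
theorem result {G : Type*} [Group G] [Fintype G] (N : Subgroup G) [hN : N.Normal] [Fintype N] (hidx : Odd N.index) (k e : ℕ) (hk : Nat.Coprime k (Nat.card G)) (hke : k ^ (2 ^ e) ≡ 1 [MOD Nat.card G]) (hk₂ : ∀ g : G, Odd (orderOf g) → g ^ k = g⁻¹) (θ : Cfsg.IrrCharacter N) (hθ : ∀ n : N, (θ : N → ℂ) (n ^ k) = (θ : N → ℂ) n) : ∃ χ : Cfsg.IrrCharacter G, (Cfsg.classInner (fun n : N => (χ : G → ℂ) n) (θ : N → ℂ) ≠ 0 ∧ (∀ g : G, (χ : G → ℂ) (g ^ k) = (χ : G → ℂ) g) ∧ ((∀ g : G, ∀ n : N, (θ : N → ℂ) ⟨g * n * g⁻¹, hN.conj_mem n n.2 g⟩ = (θ : N → ℂ) n) → ∀ n : N, (χ : G → ℂ) n = (θ : N → ℂ) n)) ∧ ∀ χ' : Cfsg.IrrCharacter G, Cfsg.classInner (fun n : N => (χ' : G → ℂ) n) (θ : N → ℂ) ≠ 0 → (∀ g : G, (χ' : G → ℂ) (g ^ k) = (χ' : G → ℂ) g) → χ' = χ := by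
  obtain ⟨σ, hσ⟩ := exists_ringEquiv_pow (Nat.card_pos (α := G)).ne' hk
  have h1 : ∀ n : N, σ.toRingHom (θ.1 n) = θ.1 n := fun n =>
    (θ.2.isGen.map_eq_apply_pow (σ := σ.toRingHom) fun z hz => hσ z (pow_eq_one_of_dvd hz
      ((orderOf_dvd_natCard n).trans N.card_subgroup_dvd_card))).trans (hθ n)
  have h2 : ∀ (χ : G → ℂ), IsIrrCharacter G χ → ∀ g : G, σ.toRingHom (χ g) = χ (g ^ k) := fun χ hχ g =>
    hχ.isGen.map_eq_apply_pow (σ := σ.toRingHom) fun z hz => hσ z (pow_eq_one_of_dvd hz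
      (orderOf_dvd_natCard g))
  obtain ⟨χ, a, b, c, d⟩ := existsUnique_gal hidx σ.toRingHom (fun z hz => by
    have := pow_eq_one_of_dvd hz (dvd_add_one_of_inv hidx N.index_dvd_card hke hk₂)
    rw [pow_succ] at this
    exact (hσ z (pow_eq_one_of_dvd hz N.index_dvd_card)).trans (eq_inv_of_mul_eq_one_left this)) θ.2 h1
  have b' := b.trans_ne one_ne_zero
  refine ⟨⟨χ, a⟩, ⟨b', fun g => (h2 χ a g).symm.trans (c g), fun hi n => ?_⟩,
    fun χ' x y => Subtype.ext (d _ χ'.2 x fun g => (h2 _ χ'.2 g).trans (y g))⟩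
  have := clifford_invariant a θ.2 (fun g => funext (hi g)) b'
  rw [b, one_smul] at this
  exact congrFun this n

end Cfsg.Agent.S4519
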