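import Cfsg.Statements.S4521
import Cfsg.Agent.H4.Rob2

set_option autoImplicit false
open Cfsg

namespace Cfsg.Agent.S4521

open CfsgH4 CfsgH3 CfsgH2 MonoidAlgebra

/-- Let the finite group G be generated by subgroups U₁ and U₂ that commute elementwise and whose intersection is a p-group, and let M be a maximal ideal of the algebraic integers containing the prime p. If the irreducible character χ of G has the irreducible constituents ψ₁ on U₁ and ψ₂ on U₂, then χ lies in the principal block of G if and only if ψ₁ and ψ₂ lie in the principal blocks of U₁ and U₂. -/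
theorem result {G : Type*} [Group G] [Fintype G] (p : ℕ) [Fact p.Prime] (M : Ideal Cfsg.AlgInt) (hM : Cfsg.IsPModular p M) (U₁ U₂ : Subgroup G) [Fintype U₁] [Fintype U₂] (hcomm : ∀ u ∈ U₁, ∀ v ∈ U₂, u * v = v * u) (hgen : U₁ ⊔ U₂ = ⊤) (hZ : IsPGroup p ↥(U₁ ⊓ U₂)) (χ : Cfsg.IrrCharacter G) (ψ₁ : Cfsg.IrrCharacter U₁) (ψ₂ : Cfsg.IrrCharacter U₂) (h₁ : Cfsg.classInner (fun u : U₁ => (χ : G → ℂ) u) (ψ₁ : U₁ → ℂ) ≠ 0) (h₂ : Cfsg.classInner (fun u : U₂ => (χ : G → ℂ) u) (ψ₂ : U₂ → ℂ) ≠ 0) : χ ∈ Cfsg.principalBlock M G ↔ (ψ₁ ∈ Cfsg.principalBlock M U₁ ∧ ψ₂ ∈ Cfsg.principalBlock M U₂) := by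
  classical
  have := hM.2.1
  have := charP_of_isPModular hM
  have hp : p.Prime := Fact.out
  have key : ∀ U V : Subgroup G, (∀ u ∈ U, ∀ v ∈ V, u * v = v * u) → U ⊔ V = ⊤ →
      hat ℂ {g | g ∈ U ∧ ¬ p ∣ orderOf g} ∈ Zc ℂ U ⊤ := by
    intro U V h1 h2
    refine ⟨fun x hx => coeff_hat_of_notMem fun h => hx h.1, hat_mem_Fix fun n _ x => ?_⟩
    have h3 : n ∈ Subgroup.normalizer (U : Set G) := by
      have : U ⊔ V ≤ Subgroup.normalizer (U : Set G) := sup_le Subgroup.le_normalizer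
        fun v hv => Subgroup.centralizer_le_normalizer _ fun u hu => h1 u hu v hv
      exact this (h2 ▸ Subgroup.mem_top n)
    simp only [Set.mem_ofPred_eq, orderOf_conj', ← Subgroup.mem_normalizer_iff.1 h3 x]
  have k1 := key U₁ U₂ hcomm hgen
  have k2 := key U₂ U₁ (fun u hu v hv => (hcomm v hv u hu).symm) (by rw [sup_comm, hgen])
  have h3 : hat ℂ {g : G | ¬ p ∣ orderOf g} =
      hat ℂ {g | g ∈ U₁ ∧ ¬ p ∣ orderOf g} * hat ℂ {g | g ∈ U₂ ∧ ¬ p ∣ orderOf g} := by
    refine ga_ext fun g => ?_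
    rw [coeff_mul_left]
    have h4 : ∀ u v : G, u ∈ U₁ → v ∈ U₂ → ¬ p ∣ orderOf u → ¬ p ∣ orderOf v → ¬ p ∣ orderOf (u * v) :=
      fun u v hu hv h1 h2 h => (hp.dvd_mul.1 (h.trans (Commute.orderOf_mul_dvd_mul_orderOf
        (hcomm u hu v hv)))).elim h1 h2
    by_cases hg : p ∣ orderOf g
    · rw [coeff_hat_of_notMem (by simpa using hg)]
      refine (Finset.sum_eq_zero fun u _ => ?_).symm
      simp only [coeff_hat, Set.mem_ofPred_eq]
      split_ifs with h h' h'
      · exact absurd (by simpa using hg) (h4 _ _ h.1 h'.1 h.2 h'.2)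
      all_goals simp
    · rw [coeff_hat_of_mem (by simpa using hg)]
      obtain ⟨u, hu, v, hv, rfl⟩ := (mem_sup_of_normalizer (H := U₂) (N := U₁) fun v hv =>
        Subgroup.centralizer_le_normalizer _ fun u hu => hcomm u hu v hv).1
          (hgen ▸ Subgroup.mem_top g)
      obtain ⟨s, t, rfl, h5, h6, h7, h8, h9⟩ := exists_ppart_decomp p u
      obtain ⟨s', t', rfl, h5', h6', h7', h8', h9'⟩ := exists_ppart_decomp p v
      have hs := Subgroup.zpowers_le.2 hu h8
      have ht := Subgroup.zpowers_le.2 hu h9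
      have hs' := Subgroup.zpowers_le.2 hv h8'
      have ht' := Subgroup.zpowers_le.2 hv h9'
      have e : s * t * (s' * t') = s * s' * (t * t') := by
        rw [mul_assoc, ← mul_assoc t, hcomm t ht s' hs']; simp only [mul_assoc]
      have h10 : s * s' = 1 := by
        refine eq_one_of_mul_reg (p := p) (x := t * t') ?_ ?_ (h4 _ _ ht ht' h7 h7') (e ▸ hg)
        · exact Commute.mul_left (h5.mul_right (hcomm s hs t' ht'))
            (Commute.mul_right (hcomm t ht s' hs').symm h5')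
        · obtain ⟨a, ha⟩ := h6
          obtain ⟨b, hb⟩ := h6'
          have := Commute.orderOf_mul_dvd_mul_orderOf (hcomm s hs s' hs')
          rw [ha, hb, ← pow_add] at this
          obtain ⟨k, -, hk⟩ := (Nat.dvd_prime_pow hp).1 this
          exact ⟨k, hk⟩
      rw [e, h10, one_mul, Finset.sum_eq_single t]
      · rw [coeff_hat_of_mem (X := {g | g ∈ U₁ ∧ ¬ p ∣ orderOf g}) ⟨ht, h7⟩,
          coeff_hat_of_mem (by simpa using ⟨ht', h7'⟩), one_mul]
      · intro w _ hw
        simp only [coeff_hat, Set.mem_ofPred_eq]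
        split_ifs with h h' h'
        · refine absurd ?_ hw
          have h11 : w⁻¹ * t ∈ U₂ := by simpa [mul_assoc] using U₂.mul_mem h'.1 (U₂.inv_mem ht')
          have h12 := eq_one_of_mul_reg (p := p) (s := w⁻¹ * t) (x := w)
            (hcomm w h.1 _ h11).symm (exists_orderOf_eq_pow hZ ⟨U₁.mul_mem (U₁.inv_mem h.1) ht, h11⟩) h.2
            (by rw [← hcomm w h.1 _ h11]; simpa using h7)
          exact inv_mul_eq_one.1 h12
        all_goals simp
      · simp
  have h4 : ∀ U : Subgroup G, res U (hat ℂ {g | g ∈ U ∧ ¬ p ∣ orderOf g}) =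
      hat ℂ {g : U | ¬ p ∣ orderOf g} := fun U => by
    rw [res_hat]; congr 1; ext g; simp
  rw [mem_principal_iff (p := p), mem_principal_iff (p := p), mem_principal_iff (p := p), h3,
    om_mul χ.2 k1.2, red_mul (om_mem_Loc χ.2 k1.2 (hat_mem_SG _)) (om_mem_Loc χ.2 k2.2 (hat_mem_SG _)),
    om_eq_of_over h₁ k1, om_eq_of_over h₂ k2, h4, h4, mul_ne_zero_iff]

end Cfsg.Agent.S4521
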