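import Cfsg.Statements.S4530
import Cfsg.Agent.H4.Tame8

set_option autoImplicit false
open Cfsg

namespace Cfsg.Agent.S4530

open CfsgH4 CfsgH3 CfsgH2 MonoidAlgebra

/-- Let B be a 2-block of the finite group G (relative to a maximal ideal M of the algebraic integers containing 2) whose defect group D is generalized quaternion of order 2 ^ n, n ≥ 3. Then its 2-regular rank l is between 1 and 3, the number of irreducible characters in B is l + 2 ^ (n - 2) + 2, exactly four members have height zero, and every other member has height one or height n - 2; when n ≥ 4 exactly 2 ^ (n - 2) - 1 members have height one. -/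
theorem result {G : Type*} [Group G] [Finite G] (M : Ideal Cfsg.AlgInt) (hM : Cfsg.IsPModular 2 M) (B : Set (Cfsg.IrrCharacter G)) (hB : Cfsg.IsPBlock M B) (D : Subgroup G) (hD : Cfsg.IsDefectGroup 2 M B D) (n : ℕ) (hn : 3 ≤ n) (hq : Nonempty (D ≃* QuaternionGroup (2 ^ (n - 2)))) : 1 ≤ Cfsg.blockRank 2 B ∧ Cfsg.blockRank 2 B ≤ 3 ∧ Nat.card B = Cfsg.blockRank 2 B + 2 ^ (n - 2) + 2 ∧ Nat.card {χ : Cfsg.IrrCharacter G // χ ∈ B ∧ Cfsg.blockHeight 2 B (χ : G → ℂ) = 0} = 4 ∧ (∀ χ ∈ B, Cfsg.blockHeight 2 B (χ : G → ℂ) = 0 ∨ Cfsg.blockHeight 2 B (χ : G → ℂ) = 1 ∨ Cfsg.blockHeight 2 B (χ : G → ℂ) = n - 2) ∧ (4 ≤ n → Nat.card {χ : Cfsg.IrrCharacter G // χ ∈ B ∧ Cfsg.blockHeight 2 B (χ : G → ℂ) = 1} = 2 ^ (n - 2) - 1) := by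
  have := hM.2.1
  have := charP_of_isPModular hM
  have := Fintype.ofFinite G
  have hP := (isDefectGroup_iff hB).1 hD
  obtain ⟨r, rfl⟩ := Nat.exists_eq_add_of_le' hn
  obtain ⟨a, b, h⟩ := mc_of_quaternion (n := r) hq.some
  obtain ⟨e, O, W, d, m, T, hO⟩ := exists_TD hB hP h
  have h0 : ∀ i, el (mc_top h) i * _ * (el (mc_top h) i * _) ≠ 1 := fun i c => by
    rw [out_mul_out, el_eq_one] at c
    exact zz_ne (by simpa [zz] using c)
  have hd : ¬ Dih (mc_top h) := fun c => h0 0 (c 0)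
  obtain ⟨h1, h2, h3, -⟩ := loc_OS' T.os T.hm hO hd
  have h8 := h3 h0
  have h9 := T.card
  have h10 := blockRank_pos (p := 2) (block_nonempty hB)
  rw [show r + 3 - 2 = r + 1 from rfl]
  by_cases hr : r = 0
  · subst hr
    obtain ⟨h4, h5⟩ := T.small
    exact ⟨h10, by omega, by omega, T.card_HZ, fun χ c => by have := h5 χ c; omega, by omega⟩
  · obtain ⟨X, h4, h5, h6, h7⟩ := T.nondih hr hd h2
    exact ⟨h10, by omega, by omega, T.card_HZ, h7, fun _ => h6⟩

end Cfsg.Agent.S4530
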