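import Cfsg.Statements.S4531
import Cfsg.Agent.H4.Tame9

set_option autoImplicit false
open Cfsg

namespace Cfsg.Agent.S4531

open CfsgH4 CfsgH3 CfsgH2 MonoidAlgebra

/-- Let the finite group G have a 2-block B (relative to a maximal ideal M of the algebraic integers containing 2) of 2-regular rank three (three irreducible Brauer characters) whose defect group D is dihedral of order 2 ^ n with n ≥ 3 or semidihedral. Then the centre of G has odd order and G is not solvable. -/
theorem result {G : Type*} [Group G] [Finite G] (M : Ideal Cfsg.AlgInt) (hM : Cfsg.IsPModular 2 M) (B : Set (Cfsg.IrrCharacter G)) (hB : Cfsg.IsPBlock M B) (D : Subgroup G) (hD : Cfsg.IsDefectGroup 2 M B D) (hD' : (∃ n : ℕ, 3 ≤ n ∧ Nonempty (D ≃* DihedralGroup (2 ^ (n - 1)))) ∨ Cfsg.IsQuasiDihedral D) (hl : Cfsg.blockRank 2 B = 3) : Odd (Nat.card (Subgroup.center G)) ∧ ¬ Group.IsSolvable G := by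
  have := hM.2.1
  have := charP_of_isPModular hM
  have := Fintype.ofFinite G
  have hP := (isDefectGroup_iff hB).1 hD
  obtain ⟨a, b, k, r, h, hr⟩ : ∃ a b k r, MC D a b k 0 r ∧ ((k : ZN r) ≠ -1 → r ≠ 0) := by
    rcases hD' with ⟨n, hn, ⟨e⟩⟩ | hq
    · obtain ⟨a, b, r, h, -⟩ := mc_of_dihedral hP.pgroup
        ((by norm_num : 3 ≤ 2 ^ 2).trans (Nat.pow_le_pow_right two_pos (by omega))) e
      exact ⟨a, b, _, r, h, by simp⟩
    · obtain ⟨a, b, r, hr, h⟩ := mc_of_qd hq
      exact ⟨a, b, _, r, h, fun _ => by omega⟩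
  refine ⟨Nat.not_even_iff_odd.1 fun c => ?_, fun c => ?_⟩
  · obtain ⟨e, O, W, d, n, T, hO⟩ := exists_TD hB hP h
    have h1 := (T.of_three hO (fun c => hr fun c' => c (dih_of c' (by simp)))
      ((mc_top h).sq.trans (zpow_zero _)) hl.ge).2
    obtain ⟨t, ht⟩ := exists_prime_orderOf_dvd_card' 2 c.two_dvd
    rw [← Subgroup.orderOf_coe] at ht
    have h2 := mul_self_of_orderOf_two ht
    have : (Subgroup.zpowers (t : G)).Normal := ⟨fun x hx g => by
      rwa [Subgroup.mem_center_iff.1 (Subgroup.zpowers_le.2 t.2 hx) g, mul_inv_cancel_right]⟩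
    have h3 : (t : G) ∈ D ⊓ Subgroup.centralizer (D : Set G) :=
      ⟨hP.le_of_normal_blk hB (isPGroup_zpowers_of_mul_self h2) (Subgroup.mem_zpowers _),
        Subgroup.center_le_centralizer _ t.2⟩
    rw [h.inf_centralizer_eq, mem_zpowers_of_mul_self (mul_self_of_orderOf_two h.orderOf_z)] at h3
    rw [T.hm.lU_central hB (el (mc_top h) (zz r)).2 (by
      rw [coe_z, ← h3.resolve_left (ne_one_of_orderOf_two ht)]; exact t.2)] at h1
    omega
  · have := rank_le_two_of_solv hM _ rfl CfsgH1.isPSolvable_of_isSolvable hB hD h hr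
    omega

end Cfsg.Agent.S4531
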