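import Cfsg.Statements.S4541
import Cfsg.Agent.H4.Contr2

set_option autoImplicit false
open Cfsg

namespace Cfsg.Agent.S4541

open CfsgH4 CfsgH3 CfsgH2 MonoidAlgebra

/-- Let B be a 2-block of the finite group G (relative to a maximal ideal M of the algebraic integers containing 2), u a 2-element, and b a block of the centralizer of u inducing B (a subsection (u, b)), of defect q and 2-regular rank l; write s for the integer square root of l and k₀(B) for the number of members of B of height zero. If s is odd then k₀(B) ≤ s·2 ^ q, and otherwise (s + 1)·k₀(B) ≤ l·2 ^ q; in particular k₀(B) ≤ 2 ^ q when l ≤ 3. -/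
theorem result {G : Type*} [Group G] [Finite G] (M : Ideal Cfsg.AlgInt) (hM : Cfsg.IsPModular 2 M) (B : Set (Cfsg.IrrCharacter G)) (hB : Cfsg.IsPBlock M B) (u : G) (hu : ∃ j : ℕ, orderOf u = 2 ^ j) (b : Set (Cfsg.IrrCharacter ↥(Subgroup.centralizer ({u} : Set G)))) (hb : Cfsg.IsInducedBlock M (Subgroup.centralizer ({u} : Set G)) b B) : (Odd (Nat.sqrt (Cfsg.blockRank 2 b)) → Nat.card {χ : Cfsg.IrrCharacter G // χ ∈ B ∧ Cfsg.blockHeight 2 B (χ : G → ℂ) = 0} ≤ Nat.sqrt (Cfsg.blockRank 2 b) * 2 ^ Cfsg.blockDefect 2 b) ∧ (¬ Odd (Nat.sqrt (Cfsg.blockRank 2 b)) → (Nat.sqrt (Cfsg.blockRank 2 b) + 1) * Nat.card {χ : Cfsg.IrrCharacter G // χ ∈ B ∧ Cfsg.blockHeight 2 B (χ : G → ℂ) = 0} ≤ Cfsg.blockRank 2 b * 2 ^ Cfsg.blockDefect 2 b) ∧ (Cfsg.blockRank 2 b ≤ 3 → Nat.card {χ : Cfsg.IrrCharacter G // χ ∈ B ∧ Cfsg.blockHeight 2 B (χ : G → ℂ) = 0} ≤ 2 ^ Cfsg.blockDefect 2 b) := by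
  have := hM.2.1
  have := charP_of_isPModular hM
  have := Fintype.ofFinite G
  have h := card_height_zero_two (subEl_zc hu) hb
  generalize Nat.card {χ : IrrCharacter G // χ ∈ B ∧ blockHeight 2 B (χ : G → ℂ) = 0} = k at h
  generalize 2 ^ blockDefect 2 b = q at h
  have h1 := Nat.sqrt_le (blockRank 2 b)
  have h2 := Nat.lt_succ_sqrt (blockRank 2 b)
  generalize Nat.sqrt (blockRank 2 b) = s at h1 h2
  generalize blockRank 2 b = l at h h1 h2
  refine ⟨?_, fun ho => ?_, fun h3 => ?_⟩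
  · rintro ⟨t, rfl⟩
    rcases h (t + 1) with h | h
    · nlinarith
    · refine Nat.le_of_mul_le_mul_left (h.trans ?_) (Nat.succ_pos _)
      rw [← mul_assoc]
      exact Nat.mul_le_mul_right _ (by simp only [Nat.succ_eq_add_one] at h2; nlinarith)
  · obtain ⟨t, rfl⟩ := Nat.not_odd_iff_even.1 ho
    rcases h t with h | h
    · have := Nat.mul_le_mul_left (t + t + 1) h
      have := Nat.mul_le_mul_right q h1
      nlinarith
    · rwa [← two_mul]
  · rcases h 1 with h | h
    · omega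
    · have := Nat.mul_le_mul_right q h3; omega

end Cfsg.Agent.S4541
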