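import Cfsg.Statements.S4550
import Cfsg.Agent.H4.Reg2

set_option autoImplicit false
open Cfsg

namespace Cfsg.Agent.S4550

open CfsgH4 CfsgH3 CfsgH2 MonoidAlgebra

/-- Let G be a finite group of even order and M a maximal ideal of the algebraic integers containing 2. Let k be a natural number with g ^ k = g ^ 3 for every 2-element g and g ^ k = g for every element g of odd order (such k exist); an irreducible character χ is unchanged by g ↦ g ^ k exactly when it is fixed by the field automorphism that cubes the 2-power roots of unity and fixes the roots of unity of odd order. Then the number of members χ of the principal 2-block of odd degree with χ (g ^ k) = χ g for all g is even. -/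
theorem result {G : Type*} [Group G] [Finite G] (M : Ideal Cfsg.AlgInt) (hM : Cfsg.IsPModular 2 M) (hev : Even (Nat.card G)) (k : ℕ) (hk₁ : ∀ g : G, (∃ j : ℕ, orderOf g = 2 ^ j) → g ^ k = g ^ 3) (hk₂ : ∀ g : G, Odd (orderOf g) → g ^ k = g) : Even (Nat.card {χ : Cfsg.IrrCharacter G // χ ∈ Cfsg.principalBlock M G ∧ Odd (Cfsg.charDegree (χ : G → ℂ)) ∧ ∀ g : G, (χ : G → ℂ) (g ^ k) = (χ : G → ℂ) g}) := by
  classical
  have := hM.2.1
  have := charP_of_isPModular hM
  have := Fintype.ofFinite G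
  have hcop : Nat.Coprime k (Nat.card G) := by
    refine Nat.coprime_of_dvd fun q hq h1 h2 => ?_
    have := Fact.mk hq
    obtain ⟨g, hg⟩ := exists_prime_orderOf_dvd_card' q h2
    have h3 : g ^ k = 1 := orderOf_dvd_iff_pow_eq_one.1 (hg ▸ h1)
    have h4 : g ≠ 1 := by rintro rfl; exact hq.ne_one (by simpa using hg.symm)
    rcases hq.eq_two_or_odd' with rfl | h
    · rw [hk₁ g ⟨1, by simpa using hg⟩, pow_succ, ← hg, pow_orderOf_eq_one, one_mul] at h3
      exact h4 h3
    · rw [hk₂ g (hg ▸ h)] at h3; exact h4 h3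
  obtain ⟨σ, hσ⟩ := exists_ringEquiv_apply_pow hcop
  let X := {χ : IrrCharacter G // χ ∈ principalBlock M G ∧ Odd (charDegree χ.1)}
  let f : Function.End X := fun χ => ⟨galIrr (σ : ℂ →+* ℂ) χ.1,
    (galIrr_mem_principal 2 _).2 χ.2.1, by rw [charDegree_galIrr]; exact χ.2.2⟩
  have hf1 : ∀ (χ : X) g, (f χ).1.1 g = χ.1.1 (g ^ k) := fun χ g => hσ _ χ.1.2.isGen g
  have hf : ∀ (n : ℕ) (χ : X) g, ((f ^ n) χ).1.1 g = χ.1.1 (g ^ k ^ n) := by
    intro n
    induction n with
    | zero => intro χ g; simp; rfl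
    | succ n ih =>
      intro χ g
      rw [pow_succ']
      change (f ((f ^ n) χ)).1.1 g = _
      rw [hf1, ih, ← pow_mul, pow_succ']
  have hpow : ∀ g : G, g ^ k ^ 2 ^ (Nat.card G).factorization 2 = g := by
    intro g
    obtain ⟨s, t, rfl, hc, ⟨j, hj⟩, ht, -, -⟩ := exists_ppart_decomp 2 g
    have ht' : ∀ n : ℕ, t ^ k ^ n = t := by
      intro n
      induction n with
      | zero => simp
      | succ n ih => rw [pow_succ, pow_mul, ih, hk₂ t (Nat.odd_iff.2 (by omega))]
    have hj' : j ≤ (Nat.card G).factorization 2 :=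
      (Nat.prime_two.pow_dvd_iff_le_factorization Nat.card_pos.ne').1 (hj ▸ orderOf_dvd_natCard s)
    have hko : Nat.Coprime k (2 ^ (j + 1)) :=
      Nat.Coprime.pow_right _ (hcop.coprime_dvd_right hev.two_dvd)
    have h1 := Nat.ModEq.pow_totient hko
    rw [Nat.totient_prime_pow Nat.prime_two (Nat.succ_pos j)] at h1
    simp only [Nat.succ_sub_one, Nat.add_one_sub_one, mul_one] at h1
    obtain ⟨c, hc'⟩ := Nat.exists_eq_add_of_le hj'
    have h2 : k ^ 2 ^ (Nat.card G).factorization 2 ≡ 1 [MOD orderOf s] := by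
      rw [hc', pow_add, pow_mul, hj]
      have := (h1.of_dvd (pow_dvd_pow 2 (Nat.le_succ j))).pow (2 ^ c)
      rwa [one_pow] at this
    rw [hc.mul_pow, ht', pow_eq_pow_iff_modEq.2 h2, pow_one]
  have hfin : f ^ 2 ^ (Nat.card G).factorization 2 = 1 := by
    funext χ
    refine Subtype.ext (Subtype.ext (funext fun g => ?_))
    rw [hf, hpow]; rfl
  have := Fintype.ofFinite X
  have h1 := Equiv.Perm.card_fixedPoints_modEq (p := 2) hfin
  have hd : blockDefect 2 (principalBlock M G) ≠ 0 := by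
    rw [blockDefect_principal]
    exact (Nat.prime_two.factorization_pos_of_dvd Nat.card_pos.ne' hev.two_dvd).ne'
  have h2 := even_card_height_zero (isPBlock_principal (M := M)) hd
  have h3 : Fintype.card X = ((irrF (principalBlock M G)).filter
      (fun ξ => blockHeight 2 (principalBlock M G) ξ.1 = 0)).card := by
    rw [← Nat.card_eq_fintype_card, ← Nat.card_eq_finsetCard]
    refine Nat.card_congr (Equiv.subtypeEquivRight fun χ => ?_)
    rw [Finset.mem_filter, mem_irrF, height_principal_eq_zero_iff, Nat.odd_iff]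
    constructor <;> rintro ⟨h, h'⟩ <;> exact ⟨h, by omega⟩
  have h4 : Nat.card {χ : IrrCharacter G // χ ∈ principalBlock M G ∧ Odd (charDegree (χ : G → ℂ)) ∧
      ∀ g : G, (χ : G → ℂ) (g ^ k) = (χ : G → ℂ) g} = Fintype.card f.fixedPoints := by
    rw [← Nat.card_eq_fintype_card]
    refine Nat.card_congr ⟨fun χ => ⟨⟨χ.1, χ.2.1, χ.2.2.1⟩, ?_⟩,
      fun χ => ⟨χ.1.1, χ.1.2.1, χ.1.2.2, fun g => ?_⟩, fun _ => rfl, fun _ => rfl⟩
    · exact Subtype.ext (Subtype.ext (funext fun g => by rw [hf1]; exact χ.2.2.2 g))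
    · rw [← hf1, show f χ.1 = χ.1 from χ.2]
  rw [h4]
  rw [h3] at h1
  rw [Nat.even_iff] at h2 ⊢
  unfold Nat.ModEq at h1
  omega

end Cfsg.Agent.S4550
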