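import Cfsg.Statements.S4549
import Cfsg.Agent.H4.PSol3
import Cfsg.Agent.S4550

set_option autoImplicit false
open Cfsg

namespace Cfsg.Agent.S4549

open CfsgH4 CfsgH3 CfsgH2 MonoidAlgebra

/-- Let G be a finite group and M a maximal ideal of the algebraic integers containing 2. Let k be a natural number with g ^ k = g ^ 3 for every 2-element g and g ^ k = g for every element g of odd order (such k exist); an irreducible character χ is unchanged by g ↦ g ^ k exactly when it is fixed by the field automorphism that cubes the 2-power roots of unity and fixes the roots of unity of odd order. Then G has a normal 2-complement if and only if every member χ of the principal 2-block of odd degree with χ (g ^ k) = χ g for all g has degree one. -/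
theorem result {G : Type*} [Group G] [Finite G] (M : Ideal Cfsg.AlgInt) (hM : Cfsg.IsPModular 2 M) (k : ℕ) (hk₁ : ∀ g : G, (∃ j : ℕ, orderOf g = 2 ^ j) → g ^ k = g ^ 3) (hk₂ : ∀ g : G, Odd (orderOf g) → g ^ k = g) : Cfsg.HasNormalPComplement 2 G ↔ ∀ χ ∈ Cfsg.principalBlock M G, Odd (Cfsg.charDegree (χ : G → ℂ)) → (∀ g : G, (χ : G → ℂ) (g ^ k) = (χ : G → ℂ) g) → Cfsg.charDegree (χ : G → ℂ) = 1 := by
  classical
  have := hM.2.1
  have := charP_of_isPModular hM
  have := Fintype.ofFinite G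
  constructor
  · rintro ⟨P, K, hK, hc⟩ χ hχ hodd -
    have h1 : ¬ 2 ∣ Nat.card K := by rw [← hc.index_eq_card]; exact P.not_dvd_index
    obtain ⟨β, h2, h3⟩ := χ.2.exists_quotient K (ker_of_mem_principal hχ h1)
    obtain ⟨a, ha⟩ := P.isPGroup'.exists_card_eq
    have h4 : IsPGroup 2 (G ⧸ K) := IsPGroup.of_card (n := a) (hc.symm.index_eq_card.trans ha)
    obtain ⟨j, hj⟩ := charDegree_pgroup Nat.prime_two h4 h2
    have h5 : charDegree χ.1 = 2 ^ j := by
      rw [← hj]; unfold charDegree; rw [← h3]; rfl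
    rw [h5] at hodd ⊢
    rcases j with _ | j
    · rfl
    · exact absurd hodd (by rw [Nat.not_odd_iff_even, pow_succ]; exact Even.mul_left even_two _)
  intro H
  obtain ⟨K, hK, ⟨a, ha⟩, hmin⟩ := exists_Op_residual (G := G) 2
  by_cases hev : ¬ 2 ∣ Nat.card K
  · obtain ⟨P⟩ : Nonempty (Sylow 2 G) := inferInstance
    obtain ⟨b, hb⟩ := P.isPGroup'.exists_card_eq
    refine ⟨P, K, hK, Subgroup.isComplement'_of_coprime ?_
      (hb ▸ (Nat.Coprime.pow_left b (Nat.prime_two.coprime_iff_not_dvd.2 hev)).symm)⟩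
    have h1 := K.card_mul_index
    rw [P.card_eq_multiplicity, ← h1, ha, Nat.factorization_mul Nat.card_pos.ne' (by positivity)]
    rw [Finsupp.add_apply, Nat.factorization_eq_zero_of_not_dvd hev, zero_add,
      Nat.prime_two.factorization_pow, Finsupp.single_eq_same]
  exfalso
  rw [not_not] at hev
  have := Fintype.ofFinite K
  have hcop : Nat.Coprime k (Nat.card G) := by
    refine Nat.coprime_of_dvd fun q hq h1 h2 => ?_
    have := Fact.mk hq
    obtain ⟨g, hg⟩ := exists_prime_orderOf_dvd_card' q h2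
    have h3 : g ^ k = 1 := orderOf_dvd_iff_pow_eq_one.1 (hg ▸ h1)
    have h4 : g ≠ 1 := by rintro rfl; exact hq.ne_one (by simpa using hg.symm)
    rcases hq.eq_two_or_odd' with rfl | h
    · rw [hk₁ g ⟨1, by simpa using hg⟩, pow_succ, ← hg, pow_orderOf_eq_one, one_mul] at h3
      exact h4 h3
    · rw [hk₂ g (hg ▸ h)] at h3; exact h4 h3
  obtain ⟨σ, hσ⟩ := exists_ringEquiv_pow (Nat.card_pos (α := G)).ne' hcop
  have hσG : ∀ χ : G → ℂ, IsCharacter G χ → ∀ g, (σ : ℂ →+* ℂ) (χ g) = χ (g ^ k) := fun χ h g =>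
    h.isGen.map_eq_apply_pow fun z hz => hσ z (pow_eq_one_of_dvd hz (orderOf_dvd_natCard g))
  have hσK : ∀ χ : K → ℂ, IsCharacter K χ → ∀ g, (σ : ℂ →+* ℂ) (χ g) = χ (g ^ k) := fun χ h g =>
    h.isGen.map_eq_apply_pow fun z hz => hσ z (pow_eq_one_of_dvd hz
      ((orderOf_dvd_natCard g).trans K.card_subgroup_dvd_card))
  have h1 := Cfsg.Agent.S4550.result (G := K) M hM (even_iff_two_dvd.2 hev) k
    (fun g hg => Subtype.ext (hk₁ g (by simpa using hg)))
    (fun g hg => Subtype.ext (hk₂ g (by simpa using hg)))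
  let S : IrrCharacter K → Prop := fun χ => χ ∈ principalBlock M K ∧ Odd (charDegree χ.1) ∧
    ∀ g : K, χ.1 (g ^ k) = χ.1 g
  let c : ℂ →+* ℂ := starRingEnd ℂ
  let f : Function.End {χ // S χ} := fun χ => ⟨galIrr c χ.1, (galIrr_mem_principal 2 _).2 χ.2.1,
    by rw [charDegree_galIrr]; exact χ.2.2.1, fun g => congrArg c (χ.2.2.2 g)⟩
  have hf : f ^ 2 ^ 1 = 1 := funext fun χ => Subtype.ext (Subtype.ext (funext fun g => by
    change c (c _) = _; exact Complex.conj_conj _))
  have h2 := Equiv.Perm.card_fixedPoints_modEq (p := 2) hf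
  let one : IrrCharacter K := ⟨fun _ => 1, isIrr_one⟩
  let T : IrrCharacter K → Prop := fun χ => S χ ∧ ∀ g, c (χ.1 g) = χ.1 g
  have h3 : Fintype.card f.fixedPoints = (Finset.univ.filter T).card := by
    rw [← Fintype.card_subtype]
    refine Fintype.card_congr ⟨fun χ => ⟨χ.1.1, χ.1.2, fun g => ?_⟩,
      fun χ => ⟨⟨χ.1, χ.2.1⟩, Subtype.ext (Subtype.ext (funext χ.2.2))⟩, fun _ => rfl, fun _ => rfl⟩
    exact congrFun (congrArg (fun x : {χ // S χ} => x.1.1) (show f χ.1 = χ.1 from χ.2)) g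
  have hT1 : T one := ⟨⟨one_mem_principal, by
    rw [charDegree_eq (n := 1) (by simp [one])]; exact odd_one, fun _ => rfl⟩, fun _ => map_one c⟩
  have h4 : (Finset.univ.filter T).card % 2 = 0 := by
    rw [Nat.card_eq_fintype_card, Nat.even_iff] at h1
    rw [← h3]; exact Eq.trans h2.symm (by convert h1)
  have hT : ∀ (g : G) (φ : IrrCharacter K), T φ → T ⟨CfsgH3.cj g φ.1, φ.2.cj g⟩ := by
    rintro g φ ⟨⟨a1, a2, a3⟩, a4⟩
    refine ⟨⟨(cj_mem_principal g).2 a1, ?_, fun x => ?_⟩, fun x => a4 _⟩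
    · have : charDegree (CfsgH3.cj g φ.1) = charDegree φ.1 := by
        unfold charDegree; rw [cj_apply_one]
      exact this ▸ a2
    · change CfsgH3.cj g φ.1 _ = CfsgH3.cj g φ.1 _
      rw [cj_eq_comp]; simp only [map_pow]; exact a3 _
  obtain ⟨θ, h5, h6⟩ := exists_inv_irr_of_not_dvd Nat.prime_two ha
    (fun φ => if T φ ∧ φ ≠ one then 1 else 0) (fun g φ => by
      refine if_congr ⟨fun ⟨a1, a2⟩ => ⟨?_, ?_⟩, fun ⟨a1, a2⟩ => ⟨hT g φ a1, fun e => a2 ?_⟩⟩ rfl rfl
      · have := hT g⁻¹ _ a1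
        simpa only [CfsgH3.cj_inv_cj] using this
      · rintro rfl; exact a2 rfl
      · exact Subtype.ext (cj_injective g (congrArg Subtype.val e))) (by
      rw [Finset.sum_boole, ← Finset.filter_filter, Finset.filter_ne',
        Finset.card_erase_of_mem (Finset.mem_filter.2 ⟨Finset.mem_univ _, hT1⟩)]
      have := Finset.card_pos.2 ⟨one, Finset.mem_filter.2 ⟨Finset.mem_univ _, hT1⟩⟩
      omega)
  obtain ⟨⟨⟨a1, a2, a3⟩, a4⟩, a5⟩ : T θ ∧ θ ≠ one := by
    by_contra h; exact h6 (by rw [if_neg h]; exact dvd_zero _)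
  obtain ⟨δ, hδ⟩ := exists_detHom θ.2.isChar
  have h7 := not_dvd_orderOf_of_residual Nat.prime_two hmin (linInv_det θ.2.isChar h5 hδ)
  have hc : Nat.Coprime K.index (detOrder θ.1) := by
    rw [ha, detOrder_eq hδ]; exact Nat.Coprime.pow_left a (Nat.prime_two.coprime_iff_not_dvd.2 h7)
  obtain ⟨χ, ⟨b1, b2, b3⟩, b4⟩ := ext_coprime θ.2 h5 (coe_charDegree θ.2.isChar).symm
    (hc.mul_right (ha ▸ Nat.Coprime.pow_left a (Nat.coprime_two_left.2 a2)))
  have b5 : charDegree χ = charDegree θ.1 := by unfold charDegree; rw [← b2]; rfl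
  have b6 := b4 _ (b1.map_ringHom (σ : ℂ →+* ℂ)) (fun n => by rw [b2, hσK _ θ.2.isChar, a3])
    (by rwa [detOrder_gal b1.isChar, b3])
  have b7 := H ⟨χ, b1⟩ (mem_principal_of_pquot_ext ha a1 b2) (b5 ▸ a2) fun g =>
    (hσG χ b1.isChar g).symm.trans (congrFun b6 g)
  change charDegree χ = 1 at b7
  rw [b5, charDegree_eq_one_iff θ.2.isChar] at b7
  obtain ⟨lam, hl⟩ := θ.2.isChar.exists_hom_of_deg_one b7
  have b8 : lam = δ := by
    rw [hl] at hδ
    ext g; rw [← detChar_lin lam g, hδ]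
  refine a5 (Subtype.ext (funext fun g => ?_))
  have b9 := a4 g
  rw [hl] at b9 ⊢
  refine CfsgH4.eq_one_of_sq_of_odd (n := orderOf δ) (Nat.odd_iff.2 (by omega)) ?_ ?_
  · rw [b8, ← Units.val_pow_eq_pow_val, lin_pow_orderOf, Units.val_one]
  · change starRingEnd ℂ (lam g) = lam g at b9
    rw [conj_lin, MonoidHom.inv_apply, Units.val_inv_eq_inv_val] at b9
    exact b9.symm

end Cfsg.Agent.S4549
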