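import Cfsg.Statements.S4551
import Cfsg.Agent.H4.Prin

set_option autoImplicit false
open Cfsg

namespace Cfsg.Agent.S4551

open CfsgH4 CfsgH3 CfsgH2 MonoidAlgebra

/-- Let N be a normal subgroup of the finite group G of index prime to p, P a Sylow p-subgroup of G with G = N·C_G(P), and M a maximal ideal of the algebraic integers containing p. Then restriction to N is a bijection from the principal p-block of G onto the principal p-block of N: every member of the principal block of G restricts to a member of the principal block of N, and every member of the principal block of N is the restriction of exactly one member of the principal block of G. -/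
theorem result {G : Type*} [Group G] [Finite G] (p : ℕ) [Fact p.Prime] (M : Ideal Cfsg.AlgInt) (hM : Cfsg.IsPModular p M) (N : Subgroup G) [N.Normal] (hidx : ¬ p ∣ N.index) (P : Sylow p G) (hsup : N ⊔ Subgroup.centralizer ((P : Subgroup G) : Set G) = ⊤) : (∀ χ ∈ Cfsg.principalBlock M G, ∃ θ ∈ Cfsg.principalBlock M ↥N, ∀ n : N, (χ : G → ℂ) n = (θ : N → ℂ) n) ∧ ∀ θ ∈ Cfsg.principalBlock M ↥N, ∃! χ : Cfsg.IrrCharacter G, χ ∈ Cfsg.principalBlock M G ∧ ∀ n : N, (χ : G → ℂ) n = (θ : N → ℂ) n := by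
  have := hM.2.1
  have := charP_of_isPModular hM
  have := Fintype.ofFinite G
  have := Fintype.ofFinite N
  have hS := IsSylowIn.of_sylow_top P
  have hPN : (P : Subgroup G) ≤ N := by
    obtain ⟨S, hS', -⟩ := IsSylowIn.exists_le (p := p) (H := N) IsPGroup.of_bot bot_le
    obtain ⟨g, -, hg⟩ := (hS'.trans_of_not_dvd le_top (by simpa using hidx)).exists_cj_eq hS
    rw [← hg, ← cj_eq_of_normal g N]
    exact cj_mono g hS'.le
  have hd : ∀ g : G, ∃ x ∈ Subgroup.centralizer ((P : Subgroup G) : Set G), x⁻¹ * g ∈ N := fun g => by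
    have hg : g ∈ Subgroup.centralizer ((P : Subgroup G) : Set G) ⊔ N := by
      rw [sup_comm, hsup]; trivial
    obtain ⟨x, hx, n, hn, rfl⟩ := (mem_sup_of_normalizer' (le_top.trans le_normalizer_top)).1 hg
    exact ⟨x, hx, by simpa using hn⟩
  have hr : ∀ χ ∈ principalBlock M G, ∀ x ∈ Subgroup.centralizer ((P : Subgroup G) : Set G),
      red M (χ.1 x / χ.1 1) = 1 := fun χ hχ x hx =>
    red_div_of_principal hχ (not_dvd_index_of_sylow hS (le_centralizer_singleton_iff.2 hx))
  have key : ∀ θ ∈ principalBlock M ↥N, ∃ χ : IrrCharacter G, χ ∈ principalBlock M G ∧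
      ∀ n : N, χ.1 n = θ.1 n := fun θ hθ => by
    obtain ⟨ψ, h1, h2⟩ := ad_ext hidx (fun g => by
      obtain ⟨x, hx, hg⟩ := hd g
      exact ⟨x, hg, P, hPN, (hS.mono hPN le_top).not_dvd, le_centralizer_singleton_iff.2 hx⟩) hθ
    obtain ⟨ν, h3, h4⟩ := ad_twist (p := p) (fun g => by
      obtain ⟨x, hx, hg⟩ := hd g
      exact ⟨x, hg, fun h => (hS.mono hPN le_top).not_dvd
        (h.trans (Subgroup.relIndex_dvd_of_le_left _ (le_centralizer_singleton_iff.2 hx)))⟩)
      hθ h1.isChar h2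
    exact ⟨⟨fun g => (ν g : ℂ) * ψ g, by simpa only [mul_comm] using h1.mul_linear ν⟩,
      mem_principal_of_red_om fun g => h4 _ (cs_mem_SG _ g) (Fix_anti le_top (cs_mem_Fix _ g)),
      fun x => by simp [h3 x x.2, h2]⟩
  have uniq : ∀ θ : IrrCharacter N, ∀ χ ∈ principalBlock M G, (∀ n : N, χ.1 n = θ.1 n) →
      ∀ ψ ∈ principalBlock M G, classInner (fun n : N => ψ.1 n) θ.1 ≠ 0 → ψ = χ :=
    fun θ χ hχ he ψ hψ h => by
    obtain ⟨β, h1, h2⟩ := gallagher_surj (N := N) χ.2.isChar (by rw [funext he]; exact θ.2) ψ.2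
      (by rw [funext he]; exact h)
    have h3 : β = fun _ => 1 := eq_one_of_red_div (M := M) (p := p) hidx h1 fun q => by
      obtain ⟨g, rfl⟩ := QuotientGroup.mk_surjective q
      obtain ⟨x, hx, hg⟩ := hd g
      rw [← QuotientGroup.eq.2 hg]
      have a := hr χ hχ x hx
      have b := hr ψ hψ x hx
      have a0 : red M (χ.1 x / χ.1 1) ≠ 0 := by rw [a]; exact one_ne_zero
      have c : β x / β 1 = (ψ.1 x / ψ.1 1) / (χ.1 x / χ.1 1) := by
        have := ne_zero_of_red_ne_zero a0
        have := h1.one_ne_zero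
        have := χ.2.one_ne_zero
        have : χ.1 x ≠ 0 := fun e => by simp_all
        rw [h2]; simp only [Pi.mul_apply, QuotientGroup.mk_one]; field_simp
      rw [c, red_div' (mem_Loc_of_red_ne_zero (by rw [b]; exact one_ne_zero)) a0, a, b, div_one]
    refine Subtype.ext ?_
    rw [h2, h3]; funext g; simp
  refine ⟨fun χ hχ => ?_, fun θ hθ => ?_⟩
  · obtain ⟨θ, h1, h2⟩ := χ.2.exists_res_constituent N
    have h3 := mem_principal_of_over (θ := ⟨θ, h1⟩) hχ h2
    obtain ⟨ψ, h4, h5⟩ := key _ h3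
    exact ⟨_, h3, by rw [uniq _ ψ h4 h5 χ hχ h2]; exact h5⟩
  · obtain ⟨χ, h1, h2⟩ := key θ hθ
    exact ⟨χ, ⟨h1, h2⟩, fun ψ ⟨h3, h4⟩ => uniq θ χ h1 h2 ψ h3 (by
      rw [funext h4, θ.2.inner_self]; exact one_ne_zero)⟩

end Cfsg.Agent.S4551
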