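import Cfsg.Statements.S4558
import Cfsg.Agent.H4.Rob

set_option autoImplicit false
open Cfsg

namespace Cfsg.Agent.S4558

open CfsgH4 CfsgH3 CfsgH2 MonoidAlgebra

/-- Let χ be a character of the finite group G and g an element of p-power order for the prime p. If χ g = 0, then p divides the degree of χ. -/
theorem result {G : Type*} [Group G] [Finite G] (p : ℕ) [Fact p.Prime] (χ : G → ℂ) (hχ : Cfsg.IsCharacter G χ) (g : G) (hg : ∃ j : ℕ, orderOf g = p ^ j) (h0 : χ g = 0) : p ∣ Cfsg.charDegree χ := by
  obtain ⟨M, hM⟩ := CfsgH4.exists_isPModular p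
  have := hM.2.1
  have := charP_of_isPModular hM
  have h := red_apply_mul (M := M) hχ (Commute.one_right g) hg
  rw [mul_one, h0, red_zero, ← coe_charDegree hχ] at h
  exact red_natCast_eq_zero_iff.1 h.symm

end Cfsg.Agent.S4558
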