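import Cfsg.Statements.S4564
import Cfsg.Agent.H4.Misc1

set_option autoImplicit false
open Cfsg

namespace Cfsg.Agent.S4564

open CfsgH4 CfsgH3 CfsgH2 MonoidAlgebra

/-- Let χ be an irreducible character of the finite group H that is fully ramified over the normal subgroup Z: the restriction of χ to Z is e times an irreducible character of Z with e ^ 2 equal to the index of Z. Let K be a normal subgroup of H containing Z and P a cyclic Sylow p-subgroup of H/K. Then P has a complement in H/K: a subgroup meeting P trivially whose product with P is the whole group. -/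
theorem result {H : Type*} [Group H] [Finite H] (Z : Subgroup H) [Z.Normal] (χ : Cfsg.IrrCharacter H) (hfr : ∃ (θ : Cfsg.IrrCharacter ↥Z) (e : ℕ), e ^ 2 = Z.index ∧ ∀ z : ↥Z, (χ : H → ℂ) z = (e : ℂ) * (θ : ↥Z → ℂ) z) (K : Subgroup H) [K.Normal] (hZK : Z ≤ K) (p : ℕ) [Fact p.Prime] (P : Sylow p (H ⧸ K)) (hcyc : IsCyclic P) : ∃ M : Subgroup (H ⧸ K), M.IsComplement' (P : Subgroup (H ⧸ K)) := by
  obtain ⟨θ, e, h1, h2⟩ := hfr
  have hπ := QuotientGroup.mk'_surjective K
  obtain ⟨S, hS⟩ := IsSylowIn.exists_sylowIn p ((P : Subgroup (H ⧸ K)).comap (QuotientGroup.mk' K))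
  have hS' := hS.trans_of_not_dvd le_top (by
    rw [Subgroup.relIndex_top_right, Subgroup.index_comap_of_surjective _ hπ]; exact P.not_dvd_index)
  have e1 : S.map (QuotientGroup.mk' K) = P := by
    have := hS.map (QuotientGroup.mk' K)
    rw [Subgroup.map_comap_eq_self_of_surjective hπ] at this
    exact this.eq_of_isPGroup P.isPGroup'
  obtain ⟨M, m1, m2⟩ := (FR.mk χ.2 θ.2 h1 h2).exists_compl_of_cyclic hZK hS' (e1 ▸ hcyc)
  have e2 : (M.map (QuotientGroup.mk' K)).index = Nat.card P := by
    rw [Subgroup.index_map, QuotientGroup.ker_mk', sup_eq_left.2 m1, m2,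
      MonoidHom.range_eq_top.2 hπ, Subgroup.index_top, mul_one, ← e1, ← Subgroup.relIndex_ker,
      QuotientGroup.ker_mk']
  have e3 := (M.map (QuotientGroup.mk' K)).card_mul_index
  rw [e2] at e3
  refine ⟨_, Subgroup.isComplement'_of_coprime e3 ?_⟩
  have e4 : Nat.card (M.map (QuotientGroup.mk' K)) = (P : Subgroup (H ⧸ K)).index := by
    apply Nat.eq_of_mul_eq_mul_right (Nat.card_pos (α := P))
    rw [e3, mul_comm, Subgroup.card_mul_index]
  rw [e4]
  exact P.card_coprime_index.symm

end Cfsg.Agent.S4564
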