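import Cfsg.Statements.S4566
import Cfsg.Agent.H4.Ord4

set_option autoImplicit false
open Cfsg

namespace Cfsg.Agent.S4566

open CfsgH4 CfsgH3

/-- Let N be a central subgroup of the finite group G, ψ a faithful irreducible (hence degree-one) character of N, and χ an irreducible character of G whose restriction to N contains ψ. If g ∈ G and some x ∈ G has commutator x⁻¹ g⁻¹ x g in N but different from 1, then χ g = 0. -/
theorem result {G : Type*} [Group G] [Fintype G] (N : Subgroup G) [Fintype N] (hN : N ≤ Subgroup.center G) (ψ : Cfsg.IrrCharacter ↥N) (hfaith : ∀ n : ↥N, (ψ : ↥N → ℂ) n = (ψ : ↥N → ℂ) 1 → n = 1) (χ : Cfsg.IrrCharacter G) (hover : Cfsg.classInner (fun n : ↥N => (χ : G → ℂ) n) (ψ : ↥N → ℂ) ≠ 0) (g x : G) (hcomm : x⁻¹ * g⁻¹ * x * g ∈ N) (hne : x⁻¹ * g⁻¹ * x * g ≠ 1) : (χ : G → ℂ) g = 0 := by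
  obtain ⟨lam, h⟩ := χ.2.isChar.exists_hom_of_le_cent χ.2.one_ne_zero N (hN.trans χ.2.center_le_cent)
  have e : (fun n : N => χ.1 n) = χ.1 1 • fun n => (lam n : ℂ) := funext fun n => by
    rw [← mul_one (n : G), h, mul_comm]; rfl
  rw [e] at hover
  have e2 := eq_of_smul_constituent (isIrr_unitsHom lam) ψ.2 hover
  have h1 := h ⟨_, hcomm⟩ g⁻¹
  rw [show (x⁻¹ * g⁻¹ * x * g * g⁻¹ : G) = x⁻¹ * g⁻¹ * x by group, χ.2.classFun.conj'] at h1
  have h2 : χ.1 g⁻¹ = 0 := by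
    by_contra h2
    refine hne (congrArg Subtype.val (hfaith ⟨_, hcomm⟩ ?_))
    rw [← e2]
    simpa using ((mul_eq_right₀ h2).1 h1.symm)
  rwa [χ.2.isChar.apply_inv, map_eq_zero] at h2

end Cfsg.Agent.S4566
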