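import Cfsg.Statements.S4567
import Cfsg.Agent.H4.Ord4
import Cfsg.Agent.S4566

set_option autoImplicit false
open Cfsg

namespace Cfsg.Agent.S4567

open CfsgH4 CfsgH3

/-- Let N be a central subgroup of the finite group G and ψ a faithful irreducible (hence degree-one) character of N. Call a coset g N special when every x ∈ G whose commutator x⁻¹ g⁻¹ x g lies in N actually commutes with g (this depends only on the coset). Then the number of irreducible characters of G whose restriction to N contains ψ equals the number of conjugacy classes of G/N consisting of special cosets. -/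
theorem result {G : Type*} [Group G] [Fintype G] (N : Subgroup G) [N.Normal] [Fintype N] (hN : N ≤ Subgroup.center G) (ψ : Cfsg.IrrCharacter ↥N) (hfaith : ∀ n : ↥N, (ψ : ↥N → ℂ) n = (ψ : ↥N → ℂ) 1 → n = 1) : Nat.card {χ : Cfsg.IrrCharacter G // Cfsg.classInner (fun n : ↥N => (χ : G → ℂ) n) (ψ : ↥N → ℂ) ≠ 0} = Nat.card {C : ConjClasses (G ⧸ N) // ∃ g : G, ConjClasses.mk (g : G ⧸ N) = C ∧ ∀ x : G, x⁻¹ * g⁻¹ * x * g ∈ N → x * g = g * x} := by
  classical
  have := Fintype.ofFinite (G ⧸ N)
  let sp : G → Prop := fun g => ∀ x : G, x⁻¹ * g⁻¹ * x * g ∈ N → x * g = g * x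
  have one : ψ.1 1 = 1 := ψ.2.deg_one_of_comm fun a b => Subtype.ext (Subgroup.mem_center_iff.1 (hN b.2) a)
  have h1 : ∀ (χ : IrrCharacter G) (g : G), ∑ n : N, (starRingEnd ℂ) (ψ.1 n) * χ.1 (n * g) =
      Nat.card N * if classInner (fun n : N => χ.1 n) ψ.1 ≠ 0 then χ.1 g else 0 := by
    intro χ g
    obtain ⟨lam, h⟩ := χ.2.isChar.exists_hom_of_le_cent χ.2.one_ne_zero N (hN.trans χ.2.center_le_cent)
    have e : (fun n : N => χ.1 n) = χ.1 1 • fun n => (lam n : ℂ) := funext fun n => by
      rw [← mul_one (n : G), h, mul_comm]; rfl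
    have e2 : ∑ n : N, (starRingEnd ℂ) (ψ.1 n) * χ.1 (n * g) =
        Nat.card N * (classInner (fun n => (lam n : ℂ)) ψ.1 * χ.1 g) := by
      rw [classInner, ← mul_assoc, mul_inv_cancel_left₀ (card_ne_zero_complex N), Finset.sum_mul]
      exact Finset.sum_congr rfl fun n _ => by rw [h]; ring
    rw [e2, e, CfsgH3.inner_smul_left, (isIrr_unitsHom lam).inner_eq ψ.2]
    have := χ.2.one_ne_zero
    split_ifs <;> simp_all
  have h2 : ∀ g : G, (Nat.card N : ℂ) * ∑ χ : IrrCharacter G,
      (if classInner (fun n : N => χ.1 n) ψ.1 ≠ 0 then χ.1 g else 0) * (starRingEnd ℂ) (χ.1 g) =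
      if sp g then (Nat.card (Subgroup.centralizer ({g} : Set G)) : ℂ) else 0 := by
    intro g
    split_ifs with hg
    · simp only [Finset.mul_sum, ← mul_assoc, ← h1, Finset.sum_mul]
      rw [Finset.sum_comm, Finset.sum_eq_single 1 _ (by simp)]
      · simp only [mul_assoc, ← Finset.mul_sum]
        rw [one, OneMemClass.coe_one, one_mul, sum_irr_mul_conj_of_isConj (IsConj.refl g)]; simp
      · intro n _ hn
        simp only [mul_assoc, ← Finset.mul_sum]
        rw [sum_irr_mul_conj_of_not_isConj, mul_zero]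
        intro hc
        obtain ⟨c, hc⟩ := isConj_iff.1 hc
        have e := Subgroup.mem_center_iff.1 (hN n.2)
        have e1 : c⁻¹ * g⁻¹ * c * g = (n : G)⁻¹ := by
          have : c⁻¹ * g * c = g * n := by
            rw [e g, ← mul_left_cancel_iff (a := c), ← mul_right_cancel_iff (a := c⁻¹), hc]; group
          calc c⁻¹ * g⁻¹ * c * g = (c⁻¹ * g * c)⁻¹ * g := by group
            _ = _ := by rw [this]; group
        have := hg c (e1 ▸ inv_mem n.2)
        rw [mul_assoc, mul_assoc, this, inv_mul_cancel_left, inv_mul_cancel, eq_comm, inv_eq_one] at e1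
        exact hn (Subtype.ext e1)
    · simp only [sp, not_forall] at hg
      obtain ⟨x, a, b⟩ := hg
      rw [Finset.sum_eq_zero, mul_zero]
      intro χ _
      split_ifs with h
      · rw [S4566.result N hN ψ hfaith χ h g x a (fun e => b (by
          calc x * g = g * x * (x⁻¹ * g⁻¹ * x * g) := by group
            _ = _ := by rw [e, mul_one])), zero_mul]
      · exact zero_mul _
  have sp1 : ∀ g x : G, x⁻¹ * g⁻¹ * x * g ∈ N ↔ (x : G ⧸ N) * g = g * x := fun g x => by
    rw [← QuotientGroup.mk_mul, ← QuotientGroup.mk_mul, eq_comm, QuotientGroup.eq]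
    simp [mul_assoc]
  let P : ConjClasses (G ⧸ N) → Prop := fun C => ∃ g : G, ConjClasses.mk (g : G ⧸ N) = C ∧ sp g
  have sp2 : ∀ g : G, P (ConjClasses.mk (g : G ⧸ N)) ↔ sp g := fun g => by
    refine ⟨?_, fun h => ⟨g, rfl, h⟩⟩
    rintro ⟨y, a, b⟩ x hx
    obtain ⟨c, hc⟩ := isConj_iff.1 (ConjClasses.mk_eq_mk_iff_isConj.1 a)
    obtain ⟨c, rfl⟩ := QuotientGroup.mk_surjective c
    have h3 := b (c⁻¹ * x * c) ((sp1 _ _).2 (by
      rw [sp1, ← hc] at hx
      simp only [QuotientGroup.mk_mul, QuotientGroup.mk_inv]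
      calc _ = (c : G ⧸ N)⁻¹ * (x * (c * y * (c : G ⧸ N)⁻¹)) * c := by group
        _ = _ := by rw [hx]; group))
    have h4 := Subgroup.mem_center_iff.1 (hN (QuotientGroup.eq.1 (hc : ((c * y * c⁻¹ : G) : G ⧸ N) = g))) x
    calc x * g = c * (c⁻¹ * x * c * y) * c⁻¹ * ((c * y * c⁻¹)⁻¹ * g) := by group
      _ = c * y * c⁻¹ * (x * ((c * y * c⁻¹)⁻¹ * g)) := by rw [h3]; group
      _ = _ := by rw [h4]; group
  have sp3 : ∀ g : G, (if sp g then Nat.card (Subgroup.centralizer ({g} : Set G)) else 0) =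
      Nat.card N * if P (ConjClasses.mk (g : G ⧸ N)) then
        Nat.card (Subgroup.centralizer ({(g : G ⧸ N)} : Set (G ⧸ N))) else 0 := fun g => by
    simp only [sp2]
    split_ifs with h
    · rw [← card_comap_mk']
      congr 2
      ext x
      simp only [Subgroup.mem_comap, Subgroup.mem_centralizer_singleton_iff, QuotientGroup.mk'_apply]
      exact ⟨fun e => by rw [← QuotientGroup.mk_mul, e, QuotientGroup.mk_mul], fun e => h x ((sp1 _ _).2 e)⟩
    · rfl
  have h3 := Finset.sum_congr (rfl : Finset.univ = _) fun g _ => h2 g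
  rw [← Finset.mul_sum, Finset.sum_comm, Finset.sum_congr rfl (g := fun χ : IrrCharacter G =>
    if classInner (fun n : N => χ.1 n) ψ.1 ≠ 0 then (Nat.card G : ℂ) else 0) (fun χ _ => by
      split_ifs
      · rw [← χ.2.sum_conj_mul]; exact Finset.sum_congr rfl fun _ _ => mul_comm _ _
      · simp), ← Finset.sum_filter, Finset.sum_const, ← Fintype.card_subtype, ← Nat.card_eq_fintype_card,
    nsmul_eq_mul] at h3
  have h4 : Nat.card N * (Nat.card {χ : IrrCharacter G // classInner (fun n : N => χ.1 n) ψ.1 ≠ 0} *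
      Nat.card G) = ∑ g, if sp g then Nat.card (Subgroup.centralizer ({g} : Set G)) else 0 := by
    exact_mod_cast h3
  simp only [sp3] at h4
  have h5 : ∑ q : G ⧸ N, (if P (ConjClasses.mk q) then
      Nat.card (Subgroup.centralizer ({q} : Set (G ⧸ N))) else 0) =
      Nat.card {C // P C} * Nat.card (G ⧸ N) := by
    rw [card_classes_mul, Finset.sum_filter]; exact Finset.sum_congr rfl fun _ _ => by congr
  rw [← Finset.mul_sum, sum_comp_mk N (fun q => if P (ConjClasses.mk q) then
    Nat.card (Subgroup.centralizer ({q} : Set (G ⧸ N))) else 0), h5, smul_eq_mul, mul_left_comm (Nat.card N) (Nat.card {C // P C}), mul_comm _ (Nat.card (G ⧸ N)),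
    ← Subgroup.card_eq_card_quotient_mul_card_subgroup] at h4
  exact Nat.eq_of_mul_eq_mul_right Nat.card_pos (Nat.eq_of_mul_eq_mul_left Nat.card_pos h4)

end Cfsg.Agent.S4567
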