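import Cfsg.Statements.S4571
import Cfsg.Agent.H4.Dom

set_option autoImplicit false
open Cfsg

namespace Cfsg.Agent.S4571

open CfsgH4 CfsgH3 CfsgH2 MonoidAlgebra

/-- Let Q be a normal p-subgroup of the finite group G with G = Q·C_G(Q), and M a maximal ideal of the algebraic integers containing p. Then the principal p-blocks of G and of G/Q have the same p-regular rank (the same number of irreducible Brauer characters). -/
theorem result {G : Type*} [Group G] [Finite G] (p : ℕ) [Fact p.Prime] (M : Ideal Cfsg.AlgInt) (hM : Cfsg.IsPModular p M) (Q : Subgroup G) [Q.Normal] (hQ : IsPGroup p Q) (hsup : Q ⊔ Subgroup.centralizer (Q : Set G) = ⊤) : Cfsg.blockRank p (Cfsg.principalBlock M G) = Cfsg.blockRank p (Cfsg.principalBlock M (G ⧸ Q)) := by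
  have := hM.2.1
  have := charP_of_isPModular hM
  have : (Subgroup.centralizer (Q : Set G)).Normal := Subgroup.normal_centralizer
  obtain ⟨k, hk⟩ : ∃ k, (Subgroup.centralizer (Q : Set G)).index = p ^ k := by
    obtain ⟨n, hn⟩ := IsPGroup.iff_card.1 hQ
    have h1 : (Subgroup.centralizer (Q : Set G)).index ∣ p ^ n := by
      rw [← Subgroup.relIndex_top_right, ← hsup, Subgroup.relIndex_sup_right, ← hn]
      exact Subgroup.relIndex_dvd_card _ _
    obtain ⟨k, -, h⟩ := (Nat.dvd_prime_pow Fact.out).1 h1
    exact ⟨k, h⟩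
  have hC := fun x (hx : ¬ p ∣ orderOf x) => mem_of_not_dvd_orderOf hk hx
  rw [blockRank_dom hQ hC (isPBlock_principal (M := M))]
  congr 1
  exact block_eq_of_mem (isPBlock_dom hQ hC isPBlock_principal) isPBlock_principal
    (show infl Q _ ∈ _ from infl_one Q ▸ one_mem_principal) one_mem_principal

end Cfsg.Agent.S4571
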