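import Cfsg.Statements.S4574
import Cfsg.Agent.H4.Ord4

set_option autoImplicit false
open Cfsg

namespace Cfsg.Agent.S4574

open CfsgH4 CfsgH3

/-- Let χ be an irreducible character of the finite group G, of degree d, and let Z(χ) be the set of elements g with |χ g| = d (the centre of χ). Then χ vanishes on at least (d ^ 2 - 1) · |Z(χ)| elements of G, with equality when every value |χ g| is 0, 1 or d. -/
theorem result {G : Type*} [Group G] [Fintype G] [DecidableEq G] (χ : G → ℂ) (hχ : Cfsg.IsIrrCharacter G χ) : (Cfsg.charDegree χ ^ 2 - 1) * (Finset.univ.filter (fun g : G => ‖χ g‖ = (Cfsg.charDegree χ : ℝ))).card ≤ (Finset.univ.filter (fun g : G => χ g = 0)).card ∧ ((∀ g : G, ‖χ g‖ = 0 ∨ ‖χ g‖ = 1 ∨ ‖χ g‖ = (Cfsg.charDegree χ : ℝ)) → (Cfsg.charDegree χ ^ 2 - 1) * (Finset.univ.filter (fun g : G => ‖χ g‖ = (Cfsg.charDegree χ : ℝ))).card = (Finset.univ.filter (fun g : G => χ g = 0)).card) := by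
  let S := Finset.univ.filter fun g => χ g ≠ 0 ∧ ‖χ g‖ ≠ charDegree χ
  let Z := Finset.univ.filter fun g => ‖χ g‖ = charDegree χ
  let V := Finset.univ.filter fun g => χ g = 0
  have d0 := charDegree_pos hχ
  have split : ∀ f : G → ℝ, ∑ g, f g = ∑ g ∈ Z, f g + ∑ g ∈ V, f g + ∑ g ∈ S, f g := by
    intro f
    simp only [S, Z, V, Finset.sum_filter, ← Finset.sum_add_distrib]
    refine Finset.sum_congr rfl fun g _ => ?_
    by_cases a : χ g = 0
    · have : (0 : ℝ) ≠ charDegree χ := by exact_mod_cast d0.ne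
      simp [a, this]
    · by_cases b : ‖χ g‖ = charDegree χ <;> simp [a, b]
  have h1 := split fun _ => 1
  have h2 := split fun g => ‖χ g‖ ^ 2
  rw [sum_normSq_irr hχ, Finset.sum_congr rfl fun g (hg : g ∈ Z) => by rw [(Finset.mem_filter.1 hg).2],
    Finset.sum_eq_zero fun g (hg : g ∈ V) => by rw [(Finset.mem_filter.1 hg).2]; simp] at h2
  simp only [Finset.sum_const, nsmul_eq_mul, mul_one, Finset.card_univ] at h1 h2
  rw [Nat.card_eq_fintype_card] at h2
  have h3 := card_le_sum_normSq hχ.isGen S (fun g hg k hk => by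
    simp only [S, Finset.mem_filter, Finset.mem_univ, true_and, ← norm_one_eq hχ.isChar] at hg ⊢
    exact ⟨mt (apply_pow_eq_zero_iff hχ.isGen hk g).1 hg.1,
      mt (pow_mem_iff_of_coprime (H := hχ.isChar.cent) hk).1 hg.2⟩) fun g hg => (Finset.mem_filter.1 hg).2.1
  have e : (((charDegree χ ^ 2 - 1) * Z.card : ℕ) : ℝ) = Z.card * charDegree χ ^ 2 - Z.card := by
    rw [Nat.cast_mul, Nat.cast_sub (Nat.one_le_pow _ _ d0)]; push_cast; ring
  refine ⟨(Nat.cast_le (α := ℝ)).1 (by rw [e]; linarith), fun h => Nat.cast_injective (R := ℝ) ?_⟩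
  rw [Finset.sum_congr rfl (g := fun _ => 1) fun g hg => by
    obtain ⟨a, b⟩ := (Finset.mem_filter.1 hg).2
    rw [((h g).resolve_left (by simpa using a)).resolve_right b, one_pow]] at h2
  simp only [Finset.sum_const, nsmul_eq_mul, mul_one] at h2
  rw [e]; linarith

end Cfsg.Agent.S4574
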