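import Cfsg.Statements.S4580
import Cfsg.Agent.H4.Prin

set_option autoImplicit false
open Cfsg

namespace Cfsg.Agent.S4580

open CfsgH4 CfsgH3 CfsgH2 MonoidAlgebra

/-- Let N be a normal subgroup of the finite group G, M a maximal ideal of the algebraic integers containing 2, and θ a real-valued irreducible character of N of odd degree that extends to G (some irreducible character of G restricts to θ). Then θ has an extension to G lying in the principal 2-block of G. -/
theorem result {G : Type*} [Group G] [Finite G] (N : Subgroup G) [N.Normal] (M : Ideal Cfsg.AlgInt) (hM : Cfsg.IsPModular 2 M) (θ : Cfsg.IrrCharacter N) (hreal : ∀ n : N, ((θ : N → ℂ) n).im = 0) (hodd : Odd (Cfsg.charDegree (θ : N → ℂ))) (hext : ∃ η : Cfsg.IrrCharacter G, ∀ n : N, (η : G → ℂ) n = (θ : N → ℂ) n) :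
    ∃ η : Cfsg.IrrCharacter G, (∀ n : N, (η : G → ℂ) n = (θ : N → ℂ) n) ∧ η ∈ Cfsg.principalBlock M G := by
  have := Fact.mk Nat.prime_two
  have := hM.2.1
  have := charP_of_isPModular hM
  obtain ⟨η, hη⟩ := hext
  obtain ⟨ν, h1, h2⟩ := exists_lin_of_ext' η.2.isChar η.2.isChar.conj_char θ.2 hη fun n => by
    rw [hη, Complex.conj_eq_iff_im.2 (hreal n)]
  set m := Nat.card G / 2 ^ (Nat.card G).factorization 2 with hm
  have hm2 : ¬ 2 ∣ m := Nat.not_dvd_ordCompl Nat.prime_two Nat.card_pos.ne'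
  obtain ⟨j, hj⟩ : ∃ j, m + 1 = 2 * j := ⟨(m + 1) / 2, by omega⟩
  let ξ : IrrCharacter G := ⟨fun g => η.1 g * (ν ^ j) g, η.2.mul_linear _⟩
  have h3 : ∀ n : N, ξ.1 n = θ.1 n := fun n => by simp [ξ, h1 n n.2, hη]
  refine ⟨ξ, h3, mem_principal_of_two (isPBlock_blockOf ξ) (mem_blockOf_self ξ) (mem_blockOf_self ξ)
    ?_ fun g hg => ?_⟩
  · have : charDegree ξ.1 = charDegree θ.1 := by
      unfold charDegree; rw [← h3 1]; rfl
    rw [this]
    exact Nat.two_dvd_ne_zero.2 (Nat.odd_iff.1 hodd)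
  · have a : ν g ^ m = 1 := by
      rw [← map_pow, orderOf_dvd_iff_pow_eq_one.1 (dvd_ordCompl hg (orderOf_dvd_natCard g)), map_one]
    have b : ν g ^ j * ν g ^ j = ν g := by
      rw [← pow_add, ← two_mul, ← hj, pow_succ, a, one_mul]
    have c : (ν g : ℂ) ^ j * (ν g : ℂ) ^ j = ν g := by exact_mod_cast congrArg Units.val b
    have d : (ν g : ℂ) ^ j ≠ 0 := pow_ne_zero _ (ν g).ne_zero
    simp only [ξ, η.2.isChar.apply_inv, h2 g, MonoidHom.pow_apply, map_inv, inv_pow,
      Units.val_inv_eq_inv_val, Units.val_pow_eq_pow_val]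
    field_simp
    linear_combination (η.1 g) * c

end Cfsg.Agent.S4580
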