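import Cfsg.Statements.S4583
import Cfsg.Agent.H4.Rob2

set_option autoImplicit false
open Cfsg

namespace Cfsg.Agent.S4583

open CfsgH4 CfsgH3 CfsgH2 MonoidAlgebra

/-- Let N be a normal subgroup of the finite group G, p a prime, M a maximal ideal of the algebraic integers containing p, and P a Sylow p-subgroup of G. Let θ be an irreducible character of N of degree prime to p lying in the principal p-block of N, and suppose θ extends to the subgroup NP (some irreducible character of NP restricts to θ). Then some irreducible character χ of G of degree prime to p in the principal p-block of G lies over θ (θ is a constituent of the restriction of χ to N). -/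
theorem result {G : Type*} [Group G] [Finite G] (N : Subgroup G) [N.Normal] (p : ℕ) [Fact p.Prime] (M : Ideal Cfsg.AlgInt) (hM : Cfsg.IsPModular p M) (P : Sylow p G)
    (θ : Cfsg.IrrCharacter N) (hθ : θ ∈ Cfsg.principalBlock M N) (hdeg : ¬ p ∣ Cfsg.charDegree (θ : N → ℂ))
    (hext : ∃ η : Cfsg.IrrCharacter ↥(N ⊔ (P : Subgroup G)), ∀ n : N, (η : ↥(N ⊔ (P : Subgroup G)) → ℂ) (Subgroup.inclusion le_sup_left n) = (θ : N → ℂ) n) :
    ∃ χ : Cfsg.IrrCharacter G, χ ∈ Cfsg.principalBlock M G ∧ ¬ p ∣ Cfsg.charDegree (χ : G → ℂ) ∧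
      haveI := Fintype.ofFinite N; Cfsg.classInner (fun n : N => (χ : G → ℂ) n) (θ : N → ℂ) ≠ 0 := by
  classical
  have := hM.2.1
  have := charP_of_isPModular hM
  have := Fintype.ofFinite G
  let _ := Fintype.ofFinite N
  obtain ⟨η, hη⟩ := hext
  have := Fintype.ofFinite (N ⊔ (P : Subgroup G) : Subgroup G)
  have hp : p.Prime := Fact.out
  have hNH : N ≤ (N ⊔ (P : Subgroup G) : Subgroup G) := le_sup_left
  have hres : (fun n : N => η.1 ⟨n, hNH n.2⟩) = θ.1 := funext hη
  have h1 : η ∈ principalBlock M (N ⊔ (P : Subgroup G) : Subgroup G) := by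
    have h2 : ∃ k, N.relIndex (N ⊔ (P : Subgroup G) : Subgroup G) = p ^ k := by
      rw [Subgroup.relIndex_sup_left]
      exact P.isPGroup'.index (N.subgroupOf P)
    obtain ⟨k, hk⟩ := h2
    have h3 := cover_unique_of_pquot hNH le_normalizer_of_normal'
      (fun x hx h => mem_of_pregular_of_relIndex (p := p) le_normalizer_of_normal' hk hx h)
      (isPrim_bIdS (isPBlock_principal (M := M))) (isPrim_bIdS (isPBlock_blockOf η))
      (isPrim_bIdS isPBlock_principal)
      ((cover_iff_S hNH (isPBlock_blockOf η) isPBlock_principal).1 ⟨η, mem_blockOf_self η, θ, hθ, by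
        rw [hres, θ.2.inner_self]; exact one_ne_zero⟩)
      ((cover_iff_S hNH isPBlock_principal isPBlock_principal).1 ⟨_, one_mem_principal, _,
        one_mem_principal, by rw [isIrr_one.inner_self]; exact one_ne_zero⟩)
    rw [← bIdS_injective (isPBlock_blockOf η) isPBlock_principal h3]
    exact mem_blockOf_self η
  have hS := eSet_mem_SG (isPBlock_principal (M := M) (G := G))
  have h2 := red_om_one_res_principal (M := M) (IsSylowIn.of_sylow_top P) (le_sup_right : _ ≤ (N ⊔ (P : Subgroup G) : Subgroup G))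
  rw [red_om_eq_of_sameBlock isIrr_one η.2 h1 (res_mem_Ztop (Fix_anti le_top (eSet_mem_Fix _))).2
    (res_mem_SG _ hS), ← blockPart_indFun_one_div] at h2
  have h3 : η.1 1 = charDegree θ.1 := by rw [coe_charDegree θ.2.isChar, ← hres]; rfl
  have h4 : red M (indFun (N ⊔ (P : Subgroup G) : Subgroup G) η.1 1) ≠ 0 := by
    rw [indFun_one, h3, ← Nat.cast_mul]
    refine red_natCast_ne_zero fun h => (hp.dvd_mul.1 h).elim (fun h => P.not_dvd_index
      (h.trans (Subgroup.index_dvd_of_le le_sup_right))) hdeg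
  have h5 := red_mul_ne_zero h2 h4
  rw [div_mul_cancel₀ _ (ne_zero_of_red_ne_zero h4), blockPart_apply] at h5
  have hL : LC (Loc M) (indFun (N ⊔ (P : Subgroup G) : Subgroup G) η.1) := LC.of_char η.2.isChar.ind
  rw [red_sum _ _ fun χ _ => mul_mem (hL.inner χ) (irr_mem_Loc _ _)] at h5
  obtain ⟨χ, h6, h7⟩ := Finset.exists_ne_zero_of_sum_ne_zero h5
  rw [red_mul (hL.inner χ) (irr_mem_Loc _ _)] at h7
  refine ⟨χ, mem_irrF.1 h6, fun h => right_ne_zero_of_mul h7 ?_, ?_⟩
  · rw [← coe_charDegree χ.2.isChar]; exact red_natCast_eq_zero_iff.2 h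
  · have h8 := ne_zero_of_red_ne_zero (left_ne_zero_of_mul h7)
    rw [inner_indFun_left _ _ χ.2.classFun, Ne, CfsgH3.inner_eq_zero_symm] at h8
    refine ip_comp_ne_zero_of_constituent (Subgroup.inclusion hNH) (χ.2.isChar.restrict (N ⊔ (P : Subgroup G) : Subgroup G)) η.2 h8
      θ.2.isChar ?_
    rw [show (fun x => η.1 (Subgroup.inclusion hNH x)) = θ.1 from hres, θ.2.inner_self]
    exact one_ne_zero

end Cfsg.Agent.S4583
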