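import Cfsg.Statements.S4584
import Cfsg.Agent.H4.Ord4

set_option autoImplicit false
open Cfsg

namespace Cfsg.Agent.S4584

open CfsgH4 CfsgH3

/-- Let p be a prime and P a group of order p^4. Then the derived subgroup P' has order p if and only if the centre Z(P) has index p^2 in P. -/
theorem result {P : Type*} [Group P] [Finite P] (p : ℕ) [Fact p.Prime] (hP : Nat.card P = p ^ 4) :
    Nat.card (commutator P) = p ↔ (Subgroup.center P).index = p ^ 2 := by
  have hp : p.Prime := Fact.out
  have hG : IsPGroup p P := IsPGroup.of_card hP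
  constructor
  · intro h
    have hZ : commutator P ≤ Subgroup.center P := by
      obtain ⟨z, a, b, -, c⟩ := CfsgH2.exists_central_of_ne_bot (V := ⊤) (N := commutator P)
        (hG.to_subgroup ⊤) le_top (by rw [Subgroup.normalizer_eq_top])
        ((Subgroup.one_lt_card_iff_ne_bot _).1 (h ▸ hp.one_lt))
      rw [Subgroup.coe_top, Subgroup.centralizer_univ] at c
      have := Fact.mk (h ▸ hp : (Nat.card (commutator P)).Prime)
      rcases ((Subgroup.center P).subgroupOf (commutator P)).eq_bot_or_eq_top_of_prime_card with e | e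
      · have h2 : (⟨z, a⟩ : commutator P) ∈ (Subgroup.center P).subgroupOf (commutator P) := c
        rw [e] at h2
        exact absurd (congrArg Subtype.val (Subgroup.mem_bot.1 h2)) b
      · exact Subgroup.subgroupOf_eq_top.1 e
    obtain ⟨χ, a, b⟩ := exists_nonlin (G := P) ((Subgroup.one_lt_card_iff_ne_bot _).1 (h ▸ hp.one_lt))
    have h1 := deg_sq_of_prime_comm (h ▸ hp) hZ a b
    obtain ⟨k, hk⟩ := charDegree_pgroup hp hG a
    have h2 := (Subgroup.center P).card_mul_index
    have h3 := Subgroup.card_le_of_le hZ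
    rw [← h1, hk] at h2 ⊢
    rcases k with _ | _ | k
    · exact absurd ((charDegree_eq_one_iff a.isChar).1 hk) b
    · simp
    · have : p ^ 5 ≤ p ^ 4 := by
        rw [← hP, ← h2, pow_succ' p 4, ← pow_mul]
        exact Nat.mul_le_mul (h ▸ h3) (Nat.pow_le_pow_right hp.pos (by omega))
      exact absurd ((Nat.pow_le_pow_iff_right hp.one_lt).1 this) (by omega)
  · intro h
    have hZ : Nat.card (Subgroup.center P) = p ^ 2 := by
      have h2 := (Subgroup.center P).card_mul_index
      rw [h, hP, show 4 = 2 + 2 from rfl, pow_add] at h2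
      exact Nat.eq_of_mul_eq_mul_right (pow_pos hp.pos 2) h2
    obtain ⟨A, h1, -, h2, h3⟩ := CfsgH2.exists_normal_card (V := ⊤) (N := ⊤) (M := Subgroup.center P)
      (hG.to_subgroup ⊤) le_top (by rw [Subgroup.normalizer_eq_top]) (by rw [Subgroup.normalizer_eq_top])
      le_top hZ (k := 3) (by omega) (by rw [Subgroup.card_top, hP]; exact Nat.pow_le_pow_right hp.pos (by omega))
    have : A.Normal := Subgroup.normalizer_eq_top_iff.1 (top_le_iff.1 h2)
    have h4 : A.index = p := by
      have h2 := A.card_mul_index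
      rw [h3, hP, pow_succ p 3] at h2
      exact Nat.eq_of_mul_eq_mul_left (pow_pos hp.pos 3) h2
    have h5 := CfsgH2.relIndex_eq_of_card h1 (n := p) (by rw [h3, hZ, pow_succ p 2])
    obtain ⟨y, hy, hy'⟩ := SetLike.exists_of_lt (CfsgH2.lt_of_relIndex_prime h5 h1)
    have hab : IsMulCommutative A := by
      rw [← CfsgH2.sup_zpowers_eq_of_relIndex_prime h5 h1 hy hy']
      exact CfsgH2.isMulCommutative_sup_zpowers inferInstance
        (fun z hz => (Subgroup.mem_center_iff.1 hz y).symm)
    obtain ⟨x, hx⟩ : ∃ x, x ∉ A := by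
      by_contra! e
      rw [(Subgroup.eq_top_iff' _).2 e, Subgroup.index_top] at h4
      exact hp.one_lt.ne h4
    have := card_eq_commutator_mul (fun a ha b hb => CfsgH2.mul_comm_of_isMulCommutative hab ha hb)
      (sup_zpowers_eq_top_of_index_prime (h4 ▸ hp) hx)
    rw [inf_eq_right.2 h1, h3, hZ, pow_succ' p 2] at this
    exact (Nat.eq_of_mul_eq_mul_right (pow_pos hp.pos 2) this).symm

end Cfsg.Agent.S4584
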