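import Cfsg.Statements.S4585
import Cfsg.Agent.H2.MaxClass

set_option autoImplicit false
open Cfsg

namespace Cfsg.Agent.S4585
open Subgroup CfsgH2
open scoped commutatorElement

/-- Let p be a prime and P a group of order p^4. Then P' has index p^2 in P if and only if P has maximal nilpotency class, that is, nilpotency class exactly 3. -/
theorem result {P : Type*} [Group P] [Finite P] (p : ℕ) [Fact p.Prime] (hP : Nat.card P = p ^ 4) :
    (commutator P).index = p ^ 2 ↔ Group.nilpotencyClass P = 3 := by
  have hp : p.Prime := Fact.out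
  refine ⟨fun h => ?_, fun h => index_commutator_of_class hP (by omega) h⟩
  have hG := IsPGroup.of_card hP
  haveI := hG.isNilpotent
  refine le_antisymm (class_le hP (by omega)) ?_
  by_contra hc
  have h1 : (⊤ : Subgroup P).lowerCentralSeries 2 = ⊥ :=
    Subgroup.lowerCentralSeries_eq_bot_iff_nilpotencyClass_le.2 (by omega)
  rw [Subgroup.lowerCentralSeries_succ, top_lowerCentralSeries_one] at h1
  have h2 := le_centralizer_of_commutator_eq_bot h1
  have h3 : Nat.card (_root_.commutator P) = p ^ 2 := by
    have := (_root_.commutator P).index_mul_card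
    rw [h, hP, show 4 = 2 + 2 from rfl, pow_add] at this
    exact Nat.eq_of_mul_eq_mul_left (by positivity [hp.pos]) this
  obtain ⟨K, hZK, -, hKn, hK⟩ := exists_normal_card (hG.to_subgroup ⊤) le_rfl le_normalizer
    (M := _root_.commutator P) (by rw [normalizer_eq_top]) le_top (a := 2) (k := 3) h3
    (by omega) (by rw [Subgroup.card_top, hP]; exact Nat.pow_le_pow_right hp.pos (by omega))
  obtain ⟨x, hxK, hx⟩ := exists_sup_zpowers_eq (hG.to_subgroup K) hZK (by rw [hK, h3, pow_succ])
  obtain ⟨y, -, hy⟩ := exists_sup_zpowers_eq (hG.to_subgroup ⊤) (le_top (a := K))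
    (by rw [hK, Subgroup.card_top, hP, pow_succ])
  have hd : ⁅x, y⁆ ∈ _root_.commutator P := commutator_mem_commutator (mem_top x) (mem_top y)
  have hc1 : ∀ g, Commute ⁅x, y⁆ g := fun g => (h2 hd g (mem_top g)).symm
  have hn : (⊤ : Subgroup P) ≤ normalizer (zpowers ⁅x, y⁆ : Set P) := fun g _ =>
    mem_norm_zpowers (by rw [← (hc1 g).eq, mul_inv_cancel_right]; exact mem_zpowers _)
  have h4 : ⁅(⊤ : Subgroup P), ⊤⁆ ≤ zpowers ⁅x, y⁆ := by
    refine commutator_le_of_sup_zpowers hy hn ?_
    rw [← hx]
    refine commutator_sup_le (le_top.trans hn) (le_top.trans hn) (h1 ▸ bot_le) ?_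
    rw [← hy, ← hx, commutator_comm]
    refine commutator_sup_le (le_top.trans hn) (le_top.trans hn) (commutator_sup_le (le_top.trans hn)
      (le_top.trans hn) ((commutator_mono le_rfl le_top).trans (h1 ▸ bot_le)) ?_) ?_
    · exact commutator_zpowers_zpowers_le (hn (mem_top _)) (hn (mem_top _)) (by simp)
    · exact commutator_zpowers_zpowers_le (hn (mem_top _)) (hn (mem_top _))
        (comm_mem_symm (mem_zpowers _))
  have h5 : x ^ p ∈ _root_.commutator P := by
    have := pow_relIndex_mem' (H := K) (N := _root_.commutator P) (by rw [normalizer_eq_top]; exact le_top) hxK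
    rwa [relIndex_eq_of_card hZK (n := p) (by rw [hK, h3, pow_succ])] at this
  have h6 : ⁅x, y⁆ ^ p = 1 := by
    rw [← commutatorElement_pow_left' (hc1 x), commutatorElement_eq_one_iff_mul_comm]
    exact (h2 h5 y (mem_top y)).symm
  have h7 := card_le_of_le h4
  rw [Nat.card_zpowers] at h7
  have h8 := Nat.le_of_dvd hp.pos (orderOf_dvd_of_pow_eq_one h6)
  have h9 : Nat.card (_root_.commutator P) ≤ p := h7.trans h8
  rw [h3] at h9
  have := hp.two_le
  nlinarith


end Cfsg.Agent.S4585
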