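import Cfsg.Statements.S4586
import Cfsg.Agent.H4.Ord4

set_option autoImplicit false
open Cfsg

namespace Cfsg.Agent.S4586

open CfsgH4 CfsgH3

/-- Let p be a prime, P a finite p-group and N a normal subgroup of P of index p. For x ∈ P write c(x) for the number of elements n of N whose commutator x n x⁻¹ n⁻¹ lies in the derived subgroup N' (so c(x)/#N' is the order of the centralizer of x acting on N/N'). Then [P : P'] = p² if and only if c(x) = p·#N' for every x ∈ P outside N, and also if and only if c(x) = p·#N' for some x ∈ P outside N. -/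
theorem result {P : Type*} [Group P] [Finite P] (p : ℕ) [Fact p.Prime] (hP : IsPGroup p P) (N : Subgroup P) [N.Normal] (hN : N.index = p) :
    ((commutator P).index = p ^ 2 ↔ ∀ x : P, x ∉ N →
        Nat.card {n : N // x * n * x⁻¹ * (n : P)⁻¹ ∈ (commutator N).map N.subtype} = p * Nat.card (commutator N)) ∧
    ((commutator P).index = p ^ 2 ↔ ∃ x : P, x ∉ N ∧
        Nat.card {n : N // x * n * x⁻¹ * (n : P)⁻¹ ∈ (commutator N).map N.subtype} = p * Nat.card (commutator N)) := by
  have hp : p.Prime := Fact.out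
  set D := (commutator N).map N.subtype with hD
  have eD : D = ⁅N, N⁆ := N.map_subtype_commutator
  have : D.Normal := eD ▸ inferInstance
  have hDN : D ≤ N := N.map_subtype_le _
  have cD : Nat.card (commutator N) = Nat.card D := (Subgroup.card_map_of_injective N.subtype_injective).symm
  let π := QuotientGroup.mk' D
  have hπ : Function.Surjective π := QuotientGroup.mk'_surjective D
  let A := N.map π
  have : A.Normal := Subgroup.Normal.map inferInstance π hπ
  have hA : A.index = p := by rw [Subgroup.index_map_eq _ hπ (by rwa [QuotientGroup.ker_mk']), hN]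
  have mem : ∀ x, π x ∈ A ↔ x ∈ N := fun x => by
    rw [← Subgroup.mem_comap, CfsgH1.comap_map_mk', sup_eq_left.2 hDN]
  have key : ∀ x : P, x ∉ N → ((commutator P).index = p ^ 2 ↔
      Nat.card {n : N // x * n * x⁻¹ * (n : P)⁻¹ ∈ D} = p * Nat.card (commutator N)) := by
    intro x hx
    have hx' := sup_zpowers_eq_top_of_index_prime (hA ▸ hp) (mt (mem x).1 hx)
    have hab : ∀ a ∈ A, ∀ b ∈ A, a * b = b * a := by
      rintro _ ⟨a, ha, rfl⟩ _ ⟨b, hb, rfl⟩
      rw [← commutatorElement_eq_one_iff_mul_comm, ← map_commutatorElement, ← MonoidHom.mem_ker,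
        QuotientGroup.ker_mk', eD]
      exact Subgroup.commutator_mem_commutator ha hb
    have h1 := card_eq_commutator_mul hab hx'
    have h2 : Nat.card {n : N // x * n * x⁻¹ * (n : P)⁻¹ ∈ D} =
        Nat.card ((A ⊓ Subgroup.center _).comap π) := by
      have : ∀ n ∈ N, x * n * x⁻¹ * n⁻¹ ∈ D ↔ π n ∈ Subgroup.center _ := fun n hn => by
        rw [← QuotientGroup.eq_one_iff, ← QuotientGroup.mk'_apply, ← commutatorElement_def,
          map_commutatorElement, commutatorElement_eq_one_iff_mul_comm]
        refine ⟨fun h => ?_, fun h => Subgroup.mem_center_iff.1 h _⟩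
        have : ⊤ ≤ Subgroup.centralizer {π n} := hx' ▸ sup_le
          (fun a ha => Subgroup.mem_centralizer_singleton_iff.2 (hab _ ha _ ((mem n).2 hn)))
          (Subgroup.zpowers_le.2 (Subgroup.mem_centralizer_singleton_iff.2 h))
        exact Subgroup.mem_center_iff.2 fun g => Subgroup.mem_centralizer_singleton_iff.1 (this trivial)
      exact Nat.card_congr ⟨fun n => ⟨n.1, (mem _).2 n.1.2, (this _ n.1.2).1 n.2⟩,
        fun n => ⟨⟨n.1, (mem _).1 n.2.1⟩, (this _ ((mem _).1 n.2.1)).2 n.2.2⟩, fun _ => rfl, fun _ => rfl⟩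
    have h3 := A.card_mul_index
    rw [h1, hA, ← (commutator (P ⧸ D)).card_mul_index, mul_assoc,
      index_commutator_quot D (eD ▸ Subgroup.commutator_mono le_top le_top)] at h3
    rw [h2, card_comap_mk', cD, ← Nat.eq_of_mul_eq_mul_left Nat.card_pos h3, sq, mul_comm p (Nat.card D),
      mul_left_inj' hp.ne_zero, mul_right_inj' Nat.card_pos.ne']
  obtain ⟨x, hx⟩ : ∃ x, x ∉ N := by
    by_contra! e
    rw [(Subgroup.eq_top_iff' _).2 e, Subgroup.index_top] at hN
    exact hp.one_lt.ne hN
  exact ⟨⟨fun h y hy => (key y hy).1 h, fun h => (key x hx).2 (h x hx)⟩,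
    ⟨fun h => ⟨x, hx, (key x hx).1 h⟩, fun ⟨y, hy, h⟩ => (key y hy).2 h⟩⟩

end Cfsg.Agent.S4586
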