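import Cfsg.Statements.S4588
import Cfsg.Agent.H4.BF

set_option autoImplicit false
open Cfsg

namespace Cfsg.Agent.S4588

open CfsgH4 CfsgH3 CfsgH2 MonoidAlgebra

/-- Let G be a finite group, p a prime and M a maximal ideal of the algebraic integers containing p. If some p-element x of G (possibly x = 1) has centralizer whose order has p-part at most p², then the principal p-block of G contains at most p² irreducible characters of degree prime to p. -/
theorem result {G : Type*} [Group G] [Finite G] (p : ℕ) [Fact p.Prime] (M : Ideal Cfsg.AlgInt) (hM : Cfsg.IsPModular p M)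
    (hx : ∃ x : G, (∃ k : ℕ, orderOf x = p ^ k) ∧ (Nat.card (Subgroup.centralizer ({x} : Set G))).factorization p ≤ 2) :
    Nat.card {χ : Cfsg.IrrCharacter G // χ ∈ Cfsg.principalBlock M G ∧ ¬ p ∣ Cfsg.charDegree (χ : G → ℂ)} ≤ p ^ 2 := by
  have := hM.2.1
  have := charP_of_isPModular hM
  have := Fintype.ofFinite G
  classical
  obtain ⟨x, hx, h2⟩ := hx
  have hp : p.Prime := Fact.out
  have hb := isPBlock_principal (M := M) (G := Subgroup.centralizer ({x} : Set G))
  have hd : blockDefect p (principalBlock M (Subgroup.centralizer ({x} : Set G))) ≤ 2 :=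
    (Nat.sub_le _ _).trans h2
  have hind := (principal_induced_cent (M := M) hx).2 rfl
  by_cases h1 : x = 1
  · subst h1
    have h3 : blockDefect p (principalBlock M G) ≤ 2 := by
      refine (Nat.sub_le _ _).trans ?_
      rwa [show Subgroup.centralizer ({1} : Set G) = ⊤ from eq_top_iff.2 fun g _ => by
        simp [Subgroup.mem_centralizer_singleton_iff], Subgroup.card_top] at h2
    refine le_trans ?_ ((card_le_of_defect_le_two isPBlock_principal h3).trans
      (Nat.pow_le_pow_right hp.pos h3))
    exact Nat.card_le_card_of_injective (fun χ => ⟨χ.1, χ.2.1⟩)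
      fun a b h => Subtype.ext (congrArg Subtype.val h :)
  have := normal_zpowers_zc x
  have h4 := isPGroup_zc hx
  have h5 := fun y (_ : ¬ p ∣ orderOf y) => mem_centralizer_zc x y
  have hb' := isPBlock_dom h4 h5 hb
  have h6 := pow_defect_dom h4 h5 hb
  obtain ⟨P, hP⟩ := (isPrim_bId hb').exists_isDef p le_rfl Subgroup.le_normalizer
  have := Fintype.ofFinite (Subgroup.centralizer ({x} : Set G) ⧸ Subgroup.zpowers (zc x))
  have h7 : IsCyclic P := isCyclic_of_card_le (card_isDef hb' hP) (by
    obtain ⟨k, hk⟩ := hx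
    rw [Nat.card_zpowers, ← Subgroup.orderOf_coe, coe_zc, hk, ← pow_add] at h6
    have := Nat.pow_right_injective hp.two_le h6
    have : k ≠ 0 := fun e => h1 (orderOf_eq_one_iff.1 (by rw [hk, e, pow_zero]))
    omega)
  have h9 := card_le_of_min (subEl_zc hx) hind (Nat.cast_nonneg _)
    (Lat_min_dom h4 h5 hb (cyc_data hb' hP h7).1)
    ((irrF (principalBlock M G)).filter fun χ => ¬ p ∣ charDegree χ.1) fun χ hχ => by
      rw [Finset.mem_filter, mem_irrF] at hχ
      exact ⟨hχ.1, inner_cmp_ne_zero (subEl_zc hx) hind hχ.1 hχ.1 (height_eq_zero_of_not_dvd hχ.2)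
        (height_eq_zero_of_not_dvd hχ.2)⟩
  rw [blockRank_dom h4 h5 hb, mul_comm] at h9
  have h10 := le_of_mul_le_mul_right h9 (Nat.cast_pos.2 (blockRank_pos (block_nonempty hb')))
  rw [Nat.subtype_card ((irrF (principalBlock M G)).filter fun χ => ¬ p ∣ charDegree χ.1)
    (by simp)]
  exact le_trans (by exact_mod_cast h10) (Nat.pow_le_pow_right hp.pos hd)

end Cfsg.Agent.S4588
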