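import Cfsg.Statements.S4593
import Cfsg.Agent.H2.Isolated
import Cfsg.Agent.H2.Transfer
import Cfsg.Agent.H1.Cores
import Cfsg.Agent.H4.Loc
import Mathlib.GroupTheory.SemidirectProduct

set_option autoImplicit false
open Cfsg

namespace Cfsg.Agent.S4593

open CfsgH2

open Subgroup in
theorem key {H : Type*} [Group H] [Finite H] (hO : pPrimeCore 2 H = ⊥) {S : Subgroup H}
    (hS : IsSylowIn 2 S ⊤) (hc : IsMulCommutative S) : S ≤ _root_.commutator H ⊔ center H := by
  obtain ⟨-, h1, -⟩ := split_abelian hc Subgroup.le_normalizer le_rfl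
    (hS.mono le_normalizer le_top).coprime_relIndex
  refine h1.ge.trans (sup_le_sup (commutator_mono le_top le_top) fun c hc' => ?_)
  obtain ⟨k, hk⟩ := exists_orderOf_eq_pow hS.pgroup hc'.1
  refine zstar_two_aux k H hO c (by rw [← hk, pow_orderOf_eq_one])
    (iso_of_sylow hS hc'.1 fun g hg => ?_)
  obtain ⟨n, hn, e⟩ := conj_in_normalizer_of_comm hS hc hc'.1 (mem_top g) hg
  rw [← e, (hc'.2 n hn.2), mul_inv_cancel_right]

/-- Let G be a finite group with trivial centre and no nontrivial normal subgroup of odd order, whose Sylow 2-subgroups are abelian, and let P be a Sylow 2-subgroup. Every automorphism of G of 2-power order that fixes P elementwise is inner. -/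
theorem result {G : Type*} [Group G] [Finite G] (hZ : Subgroup.center G = ⊥) (hcore : Cfsg.pPrimeCore 2 G = ⊥) (P : Sylow 2 G) (hab : IsMulCommutative (P : Subgroup G))
    (α : MulAut G) (h2 : ∃ j : ℕ, orderOf α = 2 ^ j) (hfix : ∀ x ∈ (P : Subgroup G), α x = x) :
    ∃ g : G, ∀ x : G, α x = g * x * g⁻¹ := by
  classical
  obtain ⟨j, hj⟩ := h2
  let A := Subgroup.zpowers α
  have hA : ∀ a : A, ∀ x ∈ (P : Subgroup G), (a : MulAut G) x = x := fun a x hx =>
    (Subgroup.zpowers_le.2 (show α ∈ MulAction.stabilizer (MulAut G) x from hfix x hx)) a.2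
  let H := G ⋊[A.subtype] A
  have : Finite H := Finite.of_equiv _ SemidirectProduct.equivProd.symm
  have hAc : Nat.card A = 2 ^ j := by rw [Nat.card_zpowers, hj]
  have hAp : IsPGroup 2 A := IsPGroup.of_card hAc
  let S : Subgroup H :=
    { carrier := {h | h.left ∈ (P : Subgroup G)}
      one_mem' := (P : Subgroup G).one_mem
      mul_mem' := fun {a b} ha hb => by
        show a.left * (a.right : MulAut G) b.left ∈ (P : Subgroup G)
        rw [hA _ _ hb]; exact mul_mem ha hb
      inv_mem' := fun {a} ha => by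
        show ((a.right⁻¹ : A) : MulAut G) a.left⁻¹ ∈ (P : Subgroup G)
        rw [hA _ _ (inv_mem ha)]; exact inv_mem ha }
  have hSc : Nat.card S = Nat.card P * Nat.card A := by
    rw [← Nat.card_prod]
    exact Nat.card_congr
      { toFun := fun s => (⟨s.1.left, s.2⟩, s.1.right)
        invFun := fun x => ⟨⟨x.1, x.2⟩, x.1.2⟩
        left_inv := fun _ => rfl
        right_inv := fun _ => rfl }
  have hHc : Nat.card H = Nat.card G * Nat.card A := by
    rw [← Nat.card_prod]; exact Nat.card_congr SemidirectProduct.equivProd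
  have hidx : S.index = (P : Subgroup G).index := by
    have h1 := S.card_mul_index
    rw [hSc, hHc, ← (P : Subgroup G).card_mul_index, mul_right_comm] at h1
    exact Nat.eq_of_mul_eq_mul_left Nat.card_pos (Nat.eq_of_mul_eq_mul_right Nat.card_pos h1)
  obtain ⟨i, hi⟩ := P.isPGroup'.exists_card_eq
  have hS : IsSylowIn 2 S ⊤ := ⟨le_top, IsPGroup.of_card (n := i + j) (by rw [hSc, hi, hAc, pow_add]),
    by rw [Subgroup.relIndex_top_right, hidx]; exact P.not_dvd_index⟩
  have hAcomm : ∀ a b : A, a * b = b * a := fun a b => by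
    obtain ⟨a, m, rfl⟩ := a
    obtain ⟨b, n, rfl⟩ := b
    exact Subtype.ext (zpow_mul_comm _ _ _)
  have hc : IsMulCommutative S := ⟨⟨fun a b => Subtype.ext (SemidirectProduct.ext (by
      show a.1.left * (a.1.right : MulAut G) b.1.left = b.1.left * (b.1.right : MulAut G) a.1.left
      rw [hA _ _ a.2, hA _ _ b.2]
      exact congrArg Subtype.val (hab.is_comm.comm (⟨_, a.2⟩ : (P : Subgroup G)) ⟨_, b.2⟩))
      (hAcomm _ _))⟩⟩
  have hO : pPrimeCore 2 H = ⊥ := by
    rw [eq_bot_iff]
    intro x hx
    have h1 : x.right = 1 := by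
      have h3 : (orderOf x).Coprime 2 :=
        (CfsgH1.coprime_card_pPrimeCore 2 H).coprime_dvd_left (Subgroup.orderOf_dvd_natCard _ hx)
      have h4 : (orderOf x.right).Coprime 2 :=
        h3.coprime_dvd_left (orderOf_map_dvd SemidirectProduct.rightHom x)
      have h5 : orderOf x.right ∣ 2 ^ j := hAc ▸ orderOf_dvd_natCard _
      exact orderOf_eq_one_iff.1 (Nat.Coprime.eq_one_of_dvd (h4.pow_right j) h5)
    have h2 : x = SemidirectProduct.inl x.left := SemidirectProduct.ext rfl h1
    have h3 := CfsgH1.comap_pPrimeCore_le_of_injective (p := 2) (SemidirectProduct.inl : G →* H)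
      SemidirectProduct.inl_injective (show SemidirectProduct.inl x.left ∈ pPrimeCore 2 H from h2 ▸ hx)
    rw [hcore, Subgroup.mem_bot] at h3
    rw [h2, h3, map_one]; exact one_mem _
  let a : A := ⟨α, Subgroup.mem_zpowers α⟩
  have ha := key hO hS hc (show (SemidirectProduct.inr a : H) ∈ S from (P : Subgroup G).one_mem)
  obtain ⟨n, hn, c, hc', e⟩ := (mem_sup_of_normalizer (Subgroup.le_normalizer_of_normal)).1 ha
  have hn1 : n.right = 1 := by
    have : _root_.commutator H ≤ (SemidirectProduct.rightHom : H →* A).ker := by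
      rw [_root_.commutator_def, Subgroup.commutator_le]
      intro x _ y _
      rw [MonoidHom.mem_ker, map_commutatorElement, commutatorElement_eq_one_iff_mul_comm]
      exact hAcomm _ _
    exact this hn
  refine ⟨n.left, fun x => ?_⟩
  have h1 : (SemidirectProduct.inl (α x) : H) = SemidirectProduct.inr a * SemidirectProduct.inl x
      * (SemidirectProduct.inr a)⁻¹ := by
    rw [← map_inv]; exact SemidirectProduct.inl_aut (φ := A.subtype) a x
  have h2 : n = SemidirectProduct.inl n.left := SemidirectProduct.ext rfl hn1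
  rw [← e, mul_assoc n, ← Subgroup.mem_center_iff.1 hc', h2] at h1
  apply SemidirectProduct.inl_injective (φ := A.subtype)
  rw [h1, map_mul, map_mul, map_inv]
  group

end Cfsg.Agent.S4593
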