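import Cfsg.Statements.S4601
import Cfsg.Agent.H4.Misc1

set_option autoImplicit false
open Cfsg

namespace Cfsg.Agent.S4601

open CfsgH4 CfsgH3 CfsgH2 MonoidAlgebra

/-- Let p and q be primes and G a finite group that is p-solvable or q-solvable, in which no q-element has conjugacy class size divisible by p. Then some Sylow p-subgroup of G normalizes some Sylow q-subgroup of G. -/
theorem result {G : Type*} [Group G] [Finite G] (p q : ℕ) [Fact p.Prime] [Fact q.Prime] (hsolv : Cfsg.IsPSolvable p G ∨ Cfsg.IsPSolvable q G)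
    (h : ∀ y : G, (∃ k : ℕ, orderOf y = q ^ k) → ¬ p ∣ (Subgroup.centralizer ({y} : Set G)).index) :
    ∃ (P : Sylow p G) (Q : Sylow q G), (P : Subgroup G) ≤ Subgroup.normalizer ((Q : Subgroup G) : Set G) := by
  by_cases hpq : p = q
  · subst hpq
    obtain ⟨P⟩ : Nonempty (Sylow p G) := inferInstance
    exact ⟨P, P, Subgroup.le_normalizer⟩
  obtain ⟨Q, h1, h2⟩ := syl_norm_aux hpq _ G le_rfl hsolv h
  obtain ⟨P, h3⟩ := IsSylowIn.exists_sylowIn p (Subgroup.normalizer (Q : Set G))
  obtain ⟨P', e1⟩ := (h3.trans_of_not_dvd le_top (by rwa [Subgroup.relIndex_top_right])).of_top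
  obtain ⟨Q', e2⟩ := h1.of_top
  exact ⟨P', Q', by rw [e1, e2]; exact h3.le⟩

end Cfsg.Agent.S4601
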