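import Cfsg.Statements.S4602
import Cfsg.Agent.H4.PSol

set_option autoImplicit false
open Cfsg

namespace Cfsg.Agent.S4602

open CfsgH4 CfsgH3 CfsgH2 MonoidAlgebra

/-- Let G be a finite p-solvable group and q a prime different from p. Some Sylow p-subgroup of G normalizes some Sylow q-subgroup of G if and only if q does not divide the order of G/O_{p'}(G), the quotient by the largest normal subgroup of order prime to p. -/
theorem result {G : Type*} [Group G] [Finite G] (p q : ℕ) [Fact p.Prime] [Fact q.Prime] (hpq : p ≠ q) (hsolv : Cfsg.IsPSolvable p G) :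
    (∃ (P : Sylow p G) (Q : Sylow q G), (P : Subgroup G) ≤ Subgroup.normalizer ((Q : Subgroup G) : Set G)) ↔ ¬ q ∣ (Cfsg.pPrimeCore p G).index := by
  let N := pPrimeCore p G
  let π := QuotientGroup.mk' N
  have hπ := QuotientGroup.mk'_surjective N
  have hq : q.Prime := Fact.out
  constructor
  · rintro ⟨P, Q, h⟩
    have hP := (IsSylowIn.of_sylow_top P).map π
    have hQ := (IsSylowIn.of_sylow_top Q).map π
    rw [Subgroup.map_top_of_surjective _ hπ] at hP hQ
    have h1 := hP.le_of_normalizer (CfsgH1.isPGroup_pCore p _) le_top le_normalizer_of_normal'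
    have h2 : (P : Subgroup G).map π ≤ Subgroup.normalizer ((Q : Subgroup G).map π : Set (G ⧸ N)) :=
      (Subgroup.map_mono h).trans (Subgroup.le_normalizer_map π)
    have hd : Disjoint (pCore p (G ⧸ N)) ((Q : Subgroup G).map π) :=
      IsPGroup.disjoint_of_ne p q hpq _ _ (CfsgH1.isPGroup_pCore p _) hQ.pgroup
    have h3 : (Q : Subgroup G).map π ≤ pCore p (G ⧸ N) := fun y hy =>
      CfsgH1.IsPSolvable.centralizer_pCore_le (CfsgH1.IsPSolvable.quotient hsolv N)
        (CfsgH1.pPrimeCore_quotient_pPrimeCore p G) fun x hx => by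
          have a : x * y * x⁻¹ * y⁻¹ ∈ pCore p (G ⧸ N) := by
            have := mul_mem hx (Subgroup.Normal.conj_mem inferInstance _ (inv_mem hx) y)
            simpa [mul_assoc] using this
          have b := mul_mem (conj_mem_of_mem_normalizer (h2 (h1 hx)) hy) (inv_mem hy)
          have := Subgroup.disjoint_def.1 hd a b
          rwa [mul_inv_eq_one, mul_inv_eq_iff_eq_mul] at this
    have h4 := hQ.eq_bot_iff.1 (hd.symm.eq_bot_of_le h3)
    rwa [Subgroup.card_top] at h4
  · intro h
    obtain ⟨P⟩ : Nonempty (Sylow p G) := inferInstance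
    have := P.isPGroup'.isNilpotent
    obtain ⟨S, h1, h2⟩ := CfsgH1.exists_invariant_sylow (A := (P : Subgroup G)) (K := N)
      le_normalizer_of_normal' (CfsgH1.IsPGroup.coprime_card_of_coprime P.isPGroup'
        (CfsgH1.coprime_card_pPrimeCore p G)) (Or.inl inferInstance) q
    obtain ⟨Q, rfl⟩ := (h1.trans_of_not_dvd le_top (by rwa [Subgroup.relIndex_top_right])).of_top
    exact ⟨P, Q, h2⟩

end Cfsg.Agent.S4602
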