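import Cfsg.Statements.S4604
import Cfsg.Agent.H4.Rob2

set_option autoImplicit false
open Cfsg

namespace Cfsg.Agent.S4604

open CfsgH4 CfsgH3 CfsgH2 MonoidAlgebra

/-- Let G be a finite group, p a prime and p^a the p-part of the order of G. Let x, y ∈ G and let x′, y′ be their p-regular parts: x′ has order prime to p, commutes with x·x′⁻¹, and x·x′⁻¹ has p-power order (likewise for y). Then x′ and y′ are conjugate in G if and only if for every irreducible character χ of G the algebraic integer χ(x)^(p^a) − χ(y)^(p^a) is p times an algebraic integer. -/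
theorem result {G : Type*} [Group G] [Finite G] (p : ℕ) [Fact p.Prime] (x y x' y' : G)
    (hx : (∃ k : ℕ, orderOf (x * x'⁻¹) = p ^ k) ∧ Commute (x * x'⁻¹) x' ∧ ¬ p ∣ orderOf x')
    (hy : (∃ k : ℕ, orderOf (y * y'⁻¹) = p ^ k) ∧ Commute (y * y'⁻¹) y' ∧ ¬ p ∣ orderOf y') :
    IsConj x' y' ↔ ∀ χ : Cfsg.IrrCharacter G, ∃ γ : Cfsg.AlgInt,
      (χ : G → ℂ) x ^ (p ^ (Nat.card G).factorization p) - (χ : G → ℂ) y ^ (p ^ (Nat.card G).factorization p) = (p : ℂ) * (γ : ℂ) := by
  obtain ⟨M, hM⟩ := CfsgH4.exists_isPModular p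
  have := hM.2.1
  have := charP_of_isPModular hM
  have hp : p.Prime := Fact.out
  have key : ∀ x x' : G, (∃ k : ℕ, orderOf (x * x'⁻¹) = p ^ k) → Commute (x * x'⁻¹) x' →
      x ^ p ^ (Nat.card G).factorization p = x' ^ p ^ (Nat.card G).factorization p := by
    rintro x x' ⟨k, hk⟩ hc
    conv_lhs => rw [← inv_mul_cancel_right x x', hc.mul_pow]
    rw [orderOf_dvd_iff_pow_eq_one.1, one_mul]
    rw [hk]
    exact pow_dvd_pow p ((hp.pow_dvd_iff_le_factorization Nat.card_pos.ne').1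
      (hk ▸ orderOf_dvd_natCard _))
  refine ⟨fun h χ => ?_, fun h => isConj_of_red_eq (M := M) hx.2.2 hy.2.2 fun χ => ?_⟩
  · obtain ⟨a, ha, h1⟩ := char_pow_prime_pow hp χ.2.isChar x ((Nat.card G).factorization p)
    obtain ⟨b, hb, h2⟩ := char_pow_prime_pow hp χ.2.isChar y ((Nat.card G).factorization p)
    refine ⟨⟨a - b, ha.sub hb⟩, ?_⟩
    rw [h1, h2, key x x' hx.1 hx.2.1, key y y' hy.1 hy.2.1, χ.2.classFun.of_isConj (h.pow _)]
    ring
  · obtain ⟨γ, h1⟩ := h χ
    have h2 := congrArg (red M) h1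
    rw [red_sub (pow_mem (irr_mem_Loc _ _) _) (pow_mem (irr_mem_Loc _ _) _),
      red_pow (irr_mem_Loc _ _), red_pow (irr_mem_Loc _ _),
      red_mul_eq_zero_left (natCast_mem _ _) (coe_mem_Loc M γ) red_p, ← sub_pow_char_pow,
      pow_eq_zero_iff (pow_ne_zero _ hp.ne_zero), sub_eq_zero] at h2
    rw [← red_apply_mul χ.2.isChar hx.2.1 hx.1, ← red_apply_mul χ.2.isChar hy.2.1 hy.1]
    simpa using h2

end Cfsg.Agent.S4604
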