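import Cfsg.Statements.S4648
import Cfsg.Agent.H4.LocSym

set_option autoImplicit false
open Cfsg

namespace Cfsg.Agent.S4648

open CfsgH4 CfsgH3 CfsgH2 MonoidAlgebra

/-- Let B be a block of the finite group G relative to a maximal ideal M of the algebraic integers containing the prime p, with a nontrivial defect group D. If B has p-regular rank 1 and at most four irreducible characters, then B is nilpotent, D has exactly as many elements as B has irreducible characters, and p is 2 or 3. -/
theorem result {G : Type*} [Group G] [Finite G] (p : ℕ) [Fact p.Prime] (M : Ideal Cfsg.AlgInt) (hM : Cfsg.IsPModular p M) (B : Set (Cfsg.IrrCharacter G)) (hB : Cfsg.IsPBlock M B) (D : Subgroup G) (hD : Cfsg.IsDefectGroup p M B D) (hD1 : D ≠ ⊥) (hl : Cfsg.blockRank p B = 1) (hk : Nat.card B ≤ 4) : Cfsg.IsNilpotentBlock p M B ∧ Nat.card D = Nat.card B ∧ (p = 2 ∨ p = 3) := by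
  have := hM.2.1
  have := charP_of_isPModular hM
  have hp : p.Prime := Fact.out
  obtain ⟨n, hn⟩ := equal_deg_of_le_four hB hl hk
  have h1 := (card_defectGroup hB hD).trans (card_of_equal_deg hB hn).symm
  obtain ⟨e, hm⟩ := ((isDefectGroup_iff hB).1 hD).exists_mp (isPrim_bId hB)
  have h2 := card_defectGroup hB hD
  have h3 : blockDefect p B ≠ 0 := fun h => hD1 (by rwa [h, pow_zero, Subgroup.card_eq_one] at h2)
  have h4 : p ≤ 4 := (Nat.le_self_pow h3 p).trans (h2 ▸ h1 ▸ hk)
  have h5 : blockDefect p B ≤ 2 := by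
    by_contra! h
    have := (Nat.pow_le_pow_left hp.two_le 3).trans (Nat.pow_le_pow_right hp.pos h)
    omega
  refine ⟨(isNilpotentBlock_iff hB).2 (nil_of_equal_deg hm hB (fun x hx y hy => ?_) hn), h1, ?_⟩
  · obtain h | h : blockDefect p B = 1 ∨ blockDefect p B = 2 := by omega
    · rw [h, pow_one] at h2
      have := (isCyclic_of_prime_card h2).isMulCommutative
      exact congrArg Subtype.val (mul_comm' (⟨y, hy⟩ : D) ⟨x, hx⟩)
    · rw [h] at h2
      have := IsPGroup.isMulCommutative_of_card_eq_prime_sq h2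
      exact congrArg Subtype.val (mul_comm' (⟨y, hy⟩ : D) ⟨x, hx⟩)
  · have := hp.two_le
    interval_cases p
    · exact Or.inl rfl
    · exact Or.inr rfl
    · exact absurd hp (by decide)

end Cfsg.Agent.S4648
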