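import Cfsg.Statements.S4607
import Cfsg.Agent.H4.LocSym
import Cfsg.Agent.S4648

set_option autoImplicit false
open Cfsg

namespace Cfsg.Agent.S4607

open CfsgH4 CfsgH3 CfsgH2 MonoidAlgebra

/-- Let G be a finite group, p a prime, M a maximal ideal of the algebraic integers containing p, and B a p-block of G with defect group D. Then B contains exactly two irreducible characters if and only if D has order 2. -/
theorem result {G : Type*} [Group G] [Finite G] (p : ℕ) [Fact p.Prime] (M : Ideal Cfsg.AlgInt) (hM : Cfsg.IsPModular p M) (B : Set (Cfsg.IrrCharacter G)) (hB : Cfsg.IsPBlock M B) (D : Subgroup G) (hD : Cfsg.IsDefectGroup p M B D) : Nat.card B = 2 ↔ Nat.card D = 2 := by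
  have := hM.2.1
  have := charP_of_isPModular hM
  have := Fintype.ofFinite G
  have := Fintype.ofFinite D
  have h2 := card_defectGroup hB hD
  obtain ⟨χ, hχ⟩ := block_nonempty hB
  have h0 := blockRank_pos (p := p) ⟨χ, hχ⟩
  refine ⟨fun h => ?_, fun h => ?_⟩
  · have h3 : blockDefect p B ≠ 0 := fun e => by
      rw [eq_singleton_of_defect_zero hB e hχ] at h
      simp at h
    have h4 := blockRank_lt_card hB h3
    exact (S4648.result p M hM B hB D hD (fun e => h3 (by
      rw [e, Subgroup.card_bot, eq_comm, Nat.pow_eq_one] at h2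
      exact h2.resolve_left (Fact.out : p.Prime).one_lt.ne')) (by omega) (by omega)).2.1.trans h
  · obtain ⟨e, hm⟩ := ((isDefectGroup_iff hB).1 hD).exists_mp (isPrim_bId hB)
    obtain ⟨z, hz, hz'⟩ := (Nat.card_eq_two_iff' (1 : D)).1 h
    have h3 : Subgroup.normalizer (D : Set G) ≤ Subgroup.centralizer (D : Set G) :=
      fun t ht u hu => by
        by_cases e : u = 1
        · simp [e]
        have k := (Subgroup.mem_normalizer_iff.1 ht u).1 hu
        have := (hz' ⟨_, k⟩ fun h => e (by simpa using h)).trans
          (hz' ⟨u, hu⟩ fun h => e (congrArg Subtype.val h)).symm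
        exact (mul_inv_eq_iff_eq_mul.1 (congrArg Subtype.val this)).symm
    have hab := Subgroup.le_normalizer.trans h3
    obtain ⟨n, hn⟩ := ((hm.nil_iff_abelian hab).2 fun t ht => h3 ht.1.2).exists_deg hm hB
    rw [card_of_equal_deg (p := p) hB fun χ hχ => hn χ hχ (Or.inr hab), ← h2, h]

end Cfsg.Agent.S4607
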