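import Cfsg.Statements.S4620
import Cfsg.Agent.FT.Hall
import Cfsg.Agent.H1.Subn
import Cfsg.Agent.H2.PGroup

set_option autoImplicit false
open scoped Pointwise
open Cfsg

namespace Cfsg.Agent.S4620

/-- Let H be a finite group with no nontrivial normal p-subgroup and no nontrivial normal subgroup of order prime to p, whose Sylow p-subgroup P is nontrivial and a trivial-intersection set (P meets its conjugates by elements outside N_H(P) trivially). Then H has a unique minimal normal subgroup N; N is non-abelian simple with trivial centralizer in H (so H embeds in Aut(N)), and a Sylow p-subgroup of N is again a nontrivial trivial-intersection set in N. -/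
theorem result {H : Type*} [Group H] [Finite H] (p : ℕ) [Fact p.Prime] (hOp : Cfsg.pCore p H = ⊥) (hOp' : Cfsg.pPrimeCore p H = ⊥) (P : Sylow p H) (hP1 : (P : Subgroup H) ≠ ⊥)
    (hTI : ∀ g : H, g ∉ Subgroup.normalizer ((P : Subgroup H) : Set H) → (P : Subgroup H) ⊓ (MulAut.conj g • (P : Subgroup H)) = ⊥) :
    ∃ N : Subgroup H, N.Normal ∧ N ≠ ⊥ ∧ (∀ K : Subgroup H, K.Normal → K ≠ ⊥ → N ≤ K) ∧
      IsSimpleGroup N ∧ ¬ IsMulCommutative N ∧ Subgroup.centralizer (N : Set H) = ⊥ ∧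
      ∀ Q : Sylow p N, (Q : Subgroup N) ≠ ⊥ ∧
        ∀ n : N, n ∉ Subgroup.normalizer ((Q : Subgroup N) : Set N) → (Q : Subgroup N) ⊓ (MulAut.conj n • (Q : Subgroup N)) = ⊥ := by
  open Subgroup CfsgH1 CfsgH2 CfsgFT CfsgLead in
  have hp : p.Prime := Fact.out
  have hS := IsSylowIn.of_sylow_top P
  have k0 : ∀ T : Subgroup H, SN T ⊤ → (P : Subgroup H) ⊓ T = ⊥ → T = ⊥ := fun T hT h => by
    have := le_Opi_of_sn hT ((hS.hall.inf_sn hT).eq_bot_iff.1 h)
    rwa [Opi_top, piCore_compl_singleton hp, hOp', le_bot_iff] at this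
  have key : ∀ T U : Subgroup H, SN T ⊤ → SN U ⊤ → T ≤ C(U) → U ≠ ⊥ → T = ⊥ := by
    intro T U hT hU hc h0
    have h1 : T ≤ N((P : Subgroup H)) := fun t ht => by
      by_contra h
      refine h0 (k0 U hU (le_bot_iff.1 (le_trans ?_ (hTI t h).le)))
      rw [← cj_eq_smul]
      exact le_inf inf_le_left (le_cj_of_norm (cent_le_norm _ (cent_anti inf_le_right (hc ht))) inf_le_left)
    have := le_Opi_of_sn ((SN.of_normal inf_le_right (le_normalizer_inf' h1 le_normalizer)).trans hT)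
      ((isPi_singleton_iff.2 hS.2).mono inf_le_left)
    rw [Opi_top, piCore_singleton hp, hOp, le_bot_iff] at this
    exact k0 T hT this
  have sn : ∀ (K : Subgroup H) [K.Normal], SN K ⊤ := fun K _ => SN.of_normal le_top (normalizer_eq_top K).ge
  obtain ⟨N, _, h0, -, hmin⟩ := exists_minNormal_le (⊤ : Subgroup H) (fun e => hP1 (le_bot_iff.1 (e ▸ le_top)))
  have hC : C(N) = ⊥ := key _ _ (sn _) (sn _) le_rfl h0
  refine ⟨N, ‹_›, h0, fun K _ hK => ?_, ?_, fun h => h0 (le_bot_iff.1 (hC ▸ comm_iff.1 h)), hC, fun Q => ⟨?_, ?_⟩⟩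
  · refine inf_eq_right.1 ((hmin _ inferInstance inf_le_right).resolve_left fun e => hK (le_bot_iff.1 (hC ▸ ?_)))
    exact le_centralizer_of_normalize (le_top.trans (normalizer_eq_top _).ge) (le_top.trans (normalizer_eq_top _).ge) e
  · haveI := (nontrivial_iff_ne_bot N).2 h0
    refine ⟨fun K hK => or_iff_not_imp_left.2 fun hK0 => ?_⟩
    obtain ⟨T, TK, ⟨t1, t2, t3⟩, tm⟩ := exists_minimal_subgroup (Φ := fun T : Subgroup H => T ≠ ⊥ ∧ T ≤ N ∧ N ≤ N(T))
      (A := K.map N.subtype) ⟨fun e => hK0 ((Subgroup.map_eq_bot_iff_of_injective _ N.subtype_injective).1 e),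
        map_subtype_le _, le_norm_map_subtype _⟩
    have nN : ∀ g : H, g ∈ N(N) := fun g => (normalizer_eq_top N).ge (mem_top g)
    have sT : SN T ⊤ := (SN.of_normal t2 t3).trans (sn N)
    have h1 : T.Normal := normal_of_top_le fun g _ => by
      by_contra h
      have n1 := le_norm_cj_of_norm t3 (nN g)
      have h2 : T ⊓ cj g T = ⊥ := by
        by_contra h3
        have := tm _ ⟨h3, inf_le_left.trans t2, le_normalizer_inf' t3 n1⟩ inf_le_left
        exact h (mem_norm_iff_cj.2 (CfsgH2.eq_of_le_of_card_le (this.ge.trans inf_le_right) (card_cj _ _).le).symm)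
      exact t1 (key T _ sT (CfsgH1.sn_cj sT ((normalizer_eq_top _).ge (mem_top g)))
        (le_centralizer_of_normalize (t2.trans n1) ((cj_le_of_norm (nN g) t2).trans t3) h2) (mt cj_eq_bot_iff.1 t1))
    rw [(hmin T h1 t2).resolve_left t1] at TK
    rw [eq_top_iff]
    intro x _
    obtain ⟨y, hy, e⟩ := TK x.2
    exact (Subtype.ext e : y = x) ▸ hy
  · intro e
    refine h0 (k0 N (sn _) ?_)
    rw [(IsSylowIn.sylow_inf_normal P N).eq_bot_iff, ← (IsSylowIn.of_sylow_map Q).eq_bot_iff, e, Subgroup.map_bot]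
  · intro n hn
    obtain ⟨c, hc, e⟩ := (IsSylowIn.sylow_inf_normal P N).exists_cj_eq (IsSylowIn.of_sylow_map Q)
    have h1 : c⁻¹ * n * c ∉ N((P : Subgroup H)) := fun h => hn (by
      have h2 := le_normalizer_inf' (A := zpowers (c⁻¹ * n * c)) (zpowers_le.2 h) (le_top.trans (normalizer_eq_top N).ge)
      have h3 := cj_le_norm_cj h2 c
      rw [e, cj_zpowers] at h3
      have h4 : (n : H) ∈ N ⊓ N((Q : Subgroup N).map N.subtype) := ⟨n.2, by simpa [mul_assoc] using zpowers_le.1 h3⟩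
      rw [← map_subtype_norm] at h4
      obtain ⟨m, hm, e⟩ := h4
      exact (Subtype.ext e : m = n) ▸ hm)
    have h2 := hTI _ h1
    rw [← cj_eq_smul] at h2 ⊢
    rw [eq_bot_iff]
    rintro x ⟨x1, x2⟩
    have y1 : (x : H) ∈ cj c ((P : Subgroup H) ⊓ N) := e ▸ ⟨x, x1, rfl⟩
    have y2 : ((n⁻¹ * x * n : N) : H) ∈ cj c ((P : Subgroup H) ⊓ N) := e ▸ ⟨_, mem_cj.1 x2, rfl⟩
    have := mem_bot.1 (h2.le ⟨(mem_cj.1 y1).1, mem_cj.2 (by have := (mem_cj.1 y2).1; convert this using 1; simp [mul_assoc]; rfl)⟩)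
    exact mem_bot.2 (Subtype.ext (by simpa [mul_assoc, inv_mul_eq_iff_eq_mul] using this))

end Cfsg.Agent.S4620
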