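import Cfsg.Statements.S4624
import Mathlib
import Cfsg.Agent.H8.WQ1
import Cfsg.Agent.S4623
import Cfsg.Agent.S0261
import Cfsg.Agent.H5.SpMat
import Cfsg.Agent.H5.LinMat

set_option autoImplicit false
open Cfsg

namespace Cfsg.Agent.S4624

/-- Let F be a finite field of odd order and n ≥ 1. A Sylow 2-subgroup P of the symplectic group Sp_{2n}(F) has P/P' elementary abelian: the square of every element of P lies in the derived subgroup of P. -/
theorem result {F : Type*} [Field F] [Fintype F] (hF : Odd (Fintype.card F)) (n : ℕ) (hn : 1 ≤ n) (P : Sylow 2 (Matrix.symplecticGroup (Fin n) F)) :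
    ∀ x : (P : Subgroup (Matrix.symplecticGroup (Fin n) F)), x ^ 2 ∈ commutator (P : Subgroup (Matrix.symplecticGroup (Fin n) F)) := by
  open CfsgH8 CfsgH5 Matrix in
  classical
  have h1 : 1 < Fintype.card F := Fintype.one_lt_card
  obtain ⟨Q⟩ : Nonempty (Sylow 2 (SpecialLinearGroup (Fin 2) F)) := inferInstance
  obtain ⟨T⟩ : Nonempty (Sylow 2 (Equiv.Perm (Fin n))) := inferInstance
  obtain ⟨T'⟩ : Nonempty (Sylow 2 (alternatingGroup (Fin n))) := inferInstance
  obtain ⟨k, hk, ⟨e⟩⟩ := Cfsg.Agent.S0261.result hF Q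
  let ρ : SpecialLinearGroup (Fin 2) F →* Matrix (Fin 2) (Fin 2) F := ⟨⟨Subtype.val, rfl⟩, fun _ _ => rfl⟩
  obtain ⟨W, _, hW, hc, f, hf, hJ⟩ := exists_wr T.1 (Cfsg.Agent.S4623.result 2 n T T').1
    ((sqA_quat hk).surj e.symm.toMonoidHom e.symm.surjective) (ρ.comp (Subgroup.subtype _))
    (Subtype.val_injective.comp Subtype.val_injective) !![0, -1; 1, 0] (fun x => by
      have hd := x.1.2
      rw [det_fin_two] at hd
      show x.1.1 * _ * x.1.1ᵀ = _
      ext a b
      fin_cases a <;> fin_cases b <;> simp [mul_apply, Fin.sum_univ_two] <;>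
        first | ring1 | linear_combination hd | linear_combination -hd)
  let ε : Fin 2 × Fin n ≃ Fin n ⊕ Fin n :=
    { toFun := fun x => if x.1 = 0 then .inl x.2 else .inr x.2
      invFun := Sum.elim (fun a => (0, a)) fun a => (1, a)
      left_inv := fun ⟨a, b⟩ => by fin_cases a <;> simp
      right_inv := fun x => by rcases x with x | x <;> simp }
  have hε : reindexAlgEquiv F F ε (blockDiagonal fun _ => !![0, -1; 1, 0]) = J (Fin n) F := by
    ext a b
    rcases a with a | a <;> rcases b with b | b <;> simp [ε, J, blockDiagonal_apply, one_apply] <;>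
      split_ifs <;> simp
  let φ : W →* symplecticGroup (Fin n) F := ((reindexAlgEquiv F F ε).toMonoidHom.comp f).codRestrict _ fun w => by
    have := congrArg (reindexAlgEquiv F F ε) (hJ w)
    rw [map_mul, map_mul, hε] at this
    exact SymplecticGroup.mem_iff.2 this
  refine hW.sylow (f := φ) (fun a b h => hf ((reindexAlgEquiv F F ε).injective (congrArg Subtype.val h))) ?_ P
  rw [hc, card_syl, card_syl, card_sp, card_SL_two, Nat.card_eq_fintype_card (α := F), Nat.card_perm,
    padicValNat.mul (by positivity) (pow_sub_ne h1 two_ne_zero),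
    padicValNat.mul (by positivity) (Finset.prod_ne_zero_iff.2 fun i _ => pow_sub_ne h1 (by omega)), val_prod h1 hF,
    val_odd_pow hF, padicValNat.eq_zero_of_not_dvd hF.not_two_dvd_nat]
  simp [pow_add, pow_mul]

end Cfsg.Agent.S4624
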