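import Cfsg.Statements.S4627
import Mathlib
import Cfsg.Agent.H8.WQ2
import Cfsg.Agent.S4623
import Cfsg.Agent.S0261

set_option autoImplicit false
open Cfsg

namespace Cfsg.Agent.S4627

/-- Let F be a finite field of odd order q and m ≥ 1. If 4 divides q + 1, or if 4 divides q − 1 and m is a power of 2, then a Sylow 2-subgroup P of SL_{2m}(F) has P/P' elementary abelian: the square of every element of P lies in the derived subgroup of P. -/
theorem result {F : Type*} [Field F] [Fintype F] (hF : Odd (Fintype.card F)) (m : ℕ) (hm : 1 ≤ m)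
    (hq : 4 ∣ Fintype.card F + 1 ∨ (4 ∣ Fintype.card F - 1 ∧ ∃ j : ℕ, m = 2 ^ j)) (P : Sylow 2 (Matrix.SpecialLinearGroup (Fin (2 * m)) F)) :
    ∀ x : (P : Subgroup (Matrix.SpecialLinearGroup (Fin (2 * m)) F)), x ^ 2 ∈ commutator (P : Subgroup (Matrix.SpecialLinearGroup (Fin (2 * m)) F)) := by
  open CfsgH8 CfsgH5 CfsgH2 Matrix Subgroup in
  classical
  have h1 : 1 < Fintype.card F := Fintype.one_lt_card
  rcases hq with hq | ⟨hq, j, hj⟩
  · have h3 : Fintype.card F % 4 = 3 := by omega
    let y0 : GL (Fin 2) F := ⟨!![1, 0; 0, -1], !![1, 0; 0, -1], by simp [← one_fin_two], by simp [← one_fin_two]⟩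
    have y2 : y0 * y0 = 1 := Units.ext y0.3
    obtain ⟨Q, hQ⟩ := (show IsPGroup 2 (zpowers y0) from IsPGroup.of_card_dvd_pow (n := 1) (by
      rw [Nat.card_zpowers]; exact orderOf_dvd_of_pow_eq_one (by simpa [pow_two] using y2))).exists_le_sylow
    obtain ⟨T⟩ : Nonempty (Sylow 2 (Equiv.Perm (Fin m))) := inferInstance
    obtain ⟨T'⟩ : Nonempty (Sylow 2 (alternatingGroup (Fin m))) := inferInstance
    obtain ⟨R⟩ : Nonempty (Sylow 2 (SpecialLinearGroup (Fin 2) F)) := inferInstance
    obtain ⟨k, hk, ⟨e⟩⟩ := Cfsg.Agent.S0261.result hF R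
    let ρ : Q →* Matrix (Fin 2) (Fin 2) F := (Units.coeHom _).comp (Subgroup.subtype _)
    have hρ : Function.Injective ρ := Units.val_injective.comp Subtype.val_injective
    refine sl_sylow (wrM_inj (T := T.1) hρ) (Fintype.equivFinOfCardEq (by simp)) ?_
      (sqA_ker_A (Cfsg.Agent.S4623.result 2 m T T').1 (by simp) ?_ (y := ⟨y0, hQ (mem_zpowers _)⟩) (Subtype.ext y2)
        (fun h => ?_) ⟨0, hm⟩) P
    · have e2 := (val_GL h3 1).1
      simp only [mul_one, Nat.factorial_one, padicValNat_one_right, add_zero] at e2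
      rw [card_wr, card_syl, card_syl, e2, Nat.card_perm, ← pow_mul, ← pow_add, (val_GL h3 m).1]
      simp
    · have a1 := (IsSylowIn.of_sylow_top Q).inf_of_normalizer' (N := (GeneralLinearGroup.det : GL (Fin 2) F →* Fˣ).ker)
        le_top (by simp [normalizer_eq_top])
      have a2 := (IsSylowIn.of_sylow_top R).map SpecialLinearGroup.toGL
      rw [← MonoidHom.range_eq_map, range_toGL] at a2
      obtain ⟨g, -, hg⟩ := a2.exists_cj_eq a1
      have e1 : (detMonoidHom.comp ρ).ker.map Q.1.subtype = Q.1 ⊓ (GeneralLinearGroup.det : GL (Fin 2) F →* Fˣ).ker := by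
        rw [← map_comap_eq_self_of_surjective (f := MonoidHom.id _) Function.surjective_id (Q.1 ⊓ _), inf_comm,
          comap_id, Subgroup.map_id, ← subgroupOf_map_subtype]
        congr 1
        ext w
        simp only [MonoidHom.mem_ker, mem_subgroupOf, Units.ext_iff]
        rfl
      let e2 := (R.1.equivMapOfInjective _ SpecialLinearGroup.toGL_injective).trans
        (((R.1.map SpecialLinearGroup.toGL).equivMapOfInjective _ (MulAut.conj g).injective).trans
          ((MulEquiv.subgroupCongr (hg.trans e1.symm)).trans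
            ((detMonoidHom.comp ρ).ker.equivMapOfInjective _ Q.1.subtype_injective).symm))
      exact ((sqA_quat hk).surj e.symm.toMonoidHom e.symm.surjective).surj e2.toMonoidHom e2.surjective
    · obtain ⟨n, hn⟩ := Q.isPGroup' h
      have a1 : (ρ h).det ^ 2 ^ n = 1 := by rw [← det_pow, ← map_pow, hn, map_one, det_one]
      have a2 : (ρ h).det ^ (Fintype.card F - 1) = 1 := FiniteField.pow_card_sub_one_eq_one _ (by
        rintro e; rw [e, zero_pow (by positivity)] at a1; exact zero_ne_one a1)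
      have a3 : (ρ h).det ^ 2 = 1 := by
        obtain ⟨i, hi⟩ : ∃ i, Fintype.card F - 1 = 2 * (2 * i + 1) := ⟨Fintype.card F / 4, by omega⟩
        rw [hi, pow_mul] at a2
        have a4 : ((ρ h).det ^ 2) ^ 2 ^ n = 1 := by rw [← pow_mul, mul_comm, pow_mul, a1, one_pow]
        exact orderOf_eq_one_iff.1 (Nat.eq_one_of_dvd_coprimes (Nat.Coprime.pow_right n (Nat.coprime_two_right.2
          ⟨i, rfl⟩)) (orderOf_dvd_of_pow_eq_one a2) (orderOf_dvd_of_pow_eq_one a4))
      refine (sq_eq_one_iff.1 a3).imp id fun e => ?_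
      rw [map_mul, det_mul, e]
      change -1 * det !![(1 : F), 0; 0, -1] = 1
      simp
  · have h3 : Fintype.card F % 4 = 1 := by omega
    obtain ⟨r, hr⟩ := FiniteField.isSquare_neg_one_iff.2 (show Fintype.card F % 4 ≠ 3 by omega)
    have r0 : r ≠ 0 := by rintro rfl; simp at hr
    obtain ⟨C, hC⟩ := (show IsPGroup 2 (zpowers (Units.mk0 r r0)) from IsPGroup.of_card_dvd_pow (n := 2) (by
      rw [Nat.card_zpowers]
      exact orderOf_dvd_of_pow_eq_one (Units.ext (by
        simp only [Units.val_pow_eq_pow_val, Units.val_mk0, Units.val_one]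
        linear_combination (1 - r * r) * hr)))).exists_le_sylow
    obtain ⟨n, hn⟩ : ∃ n, 2 * m = n + 2 := ⟨2 * m - 2, by omega⟩
    revert P
    rw [hn]
    intro P
    obtain ⟨T, hT⟩ := (show IsPGroup 2 (zpowers (finRotate (n + 2))) from IsPGroup.of_card_dvd_pow (n := j + 1) (by
      rw [Nat.card_zpowers, isCycle_finRotate.orderOf, support_finRotate, Finset.card_univ, Fintype.card_fin, ← hn, hj,
        pow_succ'])).exists_le_sylow
    obtain ⟨T'⟩ : Nonempty (Sylow 2 (alternatingGroup (Fin (n + 2)))) := inferInstance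
    let ρ : C →* Matrix Unit Unit F := (scalar Unit).toMonoidHom.comp ((Units.coeHom _).comp (Subgroup.subtype _))
    have hρ : Function.Injective ρ := fun a b e => Subtype.ext (Units.ext (by simpa [ρ] using congrFun (congrFun e ()) ()))
    refine sl_sylow (wrM_inj (T := T.1) hρ) (Fintype.equivFinOfCardEq (by simp)) ?_
      (sqA_ker_B hρ (Cfsg.Agent.S4623.result 2 _ T T').1 (fun a b => ?_)
        ((Cfsg.Agent.S4623.gen_top (IsSylowIn.of_sylow_top T)).trans (closure_mono fun t ht => ⟨ht.1, ht.2.1, ht.2.2 rfl⟩))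
        (r := ⟨_, hC (mem_zpowers _)⟩) (by simp [ρ, hr]) 0) P
    · rw [card_wr, card_syl, card_syl, Nat.card_perm, ← pow_mul, ← pow_add, val_GL1 h3, Nat.card_units]
      simp
    · obtain ⟨i, hi⟩ := isCycle_finRotate.sameCycle (x := a) (y := b)
        (Equiv.Perm.mem_support.1 (by simp)) (Equiv.Perm.mem_support.1 (by simp))
      exact ⟨⟨_, hT (zpow_mem (mem_zpowers _) i)⟩, hi⟩

end Cfsg.Agent.S4627
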