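import Cfsg.Statements.S4633
import Cfsg.Agent.H4.Pairs3

set_option autoImplicit false
open Cfsg

namespace Cfsg.Agent.S4633

open CfsgH4 CfsgH3 CfsgH2 MonoidAlgebra

/-- Let B be a block of the finite group G relative to a maximal ideal M of the algebraic integers containing the prime p, with a nontrivial cyclic defect group P. Let c be a block of C_G(P) inducing B and T the stabilizer of c in N_G(P) (the elements of N_G(P) conjugating c to itself); T contains C_G(P). Then T/C_G(P) is cyclic of order dividing p − 1, and it acts freely on the non-identity elements of P: an element of T fixing some non-identity element of P under conjugation lies in C_G(P). -/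
theorem result {G : Type*} [Group G] [Finite G] (p : ℕ) [Fact p.Prime] (M : Ideal Cfsg.AlgInt) (hM : Cfsg.IsPModular p M) (B : Set (Cfsg.IrrCharacter G)) (hB : Cfsg.IsPBlock M B) (P : Subgroup G) (hPD : Cfsg.IsDefectGroup p M B P) (hP1 : P ≠ ⊥) (hcyc : IsCyclic P) (c : Set (Cfsg.IrrCharacter (Subgroup.centralizer (P : Set G)))) (hc : Cfsg.IsInducedBlock M (Subgroup.centralizer (P : Set G)) c B) (T : Subgroup G) (hT : ∀ g : G, g ∈ T ↔ (g ∈ Subgroup.normalizer (P : Set G) ∧ Cfsg.StabilizesBlock (Subgroup.centralizer (P : Set G)) c g)) [hn : ((Subgroup.centralizer (P : Set G)).subgroupOf T).Normal] : IsCyclic (T ⧸ (Subgroup.centralizer (P : Set G)).subgroupOf T) ∧ (Subgroup.centralizer (P : Set G)).relIndex T ∣ p - 1 ∧ ∀ g ∈ T, ∀ x ∈ P, x ≠ 1 → g * x * g⁻¹ = x → g ∈ Subgroup.centralizer (P : Set G) := by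
  have := hM.2.1
  have := charP_of_isPModular hM
  have hm := mp_of_induced hB hPD hc
  have hP := hm.bp.pgroup
  have hT' := eq_inf_stabA hc.1 hT
  have hTN : T ≤ Subgroup.normalizer (P : Set G) := hT'.le.trans inf_le_left
  have hCT : Subgroup.centralizer (P : Set G) ≤ T := (cent_le_stab hP hc.1).trans hT'.ge
  have h1 := hm.not_dvd
  rw [stab_top, Cn_top, sup_eq_left.2 (le_centralizer_of_cyclic hcyc), ← hT'] at h1
  have h3 : ∀ g ∈ T, ∀ x ∈ P, x ≠ 1 → g * x * g⁻¹ = x → g ∈ Subgroup.centralizer (P : Set G) :=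
    fun g hg x hx h2 h3 => mem_centralizer_of_cyc hcyc hP hTN hCT h1 hg hx h2 h3
  obtain ⟨y, hy, hyo⟩ := exists_orderOf_eq_prime (dvd_card_of_ne_bot hP hP1)
  have hy1 : y ≠ 1 := fun h => (Fact.out : p.Prime).one_lt.ne (by rw [← hyo, h, orderOf_one])
  have hTX := hTN.trans (normalizer_le_of_cyc hcyc (Subgroup.zpowers_le.2 hy))
  have hk : ((Subgroup.zpowers y).normalizerMonoidHom.comp (Subgroup.inclusion hTX)).ker =
      (Subgroup.centralizer (P : Set G)).subgroupOf T := by
    rw [ker_normalizerMonoidHom_comp]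
    ext g
    refine ⟨fun h => h3 g g.2 y hy hy1 ?_,
      fun h => centralizer_anti (Subgroup.zpowers_le.2 hy) h⟩
    have h4 : y * g = g * y := h y (Subgroup.mem_zpowers y)
    rw [← h4]; group
  have hcy : Nat.card (Subgroup.zpowers y) = p := by rw [Nat.card_zpowers, hyo]
  have hA : IsCyclic (MulAut (Subgroup.zpowers y)) := by
    have := ZMod.isCyclic_units_prime (hcy ▸ Fact.out : (Nat.card (Subgroup.zpowers y)).Prime)
    exact isCyclic_of_injective (IsCyclic.mulAutMulEquiv (Subgroup.zpowers y)).toMonoidHom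
      (IsCyclic.mulAutMulEquiv _).injective
  refine ⟨isCyclic_of_injective (QuotientGroup.lift _ _ hk.ge)
    ((QuotientGroup.injective_lift_iff _ _ _).2 hk.symm), ?_, h3⟩
  rw [Subgroup.relIndex, ← hk, Subgroup.index_ker, ← Nat.totient_prime Fact.out, ← hcy,
    ← IsCyclic.card_mulAut]
  exact Subgroup.card_subgroup_dvd_card _

end Cfsg.Agent.S4633
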