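import Cfsg.Statements.S4634
import Cfsg.Agent.H4.Cyc5

set_option autoImplicit false
open Cfsg

namespace Cfsg.Agent.S4634

open CfsgH4 CfsgH3 CfsgH2 MonoidAlgebra

/-- Let B be a block of the finite group G relative to a maximal ideal M of the algebraic integers containing the prime p, with a nontrivial cyclic defect group P, let c be a block of C_G(P) inducing B, T the stabilizer of c in N_G(P) and e the index of C_G(P) in T. Let F be any finite group of order #P · e having a cyclic subgroup Q of order #P that is its own centralizer (F is then the semidirect product of Q by a cyclic group of order e acting faithfully). Then there is a perfect isometry from the set of all irreducible characters of F onto B whose signs agree on all the characters of F that do not contain Q in their kernel. -/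
theorem result {G : Type*} [Group G] [Finite G] (p : ℕ) [Fact p.Prime] (M : Ideal Cfsg.AlgInt) (hM : Cfsg.IsPModular p M) (B : Set (Cfsg.IrrCharacter G)) (hB : Cfsg.IsPBlock M B) (P : Subgroup G) (hPD : Cfsg.IsDefectGroup p M B P) (hP1 : P ≠ ⊥) (hcyc : IsCyclic P) (c : Set (Cfsg.IrrCharacter (Subgroup.centralizer (P : Set G)))) (hc : Cfsg.IsInducedBlock M (Subgroup.centralizer (P : Set G)) c B) (T : Subgroup G) (hT : ∀ g : G, g ∈ T ↔ (g ∈ Subgroup.normalizer (P : Set G) ∧ Cfsg.StabilizesBlock (Subgroup.centralizer (P : Set G)) c g)) (e : ℕ) (he : (Subgroup.centralizer (P : Set G)).relIndex T = e) (F : Type*) [Group F] [Finite F] (hF : Nat.card F = Nat.card P * e) (Q : Subgroup F) (hQ : IsCyclic Q) (hQcard : Nat.card Q = Nat.card P) (hQC : Subgroup.centralizer (Q : Set F) = Q) : ∃ (I : Cfsg.IrrCharacter F → Cfsg.IrrCharacter G) (ε : Cfsg.IrrCharacter F → ℤ), Cfsg.IsPerfectIsometry p M (Set.univ : Set (Cfsg.IrrCharacter F)) B I ε ∧ ∀ η η' : Cfsg.IrrCharacter F, (∃ x ∈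 Q, (η : F → ℂ) x ≠ (η : F → ℂ) 1) → (∃ x ∈ Q, (η' : F → ℂ) x ≠ (η' : F → ℂ) 1) → ε η = ε η' := by
  classical
  have := hM.2.1
  have := charP_of_isPModular hM
  have := Fintype.ofFinite G
  have := Fintype.ofFinite F
  have := Fintype.ofFinite P
  have hp : p.Prime := Fact.out
  have hm := mp_of_induced hB hPD hc
  rw [eq_inf_stabA hc.1 hT] at he
  have h1 := (hm.le_rank_cyc hB hcyc hP1).2
  rw [he] at h1
  have hi : Q.index = e := Nat.eq_of_mul_eq_mul_left (Nat.card_pos (α := P))
    (by rw [← hF, ← hQcard, Subgroup.card_mul_index])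
  have hlt : e < p := (Nat.le_of_dvd (Nat.sub_pos_of_lt hp.one_lt) h1).trans_lt (Nat.sub_lt hp.pos one_pos)
  let φ : P ≃* Q := mulEquivOfCyclicCardEq hQcard.symm
  have hQp : IsPGroup p Q := hm.bp.pgroup.of_equiv φ
  have hn := normal_of_index_lt hQp (hi ▸ hlt)
  have hS : IsSylowIn p Q ⊤ := ⟨le_top, hQp, fun h => (Nat.le_of_dvd (Nat.pos_of_ne_zero
    (relIndex_ne_zero _ _)) h).not_gt (by rwa [Subgroup.relIndex_top_right, hi])⟩
  have hm' := mp_principal (M := M) hS
  have hT' : Subgroup.normalizer (Q : Set F) ⊓ stabA (bIdS M _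
      (principalBlock M (Subgroup.centralizer (Q : Set F)))) = ⊤ := by
    rw [Subgroup.normalizer_eq_top, top_inf_eq, eq_top_iff]
    exact fun g _ => cjA_principal (cj_eq_of_normal g _)
  rw [principal_eq_univ hQp hQC.le] at hm'
  have hu : IsPBlock M (Set.univ : Set (IrrCharacter F)) :=
    principal_eq_univ (M := M) hQp hQC.le ▸ isPBlock_principal
  have := hcyc.isMulCommutative
  have := (Subgroup.nontrivial_iff_ne_bot P).2 hP1
  obtain ⟨K, Φ, Ψ, hK, h, h', ⟨X, ζ, a, δ, S⟩, X', ζ', a', δ', S'⟩ :=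
    exists_cyc_pair hm hB hm' hu hcyc hP1 φ (by
      rw [hT', he, hQC, Subgroup.relIndex_top_right, hi])
  rw [he] at hK
  obtain ⟨I, ε, h2, h3, h4⟩ := h.isometry S h' S'
  refine ⟨I, ε, h2, ?_⟩
  have := finite_linTriv Q
  have := Fintype.ofFinite (linTriv Q)
  let ι : linTriv Q → IrrCharacter F := fun μ => ⟨_, isIrr_unitsHom μ.1⟩
  have hι : Function.Injective ι := fun a b h => Subtype.ext
    (MonoidHom.ext fun y => Units.ext (congrFun (congrArg Subtype.val h) y))
  obtain ⟨L, hL⟩ : ∃ L, L = Finset.univ.image ι := ⟨_, rfl⟩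
  have L1 : L.card = e := by
    rw [hL, Finset.card_image_of_injective _ hι, Finset.card_univ, ← Nat.card_eq_fintype_card,
      card_linTriv ((commutator_le_centralizer_of_cyc hQ).trans hQC.le), hi]
  have L2 : ∀ η ∈ L, ∀ x ∈ Q, η.1 x = 1 := fun η hη x hx => by
    obtain ⟨μ, -, rfl⟩ := Finset.mem_image.1 (hL ▸ hη)
    exact congrArg Units.val (μ.2 x hx)
  have L3 : ∀ η ∈ L, ∀ o : OrbK K, classInner (alF Ψ o.out.1) η.1 =
      classInner (alF Ψ o.out.1) fun _ => 1 := fun η hη o => by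
    unfold classInner
    congr 1
    refine Finset.sum_congr rfl fun g _ => ?_
    by_cases hg : p ∣ orderOf g
    · obtain ⟨x, hx⟩ := exists_isPPart p g
      have h5 : x ∈ Q := hS.le_of_le_normalizer (isPPart_isPGroup hx) le_top
        (by rw [Subgroup.normalizer_eq_top]; exact le_top) (Subgroup.mem_zpowers x)
      rw [L2 η hη g (hQC ▸ hm'.free_of_cyc' hQ x h5 ((isPPart_ne_one_iff hx).2 hg) g
        (hT' ▸ Subgroup.mem_top g)
        (Subgroup.mem_centralizer_singleton_iff.2 (isPPart_commute hx).symm))]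
    · rw [h'.exc.reg o g hg, zero_mul, zero_mul]
  suffices key : ∀ η ∉ L, ∀ η' ∉ L, ε η = ε η' from fun η η' ⟨x, hx, e1⟩ ⟨y, hy, e2⟩ =>
    key η (fun h => e1 (by rw [L2 η h x hx, L2 η h 1 (one_mem _)])) η'
      fun h => e2 (by rw [L2 η' h y hy, L2 η' h 1 (one_mem _)])
  rcases subsingleton_or_nontrivial (OrbK K) with hs | hs
  · intro η hη η' hη'
    have h5 := S'.toExcS.card_B
    have h6 := Fintype.card_le_one_iff_subsingleton.2 hs
    rw [Nat.card_univ, S'.card, hK, Nat.card_eq_fintype_card] at h5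
    rw [Finset.card_le_one.1 (show Lᶜ.card ≤ 1 by rw [Finset.card_compl]; omega) η
      (Finset.mem_compl.2 hη) η' (Finset.mem_compl.2 hη')]
  suffices key : ∀ η ∉ L, ε η = δ * δ' from fun η hη η' hη' => (key η hη).trans (key η' hη').symm
  intro η hη
  rcases (S'.mem η).1 trivial with hX | ⟨o, rfl⟩
  swap
  · exact h3 o
  obtain ⟨μ, hμ, hμ'⟩ : ∃ μ ∈ L, μ ∉ X' := by
    by_contra hc
    push Not at hc
    exact hη (Finset.eq_of_subset_of_card_le hc (by rw [L1, S'.card, hK]) ▸ hX)
  obtain ⟨j, rfl⟩ := ((S'.mem μ).1 trivial).resolve_left hμ'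
  have hδ : (δ' : ℂ) ≠ 0 := by rcases S'.sign with e | e <;> simp [e]
  have : Nonempty (IrrCharacter F) := ⟨η⟩
  have h5 : L.card ≤ 1 := Finset.card_le_one_iff_subset_singleton.2 ⟨ζ' j, fun μ hμ' => by
    obtain ⟨i, hi⟩ := exists_ne j
    rcases (S'.mem μ).1 trivial with e | ⟨j', rfl⟩
    · have := (L3 _ hμ i).trans (L3 _ hμ' i).symm
      rw [S'.ipY, (S'.ipX μ e).2, if_neg hi] at this
      exact absurd (by exact_mod_cast this.symm) (S'.ipX μ e).1
    · have := (L3 _ hμ j).trans (L3 _ hμ' j).symm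
      rw [S'.ipY, S'.ipY, if_pos rfl] at this
      by_cases e : j = j'
      · simp [e]
      · simp [e, hδ] at this⟩
  obtain ⟨χ, hχ, e1⟩ := h4 η hX
  have key : ∀ {s t : ℤ} {m n : ℕ}, s = 1 ∨ s = -1 → t = 1 ∨ t = -1 → 0 < m → 0 < n →
      s * m = t * n → s = t := by
    rintro _ _ m n (rfl | rfl) (rfl | rfl) _ _ _ <;> omega
  have e2 := h.rel_one S j
  have e3 := h'.rel_one S' j
  rw [Finset.sum_eq_single_of_mem χ hχ fun ψ hψ e => absurd (Finset.card_le_one.1
    (by rw [S.card, hK, ← L1]; exact h5) ψ hψ χ hχ) e] at e2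
  rw [Finset.sum_eq_single_of_mem η hX fun ψ hψ e => absurd (Finset.card_le_one.1
    (by rw [S'.card, hK, ← L1]; exact h5) ψ hψ η hX) e] at e3
  rw [e1, key S.sign (S.signX χ hχ) (charDegree_pos (ζ j).2) (charDegree_pos χ.2) e2,
    key S'.sign (S'.signX η hX) (charDegree_pos (ζ' j).2) (charDegree_pos η.2) e3]

end Cfsg.Agent.S4634
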