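import Cfsg.Statements.S4635
import Cfsg.Agent.H4.Cyc5

set_option autoImplicit false
open Cfsg

namespace Cfsg.Agent.S4635

open CfsgH4 CfsgH3 CfsgH2 MonoidAlgebra

/-- Let B be a block of the finite group G relative to a maximal ideal M of the algebraic integers containing the prime p, with a nontrivial cyclic defect group P; let Z be the subgroup of order p of P and H = N_G(Z), which contains N_G(P). Let c be the block of H with defect group P that induces B. Then B and c contain the same number of irreducible characters, have the same p-regular rank, and there is a perfect isometry from c onto B. -/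
theorem result {G : Type*} [Group G] [Finite G] (p : ℕ) [Fact p.Prime] (M : Ideal Cfsg.AlgInt) (hM : Cfsg.IsPModular p M) (B : Set (Cfsg.IrrCharacter G)) (hB : Cfsg.IsPBlock M B) (P : Subgroup G) (hPD : Cfsg.IsDefectGroup p M B P) (hP1 : P ≠ ⊥) (hcyc : IsCyclic P) (Z : Subgroup G) (hZ : Z ≤ P) (hZcard : Nat.card Z = p) (H : Subgroup G) (hH : H = Subgroup.normalizer (Z : Set G)) (c : Set (Cfsg.IrrCharacter H)) (hcD : Cfsg.IsDefectGroup p M c (P.subgroupOf H)) (hc : Cfsg.IsInducedBlock M H c B) : Nat.card c = Nat.card B ∧ Cfsg.blockRank p c = Cfsg.blockRank p B ∧ ∃ (I : Cfsg.IrrCharacter H → Cfsg.IrrCharacter G) (ε : Cfsg.IrrCharacter H → ℤ), Cfsg.IsPerfectIsometry p M c B I ε := by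
  have := hM.2.1
  have := charP_of_isPModular hM
  have := Fintype.ofFinite G
  have := Fintype.ofFinite H
  have := Fintype.ofFinite P
  have hN : Subgroup.normalizer (P : Set G) ≤ H := hH ▸ normalizer_le_of_cyc hcyc hZ
  have hPH : P ≤ H := Subgroup.le_normalizer.trans hN
  obtain ⟨e, hm', hm⟩ := exists_mp_pair hB hPD hcD hc hPH hZ
    (hH ▸ Subgroup.centralizer_le_normalizer _) hH.le
  have h1 := relIndex_rel hPH e (inf_le_left.trans hN)
  have := hcyc.isMulCommutative
  obtain ⟨K, Φ, Ψ, -, h, h', ⟨X, ζ, a, δ, S⟩, X', ζ', a', δ', S'⟩ :=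
    exists_cyc_pair hm hB hm' hc.1 hcyc hP1 (Subgroup.subgroupOfEquivOfLe hPH).symm h1
  obtain ⟨I, ε, h2, -⟩ := h.isometry S h' S'
  refine ⟨Nat.card_congr (h2.1.equiv _), ?_, I, ε, h2⟩
  rw [hm.rank_cyc hB hcyc hP1, hm'.rank_cyc hc.1 ((Subgroup.subgroupOfEquivOfLe hPH).isCyclic.2 hcyc)
    fun h => hP1 ?_, h1]
  rw [← Subgroup.map_subgroupOf_eq_of_le hPH, h, Subgroup.map_bot]

end Cfsg.Agent.S4635
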