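import Cfsg.Statements.S4636
import Cfsg.Agent.H4.Rob

set_option autoImplicit false
open scoped Pointwise
open Cfsg

namespace Cfsg.Agent.S4636

open CfsgH4 CfsgH3 CfsgH2 MonoidAlgebra

/-- Let P be a nontrivial cyclic p-subgroup of the finite group G and Z its subgroup of order p. For every x outside N_G(Z), P meets its conjugate xPx⁻¹ trivially; consequently N_G(Q) ≤ N_G(Z) for every nontrivial subgroup Q of P. -/
theorem result {G : Type*} [Group G] [Finite G] (p : ℕ) [Fact p.Prime] (P : Subgroup G) (hP : IsPGroup p P) (hP1 : P ≠ ⊥) (hcyc : IsCyclic P) (Z : Subgroup G) (hZ : Z ≤ P) (hZcard : Nat.card Z = p) : (∀ x : G, x ∉ Subgroup.normalizer (Z : Set G) → P ⊓ MulAut.conj x • P = ⊥) ∧ ∀ Q : Subgroup G, Q ≤ P → Q ≠ ⊥ → Subgroup.normalizer (Q : Set G) ≤ Subgroup.normalizer (Z : Set G) := by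
  have key : ∀ (x : G) (Q : Subgroup G), Q ≤ P → Q ≠ ⊥ → Q ≤ CfsgH2.cj x P →
      x ∈ Subgroup.normalizer (Z : Set G) := by
    intro x Q h1 h2 h3
    have h4 := le_of_cyc_pgroup hcyc hP hZ hZcard h1 h2
    have h5 : CfsgH2.cj x⁻¹ Z ≤ P := by
      rw [cj_le_iff_le_cj_inv, inv_inv]; exact h4.trans h3
    have h6 := eq_of_card_eq_cyc hcyc h5 hZ (card_cj _ _)
    exact (Subgroup.inv_mem_iff _).1 (cj_eq_iff_mem_normalizer.1 h6)
  refine ⟨fun x hx => ?_, fun Q h1 h2 x hx => key x Q h1 h2 ?_⟩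
  · by_contra h
    rw [← cj_eq_smul] at h
    exact hx (key x _ inf_le_left h inf_le_right)
  · rw [← cj_eq_iff_mem_normalizer.2 hx]
    exact CfsgH2.cj_mono x h1

end Cfsg.Agent.S4636
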