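import Cfsg.Statements.S4638
import Cfsg.Agent.H4.Cyc5

set_option autoImplicit false
open Cfsg

namespace Cfsg.Agent.S4638

open CfsgH4 CfsgH3 CfsgH2 MonoidAlgebra

open Subgroup in
theorem K_eq {A : Type*} [Group A] [Finite A] (hA : Nat.card A = 4) {K K' : Subgroup (MulAut A)}
    (h1 : Nat.card K = 1 ∨ Nat.card K = 3) (h2 : Nat.card K = Nat.card K') : K = K' := by
  classical
  rcases h1 with h1 | h1
  · rw [eq_bot_of_card_eq K h1, eq_bot_of_card_eq K' (h2 ▸ h1)]
  have := Fintype.ofFinite A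
  have h3 : Nat.card (MulAut A) ≤ 6 := by
    have := Nat.card_le_card_of_injective (fun σ : MulAut A =>
      (σ.toEquiv.subtypeEquiv fun a => by simp : Equiv.Perm {u : A // u ≠ 1})) fun σ τ h =>
        MulEquiv.ext fun a => by
          by_cases ha : a = 1
          · simp [ha]
          · exact congrArg Subtype.val (DFunLike.congr_fun h ⟨a, ha⟩)
    rwa [Nat.card_perm, Nat.card_eq_fintype_card (α := {u : A // u ≠ 1}), Fintype.card_subtype_compl,
      Fintype.card_subtype_eq, ← Nat.card_eq_fintype_card (α := A), hA] at this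
  have : Fact (Nat.Prime 3) := ⟨Nat.prime_three⟩
  have h4 : ∀ K : Subgroup (MulAut A), Nat.card K = 3 → IsPGroup 3 K ∧ K.index < 3 := fun K h =>
    ⟨IsPGroup.of_card (n := 1) h, by have := K.card_mul_index; rw [h] at this; omega⟩
  have h5 : ∀ K : Subgroup (MulAut A), K.index < 3 → ¬ 3 ∣ K.index := fun K h e =>
    (Nat.le_of_dvd (Nat.pos_of_ne_zero index_ne_zero_of_finite) e).not_gt h
  obtain ⟨a1, a2⟩ := h4 K h1
  obtain ⟨b1, b2⟩ := h4 K' (h2 ▸ h1)
  have := (a1.toSylow (h5 K a2)).unique_of_normal (normal_of_index_lt a1 a2)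
  exact congrArg Sylow.toSubgroup (Subsingleton.elim (a1.toSylow (h5 K a2)) (b1.toSylow (h5 K' b2)))

open Subgroup in
theorem fam_klein {M : Ideal AlgInt} [hM : M.IsMaximal] {G A : Type*} [Group G] [Fintype G]
    [CharP (Res M) 2] {B : Set (IrrCharacter G)} {P : Subgroup G} {e : (Res M)[G]} [Group A]
    [Fintype A] (hm : MP 2 ⊤ (bId M B) P e) (hB : IsPBlock M B) (hP : Nat.card P = 4)
    (h2 : ∀ x ∈ P, x * x = 1) (φ : A ≃* P) : ∃ (K : Subgroup (MulAut A)) (Φ : A → G → ℂ),
      Nat.card K = (centralizer (P : Set G)).relIndex (normalizer (P : Set G) ⊓ stabA e) ∧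
      Fam M 2 B K Φ ∧ Nat.card K ≤ blockRank 2 B ∧ (Nat.card K = 1 ∨ Nat.card K = 3) := by
  classical
  have := Fintype.ofFinite P
  have hab := comm_of_sq h2
  have h1 := hm.not_dvd_abelian hab
  rw [stab_top] at h1
  have h3 := mem_centralizer_of_klein hP h2 inf_le_left
    (by simpa only [Cn_top, stab_top] using hm.bp.Cn_le_stab) h1
  obtain ⟨a1, a2, a3, a4⟩ := hm.klein hB hP h2 rfl
  obtain ⟨χ, hχ⟩ := block_nonempty hB
  have hd : blockDefect 2 B = 2 := Nat.pow_right_injective le_rfl
    ((card_isDef hB hm.isDef).symm.trans hP)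
  have hW : WF 2 P e fun u => if u = 1 then 0 else piU 2 P e u χ.1 := by
    refine ⟨if_pos rfl, fun u => ?_, fun u hu => ?_, fun η hη h0 => ?_, fun u g => ?_⟩
    · split_ifs
      · exact map_zero _
      · exact piU_piU hm.bp _ _
    · rw [if_neg hu, inner_piU_comm hm.bp _ χ.2.classFun (cA_classFun _), piU_piU hm.bp,
        ← inner_piU_comm hm.bp _ χ.2.classFun χ.2.classFun, hP]
      have := (hm.card_klein hB hP h2 (hm.lU_eq_one hab u.2 (h3 u u.2 fun h => hu (Subtype.ext h)))
        hu).2 χ hχ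
      exact eq_inv_of_mul_eq_one_right (by exact_mod_cast this)
    · rcases a1 with a1 | a1
      · have h4 : ∀ u : P, nF 2 e u = 1 := fun u => by
          by_cases hu : u = 1
          · rw [hu, nF_one]
          · rw [a4 u hu, a1]
        have := hm.star_isGen hη (fun u v h => congrArg η (congrArg Subtype.val
          ((Nat.card_eq_one_iff_unique.1 (h4 u)).1.elim ⟨u, Fus.refl u⟩ ⟨v, h⟩))) χ.2.isGen
        rw [star_apply] at this
        convert this using 2 with u
        split_ifs with hu <;> simp [*]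
      have : Nontrivial P := Finite.one_lt_card_iff_nontrivial.1 (by omega)
      obtain ⟨u, hu⟩ := exists_ne (1 : P)
      have h4 : ∀ v ≠ 1, Fus 2 e u v := by
        have h5 : {v | Fus 2 e u v} = {1}ᶜ := Set.eq_of_subset_of_ncard_le
          (fun v hv h => hu (Fus.eq_one (h ▸ hv.symm))) (by
            rw [Set.ncard_compl, Set.ncard_singleton, hP, ← Nat.card_coe_set_eq]
            exact (a1.symm.trans (a4 u hu).symm).le)
        exact fun v hv => (Set.ext_iff.1 h5 v).2 hv
      obtain ⟨m, hm'⟩ := hη.inner_int (isIrr_one (G := P)).isGen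
      have h5 : ∑ v, η v = m * 4 := by
        rw [← hm', classInner, hP]; simp
        ring
      rw [Finset.sum_congr rfl (g := fun v => η v • piU 2 P e u χ.1) fun v _ => ?_, ← Finset.sum_smul,
        h5]
      · refine isGen_of_inner_int (isClassFunction_smul _ (cA_classFun _)) fun ψ hψ => ?_
        obtain ⟨n, hn⟩ := exists_int_piU hm.bp (u := u) (fun k hk => h4 _ fun h => hu
          (orderOf_eq_one_iff.1 (Nat.eq_one_of_dvd_coprimes hk (orderOf_dvd_of_pow_eq_one h)
            ((orderOf_dvd_natCard u).trans (card_subgroup_dvd_card P))))) χ.2.isGen hψ.isGen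
        rw [hm.defect_fb hB (hab u.2), hd] at hn
        exact ⟨m * n, by rw [CfsgH3.inner_smul_left, Int.cast_mul, ← hn]; push_cast; ring⟩
      · split_ifs with hv
        · simp [hv, h0]
        · rw [(h4 v hv).piU_eq hm.bp χ.2.classFun]
    · split_ifs with hu
      · simp
      · rw [card_isDef hB hm.isDef, ← hm.defect_fb hB (hab u.2), Nat.cast_pow]
        exact cmp_int (hm.bp.subEl u) _ ((LC.irr (S := Loc M) χ).comp (Subgroup.subtype _)) g
  obtain ⟨K, h4, h5⟩ := hm.fam hB hab h3 hW (fun t ht u v huv => by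
    have h5 : v = 1 ↔ u = 1 := by
      rw [← OneMemClass.coe_eq_one, ← huv, conj_eq_one_iff, OneMemClass.coe_eq_one]
    simp only [h5, (fus_of_stab hm.bp ht.1 ht.2 huv).piU_eq hm.bp χ.2.classFun]) φ
  exact ⟨K, _, h4, h5, (h4.trans a3.symm).le, h4 ▸ a1⟩

/-- Let B be a block of the finite group G relative to a maximal ideal M of the algebraic integers containing 2, with a Klein four defect group P, and let c be its Brauer correspondent: the block of N_G(P) with defect group P that induces B. Then there is a perfect isometry from c onto B. -/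
theorem result {G : Type*} [Group G] [Finite G] (M : Ideal Cfsg.AlgInt) (hM : Cfsg.IsPModular 2 M) (B : Set (Cfsg.IrrCharacter G)) (hB : Cfsg.IsPBlock M B) (P : Subgroup G) (hPD : Cfsg.IsDefectGroup 2 M B P) (hV : IsKleinFour P) (c : Set (Cfsg.IrrCharacter (Subgroup.normalizer (P : Set G)))) (hcD : Cfsg.IsDefectGroup 2 M c (P.subgroupOf (Subgroup.normalizer (P : Set G)))) (hc : Cfsg.IsInducedBlock M (Subgroup.normalizer (P : Set G)) c B) : ∃ (I : Cfsg.IrrCharacter (Subgroup.normalizer (P : Set G)) → Cfsg.IrrCharacter G) (ε : Cfsg.IrrCharacter (Subgroup.normalizer (P : Set G)) → ℤ), Cfsg.IsPerfectIsometry 2 M c B I ε := by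
  have := hM.2.1
  have := charP_of_isPModular hM
  have := Fintype.ofFinite G
  have := Fintype.ofFinite (Subgroup.normalizer (P : Set G))
  have := Fintype.ofFinite P
  have hPH : P ≤ Subgroup.normalizer (P : Set G) := Subgroup.le_normalizer
  obtain ⟨e, hm', hm⟩ := exists_mp_pair hB hPD hcD hc hPH le_rfl
    (Subgroup.centralizer_le_normalizer _) le_rfl
  have h1 := relIndex_rel hPH e inf_le_left
  have h2 : ∀ x ∈ P, x * x = 1 := fun x hx => congrArg Subtype.val (IsKleinFour.mul_self (⟨x, hx⟩ : P))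
  have : IsMulCommutative P := ⟨⟨fun a b => Subtype.ext (comm_of_sq h2 b.2 a a.2)⟩⟩
  have : Nontrivial P := Finite.one_lt_card_iff_nontrivial.1 (by rw [hV.card_four]; decide)
  obtain ⟨K, Φ, a1, a2, a3, a4⟩ := fam_klein hm hB hV.card_four h2 (MulEquiv.refl _)
  obtain ⟨K', Ψ, b1, b2, b3, -⟩ := fam_klein hm' hc.1
    ((Nat.card_congr (Subgroup.subgroupOfEquivOfLe hPH).toEquiv).trans hV.card_four)
    (fun x hx => Subtype.ext (h2 x hx)) (Subgroup.subgroupOfEquivOfLe hPH).symm
  obtain rfl := K_eq hV.card_four a4 (a1.trans (h1.symm.trans b1.symm))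
  obtain ⟨X, ζ, a, δ, S⟩ := a2.exists_S a3
  obtain ⟨X', ζ', a', δ', S'⟩ := b2.exists_S b3
  obtain ⟨I, ε, h3, -⟩ := a2.isometry S b2 S'
  exact ⟨I, ε, h3⟩

end Cfsg.Agent.S4638
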