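import Cfsg.Statements.S4640
import Cfsg.Agent.H4.Star3

set_option autoImplicit false
open Cfsg

namespace Cfsg.Agent.S4640

open CfsgH4 CfsgH3 CfsgH2 MonoidAlgebra

/-- Let N be a normal subgroup of the finite group G of index a power of the prime p, M a maximal ideal of the algebraic integers containing p, b a block of N stabilized by every element of G, and B a block of G covering b (some member of B has a member of b as a constituent of its restriction to N). Suppose that B has a commutative defect group P. Then G = NP and P ∩ N is a defect group of b; every member of B restricts to a member of b; every member of b is the restriction of exactly [G : N] members of B; B contains exactly [G : N] times as many irreducible characters as b; and B and b have the same p-regular rank. -/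
theorem result {G : Type*} [Group G] [Fintype G] (p : ℕ) [Fact p.Prime] (M : Ideal Cfsg.AlgInt) (hM : Cfsg.IsPModular p M) (N : Subgroup G) [N.Normal] [Fintype N] (hNi : ∃ k : ℕ, N.index = p ^ k) (b : Set (Cfsg.IrrCharacter N)) (hb : Cfsg.IsPBlock M b) (hstab : ∀ g : G, Cfsg.StabilizesBlock N b g) (B : Set (Cfsg.IrrCharacter G)) (hB : Cfsg.IsPBlock M B) (hcov : ∃ χ ∈ B, ∃ θ ∈ b, Cfsg.classInner (fun n : N => (χ : G → ℂ) n) (θ : N → ℂ) ≠ 0) (P : Subgroup G) (hPD : Cfsg.IsDefectGroup p M B P) (hPab : ∀ x ∈ P, ∀ y ∈ P, x * y = y * x) : N ⊔ P = ⊤ ∧ Cfsg.IsDefectGroup p M b ((P ⊓ N).subgroupOf N) ∧ (∀ χ ∈ B, ∃ θ ∈ b, ∀ n : N, (χ : G → ℂ) n = (θ : N → ℂ) n) ∧ (∀ θ ∈ b, Nat.card {χ : Cfsg.IrrCharacter G // χ ∈ B ∧ ∀ n : N, (χ : G → ℂ) n = (θ : N → ℂ) n} = N.index) ∧ Nat.card B = N.index * Nat.card b ∧ Cfsg.blockRank p B = Cfsg.blockRank p b := by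
  classical
  have := hM.2.1
  have := charP_of_isPModular hM
  obtain ⟨k, hk⟩ := hNi
  have hreg := mem_of_pregular_of_index hk
  have hf := isPrim_bIdS hb
  have hfix : bIdS M N b ∈ Fix (Res M) ⊤ := fun g _ => ((stabilizesBlock_iff hb).1 (hstab g)).2
  have hf' := hf.of_pquot le_top hreg hfix
  have key : ∀ B', IsPBlock M B' → bId M B' * bIdS M N b ≠ 0 → bId M B' = bIdS M N b :=
    fun B' h1 h2 => cover_unique_of_pquot le_top le_normalizer_top hreg hf (isPrim_bId h1) hf' h2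
      (by rw [hf.idem]; exact hf.ne_zero)
  have hE := key B hB ((cover_iff hB hb).1 hcov)
  have hD := (isDefectGroup_iff hB).1 hPD
  have hD' := hE ▸ hD
  have h1 := hD'.sup_eq hf le_top le_normalizer_top hfix hreg
  have hab := le_centralizer_of_comm hPab
  have hc : commutator G ≤ N := Subgroup.Normal.commutator_le_of_self_sup_commutative_eq_top h1
    ⟨⟨fun a b => Subtype.ext (hPab a a.2 b b.2)⟩⟩
  obtain ⟨e, hm⟩ := hD.exists_mp (isPrim_bId hB)
  have hfree : ∀ χ ∈ B, ∀ μ : G →* ℂˣ, (∀ n ∈ N, μ n = 1) → (∀ g, χ.1 g ≠ 0 → μ g = 1) → μ = 1 := by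
    intro χ hχ μ h2 h3
    rw [← MonoidHom.ker_eq_top_iff, eq_top_iff, ← h1]
    refine sup_le h2 fun u hu => ?_
    obtain ⟨_, ⟨s, rfl, -, -, hs⟩, h4⟩ := hm.exists_ne_zero_major hB hu (hab hu) hχ
    have := h3 _ h4
    rwa [map_mul, h2 s (hreg s trivial hs), mul_one] at this
  have h2 : ∀ χ ∈ B, ∃ θ ∈ b, ∀ n : N, χ.1 n = θ.1 n := fun χ hχ => by
    let θ : IrrCharacter N := ⟨_, ip_res_self_eq_one hc χ.2 (hfree χ hχ)⟩
    have := (cover_iff hB (isPBlock_blockOf θ)).1 ⟨χ, hχ, θ, mem_blockOf_self θ, by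
      rw [θ.2.inner_self]; exact one_ne_zero⟩
    rw [hE] at this
    rw [bIdS_injective hb (isPBlock_blockOf θ) (hf.eq_of_mul_ne_zero (isComm_Z N)
      (isPrim_bIdS (isPBlock_blockOf θ)) this)]
    exact ⟨θ, mem_blockOf_self θ, fun _ => rfl⟩
  have h3 : ∀ θ ∈ b, ∀ χ : IrrCharacter G, classInner (fun n : N => χ.1 n) θ.1 ≠ 0 → χ ∈ B :=
    fun θ hθ χ h => by
      rw [bId_injective hB (isPBlock_blockOf χ) (hE.trans (key _ (isPBlock_blockOf χ)
        ((cover_iff (isPBlock_blockOf χ) hb).1 ⟨χ, mem_blockOf_self χ, θ, hθ, h⟩)).symm)]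
      exact mem_blockOf_self χ
  have h4 : ∀ θ ∈ b, ∃ χ ∈ B, ∀ n : N, χ.1 n = θ.1 n := fun θ hθ => by
    obtain ⟨χ, hχ, h⟩ := θ.2.exists_over
    obtain ⟨θ', -, h5⟩ := h2 _ (h3 θ hθ ⟨χ, hχ⟩ h)
    refine ⟨_, h3 θ hθ ⟨χ, hχ⟩ h, fun n => ?_⟩
    rw [h5, θ'.2.eq_of_inner_ne_zero θ.2 (funext h5 ▸ h)]
  have h5 : ∀ θ ∈ b, Nat.card {χ : IrrCharacter G // χ ∈ B ∧ ∀ n : N, χ.1 n = θ.1 n} = N.index := by
    intro θ hθ
    obtain ⟨χ, hχ, h⟩ := h4 θ hθ
    have h6 : ∀ χ : G → ℂ, (∀ n : N, χ n = θ.1 n) → classInner (fun n : N => χ n) θ.1 ≠ 0 :=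
      fun χ h => by rw [funext h, θ.2.inner_self]; exact one_ne_zero
    have h7 : ∀ μ : linTriv N, ∀ n : N, χ.1 n * μ.1 n = θ.1 n := fun μ n => by
      rw [μ.2 n n.2, h]; simp
    rw [← card_linTriv hc]
    refine (Nat.card_congr (Equiv.ofBijective (fun μ => ⟨⟨_, χ.2.mul_linear μ.1⟩,
      h3 θ hθ _ (h6 _ (h7 μ)), h7 μ⟩) ⟨fun μ ν h8 => ?_, fun ψ => ?_⟩)).symm
    · refine mul_inv_eq_one.1 (Subtype.ext (hfree χ hχ _ (μ * ν⁻¹).2 fun g hg => ?_))
      have := mul_left_cancel₀ hg (congrFun (congrArg (fun x => x.1.1) h8) g)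
      simp [Units.ext this]
    · obtain ⟨μ, h8, h9⟩ := exists_lin_of_over hc χ.2 ψ.1.2 θ.2 (h6 _ h) (h6 _ ψ.2.2)
      exact ⟨⟨μ, h8⟩, Subtype.ext (Subtype.ext h9.symm)⟩
  refine ⟨h1, (isDefectGroup_iff_S' hb inf_le_right).2 (hD'.inf hf le_top le_normalizer_top hfix),
    h2, h5, ?_, blockRank_eq_of_res (fun x => hreg x trivial) h2 h4⟩
  choose r hr hr' using h2
  have := Fintype.ofFinite b
  rw [← Nat.card_congr (Equiv.sigmaFiberEquiv fun χ : B => (⟨r χ χ.2, hr χ χ.2⟩ : b)),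
    Nat.card_sigma, Finset.sum_congr rfl (g := fun _ => N.index) fun θ _ => ?_, Finset.sum_const,
    Finset.card_univ, ← Nat.card_eq_fintype_card, smul_eq_mul, mul_comm]
  rw [← h5 θ θ.2]
  exact Nat.card_congr ((Equiv.subtypeEquivRight fun χ => ⟨fun h n => by rw [← h, hr'],
    fun h => Subtype.ext (Subtype.ext (funext fun n => by rw [← hr', h]))⟩).trans
      (Equiv.subtypeSubtypeEquivSubtypeInter (· ∈ B) fun χ => ∀ n : N, χ.1 n = θ.1.1 n))

end Cfsg.Agent.S4640
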