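import Cfsg.Statements.S4641
import Cfsg.Agent.H4.Proj2

set_option autoImplicit false
open Cfsg

namespace Cfsg.Agent.S4641

open CfsgH4 CfsgH3 CfsgH2 MonoidAlgebra

/-- Let B be a block of the finite group G relative to a maximal ideal M of the algebraic integers containing the prime p, let p^a be the p-part of the order of G and p^d the order of a defect group D of B, and let g be the greatest common divisor of the degrees of the members of B. Then the p-part of g is exactly p^(a−d), and writing g = p^(a−d)·u there is a positive integer v, prime to p and at least the p-regular rank of B (its number of irreducible Brauer characters), with Σ_{χ ∈ B} χ(1)² = p^(2a−d)·u²·v. -/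
theorem result {G : Type*} [Group G] [Finite G] (p : ℕ) [Fact p.Prime] (M : Ideal Cfsg.AlgInt) (hM : Cfsg.IsPModular p M) (B : Set (Cfsg.IrrCharacter G)) (hB : Cfsg.IsPBlock M B) (D : Subgroup G) (hD : Cfsg.IsDefectGroup p M B D) (a d : ℕ) (ha : (Nat.card G).factorization p = a) (hd : Nat.card D = p ^ d) (g : ℕ) (hg1 : ∀ χ ∈ B, g ∣ Cfsg.charDegree (χ : G → ℂ)) (hg2 : ∀ g' : ℕ, (∀ χ ∈ B, g' ∣ Cfsg.charDegree (χ : G → ℂ)) → g' ∣ g) : g.factorization p = a - d ∧ ∃ v : ℕ, 0 < v ∧ ¬ p ∣ v ∧ Cfsg.blockRank p B ≤ v ∧ ∑ᶠ χ ∈ B, Cfsg.charDegree (χ : G → ℂ) ^ 2 = p ^ (2 * a - d) * (g / p ^ (a - d)) ^ 2 * v := by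
  have := hM.2.1
  have := charP_of_isPModular hM
  have := Fintype.ofFinite G
  have hp : p.Prime := Fact.out
  have hS := eSet_mem_SG hB
  have h1 : d = blockDefect p B :=
    Nat.pow_right_injective hp.two_le (hd.symm.trans (card_defectGroup hB hD))
  have h2 := minNu_add_blockDefect (p := p) (block_nonempty hB)
  obtain ⟨ξ, hξ, h0⟩ := exists_nu_eq_minNu (p := p) (block_nonempty hB)
  have hg0 : g ≠ 0 := fun e => (charDegree_pos ξ.2).ne' (zero_dvd_iff.1 (e ▸ hg1 ξ hξ))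
  have h3 : g.factorization p = a - d := by
    have k1 := (hp.pow_dvd_iff_le_factorization hg0).1 (hg2 _ fun χ hχ => pow_minNu_dvd hχ)
    have k2 := (Nat.factorization_le_iff_dvd hg0 (charDegree_pos ξ.2).ne').2 (hg1 ξ hξ) p
    rw [nu] at h0
    omega
  refine ⟨h3, ?_⟩
  obtain ⟨u, hu⟩ : p ^ (a - d) ∣ g := h3 ▸ Nat.ordProj_dvd g p
  have hu' : ¬ p ∣ u := fun h => Nat.pow_succ_factorization_not_dvd hg0 hp (by
    rw [h3, hu, pow_succ]; exact Nat.mul_dvd_mul_left _ h)
  obtain ⟨m, hm0, hm⟩ := exists_mult hS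
  have h4 : ∀ j ∈ ptsB M B, g ∣ m j := fun j hj => Int.natCast_dvd_natCast.1
    (dvd_of_dvd_dec p ptsB_sub (Nat.cast_ne_zero.2 hg0) (c := fun j => m j) (fun χ => by
      by_cases hχ : χ ∈ B
      · have := hg1 χ hχ
        rw [deg_eq_sum hS hm hχ] at this
        exact_mod_cast this
      · rw [Finset.sum_eq_zero fun i hi => by
          rw [dec_of_notMem hS (ptsB_idem hi) (mem_ptsB.1 hi).2 hχ, Nat.cast_zero, mul_zero]]
        exact dvd_zero _) hj)
  let w : (Res M)[G] → ℕ := fun j => ∑ χ ∈ irrF B, dec M χ j * charDegree χ.1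
  have h5 : ∀ j ∈ ptsB M B, ∃ c, 0 < c ∧ m j * w j = p ^ (2 * a - d) * u ^ 2 * c := fun j hj => by
    obtain ⟨k, hk⟩ := exists_deg_of_vanish (p := p) (isGen_Pr j) fun g hg =>
      Pr_vanish (ptsB_idem hj) hg
    have k1 : p ^ a ∣ w j := by
      refine Int.natCast_dvd_natCast.1 ⟨k, Int.cast_injective (α := ℂ) ?_⟩
      push_cast [w]
      rw [← ha, ← hk, Pr_eq_sum hS (ptsB_idem hj) (mem_ptsB.1 hj).2, Finset.sum_apply]
      exact Finset.sum_congr rfl fun χ _ => by rw [coe_charDegree χ.2.isChar]; rfl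
    have k2 : u ∣ w j := Finset.dvd_sum fun χ hχ =>
      ((Dvd.intro_left _ hu.symm).trans (hg1 χ (mem_irrF.1 hχ))).mul_left _
    obtain ⟨c1, hc1⟩ := ((hp.coprime_iff_not_dvd.2 hu').pow_left a).mul_dvd_of_dvd_of_dvd k1 k2
    obtain ⟨c2, hc2⟩ := h4 j hj
    obtain ⟨χ, hχ, hχ0⟩ := exists_dec_ne_zero hS hj
    have k3 : 0 < w j := lt_of_lt_of_le (Nat.mul_pos (Nat.pos_of_ne_zero hχ0) (charDegree_pos χ.2))
      (Finset.single_le_sum (f := fun χ => dec M χ j * charDegree χ.1) (fun _ _ => Nat.zero_le _)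
        (mem_irrF.2 hχ))
    refine ⟨c1 * c2, Nat.mul_pos (Nat.pos_of_mul_pos_left (hc1 ▸ k3))
      (Nat.pos_of_mul_pos_left (hc2 ▸ hm0 j hj)), ?_⟩
    rw [hc1, hc2, hu, show 2 * a - d = a - d + a by omega]
    ring
  choose! c hc hc' using h5
  have h6 : ∑ χ ∈ irrF B, charDegree χ.1 ^ 2 =
      p ^ (2 * a - d) * u ^ 2 * ∑ j ∈ ptsB M B, c j := by
    rw [Finset.mul_sum, ← Finset.sum_congr rfl hc']
    simp only [w, Finset.mul_sum]
    rw [Finset.sum_comm]
    exact Finset.sum_congr rfl fun χ hχ => by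
      rw [sq]
      conv_lhs => enter [1]; rw [deg_eq_sum hS hm (mem_irrF.1 hχ)]
      simp only [Finset.sum_mul, mul_assoc]
  have h7 : blockRank p B ≤ ∑ j ∈ ptsB M B, c j := by
    rw [← card_ptsB hS, Finset.card_eq_sum_ones]
    exact Finset.sum_le_sum hc
  have h8 := (blockRank_pos (p := p) ⟨ξ, hξ⟩).trans_le h7
  refine ⟨_, h8, fun h => ?_, h7, by
    rw [finsum_mem_irr, h6, hu, Nat.mul_div_cancel_left _ (pow_pos hp.pos _)]⟩
  have h9 := factorization_sum_deg_sq (p := p) hB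
  have h10 : (∑ χ ∈ irrF B, charDegree χ.1 ^ 2) ≠ 0 := by
    rw [h6]
    exact mul_ne_zero (mul_ne_zero (pow_ne_zero _ hp.ne_zero)
      (pow_ne_zero _ fun e => hu' (e ▸ dvd_zero p))) h8.ne'
  refine Nat.pow_succ_factorization_not_dvd h10 hp ?_
  rw [h9, h6, show minNu p B + (Nat.card G).factorization p = 2 * a - d by omega, pow_succ,
    mul_assoc]
  exact Nat.mul_dvd_mul_left _ (h.mul_left _)

end Cfsg.Agent.S4641
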