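import Cfsg.Statements.S4642
import Cfsg.Agent.H4.Cover2

set_option autoImplicit false
open Cfsg

namespace Cfsg.Agent.S4642

open CfsgH4 CfsgH3 CfsgH2 MonoidAlgebra

/-- Let G be a finite group, p a prime, M a maximal ideal of the algebraic integers containing p, K the largest normal subgroup of G of order prime to p, and L the preimage in G of the largest normal p-subgroup of G/K. Let Q be a Sylow p-subgroup of L and suppose C_G(Q) ≤ L. Let θ be an irreducible character of K invariant under conjugation by every element of G, and let B be the set of irreducible characters of G whose restriction to K contains θ. Then B is a block of G, every Sylow p-subgroup of G is a defect group of B, and B is of principal type: for every p-subgroup R of G exactly one block of C_G(R) induces B. -/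
theorem result {G : Type*} [Group G] [Fintype G] (p : ℕ) [Fact p.Prime] (M : Ideal Cfsg.AlgInt) (hM : Cfsg.IsPModular p M) (K : Subgroup G) (hK : K = Cfsg.pPrimeCore p G) [Fintype K] (L : Subgroup G) (hL : L = Cfsg.pPrimePCore p G) (Q : Subgroup G) (hQL : Q ≤ L) (hQp : IsPGroup p Q) (hQS : ¬ p ∣ Q.relIndex L) (hCQ : Subgroup.centralizer (Q : Set G) ≤ L) (θ : Cfsg.IrrCharacter K) (hθ : ∀ g : G, Cfsg.IsConjCharOf K g (θ : K → ℂ) (θ : K → ℂ)) (B : Set (Cfsg.IrrCharacter G)) (hBdef : ∀ χ : Cfsg.IrrCharacter G, χ ∈ B ↔ Cfsg.classInner (fun k : K => (χ : G → ℂ) k) (θ : K → ℂ) ≠ 0) : Cfsg.IsPBlock M B ∧ (∀ S : Sylow p G, Cfsg.IsDefectGroup p M B S) ∧ ∀ R : Subgroup G, IsPGroup p R → ∃! f : Set (Cfsg.IrrCharacter (Subgroup.centralizer (R : Set G))), Cfsg.IsInducedBlock M (Subgroup.centralizer (R : Set G)) f B := by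
  have := hM.2.1
  have := charP_of_isPModular hM
  have hKn : K.Normal := hK ▸ inferInstance
  have hLn : L.Normal := hL ▸ inferInstance
  have hKL : K ≤ L := hK ▸ hL ▸ CfsgH1.pPrimeCore_le_pPrimePCore
  obtain ⟨k, hk⟩ : ∃ k, K.relIndex L = p ^ k := hK ▸ hL ▸ CfsgH1.exists_relIndex_pPrimePCore
  have hLK : IsPGroup p (L.map (QuotientGroup.mk' K)) := by
    subst hK hL; exact CfsgH1.isPGroup_quotient_pPrimePCore p G
  replace hK : ¬ p ∣ Nat.card K := hK ▸ CfsgH1.not_dvd_card_pPrimeCore p G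
  have hθ' := isPBlock_singleton (M := M) hK θ
  have hf := isPrim_bIdS hθ'
  have hfT : bIdS M _ {θ} ∈ Fix (Res M) ⊤ := fun g _ => ((stabilizesBlock_iff hθ').1
    ⟨le_normalizer_top trivial, by rintro _ rfl; exact ⟨_, rfl, hθ g⟩⟩).2
  have hreg : ∀ x ∈ L, ¬ p ∣ orderOf x → x ∈ K := fun x hx h =>
    mem_of_pregular_of_relIndex le_normalizer_of_normal' hk hx h
  obtain ⟨h1, h2⟩ := isPrim_of_constrained hKL le_top le_normalizer_top
    le_normalizer_top hK hreg ⟨hQL, hQp, hQS⟩ (fun x _ _ h => hCQ h) hf hfT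
  obtain ⟨B', hB, h3⟩ := exists_block_of_isPrim h1
  obtain rfl : B = B' := Set.ext fun χ => by
    rw [hBdef, over_iff, ← eSet_eq_of_bId_eq (eSet_mem_SG hB) (eSet_mem_SG hθ') h3,
      eChi_mul_eSet_ne_zero_iff]
  refine ⟨hB, fun P => ?_, fun R hR => ?_⟩
  · rw [isDefectGroup_iff hB, h3, h2]; exact IsSylowIn.of_sylow_top P
  set C := Subgroup.centralizer (R : Set G) with hC
  obtain ⟨S, hS, hRS⟩ := IsSylowIn.exists_le hR (le_top (a := R))
  have h4 : Br R (bIdS M K {θ}) ≠ 0 := Br_ne_zero_of_le hRS ((h2 S).2 hS).ne_zero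
  have h5 : IsSylowIn p R (K ⊔ R) := isSylowIn_of_not_dvd (K := K) hR le_rfl le_normalizer_of_normal' hK
    (by simpa using (Fact.out : p.Prime).one_lt.ne')
  have h6 := (hf.of_Fix le_sup_left (Fix_anti le_top hfT)).isPrim_Br le_sup_left le_normalizer_of_normal'
    (isDef_of_sylow h5 h4) (K' := K ⊓ C) inf_le_left (le_inf (inf_le_left.trans le_sup_left)
      (inf_le_right.trans (Subgroup.centralizer_le_normalizer _))) le_rfl
  have hfC : Br R (bIdS M K {θ}) ∈ Fix (Res M) C :=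
    Br_mem_Fix (Fix_anti le_top hfT) (Subgroup.centralizer_le_normalizer _)
  have h7 : IsPrim (Zc (Res M) (K ⊓ C) (K ⊓ C)) (Br R (bIdS M K {θ})) := by
    refine (isPrim_iff_of_idem (B := Zc (Res M) (K ⊓ C) (K ⊓ C)) (Zc_mono le_rfl
      (le_inf (inf_le_left.trans le_sup_left)
      (inf_le_right.trans (Subgroup.centralizer_le_normalizer _)))) fun a ha _ => ?_).1 h6
    refine ⟨ha.1, ?_⟩
    refine Fix_anti ?_ (mem_Fix_sup ha.2 (mem_Fix_of_Supp_centralizer (Supp_mono inf_le_right ha.1)))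
    rintro x ⟨hx, hxN⟩
    obtain ⟨n, hn, r, hr, rfl⟩ := (mem_sup_of_normalizer le_normalizer_of_normal').1 hx
    refine Subgroup.mul_mem_sup ⟨hn, fun y hy => ?_⟩ hr
    have hnN : n ∈ Subgroup.normalizer (R : Set G) := by
      simpa using Subgroup.mul_mem _ hxN (Subgroup.inv_mem _ (Subgroup.le_normalizer hr))
    have h8 : n * y * n⁻¹ * y⁻¹ ∈ R :=
      R.mul_mem (conj_mem_of_mem_normalizer hnN hy) (R.inv_mem hy)
    have h9 : n * y * n⁻¹ * y⁻¹ ∈ K := by
      have := K.mul_mem hn (hKn.conj_mem _ (K.inv_mem hn) y)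
      simpa [mul_assoc] using this
    have h10 := eq_one_of_mem_pgroup_of_coprime hR h8 ((Nat.Prime.coprime_iff_not_dvd Fact.out).2
      (not_dvd_orderOf_of_mem hK h9)).symm
    rw [mul_inv_eq_one, mul_inv_eq_iff_eq_mul] at h10
    exact h10.symm
  have hn : ∀ (N : Subgroup G) [N.Normal], C ≤ Subgroup.normalizer ((N ⊓ C : Subgroup G) : Set G) :=
    fun N _ g hg => by rw [← cj_eq_iff_mem_normalizer, cj_inf, cj_eq_of_mem hg, cj_eq_of_normal]
  obtain ⟨U, hU⟩ := IsSylowIn.exists_sylowIn p (L ⊓ C)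
  obtain ⟨h8, -⟩ := isPrim_of_constrained (inf_le_inf_right C hKL) inf_le_right (hn K) (hn L)
    (fun h => hK (h.trans (Subgroup.card_dvd_of_le inf_le_left))) (fun x hx h => ⟨hreg x hx.1 h, hx.2⟩) hU
    (fun x hx h h' => ⟨mem_of_centralizes_sylow hK hKL hLK hQp hQL
      hCQ hR hU h hx h', hx⟩) h7 hfC
  obtain ⟨f, hf', h9⟩ := exists_block_of_isPrim_S h8
  have key : ∀ f, IsPBlock M f → (IsInducedBlock M C f B ↔ bIdS M C f * Br R (bId M B) = bIdS M C f) :=
    fun f hf => by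
    rw [isInducedBlock_iff' hf hB, ind_cent_iff hR le_top le_top (isPrim_bIdS hf) (isPrim_bId hB)]
  refine ⟨f, (key f hf').2 (by rw [h3, h9, h8.idem]), fun f' h => bIdS_injective h.1 hf' ?_⟩
  have := (key f' h.1).1 h
  rw [h3] at this
  rw [h9]
  exact (isPrim_bIdS h.1).eq_of_mul_ne_zero (isComm_Z C) h8 (by rw [this]; exact (isPrim_bIdS h.1).ne_zero)

end Cfsg.Agent.S4642
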