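import Cfsg.Statements.S4644
import Cfsg.Agent.H4.Star3

set_option autoImplicit false
open Cfsg

namespace Cfsg.Agent.S4644

open CfsgH4 CfsgH3 CfsgH2 MonoidAlgebra

/-- Let B be a block of the finite group G relative to a maximal ideal M of the algebraic integers containing the prime p, with a commutative defect group P; let c be a block of C_G(P) inducing B and T the stabilizer of c in N_G(P). Let u be an element of P fixed under conjugation by every element of T, H = C_G(u) (so C_G(P) ≤ H), and f the block of H induced by c inside H. Then B and f have the same p-regular rank and the same number of irreducible characters. -/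
theorem result {G : Type*} [Group G] [Finite G] (p : ℕ) [Fact p.Prime] (M : Ideal Cfsg.AlgInt) (hM : Cfsg.IsPModular p M) (B : Set (Cfsg.IrrCharacter G)) (hB : Cfsg.IsPBlock M B) (P : Subgroup G) (hPD : Cfsg.IsDefectGroup p M B P) (hPab : ∀ x ∈ P, ∀ y ∈ P, x * y = y * x) (c : Set (Cfsg.IrrCharacter (Subgroup.centralizer (P : Set G)))) (hc : Cfsg.IsInducedBlock M (Subgroup.centralizer (P : Set G)) c B) (T : Subgroup G) (hT : ∀ g : G, g ∈ T ↔ (g ∈ Subgroup.normalizer (P : Set G) ∧ Cfsg.StabilizesBlock (Subgroup.centralizer (P : Set G)) c g)) (u : G) (hu : u ∈ P) (huT : ∀ g ∈ T, g * u * g⁻¹ = u) (H : Subgroup G) (hH : H = Subgroup.centralizer ({u} : Set G)) (f : Set (Cfsg.IrrCharacter H)) (hf : Cfsg.IsInducedBlockIn M H (Subgroup.centralizer (P : Set G)) c f) : Cfsg.blockRank p B = Cfsg.blockRank p f ∧ Nat.card B = Nat.card f := by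
  have := hM.2.1
  have := charP_of_isPModular hM
  subst hH
  have hm := mp_of_induced hB hPD hc
  have hab := le_centralizer_of_comm hPab
  have hPp := hm.bp.pgroup
  obtain rfl := eq_inf_stabA hc.1 hT
  have h0 : Subgroup.centralizer (P : Set G) ≤ Subgroup.centralizer {u} :=
    Subgroup.centralizer_le (by simpa using hu)
  obtain ⟨-, hf1, hf2⟩ := (isInducedBlockIn_iff h0).1 hf
  have h1 := le_cent_zpowers (hab hu)
  have hs := (NS.mk (BP.mk le_top (hPp.to_le (Subgroup.zpowers_le.2 hu)) (by
    rw [Cn_top, centralizer_zpowers]; exact isPrim_bIdS hf1)) hm.bp (Subgroup.zpowers_le.2 hu)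
    (h1.trans (Subgroup.centralizer_le_normalizer _)) (Fix_anti (hab.trans h0) (bIdS_mem _ _).2)
    ((ind_cent_iff hPp (hab.trans h0) h0 (isPrim_bIdS hc.1) (isPrim_bIdS hf1)).1 hf2)).sl
  have := hm.watanabe hab hu (fun g hg => Subgroup.mem_centralizer_singleton_iff.2
    (mul_inv_eq_iff_eq_mul.1 (huT g ⟨hg.1.2, hg.2⟩))) hs
  rwa [Cn_top, centralizer_zpowers, blk_bIdS hf1, blk_top hB, blockRank_trSet, card_trSet] at this

end Cfsg.Agent.S4644
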