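import Cfsg.Statements.S4645
import Cfsg.Agent.H4.Star2

set_option autoImplicit false
open Cfsg

namespace Cfsg.Agent.S4645

open CfsgH4 CfsgH3 CfsgH2 MonoidAlgebra

/-- Let B be a block of the finite group G relative to a maximal ideal M of the algebraic integers containing the prime p, with a nontrivial cyclic defect group P; let c be a block of C_G(P) inducing B and T the stabilizer of c in N_G(P). Let Q be a nontrivial subgroup of P (so C_G(P) ≤ C_G(Q)), f the block of C_G(Q) induced by c inside C_G(Q), and T' the stabilizer of f in N_G(Q). Then T' = T·C_G(Q), the index of C_G(Q) in T' equals the index of C_G(P) in T, f has p-regular rank 1, and f is a nilpotent block of C_G(Q). -/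
theorem result {G : Type*} [Group G] [Finite G] (p : ℕ) [Fact p.Prime] (M : Ideal Cfsg.AlgInt) (hM : Cfsg.IsPModular p M) (B : Set (Cfsg.IrrCharacter G)) (hB : Cfsg.IsPBlock M B) (P : Subgroup G) (hPD : Cfsg.IsDefectGroup p M B P) (hP1 : P ≠ ⊥) (hcyc : IsCyclic P) (c : Set (Cfsg.IrrCharacter (Subgroup.centralizer (P : Set G)))) (hc : Cfsg.IsInducedBlock M (Subgroup.centralizer (P : Set G)) c B) (T : Subgroup G) (hT : ∀ g : G, g ∈ T ↔ (g ∈ Subgroup.normalizer (P : Set G) ∧ Cfsg.StabilizesBlock (Subgroup.centralizer (P : Set G)) c g)) (Q : Subgroup G) (hQP : Q ≤ P) (hQ1 : Q ≠ ⊥) (f : Set (Cfsg.IrrCharacter (Subgroup.centralizer (Q : Set G)))) (hf : Cfsg.IsInducedBlockIn M (Subgroup.centralizer (Q : Set G)) (Subgroup.centralizer (P : Set G)) c f) (T' : Subgroup G) (hT' : ∀ g : G, g ∈ T' ↔ (g ∈ Subgroup.normalizer (Q : Set G) ∧ Cfsg.StabilizesBlock (Subgroup.centralizer (Q : Set G)) f g)) : T' = T ⊔ Subgroup.centralizer (Q : Set G) ∧ (Subgroup.centralizer (Q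 : Set G)).relIndex T' = (Subgroup.centralizer (P : Set G)).relIndex T ∧ Cfsg.blockRank p f = 1 ∧ Cfsg.IsNilpotentBlock p M f := by
  have := hM.2.1
  have := charP_of_isPModular hM
  have hm := mp_of_induced hB hPD hc
  have hab := le_centralizer_of_cyclic hcyc
  have hPp := hm.bp.pgroup
  obtain rfl := eq_inf_stabA hc.1 hT
  obtain ⟨-, hf1, hf2⟩ := (isInducedBlockIn_iff (centralizer_anti hQP)).1 hf
  obtain rfl := eq_inf_stabA hf1 hT'
  have h1 := hab.trans (centralizer_anti hQP)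
  have hs := (NS.mk (bp_of (hPp.to_le hQP) hf1) hm.bp hQP
    (h1.trans (Subgroup.centralizer_le_normalizer _)) (Fix_anti h1 (bIdS_mem _ _).2)
    ((ind_cent_iff hPp h1 (centralizer_anti hQP) (isPrim_bIdS hc.1) (isPrim_bIdS hf1)).1 hf2)).sl
  have hCT := cent_le_stab hPp hc.1
  have hN := normalizer_le_of_cyc hcyc hQP
  have h2 : ∀ g ∈ Subgroup.normalizer (P : Set G) ⊓ stabA (bIdS M _ c),
      g ∈ Subgroup.centralizer (Q : Set G) → g ∈ Subgroup.centralizer (P : Set G) := by
    intro g hg hgQ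
    obtain ⟨x, hx⟩ := (Subgroup.ne_bot_iff_exists_ne_one).1 hQ1
    refine mem_centralizer_of_cyc hcyc hPp inf_le_left hCT ?_ hg (hQP x.2)
      (fun h0 => hx (Subtype.ext h0)) (by rw [← hgQ x x.2]; group)
    have := hm.not_dvd
    rwa [stab_top, Cn_top, sup_eq_left.2 hab] at this
  have h3 : Subgroup.normalizer (Q : Set G) ⊓ stabA (bIdS M _ f) =
      (Subgroup.normalizer (P : Set G) ⊓ stabA (bIdS M _ c)) ⊔ Subgroup.centralizer (Q : Set G) := by
    refine le_antisymm (fun g hg => ?_) (sup_le (fun g hg => ⟨hN hg.1,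
      hs.mem_stab (Subgroup.mem_top g) (hN hg.1) hg.1 hg.2⟩) (cent_le_stab (hPp.to_le hQP) hf1))
    obtain ⟨x, hx, h⟩ := hm.abelian_fusion hab hs (Subgroup.mem_top g) (by
      rw [cj_eq_iff_mem_normalizer.2 hg.1, mem_stabA.1 hg.2]; exact hs)
    rw [← mul_inv_cancel_right g x]
    exact mul_mem (Subgroup.mem_sup_left ⟨h.1.2, h.2⟩) (Subgroup.mem_sup_right (inv_mem hx.2))
  have h4 : Nil p (Subgroup.centralizer (Q : Set G)) (bIdS M _ f) := by
    have := (hm.in_Cn hs h1).nil_iff_abelian hab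
    rw [Cn_top] at this
    exact this.2 fun g hg => h2 g ⟨hg.1.2, hg.2⟩ hg.1.1
  refine ⟨h3, ?_, h4.rank_one_S hf1, (isNilpotentBlock_iff_S hf1).2 h4⟩
  rw [h3, sup_comm, CfsgH4.relIndex_sup_of_normalizer (inf_le_left.trans
    (hN.trans (normalizer_le_normalizer_centralizer Q))), ← Subgroup.inf_relIndex_right]
  congr 1
  exact le_antisymm (fun g hg => h2 g hg.2 hg.1) (le_inf (centralizer_anti hQP) hCT)

end Cfsg.Agent.S4645
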