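import Cfsg.Statements.S4647
import Cfsg.Agent.H4.MinDim

set_option autoImplicit false
open Cfsg

namespace Cfsg.Agent.S4647

open CfsgH4 CfsgH3 CfsgH2 MonoidAlgebra

/-- Let B be a block of the finite group G relative to a maximal ideal M of the algebraic integers containing the prime p, p^a the p-part of the order of G and p^d the order of a defect group D of B. If Σ_{χ ∈ B} χ(1)² = p^(2a−d) (the least possible value), then B is nilpotent. -/
theorem result {G : Type*} [Group G] [Finite G] (p : ℕ) [Fact p.Prime] (M : Ideal Cfsg.AlgInt) (hM : Cfsg.IsPModular p M) (B : Set (Cfsg.IrrCharacter G)) (hB : Cfsg.IsPBlock M B) (D : Subgroup G) (hD : Cfsg.IsDefectGroup p M B D) (a d : ℕ) (ha : (Nat.card G).factorization p = a) (hd : Nat.card D = p ^ d) (hmin : ∑ᶠ χ ∈ B, Cfsg.charDegree (χ : G → ℂ) ^ 2 = p ^ (2 * a - d)) : Cfsg.IsNilpotentBlock p M B := by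
  have := hM.2.1
  have := charP_of_isPModular hM
  have hS := eSet_mem_SG hB
  have hD' := (isDefectGroup_iff hB).1 hD
  obtain ⟨e, hm⟩ := hD'.exists_mp (isPrim_bId hB)
  obtain ⟨S, hDS⟩ := hD'.pgroup.exists_le_sylow
  refine (isNilpotentBlock_iff hB).2 (hm.nil_of_finrank S.isPGroup' hDS ?_)
  have h1 := Subgroup.card_le_of_le hDS
  rw [S.card_eq_multiplicity, ha, hd, Nat.pow_le_pow_iff_right (Fact.out : p.Prime).one_lt] at h1
  rw [finrank_mulLR_res (bId_idem' hS) (mul_one 1), ← Finset.sum_subset (Finset.subset_univ (irrF B)),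
    Finset.sum_congr rfl (g := fun χ => charDegree χ.1 ^ 2) fun χ hχ => by
      rw [dec_bId hS (mem_irrF.1 hχ), dec_one, sq], ← finsum_mem_irr, hmin, hd,
    S.card_eq_multiplicity, ha, ← pow_add, ← pow_add, show 2 * a - d + d = a + a by omega]
  intro χ _ hχ
  rw [dec_of_notMem hS (bId_idem' hS) (bId_idem' hS) (mt mem_irrF.2 hχ), zero_mul]

end Cfsg.Agent.S4647
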