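import Cfsg.Statements.S4649
import Cfsg.Agent.H4.Cyc5

set_option autoImplicit false
open Cfsg

namespace Cfsg.Agent.S4649

open CfsgH4 CfsgH3 CfsgH2 MonoidAlgebra

/-- A block with cyclic defect group, of a finite group relative to a maximal ideal M of the algebraic integers containing the prime p, is nilpotent if and only if its p-regular rank is 1 (it has a unique irreducible Brauer character). -/
theorem result {G : Type*} [Group G] [Finite G] (p : ℕ) [Fact p.Prime] (M : Ideal Cfsg.AlgInt) (hM : Cfsg.IsPModular p M) (B : Set (Cfsg.IrrCharacter G)) (hB : Cfsg.IsPBlock M B) (P : Subgroup G) (hPD : Cfsg.IsDefectGroup p M B P) (hcyc : IsCyclic P) : Cfsg.IsNilpotentBlock p M B ↔ Cfsg.blockRank p B = 1 := by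
  have := hM.2.1
  have := charP_of_isPModular hM
  have := Fintype.ofFinite G
  rw [isNilpotentBlock_iff hB]
  refine ⟨fun h => h.rank_one hB, fun h => ?_⟩
  obtain ⟨e, hm⟩ := ((isDefectGroup_iff hB).1 hPD).exists_mp (isPrim_bId hB)
  rw [hm.nil_iff_abelian (le_centralizer_of_cyclic hcyc), stab_top]
  by_cases h1 : P = ⊥
  · subst h1
    intro x _ y hy
    rw [Subgroup.mem_bot.1 hy, mul_one, one_mul]
  · rwa [hm.rank_cyc hB hcyc h1, Subgroup.relIndex_eq_one] at h

end Cfsg.Agent.S4649
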