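import Cfsg.Statements.S4650
import Cfsg.Agent.H4.Pairs3

set_option autoImplicit false
open Cfsg

namespace Cfsg.Agent.S4650

open CfsgH4 CfsgH3 CfsgH2 MonoidAlgebra

/-- Let B be a block of the finite group G relative to a maximal ideal M of the algebraic integers containing the prime p, with a nontrivial commutative defect group P; let c be a block of C_G(P) inducing B and T the stabilizer of c in N_G(P). Then T/C_G(P) acts freely on the non-identity elements of P (an element of T fixing a non-identity element of P under conjugation lies in C_G(P)) if and only if, for every nontrivial subgroup Q of P, the block of C_G(Q) induced by c inside C_G(Q) is a nilpotent block of C_G(Q). -/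
theorem result {G : Type*} [Group G] [Finite G] (p : ℕ) [Fact p.Prime] (M : Ideal Cfsg.AlgInt) (hM : Cfsg.IsPModular p M) (B : Set (Cfsg.IrrCharacter G)) (hB : Cfsg.IsPBlock M B) (P : Subgroup G) (hPD : Cfsg.IsDefectGroup p M B P) (hPab : ∀ x ∈ P, ∀ y ∈ P, x * y = y * x) (hP1 : P ≠ ⊥) (c : Set (Cfsg.IrrCharacter (Subgroup.centralizer (P : Set G)))) (hc : Cfsg.IsInducedBlock M (Subgroup.centralizer (P : Set G)) c B) (T : Subgroup G) (hT : ∀ g : G, g ∈ T ↔ (g ∈ Subgroup.normalizer (P : Set G) ∧ Cfsg.StabilizesBlock (Subgroup.centralizer (P : Set G)) c g)) : (∀ g ∈ T, ∀ x ∈ P, x ≠ 1 → g * x * g⁻¹ = x → g ∈ Subgroup.centralizer (P : Set G)) ↔ ∀ Q : Subgroup G, Q ≤ P → Q ≠ ⊥ → ∀ f : Set (Cfsg.IrrCharacter (Subgroup.centralizer (Q : Set G))), Cfsg.IsInducedBlockIn M (Subgroup.centralizer (Q : Set G)) (Subgroup.centralizer (P : Set G)) c f → Cfsg.IsNilpotentBlock p M f := by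
  have := hM.2.1
  have := charP_of_isPModular hM
  have hm := mp_of_induced hB hPD hc
  have hP := hm.bp.pgroup
  have hab := le_centralizer_of_comm hPab
  obtain rfl := eq_inf_stabA hc.1 hT
  have key : ∀ Q : Subgroup G, Q ≤ P →
      ∀ f : Set (IrrCharacter (Subgroup.centralizer (Q : Set G))), IsPBlock M f →
      (IsInducedBlockIn M _ _ c f ↔ NS p ⊤ Q (bIdS M _ f) P (bIdS M _ c)) := by
    intro Q hQ f hf
    have h1 := hab.trans (centralizer_anti hQ)
    rw [isInducedBlockIn_iff (centralizer_anti hQ), ind_cent_iff hP h1 (centralizer_anti hQ)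
      (isPrim_bIdS hc.1) (isPrim_bIdS hf)]
    exact ⟨fun h => ⟨bp_of (hP.to_le hQ) hf, hm.bp, hQ,
      h1.trans (Subgroup.centralizer_le_normalizer _), Fix_anti h1 (bIdS_mem _ _).2, h.2.2⟩,
      fun h => ⟨hc.1, hf, h.mul⟩⟩
  have key2 : ∀ Q : Subgroup G, Q ≤ P →
      ∀ f : Set (IrrCharacter (Subgroup.centralizer (Q : Set G))), IsPBlock M f →
      NS p ⊤ Q (bIdS M _ f) P (bIdS M _ c) → (IsNilpotentBlock p M f ↔
        Cn ⊤ Q ⊓ Subgroup.normalizer (P : Set G) ⊓ stabA (bIdS M _ c) ≤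
          Subgroup.centralizer (P : Set G)) := by
    intro Q hQ f hf h
    rw [isNilpotentBlock_iff_S hf,
      ← (hm.in_Cn h.sl (hab.trans (centralizer_anti hQ))).nil_iff_abelian hab, Cn_top]
  constructor
  · intro h Q hQ hQ1 f hf
    rw [key2 Q hQ f hf.2.1 ((key Q hQ f hf.2.1).1 hf)]
    intro g hg
    obtain ⟨x, hx⟩ := (Subgroup.ne_bot_iff_exists_ne_one).1 hQ1
    refine h g ⟨hg.1.2, hg.2⟩ x (hQ x.2) (fun h0 => hx (Subtype.ext h0)) ?_
    rw [← hg.1.1.2 x x.2]; group
  · intro h g hg x hx hx1 hgx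
    have hQ := Subgroup.zpowers_le.2 hx
    obtain ⟨a, ha⟩ := hm.bp.exists_ns hQ
      ((hab.trans (centralizer_anti hQ)).trans (Subgroup.centralizer_le_normalizer _))
    obtain ⟨f, hf, rfl⟩ := ha.left.exists_blk
    refine (key2 _ hQ f hf ha).1 (h _ hQ (by simpa using hx1) f ((key _ hQ f hf).2 ha))
      ⟨⟨⟨Subgroup.mem_top g, ?_⟩, hg.1⟩, hg.2⟩
    change g ∈ Subgroup.centralizer (Subgroup.zpowers x : Set G)
    rw [centralizer_zpowers, Subgroup.mem_centralizer_singleton_iff]
    calc g * x = (g * x * g⁻¹) * g := by group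
      _ = _ := by rw [hgx]

end Cfsg.Agent.S4650
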