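import Cfsg.Statements.S4651
import Cfsg.Agent.H4.Star3
import Cfsg.Agent.H1.Basic

set_option autoImplicit false
open Cfsg

namespace Cfsg.Agent.S4651

open CfsgH4 CfsgH3 CfsgH2 MonoidAlgebra

section chain
open Subgroup
variable {G : Type*} [Group G] {p : ℕ} {u : G} {s t : Finset (Subgroup G)}

def Ch (p : ℕ) (s : Finset (Subgroup G)) : Prop :=
  (∀ Q ∈ s, ∀ R ∈ s, Q ≤ R ∨ R ≤ Q) ∧ (∀ Q ∈ s, Q ≠ ⊥ ∧ IsPGroup p Q) ∧
    ∀ Q ∈ s, ∀ R ∈ s, R ≤ normalizer (Q : Set G)

def St (s : Finset (Subgroup G)) : Subgroup G := ⨅ Q ∈ s, normalizer ((Q : Subgroup G) : Set G)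

open Classical in
noncomputable def LL (u : G) (s : Finset (Subgroup G)) : Subgroup G := (s.filter (u ∉ ·)).sup id

noncomputable def RR (u : G) (s : Finset (Subgroup G)) : Subgroup G :=
  LL u s ⊔ closure {y | ∃ t ∈ s.sup id, t * u * t⁻¹ = y}

theorem le_St {A : Subgroup G} : A ≤ St s ↔ ∀ Q ∈ s, A ≤ normalizer (Q : Set G) := by
  simp only [St, le_iInf_iff]

theorem mem_St : u ∈ St s ↔ ∀ Q ∈ s, u ∈ normalizer (Q : Set G) := by
  simp only [St, mem_iInf]

theorem Ch.mono (h : Ch p s) (ht : t ⊆ s) : Ch p t :=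
  ⟨fun Q a R b => h.1 Q (ht a) R (ht b), fun Q a => h.2.1 Q (ht a),
    fun Q a R b => h.2.2 Q (ht a) R (ht b)⟩

theorem Ch.sup_mem (h : Ch p s) : s.sup id = ⊥ ∨ s.sup id ∈ s := by
  refine Finset.sup_induction (p := fun X => X = ⊥ ∨ X ∈ s) (Or.inl rfl) ?_ fun Q hQ => Or.inr hQ
  rintro a (rfl | ha) b hb
  · rwa [bot_sup_eq]
  · rcases hb with rfl | hb
    · rw [sup_bot_eq]; exact Or.inr ha
    · rcases h.1 a ha b hb with e | e
      · rw [sup_eq_right.2 e]; exact Or.inr hb
      · rw [sup_eq_left.2 e]; exact Or.inr ha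

theorem le_norm_sup {A : Subgroup G} (h : A ≤ St s) (ht : t ⊆ s) :
    A ≤ normalizer ((t.sup id : Subgroup G) : Set G) :=
  Finset.sup_induction (p := fun X : Subgroup G => A ≤ normalizer (X : Set G))
    (by rw [normalizer_eq_top]; exact le_top) (fun _ a _ b => CfsgH1.le_normalizer_sup a b)
    fun Q hQ => le_St.1 h Q (ht hQ)

theorem Ch.sup_le_St (h : Ch p s) : s.sup id ≤ St s :=
  le_St.2 fun Q hQ => Finset.sup_le fun R hR => h.2.2 Q hQ R hR

theorem mem_RR : u ∈ RR u s := mem_sup_right (subset_closure ⟨1, one_mem _, by simp⟩)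

theorem LL_le : LL u s ≤ s.sup id := by
  classical exact Finset.sup_mono (Finset.filter_subset _ _)

theorem le_LL {Q : Subgroup G} (hQ : Q ∈ s) (h : u ∉ Q) : Q ≤ LL u s := by
  classical exact Finset.le_sup (f := id) (Finset.mem_filter.2 ⟨hQ, h⟩)

theorem LL_eq (h : u ∉ s.sup id) : LL u s = s.sup id :=
  le_antisymm LL_le (Finset.sup_le fun _ hQ => le_LL hQ fun e => h (Finset.le_sup (f := id) hQ e))

theorem RR_le (hu : u ∈ St s) : RR u s ≤ s.sup id ⊔ zpowers u := by
  refine sup_le (LL_le.trans le_sup_left) ((closure_le _).2 ?_)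
  rintro _ ⟨t, ht, rfl⟩
  have h1 := le_normalizer_iff.1 (le_norm_sup (zpowers_le.2 hu) subset_rfl) u (mem_zpowers u) _
    (inv_mem ht)
  have : t * u * t⁻¹ = t * (u * t⁻¹ * u⁻¹) * u := by group
  rw [this]
  exact mul_mem (mem_sup_left (mul_mem ht h1)) (mem_sup_right (mem_zpowers u))

theorem RR_le_of {Q : Subgroup G} (h1 : LL u s ≤ Q) (h2 : s.sup id ≤ normalizer (Q : Set G))
    (h : u ∈ Q) : RR u s ≤ Q := by
  refine sup_le h1 ((closure_le _).2 ?_)
  rintro _ ⟨t, ht, rfl⟩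
  exact le_normalizer_iff.1 h2 t ht u h

theorem Ch.RR_le (hs : Ch p s) {Q : Subgroup G} (hQ : Q ∈ s) (h : u ∈ Q) : RR u s ≤ Q := by
  classical
  refine RR_le_of (Finset.sup_le fun R hR => ?_) (le_St.1 hs.sup_le_St Q hQ) h
  obtain ⟨h1, h2⟩ := Finset.mem_filter.1 hR
  exact (hs.1 R h1 Q hQ).resolve_right fun e => h2 (e h)

theorem le_norm_RR {A : Subgroup G} (h : A ≤ St s) (h2 : ∀ g ∈ A, ∀ t ∈ s.sup id,
    ∃ t' ∈ s.sup id, t' * u * t'⁻¹ = g * (t * u * t⁻¹) * g⁻¹) :
    A ≤ normalizer (RR u s : Set G) := by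
  classical
  refine CfsgH1.le_normalizer_sup (le_norm_sup h (Finset.filter_subset _ _))
    (le_normalizer_closure_iff.2 ?_)
  rintro g hg _ ⟨t, ht, rfl⟩
  exact subset_closure (h2 g hg t ht)

theorem Ch.pRR [Fact p.Prime] (hs : Ch p s) (hu : u ∈ St s) (hp : IsPGroup p (zpowers u)) :
    IsPGroup p (RR u s) := by
  refine (IsPGroup.to_sup_of_normal_left' ?_ hp (le_norm_sup (zpowers_le.2 hu) subset_rfl)).to_le
    (S4651.RR_le hu)
  rcases hs.sup_mem with e | e
  · rw [e]; exact IsPGroup.of_bot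
  · exact (hs.2.1 _ e).2

theorem Ch.ins [DecidableEq (Subgroup G)] [Fact p.Prime] (hs : Ch p s) (hu : u ∈ St s) (h1 : u ≠ 1)
    (hp : IsPGroup p (zpowers u)) : Ch p (insert (RR u s) s) ∧ u ∈ St (insert (RR u s) s) ∧
      RR u (insert (RR u s) s) = RR u s ∧
      centralizer {u} ⊓ St (insert (RR u s) s) = centralizer {u} ⊓ St s := by
  have k1 : ∀ Q ∈ s, RR u s ≤ Q ∨ Q ≤ RR u s := fun Q hQ => by
    by_cases h : u ∈ Q
    · exact Or.inl (hs.RR_le hQ h)
    · exact Or.inr ((le_LL hQ h).trans le_sup_left)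
  have k2 : s.sup id ≤ normalizer (RR u s : Set G) := le_norm_RR hs.sup_le_St fun g hg t ht =>
    ⟨g * t, mul_mem hg ht, by group⟩
  have k3 : RR u s ≤ St s := (S4651.RR_le hu).trans (sup_le hs.sup_le_St (zpowers_le.2 hu))
  have k4 : LL u (insert (RR u s) s) = LL u s := by
    rw [LL, Finset.filter_insert, if_neg (not_not.2 mem_RR)]; rfl
  refine ⟨⟨?_, ?_, ?_⟩, ?_, ?_, le_antisymm (inf_le_inf_left _ (le_St.2 fun Q hQ =>
    le_St.1 le_rfl Q (Finset.mem_insert_of_mem hQ))) (le_inf inf_le_left (le_St.2 ?_))⟩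
  · simp only [Finset.forall_mem_insert]
    exact ⟨⟨Or.inl le_rfl, k1⟩, fun Q hQ => ⟨(k1 Q hQ).symm, hs.1 Q hQ⟩⟩
  · simp only [Finset.forall_mem_insert]
    exact ⟨⟨fun e => h1 (mem_bot.1 (e ▸ mem_RR)), hs.pRR hu hp⟩, hs.2.1⟩
  · simp only [Finset.forall_mem_insert]
    exact ⟨⟨le_normalizer, fun Q hQ => (Finset.le_sup (f := id) hQ).trans k2⟩,
      fun Q hQ => ⟨le_St.1 k3 Q hQ, hs.2.2 Q hQ⟩⟩
  · rw [mem_St, Finset.forall_mem_insert]
    exact ⟨le_normalizer mem_RR, mem_St.1 hu⟩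
  · refine le_antisymm (RR_le_of (k4.le.trans le_sup_left) ?_ mem_RR) ?_
    · rw [Finset.sup_insert]; exact sup_le le_normalizer k2
    · conv_lhs => rw [RR, ← k4]
      refine sup_le_sup_left (Subgroup.closure_mono ?_) _
      rintro _ ⟨t, ht, rfl⟩
      have : s.sup id ≤ (insert (RR u s) s).sup id := Finset.sup_mono (Finset.subset_insert _ _)
      exact ⟨t, this ht, rfl⟩
  · rw [Finset.forall_mem_insert]
    refine ⟨le_norm_RR inf_le_right fun g hg t ht => ⟨g * t * g⁻¹, le_normalizer_iff.1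
      (le_norm_sup (A := St s) le_rfl subset_rfl) g hg.2 t ht, ?_⟩, le_St.1 inf_le_right⟩
    calc _ = g * t * (g⁻¹ * (u * g)) * t⁻¹ * g⁻¹ := by group
      _ = _ := by rw [← mem_centralizer_singleton_iff.1 hg.1]; group

theorem Ch.era [Finite G] [DecidableEq (Subgroup G)] [Fact p.Prime] (hs : Ch p s) (h : RR u s ∈ s) :
    RR u (s.erase (RR u s)) = RR u s := by
  classical
  set R := RR u s with hR
  have k4 : LL u (s.erase R) = LL u s := by
    rw [LL, Finset.filter_erase, Finset.erase_eq_of_notMem]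
    · rfl
    · intro e; simp only [Finset.mem_filter] at e; exact e.2 mem_RR
  have k5 : s.sup id = R ⊔ (s.erase R).sup id := by
    conv_lhs => rw [← Finset.insert_erase h, Finset.sup_insert]
    rfl
  by_cases hu : u ∈ (s.erase R).sup id
  · have : R ≤ (s.erase R).sup id := RR_le_of (k4.ge.trans LL_le)
      (le_norm_sup hs.sup_le_St (Finset.erase_subset _ _)) hu
    rw [RR, k4, ← sup_eq_right.2 this, ← k5]; rfl
  · have k6 : s.sup id = R := by rw [k5, ← LL_eq hu, k4]; exact sup_eq_left.2 le_sup_left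
    have k7 : RR u (s.erase R) ≤ R := RR_le_of (k4.le.trans le_sup_left)
      ((Finset.sup_mono (Finset.erase_subset _ _)).trans (k6.le.trans le_normalizer)) mem_RR
    refine le_antisymm k7 (subgroupOf_eq_top.1 ?_)
    have := (hs.2.1 R h).2.isNilpotent
    refine (eq_top_or_exists_le_coatom _).resolve_right fun ⟨K, hK, hle⟩ => hK.1 (eq_top_iff.2 ?_)
    have hn := NormalizerCondition.normal_of_coatom K Group.normalizerCondition_of_isNilpotent hK
    have : R ≤ K.map R.subtype := by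
      conv_lhs => rw [hR, RR]
      refine sup_le (fun x hx => ⟨⟨x, mem_sup_left hx⟩, hle (mem_sup_left (k4.ge hx)), rfl⟩)
        ((closure_le _).2 ?_)
      rintro _ ⟨t, ht, rfl⟩
      exact ⟨_, hn.conj_mem ⟨u, mem_RR⟩ (hle mem_RR) ⟨t, k6.le ht⟩, rfl⟩
    rintro ⟨x, hx⟩ -
    obtain ⟨y, hy, rfl⟩ := this hx
    exact hy

open Classical in
theorem sum_zero [Fintype G] [Fintype (Finset (Subgroup G))] [Fact p.Prime] (h1 : u ≠ 1)
    (hp : IsPGroup p (zpowers u)) (f : Subgroup G → ℂ) :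
    ∑ s : Finset (Subgroup G) with Ch p s, (-1) ^ s.card *
      (if u ∈ St s then f (centralizer {u} ⊓ St s) else 0) = 0 := by
  simp only [mul_ite, mul_zero]
  rw [← Finset.sum_filter, Finset.filter_filter]
  have key : ∀ s : Finset (Subgroup G), Ch p s ∧ u ∈ St s →
      Ch p (s.erase (RR u s)) ∧ u ∈ St (s.erase (RR u s)) := fun s h =>
    ⟨h.1.mono (Finset.erase_subset _ _), mem_St.2 fun Q hQ => mem_St.1 h.2 Q (Finset.mem_of_mem_erase hQ)⟩
  refine Finset.sum_involution (fun s _ => if RR u s ∈ s then s.erase (RR u s) else insert (RR u s) s)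
    (fun s hs => ?_) (fun s hs _ => ?_) (fun s hs => ?_) fun s hs => ?_
  all_goals replace hs := (Finset.mem_filter.1 hs).2
  · split_ifs with h
    · have := ((key s hs).1.ins (key s hs).2 h1 hp).2.2.2
      rw [hs.1.era h, Finset.insert_erase h] at this
      rw [this, ← Finset.card_erase_add_one h, pow_succ]; ring
    · rw [(hs.1.ins hs.2 h1 hp).2.2.2, Finset.card_insert_of_notMem h, pow_succ]; ring
  · split_ifs with h
    · exact fun e => Finset.notMem_erase (RR u s) s (by rwa [e])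
    · exact fun e => h (by have := Finset.mem_insert_self (RR u s) s; rwa [e] at this)
  · refine Finset.mem_filter.2 ⟨Finset.mem_univ _, ?_⟩
    split_ifs with h
    · exact key s hs
    · exact ⟨(hs.1.ins hs.2 h1 hp).1, (hs.1.ins hs.2 h1 hp).2.1⟩
  · by_cases h : RR u s ∈ s
    · simp only [if_pos h, hs.1.era h, Finset.notMem_erase, if_false, Finset.insert_erase h]
    · simp only [if_neg h, (hs.1.ins hs.2 h1 hp).2.2.1, Finset.mem_insert_self, if_true,
        Finset.erase_insert h]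

end chain

section blocks
open Subgroup ComplexConjugate
variable {G : Type*} [Group G] [Finite G] {p : ℕ} [hp : Fact p.Prime] {M : Ideal AlgInt}
  [hM : M.IsMaximal] [CharP (Res M) p] {b : Set (IrrCharacter G)}

noncomputable def QQ (S : Set (IrrCharacter G)) (g : G) : ℂ := ∑ ψ ∈ irrF S, ψ.1 g * conj (ψ.1 g)

open Classical in
theorem kl [Fintype G] (hb : eSet b ∈ SG M G) : (Nat.card G : ℂ) * ((Nat.card b : ℂ) - blockRank p b) =
    ∑ g, if p ∣ orderOf g then QQ b g else 0 := by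
  have h0 : (Nat.card G : ℂ) ≠ 0 := Nat.cast_ne_zero.2 Nat.card_pos.ne'
  have h1 : (Nat.card b : ℂ) = ∑ χ ∈ irrF b, classInner χ.1 χ.1 := by
    simp [fun χ : IrrCharacter G => χ.2.inner_self, card_irrF]
  rw [h1, blockRank_eq_trace hb, ← Finset.sum_sub_distrib, Finset.mul_sum]
  have h2 : ∀ g, (if p ∣ orderOf g then QQ b g else 0) =
      ∑ ψ ∈ irrF b, if p ∣ orderOf g then ψ.1 g * conj (ψ.1 g) else 0 := fun g => by
    split_ifs <;> simp [QQ]
  simp only [h2]
  rw [Finset.sum_comm]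
  refine Finset.sum_congr rfl fun χ _ => ?_
  rw [mR_eq_sum, classInner, ← mul_sub, mul_inv_cancel_left₀ h0, ← Finset.sum_sub_distrib]
  refine Finset.sum_congr rfl fun g _ => ?_
  rw [regPart, χ.2.isGen.apply_inv]
  split_ifs <;> simp

omit hp [CharP (Res M) p] in
open Classical in
theorem QQ_eq (S : Set (IrrCharacter G)) (g : G) :
    QQ S g = ∑ ψ : IrrCharacter G, if ψ ∈ S then ψ.1 g * conj (ψ.1 g) else 0 := by
  rw [QQ, ← Finset.sum_filter]
  exact Finset.sum_congr (by ext; simp) fun _ _ => rfl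

variable (M b) in
noncomputable def DD (K : Subgroup G) (g : G) : ℂ := extendByZero K (QQ (indSet M K b)) g

theorem DD_eq (hb : IsPBlock M b) (N : Subgroup G) {g u : G} (hu : IsPPart p g u) (hg : g ∈ N) :
    DD M b N g = DD M b (centralizer {u} ⊓ N) g := by
  classical
  have := Fintype.ofFinite N
  obtain ⟨u', rfl, hu'⟩ := isPPart_subtype (H := N) (g := ⟨g, hg⟩) hu
  have hK : (centralizer {u'}).map N.subtype = centralizer {(u' : G)} ⊓ N := by
    ext x
    constructor
    · rintro ⟨y, hy, rfl⟩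
      exact ⟨mem_centralizer_singleton_iff.2
        (congrArg Subtype.val (mem_centralizer_singleton_iff.1 hy)), y.2⟩
    · exact fun h => ⟨⟨x, h.2⟩, mem_centralizer_singleton_iff.2
        (Subtype.ext (mem_centralizer_singleton_iff.1 h.1)), rfl⟩
  rw [← hK]
  let g' : centralizer {u'} := ⟨⟨g, hg⟩, mem_centralizer_singleton_iff.2 (isPPart_commute hu').symm⟩
  let φ := (centralizer {u'}).equivMapOfInjective N.subtype N.subtype_injective
  have e1 : DD M b N g = QQ (indSet M N b) g' := ext0_of_mem _ _ hg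
  have e2 : DD M b ((centralizer {u'}).map N.subtype) g = QQ (indSet M _ b) (φ g') :=
    ext0_of_mem _ _ (φ g').2
  have e3 : ∀ β ∈ blocksF M N, ∑ ψ ∈ irrF β, (if ψ ∈ indSet M N b then ψ.1 g' * conj (ψ.1 g') else 0) =
      ∑ ξ : IrrCharacter (centralizer {u'}), if IsInducedBlock M N β b ∧ ξ ∈ indSet M _ β then
        ξ.1 g' * conj (ξ.1 g') else 0 := fun β hβ => by
    rw [mem_blocksF] at hβ
    rw [Finset.sum_congr rfl fun ψ h => if_congr (mem_indSet_iff hβ (mem_irrF.1 h)) rfl rfl]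
    by_cases h : IsInducedBlock M N β b
    · simp only [h, if_true, true_and]
      rw [← QQ_eq]
      exact sum_mul_conj_eq_indSet hu' hu' hβ
    · simp [h]
  rw [e1, e2, QQ_eq, QQ_eq, ← sum_blocksF (M := M), Finset.sum_congr rfl e3, Finset.sum_comm]
  refine Fintype.sum_equiv (irrEquiv φ) _ _ fun ξ => ?_
  have hγ := isPBlock_blockOf (M := M) ξ
  obtain ⟨β, hβ⟩ := (subEl_zc (isPPart_order hu')).exists_induced hγ
  have hβ' := (isInducedBlock_iff.1 hβ).2.1
  rw [Finset.sum_eq_single β (fun β' _ hne => if_neg fun h => hne (isInducedBlock_unique h.2 hβ))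
    fun h => (h (mem_blocksF.2 hβ')).elim, irrEquiv_apply, MulEquiv.symm_apply_apply]
  refine if_congr ?_ rfl rfl
  have h1 := (ind_emb N.subtype_injective).2 (ind_of_isInducedBlock hβ)
  have h2 : emb (Res M) N.subtype (bIdS M _ (blockOf M ξ.1)) = bIdS M _ (trSet φ (blockOf M ξ.1)) := by
    rw [bIdS, bIdS, bId_trSet φ (eSet_mem_SG hγ), emb_emb, emb_emb]; rfl
  rw [map_top_subtype, h2] at h1
  rw [mem_indSet_iff (isPBlock_trSet φ hγ) ((irrEquiv_mem_trSet φ).2 (mem_blockOf_self ξ)),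
    isInducedBlock_iff' (isPBlock_trSet φ hγ) hb, isInducedBlock_iff' hβ' hb]
  exact ⟨fun h => h1.trans (map_subtype_le _) le_top h.1,
    fun h => ⟨h1.of_trans (map_subtype_le _) le_top h, hβ⟩⟩

omit hp [CharP (Res M) p] in
theorem DD_top (hb : IsPBlock M b) (g : G) : DD M b ⊤ g = QQ b g := by
  have h1 := blk_spec (M := M) (isPrim_bId hb)
  rw [blk_top hb] at h1
  have : indSet M ⊤ b = trSet topEquiv.symm b := by
    ext ξ
    have hγ := isPBlock_blockOf (M := M) ξ
    rw [mem_indSet_iff hγ (mem_blockOf_self ξ), isInducedBlock_iff' hγ hb]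
    constructor
    · intro h
      rw [← bIdS_injective hγ h1.1 (((Ind.refl _ _).unique h (isPrim_bIdS hγ) (isPrim_bId hb)).trans
        h1.2.symm)]
      exact mem_blockOf_self ξ
    · intro h
      rw [← block_eq_blockOf h1.1 h, h1.2]
      exact Ind.refl _ _
  rw [DD, ext0_of_mem _ _ (mem_top g), this, QQ, sum_trSet]
  rfl

open Classical in
theorem kl' [Fintype G] (N : Subgroup G) : (Nat.card N : ℂ) * ((Nat.card (indSet M N b) : ℂ) -
    blockRank p (indSet M N b)) = ∑ g, if p ∣ orderOf g then DD M b N g else 0 := by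
  rw [kl eSet_indSet_mem_SG, ← sum_ext0]
  refine Finset.sum_congr rfl fun g _ => ?_
  by_cases h : g ∈ N
  · rw [DD, ext0_of_mem _ _ h, ext0_of_mem _ _ h, orderOf_mk]
  · rw [DD, ext0_of_not_mem _ _ h, ext0_of_not_mem _ _ h, ite_self]

open Classical in
theorem main [Fintype G] [Fintype (Finset (Subgroup G))] (hb : IsPBlock M b) :
    ∑ s : Finset (Subgroup G) with Ch p s, (-1) ^ s.card *
      ∑ g, (if p ∣ orderOf g then DD M b (St s) g else 0) = 0 := by
  simp only [Finset.mul_sum]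
  rw [Finset.sum_comm]
  refine Finset.sum_eq_zero fun g _ => ?_
  by_cases h : p ∣ orderOf g
  · obtain ⟨u, hu⟩ := exists_isPPart (p := p) g
    rw [← sum_zero ((isPPart_ne_one_iff hu).2 h) (isPPart_isPGroup hu) (DD M b · g)]
    refine Finset.sum_congr rfl fun s _ => ?_
    rw [if_pos h]
    by_cases h1 : g ∈ St s
    · rw [if_pos (isPPart_mem hu h1), DD_eq hb _ hu h1]
    · rw [DD, DD, ext0_of_not_mem _ _ h1, ext0_of_not_mem _ _ fun e => h1 (mem_inf.1 e).2, ite_self]
  · simp [h]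

end blocks

/-- An alternating-sum identity over chains of p-subgroups (the character-count form behind the chain reformulation of Alperin's weight conjecture, which holds unconditionally for the difference k − l). Let b be a block of the finite group G relative to a maximal ideal M of the algebraic integers containing the prime p. Consider the nonempty chains s = {Q_0 < Q_1 < ⋯ < Q_m} of nontrivial p-subgroups of G in which every member is normal in the largest member; let N_G(s) be the intersection of the normalizers of the members (the stabilizer of the chain), and let b_s be the set of irreducible characters of N_G(s) lying in blocks of N_G(s) that induce b. Then #G · (k(b) − l(b)) equals the sum over all such chains s of (−1)^m · #N_G(s) · (k(b_s) − l(b_s)), where k counts irreducible characters and l is the p-regular rank; equivalently, k(b) − l(b) is the alternating sum of k(b_s) − l(b_s) over representatives of the conjugacy classes of such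 chains. -/
theorem result {G : Type*} [Group G] [Finite G] (p : ℕ) [Fact p.Prime] (M : Ideal Cfsg.AlgInt) (hM : Cfsg.IsPModular p M) (b : Set (Cfsg.IrrCharacter G)) (hb : Cfsg.IsPBlock M b) : (Nat.card G : ℤ) * ((Nat.card b : ℤ) - (Cfsg.blockRank p b : ℤ)) = ∑ᶠ s ∈ {s : Finset (Subgroup G) | s.Nonempty ∧ (∀ Q ∈ s, ∀ R ∈ s, Q ≤ R ∨ R ≤ Q) ∧ (∀ Q ∈ s, Q ≠ ⊥ ∧ IsPGroup p Q) ∧ ∃ T ∈ s, ∀ Q ∈ s, Q ≤ T ∧ T ≤ Subgroup.normalizer ((Q : Subgroup G) : Set G)}, (-1 : ℤ) ^ (s.card - 1) * (Nat.card (((⨅ Q ∈ s, Subgroup.normalizer ((Q : Subgroup G) : Set G) : Subgroup G))) : ℤ) * ((Nat.card {ψ : Cfsg.IrrCharacter (((⨅ Q ∈ s, Subgroup.normalizer ((Q : Subgroup G) : Set G) : Subgroup G))) | ∃ β : Set (Cfsg.IrrCharacter (((⨅ Q ∈ s, Subgroup.normalizer ((Q : Subgroup G) : Set G) : Subgroup G)))), ψ ∈ β ∧ Cfsg.IsInducedBlock M (((⨅ Q ∈ s, Subgroup.normalizer ((Q : Subgroup G) : Set G) : Subgroup G))) β b} : ℤ) - (Cfsg.blockRank p {ψ : Cfsg.IrrCharacter (((⨅ Q ∈ s,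 Subgroup.normalizer ((Q : Subgroup G) : Set G) : Subgroup G))) | ∃ β : Set (Cfsg.IrrCharacter (((⨅ Q ∈ s, Subgroup.normalizer ((Q : Subgroup G) : Set G) : Subgroup G)))), ψ ∈ β ∧ Cfsg.IsInducedBlock M (((⨅ Q ∈ s, Subgroup.normalizer ((Q : Subgroup G) : Set G) : Subgroup G))) β b} : ℤ)) := by
  classical
  have := hM.2.1
  have := charP_of_isPModular hM
  have := Fintype.ofFinite G
  have := Fintype.ofFinite (Finset (Subgroup G))
  have h1 : ∀ N : Subgroup G, {ψ : IrrCharacter N | ∃ β, ψ ∈ β ∧ IsInducedBlock M N β b} =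
      indSet M N b := fun N => Set.ext fun ψ =>
    ⟨fun ⟨β, h1, h2⟩ => (mem_indSet_iff h2.1 h1).2 h2, fun h => ⟨_, mem_blockOf_self ψ, h⟩⟩
  simp only [h1]
  rw [finsum_mem_eq_sum_of_inter_support_eq _ (t := (Finset.univ.filter (Ch p)).erase ∅) (by
    congr 1
    ext s
    simp only [Set.mem_ofPred_eq, Finset.coe_erase, Set.mem_sdiff, Finset.coe_filter, Finset.mem_univ,
      true_and, Set.mem_singleton_iff, Finset.nonempty_iff_ne_empty]
    constructor
    · rintro ⟨h0, h1, h2, T, -, h3⟩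
      exact ⟨⟨h1, h2, fun Q hQ R hR => (h3 R hR).1.trans (h3 Q hQ).2⟩, h0⟩
    · rintro ⟨h, h0⟩
      have hT : s.sup id ∈ s := h.sup_mem.resolve_left fun e => by
        obtain ⟨Q, hQ⟩ := Finset.nonempty_iff_ne_empty.2 h0
        exact (h.2.1 Q hQ).1 (eq_bot_iff.2 ((Finset.le_sup (f := id) hQ).trans e.le))
      exact ⟨h0, h.1, h.2.1, _, hT, fun Q hQ => ⟨Finset.le_sup (f := id) hQ, h.2.2 Q hQ _ hT⟩⟩)]
  apply Int.cast_injective (α := ℂ)
  have h2 := main (p := p) hb
  rw [← Finset.add_sum_erase _ _ (a := ∅) (Finset.mem_filter.2 ⟨Finset.mem_univ _,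
    by simp [Ch]⟩), show St (∅ : Finset (Subgroup G)) = ⊤ by simp [St]] at h2
  simp only [DD_top hb, Finset.card_empty, pow_zero, one_mul] at h2
  push_cast
  rw [kl (eSet_mem_SG hb), eq_neg_of_add_eq_zero_left h2, ← Finset.sum_neg_distrib]
  refine Finset.sum_congr rfl fun s hs => ?_
  obtain ⟨n, hn⟩ := Nat.exists_eq_succ_of_ne_zero (Finset.card_ne_zero.2
    (Finset.nonempty_iff_ne_empty.2 (Finset.ne_of_mem_erase hs)))
  rw [← kl', hn, pow_succ, mul_assoc (_ ^ (_ - 1))]
  change _ = _ * ((Nat.card (St s) : ℂ) * ((Nat.card (indSet M (St s) b) : ℂ) -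
    blockRank p (indSet M (St s) b)))
  simp

end Cfsg.Agent.S4651
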