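import Cfsg.Statements.S4654
import Cfsg.Agent.H4.Cover2

set_option autoImplicit false
open Cfsg

namespace Cfsg.Agent.S4654

open CfsgH4 CfsgH3 CfsgH2 MonoidAlgebra

/-- Fix a prime p and a maximal ideal M of the algebraic integers containing p. Let P be a normal p-subgroup of the finite group G, B a p-block of G and e a p-block of C_G(P) such that (P, e) is a Brauer pair of B (as P is normal, this says that e occurs in the idempotent of B, which is supported on C_G(P)). Let T be the stabilizer of e in G under conjugation. Then the idempotent of e is a block idempotent of T: some block E of T has, at every element of T, the same idempotent coefficient as e (zero off C_G(P)); and the idempotent of B is the sum of the distinct G-conjugates of the idempotent of e: its coefficient at g is the sum over all x in G of the coefficient of e at x⁻¹ g x, divided by the order of T. -/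
theorem result {G : Type*} [Group G] [Fintype G] (p : ℕ) [Fact p.Prime] (M : Ideal Cfsg.AlgInt) (hM : Cfsg.IsPModular p M) (P : Subgroup G) [P.Normal] (hP : IsPGroup p P) (B : Set (Cfsg.IrrCharacter G)) (e : Set (Cfsg.IrrCharacter (Subgroup.centralizer (P : Set G)))) (hBe : Cfsg.IsBrauerPairOf p M B P e) (T : Subgroup G) (hT : ∀ x : G, x ∈ T ↔ Cfsg.StabilizesBlock (Subgroup.centralizer (P : Set G)) e x) : (∃ E : Set (Cfsg.IrrCharacter T), Cfsg.IsPBlock M E ∧ ∀ t : T, Cfsg.blockCoeff E t = Cfsg.subgroupBlockCoeff (Subgroup.centralizer (P : Set G)) e (t : G)) ∧ ∀ g : G, Cfsg.blockCoeff B g = (Nat.card T : ℂ)⁻¹ * ∑ x : G, Cfsg.subgroupBlockCoeff (Subgroup.centralizer (P : Set G)) e (x⁻¹ * g * x) := by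
  have := hM.2.1
  have := charP_of_isPModular hM
  obtain ⟨-, he, hB, h⟩ := isBrauerPairOf_iff.1 hBe
  have hf := isPrim_bIdS he
  have hE := isPrim_bId hB
  have hT' : T = stabA (bIdS M _ e) := by
    ext g; rw [hT, stabilizesBlock_iff' he (le_normalizer_top trivial)]
  have hCT : Subgroup.centralizer (P : Set G) ≤ T := hT' ▸ hf.le_stabA
  constructor
  · obtain ⟨E, hE', h1⟩ := exists_block_of_isPrim_S (isPrim_stab_loc (N := ⊤) (L := T) hP inf_le_right hf
      (hT' ▸ le_stabA_iff.2 (mem_Fix_of_Supp_centralizer hf.mem.1)) hCT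
      (le_inf (le_inf le_top le_normalizer_of_normal') hT'.le))
    exact ⟨E, hE', (bIdS_eq_bIdS_iff hCT (eSet_mem_SG hE') (eSet_mem_SG he)).1 h1⟩
  · intro g
    rw [Br_eq_self_of_idem le_top le_normalizer_top hP hE.mem hE.idem] at h
    have h1 := hf.eq_Tr le_rfl le_top le_normalizer_top le_normalizer_top
      ((isPrim_iff_of_normal le_top le_normalizer_top hP le_top inf_le_right).2 hE)
      (by rw [h]; exact hf.ne_zero)
    rw [← coeff_eSet, eSet_eq_Tr he (eSet_mem_SG hB) h1, ← hT', coeff_Tr_top
      (eSetS_mem_Fix_of_le he le_normalizer_of_normal' hT'.le)]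
    simp only [coeff_eSetS]

end Cfsg.Agent.S4654
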