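import Cfsg.Statements.S4662
import Cfsg.Agent.H4.Pairs3

set_option autoImplicit false
open Cfsg

namespace Cfsg.Agent.S4662

open CfsgH4 CfsgH3 CfsgH2 MonoidAlgebra

/-- Fix a prime p and a maximal ideal M of the algebraic integers containing p. Let (P, e) be a maximal Brauer pair of the p-block B of the finite group G, Q ≤ P, and f the p-block of C_G(Q) with (Q, f) ≤ (P, e). Let T be the stabilizer of f in N_G(Q). Then the idempotent of f is a block idempotent of T, and N_P(Q) is contained in a defect group of that block of T; moreover for some x in G the conjugate pair (x Q x⁻¹, conjugate of f) again lies below (P, e) and, with T' the stabilizer of the conjugate of f in N_G(x Q x⁻¹), N_P(x Q x⁻¹) is a defect group of the block of T' whose idempotent is that of the conjugate of f. -/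
theorem result {G : Type*} [Group G] [Fintype G] (p : ℕ) [Fact p.Prime] (M : Ideal Cfsg.AlgInt) (hM : Cfsg.IsPModular p M) (B : Set (Cfsg.IrrCharacter G)) (P Q : Subgroup G) (e : Set (Cfsg.IrrCharacter (Subgroup.centralizer (P : Set G)))) (f : Set (Cfsg.IrrCharacter (Subgroup.centralizer (Q : Set G)))) (hmax : Cfsg.IsMaximalBrauerPair p M B P e) (hQP : Q ≤ P) (hf : Cfsg.IsPBlock M f) (hle : Cfsg.SubpairLE p M Q f P e) (T : Subgroup G) (hT : ∀ y : G, y ∈ T ↔ y ∈ Subgroup.normalizer (Q : Set G) ∧ Cfsg.StabilizesBlock (Subgroup.centralizer (Q : Set G)) f y) : (∃ F : Set (Cfsg.IrrCharacter T), Cfsg.IsPBlock M F ∧ (∀ t : T, Cfsg.blockCoeff F t = Cfsg.subgroupBlockCoeff (Subgroup.centralizer (Q : Set G)) f (t : G)) ∧ ∃ D : Subgroup T, Cfsg.IsDefectGroup p M F D ∧ (P ⊓ Subgroup.normalizer (Q : Set G)).subgroupOf T ≤ D) ∧ ∃ x : G, Cfsg.SubpairLE p M (Q.map (MulAut.conj x).toMonoidHom) (Cfsg.conjBlock Q x f) P e ∧ ∀ (T' : Subgroup G), (∀ y : G, y ∈ T' ↔ y ∈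 Subgroup.normalizer ((Q.map (MulAut.conj x).toMonoidHom) : Set G) ∧ Cfsg.StabilizesBlock (Subgroup.centralizer ((Q.map (MulAut.conj x).toMonoidHom) : Set G)) (Cfsg.conjBlock Q x f) y) → ∃ F' : Set (Cfsg.IrrCharacter T'), Cfsg.IsPBlock M F' ∧ (∀ t : T', Cfsg.blockCoeff F' t = Cfsg.subgroupBlockCoeff (Subgroup.centralizer ((Q.map (MulAut.conj x).toMonoidHom) : Set G)) (Cfsg.conjBlock Q x f) (t : G)) ∧ Cfsg.IsDefectGroup p M F' ((P ⊓ Subgroup.normalizer ((Q.map (MulAut.conj x).toMonoidHom) : Set G)).subgroupOf T') := by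
  have := hM.2.1
  have := charP_of_isPModular hM
  have hm := mp_of_isMax hmax
  have hs := sl_of_isMax hmax hle
  have hQ := hs.left.pgroup
  obtain rfl := eq_inf_stabA hf hT
  obtain ⟨D, hD⟩ := hs.left.exists_isDef ((Cn_top Q).le.trans (cent_le_stab hQ hf))
    (stab_top _ _).ge
  constructor
  · obtain ⟨b, hb, h1, h2⟩ := exists_block_loc hQ hf (self_le_stab hQ hf) (cent_le_stab hQ hf)
      le_rfl
    obtain ⟨D', hD', h3⟩ := hs.exists_isDef_ge le_rfl hD
    rw [← stab_top, hs.inf_stab_eq] at h3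
    exact ⟨b, hb, h2, D'.subgroupOf _, (isDefectGroup_iff_S' hb hD'.le).2 (by rw [h1]; exact hD'),
      Subgroup.comap_mono h3⟩
  · obtain ⟨n, -, h1, h2⟩ := hm.exists_cj_inf hs.left (hm.mul_of_sl hs) (stab_top _ _).ge hD
    refine ⟨n, (subpairLE_conj_iff hmax.1.1.1 hmax.1.1.2 hf n).2 h1, fun T' hT' => ?_⟩
    have hf' := isPBlock_conjBlock hf n
    obtain rfl := eq_inf_stabA hf' hT'
    obtain ⟨b, hb, h3, h4⟩ := exists_block_loc h1.left.pgroup hf' (self_le_stab h1.left.pgroup hf')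
      (cent_le_stab h1.left.pgroup hf') le_rfl
    have h5 := hD.cjA n
    rw [← h2, cj_inf, cj_normalizer, ← stabA_cjA, ← stab_top, h1.inf_stab_eq, stab_top,
      ← bIdS_conjBlock] at h5
    exact ⟨b, hb, h4, (isDefectGroup_iff_S' hb h5.le).2 (by rw [h3]; exact h5)⟩

end Cfsg.Agent.S4662
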