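import Cfsg.Statements.S4666
import Cfsg.Agent.H4.Reg2

set_option autoImplicit false
open Cfsg

namespace Cfsg.Agent.S4666

open CfsgH4 CfsgH3 CfsgH2 MonoidAlgebra

/-- Fix a prime p and a maximal ideal M of the algebraic integers containing p, and a p-block B of the finite group G of defect d. For every integer combination χ of the irreducible characters in B, p^d times the function that agrees with χ on p-regular elements and vanishes elsewhere is again an integer combination of the irreducible characters in B. -/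
theorem result {G : Type*} [Group G] [Fintype G] (p : ℕ) [Fact p.Prime] (M : Ideal Cfsg.AlgInt) (hM : Cfsg.IsPModular p M) (B : Set (Cfsg.IrrCharacter G)) (hB : Cfsg.IsPBlock M B) (χ : G → ℂ) (hχ : (∃ n : Cfsg.IrrCharacter G → ℤ, ∀ g : G, χ g = ∑ᶠ ψ ∈ B, (n ψ : ℂ) * (ψ : G → ℂ) g)) : (∃ n : Cfsg.IrrCharacter G → ℤ, ∀ g : G, (p ^ Cfsg.blockDefect p B : ℂ) * Cfsg.pRegularPart p χ g = ∑ᶠ ψ ∈ B, (n ψ : ℂ) * (ψ : G → ℂ) g) := by
  have := hM.2.1
  have := charP_of_isPModular hM
  obtain ⟨n, hn⟩ := hχ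
  have hg := isGen_of_comb hn
  rw [pRegularPart_eq]
  refine comb_of_inner_int (θ := (p ^ blockDefect p B : ℂ) • regPart p χ)
    (isClassFunction_smul _ (regPart_classFun hg.classFun)) (fun ψ hψ => ?_) fun ψ hψ => ?_
  · rw [CfsgH3.inner_smul_left, ← mR_eq_inner_irr, eq_sum_of_comb hn, mR_sum_left,
      Finset.sum_eq_zero, mul_zero]
    intro ξ hξ
    rw [mR_smul_left, mR_eq_zero (eSet_mem_SG hB) (mem_irrF.1 hξ) hψ, mul_zero]
  · rw [CfsgH3.inner_smul_left, ← mR_eq_inner_irr]
    exact ⟨_, (coe_aI hg hψ).symm⟩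

end Cfsg.Agent.S4666
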