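import Cfsg.Statements.S4668
import Cfsg.Agent.H4.Cover2

set_option autoImplicit false
open Cfsg

namespace Cfsg.Agent.S4668

open CfsgH4 CfsgH3 CfsgH2 MonoidAlgebra

/-- Fix a prime p and a maximal ideal M of the algebraic integers containing p. Let Q₀ < Q₁ < ⋯ < Q_m be a strictly increasing chain of p-subgroups of the finite group G and N the intersection of their normalizers. Then every block idempotent of N is supported on C_G(Q_m): for every p-block E of N, the idempotent coefficient of E vanishes at every element of N outside C_G(Q_m). -/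
theorem result {G : Type*} [Group G] [Fintype G] (p : ℕ) [Fact p.Prime] (M : Ideal Cfsg.AlgInt) (hM : Cfsg.IsPModular p M) (m : ℕ) (Q : Fin (m + 1) → Subgroup G) (hQ : StrictMono Q) (hQp : ∀ i, IsPGroup p (Q i)) (N : Subgroup G) (hN : ∀ g : G, g ∈ N ↔ ∀ i, g ∈ Subgroup.normalizer (Q i : Set G)) (E : Set (Cfsg.IrrCharacter N)) (hE : Cfsg.IsPBlock M E) (n : N) (hn : (n : G) ∉ Subgroup.centralizer (Q (Fin.last m) : Set G)) : Cfsg.blockCoeff E n = 0 := by
  have := hM.2.1
  have := charP_of_isPModular hM
  have hf := isPrim_bIdS hE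
  have hNQ : ∀ i, N ≤ Subgroup.normalizer (Q i : Set G) := fun i g hg => (hN g).1 hg i
  set R := N ⊓ Q (Fin.last m)
  have hR : IsPGroup p R := (hQp _).to_inf_right
  have hNR : N ≤ Subgroup.normalizer (R : Set G) := fun g hg => by
    rw [← cj_eq_iff_mem_normalizer, cj_inf, cj_eq_of_mem hg, cj_eq_iff_mem_normalizer.2 (hNQ _ hg)]
  have key : bIdS M N E ∈ Supp (Res M) (N ⊓ Subgroup.centralizer (Q (Fin.last m) : Set G)) := by
    intro x hx
    by_contra h
    have hxN := mem_of_coeff_ne_zero hf.mem.1 h
    have hxp := not_dvd_of_coeff_idem (p := p) hf.mem hf.idem h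
    have hxR := mem_of_coeff_ne_zero (mem_Supp_centralizer_of_idem inf_le_left hNR hR hf.mem hf.idem) h
    have h1 : ∀ i, x ∈ Subgroup.centralizer (Q i : Set G) := by
      intro i
      induction i using Fin.induction with
      | zero =>
        refine Subgroup.centralizer_le (le_inf (fun y hy => (hN y).2 fun i => ?_)
          (hQ.monotone (Fin.le_last _))) hxR
        exact Subgroup.le_normalizer (hQ.monotone (Fin.zero_le i) hy)
      | succ i ih =>
        have h2 := hQ.monotone (Fin.castSucc_lt_succ (i := i)).le
        refine CfsgH1.thompson_A_times_B (P := Q i.castSucc) (Q := Subgroup.zpowers x) (hQp _)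
          (coprime_card_zpowers hxp) (hQp _) (Subgroup.le_centralizer_iff.1 (by simpa using ih))
          (h2.trans Subgroup.le_normalizer) (by simpa using hNQ _ hxN) ?_ (Subgroup.mem_zpowers x)
        refine le_trans ?_ (Subgroup.le_centralizer_iff.1 (show Subgroup.zpowers x ≤
          Subgroup.centralizer (R : Set G) from Subgroup.zpowers_le.2 hxR))
        refine le_inf (fun y hy => (hN y).2 fun j => ?_) (inf_le_left.trans (hQ.monotone (Fin.le_last _)))
        rcases le_or_gt j i.castSucc with h3 | h3
        · exact Subgroup.centralizer_le_normalizer _ (Subgroup.centralizer_le (hQ.monotone h3) hy.2)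
        · exact Subgroup.le_normalizer (hQ.monotone (Fin.castSucc_lt_iff_succ_le.1 h3) hy.1)
    exact hx ⟨hxN, h1 _⟩
  rw [← coeff_eSetS_coe]
  exact eSetS_mem_Supp_of_bIdS inf_le_left (eSet_mem_SG hE) key n fun h => hn h.2

end Cfsg.Agent.S4668
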