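import Cfsg.Statements.S4670
import Cfsg.Agent.H4.Cover2

set_option autoImplicit false
open Cfsg

namespace Cfsg.Agent.S4670

open CfsgH4 CfsgH3 CfsgH2 MonoidAlgebra

/-- Fix a prime p and a maximal ideal M of the algebraic integers containing p. Let P be a p-subgroup of the finite group G and H a subgroup containing N_G(P). For every p-block B of G with defect group P there is exactly one p-block c of H with defect group P whose idempotent agrees with that of B, modulo the local ideal at M, at every element of C_G(P) (their Brauer-map images at P coincide); and every p-block c of H with defect group P arises in this way from exactly one such B. This is the Brauer correspondence over H. -/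
theorem result {G : Type*} [Group G] [Fintype G] (p : ℕ) [Fact p.Prime] (M : Ideal Cfsg.AlgInt) (hM : Cfsg.IsPModular p M) (P H : Subgroup G) (hP : IsPGroup p P) (hH : Subgroup.normalizer (P : Set G) ≤ H) : (∀ B : Set (Cfsg.IrrCharacter G), Cfsg.IsPBlock M B → Cfsg.IsDefectGroup p M B P → ∃! c : Set (Cfsg.IrrCharacter H), Cfsg.IsPBlock M c ∧ Cfsg.IsDefectGroup p M c (P.subgroupOf H) ∧ ∀ x : G, x ∈ Subgroup.centralizer (P : Set G) → Cfsg.MemLocalIdeal M (Cfsg.blockCoeff B x - Cfsg.subgroupBlockCoeff H c x)) ∧ (∀ c : Set (Cfsg.IrrCharacter H), Cfsg.IsPBlock M c → Cfsg.IsDefectGroup p M c (P.subgroupOf H) → ∃! B : Set (Cfsg.IrrCharacter G), Cfsg.IsPBlock M B ∧ Cfsg.IsDefectGroup p M B P ∧ ∀ x : G, x ∈ Subgroup.centralizer (P : Set G) → Cfsg.MemLocalIdeal M (Cfsg.blockCoeff B x - Cfsg.subgroupBlockCoeff H c x)) := by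
  have := hM.2.1
  have := charP_of_isPModular hM
  have hPH : P ≤ H := Subgroup.le_normalizer.trans hH
  have key : ∀ B c, IsPBlock M B → IsPBlock M c → ((∀ x : G, x ∈ Subgroup.centralizer (P : Set G) →
      MemLocalIdeal M (blockCoeff B x - subgroupBlockCoeff H c x)) ↔
      Br P (bId M B) = Br P (bIdS M H c)) := fun B c hB hc => by
    have h1 : ∀ x, MemLocalIdeal M (blockCoeff B x - subgroupBlockCoeff H c x) ↔
        (bId M B).coeff x = (bIdS M H c).coeff x := fun x => by
      rw [memLocalIdeal_sub_iff (blockCoeff_mem_Loc hB x) (coeff_eSetS H c x ▸ eSetS_mem_SG hc x),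
        coeff_bId, coeff_bIdS]
    refine ⟨fun h => ga_ext fun x => ?_, fun h x hx => (h1 x).2 ?_⟩
    · by_cases hx : x ∈ Subgroup.centralizer (P : Set G)
      · rw [coeff_tr_of_mem _ hx, coeff_tr_of_mem _ hx, (h1 x).1 (h x hx)]
      · rw [coeff_tr_of_notMem _ hx, coeff_tr_of_notMem _ hx]
    · rw [← coeff_tr_of_mem _ hx, h, coeff_tr_of_mem _ hx]
  have hN : H ⊓ Subgroup.normalizer (P : Set G) = ⊤ ⊓ Subgroup.normalizer (P : Set G) := by
    rw [inf_eq_right.2 hH, top_inf_eq]
  constructor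
  · intro B hB hD
    rw [isDefectGroup_iff hB] at hD
    obtain ⟨E, hE, h1, h2⟩ := exists_isPrim_Br_eq' (N := H) (hN ▸ (isPrim_bId hB).isPrim_Br' hD)
      (hN ▸ hD.isDef_Br)
    obtain ⟨c, hc, rfl⟩ := exists_block_of_isPrim_S hE
    refine ⟨c, ⟨hc, (isDefectGroup_iff_S' hc hPH).2 h1, (key B c hB hc).2 h2.symm⟩,
      fun c' ⟨hc', h3, h4⟩ => bIdS_injective hc' hc ?_⟩
    exact eq_of_Br_eq (isComm_Z H) hP (fun _ h => Fix_anti hPH h.2) (isPrim_bIdS hc') hE
      ((isDefectGroup_iff_S' hc' hPH).1 h3).ne_zero (((key B c' hB hc').1 h4).symm.trans h2.symm)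
  · intro c hc hD
    rw [isDefectGroup_iff_S' hc hPH] at hD
    obtain ⟨E, hE, h1, h2⟩ := exists_isPrim_Br_eq' (N := ⊤) (hN ▸ (isPrim_bIdS hc).isPrim_Br' hD)
      (hN ▸ hD.isDef_Br)
    obtain ⟨B, hB, rfl⟩ := exists_block_of_isPrim hE
    refine ⟨B, ⟨hB, (isDefectGroup_iff hB).2 h1, (key B c hB hc).2 h2⟩,
      fun B' ⟨hB', h3, h4⟩ => bId_injective hB' hB ?_⟩
    exact eq_of_Br_eq (isComm_Z ⊤) hP (fun _ h => Fix_anti le_top h.2) (isPrim_bId hB') hE
      ((isDefectGroup_iff hB').1 h3).ne_zero (((key B' c hB' hc).1 h4).trans h2.symm)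

end Cfsg.Agent.S4670
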