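import Cfsg.Statements.S4673
import Cfsg.Agent.H4.Cover2

set_option autoImplicit false
open Cfsg

namespace Cfsg.Agent.S4673

open CfsgH4 CfsgH3 CfsgH2 MonoidAlgebra

/-- Fix a prime p and a maximal ideal M of the algebraic integers containing p. Let N ≤ L be normal subgroups of the finite group G with L/N a p-group, let B be a p-block of G covering the p-block c of N (some member of B has a constituent in c on restriction to N), and suppose that N contains a defect group of B. Then the stabilizer T of c in G satisfies T ∩ L = N. -/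
theorem result {G : Type*} [Group G] [Fintype G] (p : ℕ) [Fact p.Prime] (M : Ideal Cfsg.AlgInt) (hM : Cfsg.IsPModular p M) (N L : Subgroup G) [N.Normal] [L.Normal] [Fintype N] (hNL : N ≤ L) (hLN : ∃ k : ℕ, (N.subgroupOf L).index = p ^ k) (B : Set (Cfsg.IrrCharacter G)) (hB : Cfsg.IsPBlock M B) (c : Set (Cfsg.IrrCharacter N)) (hc : Cfsg.IsPBlock M c) (hcov : (∃ χ ∈ B, ∃ θ ∈ c, Cfsg.classInner (fun n : N => (χ : G → ℂ) n) (θ : N → ℂ) ≠ 0)) (hD : ∃ D : Subgroup G, Cfsg.IsDefectGroup p M B D ∧ D ≤ N) (T : Subgroup G) (hT : ∀ x : G, x ∈ T ↔ Cfsg.StabilizesBlock N c x) : T ⊓ L = N := by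
  have := hM.2.1
  have := charP_of_isPModular hM
  obtain ⟨k, hk⟩ := hLN
  obtain ⟨D, hD, hDN⟩ := hD
  rw [isDefectGroup_iff hB] at hD
  have hf := isPrim_bIdS hc
  have hT' : T = ⊤ ⊓ stabA (bIdS M N c) := by
    ext g; rw [hT, top_inf_eq, stabilizesBlock_iff' hc (le_normalizer_top trivial)]
  have hNT : N ≤ T := hT' ▸ le_inf le_top hf.le_stabA
  have hfT : bIdS M N c ∈ Fix (Res M) T := le_stabA_iff.1 (hT' ▸ inf_le_right)
  obtain ⟨e, he, h1, h2⟩ := frB_surj hc hT' hB ((cover_iff hB hc).1 hcov)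
  have hU : N ≤ T ⊓ L := le_inf hNT hNL
  have hreg : ∀ x ∈ T ⊓ L, ¬ p ∣ orderOf x → x ∈ N := fun x hx h =>
    mem_of_pregular_of_relIndex le_normalizer_of_normal' hk hx.2 h
  have hfU := hf.of_pquot hU hreg (Fix_anti inf_le_left hfT)
  obtain ⟨R, hR⟩ := hfU.exists_isDef p le_rfl Subgroup.le_normalizer
  have hTU : T ≤ Subgroup.normalizer ((T ⊓ L : Subgroup G) : Set G) := fun g hg => by
    rw [← cj_eq_iff_mem_normalizer, cj_inf, cj_eq_of_mem hg, cj_eq_of_normal]
  obtain ⟨P, hP, h3⟩ := hR.exists_inf_eq inf_le_left hTU (isPrim_bIdS he) hfU h1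
  obtain ⟨g, -, rfl⟩ := hD.exists_cj_eq (frB_isDef hc hT' he h1 h2 hP)
  rw [← hR.sup_eq hf hU le_normalizer_of_normal' (Fix_anti inf_le_left hfT) hreg, ← h3]
  exact sup_eq_left.2 (inf_le_left.trans ((cj_mono g hDN).trans (cj_eq_of_normal g N).le))

end Cfsg.Agent.S4673
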