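import Cfsg.Statements.S4674
import Cfsg.Agent.H4.Cover2

set_option autoImplicit false
open Cfsg

namespace Cfsg.Agent.S4674

open CfsgH4 CfsgH3 CfsgH2 MonoidAlgebra

/-- Fix a prime p and a maximal ideal M of the algebraic integers containing p. Let N be a normal subgroup of the finite group G, Q a p-subgroup of N, H = N_G(Q) and L = H ∩ N = N_N(Q). Let d be a p-block of N with defect group Q and e the p-block of L with defect group Q that induces d inside N (its Brauer correspondent). Then block induction from H to G is a bijection from the p-blocks of H covering e onto the p-blocks of G covering d: every block of H covering e induces exactly one block of G, and that block covers d; and every block of G covering d is induced by exactly one block of H covering e. -/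
theorem result {G : Type*} [Group G] [Fintype G] (p : ℕ) [Fact p.Prime] (M : Ideal Cfsg.AlgInt) (hM : Cfsg.IsPModular p M) (N : Subgroup G) [N.Normal] [Fintype N] (Q : Subgroup G) (hQ : IsPGroup p Q) (hQN : Q ≤ N) [Fintype ↥(Subgroup.normalizer (Q : Set G) ⊓ N)] (d : Set (Cfsg.IrrCharacter N)) (hd : Cfsg.IsPBlock M d) (hdQ : Cfsg.IsDefectGroup p M d (Q.subgroupOf N)) (e : Set (Cfsg.IrrCharacter ↥(Subgroup.normalizer (Q : Set G) ⊓ N))) (he : Cfsg.IsPBlock M e) (heQ : Cfsg.IsDefectGroup p M e (Q.subgroupOf (Subgroup.normalizer (Q : Set G) ⊓ N))) (hed : Cfsg.IsInducedBlockIn M N (Subgroup.normalizer (Q : Set G) ⊓ N) e d) : (∀ c : Set (Cfsg.IrrCharacter ↥(Subgroup.normalizer (Q : Set G))), Cfsg.IsPBlock M c → (∃ ψ ∈ c, ∃ ξ ∈ e, Cfsg.classInner (fun l : ↥(Subgroup.normalizer (Q : Set G) ⊓ N) => (ψ : ↥(Subgroup.normalizer (Q : Set G)) → ℂ) (Subgroup.inclusion inf_le_left l)) (ξ : ↥(Subgroup.normalizer (Q : Set G) ⊓ N) → ℂ) ≠ 0) → ∃! B :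 Set (Cfsg.IrrCharacter G), Cfsg.IsInducedBlock M (Subgroup.normalizer (Q : Set G)) c B ∧ (∃ χ ∈ B, ∃ θ ∈ d, Cfsg.classInner (fun n : N => (χ : G → ℂ) n) (θ : N → ℂ) ≠ 0)) ∧ (∀ B : Set (Cfsg.IrrCharacter G), Cfsg.IsPBlock M B → (∃ χ ∈ B, ∃ θ ∈ d, Cfsg.classInner (fun n : N => (χ : G → ℂ) n) (θ : N → ℂ) ≠ 0) → ∃! c : Set (Cfsg.IrrCharacter ↥(Subgroup.normalizer (Q : Set G))), (Cfsg.IsPBlock M c ∧ ∃ ψ ∈ c, ∃ ξ ∈ e, Cfsg.classInner (fun l : ↥(Subgroup.normalizer (Q : Set G) ⊓ N) => (ψ : ↥(Subgroup.normalizer (Q : Set G)) → ℂ) (Subgroup.inclusion inf_le_left l)) (ξ : ↥(Subgroup.normalizer (Q : Set G) ⊓ N) → ℂ) ≠ 0) ∧ Cfsg.IsInducedBlock M (Subgroup.normalizer (Q : Set G)) c B) := by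
  have := hM.2.1
  have := charP_of_isPModular hM
  have hQH : Q ≤ (Subgroup.normalizer (Q : Set G)) := Subgroup.le_normalizer
  have hC : ⊤ ⊓ Subgroup.centralizer (Q : Set G) ≤ (Subgroup.normalizer (Q : Set G)) :=
    inf_le_right.trans (Subgroup.centralizer_le_normalizer _)
  have hQK : Q ≤ (Subgroup.normalizer (Q : Set G)) ⊓ N := le_inf hQH hQN
  have hHK : (Subgroup.normalizer (Q : Set G)) ≤ Subgroup.normalizer (((Subgroup.normalizer (Q : Set G)) ⊓ N : Subgroup G) : Set G) := fun g hg => by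
    rw [← cj_eq_iff_mem_normalizer, cj_inf, cj_eq_of_mem hg, cj_eq_of_normal]
  have hd' := isPrim_bIdS hd
  have he' := isPrim_bIdS he
  rw [isDefectGroup_iff_S' hd hQN] at hdQ
  rw [isDefectGroup_iff_S' he hQK] at heQ
  have h1 : bIdS M _ e = Br Q (bIdS M N d) := by
    have h := ((isInducedBlockIn_iff inf_le_right).1 hed).2.2
    generalize bIdS M _ e = f at h he'
    rw [inf_comm] at h he'
    exact hdQ.eq_Br_of_ind hd' he' h
  have hcov : ∀ c : Set (IrrCharacter (Subgroup.normalizer (Q : Set G))), IsPBlock M c → ((∃ ψ ∈ c, ∃ ξ ∈ e, classInner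
      (fun l : ↥((Subgroup.normalizer (Q : Set G)) ⊓ N) => (ψ : (Subgroup.normalizer (Q : Set G)) → ℂ) (Subgroup.inclusion inf_le_left l)) (ξ : ↥((Subgroup.normalizer (Q : Set G)) ⊓ N) → ℂ) ≠ 0) ↔
      bIdS M (Subgroup.normalizer (Q : Set G)) c * bIdS M _ e ≠ 0) := fun c hc => cover_iff_S inf_le_left hc he
  have hind : ∀ c B, IsPBlock M c → IsPBlock M B → (IsInducedBlock M (Subgroup.normalizer (Q : Set G)) c B ↔
      bIdS M (Subgroup.normalizer (Q : Set G)) c * Br Q (bId M B) = bIdS M (Subgroup.normalizer (Q : Set G)) c) := fun c B hc hB => by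
    rw [isInducedBlock_iff' hc hB, ind_iff_mul_Br hQ hQH hC le_top le_rfl (isPrim_bIdS hc) (isPrim_bId hB)]
  have hBr : ∀ B, Br Q (bId M B * bIdS M N d) = Br Q (bId M B) * bIdS M _ e := fun B => by
    rw [h1, Br_mul hQ (Fix_anti le_top (bId_mem B).2) (Fix_anti hQN hd'.mem.2)]
  constructor
  · intro c hc h
    obtain ⟨B, hB⟩ := inducedBlockDefined_of_local hQ hQH (Subgroup.centralizer_le_normalizer _) le_rfl hc
    refine ⟨B, ⟨hB, (cover_iff hB.2.1 hd).2 fun h0 => (hcov c hc).1 h ?_⟩,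
      fun B' hB' => isInducedBlock_unique hB'.1 hB⟩
    rw [← (hind c B hc hB.2.1).1 hB, mul_assoc, ← hBr, h0, map_zero, mul_zero]
  · intro B hB h
    have hE := isPrim_bId hB
    have h2 := Br_ne_zero_of_cover le_top le_normalizer_top hE.mem hE.idem hd' ((cover_iff hB hd).1 h) hQN
      hQ hdQ.ne_zero
    rw [hBr] at h2
    obtain ⟨f, hf, h3⟩ := exists_isPrim_mul_ne_zero (isComm_Z (Subgroup.normalizer (Q : Set G))) h2
    obtain ⟨c, hc, rfl⟩ := exists_block_of_isPrim_S hf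
    have hZ := Br_mem_Z_of_le hC le_top le_rfl hE.mem
    have h4 : bIdS M (Subgroup.normalizer (Q : Set G)) c * Br Q (bId M B) = bIdS M (Subgroup.normalizer (Q : Set G)) c :=
      hf.mul_eq_self hZ (Br_idem hQ (Fix_anti le_top hE.mem.2) hE.idem) fun h0 => h3 (by
        rw [← mul_assoc, h0, zero_mul])
    rw [← mul_assoc, h4] at h3
    refine ⟨c, ⟨⟨hc, (hcov c hc).2 h3⟩, (hind c B hc hB).2 h4⟩, fun c' ⟨⟨hc', h5⟩, h6⟩ => ?_⟩
    have key : ∀ c, IsPBlock M c → bIdS M (Subgroup.normalizer (Q : Set G)) c * bIdS M _ e ≠ 0 → IsInducedBlock M (Subgroup.normalizer (Q : Set G)) c B →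
        ∃ P, IsDef p (Subgroup.normalizer (Q : Set G)) (bIdS M (Subgroup.normalizer (Q : Set G)) c) P ∧ P ⊓ N = Q := fun c hc h h' => by
      obtain ⟨P, hP, h7⟩ := heQ.exists_inf_eq inf_le_left hHK (isPrim_bIdS hc) he' h
      exact ⟨P, hP, by rw [← h7, ← inf_assoc, inf_eq_left.2 hP.le]⟩
    have key2 : ∀ c P, IsPBlock M c → IsInducedBlock M (Subgroup.normalizer (Q : Set G)) c B → IsDef p (Subgroup.normalizer (Q : Set G)) (bIdS M (Subgroup.normalizer (Q : Set G)) c) P → P ⊓ N = Q →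
        IsDef p ⊤ (bId M B) P ∧ Br P (bId M B) = Br P (bIdS M (Subgroup.normalizer (Q : Set G)) c) := fun c P hc h hP h7 =>
      isDef_of_normalizer_le le_top (isPrim_bIdS hc) hE (ind_of_isInducedBlock h) hP fun g hg => by
        rw [← cj_eq_iff_mem_normalizer, ← h7, cj_inf, cj_eq_iff_mem_normalizer.2 hg.2, cj_eq_of_normal]
    obtain ⟨P, hP, h7⟩ := key c hc h3 ((hind c B hc hB).2 h4)
    obtain ⟨P', hP', h8⟩ := key c' hc' ((hcov c' hc').1 h5) h6
    obtain ⟨h9, h10⟩ := key2 c P hc ((hind c B hc hB).2 h4) hP h7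
    obtain ⟨g, -, rfl⟩ := (key2 c' P' hc' h6 hP' h8).1.exists_cj_eq h9
    have hg : g ∈ (Subgroup.normalizer (Q : Set G)) := by
      rw [← cj_eq_iff_mem_normalizer]
      conv_lhs => rw [← h8]
      rw [cj_inf, cj_eq_of_normal g N, h7]
    have h11 := hP'.cj (bIdS_mem (Subgroup.normalizer (Q : Set G)) c').2 hg
    exact bIdS_injective hc' hc (eq_of_Br_eq (isComm_Z (Subgroup.normalizer (Q : Set G))) h11.pgroup (fun _ h => Fix_anti h11.le h.2)
      (isPrim_bIdS hc') hf h11.ne_zero ((key2 c' _ hc' h6 h11 h7).2.symm.trans h10))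

end Cfsg.Agent.S4674
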