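import Cfsg.Statements.S4681
import Cfsg.Agent.H4.Pairs3

set_option autoImplicit false
open Cfsg

namespace Cfsg.Agent.S4681

open CfsgH4 CfsgH3 CfsgH2 MonoidAlgebra

/-- Fix a prime p and a maximal ideal M of the algebraic integers containing p. Let B₀ be the principal p-block of the finite group G, P a Sylow p-subgroup and e₀ the principal p-block of C_G(P). Then (P, e₀) is a maximal Brauer pair of B₀, and the fusion system of B₀ on (P, e₀) is the fusion system of G on P: its maps from each subgroup of P are exactly the conjugation maps into P by elements of G. -/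
theorem result {G : Type*} [Group G] [Fintype G] (p : ℕ) [Fact p.Prime] (M : Ideal Cfsg.AlgInt) (hM : Cfsg.IsPModular p M) (S : Sylow p G) : Cfsg.IsMaximalBrauerPair p M (Cfsg.principalBlock M G) (S : Subgroup G) (Cfsg.principalBlock M (Subgroup.centralizer ((S : Subgroup G) : Set G))) ∧ ∀ F : Cfsg.FusionSystem (S : Subgroup G), Cfsg.IsBlockFusionSystemOn p M (Cfsg.principalBlock M G) (S : Subgroup G) (Cfsg.principalBlock M (Subgroup.centralizer ((S : Subgroup G) : Set G))) F → ∀ Q : Subgroup G, F.Hom Q = (Cfsg.groupFusionSystem (S : Subgroup G)).Hom Q := by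
  have := hM.2.1
  have := charP_of_isPModular hM
  refine ⟨isMax_iff.2 ⟨isPBlock_principal, isPBlock_principal,
    mp_principal (IsSylowIn.of_sylow_top S)⟩, fun F hF Q => ?_⟩
  rw [CfsgH9.hom_eq_iff]
  intro φ
  rw [isBFS_of hF, CfsgH9.mor_group_iff]
  constructor
  · rintro ⟨g, a, h1, h2, h3⟩
    exact ⟨h2.le, fun x hx => by rw [h1 x hx]; exact h3.le (conj_mem_cj g hx), g, h1⟩
  · rintro ⟨h1, h2, g, h3⟩
    refine ⟨g, _, h3, sl_principal S.2 h1, ?_⟩
    rw [cjA_principal (cj_centralizer g Q)]
    exact sl_principal S.2 (cj_le_iff.2 fun x hx => by rw [← h3 x hx]; exact h2 x hx)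

end Cfsg.Agent.S4681
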