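import Cfsg.Statements.S4682
import Cfsg.Agent.H4.Pairs3

set_option autoImplicit false
open Cfsg

namespace Cfsg.Agent.S4682

open CfsgH4 CfsgH3 CfsgH2 MonoidAlgebra

/-- Fix a prime p and a maximal ideal M of the algebraic integers containing p, a p-block B of the finite group G with maximal Brauer pair (P, e), P abelian, and a Brauer pair (Q, f) ≤ (P, e). Let T_Q be the stabilizer of f in N_G(Q) and T_P the stabilizer of e in N_G(P). Then every element of T_Q is a product of an element of T_P and an element of C_G(Q); and the index of C_G(Q) in T_Q equals the index of T_P ∩ C_G(Q) in T_P ∩ N_G(Q). -/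
theorem result {G : Type*} [Group G] [Fintype G] (p : ℕ) [Fact p.Prime] (M : Ideal Cfsg.AlgInt) (hM : Cfsg.IsPModular p M) (B : Set (Cfsg.IrrCharacter G)) (P : Subgroup G) (e : Set (Cfsg.IrrCharacter (Subgroup.centralizer (P : Set G)))) (hmax : Cfsg.IsMaximalBrauerPair p M B P e) (hab : ∀ x ∈ P, ∀ y ∈ P, x * y = y * x) (Q : Subgroup G) (f : Set (Cfsg.IrrCharacter (Subgroup.centralizer (Q : Set G)))) (hQP : Q ≤ P) (hf : Cfsg.IsPBlock M f) (hle : Cfsg.SubpairLE p M Q f P e) (TQ : Subgroup G) (hTQ : ∀ y : G, y ∈ TQ ↔ y ∈ Subgroup.normalizer (Q : Set G) ∧ Cfsg.StabilizesBlock (Subgroup.centralizer (Q : Set G)) f y) (TP : Subgroup G) (hTP : ∀ y : G, y ∈ TP ↔ y ∈ Subgroup.normalizer (P : Set G) ∧ Cfsg.StabilizesBlock (Subgroup.centralizer (P : Set G)) e y) : (∀ x ∈ TQ, ∃ y ∈ TP, ∃ c ∈ Subgroup.centralizer (Q : Set G), x = y * c) ∧ ((Subgroup.centralizer (Q : Set G)).subgroupOf TQ).index = ((TP ⊓ Subgroup.centralizer (Q : Set G)).subgroupOf (TP ⊓ Subgroup.normalizer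 (Q : Set G))).index := by
  have := hM.2.1
  have := charP_of_isPModular hM
  have hm := mp_of_isMax hmax
  have hs := sl_of_isMax hmax hle
  obtain rfl := eq_inf_stabA hf hTQ
  obtain rfl := eq_inf_stabA hmax.1.1.2 hTP
  have h1 : ∀ x ∈ Subgroup.normalizer (Q : Set G) ⊓ stabA (bIdS M _ f),
      ∃ y ∈ Subgroup.normalizer (P : Set G) ⊓ stabA (bIdS M _ e),
        ∃ c ∈ Subgroup.centralizer (Q : Set G), x = y * c := by
    intro x hx
    obtain ⟨c, hc, h2⟩ := hm.abelian_fusion (le_centralizer_of_comm hab) hs (Subgroup.mem_top x)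
      (by rw [cj_eq_iff_mem_normalizer.2 hx.1, mem_stabA.1 hx.2]; exact hs)
    rw [stab_top] at h2
    exact ⟨x * c, h2, c⁻¹, Subgroup.inv_mem _ hc.2, by group⟩
  refine ⟨h1, ?_⟩
  have h2 : Subgroup.normalizer (Q : Set G) ⊓ stabA (bIdS M _ f) =
      Subgroup.centralizer (Q : Set G) ⊔ (Subgroup.normalizer (P : Set G) ⊓ stabA (bIdS M _ e) ⊓
        Subgroup.normalizer (Q : Set G)) := by
    refine le_antisymm (fun x hx => ?_) (sup_le (cent_le_stab hs.left.pgroup hf) fun x hx =>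
      ⟨hx.2, hs.mem_stab (Subgroup.mem_top x) hx.2 hx.1.1 hx.1.2⟩)
    obtain ⟨y, hy, c, hc, rfl⟩ := h1 x hx
    refine Subgroup.mul_mem _ (Subgroup.mem_sup_right ⟨hy, ?_⟩) (Subgroup.mem_sup_left hc)
    simpa using Subgroup.mul_mem _ hx.1
      (Subgroup.inv_mem _ (Subgroup.centralizer_le_normalizer _ hc))
  change Subgroup.relIndex _ _ = Subgroup.relIndex _ _
  rw [h2, CfsgH4.relIndex_sup_of_normalizer
    (inf_le_right.trans (normalizer_le_normalizer_centralizer Q)), ← Subgroup.inf_relIndex_right]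
  congr 1
  refine le_antisymm (fun x hx => ⟨hx.2.1, hx.1⟩) fun x hx =>
    ⟨hx.2, hx.1, Subgroup.centralizer_le_normalizer _ hx.2⟩

end Cfsg.Agent.S4682
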