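import Cfsg.Statements.S4685
import Cfsg.Agent.H4.Star2

set_option autoImplicit false
open Cfsg

namespace Cfsg.Agent.S4685

open CfsgH4 CfsgH3 CfsgH2 MonoidAlgebra

/-- Fix a prime p and a maximal ideal M of the algebraic integers containing p, a p-block B of the finite group G with maximal Brauer pair (P, e) and fusion system F on P. Then for every h the number of irreducible characters of height h in B is divisible by the index of Z(P) ∩ foc(F) in Z(P), where foc(F) is the focal subgroup of F. -/
theorem result {G : Type*} [Group G] [Fintype G] (p : ℕ) [Fact p.Prime] (M : Ideal Cfsg.AlgInt) (hM : Cfsg.IsPModular p M) (B : Set (Cfsg.IrrCharacter G)) (P : Subgroup G) (e : Set (Cfsg.IrrCharacter (Subgroup.centralizer (P : Set G)))) (hmax : Cfsg.IsMaximalBrauerPair p M B P e) (F : Cfsg.FusionSystem P) (hF : Cfsg.IsBlockFusionSystemOn p M B P e F) (h : ℕ) : ((P ⊓ Subgroup.centralizer (P : Set G) ⊓ F.focalSubgroup).subgroupOf (P ⊓ Subgroup.centralizer (P : Set G))).index ∣ Nat.card {χ : Cfsg.IrrCharacter G // χ ∈ B ∧ Cfsg.blockHeight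 p B (χ : G → ℂ) = h} := by
  have := hM.2.1
  have := charP_of_isPModular hM
  have := Fintype.ofFinite P
  have hB := (isMax_iff.1 hmax).1
  have hm := mp_of_isMax hmax
  have := hm.relIndex_dvd hB (fun u v => (isBFS_of hF).mem_focal hm.bp)
    ((P ⊓ Subgroup.centralizer (P : Set G)).subgroupOf P)
    (fun χ => blockHeight p B χ.1 = h) (fun χ ψ h h' => (height_congr h).trans h')
    fun χ h1 h2 u hu => hm.piU_ne_zero_major hB hu.2 h1
  rw [Subgroup.relIndex_subgroupOf inf_le_left] at this
  rwa [← Subgroup.relIndex, Subgroup.inf_relIndex_left]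

end Cfsg.Agent.S4685
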