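import Cfsg.Statements.S4690
import Cfsg.Agent.H4.Star2

set_option autoImplicit false
open Cfsg

namespace Cfsg.Agent.S4690

open CfsgH4 CfsgH3 CfsgH2 MonoidAlgebra

/-- Fix a prime p and a maximal ideal M of the algebraic integers containing p, and a nilpotent p-block B of the finite group G with defect group P. Then there is a bijection from B onto the irreducible characters of P carrying the height of each χ ∈ B to the exponent of p in the degree of its image. -/
theorem result {G : Type*} [Group G] [Fintype G] (p : ℕ) [Fact p.Prime] (M : Ideal Cfsg.AlgInt) (hM : Cfsg.IsPModular p M) (B : Set (Cfsg.IrrCharacter G)) (hnil : Cfsg.IsNilpotentBlock p M B) (P : Subgroup G) (hP : Cfsg.IsDefectGroup p M B P) : ∃ Φ : B ≃ Cfsg.IrrCharacter P, ∀ χ : B, Cfsg.blockHeight p B ((χ : Cfsg.IrrCharacter G) : G → ℂ) = (Cfsg.charDegree ((Φ χ : Cfsg.IrrCharacter P) : P → ℂ)).factorization p := by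
  have := hM.2.1
  have := charP_of_isPModular hM
  have := Fintype.ofFinite P
  have hB := hnil.1
  have hn := (isNilpotentBlock_iff hB).1 hnil
  obtain ⟨χ, hχ, h0⟩ := exists_height_zero (p := p) (block_nonempty hB)
  obtain ⟨e, hm⟩ := ((isDefectGroup_iff hB).1 hP).exists_mp (isPrim_bId hB)
  obtain ⟨Ψ, h⟩ := hm.exists_equiv hB (hn.isConj_of_fus hm) hχ h0
  refine ⟨Ψ.symm, fun ψ => ?_⟩
  obtain ⟨ζ, rfl⟩ := Ψ.surjective ψ
  have h5 : charDegree (Ψ ζ).1.1 = charDegree ζ.1 * charDegree χ.1 := charDegree_eq (by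
    rw [h, hm.star_deg hB _ hχ, Nat.cast_mul, coe_charDegree ζ.2.isChar,
      coe_charDegree χ.2.isChar])
  have := (height_eq_zero_iff hχ).1 h0
  rw [blockHeight_eq, nu, h5, Nat.factorization_mul (charDegree_pos ζ.2).ne'
    (charDegree_pos χ.2).ne', Equiv.symm_apply_apply]
  simp only [Finsupp.add_apply, nu] at this ⊢
  omega

end Cfsg.Agent.S4690
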