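import Cfsg.Statements.S4691
import Cfsg.Agent.H4.Pairs3
import Cfsg.Agent.H2.Focal

set_option autoImplicit false
open Cfsg

namespace Cfsg.Agent.S4691

open CfsgH4 CfsgH3 CfsgH2 MonoidAlgebra

/-- Fix a prime p and a maximal ideal M of the algebraic integers containing p. A finite group G has a normal p-complement if and only if its principal p-block is nilpotent. -/
theorem result {G : Type*} [Group G] [Fintype G] (p : ℕ) [Fact p.Prime] (M : Ideal Cfsg.AlgInt) (hM : Cfsg.IsPModular p M) : Cfsg.HasNormalPComplement p G ↔ Cfsg.IsNilpotentBlock p M (Cfsg.principalBlock M G) := by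
  have := hM.2.1
  have := charP_of_isPModular hM
  rw [isNilpotentBlock_iff isPBlock_principal, nil_principal_iff]
  constructor
  · rintro ⟨P, K, hK, hc⟩ Q hQ x hx h1
    obtain ⟨k, hk⟩ := P.2.exists_card_eq
    have h2 : x ∈ K := mem_of_not_dvd_orderOf (hc.symm.index_eq_card.trans hk) h1
    have h3 : ¬ p ∣ Nat.card K := by rw [← hc.index_eq_card]; exact P.not_dvd_index
    refine mem_centralizer_of_stabilizes hQ bot_le h1 (fun y hy => by
      obtain rfl : y = 1 := hy
      simp) fun u hu => ?_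
    have h4 : u⁻¹ * (x * u * x⁻¹) ∈ K := by
      have : u⁻¹ * (x * u * x⁻¹) = (u⁻¹ * x * u⁻¹⁻¹) * x⁻¹ := by group
      rw [this]
      exact K.mul_mem (hK.conj_mem x h2 _) (K.inv_mem h2)
    exact eq_one_of_mem_pgroup_of_coprime hQ
      (Q.mul_mem (Q.inv_mem hu) (conj_mem_of_mem_normalizer hx hu))
      ((Nat.Prime.coprime_iff_not_dvd Fact.out).2 (not_dvd_orderOf_of_mem h3 h4)).symm
  · intro h
    obtain ⟨P⟩ : Nonempty (Sylow p G) := inferInstance
    exact frobenius_hasNPC' P fun Q hQ _ g hg h1 => h Q (P.2.to_le hQ) g hg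
      ((Nat.Prime.coprime_iff_not_dvd Fact.out).1 h1.symm)

end Cfsg.Agent.S4691
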