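import Cfsg.Statements.S4693
import Cfsg.Agent.H4.Pairs3

set_option autoImplicit false
open Cfsg

namespace Cfsg.Agent.S4693

open CfsgH4 CfsgH3 CfsgH2 MonoidAlgebra

/-- Fix a prime p and a maximal ideal M of the algebraic integers containing p, a p-block B of the finite group G with maximal Brauer pair (P, e) and fusion system F on P, and a Brauer pair (Q, f) ≤ (P, e) with Q centric in F. Suppose every element of G normalizes Q and stabilizes f. Then the idempotent of B agrees with that of f modulo M at every element of G, and f is the idempotent of a nilpotent block of Q·C_G(Q): some p-block of Q·C_G(Q) has the idempotent coefficients of f and is nilpotent. -/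
theorem result {G : Type*} [Group G] [Fintype G] (p : ℕ) [Fact p.Prime] (M : Ideal Cfsg.AlgInt) (hM : Cfsg.IsPModular p M) (B : Set (Cfsg.IrrCharacter G)) (P : Subgroup G) (e : Set (Cfsg.IrrCharacter (Subgroup.centralizer (P : Set G)))) (hmax : Cfsg.IsMaximalBrauerPair p M B P e) (F : Cfsg.FusionSystem P) (hF : Cfsg.IsBlockFusionSystemOn p M B P e F) (Q : Subgroup G) (f : Set (Cfsg.IrrCharacter (Subgroup.centralizer (Q : Set G)))) (hQP : Q ≤ P) (hf : Cfsg.IsPBlock M f) (hle : Cfsg.SubpairLE p M Q f P e) (hcen : F.IsCentric Q) (hG : ∀ x : G, x ∈ Subgroup.normalizer (Q : Set G) ∧ Cfsg.StabilizesBlock (Subgroup.centralizer (Q : Set G)) f x) : (∀ g : G, Cfsg.MemLocalIdeal M (Cfsg.blockCoeff B g - Cfsg.subgroupBlockCoeff (Subgroup.centralizer (Q : Set G)) f g)) ∧ ∃ F' : Set (Cfsg.IrrCharacter ↥(Q ⊔ Subgroup.centralizer (Q : Set G))), Cfsg.IsPBlock M F' ∧ (∀ t : ↥(Q ⊔ Subgroup.centralizer (Q : Set G)), Cfsg.blockCoeff F' t = Cfsg.subgroupBlockCoeff (Subgroup.centralizer (Q : Set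 G)) f (t : G)) ∧ Cfsg.IsNilpotentBlock p M F' := by
  have := hM.2.1
  have := charP_of_isPModular hM
  have hm := mp_of_isMax hmax
  have hs := sl_of_isMax hmax hle
  have hQ := hs.left.pgroup
  have hB := (isMax_iff.1 hmax).1
  have h1 : ⊤ ≤ Subgroup.normalizer (Q : Set G) ⊓ stabA (bIdS M _ f) := fun x _ =>
    ⟨(hG x).1, ((stabilizesBlock_iff hf).1 (hG x).2).2⟩
  have h2 := hs.left.isPrim_loc le_top le_top (by rwa [stab_top])
  have h3 := hm.mul_of_sl hs
  rw [Br_eq_self_of_idem le_top (h1.trans inf_le_left) hQ hm.prim.mem hm.prim.idem] at h3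
  have h4 : bIdS M _ f = bId M B :=
    h2.eq_of_mul_ne_zero (isComm_Z _) hm.prim (by rw [h3]; exact h2.ne_zero)
  constructor
  · intro g
    rw [(bId_eq_bIdS_iff (eSet_mem_SG hB) (eSet_mem_SG hf)).1 h4.symm g, sub_self]
    exact (memLocalIdeal_iff_red (zero_mem _)).2 red_zero
  · obtain ⟨b, hb, h5, h6⟩ := exists_block_loc hQ hf le_sup_left le_sup_right (le_top.trans h1)
    refine ⟨b, hb, h6, (isNilpotentBlock_iff_S hb).2 ?_⟩
    have hD := ((isBFS_of hF).centric_iff hm hs).1 hcen
    rw [h5]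
    intro R g hg h7 x hx _ _ h8
    have h9 : R ≤ Q := hs.left.le_of_central (by rw [Cn_top]; exact hD)
      (by rw [Cn_top]; exact hg.le) hg.pgroup fun h0 => hg.ne_zero (by rw [← h7, h0, mul_zero])
    obtain ⟨q, hq, c, hc, rfl⟩ := (mem_sup_of_normalizer
      (Subgroup.centralizer_le_normalizer _)).1 hx
    refine centralizer_anti h9 (mem_centralizer_of_acts_like h8 (exists_orderOf_eq_pow hQ hq)
      (fun u hu => ?_) (h1 (Subgroup.mem_top _)).1)
    calc q * c * u * (q * c)⁻¹ = q * (c * u) * c⁻¹ * q⁻¹ := by group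
      _ = _ := by rw [← hc u hu]; group

end Cfsg.Agent.S4693
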