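import Cfsg.Statements.S4694
import Cfsg.Agent.H4.DC2

set_option autoImplicit false
open Cfsg

namespace Cfsg.Agent.S4694

open CfsgH4 CfsgH3 CfsgH2 MonoidAlgebra

/-- Fix a prime p and a maximal ideal M of the algebraic integers containing p, a p-block B of the finite group G and a Brauer pair (Q, e) of B. Let T be the stabilizer of e in N_G(Q) and suppose that (Q, e) carries a weight: the block of T whose idempotent is that of e contains an irreducible character χ that is constant on the cosets of Q and whose degree has p-part equal to the p-part of the index of Q in T. Then Z(Q) is a defect group of e as a block of C_G(Q), and Q is the largest normal p-subgroup of T: every p-subgroup of T normalized by T lies in Q. -/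
theorem result {G : Type*} [Group G] [Fintype G] (p : ℕ) [Fact p.Prime] (M : Ideal Cfsg.AlgInt) (hM : Cfsg.IsPModular p M) (B : Set (Cfsg.IrrCharacter G)) (Q : Subgroup G) (e : Set (Cfsg.IrrCharacter (Subgroup.centralizer (Q : Set G)))) (hQe : Cfsg.IsBrauerPairOf p M B Q e) (T : Subgroup G) (hT : ∀ y : G, y ∈ T ↔ y ∈ Subgroup.normalizer (Q : Set G) ∧ Cfsg.StabilizesBlock (Subgroup.centralizer (Q : Set G)) e y) (F' : Set (Cfsg.IrrCharacter T)) (hF' : Cfsg.IsPBlock M F') (hF'e : ∀ t : T, Cfsg.blockCoeff F' t = Cfsg.subgroupBlockCoeff (Subgroup.centralizer (Q : Set G)) e (t : G)) (χ : Cfsg.IrrCharacter T) (hχ : χ ∈ F') (hχQ : ∀ q : G, q ∈ Q → ∀ t : T, ∀ t' : T, (t' : G) = q * (t : G) → (χ : T → ℂ) t' = (χ : T → ℂ) t) (hdeg : (Cfsg.charDegree (χ : T → ℂ)).factorization p + (Nat.card Q).factorization p = (Nat.card T).factorization p) : Cfsg.IsDefectGroup p M e ((Q ⊓ Subgroup.centralizer (Q : Set G)).subgroupOf (Subgroup.centralizer (Q : Set G))) ∧ ∀ R : Subgroup G, R ≤ T → IsPGroup p R → (∀ t ∈ T,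 t ∈ Subgroup.normalizer (R : Set G)) → R ≤ Q := by
  have := hM.2.1
  have := charP_of_isPModular hM
  have he := hQe.1.2
  have hb := bp_of hQe.1.1 he
  obtain rfl := eq_inf_stabA he hT
  have hQT := self_le_stab hQe.1.1 he
  have hCT := cent_le_stab hQe.1.1 he
  have hN : (Q.subgroupOf (Subgroup.normalizer (Q : Set G) ⊓ stabA (bIdS M _ e))).Normal :=
    (Subgroup.normal_subgroupOf_iff_le_normalizer hQT).2 inf_le_left
  obtain ⟨χ', h1, h2⟩ := χ.2.exists_quotient (Q.subgroupOf _) fun n hn =>
    hχQ n hn 1 n (by simp)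
  have h3 : nu p χ' = (Nat.card (_ ⧸ Q.subgroupOf
      (Subgroup.normalizer (Q : Set G) ⊓ stabA (bIdS M _ e)))).factorization p := by
    have a := factorization_card_add_index (p := p)
      (Q.subgroupOf (Subgroup.normalizer (Q : Set G) ⊓ stabA (bIdS M _ e)))
    rw [Nat.card_congr (Subgroup.subgroupOfEquivOfLe hQT).toEquiv] at a
    have b : nu p χ' = (charDegree χ.1).factorization p := by
      unfold nu charDegree; rw [← h2 1]; rfl
    rw [b, ← Subgroup.index]
    omega
  constructor
  · have := Fintype.ofFinite (Subgroup.centralizer (Q : Set G))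
    let f := (QuotientGroup.mk' (Q.subgroupOf _)).comp (Subgroup.inclusion hCT)
    have hf : f.range.Normal := by
      rw [MonoidHom.range_comp, Subgroup.inclusion_range]
      exact ((Subgroup.normal_subgroupOf_iff_le_normalizer hCT).2 fun x hx =>
        normalizer_le_normalizer_centralizer _ hx.1).map _ (QuotientGroup.mk'_surjective _)
    have hk : f.ker = (Q ⊓ Subgroup.centralizer (Q : Set G)).subgroupOf _ := by
      ext x
      simp [f, Subgroup.mem_subgroupOf]
    obtain ⟨θ, h4, -, h5⟩ := exists_defzero_constituent f h1 h3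
    have h6 := (cover_iff_S hCT hF' (isPBlock_blockOf θ)).1
      ⟨χ, hχ, θ, mem_blockOf_self θ, by simp only [← h2]; exact h4⟩
    have h7 : bIdS M _ F' = bIdS M _ e := ga_ext fun g => by
      by_cases hg : g ∈ Subgroup.normalizer (Q : Set G) ⊓ stabA (bIdS M _ e)
      · rw [coeff_bIdS, coeff_bIdS, ← hF'e ⟨g, hg⟩, ← coeff_eSetS, coeff_eSetS_coe _ _ ⟨g, hg⟩]
      · rw [(bIdS_mem _ _).1 g hg, (bIdS_mem _ _).1 g fun h => hg (hCT h)]
    rw [h7] at h6
    rw [bIdS_injective he (isPBlock_blockOf θ)
      (hb.eq_of_mul_ne_zero (bp_of hQe.1.1 (isPBlock_blockOf θ)) h6),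
      isDefectGroup_iff (isPBlock_blockOf θ)]
    rw [hk] at h5
    exact (laradji M (hQe.1.1.to_inf_left).comap_subtype (center_subgroupOf Q) h5).1
  · intro R hRT hR hn
    have hB' := isPBlock_blockOf (M := M) ⟨χ', h1⟩
    obtain ⟨D, hD⟩ := exists_isDef_blk p hB'
    have h4 := (blockDefect_eq_zero_iff hB' hD).1 (defect_blockOf_eq_zero h3)
    have : ((R.subgroupOf _).map (QuotientGroup.mk' (Q.subgroupOf
        (Subgroup.normalizer (Q : Set G) ⊓ stabA (bIdS M _ e))))).Normal :=
      ((Subgroup.normal_subgroupOf_iff_le_normalizer hRT).2 hn).map _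
        (QuotientGroup.mk'_surjective _)
    have h5 := @IsDef.le_of_normal_blk _ _ _ _ _ _ _ _ _ _ hB' _ hD this
      ((hR.comap_subtype).map _)
    rw [h4, le_bot_iff, Subgroup.map_eq_bot_iff, QuotientGroup.ker_mk'] at h5
    exact fun x hx => h5 (show (⟨x, hRT hx⟩ : (_ ⊓ _ : Subgroup G)) ∈ R.subgroupOf _ from hx)

end Cfsg.Agent.S4694
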