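import Cfsg.Statements.S4696
import Cfsg.Agent.H4.Cyc5

set_option autoImplicit false
open Cfsg

namespace Cfsg.Agent.S4696

open CfsgH4 CfsgH3 CfsgH2 MonoidAlgebra

/-- Let p be a prime, M a maximal ideal of the algebraic integers containing p, and B a p-block of the finite group G whose defect group D is cyclic of order p^a with a ≥ 1. Let C = C_G(D), let b be a block of C inducing B, let T be the stabilizer of b in N_G(D) (the elements g of N_G(D) such that the g-conjugate of every member of b is again in b), and let e be the index of C in T (the inertial index of B). Then e divides p − 1, every irreducible character in B has height zero, and B is the disjoint union of a set X of e characters and a set Y of (p^a − 1)/e characters, the members of Y agreeing on p-regular elements, for which there are signs δ_χ = ±1 (χ ∈ X) and δ₀ = ±1 such that: for every ψ ∈ Y and every p-regular g, δ₀ ψ(g)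 + Σ_{χ ∈ X} δ_χ χ(g) = 0; for all χ, χ' ∈ X the integers δ_χ χ(1) and δ_χ' χ'(1) are congruent modulo p^a; and for ψ ∈ Y and χ ∈ X, ψ(1) ≡ −e δ₀ δ_χ χ(1) modulo p^a. -/
theorem result {G : Type*} [Group G] [Finite G] (p : ℕ) [Fact p.Prime] (M : Ideal Cfsg.AlgInt) (hM : Cfsg.IsPModular p M) (D : Subgroup G) (hD : IsCyclic D) (a : ℕ) (ha : 1 ≤ a) (hDa : Nat.card D = p ^ a) (B : Set (Cfsg.IrrCharacter G)) (hB : Cfsg.IsPBlock M B) (hBD : Cfsg.IsDefectGroup p M B D) (b : Set (Cfsg.IrrCharacter (Subgroup.centralizer (D : Set G)))) (hind : Cfsg.IsInducedBlock M (Subgroup.centralizer (D : Set G)) b B) (T : Subgroup G) (hT : ∀ g : G, g ∈ T ↔ (g ∈ Subgroup.normalizer (D : Set G) ∧ ∀ θ ∈ b, ∀ θ' : Cfsg.IrrCharacter (Subgroup.centralizer (D : Set G)), (∀ h h' : Subgroup.centralizer (D : Set G), (h' : G) = g * h * g⁻¹ → (θ' : Subgroup.centralizer (D : Set G) → ℂ) h' = (θ : Subgroup.centralizer (D : Set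 G) → ℂ) h) → θ' ∈ b)) (e : ℕ) (he : (Subgroup.centralizer (D : Set G)).relIndex T = e) : e ∣ p - 1 ∧ (∀ χ ∈ B, Cfsg.blockHeight p B (χ : G → ℂ) = 0) ∧ ∃ X Y : Set (Cfsg.IrrCharacter G), B = X ∪ Y ∧ Disjoint X Y ∧ Nat.card X = e ∧ Nat.card Y = (p ^ a - 1) / e ∧ (∀ ψ ∈ Y, ∀ ψ' ∈ Y, ∀ g : G, ¬ p ∣ orderOf g → (ψ : G → ℂ) g = (ψ' : G → ℂ) g) ∧ ∃ (δ : Cfsg.IrrCharacter G → ℤ) (δ₀ : ℤ), (∀ χ ∈ X, δ χ = 1 ∨ δ χ = -1) ∧ (δ₀ = 1 ∨ δ₀ = -1) ∧ (∀ ψ ∈ Y, ∀ g : G, ¬ p ∣ orderOf g → (δ₀ : ℂ) * (ψ : G → ℂ) g + ∑ᶠ χ ∈ X, (δ χ : ℂ) * (χ : G → ℂ) g = 0) ∧ (∀ χ ∈ X, ∀ χ' ∈ X, δ χ * (Cfsg.charDegree (χ : G → ℂ) : ℤ) ≡ δ χ' * (Cfsg.charDegree (χ' : G → ℂ) : ℤ) [ZMOD (p : ℤ) ^ a]) ∧ (∀ ψ ∈ Y, ∀ χ ∈ X, (Cfsg.charDegree (ψ : G → ℂ) : ℤ) ≡ -((e : ℤ) * δ₀ * δ χ * (Cfsg.charDegree (χ : G → ℂ) : ℤ)) [ZMOD (p : ℤ) ^ a]) := by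
  have := hM.2.1
  have := charP_of_isPModular hM
  have := Fintype.ofFinite G
  have := Fintype.ofFinite D
  have hm := mp_of_induced hB hBD hind
  have hT' : T = Subgroup.normalizer (D : Set G) ⊓ stabA (bIdS M _ b) := by
    ext y
    rw [hT, Subgroup.mem_inf]
    exact and_congr_right fun hy =>
      (mem_stabA_iff_forall hind.1 (normalizer_le_normalizer_centralizer D hy)).symm
  have h1 : D ≠ ⊥ := by
    rintro rfl
    rw [Subgroup.card_bot, eq_comm, Nat.pow_eq_one] at hDa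
    have := (Fact.out : p.Prime).one_lt
    omega
  have := hD.isMulCommutative
  have := (Subgroup.nontrivial_iff_ne_bot D).2 h1
  obtain ⟨K, Φ, h2, h, h3, h4⟩ := hm.fam_cyc hB hD h1 (MulEquiv.refl _)
  obtain ⟨X, ζ, s, δ, S⟩ := h.exists_S h3
  rw [← hT', he] at h2
  obtain ⟨u1, u2, u3⟩ := S.toExcS.eq_union
  have hdvd : (p : ℤ) ^ a ∣ (p : ℤ) ^ (Nat.card G).factorization p := pow_dvd_pow _
    (((Fact.out : p.Prime).pow_dvd_iff_le_factorization Nat.card_pos.ne').1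
      (hDa ▸ Subgroup.card_subgroup_dvd_card D))
  refine ⟨h2 ▸ h4, fun χ hχ => h.height_zero S hχ, X, Set.range ζ, u1, u2, by rw [← h2, ← S.card]; simp, ?_, ?_,
    s, -δ, S.signX, by rcases S.sign with e | e <;> simp [e], ?_,
    fun χ hχ ψ hψ => (h.cong S hχ hψ).of_dvd hdvd, ?_⟩
  · have h5 := h.card
    rw [h.rank_eq S h3, S.toExcS.card_B, S.card, h2, hDa, mul_add] at h5
    rw [u3]
    exact (Nat.div_eq_of_eq_mul_right (h2 ▸ Nat.card_pos) (by omega)).symm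
  · rintro _ ⟨i, rfl⟩ _ ⟨j, rfl⟩ g hg
    exact h.exc.agree S.toExcS i j hg
  · rintro _ ⟨i, rfl⟩ g hg
    rw [finsum_mem_coe_finset]
    simpa using h.exc.rel S.toExcS i hg
  · rintro _ ⟨i, rfl⟩ χ hχ
    have h5 := h.rel_one S i
    have h6 : ∑ ψ ∈ X, s ψ * charDegree ψ.1 ≡ ∑ ψ ∈ X, s χ * charDegree χ.1 [ZMOD (p : ℤ) ^ a] :=
      Int.ModEq.sum fun ψ hψ => (h.cong S hψ hχ).of_dvd hdvd
    rw [← h5, Finset.sum_const, S.card, h2] at h6
    have h7 := h6.mul_left δ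
    rcases S.sign with e | e <;> simpa [e, mul_assoc] using h7

end Cfsg.Agent.S4696
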