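import Cfsg.Statements.S4697
import Cfsg.Agent.H4.BF

set_option autoImplicit false
open Cfsg

namespace Cfsg.Agent.S4697

open CfsgH4 CfsgH3 CfsgH2 MonoidAlgebra

theorem three {G : Type*} [Group G] [Finite G] {p : ℕ} [hp : Fact p.Prime] {M : Ideal AlgInt}
    [M.IsMaximal] [CharP (Res M) p] {B : Set (IrrCharacter G)} (hB : IsPBlock M B) {D : Subgroup G}
    (hD : IsDef p ⊤ (bId M B) D) (hab : IsMulCommutative D) {u v w : G} (hu : u ∈ D) (hv : v ∈ D)
    (hw : w ∈ D) (hg : D ≤ Subgroup.zpowers u ⊔ (Subgroup.zpowers v ⊔ Subgroup.zpowers w))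
    (h1 : orderOf v ≤ orderOf u) (h2 : orderOf w ≤ orderOf u) :
    Nat.card B ^ 3 ≤ p ^ (5 * blockDefect p B) := by
  have := Fintype.ofFinite G
  have hc := Subgroup.le_centralizer D hu
  have := normal_zpowers_zc u
  obtain ⟨b, b', h3, h4, h5, h6, h7, h8, -⟩ := exists_major_quot hB hD hu hc
  have hP' := le_centralizer_singleton_iff.2 hc
  have := Fintype.ofFinite (Subgroup.centralizer ({u} : Set G) ⧸ Subgroup.zpowers (zc u))
  have h9 := card_le_of_cyc_quot h5 h6 (u := QuotientGroup.mk' _ ⟨v, hP' hv⟩)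
    (w := QuotientGroup.mk' _ ⟨w, hP' hw⟩) ⟨_, hv, rfl⟩ ⟨_, hw, rfl⟩
    (Subgroup.le_centralizer _ ⟨_, hv, rfl⟩) (by
      rw [← MonoidHom.map_zpowers, ← MonoidHom.map_zpowers, ← Subgroup.map_sup,
        Subgroup.map_le_map_iff, QuotientGroup.ker_mk', ← Subgroup.map_le_map_iff_of_injective
        (Subgroup.centralizer ({u} : Set G)).subtype_injective,
        Subgroup.map_subgroupOf_eq_of_le hP', Subgroup.map_sup, Subgroup.map_sup,
        MonoidHom.map_zpowers, MonoidHom.map_zpowers, MonoidHom.map_zpowers, sup_comm]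
      exact hg)
  have h10 := card_le_of_major (subEl_zc (exists_orderOf_eq_pow hD.pgroup hu)) h3 h4
  rw [h7] at h10
  have h11 := h10.trans (Nat.mul_le_mul_left _ ((blockRank_le_card _).trans h9))
  have h12 : p ^ blockDefect p B ≤ orderOf u ^ 3 := by
    rw [← card_isDef hB hD]
    have hcm : ∀ {a b : G}, a ∈ D → b ∈ D → Commute a b := fun ha hb =>
      (Subgroup.le_centralizer D hb) _ ha
    have e : ∀ x : D, ∃ t : Subgroup.zpowers u × Subgroup.zpowers v × Subgroup.zpowers w,
        (t.1 : G) * (t.2.1 * t.2.2) = x := fun x => by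
      have hle : ∀ {a : G}, a ∈ D → ∀ t : Subgroup.zpowers a, (t : G) ∈ D := fun ha t =>
        Subgroup.zpowers_le.2 ha t.2
      let T : Subgroup G :=
        { carrier := {x | ∃ t : Subgroup.zpowers u × Subgroup.zpowers v × Subgroup.zpowers w,
            (t.1 : G) * (t.2.1 * t.2.2) = x}
          one_mem' := ⟨1, by simp⟩
          mul_mem' := by
            rintro _ _ ⟨s, rfl⟩ ⟨t, rfl⟩
            refine ⟨s * t, ?_⟩
            simp only [Prod.fst_mul, Prod.snd_mul, Subgroup.coe_mul]
            rw [(hcm (hle hv _) (hle hw _)).mul_mul_mul_comm,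
              (hcm (hle hu _) (D.mul_mem (hle hv _) (hle hw _))).mul_mul_mul_comm]
          inv_mem' := by
            rintro _ ⟨s, rfl⟩
            refine ⟨s⁻¹, ?_⟩
            simp only [Prod.fst_inv, Prod.snd_inv, Subgroup.coe_inv]
            rw [(hcm (hle hu _) (D.mul_mem (hle hv _) (hle hw _))).mul_inv,
              (hcm (hle hv _) (hle hw _)).mul_inv] }
      have : Subgroup.zpowers u ⊔ (Subgroup.zpowers v ⊔ Subgroup.zpowers w) ≤ T :=
        sup_le (fun a ha => ⟨(⟨a, ha⟩, 1, 1), by simp⟩) (sup_le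
          (fun a ha => ⟨(1, ⟨a, ha⟩, 1), by simp⟩) fun a ha => ⟨(1, 1, ⟨a, ha⟩), by simp⟩)
      exact this (hg x.2)
    choose f hf using e
    refine (Nat.card_le_card_of_injective f fun a b h => Subtype.ext (by
      rw [← hf, ← hf, h])).trans ?_
    simp only [Nat.card_prod, Nat.card_zpowers]
    rw [pow_succ', sq]
    exact Nat.mul_le_mul_left _ (Nat.mul_le_mul h1 h2)
  have h13 : 0 < orderOf u := orderOf_pos u
  refine Nat.le_of_mul_le_mul_left (c := p ^ blockDefect p B) ?_ (pow_pos hp.out.pos _)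
  calc _ ≤ orderOf u ^ 3 * (p ^ blockDefect p B * p ^ blockDefect p b') ^ 3 :=
        Nat.mul_le_mul h12 (Nat.pow_le_pow_left h11 3)
    _ = (p ^ blockDefect p B * (orderOf u * p ^ blockDefect p b')) ^ 3 := by ring
    _ = _ := by rw [← h8]; ring

/-- Let p be a prime, M a maximal ideal of the algebraic integers containing p, and B a p-block of the finite group G with an abelian defect group D of order p^d. If D has rank 2 (its least number of generators is 2) then B contains at most p^d irreducible characters; if D has rank 3 then the number k of irreducible characters in B satisfies k^3 ≤ p^(5d). -/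
theorem result {G : Type*} [Group G] [Finite G] (p : ℕ) [Fact p.Prime] (M : Ideal Cfsg.AlgInt) (hM : Cfsg.IsPModular p M) (B : Set (Cfsg.IrrCharacter G)) (hB : Cfsg.IsPBlock M B) (D : Subgroup G) (hBD : Cfsg.IsDefectGroup p M B D) (hab : IsMulCommutative D) (d : ℕ) (hDd : Nat.card D = p ^ d) : (Group.rank D = 2 → Nat.card B ≤ p ^ d) ∧ (Group.rank D = 3 → Nat.card B ^ 3 ≤ p ^ (5 * d)) := by
  have := hM.2.1
  have := charP_of_isPModular hM
  have := Fintype.ofFinite G
  classical
  have hD := (isDefectGroup_iff hB).1 hBD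
  obtain rfl : d = blockDefect p B :=
    Nat.pow_right_injective (Fact.out : p.Prime).two_le (hDd.symm.trans (card_isDef hB hD))
  obtain ⟨S, h1, h2⟩ := Group.rank_spec D
  have h3 := congrArg (Subgroup.map D.subtype) h2
  rw [map_top_subtype, MonoidHom.map_closure] at h3
  refine ⟨fun h => ?_, fun h => ?_⟩
  · obtain ⟨u, v, -, rfl⟩ := Finset.card_eq_two.1 (h1.trans h)
    refine card_le_of_cyc_quot hB hD u.2 v.2 (Subgroup.le_centralizer D u.2) (h3.ge.trans ?_)
    rw [Subgroup.closure_le]
    rintro _ ⟨x, hx, rfl⟩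
    simp only [Finset.coe_insert, Finset.coe_singleton, Set.mem_insert_iff,
      Set.mem_singleton_iff] at hx
    rcases hx with rfl | rfl
    · exact Subgroup.mem_sup_left (Subgroup.mem_zpowers _)
    · exact Subgroup.mem_sup_right (Subgroup.mem_zpowers _)
  · obtain ⟨u, v, w, -, -, -, rfl⟩ := Finset.card_eq_three.1 (h1.trans h)
    have h4 : D ≤ Subgroup.zpowers (u : G) ⊔ (Subgroup.zpowers (v : G) ⊔ Subgroup.zpowers (w : G)) := by
      refine h3.ge.trans ?_
      rw [Subgroup.closure_le]
      rintro _ ⟨x, hx, rfl⟩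
      simp only [Finset.coe_insert, Finset.coe_singleton, Set.mem_insert_iff,
        Set.mem_singleton_iff] at hx
      rcases hx with rfl | rfl | rfl
      · exact Subgroup.mem_sup_left (Subgroup.mem_zpowers _)
      · exact Subgroup.mem_sup_right (Subgroup.mem_sup_left (Subgroup.mem_zpowers _))
      · exact Subgroup.mem_sup_right (Subgroup.mem_sup_right (Subgroup.mem_zpowers _))
    rcases le_total (orderOf (u : G)) (orderOf (v : G)) with a | a <;>
    rcases le_total (orderOf (u : G)) (orderOf (w : G)) with b | b <;>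
    rcases le_total (orderOf (v : G)) (orderOf (w : G)) with c | c <;>
    first
    | exact three hB hD hab u.2 v.2 w.2 h4 (by omega) (by omega)
    | exact three hB hD hab v.2 u.2 w.2 (h4.trans_eq (sup_left_comm _ _ _)) (by omega) (by omega)
    | exact three hB hD hab w.2 u.2 v.2 (h4.trans_eq (by rw [← sup_assoc, sup_comm]))
        (by omega) (by omega)

end Cfsg.Agent.S4697
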