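import Cfsg.Statements.S4701
import Mathlib
import Cfsg.Agent.H8.Def3c

set_option autoImplicit false
open Cfsg

namespace Cfsg.Agent.S4701

open CfsgH8 Subgroup

/-- Let G be a finite perfect group and p a prime dividing the order of G with p^3 larger than the order of G. Suppose a Sylow p-subgroup of G is not normal and G has no normal subgroup of order 2. Then p > 3 and G is isomorphic to PSL(2, p), or to SL(2, 2^m) with p = 2^m + 1. -/
theorem result {G : Type*} [Group G] [Finite G] (hperf : commutator G = ⊤) (p : ℕ) [Fact p.Prime] (hdvd : p ∣ Nat.card G) (hbig : Nat.card G < p ^ 3) (P : Sylow p G) (hP : ¬ (P : Subgroup G).Normal) (h2 : ∀ N : Subgroup G, N.Normal → Nat.card N ≠ 2) : (∃ (F : Type) (_ : Field F) (_ : Fintype F), Fintype.card F = p ∧ 3 < p ∧ Nonempty (G ≃* Matrix.ProjectiveSpecialLinearGroup (Fin 2) F)) ∨ (∃ (m : ℕ) (F : Type) (_ : Field F) (_ : Fintype F), Fintype.card F = 2 ^ m ∧ p = 2 ^ m + 1 ∧ 3 < p ∧ Nonempty (G ≃* Matrix.SpecialLinearGroup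 (Fin 2) F)) := by
  have := Fintype.ofFinite G
  obtain ⟨_, n, h1, h3⟩ := o1_of_cube hperf hdvd hbig hP
  obtain ⟨p3, h4⟩ := brauer_quot P hperf h1 (not_form_of_lt h3)
  have h5 := card_mul_index (pPrimeCore p G)
  have h6 : pPrimeCore p G = ⊥ := card_le_one_iff_eq_bot _ |>.mp (by
    have := h2 (pPrimeCore p G) inferInstance
    by_contra h
    have h7 := Nat.mul_le_mul_right (pPrimeCore p G).index (show 3 ≤ Nat.card (pPrimeCore p G) by omega)
    obtain ⟨q, rfl⟩ : ∃ q, p = q + 2 := ⟨p - 2, by omega⟩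
    have h8 : 2 ≤ q := by omega
    rcases h4 with ⟨h4, -⟩ | ⟨m, h9, h4, -⟩ <;> simp only [show q + 2 - 1 = q + 1 from rfl, Nat.add_sub_cancel] at h4
    · nlinarith [Nat.mul_le_mul h8 h8]
    · have : q ≠ 2 := by rintro rfl; exact absurd (Fact.out : Nat.Prime 4) (by decide)
      have h8 : 3 ≤ q := by omega
      nlinarith [Nat.mul_le_mul h8 h8])
  have e0 := ((QuotientGroup.quotientMulEquivOfEq h6).trans QuotientGroup.quotientBot).symm
  obtain ⟨-, h4⟩ | ⟨m, h3, -, h4⟩ := h4
  · exact Or.inl ⟨ZMod p, inferInstance, inferInstance, ZMod.card p, p3, (h4 _ (Nat.card_zmod p)).map e0.trans⟩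
  · have hK := GaloisField.card 2 m (by rintro rfl; omega)
    letI := Fintype.ofFinite (GaloisField 2 m)
    obtain ⟨e⟩ := h4 _ hK
    obtain ⟨e'⟩ := psl_equiv_sl _ (two_eq_zero_of_card hK)
    exact Or.inr ⟨m, GaloisField 2 m, inferInstance, inferInstance, by rw [← Nat.card_eq_fintype_card, hK], h3, p3,
      ⟨e0.trans (e.trans e')⟩⟩

end Cfsg.Agent.S4701
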