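import Cfsg.Statements.S4702
import Mathlib
import Cfsg.Agent.H8.Def3b

set_option autoImplicit false
open Cfsg

namespace Cfsg.Agent.S4702

/-- Let G be a triply transitive permutation group on a finite set of odd size m ≥ 3 in which only the identity fixes three or more points. Then m = 2^a + 1 for some a ≥ 1 and G is isomorphic to SL(2, 2^a). -/
theorem result {α : Type*} [Fintype α] [DecidableEq α] (hm : 3 ≤ Fintype.card α) (hodd : Odd (Fintype.card α)) (G : Subgroup (Equiv.Perm α)) (h3 : MulAction.IsMultiplyPretransitive G α 3) (hfix : ∀ g : G, 3 ≤ Nat.card (MulAction.fixedBy α g) → g = 1) : ∃ a : ℕ, 1 ≤ a ∧ Fintype.card α = 2 ^ a + 1 ∧ ∃ (F : Type) (_ : Field F) (_ : Fintype F), Fintype.card F = 2 ^ a ∧ Nonempty (G ≃* Matrix.SpecialLinearGroup (Fin 2) F) := by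
  rw [← Nat.card_eq_fintype_card] at hm hodd ⊢
  have : Nontrivial α := Finite.one_lt_card_iff_nontrivial.mp (by omega)
  have Z : CfsgH8.Z3 G α := CfsgH8.Z3.of_sharp (by rwa [← Nat.card_eq_fintype_card]) h3 fun x =>
    eq_bot_iff.mpr fun g hg => hfix g (by
      simpa only [Nat.card_fin] using Nat.card_le_card_of_injective (fun i : Fin 3 => (⟨x i, DFunLike.congr_fun hg i⟩ :
        MulAction.fixedBy α g)) fun i j e => x.injective (congrArg Subtype.val e))
  obtain ⟨m, h1, h2, h4⟩ := Z.psl_of_three_odd h3 hodd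
  have hK := GaloisField.card 2 m (by omega)
  letI := Fintype.ofFinite (GaloisField 2 m)
  obtain ⟨e⟩ := h4 _ hK
  obtain ⟨e'⟩ := CfsgH8.psl_equiv_sl _ (CfsgH8.two_eq_zero_of_card hK)
  exact ⟨m, h1, h2, GaloisField 2 m, inferInstance, inferInstance, by rw [← Nat.card_eq_fintype_card, hK], ⟨e.trans e'⟩⟩

end Cfsg.Agent.S4702
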