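import Cfsg.Statements.S4706
import Mathlib
import Cfsg.Agent.H8.Def3d

set_option autoImplicit false
open Cfsg

namespace Cfsg.Agent.S4706

open CfsgH8 CfsgH3 Subgroup MulAction

/-- Let p > 2 be a prime and G a permutation group on p letters whose Sylow p-subgroup P has normalizer of order 2p. Then either P is normal in G, or p − 1 = 2^a for some a and G is isomorphic to SL(2, 2^a). -/
theorem result {α : Type*} [Fintype α] [DecidableEq α] {p : ℕ} [Fact p.Prime] (hp : 2 < p) (hα : Fintype.card α = p) (G : Subgroup (Equiv.Perm α)) (P : Sylow p G) (hN : Nat.card (Subgroup.normalizer ((P : Subgroup G) : Set G)) = 2 * p) : (P : Subgroup G).Normal ∨ ∃ (a : ℕ) (F : Type) (_ : Field F) (_ : Fintype F), p = 2 ^ a + 1 ∧ Fintype.card F = 2 ^ a ∧ Nonempty (G ≃* Matrix.SpecialLinearGroup (Fin 2) F) := by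
  have := Fintype.ofFinite G
  have hp' : p.Prime := Fact.out
  refine or_iff_not_imp_left.mpr fun hP => ?_
  have : O1 P := ⟨by
    obtain ⟨k, hk⟩ := IsPGroup.iff_card.mp P.isPGroup'
    have h2 : p ^ k ∣ 2 * p := hk ▸ hN ▸ card_dvd_of_le le_normalizer
    rcases k with _ | _ | k
    · exact (hP (card_eq_one.mp hk ▸ inferInstance)).elim
    · simpa using hk
    · rw [pow_succ, Nat.mul_dvd_mul_iff_right hp'.pos] at h2
      have := Nat.le_of_dvd two_pos ((dvd_pow_self p (by omega)).trans h2)
      omega⟩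
  obtain ⟨y, hy, y1⟩ := O1.exists_gen P
  have fr : ∀ y ∈ P.1, y ≠ 1 → ∀ a : α, y • a ≠ a := fun y hy y1 a e => by
    have h1 := Equiv.Perm.isCycle_of_prime_order' (σ := (y : Equiv.Perm α)) (by
      rw [orderOf_coe, ord_of_mem hy y1]; exact hp') (by rw [orderOf_coe, ord_of_mem hy y1]; omega)
    have h2 := h1.orderOf
    rw [orderOf_coe, ord_of_mem hy y1, ← hα] at h2
    exact Equiv.Perm.mem_support.mp (Finset.eq_univ_of_card _ h2.symm ▸ Finset.mem_univ a) e
  have : Nonempty α := Fintype.card_pos_iff.mp (by omega)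
  obtain ⟨a⟩ := this
  have tr : IsPretransitive P.1 α := (isPretransitive_iff_orbit_eq_univ a).mpr (Set.eq_univ_iff_ncard _ |>.mpr (by
    rw [← index_stabilizer, show stabilizer P.1 a = ⊥ from eq_bot_iff.mpr fun y hy => by_contra fun h =>
      fr y y.2 (fun e => h (Subtype.ext e)) a hy, index_bot, O1.card, Nat.card_eq_fintype_card, hα]))
  have : IsPretransitive G α := ⟨fun a b => (tr.1 a b).elim fun g h => ⟨g, h⟩⟩
  have hC : CP P ≤ P := (eq_of_le_of_card_ge (O1.le_C P) (Nat.le_of_dvd Nat.card_pos (by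
    rw [O1.card.trans (Nat.card_eq_fintype_card.trans hα).symm]
    exact card_dvd_of_semireg _ fun x hx c e => centralizer_semiregular P.1 hx e))).ge
  have he : fN P = 2 := Nat.eq_of_mul_eq_mul_left hp'.pos (by
    have := card_NP (P := P); rw [card_CP_sc hC] at this; rw [← this, mul_comm]; exact hN)
  have hO : ∀ N : Subgroup G, N.Normal → ¬ p ∣ Nat.card N → N = ⊥ := fun N _ h => by_contra fun h' => h (by
    have := trans_of_normal' (α := α) (IsPreprimitive.of_prime_card (by rwa [Nat.card_eq_fintype_card, hα])) N h'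
    exact ((index_stabilizer_of_transitive N a).trans (Nat.card_eq_fintype_card.trans hα)).symm.dvd.trans
      (index_dvd_card _))
  have p3 : 3 < p := lt_of_le_of_ne hp (by
    rintro rfl
    have h1 := card_subgroup_dvd_card G
    rw [Nat.card_perm, Nat.card_eq_fintype_card (α := α), hα] at h1
    exact hP (normalizer_eq_top_iff.mp (eq_top_of_le_card _ (hN ▸ Nat.le_of_dvd (by decide) h1))))
  obtain ⟨X, ζ, b, δ, B⟩ := exists_PBl P
  have h1 : classInner (permChar α) (fun _ : G => 1) = 1 := by rw [permChar_eq_indFun a, ip_indFun_one_one]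
  obtain ⟨χ, h2, h3, h4⟩ := B.two hC hO he p3 hP (isChar_permChar.sub_constituent isIrr_one (h1.trans_ne one_ne_zero))
    (d := p - 1) (by simp [permChar, hα, hp'.pos]) (by omega) (fun y hy y1 => by
      simp [permChar, Set.eq_empty_of_forall_notMem (s := fixedBy α y) (fr y hy y1)])
    (by rw [CfsgH3.inner_sub_left, h1, isIrr_one.inner_self, sub_self])
  obtain ⟨m, h5, -, h6⟩ := B.ito hC hO he p3 h2 h3 (h4.elim (·.1) fun h => by
    have := congrFun h 1
    rw [deg_spec] at this
    exact_mod_cast this.symm.trans (by simp [permChar, hα, hp'.pos] : _ = ((p - 1 : ℕ) : ℂ)))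
  have hK := GaloisField.card 2 m (by rintro rfl; omega)
  letI := Fintype.ofFinite (GaloisField 2 m)
  obtain ⟨e⟩ := h6 _ hK
  obtain ⟨e'⟩ := psl_equiv_sl _ (two_eq_zero_of_card hK)
  exact ⟨m, GaloisField 2 m, inferInstance, inferInstance, h5, by rw [← Nat.card_eq_fintype_card, hK], ⟨e.trans e'⟩⟩

end Cfsg.Agent.S4706
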