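import Cfsg.Statements.S4707
import Mathlib
import Cfsg.Agent.H8.Def3d
import Cfsg.Agent.S0494
import Cfsg.Agent.S0157
import Cfsg.Agent.H5.LinMat

set_option autoImplicit false
open Cfsg

namespace Cfsg.Agent.S4707

open CfsgH8 CfsgH3 Subgroup MulAction

/-- Let p > 3 be a prime and G a primitive permutation group of degree 2p that is not doubly transitive. If a Sylow p-subgroup of G has normalizer of order 2p, then p = 5 and G is isomorphic to the alternating group of degree 5. -/
theorem result {α : Type*} [Fintype α] [DecidableEq α] {p : ℕ} [Fact p.Prime] (hp : 3 < p) (hα : Fintype.card α = 2 * p) (G : Subgroup (Equiv.Perm α)) (hprim : MulAction.IsPreprimitive G α) (hnot2 : ¬ MulAction.IsMultiplyPretransitive G α 2) (P : Sylow p G) (hN : Nat.card (Subgroup.normalizer ((P : Subgroup G) : Set G)) = 2 * p) : p = 5 ∧ Nonempty (G ≃* alternatingGroup (Fin 5)) := by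
  have := Fintype.ofFinite G
  have hp' : p.Prime := Fact.out
  have : Nonempty α := Fintype.card_pos_iff.mp (by omega)
  obtain ⟨a⟩ := this
  rw [← Nat.card_eq_fintype_card] at hα
  have hd : ∀ N : Subgroup G, N.Normal → N ≠ ⊥ → 2 * p ∣ Nat.card N := fun N _ h => by
    have := trans_of_normal' hprim N h
    exact ((index_stabilizer_of_transitive N a).trans hα).symm.dvd.trans (index_dvd_card _)
  have hO : ∀ N : Subgroup G, N.Normal → ¬ p ∣ Nat.card N → N = ⊥ := fun N _ h => by_contra fun h' =>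
    h ((dvd_mul_left p 2).trans (hd N ‹_› h'))
  have c1 := card_mul_index (stabilizer G a)
  rw [index_stabilizer_of_transitive, hα] at c1
  have hpG : p ∣ Nat.card G := ⟨Nat.card (stabilizer G a) * 2, by rw [← c1]; ring⟩
  have : O1 P := ⟨by
    obtain ⟨k, hk⟩ := IsPGroup.iff_card.mp P.isPGroup'
    have h2 : p ^ k ∣ 2 * p := hk ▸ hN ▸ card_dvd_of_le le_normalizer
    rcases k with _ | _ | k
    · exact (P.ne_bot_of_dvd_card hpG (card_eq_one.mp hk)).elim
    · simpa using hk
    · rw [pow_succ, Nat.mul_dvd_mul_iff_right hp'.pos] at h2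
      have := Nat.le_of_dvd two_pos ((dvd_pow_self p (by omega)).trans h2)
      omega⟩
  have hP : ¬ P.1.Normal := fun h => by
    have := Nat.le_of_dvd hp'.pos ((hd _ h (P.ne_bot_of_dvd_card hpG)).trans (O1.card (P := P)).dvd); omega
  have c2 := card_NP (P := P)
  have c3 : fN P ≠ 1 := fun h => by
    have h1 := MonoidHom.ker_transferSylow_isComplement' P (relIndex_eq_one.mp h)
    have h2 := h1.index_eq_card
    rw [hO (MonoidHom.ker _) inferInstance fun h => P.not_dvd_index (h.trans h2.symm.dvd), card_bot, index_eq_one] at h2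
    exact hP (h2 ▸ inferInstance)
  obtain ⟨c, c4⟩ : p ∣ Nat.card (CP P) := (O1.card (P := P)).symm.dvd.trans (card_dvd_of_le (O1.le_C P))
  have c5 : c * fN P = 2 := Nat.eq_of_mul_eq_mul_left hp'.pos (by rw [← mul_assoc, ← c4, ← c2, mul_comm]; exact hN)
  have he : fN P = 2 := ((Nat.dvd_prime Nat.prime_two).mp (Dvd.intro_left _ c5)).resolve_left c3
  have hC : CP P ≤ P := (eq_of_le_of_card_ge (O1.le_C P) (by rw [c4, O1.card, show c = 1 by rw [he] at c5; omega]; simp)).ge
  have fr : ∀ y ∈ P.1, y ≠ 1 → ∀ a : α, y • a ≠ a := fun y hy y1 b e => by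
    have h1 := card_mul_index (stabilizer G b)
    obtain ⟨k, hk⟩ := ord_of_mem hy y1 ▸ orderOf_dvd_natCard (stabilizer G b) e
    rw [index_stabilizer_of_transitive, hα, hk, ← card_mul_index P.1, O1.card, mul_assoc,
      Nat.mul_right_inj hp'.ne_zero] at h1
    exact P.not_dvd_index ⟨k * 2, by rw [← h1]; ring⟩
  obtain ⟨X, ζ, b, δ, B⟩ := exists_PBl P
  have h1 : classInner (permChar α) (fun _ : G => 1) = 1 := by rw [permChar_eq_indFun a, ip_indFun_one_one]
  obtain ⟨χ, h2, h3, h4⟩ := B.two hC hO he hp hP (isChar_permChar.sub_constituent isIrr_one (h1.trans_ne one_ne_zero))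
    (d := 2 * p - 1) (by simp [permChar, ← hα, Nat.cast_pred (Fintype.card_pos_iff.mpr ⟨a⟩)]) (by omega)
    (fun y hy y1 => by simp [permChar, Set.eq_empty_of_forall_notMem (s := fixedBy α y) (fr y hy y1)])
    (by rw [CfsgH3.inner_sub_left, h1, isIrr_one.inner_self, sub_self])
  obtain ⟨m, h5, h6, h7⟩ := B.ito hC hO he hp h2 h3 (h4.resolve_right fun h =>
    hnot2 ((Cfsg.Agent.S0157.result α (by omega)).mp (by convert χ.2 using 1; exact h))).1
  obtain ⟨k, rfl⟩ : ∃ k, m = k + 1 := ⟨m - 1, by rcases m with _ | m <;> simp at h5 ⊢; omega⟩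
  have hK := GaloisField.card 2 (k + 1) (by omega)
  obtain ⟨e⟩ := h7 _ hK
  obtain ⟨e'⟩ := psl_equiv_sl _ (two_eq_zero_of_card hK)
  have h8 := le_one_of_sq_of_comm (H := stabilizer G a) (k := k) (fun t g h1 h2 h3 => Subtype.ext ((e.trans e').injective (by
    simpa using sl2_sq_of_comm (two_eq_zero_of_card hK) (t := e.trans e' t) (g := e.trans e' g)
      (by rw [← map_mul, ← coe_mul, h1]; simp) (by simpa using h2) (by rw [← map_mul, ← map_mul, ← coe_mul, h3, coe_mul]))))
    (Nat.eq_of_mul_eq_mul_right (show 0 < 2 * p by omega) (by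
      rw [c1, h6, show p - 1 = 2 ^ k * 2 by omega, show p - 2 = 2 ^ (k + 1) - 1 by omega]; ring))
  obtain rfl : p = 5 := by interval_cases k <;> omega
  letI := Fintype.ofFinite (GaloisField 2 (k + 1))
  have := CfsgH5.isSimple_PSL (ι := Fin 2) (F := GaloisField 2 (k + 1)) (Or.inr (by
    obtain ⟨x, hx⟩ := IsCyclic.exists_ofOrder_eq_natCard (α := (GaloisField 2 (k + 1))ˣ)
    refine ⟨x, x.ne_zero, fun h => ?_⟩
    have := Nat.le_of_dvd two_pos (orderOf_dvd_of_pow_eq_one (Units.ext h : x ^ 2 = 1))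
    rw [hx, Nat.card_units, hK] at this
    omega))
  have := e.isSimpleGroup
  exact ⟨rfl, Cfsg.Agent.S0494.result h6⟩

end Cfsg.Agent.S4707
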