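import Cfsg.Statements.S4708
import Cfsg.Agent.H4.Rob2
import Cfsg.Agent.S4432

set_option autoImplicit false
open Cfsg

namespace Cfsg.Agent.S4708

open CfsgH4 CfsgH3 CfsgH2 MonoidAlgebra

/-- Let p be a prime, M a maximal ideal of the algebraic integers containing p, G a finite group and H a normal subgroup. Write λ(X) for the sum of the squares of the degrees of the irreducible characters in the principal p-block of a group X. Then λ(H) ≤ λ(G) ≤ [G : H]·λ(H). -/
theorem result {G : Type*} [Group G] [Finite G] (p : ℕ) [Fact p.Prime] (M : Ideal Cfsg.AlgInt) (hM : Cfsg.IsPModular p M) (H : Subgroup G) [H.Normal] : (∑ᶠ θ ∈ Cfsg.principalBlock M H, Cfsg.charDegree (θ : H → ℂ) ^ 2) ≤ (∑ᶠ χ ∈ Cfsg.principalBlock M G, Cfsg.charDegree (χ : G → ℂ) ^ 2) ∧ (∑ᶠ χ ∈ Cfsg.principalBlock M G, Cfsg.charDegree (χ : G → ℂ) ^ 2) ≤ H.index * ∑ᶠ θ ∈ Cfsg.principalBlock M H, Cfsg.charDegree (θ : H → ℂ) ^ 2 := by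
  classical
  have := hM.2.1
  have := charP_of_isPModular hM
  have := Fintype.ofFinite G
  have := Fintype.ofFinite H
  have hb := isPBlock_principal (M := M) (G := H)
  have hB := isPBlock_principal (M := M) (G := G)
  choose m hm hm' using fun χ : IrrCharacter G => (χ.2.isChar.restrict H).exists_coeff
  have hdeg : ∀ χ : IrrCharacter G, charDegree χ.1 = ∑ θ, m χ θ * charDegree θ.1 := fun χ => by
    have := congrFun (hm' χ) 1
    simp only [Finset.sum_apply, Pi.smul_apply, smul_eq_mul, OneMemClass.coe_one,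
      ← coe_charDegree χ.2.isChar] at this
    refine Nat.cast_injective (R := ℂ) (this.trans ?_)
    push_cast
    exact Finset.sum_congr rfl fun θ _ => by rw [coe_charDegree θ.2.isChar]
  have hcov : ∃ χ ∈ principalBlock M G, ∃ θ ∈ principalBlock M H,
      classInner (fun n : H => χ.1 n) θ.1 ≠ 0 :=
    ⟨_, one_mem_principal, _, one_mem_principal, by rw [isIrr_one.inner_self]; exact one_ne_zero⟩
  rw [finsum_mem_irr, finsum_mem_irr]
  constructor
  · calc ∑ θ ∈ irrF (principalBlock M H), charDegree θ.1 ^ 2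
        ≤ ∑ θ ∈ irrF (principalBlock M H), ∑ χ ∈ irrF (principalBlock M G),
          charDegree χ.1 * (m χ θ * charDegree θ.1) := by
          refine Finset.sum_le_sum fun θ hθ => ?_
          obtain ⟨χ, h1, h2⟩ := Cfsg.Agent.S4432.result p M hM H _ hB _ hb hcov θ (mem_irrF.1 hθ)
          refine le_trans ?_ (Finset.single_le_sum (f := fun χ : IrrCharacter G =>
            charDegree χ.1 * (m χ θ * charDegree θ.1)) (fun _ _ => Nat.zero_le _) (mem_irrF.2 h1))
          have h3 : 1 ≤ m χ θ := Nat.one_le_iff_ne_zero.2 fun h => h2 (by rw [hm, h]; simp)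
          have h4 := (χ.2.isChar.restrict H).deg_le_of_constituent θ.2 h2
            (coe_charDegree χ.2.isChar).symm (coe_charDegree θ.2.isChar).symm
          rw [sq]
          exact Nat.mul_le_mul h4 (Nat.le_mul_of_pos_left _ h3)
      _ ≤ ∑ θ, ∑ χ ∈ irrF (principalBlock M G), charDegree χ.1 * (m χ θ * charDegree θ.1) :=
          Finset.sum_le_sum_of_subset (Finset.subset_univ _)
      _ = _ := by
          rw [Finset.sum_comm]
          exact Finset.sum_congr rfl fun χ _ => by rw [← Finset.mul_sum, ← hdeg, sq]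
  · have h1 : eSetS H (principalBlock M H) ∈ Fix ℂ (⊤ : Subgroup G) :=
      eSetS_mem_Fix_of_le hb le_normalizer_top fun g _ => cjA_principal (cj_eq_of_normal g H)
    obtain ⟨A, hA⟩ := exists_eSet_of_idem h1 (eSetS_idem _ _)
    have h2 : principalBlock M G ⊆ A := by
      have h3 := eSet_mul_eq_of_bId (eSet_mem_SG hB) (eSet_mem_SG hb) ((isPrim_bId hB).mul_eq_self
        (by rw [← redA_eSetS]; exact redA_mem_Ztop h1) (isPrim_bIdS hb).idem ((cover_iff hB hb).1 hcov))
      rw [← hA, eSet_mul_eSet] at h3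
      exact Set.inter_eq_left.1 (eSet_injective h3)
    refine (Finset.sum_le_sum_of_subset (t := irrF A) fun χ h => mem_irrF.2 (h2 (mem_irrF.1 h))).trans
      (le_of_eq (Nat.cast_injective (R := ℂ) ?_))
    have h3 := congrArg (fun a : ℂ[G] => a.coeff (1 : H)) hA
    simp only [coeff_eSetS_coe] at h3
    simp only [coeff_eSet, blockCoeff_eq, OneMemClass.coe_one] at h3
    have h4 := card_ne_zero_complex H
    have h5 : (H.index : ℂ) ≠ 0 := by exact_mod_cast Subgroup.index_ne_zero_of_finite
    rw [card_eq_card_mul_index H, mul_inv, mul_assoc, mul_right_inj' (inv_ne_zero h4),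
      inv_mul_eq_iff_eq_mul₀ h5] at h3
    push_cast
    refine Eq.trans (Finset.sum_congr rfl fun χ _ => ?_) (h3.trans (congrArg _
      (Finset.sum_congr rfl fun χ _ => ?_)))
    all_goals rw [χ.2.isChar.conj_one, coe_charDegree χ.2.isChar, sq]

end Cfsg.Agent.S4708
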