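import Cfsg.Statements.S4710
import Cfsg.Agent.H4.Reg2

set_option autoImplicit false
open Cfsg

namespace Cfsg.Agent.S4710

open CfsgH4 CfsgH3 CfsgH2 MonoidAlgebra

/-- Let p be a prime, M a maximal ideal of the algebraic integers containing p, and B a p-block of defect d of the finite group G containing k irreducible characters. If B contains a character of positive height then 2k ≤ p^(2d − 2); and every character in B has height 0 when d ≤ 1 and height at most d − 2 when d ≥ 2. -/
theorem result {G : Type*} [Group G] [Finite G] (p : ℕ) [Fact p.Prime] (M : Ideal Cfsg.AlgInt) (hM : Cfsg.IsPModular p M) (B : Set (Cfsg.IrrCharacter G)) (hB : Cfsg.IsPBlock M B) (d : ℕ) (hd : Cfsg.blockDefect p B = d) : ((∃ χ ∈ B, 0 < Cfsg.blockHeight p B (χ : G → ℂ)) → 2 * Nat.card B ≤ p ^ (2 * d - 2)) ∧ ∀ χ ∈ B, (d ≤ 1 → Cfsg.blockHeight p B (χ : G → ℂ) = 0) ∧ (2 ≤ d → Cfsg.blockHeight p B (χ : G → ℂ) ≤ d - 2) := by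
  have := hM.2.1
  have := charP_of_isPModular hM
  subst hd
  refine ⟨?_, fun χ hχ => ?_⟩
  · classical
    rintro ⟨χ, hχ, h⟩
    have h1 := four_mul_card_pos_height_le (p := p) hB
    have h2 := four_mul_card_height_zero_le (p := p) hB hχ h.ne'
    have h3 := height_add_two_le hB hχ h.ne'
    have h4 := Finset.card_filter_add_card_filter_not (s := irrF B)
      (fun χ => blockHeight p B χ.1 = 0)
    rw [card_irrF] at h4
    have h5 : p ^ (2 * blockDefect p B) = p ^ 2 * p ^ (2 * blockDefect p B - 2) := by
      rw [← pow_add]; congr 1; omega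
    rw [h5] at h1 h2
    have h6 : 0 < p ^ 2 := pow_pos (Fact.out : p.Prime).pos 2
    rw [← h4]
    simp only [ne_eq] at h1
    refine Nat.le_of_mul_le_mul_left ?_ h6
    nlinarith
  · have := height_add_two_le (p := p) hB hχ
    constructor <;> intro h <;> by_contra h' <;> have := this (by omega) <;> omega

end Cfsg.Agent.S4710
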