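import Cfsg.Statements.S4714
import Cfsg.Agent.H4.DC

set_option autoImplicit false
open Cfsg

namespace Cfsg.Agent.S4714

open CfsgH4 CfsgH3 CfsgH2 MonoidAlgebra

/-- Let p be a prime, M a maximal ideal of the algebraic integers containing p, D a p-subgroup of the finite group G with G = D·C_G(D), and B a p-block with defect group D. Let χ be a member of B having D in its kernel (there is exactly one, the canonical character of B). Then the irreducible characters in B are exactly the functions θ on G for which there is an irreducible character ζ of D such that θ(yx) = ζ(y)χ(x) whenever y ∈ D, x has order prime to p and x commutes with y, and θ(z) = 0 whenever the p-part of z does not lie in D. -/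
theorem result {G : Type*} [Group G] [Finite G] (p : ℕ) [Fact p.Prime] (M : Ideal Cfsg.AlgInt) (hM : Cfsg.IsPModular p M) (D : Subgroup G) (hD : IsPGroup p D) (hG : D ⊔ Subgroup.centralizer (D : Set G) = ⊤) (B : Set (Cfsg.IrrCharacter G)) (hB : Cfsg.IsPBlock M B) (hBD : Cfsg.IsDefectGroup p M B D) (χ : Cfsg.IrrCharacter G) (hχ : χ ∈ B) (hχD : ∀ y ∈ D, (χ : G → ℂ) y = (χ : G → ℂ) 1) : (∀ θ : Cfsg.IrrCharacter G, θ ∈ B ↔ ∃ ζ : Cfsg.IrrCharacter D, (∀ (y : D) (x : G), ¬ p ∣ orderOf x → Commute (y : G) x → (θ : G → ℂ) ((y : G) * x) = (ζ : D → ℂ) y * (χ : G → ℂ) x) ∧ (∀ z : G, (∀ y : G, Cfsg.IsPPart p z y → y ∉ D) → (θ : G → ℂ) z = 0)) ∧ ∀ ζ : Cfsg.IrrCharacter D, ∃ θ ∈ B, (∀ (y : D) (x : G), ¬ p ∣ orderOf x → Commute (y : G) x → (θ : G → ℂ) ((y : G) * x) = (ζ : D → ℂ) y * (χ : G → ℂ) x) ∧ (∀ z : G, (∀ y : G, Cfsg.IsPPart p z y → y ∉ D) → (θ : G → ℂ) z = 0) := by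
  have := hM.2.1
  have := charP_of_isPModular hM
  have h := (isDefectGroup_iff hB).1 hBD
  have h0 := height_zero_of_ker hG hB h hχ hχD
  have key : ∀ (θ : IrrCharacter G) (ζ : IrrCharacter D), θ.1 = twp p ζ.1 χ.1 ↔
      (∀ (y : D) (x : G), ¬ p ∣ orderOf x → Commute (y : G) x → θ.1 (y * x) = ζ.1 y * χ.1 x) ∧
        ∀ z : G, (∀ y : G, IsPPart p z y → y ∉ D) → θ.1 z = 0 := fun θ ζ => by
    constructor
    · intro e
      rw [e]
      refine ⟨fun y x hx _ => twp_apply hG hD y hx, fun z hz => ?_⟩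
      obtain ⟨y, hy⟩ := exists_isPPart p z
      exact vanD_twp z y hy (hz y hy)
    · rintro ⟨a, b⟩
      refine VanD.ext (D := D) (p := p) (fun g x hx h1 => b g fun y hy => ?_) vanD_twp
        fun y x hx hc => by rw [a y x hx hc, twp_apply hG hD y hx]
      rwa [isPPart_unique hy hx]
  refine ⟨fun θ => (mem_iff_twp hG hB h hχ h0).trans (exists_congr fun ζ => key θ ζ), fun ζ => ?_⟩
  obtain ⟨θ, h1, h2⟩ := exists_twp hG hB h hχ h0 ζ
  exact ⟨θ, h1, (key θ ζ).1 h2⟩

end Cfsg.Agent.S4714
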