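import Cfsg.Statements.S4715
import Cfsg.Agent.H4.Star3

set_option autoImplicit false
open Cfsg

namespace Cfsg.Agent.S4715

open CfsgH4 CfsgH3 CfsgH2 MonoidAlgebra

/-- Let p be a prime, M a maximal ideal of the algebraic integers containing p, B a p-block of the finite group G with defect group D of order p^d, H = D·C_G(D), b a block of H inducing B, T the stabilizer of b in N_G(D) and e = [T : H] the inertial index of B; let n be the integer with p^n ≤ e < p^(n+1) and p^c the order of the centre of D. Then every irreducible character in B has height h with h + c ≤ n + d. -/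
theorem result {G : Type*} [Group G] [Finite G] (p : ℕ) [Fact p.Prime] (M : Ideal Cfsg.AlgInt) (hM : Cfsg.IsPModular p M) (B : Set (Cfsg.IrrCharacter G)) (hB : Cfsg.IsPBlock M B) (D : Subgroup G) (hBD : Cfsg.IsDefectGroup p M B D) (d : ℕ) (hDd : Nat.card D = p ^ d) (H : Subgroup G) (hH : H = D ⊔ Subgroup.centralizer (D : Set G)) (b : Set (Cfsg.IrrCharacter H)) (hind : Cfsg.IsInducedBlock M H b B) (T : Subgroup G) (hT : ∀ g : G, g ∈ T ↔ (g ∈ Subgroup.normalizer (D : Set G) ∧ ∀ θ ∈ b, ∀ θ' : Cfsg.IrrCharacter H, (∀ h h' : H, (h' : G) = g * h * g⁻¹ → (θ' : H → ℂ) h' = (θ : H → ℂ) h) → θ' ∈ b)) (e : ℕ) (he : H.relIndex T = e) (n : ℕ) (hn : p ^ n ≤ e ∧ e < p ^ (n + 1)) (c : ℕ) (hc : Nat.card (Subgroup.center D) = p ^ c) : ∀ χ ∈ B, Cfsg.blockHeight p B (χ : G → ℂ) + c ≤ n + d := by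
  have := hM.2.1
  have := charP_of_isPModular hM
  have := Fintype.ofFinite G
  have := Fintype.ofFinite D
  subst hH
  have hD := (isDefectGroup_iff hB).1 hBD
  have hN : D ⊔ Subgroup.centralizer (D : Set G) ≤ Subgroup.normalizer (D : Set G) :=
    sup_le Subgroup.le_normalizer (Subgroup.centralizer_le_normalizer _)
  have hm : MP p ⊤ (bId M B) D (bIdS M _ b) := ⟨isPrim_bId hB,
    bp_of_sup hD.pgroup (isPrim_bIdS hind.1), (ind_iff_mul_Br hD.pgroup le_sup_left
      (inf_le_right.trans le_sup_right) le_top hN (isPrim_bIdS hind.1) (isPrim_bId hB)).1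
        (ind_of_isInducedBlock hind), hD⟩
  obtain rfl : T = Subgroup.normalizer (D : Set G) ⊓ stabA (bIdS M _ b) := by
    ext g
    rw [hT, Subgroup.mem_inf]
    refine and_congr_right fun hg => (mem_stabA_iff_forall hind.1 ?_).symm
    rw [← cj_eq_iff_mem_normalizer] at hg ⊢
    rw [cj_sup, cj_centralizer, hg]
  intro χ hχ
  have h1 := hm.card_center_le hB hχ
  have h2 := defect_eq_height_add (p := p) hχ
  have h3 := Nat.pow_right_injective (Fact.out : p.Prime).two_le
    (hDd.symm.trans (card_isDef hB hD))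
  rw [hc, he] at h1
  have h4 := h1.trans_lt (Nat.mul_lt_mul_of_pos_left hn.2 (pow_pos (Fact.out : p.Prime).pos _))
  rw [← pow_add, Nat.pow_lt_pow_iff_right (Fact.out : p.Prime).one_lt] at h4
  omega

end Cfsg.Agent.S4715
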