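import Cfsg.Statements.S4720
import Mathlib
import Cfsg.Agent.H8.Def1f

set_option autoImplicit false
open Cfsg

namespace Cfsg.Agent.S4720

open CfsgH8 CfsgH4 CfsgH2 CfsgH3

/-- Let p be a prime, M a maximal ideal of the algebraic integers containing p, P a p-subgroup of the finite group G, N a subgroup with P ≤ N ≤ N_G(P), and U a nonempty subset of P normalized by N such that an element of U and an element of P that are conjugate in G are already conjugate in N, and such that λ(C_G(y)) = w·#C_N(y) for every y ∈ U with one rational number w, where λ(X) denotes the sum of the squares of the degrees of the irreducible characters in the principal p-block of X. For a complex function θ on P and χ in the principal block of G put a_χ(θ) = #P⁻¹ Σ_{y ∈ P} χ(y) θ(y⁻¹). Then for generalized characters θ, η of P with θ vanishing outside U, Σ_χ a_χ(θ)·conj(a_χ(η)) = (w/#P²)·Σ_{y ∈ P} θ(y)·conj(Σ_{x ∈ N} η(x y x⁻¹)) (η extended by zero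 off P; the conjugates lie in P), the first sum over the principal p-block of G. -/
theorem result {G : Type*} [Group G] [Finite G] (p : ℕ) [Fact p.Prime] (M : Ideal Cfsg.AlgInt) (hM : Cfsg.IsPModular p M) (P : Subgroup G) (hP : IsPGroup p P) (N : Subgroup G) (hPN : P ≤ N) (hNN : N ≤ Subgroup.normalizer (P : Set G)) (U : Set G) (hUne : U.Nonempty) (hUP : U ⊆ (P : Set G)) (hUN : ∀ n ∈ N, ∀ u ∈ U, n * u * n⁻¹ ∈ U) (hfus : ∀ u ∈ U, ∀ g : G, g * u * g⁻¹ ∈ (P : Set G) → ∃ n ∈ N, n * u * n⁻¹ = g * u * g⁻¹) (w : ℚ) (hw : ∀ y ∈ U, ((∑ᶠ ψ ∈ Cfsg.principalBlock M ↥(Subgroup.centralizer ({y} : Set G)), Cfsg.charDegree (ψ : ↥(Subgroup.centralizer ({y} : Set G)) → ℂ) ^ 2) : ℚ) = w * Nat.card ↥(N ⊓ Subgroup.centralizer ({y} : Set G))) (θ η : ↥P → ℂ) (hθ : Cfsg.IsGeneralizedCharacter ↥P θ) (hη : Cfsg.IsGeneralizedCharacter ↥P η) (hθU : ∀ y : ↥P, (y : G) ∉ U → θ y = 0) : ∑ᶠ χ ∈ Cfsg.principalBlock M G, ((Nat.card ↥P : ℂ)⁻¹ * ∑ᶠ y : ↥P, (χ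 : G → ℂ) (y : G) * θ y⁻¹) * (starRingEnd ℂ) ((Nat.card ↥P : ℂ)⁻¹ * ∑ᶠ y : ↥P, (χ : G → ℂ) (y : G) * η y⁻¹) = ((w : ℂ) / ((Nat.card ↥P : ℂ) ^ 2)) * ∑ᶠ y : ↥P, θ y * (starRingEnd ℂ) (∑ᶠ x : ↥N, Cfsg.extendByZero P η ((x : G) * (y : G) * (x : G)⁻¹)) := by
  classical
  have := Fintype.ofFinite G
  have := hM.2.1
  have := charP_of_isPModular hM
  have key := gram (eSet_mem_SG (M := M) isPBlock_principal) hP hPN hfus (c := w) (fun y hy => by
    rw [sum_normSq_principal' (by simpa using IsPGroup.iff_orderOf.mp hP ⟨y, hUP hy⟩)]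
    have := congrArg (fun q : ℚ => (q : ℂ)) (hw y hy)
    simpa [finsum_mem_irr] using this) θ (fun v => (starRingEnd ℂ) (η v)) hθU
  rw [finsum_mem_irr]
  simp only [finsum_eq_sum_of_fintype, map_mul, map_sum, map_inv₀, map_natCast]
  have e : ∀ g, extendByZero P (fun v => (starRingEnd ℂ) (η v)) g = (starRingEnd ℂ) (extendByZero P η g) := fun g => by
    by_cases h : g ∈ P
    · exact (ext0_coe P _ ⟨g, h⟩).trans (congrArg _ (ext0_coe P η ⟨g, h⟩).symm)
    · simp [ext0_of_not_mem _ _ h]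
  simp only [e] at key
  rw [div_eq_inv_mul, mul_assoc, ← key, Finset.mul_sum (s := irrF _)]
  refine Finset.sum_congr rfl fun χ hχ => ?_
  obtain ⟨n, hn⟩ := (χ.2.isChar.restrict P).isGen.inner_int hη
  have h1 : (Nat.card P : ℂ)⁻¹ * ∑ v : P, (starRingEnd ℂ) (η v) * χ.1 v = n := by
    rw [← hn, classInner]; simp [mul_comm]
  have h2 : (Nat.card P : ℂ)⁻¹ * ∑ v : P, (starRingEnd ℂ) (χ.1 v) * (starRingEnd ℂ) (η v⁻¹) = n := by
    rw [← map_intCast (starRingEnd ℂ), ← h1]; simp [hη.apply_inv, mul_comm]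
  rw [h2, ← Equiv.sum_comp (Equiv.inv P), ← h1]
  simp [mul_comm, mul_left_comm, mul_assoc, pow_two]

end Cfsg.Agent.S4720
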