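import Cfsg.Statements.S4721
import Mathlib
import Cfsg.Agent.H8.Def1f

set_option autoImplicit false
open Cfsg

namespace Cfsg.Agent.S4721

open CfsgH8 CfsgH4 CfsgH2 CfsgH3 CfsgH3.IP Subgroup

theorem sq_lemma {x1 x2 x3 : ℕ} (p1 : 0 < x1) (p2 : 0 < x2) (p3 : 0 < x3) {y1 y2 y3 : ℤ}
    (h1 : (1 : ℂ) + x1 - x2 - x3 = 0) (h2 : (1 : ℂ) + y1 - y2 - y3 = 0)
    (h3 : (1 : ℂ) + y1 ^ 2 / x1 - y2 ^ 2 / x2 - y3 ^ 2 / x3 = 0) (h : (y1 : ℂ) ≠ x1) : IsSquare (x1 * x2 * x3) := by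
  have q1 : (x1 : ℂ) ≠ 0 := by exact_mod_cast p1.ne'
  have q2 : (x2 : ℂ) ≠ 0 := by exact_mod_cast p2.ne'
  have q3 : (x3 : ℂ) ≠ 0 := by exact_mod_cast p3.ne'
  have q4 : (x1 : ℚ) - y1 ≠ 0 := fun e => h (by exact_mod_cast (sub_eq_zero.mp e).symm)
  have e1 : (x1 : ℂ) = x2 + x3 - 1 := by linear_combination h1
  have e2 : (y1 : ℂ) = y2 + y3 - 1 := by linear_combination h2
  field_simp at h3
  have h4 : ((x1 : ℂ) - y1) ^ 2 * x2 * x3 = x1 * (y2 * x3 - y3 * x2) ^ 2 := by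
    rw [e1, e2] at h3 ⊢; linear_combination (x2 + x3) * h3
  have h5 : ((x1 : ℚ) - y1) ^ 2 * x2 * x3 = x1 * (y2 * x3 - y3 * x2) ^ 2 := by exact_mod_cast h4
  refine Rat.isSquare_natCast_iff.mp ⟨x1 * (y2 * x3 - y3 * x2) / (x1 - y1), ?_⟩
  push_cast; field_simp; linear_combination h5

variable {G : Type*} [Group G] [Fintype G] {p : ℕ} [hp : Fact p.Prime] {P : Sylow p G}

theorem lemA (A : AF P) (hm : (centralizer (P.1 : Set G)).relIndex (normalizer (P.1 : Set G)) = 3) {y t : G}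
    (hy : y ∈ P.1) (h1 : y ≠ 1) (h : t * y * t⁻¹ = y⁻¹) : y⁻¹ = y := by
  obtain ⟨n, ⟨-, hn⟩, e⟩ := conj_in_normalizer_of_comm (IsSylowIn.of_sylow P le_top) A.ab hy (mem_top t)
    (h ▸ inv_mem hy)
  rw [h] at e
  have h2 : n ^ 2 ∈ centralizer (P.1 : Set G) := (A.frob y hy h1).le ⟨mem_centralizer_singleton_iff.mpr (by
    rw [← mul_inv_eq_iff_eq_mul, show n ^ 2 * y * (n ^ 2)⁻¹ = n * (n * y * n⁻¹) * n⁻¹ by simp [pow_two, mul_assoc], e,
      ← conj_inv, e, inv_inv]), pow_mem hn 2⟩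
  have h3 : n ^ 3 ∈ centralizer (P.1 : Set G) := hm ▸ ((centralizer (P.1 : Set G)).subgroupOf _).pow_index_mem ⟨n, hn⟩
  have h4 : n ∈ centralizer (P.1 : Set G) := by simpa [pow_succ n 2] using mul_mem (inv_mem h2) h3
  rw [← e, ← h4 y hy, mul_inv_cancel_right]

theorem lemB (A : AF P) {y x1 x2 : G} (hy : y ∈ P.1) (h1 : y ≠ 1) (c1 : x1 ∈ centralizer {y})
    (c2 : x2 ∈ centralizer {y}) (o1 : ∃ k, orderOf x1 = p ^ k) (o2 : ∃ k, orderOf x2 = p ^ k)
    (h : IsPPart p (x1 * x2) y) : ∃ s1 ∈ P.1, ∃ s2 ∈ P.1, IsConj x1 s1 ∧ IsConj x2 s2 ∧ y ∈ zpowers (s1 * s2) := by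
  let Q := P.subtype (A.le_cent hy)
  have h2 : normalizer ((Q : Subgroup (centralizer ({y} : Set G))) : Set (centralizer ({y} : Set G))) ≤
      centralizer ((Q : Subgroup (centralizer ({y} : Set G))) : Set (centralizer ({y} : Set G))) := fun g hg w hw => by
    have : (g : G) ∈ normalizer ((P : Subgroup G) : Set G) := mem_normalizer_fintype fun z hz =>
      (mem_normalizer_iff.mp hg ⟨z, A.le_cent hy hz⟩).mp hz
    exact Subtype.ext ((A.frob y hy h1).le ⟨g.2, this⟩ w hw)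
  let f := MonoidHom.transferSylow Q h2
  have key : ∀ x : centralizer ({y} : Set G), (∃ k, orderOf (x : G) = p ^ k) → ∃ s ∈ Q.1, IsConj x s ∧ f s = f x :=
    fun x ⟨k, hk⟩ => by
      obtain ⟨R, hR⟩ := (isPGroup_zpowers_of_orderOf (x := x) (by rw [← hk, orderOf_coe])).exists_le_sylow
      obtain ⟨c, rfl⟩ := MulAction.exists_smul_eq (centralizer ({y} : Set G)) Q R
      refine ⟨c⁻¹ * x * c⁻¹⁻¹, by simpa using mem_pointwise_smul_iff_inv_smul_mem.mp (hR (mem_zpowers x)),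
        isConj_iff.mpr ⟨_, rfl⟩, ?_⟩
      rw [map_mul, map_mul, show f c⁻¹ * f x = f x * f c⁻¹ from Subtype.ext (h2 (le_normalizer (f x).2) _ (f _).2)]
      simp
  obtain ⟨s1, a1, b1, d1⟩ := key ⟨x1, c1⟩ o1
  obtain ⟨s2, a2, b2, d2⟩ := key ⟨x2, c2⟩ o2
  obtain ⟨k, hk⟩ := isPPart_mem_zpowers h
  refine ⟨s1, a1, s2, a2, (centralizer {y}).subtype.map_isConj b1, (centralizer {y}).subtype.map_isConj b2, k, ?_⟩
  have h3 : ((s1 * s2) ^ k)⁻¹ * ⟨y, A.le_cent hy hy⟩ ∈ f.ker ⊓ Q.1 := mem_inf.mpr ⟨by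
    rw [show (⟨y, A.le_cent hy hy⟩ : centralizer ({y} : Set G)) = (⟨x1, c1⟩ * ⟨x2, c2⟩) ^ k from Subtype.ext hk.symm,
      MonoidHom.mem_ker, map_mul, map_inv, map_zpow, map_zpow, map_mul, map_mul, d1, d2, inv_mul_cancel],
    mul_mem (inv_mem (zpow_mem (mul_mem a1 a2) k)) hy⟩
  rw [(MonoidHom.ker_transferSylow_disjoint Q h2 Q Q.isPGroup').eq_bot, mem_bot, inv_mul_eq_one] at h3
  exact congrArg Subtype.val h3

theorem lemC (A : AF P) (hm : (centralizer (P.1 : Set G)).relIndex (normalizer (P.1 : Set G)) = 3)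
    (h4 : 3 + 1 < Nat.card P) {t : G} (ht : orderOf t = 2) :
    ∃ ψ : P.1 →* ℂˣ, ψ ≠ 1 ∧ ∀ s : P.1, IsConj t s → ψ s = 1 := by
  classical
  have := A.ab
  have hc := card_hom_comm (A := P.1)
  by_cases h : ∃ s : P.1, IsConj t s
  swap
  · have : Nontrivial (P.1 →* ℂˣ) := Fintype.one_lt_card_iff_nontrivial.mp (by rw [hc]; exact lt_trans (by norm_num) h4)
    obtain ⟨ψ, h1⟩ := exists_ne (1 : P.1 →* ℂˣ)
    exact ⟨ψ, h1, fun s hs => absurd ⟨s, hs⟩ h⟩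
  obtain ⟨t₀, h0⟩ := h
  have o : ∀ s : P.1, IsConj t s → orderOf s = 2 := fun s hs => by
    obtain ⟨c, e⟩ := isConj_iff.mp hs
    rw [← orderOf_coe, ← e, ← ht]; exact (MulAut.conj c).orderOf_eq t
  obtain ⟨k, hk⟩ := P.isPGroup'.exists_card_eq
  obtain rfl : 2 = p := (Nat.prime_dvd_prime_iff_eq Nat.prime_two hp.out).mp
    (Nat.prime_two.dvd_of_dvd_pow (hk ▸ o _ h0 ▸ orderOf_dvd_natCard t₀))
  have h5 := A.card_orb
  have h6 : 8 < Nat.card P.1 := by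
    change 3 + 1 < Nat.card P.1 at h4
    rw [hm, hk] at h5
    rw [hk] at h4 ⊢
    rcases Nat.lt_or_ge k 4 with h | h
    · interval_cases k <;> omega
    · exact lt_of_lt_of_le (by norm_num) (Nat.pow_le_pow_right two_pos h)
  have := Fintype.ofFinite (normalizer (P.1 : Set G) ⧸ (centralizer (P.1 : Set G)).subgroupOf _)
  obtain ⟨ψ₁, ψ₂, h7, h8⟩ := Fintype.exists_ne_map_eq_of_card_lt (fun (ψ : P.1 →* ℂˣ)
    (q : normalizer (P.1 : Set G) ⧸ (centralizer (P.1 : Set G)).subgroupOf _) =>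
      decide (ψ (P.1.normalizerMonoidHom q.out t₀) = 1)) (by
    rw [hc, Fintype.card_fun, ← Nat.card_eq_fintype_card (α := _ ⧸ _), ← index_eq_card, ← relIndex, hm]; exact h6)
  refine ⟨ψ₁ / ψ₂, fun e => h7 (div_eq_one.mp e), fun s hs => ?_⟩
  obtain ⟨c, e⟩ := isConj_iff.mp (h0.symm.trans hs)
  obtain ⟨n, ⟨-, hn⟩, e'⟩ := conj_in_normalizer_of_comm (IsSylowIn.of_sylow P le_top) A.ab t₀.2 (mem_top c) (e ▸ s.2)
  obtain ⟨z, hz⟩ := QuotientGroup.mk_out_eq_mul ((centralizer (P.1 : Set G)).subgroupOf _) (⟨n, hn⟩ : normalizer (P.1 : Set G))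
  have h9 := decide_eq_decide.mp (congrFun h8 (⟨n, hn⟩ : normalizer (P.1 : Set G)))
  rw [hz, show P.1.normalizerMonoidHom (⟨n, hn⟩ * z) t₀ = s from Subtype.ext (by
    change n * z * t₀ * (n * z : G)⁻¹ = _
    rw [mul_assoc n, ← show (t₀ : G) * z.1 = z.1 * t₀ from z.2 t₀ t₀.2, ← e, ← e']; simp [mul_assoc])] at h9
  have sq : ∀ ψ : P.1 →* ℂˣ, ψ s = 1 ∨ ψ s = -1 := fun ψ => by
    have : (ψ s : ℂ) ^ 2 = 1 := by rw [← Units.val_pow_eq_pow_val, ← map_pow,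
      show s ^ 2 = 1 from orderOf_dvd_iff_pow_eq_one.mp (o s hs).dvd]; simp
    exact (sq_eq_one_iff.mp this).imp Units.ext Units.ext
  rw [MonoidHom.div_apply, div_eq_one]
  rcases sq ψ₁ with a | a <;> rcases sq ψ₂ with b | b
  exacts [a.trans b.symm, a.trans (h9.mp a).symm, (h9.mpr b).trans b.symm, a.trans b.symm]

/-- Let p be a prime, M a maximal ideal of the algebraic integers containing p, and G a finite group with a nontrivial abelian Sylow p-subgroup P, N = N_G(P), C = C_G(P), such that N/C is cyclic of order 3, #P > 4, and C_G(y) ∩ N = C for every non-identity y ∈ P. Then the principal p-block is the disjoint union of a set X of exactly 3 characters containing the principal character and a set Y of (#P − 1)/3 characters, with signs a_χ = ±1 (χ ∈ X, a = 1 at the principal character) and δ = ±1 such that every χ ∈ X takes the value a_χ at every element whose p-part is a non-identity element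 of P, and there is a map ζ from the non-principal linear characters of P onto Y, constant on N-conjugacy classes, with ζ_ψ(z) = δ·Σ ψ'(y) over the N-orbit of ψ, for z with p-part y ≠ 1 in P. If moreover G has an involution lying in no proper normal subgroup of G, then exactly two of the three numbers −δ and a_χ (χ ∈ X non-principal) equal −1, and the product of the degrees of the two non-principal members of X and of any member of Y is a perfect square. -/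
theorem result {G : Type*} [Group G] [Finite G] (p : ℕ) [Fact p.Prime] (M : Ideal Cfsg.AlgInt) (hM : Cfsg.IsPModular p M) (P : Sylow p G) (hab : IsMulCommutative P) (hP1 : Nat.card P ≠ 1) (hCN : (Subgroup.centralizer ((P : Subgroup G) : Set G)).relIndex (Subgroup.normalizer ((P : Subgroup G) : Set G)) = 3) (hcyc : ∃ g : G, g ∈ Subgroup.normalizer ((P : Subgroup G) : Set G) ∧ Subgroup.centralizer ((P : Subgroup G) : Set G) ⊔ Subgroup.zpowers g = Subgroup.normalizer ((P : Subgroup G) : Set G)) (hm2 : 3 + 1 < Nat.card P) (hfrob : ∀ y : G, y ∈ (P : Subgroup G) → y ≠ 1 → Subgroup.centralizer ({y} : Set G) ⊓ Subgroup.normalizer ((P : Subgroup G) : Set G) = Subgroup.centralizer ((P : Subgroup G) : Set G)) : ∃ (X Y : Set (Cfsg.IrrCharacter G)), Cfsg.principalBlock M G = X ∪ Y ∧ Disjoint X Y ∧ Nat.card X = 3 ∧ Nat.card Y = (Nat.card P - 1) / 3 ∧ (∃ χ₁ ∈ X, (χ₁ : G → ℂ) = fun _ => 1) ∧ ∃ (a : Cfsg.IrrCharacter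 G → ℤ) (δ : ℤ) (ζ : (↥(P : Subgroup G) →* ℂˣ) → Cfsg.IrrCharacter G), (δ = 1 ∨ δ = -1) ∧ (∀ χ ∈ X, (a χ = 1 ∨ a χ = -1) ∧ ∀ z y : G, Cfsg.IsPPart p z y → y ∈ (P : Subgroup G) → y ≠ 1 → (χ : G → ℂ) z = (a χ : ℂ)) ∧ (∀ ψ : ↥(P : Subgroup G) →* ℂˣ, ψ ≠ 1 → ζ ψ ∈ Y) ∧ (∀ η ∈ Y, ∃ ψ : ↥(P : Subgroup G) →* ℂˣ, ψ ≠ 1 ∧ ζ ψ = η) ∧ (∀ ψ ψ' : ↥(P : Subgroup G) →* ℂˣ, ψ ≠ 1 → (∃ n : G, n ∈ Subgroup.normalizer ((P : Subgroup G) : Set G) ∧ ∀ w w' : ↥(P : Subgroup G), (w' : G) = n * w * n⁻¹ → ψ' w' = ψ w) → ζ ψ' = ζ ψ) ∧ (∀ ψ : ↥(P : Subgroup G) →* ℂˣ, ψ ≠ 1 → ∀ (z : G) (y : ↥(P : Subgroup G)), Cfsg.IsPPart p z (y : G) → (y : G) ≠ 1 → (ζ ψ : G → ℂ) z = (δ : ℂ) * ∑ᶠ ψ' ∈ {ψ' : ↥(P : Subgroup G) →* ℂˣ | ∃ n : G, n ∈ Subgroup.normalizer ((P : Subgroup G) : Set G) ∧ ∀ w w' : ↥(P : Subgroup G), (w' : G) = n * w * n⁻¹ → ψ' w' = ψ w}, ((ψ' y : ℂˣ) : ℂ)) ∧ ((∃ t : G, orderOf t = 2 ∧ ∀ K : Subgroup G, K.Normal → t ∈ K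 → K = ⊤) → Nat.card {χ : Cfsg.IrrCharacter G // χ ∈ X ∧ (χ : G → ℂ) ≠ (fun _ => 1) ∧ a χ = -1} + (if δ = 1 then 1 else 0) = 2 ∧ ∀ η ∈ Y, IsSquare (Cfsg.charDegree (η : G → ℂ) * ∏ᶠ χ ∈ {χ : Cfsg.IrrCharacter G | χ ∈ X ∧ (χ : G → ℂ) ≠ fun _ => 1}, Cfsg.charDegree (χ : G → ℂ))) := by
  classical
  have := Fintype.ofFinite G
  have := hM.2.1
  have := charP_of_isPModular hM
  have A : AF P := ⟨hab, hfrob⟩
  have H := A.exc (M := M) hP1
  have hc := A.card_orb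
  rw [hCN] at H hc
  have hr : (Nat.card P - 1) / 3 = Fintype.card (OrbP P.1) := Nat.div_eq_of_eq_mul_left (by omega) hc
  have hr2 : 1 < Fintype.card (OrbP P.1) := by change Nat.card P - 1 = _ at hc; omega
  have : Nontrivial (OrbP P.1) := Fintype.one_lt_card_iff_nontrivial.mp hr2
  obtain ⟨i₀⟩ : Nonempty (OrbP P.1) := inferInstance
  let χ₀ : IrrCharacter G := ⟨_, isIrr_one⟩
  have k1 : ∀ {X ζ a d δ}, ExcS (principalBlock M G) (alO M P.1) X ζ a d δ → χ₀ ∈ X ∧ a χ₀ = 1 := fun S =>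
    have h := S.mem_X one_mem_principal ip_alO_one
    ⟨h, by exact_mod_cast ((S.ipX _ h).2 i₀).symm.trans (ip_alO_one i₀)⟩
  obtain ⟨X, ζ, a, δ, S⟩ : ∃ X ζ a δ, ExcS (principalBlock M G) (alO M P.1) X ζ a 0 δ := by
    obtain ⟨X, ζ, a, d, δ, S⟩ := H.exists_S
    rcases eq_or_ne d 0 with rfl | h
    · exact ⟨X, ζ, a, δ, S⟩
    have hn := H.norm S i₀
    obtain ⟨b1, b2⟩ := k1 S
    rw [← Finset.add_sum_erase _ _ b1, b2] at hn
    have h1 := Finset.sum_nonneg fun χ (_ : χ ∈ X.erase χ₀) => sq_nonneg (a χ)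
    have h2 : (2 : ℤ) ≤ Fintype.card (OrbP P.1) := by exact_mod_cast hr2
    have h3 : d ^ 2 ≤ (Fintype.card (OrbP P.1) - 1) * d ^ 2 := le_mul_of_one_le_left (sq_nonneg d) (by omega)
    obtain rfl : d = δ := by
      have h4 : d ^ 2 ≤ 3 := by push_cast at hn; linarith [sq_nonneg (d - δ)]
      have : d ≤ 1 ∧ -1 ≤ d := by constructor <;> nlinarith
      have : d = 1 ∨ d = -1 := by omega
      rcases this with rfl | rfl <;> rcases S.sign with rfl | rfl <;> simp at hn h3 ⊢ <;> omega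
    have h4 : d ^ 2 = 1 := sq_eq_one_iff.mpr S.sign
    rw [h4, sub_self] at hn
    by_cases h5 : Fintype.card (OrbP P.1) = 2
    · obtain ⟨ζ', S'⟩ := S.swap h5
      exact ⟨X, ζ', a, _, S'⟩
    exfalso
    by_cases h6 : Fintype.card (OrbP P.1) = 3
    · obtain ⟨k, hk⟩ := P.isPGroup'.exists_card_eq
      have h7 : p ^ k = 10 := by have := Nat.card_pos (α := P.1); omega
      have h8 := (Nat.prime_dvd_prime_iff_eq Nat.prime_two Fact.out).mp
        (Nat.prime_two.dvd_of_dvd_pow (h7 ▸ by norm_num : 2 ∣ p ^ k))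
      have h9 := (Nat.prime_dvd_prime_iff_eq Nat.prime_five Fact.out).mp
        (Nat.prime_five.dvd_of_dvd_pow (h7 ▸ by norm_num : 5 ∣ p ^ k))
      omega
    have h7 := H.rel S i₀ (g := 1) (by simpa using (Fact.out : p.Prime).one_lt.ne')
    rw [← Finset.add_sum_erase _ _ b1, b2, Finset.sum_eq_zero fun χ hχ => by
      rw [pow_eq_zero_iff two_ne_zero |>.mp ((Finset.sum_eq_zero_iff_of_nonneg fun χ _ => sq_nonneg (a χ)).mp
        (by push_cast at hn; omega) χ hχ)]; simp, show Fintype.card (OrbP P.1) = 4 by push_cast at hn; omega,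
      ← coe_charDegree (ζ i₀).2.isChar] at h7
    have h8 : (4 * d - d) * charDegree (ζ i₀).1 + 1 = 0 := by exact_mod_cast (by simpa [χ₀] using h7 :
      ((4 * d - d) * charDegree (ζ i₀).1 + 1 : ℂ) = 0)
    rcases S.sign with rfl | rfl <;> omega
  obtain ⟨b1, b2⟩ := k1 S
  have dd : δ ^ 2 = 1 := sq_eq_one_iff.mpr S.sign
  have hn : ∑ χ ∈ X, a χ ^ 2 = 3 := by have := H.norm S i₀; simp [dd] at this; omega
  have ha : ∀ χ ∈ X, a χ = 1 ∨ a χ = -1 := fun χ hχ => by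
    have h1 := Finset.single_le_sum (fun χ _ => sq_nonneg (a χ)) hχ
    have := (S.ipX χ hχ).1
    have : a χ ≤ 1 ∧ -1 ≤ a χ := by constructor <;> nlinarith
    omega
  have hX : X.card = 3 := by
    rw [Finset.sum_congr rfl fun χ hχ => sq_eq_one_iff.mpr (ha χ hχ)] at hn
    rw [Finset.sum_const, nsmul_eq_mul, mul_one] at hn
    exact_mod_cast hn
  obtain ⟨u1, u2, u3⟩ := S.eq_union
  refine ⟨X, Set.range ζ, u1, u2, by simpa using hX, u3.trans hr.symm, ⟨_, b1, rfl⟩, a, δ,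
    fun ψ => if h : ψ = 1 then ζ i₀ else ζ (mkO ψ h), S.sign,
    fun χ hχ => ⟨ha χ hχ, fun z y => A.valX S hχ⟩, fun ψ h => ⟨mkO ψ h, by simp [h]⟩, ?_, fun ψ ψ' h h' => ?_,
    fun ψ h z y h1 h2 => ?_, ?_⟩
  · rintro _ ⟨o, rfl⟩
    exact ⟨_, out_ne_one o, by simp [out_ne_one o, mkO_out]⟩
  · have h2 := homAct_iff.mp h'
    have h3 := homAct_orbit_ne_one h h2
    simp only [dif_neg h, dif_neg h3, (mkO_eq_iff h h3).mpr h2]
  · simp only [dif_neg h, homAct_iff]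
    simpa using A.valY S h h1 h2
  rintro ⟨t, ht, hK⟩
  obtain ⟨ψ, hψ, hψt⟩ := lemC A hCN hm2 ht
  have tt : t * t = 1 := by rw [← pow_two, ← ht, pow_orderOf_eq_one]
  have van : ∀ x1 x2 : G, (IsConj t x1 ∨ x1 = 1) → (IsConj t x2 ∨ x2 = 1) → alO M P.1 (mkO ψ hψ) (x1 * x2) = 0 := by
    intro x1 x2 h1 h2
    by_cases h : p ∣ orderOf (x1 * x2)
    swap
    · exact H.reg _ _ h
    obtain ⟨c, y, hy, y1, h3⟩ := exists_conj_ppart P h
    rw [← (H.gen _).classFun _ c]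
    rw [← conj_mul] at h3 ⊢
    have cj : ∀ x : G, (IsConj t x ∨ x = 1) → (IsConj t (c * x * c⁻¹) ∨ c * x * c⁻¹ = 1) := fun x h =>
      h.imp (fun h => h.trans (isConj_iff.mpr ⟨c, rfl⟩)) (fun h => by simp [h])
    replace h1 := cj _ h1
    replace h2 := cj _ h2
    generalize c * x1 * c⁻¹ = x1, c * x2 * c⁻¹ = x2 at *
    have sq : ∀ x : G, (IsConj t x ∨ x = 1) → x⁻¹ = x := fun x h => inv_eq_of_mul_eq_one_right (by
      rcases h with h | rfl
      · obtain ⟨c, rfl⟩ := isConj_iff.mp h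
        simp [tt]
      · simp)
    obtain ⟨k, hk⟩ := isPPart_mem_zpowers h3
    have i1 : x1 * y * x1⁻¹ = y⁻¹ := by
      rw [← hk, ← conj_zpow, ← inv_zpow, mul_inv_rev, sq _ h2]; nth_rw 1 [← sq _ h1]; simp
    have i2 : x2 * y * x2⁻¹ = y⁻¹ := by
      rw [← hk, ← conj_zpow, ← inv_zpow, mul_inv_rev, sq _ h1, mul_assoc x2, mul_inv_cancel_right, sq _ h2]
    have i3 := lemA A hCN hy y1 i1
    obtain rfl : p = 2 := (Nat.prime_dvd_prime_iff_eq Fact.out Nat.prime_two).mp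
      (((isPPart_ne_one_iff (isPPart_self (isPPart_order h3))).mp y1).trans
        (orderOf_dvd_of_pow_eq_one (by rw [pow_two]; nth_rw 1 [← i3]; simp)))
    have o : ∀ x : G, (IsConj t x ∨ x = 1) → ∃ k, orderOf x = 2 ^ k := fun x h =>
      ((Nat.dvd_prime_pow Nat.prime_two).mp (orderOf_dvd_of_pow_eq_one (n := 2 ^ 1) (by
        rw [pow_one, pow_two]; nth_rw 1 [← sq x h]; simp))).imp fun _ h => h.2
    obtain ⟨s1, a1, s2, a2, d1, d2, j, hj⟩ := lemB A hy y1 (mem_centralizer_singleton_iff.mpr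
      (mul_inv_eq_iff_eq_mul.mp (i1.trans i3))) (mem_centralizer_singleton_iff.mpr
      (mul_inv_eq_iff_eq_mul.mp (i2.trans i3))) (o _ h1) (o _ h2) h3
    have k2 : ∀ ψ' ∈ MulAction.orbit (normalizer (P.1 : Set G)) ψ, ψ' ⟨y, hy⟩ = 1 := by
      rintro _ ⟨n, rfl⟩
      have k3 : ∀ x, (IsConj t x ∨ x = 1) → ∀ s : P.1, IsConj x s → (n • ψ) s = 1 := fun x h s hs => by
        rcases h with h | rfl
        · exact hψt _ ((h.trans hs).trans (isConj_iff.mpr ⟨(n⁻¹ : normalizer (P.1 : Set G)), rfl⟩))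
        · rw [show s = 1 from Subtype.ext (isConj_one_right.mp hs), map_one]
      rw [show (⟨y, hy⟩ : P.1) = (⟨s1, a1⟩ * ⟨s2, a2⟩) ^ j from Subtype.ext hj.symm, map_zpow, map_mul]
      simp only
      rw [k3 _ h1 _ d1, k3 _ h2 _ d2]; simp
    rw [H.apply S, A.valY S hψ (y := ⟨y, hy⟩) h3 y1, Finset.sum_congr rfl fun χ hχ => by rw [A.valX S hχ h3 hy y1],
      finsum_mem_congr rfl fun ψ' h => by rw [k2 ψ' h], Units.val_one, finsum_mem_eq_finite_toFinset_sum _ (Set.toFinite _),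
      Finset.sum_const, ← Set.ncard_eq_toFinset_card, ← Nat.card_coe_set_eq, A.card_orbit hψ, hCN]
    have e1 := congrArg (Int.cast : ℤ → ℂ) hn
    have e2 := congrArg (Int.cast : ℤ → ℂ) dd
    push_cast at e1 e2
    simp only [pow_two] at e1 e2
    simp only [e1, nsmul_eq_mul]; push_cast; linear_combination -3 * e2
  obtain ⟨χ₁, χ₂, h12, hX'⟩ := Finset.card_eq_two.mp (show (X.erase χ₀).card = 2 by rw [Finset.card_erase_of_mem b1, hX])
  have m1 : χ₁ ∈ X.erase χ₀ := by simp [hX']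
  have m2 : χ₂ ∈ X.erase χ₀ := by simp [hX']
  set η := ζ (mkO ψ hψ)
  have m3 : η ∉ X := S.disj _
  let b := Function.update a η (-δ)
  have hs : ∀ f : IrrCharacter G → ℂ, ∑ χ ∈ insert η X, b χ * f χ = f χ₀ + a χ₁ * f χ₁ + a χ₂ * f χ₂ - δ * f η :=
    fun f => by
      rw [Finset.sum_insert m3, Finset.sum_congr rfl fun χ hχ => by
        rw [show b χ = a χ from Function.update_of_ne (by rintro rfl; exact m3 hχ) _ _],
        ← Finset.add_sum_erase _ _ b1, hX', Finset.sum_pair h12, b2]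
      simp [b]; ring
  have hv : ∀ g, ∑ χ ∈ insert η X, b χ * χ.1 g = alO M P.1 (mkO ψ hψ) g := fun g => by
    rw [hs fun χ => χ.1 g, H.apply S, ← Finset.add_sum_erase _ _ b1, hX', Finset.sum_pair h12, b2]; simp [η]; ring
  have r1 := (hv (1 * 1)).trans (van 1 1 (Or.inr rfl) (Or.inr rfl))
  have r2 := (hv (t * 1)).trans (van t 1 (Or.inl (IsConj.refl t)) (Or.inr rfl))
  rw [mul_one] at r1 r2
  have r3 := sum_sq_div_eq_zero (a := fun χ => b χ) fun g => (hv (g * t * g⁻¹ * t)).trans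
    (van _ t (Or.inl (isConj_iff.mpr ⟨g, rfl⟩)) (Or.inl (IsConj.refl t)))
  have e0 : b χ₀ = 1 := (Function.update_of_ne (by rintro e; exact m3 (e ▸ b1)) _ _).trans b2
  have e1 : b χ₁ = a χ₁ := Function.update_of_ne (by rintro e; exact m3 (e ▸ Finset.mem_of_mem_erase m1)) _ _
  have e2 : b χ₂ = a χ₂ := Function.update_of_ne (by rintro e; exact m3 (e ▸ Finset.mem_of_mem_erase m2)) _ _
  have e3 : b η = -δ := Function.update_self ..
  have cs : ∀ χ' : IrrCharacter G, ¬ ((∀ χ ∈ insert η X, χ ≠ χ' → b χ ≤ 0) ∨ ∀ χ ∈ insert η X, χ ≠ χ' → 0 ≤ b χ) :=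
    fun χ' h => by
      obtain ⟨χ, -, h1, h2⟩ := cs_ker ht r1 r2 r3 (Finset.mem_insert_of_mem b1) (e0.trans_ne one_ne_zero) χ' h
      exact h1 (hK _ inferInstance h2)
  have hX'' : X = {χ₀, χ₁, χ₂} := by rw [← hX', Finset.insert_erase b1]
  have c0 := mt Or.inl (cs χ₀)
  have c1 := mt Or.inr (cs χ₁)
  have c2 := mt Or.inr (cs χ₂)
  have c3 := mt Or.inr (cs η)
  simp only [hX'', Finset.forall_mem_insert, Finset.mem_singleton, forall_eq, e0, e1, e2, e3, ne_eq, not_true,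
    false_imp_iff, zero_le_one, imp_true_iff, true_and, and_true] at c0 c1 c2 c3
  have nk : ∀ χ : IrrCharacter G, χ ≠ χ₀ → χ.1 t ≠ χ.1 1 := fun χ h e => h (Subtype.ext
    (χ.2.eq_one_of_ker_top fun g => χ.2.isChar.mem_ker.mp (hK _ inferInstance (χ.2.isChar.mem_ker.mpr e) ▸ mem_top g)))
  have st : {χ : IrrCharacter G | χ ∈ (X : Set _) ∧ (χ : G → ℂ) ≠ fun _ => 1} = {χ₁, χ₂} := by
    rw [← Finset.coe_pair, ← hX']; ext χ; simp [χ₀, Subtype.ext_iff, and_comm]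
  have cd : Nat.card {χ : IrrCharacter G // χ ∈ (X : Set _) ∧ (χ : G → ℂ) ≠ (fun _ => 1) ∧ a χ = -1} =
      (if a χ₁ = -1 then 1 else 0) + if a χ₂ = -1 then 1 else 0 := by
    rw [Nat.card_eq_fintype_card, Fintype.card_subtype, ← Finset.sum_pair (f := fun χ => if a χ = -1 then 1 else 0) h12,
      ← Finset.card_filter, ← hX']
    congr 1; ext χ; simp [χ₀, Subtype.ext_iff, and_comm, and_assoc, and_left_comm]
  simp only [mul_div_assoc] at r3
  rw [hs fun χ => χ.1 1] at r1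
  rw [hs fun χ => χ.1 t] at r2
  rw [hs fun χ => χ.1 t ^ 2 / χ.1 1] at r3
  have n1 := nk _ (Finset.ne_of_mem_erase m1)
  have n2 := nk _ (Finset.ne_of_mem_erase m2)
  have n3 := nk η (by rintro e; exact m3 (e ▸ b1))
  obtain ⟨y1, q1⟩ := irr_int_invol χ₁ ht
  obtain ⟨y2, q2⟩ := irr_int_invol χ₂ ht
  obtain ⟨y3, q3⟩ := irr_int_invol η ht
  simp only [χ₀, q1, q2, q3, ← coe_charDegree χ₁.2.isChar, ← coe_charDegree χ₂.2.isChar,
    ← coe_charDegree η.2.isChar] at r1 r2 r3 n1 n2 n3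
  have p1 := charDegree_pos χ₁.2
  have p2 := charDegree_pos χ₂.2
  have p3 := charDegree_pos η.2
  rw [cd, st, finprod_mem_pair h12]
  suffices h : _ ∧ IsSquare (charDegree η.1 * (charDegree χ₁.1 * charDegree χ₂.1)) by
    refine ⟨h.1, ?_⟩
    rintro _ ⟨i, rfl⟩
    rw [show charDegree (ζ i).1 = charDegree η.1 from Nat.cast_injective (R := ℂ) (by
      rw [coe_charDegree (ζ i).2.isChar, coe_charDegree η.2.isChar]
      exact H.agree S _ _ (by simpa using (Fact.out : p.Prime).one_lt.ne'))]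
    exact h.2
  rcases ha _ (Finset.mem_of_mem_erase m1) with w1 | w1 <;> rcases ha _ (Finset.mem_of_mem_erase m2) with w2 | w2 <;>
    rcases S.sign with rfl | rfl <;> simp only [w1, w2] at c0 c1 c2 c3 r1 r2 r3 ⊢ <;> push_cast at r1 r2 r3
  · simp at c3
  · simp at c3
  · refine ⟨by simp, ?_⟩
    rw [mul_left_comm, ← mul_assoc]
    exact sq_lemma p1 p3 p2 (y1 := y1) (y2 := y3) (y3 := y2) (by linear_combination r1) (by linear_combination r2)
      (by linear_combination r3) n1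
  · simp at c2
  · refine ⟨by simp, ?_⟩
    rw [← mul_assoc, mul_comm, ← mul_assoc]
    exact sq_lemma p2 p3 p1 (y1 := y2) (y2 := y3) (y3 := y1) (by linear_combination r1) (by linear_combination r2)
      (by linear_combination r3) n2
  · simp at c1
  · simp at c0
  · refine ⟨by simp, ?_⟩
    rw [← mul_assoc]
    exact sq_lemma p3 p1 p2 (y1 := y3) (y2 := y1) (y3 := y2) (by linear_combination r1) (by linear_combination r2)
      (by linear_combination r3) n3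

end Cfsg.Agent.S4721
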