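import Cfsg.Statements.S4722
import Mathlib
import Cfsg.Agent.H8.Def1f

set_option autoImplicit false
open Cfsg

namespace Cfsg.Agent.S4722

open CfsgH8 CfsgH4 CfsgH2 CfsgH3 CfsgH3.IP

/-- Let M be a maximal ideal of the algebraic integers containing 2, P a 2-subgroup of the finite group G, U a subset of P, and t an involution of G such that no element of U is inverted by any conjugate of t. Let θ be a generalized character of P vanishing outside U, and for χ in the principal 2-block B₀ put a_χ = #P⁻¹ Σ_{y ∈ P} χ(y) θ(y⁻¹). Then Σ_{χ ∈ B₀} a_χ χ(t)^2/χ(1) = 0, Σ_{χ ∈ B₀} a_χ χ(1) = 0 and Σ_{χ ∈ B₀} a_χ χ(t) = 0. If moreover #P⁻¹ Σ_{y ∈ P} θ(y) ≠ 0, then either at least two of the a_χ have positive real part and at least two have negative real part, or G has a proper normal subgroup containing O_2'(G) and t. -/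
theorem result {G : Type*} [Group G] [Finite G] (M : Ideal Cfsg.AlgInt) (hM : Cfsg.IsPModular 2 M) (P : Subgroup G) (hP : IsPGroup 2 P) (U : Set G) (hUP : U ⊆ (P : Set G)) (t : G) (ht : orderOf t = 2) (hinv : ∀ u ∈ U, ∀ g : G, (g * t * g⁻¹) * u * (g * t * g⁻¹)⁻¹ ≠ u⁻¹) (θ : ↥P → ℂ) (hθ : Cfsg.IsGeneralizedCharacter ↥P θ) (hθU : ∀ y : ↥P, (y : G) ∉ U → θ y = 0) : (∑ᶠ χ ∈ Cfsg.principalBlock M G, ((Nat.card ↥P : ℂ)⁻¹ * ∑ᶠ y : ↥P, (χ : G → ℂ) (y : G) * θ y⁻¹) * (χ : G → ℂ) t ^ 2 / (χ : G → ℂ) 1 = 0) ∧ (∑ᶠ χ ∈ Cfsg.principalBlock M G, ((Nat.card ↥P : ℂ)⁻¹ * ∑ᶠ y : ↥P, (χ : G → ℂ) (y : G) * θ y⁻¹) * (χ : G → ℂ) 1 = 0) ∧ (∑ᶠ χ ∈ Cfsg.principalBlock M G, ((Nat.card ↥P : ℂ)⁻¹ * ∑ᶠ y : ↥P, (χ : G → ℂ) (y : G) * θ y⁻¹) * (χ : G → ℂ) t = 0) ∧ ((Nat.card ↥P : ℂ)⁻¹ * ∑ᶠ y : ↥P, θ y ≠ 0 → (2 ≤ Nat.card {χ : Cfsg.IrrCharacter G // χ ∈ Cfsg.principalBlock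 M G ∧ 0 < (((Nat.card ↥P : ℂ)⁻¹ * ∑ᶠ y : ↥P, (χ : G → ℂ) (y : G) * θ y⁻¹)).re} ∧ 2 ≤ Nat.card {χ : Cfsg.IrrCharacter G // χ ∈ Cfsg.principalBlock M G ∧ (((Nat.card ↥P : ℂ)⁻¹ * ∑ᶠ y : ↥P, (χ : G → ℂ) (y : G) * θ y⁻¹)).re < 0}) ∨ ∃ K : Subgroup G, K.Normal ∧ K ≠ ⊤ ∧ Cfsg.pPrimeCore 2 G ≤ K ∧ t ∈ K) := by
  classical
  have := Fintype.ofFinite G
  have := hM.2.1
  have := charP_of_isPModular hM
  choose a ha using fun χ : IrrCharacter G => (χ.2.isChar.restrict P).isGen.inner_int hθ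
  have h1 : ∀ χ : IrrCharacter G, (Nat.card P : ℂ)⁻¹ * ∑ᶠ y : P, χ.1 y * θ y⁻¹ = a χ := fun χ => by
    rw [← ha, classInner, finsum_eq_sum_of_fintype]; simp [hθ.apply_inv]
  have tt : t * t = 1 := by rw [← pow_two, ← ht, pow_orderOf_eq_one]
  have h2 : ∀ z x c : G, IsPPart 2 z x → (c * t * c⁻¹) * x * (c * t * c⁻¹)⁻¹ = x⁻¹ →
      ∑ χ ∈ irrF (principalBlock M G), a χ * χ.1 z = 0 := fun z x c hx hc => by
    have h3 : ∀ χ : IrrCharacter G, (a χ : ℂ) = (Nat.card P : ℂ)⁻¹ * ∑ y : P, θ y * χ.1 (y : G)⁻¹ := fun χ => by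
      rw [← h1, finsum_eq_sum_of_fintype, ← Equiv.sum_comp (Equiv.inv P)]; simp [mul_comm]
    simp only [h3, mul_assoc, ← Finset.mul_sum, Finset.sum_mul]
    rw [Finset.sum_comm, Finset.sum_eq_zero fun y _ => ?_, mul_zero]
    by_cases hy : (y : G) ∈ U
    · simp only [mul_assoc, ← Finset.mul_sum]
      rw [Finset.sum_congr rfl fun _ _ => mul_comm _ _, block_orth (eSet_mem_SG isPBlock_principal) hx
        (isPPart_self (x := (y : G)) (by simpa using IsPGroup.iff_orderOf.mp hP y)) fun h => ?_, mul_zero]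
      obtain ⟨g, hg⟩ := isConj_iff.mp h
      refine hinv y hy (g * c) ?_
      rw [← hg, show (g * x * g⁻¹)⁻¹ = g * x⁻¹ * g⁻¹ by group, ← hc]; group
    · simp [hθU y hy]
  have r1 := h2 1 1 1 (isPPart_one_iff.mpr (by simp)) (by simp)
  have r2 := h2 t t 1 (isPPart_self ⟨1, by simp [ht]⟩) (by simp [inv_eq_of_mul_eq_one_right tt, tt])
  have r3 := sum_sq_div_eq_zero (s := irrF (principalBlock M G)) (a := fun χ => a χ) (t := t) fun g => by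
    obtain ⟨x, hx⟩ := exists_isPPart 2 (g * t * g⁻¹ * t)
    exact h2 _ x 1 hx (by simpa using ppart_inverted tt hx)
  simp only [finsum_mem_irr, h1]
  refine ⟨r3, r1, r2, fun h0 => or_iff_not_imp_left.mpr fun hn => ?_⟩
  have h5 : a ⟨_, isIrr_one⟩ ≠ 0 := fun e => h0 (by
    have := h1 ⟨_, isIrr_one⟩
    rw [e, finsum_eq_sum_of_fintype, ← Equiv.sum_comp (Equiv.inv P)] at this
    simpa [finsum_eq_sum_of_fintype] using this)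
  have key : ∀ q : IrrCharacter G → Prop, ¬ 2 ≤ Nat.card {χ // q χ} → ∃ χ₀, ∀ χ, χ ≠ χ₀ → ¬ q χ := fun q h => by
    by_cases h' : ∃ χ, q χ
    · obtain ⟨χ₀, h0⟩ := h'
      exact ⟨χ₀, fun χ h1 h2 => h (Finite.one_lt_card_iff_nontrivial.mpr
        ⟨⟨χ, h2⟩, ⟨χ₀, h0⟩, fun e => h1 (congrArg Subtype.val e)⟩)⟩
    · exact ⟨⟨_, isIrr_one⟩, fun χ _ h2 => h' ⟨χ, h2⟩⟩
  obtain ⟨χ₀, h6⟩ : ∃ χ₀, (∀ χ ∈ irrF (principalBlock M G), χ ≠ χ₀ → a χ ≤ 0) ∨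
      ∀ χ ∈ irrF (principalBlock M G), χ ≠ χ₀ → 0 ≤ a χ := by
    rcases not_and_or.mp hn with h | h <;> obtain ⟨χ₀, h⟩ := key _ h
    · exact ⟨χ₀, Or.inl fun χ h1 h2 => by simpa [mem_irrF.mp h1] using h χ h2⟩
    · exact ⟨χ₀, Or.inr fun χ h1 h2 => by simpa [mem_irrF.mp h1] using h χ h2⟩
  obtain ⟨χ, b1, b2, b3⟩ := cs_ker ht r1 r2 r3 (mem_irrF.mpr one_mem_principal) h5 χ₀ h6
  exact ⟨_, inferInstance, b2, (kerSub_principal (M := M)).ge.trans (iInf₂_le χ (mem_irrF.mp b1)), b3⟩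

end Cfsg.Agent.S4722
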