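import Cfsg.Statements.S4723
import Cfsg.Agent.H4.Rob2
import Cfsg.Agent.H3.CliffordCorr

set_option autoImplicit false
open Cfsg

namespace Cfsg.Agent.S4723

open CfsgH4 CfsgH3 CfsgH2 MonoidAlgebra

/-- Let p be a prime, M a maximal ideal of the algebraic integers containing p, H a normal subgroup of the finite group G and b a p-block of H. Let T be the stabilizer of b in G. Then b contains a character θ of height zero whose own stabilizer in G (the elements g with θ(g h g⁻¹) = θ(h) for all h ∈ H) has index prime to p in T, i.e. contains a Sylow p-subgroup of T. -/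
theorem result {G : Type*} [Group G] [Finite G] (p : ℕ) [Fact p.Prime] (M : Ideal Cfsg.AlgInt) (hM : Cfsg.IsPModular p M) (H : Subgroup G) [H.Normal] (b : Set (Cfsg.IrrCharacter ↥H)) (hb : Cfsg.IsPBlock M b) (T : Subgroup G) (hT : (∀ g : G, g ∈ T ↔ ∀ θ ∈ b, ∀ θ' : Cfsg.IrrCharacter ↥H, (∀ h h' : ↥H, (h' : G) = g * h * g⁻¹ → (θ' : ↥H → ℂ) h' = (θ : ↥H → ℂ) h) → θ' ∈ b)) : ∃ θ ∈ b, Cfsg.blockHeight p b (θ : ↥H → ℂ) = 0 ∧ ∃ S : Subgroup G, S ≤ T ∧ (∀ g : G, g ∈ S ↔ (g ∈ T ∧ ∀ h h' : ↥H, (h' : G) = g * h * g⁻¹ → (θ : ↥H → ℂ) h' = (θ : ↥H → ℂ) h)) ∧ ¬ p ∣ S.relIndex T := by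
  classical
  have := hM.2.1
  have := charP_of_isPModular hM
  have := Fintype.ofFinite H
  have hp : p.Prime := Fact.out
  have hf := isPrim_bIdS hb
  have hT' : T = stabA (bIdS M H b) := by
    ext g; rw [hT, mem_stabA_iff_forall hb (le_normalizer_top (Subgroup.mem_top g))]
  have hHT : H ≤ T := hT' ▸ hf.le_stabA
  obtain ⟨P, hP⟩ := IsSylowIn.exists_sylowIn p T
  obtain ⟨L, hL⟩ : ∃ L, L = H ⊔ P := ⟨_, rfl⟩
  have hHL : H ≤ L := hL ▸ le_sup_left
  have hLT : L ≤ T := hL ▸ sup_le hHT hP.le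
  have := Fintype.ofFinite L
  have := Fintype.ofFinite (H.subgroupOf L)
  obtain ⟨k, hk⟩ : ∃ k, H.relIndex L = p ^ k := by
    rw [hL, Subgroup.relIndex_sup_left]; exact hP.pgroup.index (H.subgroupOf P)
  have hreg : ∀ x ∈ L, ¬ p ∣ orderOf x → x ∈ H := fun x hx h =>
    mem_of_pregular_of_relIndex le_normalizer_of_normal' hk hx h
  have hfL : bIdS M H b ∈ Fix (Res M) L := le_stabA_iff.1 (hT' ▸ hLT)
  obtain ⟨B, hB, hBb⟩ := exists_block_of_isPrim_S (hf.of_pquot hHL hreg hfL)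
  obtain ⟨D, hD⟩ := exists_isDef_blk_S p hB
  have h1 := card_isDef_S hB hD
  rw [hBb] at hD
  have h2 := card_isDef_S hb (hD.inf hf hHL le_normalizer_of_normal' hfL)
  have h3 := hD.sup_eq hf hHL le_normalizer_of_normal' hfL hreg
  have h4 := card_sup_mul_card_inf' (K := H) (D := D) le_normalizer_of_normal'
  rw [h3, inf_comm, h1, h2] at h4
  have h5 := congrArg (fun n => n.factorization p) h4
  simp only [Nat.factorization_mul Nat.card_pos.ne' (pow_ne_zero _ hp.ne_zero), hp.factorization_pow,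
    Finsupp.add_apply, Finsupp.single_eq_same] at h5
  have h6 := minNu_add_blockDefect (p := p) (block_nonempty hB)
  have h7 := minNu_add_blockDefect (p := p) (block_nonempty hb)
  obtain ⟨χ, hχ, h8⟩ := exists_nu_eq_minNu (p := p) (block_nonempty hB)
  obtain ⟨θ, hθ, h9⟩ := (χ.2.isChar.resLe hHL).classFun.exists_constituent fun h =>
    χ.2.one_ne_zero (congrFun h 1)
  have h10 : (⟨θ, hθ⟩ : IrrCharacter H) ∈ b := by
    have h11 := (cover_iff_S hHL hB (isPBlock_blockOf' hθ)).1 ⟨χ, hχ, ⟨θ, hθ⟩,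
      mem_blockOf_self ⟨θ, hθ⟩, h9⟩
    rw [hBb] at h11
    rw [bIdS_injective hb (isPBlock_blockOf' hθ)
      (hf.eq_of_mul_ne_zero (isComm_Z _) (isPrim_bIdS (isPBlock_blockOf' hθ)) h11)]
    exact mem_blockOf_self ⟨θ, hθ⟩
  rw [← ip_res_toSubOf hHL] at h9
  have h11 := clifford_deg χ.2 (hθ.toSubOf hHL) h9
  obtain ⟨e, he⟩ := (χ.2.isChar.restrict (H.subgroupOf L)).inner_nat (hθ.toSubOf hHL).isChar
  have he0 : e ≠ 0 := by rintro rfl; exact h9 (by simpa using he)
  rw [he, inertia_toSubOf hHL, ← coe_charDegree χ.2.isChar,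
    show toSubOf L θ 1 = charDegree θ from (coe_charDegree hθ.isChar).symm] at h11
  have h12 : charDegree χ.1 = e * (inertia θ).relIndex L * charDegree θ := by exact_mod_cast h11
  have h13 := minNu_le (p := p) h10
  unfold nu at h8 h13
  rw [h12, Nat.factorization_mul (mul_ne_zero he0 (relIndex_ne_zero _ _)) (charDegree_pos hθ).ne',
    Nat.factorization_mul he0 (relIndex_ne_zero _ _)] at h8
  simp only [Finsupp.add_apply] at h8 h13
  refine ⟨⟨θ, hθ⟩, h10, (height_eq_zero_iff h10).2 (by unfold nu; simp only; omega),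
    T ⊓ inertia θ, inf_le_left, fun g => ?_, fun h => ?_⟩
  · rw [Subgroup.mem_inf, mem_inertia']
    refine and_congr_right fun _ => ⟨fun h1 h h' h2 => ?_, fun h1 n => h1 _ _ rfl⟩
    exact (congrArg θ (Subtype.ext h2)).trans (h1 h)
  · have h14 := h.trans (Subgroup.relIndex_dvd_of_le_left T
      (inf_le_inf_right (inertia θ) hLT))
    rw [← Subgroup.relIndex_mul_relIndex _ L T inf_le_left hLT, Subgroup.inf_relIndex_left] at h14
    refine (hp.dvd_mul.1 h14).elim (fun h => ?_)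
      (hP.not_dvd_of_le (hL ▸ le_sup_right) hLT)
    have := hp.factorization_pos_of_dvd (relIndex_ne_zero _ _) h
    omega

end Cfsg.Agent.S4723
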