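import Cfsg.Statements.S4725
import Cfsg.Agent.H4.Reg2

set_option autoImplicit false
open Cfsg

namespace Cfsg.Agent.S4725

open CfsgH4 CfsgH3 CfsgH2 MonoidAlgebra

/-- Let p be a prime, M a maximal ideal of the algebraic integers containing p, H a subgroup of the finite group G, and b a p-block of H inducing the p-block B of G, with b and B of the same defect. Then for every height-zero ζ ∈ b there is a height-zero χ ∈ B whose multiplicity in the character induced from ζ is not divisible by p. -/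
theorem result {G : Type*} [Group G] [Fintype G] (p : ℕ) [Fact p.Prime] (M : Ideal Cfsg.AlgInt) (hM : Cfsg.IsPModular p M) (H : Subgroup G) (b : Set (Cfsg.IrrCharacter ↥H)) (B : Set (Cfsg.IrrCharacter G)) (hind : Cfsg.IsInducedBlock M H b B) (hdef : Cfsg.blockDefect p b = Cfsg.blockDefect p B) (ζ : Cfsg.IrrCharacter ↥H) (hζ : ζ ∈ b) (hζ0 : Cfsg.blockHeight p b (ζ : ↥H → ℂ) = 0) : ∃ χ ∈ B, Cfsg.blockHeight p B (χ : G → ℂ) = 0 ∧ ∃ a : ℕ, Cfsg.classInner (Cfsg.indFun H (ζ : ↥H → ℂ)) (χ : G → ℂ) = (a : ℂ) ∧ ¬ p ∣ a := by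
  have := hM.2.1
  have := charP_of_isPModular hM
  have hp : p.Prime := Fact.out
  obtain ⟨n, h1, h2, h3⟩ := blockPart_indFun_of_induced (p := p) hind hζ
  obtain ⟨m, hm, -⟩ := (ζ.2.isChar.ind (G := G)).exists_coeff
  rw [charDegree_indFun ζ.2.isChar, Nat.factorization_mul H.index_ne_zero_of_finite
    (charDegree_pos ζ.2).ne', Finsupp.add_apply] at h3
  have h4 := factorization_card_add_index (p := p) H
  have h5 := minNu_add_blockDefect (p := p) ⟨ζ, hζ⟩
  have h6 := minNu_add_blockDefect (p := p) (block_nonempty hind.2.1)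
  have h7 := (height_eq_zero_iff hζ).1 hζ0
  unfold nu at h7
  have h8 : n.factorization p = minNu p B := by omega
  by_contra hc
  push Not at hc
  have h9 : n = ∑ χ ∈ irrF B, m χ * charDegree χ.1 := by
    rw [blockPart_apply] at h1
    have : (n : ℂ) = ((∑ χ ∈ irrF B, m χ * charDegree χ.1 : ℕ) : ℂ) := by
      rw [← h1]; push_cast
      exact Finset.sum_congr rfl fun χ _ => by rw [hm, coe_charDegree χ.2.isChar]
    exact_mod_cast this
  have h10 : p ^ (minNu p B + 1) ∣ n := by
    rw [h9]
    refine Finset.dvd_sum fun χ hχ => ?_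
    have hχ := mem_irrF.1 hχ
    by_cases h0 : blockHeight p B χ.1 = 0
    · rw [pow_succ']
      exact Nat.mul_dvd_mul (hc χ hχ h0 _ (hm χ)) (pow_minNu_dvd hχ)
    · refine Dvd.dvd.mul_left ?_ _
      rw [hp.pow_dvd_iff_le_factorization (charDegree_pos χ.2).ne']
      have := nu_eq_add_height (p := p) hχ
      unfold nu at this
      omega
  rw [hp.pow_dvd_iff_le_factorization h2] at h10
  omega

end Cfsg.Agent.S4725
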