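import Cfsg.Statements.S4726
import Cfsg.Agent.H4.Pairs3

set_option autoImplicit false
open Cfsg

namespace Cfsg.Agent.S4726

open CfsgH4 CfsgH3 CfsgH2 MonoidAlgebra

/-- Let p be a prime, M a maximal ideal of the algebraic integers containing p, H a subgroup of the finite group G and b a p-block of H with defect group D₀ such that C_G(D₀) ≤ H. Then b induces a block of G, and for every block B of G induced by b there is a defect group D of B with Z(D) ≤ Z(D₀) ≤ D₀ ≤ D (as subgroups of G). In particular, if the defect groups of B are abelian then D₀ is a defect group of B. -/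
theorem result {G : Type*} [Group G] [Finite G] (p : ℕ) [Fact p.Prime] (M : Ideal Cfsg.AlgInt) (hM : Cfsg.IsPModular p M) (H : Subgroup G) (b : Set (Cfsg.IrrCharacter ↥H)) (hb : Cfsg.IsPBlock M b) (D₀ : Subgroup ↥H) (hD₀ : Cfsg.IsDefectGroup p M b D₀) (hC : Subgroup.centralizer ((D₀.map H.subtype : Subgroup G) : Set G) ≤ H) : Cfsg.InducedBlockDefined M H b ∧ ∀ B : Set (Cfsg.IrrCharacter G), Cfsg.IsInducedBlock M H b B → (∃ D : Subgroup G, Cfsg.IsDefectGroup p M B D ∧ (Subgroup.center ↥D).map D.subtype ≤ ((Subgroup.center ↥D₀).map D₀.subtype).map H.subtype ∧ ((Subgroup.center ↥D₀).map D₀.subtype).map H.subtype ≤ D₀.map H.subtype ∧ D₀.map H.subtype ≤ D) ∧ (∀ D : Subgroup G, Cfsg.IsDefectGroup p M B D → IsMulCommutative ↥D → Cfsg.IsDefectGroup p M B (D₀.map H.subtype)) := by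
  have := hM.2.1
  have := charP_of_isPModular hM
  have hD := (isDefectGroup_iff_S hb).1 hD₀
  refine ⟨(inducedBlockDefined_iff hb).2 (exists_ind_of_centralizer_le hD.pgroup hD.le
    (inf_le_right.trans hC) le_top (isPrim_bIdS hb) hD.ne_zero), fun B hB => ?_⟩
  obtain ⟨e, hm⟩ := hD.exists_mp (isPrim_bIdS hb)
  have hCn : Cn H (D₀.map H.subtype) = Subgroup.centralizer _ := inf_eq_right.2 hC
  have he : BP p ⊤ (D₀.map H.subtype) e := hm.bp.of_Cn_eq le_top (by rw [Cn_top, hCn])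
  have he' := hm.bp.prim
  rw [hCn] at he'
  have h1 := (ind_cent_iff hD.pgroup le_top le_top he' (isPrim_bId hB.2.1)).1
    (((ind_cent_iff hD.pgroup hD.le hC he' (isPrim_bIdS hb)).2 hm.mul).trans hC le_top
      (ind_of_isInducedBlock hB))
  obtain ⟨D, e', hm', hs⟩ := he.exists_mp (isPrim_bId hB.2.1) h1
  have h2 : ∀ z ∈ D, z ∈ Subgroup.centralizer (D₀.map H.subtype : Set G) →
      z ∈ D₀.map H.subtype := by
    intro z hz hzc
    have h3 : D₀.map H.subtype ⊔ Subgroup.zpowers z ≤ D := sup_le hs.le (Subgroup.zpowers_le.2 hz)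
    have h4 : D₀.map H.subtype ⊔ Subgroup.zpowers z ≤ H := sup_le hD.le
      (Subgroup.zpowers_le.2 (hC hzc))
    have h5 : D₀.map H.subtype ⊔ Subgroup.zpowers z ≤
        Subgroup.normalizer (D₀.map H.subtype : Set G) := sup_le Subgroup.le_normalizer
      (Subgroup.zpowers_le.2 (Subgroup.centralizer_le_normalizer _ hzc))
    rw [← hD.eq_of_le h4 (hm'.bp.pgroup.to_le h3) (Br_ne_zero_of_mul_Br (hm'.bp.pgroup.to_le h3)
      le_sup_left (le_stabA_iff.1 ((le_inf h3 h5).trans hs.inf_le_stab))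
      (Fix_anti h4 (bIdS_mem _ _).2) h5 hm.mul (hs.Br_ne_zero h3 h5)) le_sup_left]
    exact Subgroup.mem_sup_right (Subgroup.mem_zpowers z)
  constructor
  · refine ⟨D, (isDefectGroup_iff hB.2.1).2 hm'.isDef, ?_,
      Subgroup.map_mono (Subgroup.map_subtype_le _), hs.le⟩
    rintro _ ⟨z, hz, rfl⟩
    have h3 : ∀ w ∈ D₀.map H.subtype, w * z = z * w := fun w hw =>
      congrArg Subtype.val (Subgroup.mem_center_iff.1 hz ⟨w, hs.le hw⟩)
    obtain ⟨z', hz', h4⟩ := h2 z z.2 h3
    refine ⟨z', ⟨⟨z', hz'⟩, Subgroup.mem_center_iff.2 fun w => Subtype.ext (Subtype.ext ?_), rfl⟩,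
      h4⟩
    have := h3 _ ⟨w, w.2, rfl⟩
    rw [← h4] at this
    exact this
  · intro D' hD' hab
    obtain ⟨n, -, rfl⟩ := ((isDefectGroup_iff hB.2.1).1 hD').exists_cj_eq hm'.isDef
    have h3 : cj n D' = D₀.map H.subtype := by
      refine le_antisymm (fun z hz => h2 z hz fun w hw => ?_) hs.le
      obtain ⟨z, hz, rfl⟩ := hz
      obtain ⟨w, hw', rfl⟩ := hs.le hw
      rw [← map_mul, ← map_mul]
      exact congrArg _ (congrArg Subtype.val (hab.is_comm.comm (⟨w, hw'⟩ : D') ⟨z, hz⟩))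
    rw [← h3]
    exact (isDefectGroup_iff hB.2.1).2 hm'.isDef

end Cfsg.Agent.S4726
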