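import Cfsg.Statements.S4727
import Cfsg.Agent.H4.Rob2

set_option autoImplicit false
open Cfsg

namespace Cfsg.Agent.S4727

open CfsgH4 CfsgH3 CfsgH2 MonoidAlgebra

/-- Let p be a prime, π a set of primes containing p, M a maximal ideal of the algebraic integers containing p, and B a p-block of the finite group G with defect group D; let B₁ be the block of N_G(D) with defect group D that induces B (the Brauer correspondent of B). Suppose every element of O_π'(N_G(D)), the largest normal subgroup of N_G(D) whose order has no prime divisor in π, lies in the kernel of every member of B₁. If y is a p-element whose centralizer C has a normal Hall π'-subgroup (every element of C whose order has no prime divisor in π lies in O_π'(C)), then χ(y x) = χ(y) for every χ ∈ B and every x ∈ C whose order has no prime divisor in π. -/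
theorem result {G : Type*} [Group G] [Finite G] (p : ℕ) [Fact p.Prime] (M : Ideal Cfsg.AlgInt) (hM : Cfsg.IsPModular p M) (π : Set ℕ) (hpπ : p ∈ π) (B : Set (Cfsg.IrrCharacter G)) (hB : Cfsg.IsPBlock M B) (D : Subgroup G) (hBD : Cfsg.IsDefectGroup p M B D) (B₁ : Set (Cfsg.IrrCharacter ↥(Subgroup.normalizer (D : Set G)))) (hB₁ : Cfsg.IsInducedBlock M (Subgroup.normalizer (D : Set G)) B₁ B) (hB₁D : Cfsg.IsDefectGroup p M B₁ (D.subgroupOf (Subgroup.normalizer (D : Set G)))) (hker : ∀ n : ↥(Subgroup.normalizer (D : Set G)), n ∈ Cfsg.piCore {q | q ∉ π} ↥(Subgroup.normalizer (D : Set G)) → n ∈ Cfsg.blockKer B₁) (y : G) (hy : ∃ k : ℕ, orderOf y = p ^ k) (hC : ∀ x : ↥(Subgroup.centralizer ({y} : Set G)), (∀ q : ℕ, q.Prime → q ∣ orderOf x → q ∉ π) → x ∈ Cfsg.piCore {q | q ∉ π} ↥(Subgroup.centralizer ({y} : Set G))) : ∀ χ ∈ B, ∀ x : G, x ∈ Subgroup.centralizer ({y} : Set G) → (∀ q : ℕ, q.Prime → q ∣ orderOf x → q ∉ π) → (χ : G → ℂ) (y * x) = (χ : G → ℂ) y := by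
  classical
  have := hM.2.1
  have := charP_of_isPModular hM
  have hπ : p ∉ {q | q ∉ π} := fun h => h hpπ
  intro χ hχ x hx hx'
  have hc : Commute y x := (Subgroup.mem_centralizer_singleton_iff.1 hx).symm
  have h1 : IsPPart p (y * x) y := isPPart_mul hc hy fun h => hx' p Fact.out h hpπ
  rw [apply_eq_sum_induced h1 hB hχ, apply_eq_sum_induced (isPPart_self hy) hB hχ]
  refine Finset.sum_congr rfl fun b hb => ?_
  have h2 := (Finset.mem_filter.1 hb).2
  obtain ⟨h3, -, h4⟩ := isInducedBlock_iff.1 h2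
  obtain ⟨k, hk⟩ := hy
  have hQ := isPGroup_zpowers_of_orderOf hk
  have h5 : BP p ⊤ (Subgroup.zpowers y) (bIdS M _ b) :=
    ⟨le_top, hQ, by rw [Cn_top, centralizer_zpowers]; exact isPrim_bIdS h3⟩
  have h6 := (h5.ind_iff (isPrim_bId hB) (by
    rw [Cn_top, centralizer_zpowers]; exact zpowers_le_centralizer_self y)).1
    (by rwa [Cn_top, centralizer_zpowers])
  have h7 := kerPi_of_correspondent hπ ((isDefectGroup_iff hB).1 hBD) hB₁ hker h5 h6
  rw [centralizer_zpowers] at h7
  have h8 := (lam_hat_ne_zero_iff_S h3 fun h => hπ (CfsgH1.isPiNum_card_piCore _ _ p Fact.out h)).1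
    (h7 _ (Subgroup.map_subtype_le _) (Subgroup.le_normalizer.trans
      (CfsgH1.normalizer_le_normalizer_map_of_characteristic _)) (CfsgH1.isPiNum_card_map_piCore _))
    ⟨x, hx⟩ (hC _ (by simpa using hx'))
  have h9 := congrArg (emb ℂ (Subgroup.centralizer ({y} : Set G)).subtype) (eSet_mul_single_of_ker h8)
  rw [map_mul, emb_single] at h9
  have h10 : (single (y * x) 1 : ℂ[G]) = single x 1 * single y 1 := by
    rw [single_mul_single, one_mul, hc.eq]
  have h11 : eSetS _ b * single x 1 = eSetS _ b := h9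
  rw [h10, ← mul_assoc, h11]

end Cfsg.Agent.S4727
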