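import Cfsg.Statements.S4728
import Cfsg.Agent.H4.Rob2

set_option autoImplicit false
open Cfsg

namespace Cfsg.Agent.S4728

open CfsgH4 CfsgH3 CfsgH2 MonoidAlgebra

/-- Let p be a prime, π a set of primes containing p, M a maximal ideal of the algebraic integers containing p, B a p-block of the finite group G with defect group D, and B₁ the block of N_G(D) with defect group D inducing B. Let D₀ be a p-subgroup, H₀ = D₀·C_G(D₀), and b a block of H₀ inducing B. Write O_π'(X) for the largest normal subgroup of X whose order has no prime divisor in π. Suppose that O_π'(C_G(D₀)) is a normal Hall π'-subgroup of C_G(D₀) (it contains every element of C_G(D₀) whose order has no prime divisor in π) and that every element of it lies in the kernel of every member of b. Then every element of O_π'(N_G(D)) lies in the kernel of every member of B₁. -/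
theorem result {G : Type*} [Group G] [Finite G] (p : ℕ) [Fact p.Prime] (M : Ideal Cfsg.AlgInt) (hM : Cfsg.IsPModular p M) (π : Set ℕ) (hpπ : p ∈ π) (B : Set (Cfsg.IrrCharacter G)) (hB : Cfsg.IsPBlock M B) (D : Subgroup G) (hBD : Cfsg.IsDefectGroup p M B D) (B₁ : Set (Cfsg.IrrCharacter ↥(Subgroup.normalizer (D : Set G)))) (hB₁ : Cfsg.IsInducedBlock M (Subgroup.normalizer (D : Set G)) B₁ B) (hB₁D : Cfsg.IsDefectGroup p M B₁ (D.subgroupOf (Subgroup.normalizer (D : Set G)))) (D₀ : Subgroup G) (hD₀ : IsPGroup p D₀) (H₀ : Subgroup G) (hH₀ : H₀ = D₀ ⊔ Subgroup.centralizer (D₀ : Set G)) (b : Set (Cfsg.IrrCharacter ↥H₀)) (hb : Cfsg.IsInducedBlock M H₀ b B) (hcompl : ∀ x : ↥(Subgroup.centralizer (D₀ : Set G)), (∀ q : ℕ, q.Prime → q ∣ orderOf x → q ∉ π) → x ∈ Cfsg.piCore {q | q ∉ π} ↥(Subgroup.centralizer (D₀ : Set G))) (hkerb : ∀ x : ↥(Subgroup.centralizer (D₀ : Set G)), x ∈ Cfsg.piCore {q | q ∉ π} ↥(Subgroup.centralizer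 (D₀ : Set G)) → ∀ θ ∈ b, ∀ h : ↥H₀, (h : G) = (x : G) → (θ : ↥H₀ → ℂ) h = (θ : ↥H₀ → ℂ) 1) : ∀ n : ↥(Subgroup.normalizer (D : Set G)), n ∈ Cfsg.piCore {q | q ∉ π} ↥(Subgroup.normalizer (D : Set G)) → n ∈ Cfsg.blockKer B₁ := by
  have := hM.2.1
  have := charP_of_isPModular hM
  have hπ : p ∉ {q | q ∉ π} := fun h => h hpπ
  have hD := (isDefectGroup_iff hB).1 hBD
  have hE := isPrim_bId hB
  obtain ⟨h1, -, h2⟩ := isInducedBlock_iff.1 hb
  have hQH : D₀ ≤ H₀ := hH₀ ▸ le_sup_left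
  have hCH : Subgroup.centralizer (D₀ : Set G) ≤ H₀ := hH₀ ▸ le_sup_right
  have hHN : H₀ ≤ Subgroup.normalizer (D₀ : Set G) :=
    hH₀ ▸ sup_le Subgroup.le_normalizer (Subgroup.centralizer_le_normalizer _)
  have h3 := (ind_iff_mul_Br hD₀ hQH (by simpa using hCH) le_top hHN (isPrim_bIdS h1) hE).1 h2
  obtain ⟨f, hf, h4⟩ := exists_cover_above (K := Subgroup.centralizer (D₀ : Set G)) (isPrim_bIdS h1)
  have hHC := hHN.trans (normalizer_le_normalizer_centralizer D₀)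
  have h5 : BP p ⊤ D₀ f := ⟨le_top, hD₀, by rwa [Cn_top]⟩
  have h6 : ∀ a ∈ Zc (Res M) (Subgroup.centralizer (D₀ : Set G)) H₀,
      lam (Res M) (bIdS M H₀ b) a = lam (Res M) f a :=
    fun a ha => lam_of_cover hCH hHC (isPrim_bIdS h1) hf h4 ha
  have h7 : f * Br D₀ (bId M B) = f := by
    have h8 : Br D₀ (bId M B) ∈ Zc (Res M) (Subgroup.centralizer (D₀ : Set G)) H₀ :=
      ⟨Br_mem_Supp _ _, Br_mem_Fix (Fix_anti le_top hE.mem.2) hHN⟩
    have h9 := Br_idem hD₀ (Fix_anti le_top hE.mem.2) hE.idem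
    rw [← hf.lam_idem_eq_one_iff (isComm_Z _) (Zc_mono le_rfl hCH h8) h9, ← h6 _ h8,
      (isPrim_bIdS h1).lam_idem_eq_one_iff (isComm_Z _) (Zc_mono hCH le_rfl h8) h9, h3]
  set K := (piCore {q | q ∉ π} (Subgroup.centralizer (D₀ : Set G))).map
    (Subgroup.centralizer (D₀ : Set G)).subtype with hK
  have hKn := CfsgH1.isPiNum_card_map_piCore (π := {q | q ∉ π}) (Subgroup.centralizer (D₀ : Set G))
  have hK1 : H₀ ≤ Subgroup.normalizer (K : Set G) :=
    hHC.trans (CfsgH1.normalizer_le_normalizer_map_of_characteristic _)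
  have h8 : lam (Res M) f (hat (Res M) K) ≠ 0 := by
    rw [← h6 _ ⟨Supp_mono (Subgroup.map_subtype_le _) (hat_mem_Supp _),
      hat_mem_Fix_of_normalizer hK1⟩, lam_hat_ne_zero_iff_S' h1
      ((Subgroup.map_subtype_le _).trans hCH) hK1 fun h => hπ (hKn p Fact.out h)]
    rintro x ⟨y, hy, hxy⟩ θ hθ
    exact hkerb y hy θ hθ x hxy.symm
  obtain ⟨e, he⟩ := hD.exists_mp hE
  obtain ⟨n, -, h9⟩ := he.exists_cj_sl h5 h7
  let Φ : G → Prop := fun x => ∀ q : ℕ, q.Prime → q ∣ orderOf x → q ∉ π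
  have hΦ : ∀ n x, Φ x → Φ (n * x * n⁻¹) := fun n x h q hq h' => h q hq (by rwa [orderOf_conj'] at h')
  have h10 : ∀ x, x ∈ K ↔ x ∈ Subgroup.centralizer (D₀ : Set G) ∧ Φ x := fun x =>
    ⟨fun h => ⟨Subgroup.map_subtype_le _ h, fun q hq h' =>
      hKn q hq (h'.trans (Subgroup.orderOf_dvd_natCard _ h))⟩,
      fun h => ⟨⟨x, h.1⟩, hcompl _ (by simpa using h.2), rfl⟩⟩
  have h11 : ∀ x, x ∈ CfsgH2.cj n K ↔ x ∈ Cn ⊤ (CfsgH2.cj n D₀) ∧ Φ x := fun x => by
    rw [Cn_top, ← cj_centralizer, mem_cj, mem_cj, h10]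
    refine and_congr_right fun _ => ⟨fun h => by simpa [mul_assoc] using hΦ n _ h,
      fun h => by simpa using hΦ n⁻¹ _ h⟩
  have h12 := h9.lam_hat_up Φ hΦ h11
  rw [← cjA_hat, lam_cjA] at h12
  obtain ⟨h13, -, -⟩ := isInducedBlock_iff.1 hB₁
  have h14 := piCore_normalizer_le hπ hD.pgroup
  have h15 := CfsgH1.isPiNum_card_map_piCore (π := {q | q ∉ π}) (Subgroup.normalizer (D : Set G))
  have h16 : Subgroup.normalizer (D : Set G) ≤ Subgroup.normalizer _ := Subgroup.le_normalizer.trans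
    (CfsgH1.normalizer_le_normalizer_map_of_characteristic
      (piCore {q | q ∉ π} (Subgroup.normalizer (D : Set G))))
  have h17 : Cn ⊤ D ≤ Cn ⊤ (CfsgH2.cj n D₀) := Cn_anti h9.le
  rw [← lam_hat_ne_zero_iff_S h13 fun h => hπ (CfsgH1.isPiNum_card_piCore _ _ p Fact.out h),
    lam_eq_of_correspondent hD hB₁ he ⟨Supp_mono h14 (hat_mem_Supp _), hat_mem_Fix_of_normalizer h16⟩]
  refine he.bp.prim.lam_hat_of_le (isComm_Z _) (K := CfsgH2.cj n K ⊓ Subgroup.centralizer (D : Set G))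
    (fun x hx => ⟨(h11 x).2 ⟨h17 ⟨trivial, h14 hx⟩, fun q hq h' =>
      h15 q hq (h'.trans (Subgroup.orderOf_dvd_natCard _ hx))⟩, h14 hx⟩)
    ⟨Supp_mono (le_inf le_top h14) (hat_mem_Supp _),
      hat_mem_Fix_of_normalizer (Cn_le_normalizer.trans h16)⟩
    ⟨Supp_mono (inf_le_inf_right _ le_top) (hat_mem_Supp _), hat_mem_Fix_of_normalizer
      (le_normalizer_inf (fun t ht => mem_normalizer_of_conj_mem fun x hx => (h11 _).2
        ⟨mul_mem (mul_mem (h17 ht) ((h11 x).1 hx).1) (inv_mem (h17 ht)), hΦ _ _ ((h11 x).1 hx).2⟩)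
        (inf_le_right.trans Subgroup.le_normalizer))⟩
    (natCast_ne_zero_of_piNum hπ h15) (h12 ▸ h8)

end Cfsg.Agent.S4728
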