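import Cfsg.Statements.S4729
import Cfsg.Agent.H4.Prin

set_option autoImplicit false
open Cfsg

namespace Cfsg.Agent.S4729

open CfsgH4 CfsgH3 CfsgH2 MonoidAlgebra

/-- Let p be a prime, M a maximal ideal of the algebraic integers containing p, G a finite perfect group and P a Sylow p-subgroup. If the principal p-block of G contains a faithful irreducible character of degree less than 2p, then the centralizer of P is a p-group. -/
theorem result {G : Type*} [Group G] [Finite G] (p : ℕ) [Fact p.Prime] (M : Ideal Cfsg.AlgInt) (hM : Cfsg.IsPModular p M) (hperf : commutator G = ⊤) (P : Sylow p G) (χ : Cfsg.IrrCharacter G) (hχ : χ ∈ Cfsg.principalBlock M G) (hfaith : ∀ g : G, (χ : G → ℂ) g = (χ : G → ℂ) 1 → g = 1) (hdeg : Cfsg.charDegree (χ : G → ℂ) < 2 * p) : IsPGroup p ↥(Subgroup.centralizer ((P : Subgroup G) : Set G)) := by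
  have := hM.2.1
  have := charP_of_isPModular hM
  have hp : p.Prime := Fact.out
  suffices h : ∀ x ∈ Subgroup.centralizer ((P : Subgroup G) : Set G), ¬ p ∣ orderOf x → x = 1 by
    rintro ⟨g, hg⟩
    obtain ⟨s, t, h1, -, ⟨k, hk⟩, h3, -, h4⟩ := exists_ppart_decomp p g
    rw [h t (Subgroup.zpowers_le.2 hg h4) h3, mul_one] at h1
    exact ⟨k, Subtype.ext (by simp [h1, ← hk])⟩
  intro x hx hxp
  have := Fintype.ofFinite (Subgroup.zpowers x)
  have hZ : ¬ p ∣ Nat.card (Subgroup.zpowers x) := by rwa [Nat.card_zpowers]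
  have hc := χ.2.isChar.restrict (Subgroup.zpowers x)
  have hd := coe_charDegree χ.2.isChar
  have hdiv : ∀ ξ, IsIrrCharacter (Subgroup.zpowers x) ξ → ξ ≠ (fun _ => 1) → ∀ m : ℕ,
      classInner (fun z : Subgroup.zpowers x => χ.1 z) ξ = m → p ∣ m := fun ξ hξ h1 m hm => by
    have a : ∀ z : Subgroup.zpowers x, red M (χ.1 z / χ.1 1) = 1 := fun z =>
      red_div_of_principal hχ (not_dvd_index_of_sylow (IsSylowIn.of_sylow_top P)
        (le_centralizer_singleton_iff.2 (Subgroup.zpowers_le.2 hx z.2)))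
    have aL : ∀ z : Subgroup.zpowers x, χ.1 z / χ.1 1 ∈ Loc M := fun z =>
      mem_Loc_of_red_ne_zero (by rw [a]; exact one_ne_zero)
    have b := isIrr_one.inner_of_ne hξ h1.symm
    have c : (m : ℂ) = χ.1 1 * ((Nat.card (Subgroup.zpowers x) : ℂ)⁻¹ *
        ∑ z : Subgroup.zpowers x, χ.1 z / χ.1 1 * (starRingEnd ℂ) (ξ z)) := by
      rw [← hm, classInner, mul_left_comm, Finset.mul_sum _ _ (χ.1 1)]
      congr 1
      refine Finset.sum_congr rfl fun z _ => ?_
      have := χ.2.one_ne_zero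
      field_simp
    simp only [classInner, one_mul, mul_eq_zero, inv_eq_zero] at b
    have b' := b.resolve_left (card_ne_zero_complex _)
    have cL : ∀ z, (starRingEnd ℂ) (ξ z) ∈ Loc M := conj_char_mem_Loc hξ.isChar
    rw [← red_natCast_eq_zero_iff (M := M), c]
    have sL : ∑ z : Subgroup.zpowers x, χ.1 z / χ.1 1 * (starRingEnd ℂ) (ξ z) ∈ Loc M :=
      sum_mem fun z _ => mul_mem (aL z) (cL z)
    refine red_mul_eq_zero_right (irr_mem_Loc χ 1) (mul_mem (inv_natCast_mem_Loc hZ) sL)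
      (red_mul_eq_zero_right (inv_natCast_mem_Loc hZ) sL ?_)
    rw [red_sum _ _ fun z _ => mul_mem (aL z) (cL z)]
    simp only [red_mul (aL _) (cL _), a, one_mul]
    rw [← red_sum _ _ fun z _ => cL z, b', red_zero]
  by_contra hx1
  obtain ⟨ξ, hξ, h1, h2⟩ : ∃ ξ, IsIrrCharacter (Subgroup.zpowers x) ξ ∧
      classInner (fun z : Subgroup.zpowers x => χ.1 z) ξ ≠ 0 ∧ ξ ≠ fun _ => 1 := by
    by_contra h
    push Not at h
    exact hx1 (hfaith x (apply_eq_of_constituents hc (c := ⟨x, Subgroup.mem_zpowers x⟩)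
      fun ψ a b => by rw [h ψ a b]))
  have hcomm : ∀ a b : Subgroup.zpowers x, a * b = b * a := fun ⟨_, i, rfl⟩ ⟨_, j, rfl⟩ =>
    Subtype.ext (Commute.zpow_zpow_self x i j)
  obtain ⟨m, hm⟩ := hc.inner_nat hξ.isChar
  have hξ1 := hξ.deg_one_of_comm hcomm
  have hm1 := hc.mul_deg_le hξ hm hd.symm (b := 1) (by simpa using hξ1)
  obtain ⟨k, rfl⟩ := hdiv ξ hξ h2 m hm
  have hk : k ≠ 0 := fun e => h1 (by simp [hm, e])
  have h3 := hc.sub_smul_constituent hξ hm (Nat.le_mul_of_pos_right p (Nat.pos_of_ne_zero hk))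
  obtain ⟨n, hn⟩ := h3.exists_deg
  have hn' : n + p = charDegree χ.1 := by
    simp only [Pi.sub_apply, Pi.smul_apply, OneMemClass.coe_one, hξ1, smul_eq_mul, mul_one] at hn
    have : (n : ℂ) + p = charDegree χ.1 := by rw [← hn, hd]; ring
    exact_mod_cast this
  have h4 : ((fun z : Subgroup.zpowers x => χ.1 z) - (p : ℂ) • ξ) = (n : ℂ) • fun _ => (1 : ℂ) := by
    funext z
    rw [apply_eq_of_constituents h3 (c := z) fun ψ a b => ?_, hn]
    · simp
    · by_contra e
      have e' : ψ ≠ fun _ => 1 := fun e' => e (by rw [e'])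
      obtain ⟨r, hr⟩ := h3.inner_nat a.isChar
      have r1 := h3.mul_deg_le a hr hn (b := 1) (by simpa using a.deg_one_of_comm hcomm)
      obtain ⟨s, hs⟩ := hc.inner_nat a.isChar
      obtain ⟨t, ht⟩ := hξ.isChar.inner_nat a.isChar
      have r2 : (r : ℂ) + p * t = s := by
        rw [← hr, CfsgH3.inner_sub_left, CfsgH3.inner_smul_left, hs, ht]; ring
      have r3 : r + p * t = s := by exact_mod_cast r2
      have r4 : p ∣ r := (Nat.dvd_add_left (dvd_mul_right p t)).1 (r3 ▸ hdiv ψ a e' s hs)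
      have r5 : r ≠ 0 := fun e => b (by simp [hr, e])
      have := Nat.le_of_dvd (Nat.pos_of_ne_zero r5) r4
      omega
  obtain ⟨lam, rfl⟩ := hξ.isChar.exists_hom_of_deg_one hξ1
  obtain ⟨δ, hδ⟩ := exists_detHom χ.2.isChar
  apply h2
  funext z
  have h5 : detChar (fun z : Subgroup.zpowers x => χ.1 z) z = 1 := by
    rw [← detChar_res χ.2.isChar (fun _ => rfl), hδ]
    simp [lin_commutator δ (hperf ▸ Subgroup.mem_top _)]
  rw [sub_eq_iff_eq_add.1 h4, detChar_add (isChar_one.natCast_smul n) (hξ.isChar.natCast_smul p),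
    detChar_nsmul isChar_one, detChar_nsmul hξ.isChar, detChar_one, detChar_lin, one_pow,
    one_mul] at h5
  have h6 : (lam z : ℂ) ^ Nat.card (Subgroup.zpowers x) = 1 := by
    rw [← Units.val_pow_eq_pow_val, ← map_pow, pow_card_eq_one', map_one, Units.val_one]
  exact eq_one_of_red_eq_one (M := M) hZ h6 (red_eq_one_of_pow_eq_one (k := 1) (by simpa using h5))

end Cfsg.Agent.S4729
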