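import Cfsg.Statements.S4730
import Cfsg.Agent.H4.Deg
import Cfsg.Agent.H4.Prin

set_option autoImplicit false
open Cfsg

namespace Cfsg.Agent.S4730

open CfsgH4 CfsgH3 CfsgH2 MonoidAlgebra

/-- Let p be a prime, M a maximal ideal of the algebraic integers containing p, and G a finite group with trivial centre, Sylow p-subgroup P of order p^a and centre Z(P) of order p^b. If χ is a faithful irreducible character of G whose degree is a power of p, then the p-block of χ has defect at most a − b; in particular, if P is abelian then χ lies in a block of defect zero. -/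
theorem result {G : Type*} [Group G] [Finite G] (p : ℕ) [Fact p.Prime] (M : Ideal Cfsg.AlgInt) (hM : Cfsg.IsPModular p M) (hZ : Subgroup.center G = ⊥) (P : Sylow p G) (a b : ℕ) (ha : Nat.card P = p ^ a) (hb : Nat.card (Subgroup.center ↥(P : Subgroup G)) = p ^ b) (χ : Cfsg.IrrCharacter G) (hfaith : ∀ g : G, (χ : G → ℂ) g = (χ : G → ℂ) 1 → g = 1) (n : ℕ) (hdeg : Cfsg.charDegree (χ : G → ℂ) = p ^ n) : Cfsg.blockDefect p (Cfsg.blockOf M (χ : G → ℂ)) ≤ a - b ∧ (IsMulCommutative ↥(P : Subgroup G) → Cfsg.blockDefect p (Cfsg.blockOf M (χ : G → ℂ)) = 0) := by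
  have := hM.2.1
  have := charP_of_isPModular hM
  have := Fintype.ofFinite G
  classical
  have hp : p.Prime := Fact.out
  set Z := (Subgroup.center (P : Subgroup G)).map (P : Subgroup G).subtype with hZd
  have := Fintype.ofFinite Z
  have hZc : Nat.card Z = p ^ b := by rw [← hb, hZd, Subgroup.card_map_of_injective (Subgroup.subtype_injective _)]
  have hi : ∀ z : Z, ¬ p ∣ (Subgroup.centralizer ({z.1} : Set G)).index := by
    rintro ⟨_, z, hz, rfl⟩
    exact not_dvd_index_of_sylow (IsSylowIn.of_sylow P le_top) fun x hx => Subgroup.mem_centralizer_singleton_iff.2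
      (congrArg Subtype.val (Subgroup.mem_center_iff.1 hz ⟨x, hx⟩))
  have h0 : ∀ z : Z, z ≠ 1 → χ.1 z = 0 := fun z hz => by
    refine (χ.2.eq_zero_or_norm_eq_of_coprime (coe_charDegree χ.2.isChar).symm z.1 ?_).resolve_right fun h => hz ?_
    · rw [hdeg]; exact Nat.Coprime.pow_left _ ((Nat.Prime.coprime_iff_not_dvd hp).2 (hi z))
    · refine Subtype.ext (Subgroup.mem_bot.1 (hZ.le (Subgroup.mem_center_iff.2 fun g => ?_)))
      have := hfaith _ (χ.2.isChar.commutator_mem_ker h g)
      exact (mul_inv_eq_iff_eq_mul.1 (mul_inv_eq_one.1 this)).symm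
  obtain ⟨ψ, hψ, hν⟩ := exists_nu_eq_minNu (p := p) ⟨χ, mem_blockOf_self (M := M) χ⟩
  have h1 : ∀ z : Z, ψ.1 z / ψ.1 1 ∈ Loc M ∧ red M (ψ.1 z / ψ.1 1) = if z = 1 then 1 else 0 := fun z => by
    have h2 := red_natCast_ne_zero (M := M) (hi z)
    have h3 : ψ.1 z / ψ.1 1 = centralChar ψ.1 z / ((Subgroup.centralizer ({z.1} : Set G)).index : ℂ) := by
      have := ne_zero_of_red_ne_zero h2
      rw [centralChar]; field_simp
    refine ⟨h3 ▸ div_mem_Loc (centralChar_mem_Loc ψ.2 _) h2, ?_⟩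
    split_ifs with h
    · rw [h, Subgroup.coe_one, div_self ψ.2.one_ne_zero, red_one]
    · rw [h3, red_div' (centralChar_mem_Loc ψ.2 _) h2, ← (sameBlock_iff χ.2 ψ.2).1 hψ, centralChar, h0 z h]
      simp
  obtain ⟨k, hk⟩ := (ψ.2.isChar.restrict Z).inner_nat isChar_one
  have h2 : ∑ z : Z, ψ.1 z / ψ.1 1 = ((p ^ b * k : ℕ) : ℂ) / charDegree ψ.1 := by
    rw [inner_one_right, hZc, inv_mul_eq_iff_eq_mul₀ (Nat.cast_ne_zero.2 (pow_ne_zero _ hp.ne_zero))] at hk
    rw [← Finset.sum_div, hk, coe_charDegree ψ.2.isChar, Nat.cast_mul]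
  have h3 : red M (((p ^ b * k : ℕ) : ℂ) / charDegree ψ.1) ≠ 0 := by
    rw [← h2, red_sum _ _ fun z _ => (h1 z).1, Finset.sum_congr rfl fun z _ => (h1 z).2]
    simp
  have hk0 : k ≠ 0 := by rintro rfl; simp at h3
  rw [red_natCast_div_ne_zero_iff (mul_ne_zero (pow_ne_zero _ hp.ne_zero) hk0) (charDegree_pos ψ.2).ne',
    Nat.factorization_mul (pow_ne_zero _ hp.ne_zero) hk0, Finsupp.add_apply, hp.factorization_pow,
    Finsupp.single_eq_same] at h3
  have h4 : a = (Nat.card G).factorization p := Nat.pow_right_injective hp.two_le (ha.symm.trans P.card_eq_multiplicity)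
  have h5 : blockDefect p (blockOf M χ.1) ≤ a - b := by
    rw [blockDefect_eq, ← hν, ← h4]; unfold nu; omega
  refine ⟨h5, fun h => ?_⟩
  have : b = a := Nat.pow_right_injective hp.two_le (by
    simp only [← ha, ← hb, Subgroup.center_eq_top_iff.2 h, Subgroup.card_top])
  omega

end Cfsg.Agent.S4730
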