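import Cfsg.Statements.S4734
import Cfsg.Agent.H4.Rob2

set_option autoImplicit false
open Cfsg

namespace Cfsg.Agent.S4734

open CfsgH4 CfsgH3 CfsgH2 MonoidAlgebra

/-- Let p be a prime, π a set of primes containing p, M a maximal ideal of the algebraic integers containing p, B a p-block of the finite group G with defect group D, and B₁ the block of N_G(D) with defect group D inducing B. Write O_π'(X) for the largest normal subgroup of X whose order has no prime divisor in π, and suppose every element of O_π'(N_G(D)) lies in the kernel of every member of B₁. Let G₀ be a subgroup and B₀ a block of G₀ with defect group D₀ such that C_G(D₀) ≤ G₀ and B₀ induces B. Then every element of O_π'(G₀) lies in the kernel of every member of B₀. -/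
theorem result {G : Type*} [Group G] [Finite G] (p : ℕ) [Fact p.Prime] (M : Ideal Cfsg.AlgInt) (hM : Cfsg.IsPModular p M) (π : Set ℕ) (hpπ : p ∈ π) (B : Set (Cfsg.IrrCharacter G)) (hB : Cfsg.IsPBlock M B) (D : Subgroup G) (hBD : Cfsg.IsDefectGroup p M B D) (B₁ : Set (Cfsg.IrrCharacter ↥(Subgroup.normalizer (D : Set G)))) (hB₁ : Cfsg.IsInducedBlock M (Subgroup.normalizer (D : Set G)) B₁ B) (hB₁D : Cfsg.IsDefectGroup p M B₁ (D.subgroupOf (Subgroup.normalizer (D : Set G)))) (hker : ∀ n : ↥(Subgroup.normalizer (D : Set G)), n ∈ Cfsg.piCore {q | q ∉ π} ↥(Subgroup.normalizer (D : Set G)) → n ∈ Cfsg.blockKer B₁) (G₀ : Subgroup G) (B₀ : Set (Cfsg.IrrCharacter ↥G₀)) (hB₀ : Cfsg.IsInducedBlock M G₀ B₀ B) (D₀ : Subgroup ↥G₀) (hD₀ : Cfsg.IsDefectGroup p M B₀ D₀) (hC : Subgroup.centralizer ((D₀.map G₀.subtype : Subgroup G) : Set G) ≤ G₀) : ∀ x : ↥G₀, x ∈ Cfsg.piCore {q | q ∉ π} ↥G₀ → x ∈ Cfsg.blockKer B₀ := by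
  have := hM.2.1
  have := charP_of_isPModular hM
  have hπ : p ∉ {q | q ∉ π} := fun h => h hpπ
  obtain ⟨h1, -, h2⟩ := isInducedBlock_iff.1 hB₀
  have h3 := (isDefectGroup_iff_S h1).1 hD₀
  set Q := D₀.map G₀.subtype with hQ
  obtain ⟨f, hf⟩ := h3.exists_mp (isPrim_bIdS h1)
  have h4 : Cn ⊤ Q = Cn G₀ Q := by rw [Cn_top, Cn, inf_eq_right.2 hC]
  have h5 : BP p ⊤ Q f := hf.bp.of_Cn_eq le_top h4
  have h6 : ∀ a ∈ Zc (Res M) G₀ G₀, lam (Res M) f (Br Q a) = lam (Res M) (bIdS M G₀ B₀) a :=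
    fun a ha => lam_Br (isComm_Z _) (isComm_Z _) (isPrim_bIdS h1) hf.bp.prim h3.pgroup
      (fun a ha => Fix_anti h3.le ha.2) (fun a ha => Br_mem_Z_Cn ha.1 (Fix_anti inf_le_left ha.2))
      (by rw [hf.mul]; exact hf.bp.ne_zero) ha
  have h7 : f * Br Q (bId M B) = f := by
    have hE := isPrim_bId hB
    rw [← h5.prim.lam_idem_eq_one_iff (isComm_Z _) (Br_mem_Z_Cn hE.mem.1 (Fix_anti le_top hE.mem.2))
      (Br_idem h3.pgroup (Fix_anti le_top hE.mem.2) hE.idem),
      ← Br_tr_of_le (N := ⊤) (H := G₀) (by simpa using hC) hE.mem.1, h6 _ (tr_mem_Z le_top hE.mem)]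
    exact h2.lam_tr hE
  have h8 := kerPi_of_correspondent hπ ((isDefectGroup_iff hB).1 hBD) hB₁ hker h5 h7
  have h9 := CfsgH1.isPiNum_card_map_piCore (π := {q | q ∉ π}) G₀
  have h10 : G₀ ≤ Subgroup.normalizer _ := Subgroup.le_normalizer.trans
    (CfsgH1.normalizer_le_normalizer_map_of_characteristic (piCore {q | q ∉ π} G₀))
  rw [← lam_hat_ne_zero_iff_S h1 fun h => hπ (CfsgH1.isPiNum_card_piCore _ _ p Fact.out h),
    ← h6 _ ⟨Supp_mono (Subgroup.map_subtype_le _) (hat_mem_Supp _), hat_mem_Fix_of_normalizer h10⟩,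
    tr_hat, ← Subgroup.coe_inf]
  exact h8 _ inf_le_left (le_normalizer_inf Subgroup.le_normalizer (hC.trans h10))
    (h9.of_dvd (Subgroup.card_dvd_of_le inf_le_right))

end Cfsg.Agent.S4734
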