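import Cfsg.Statements.S4735
import Cfsg.Agent.H4.Reg2

set_option autoImplicit false
open Cfsg

namespace Cfsg.Agent.S4735

open CfsgH4 CfsgH3 CfsgH2 MonoidAlgebra

/-- Let p be a prime, M a maximal ideal of the algebraic integers containing p, G a finite group, H = O_p'(G) and Ḡ = G/H. For x ∈ G write λ(G, x) for the sum of |χ(x)|^2 over the irreducible characters χ in the principal p-block of G. Then λ(G, x) is a positive integer, λ(G, x) = λ(Ḡ, x̄) where x̄ is the image of x, and λ(G, x) ≤ #C_Ḡ(x̄). Moreover λ(G, 1) = [G : H] if and only if the principal block is the only p-block of Ḡ. -/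
theorem result {G : Type*} [Group G] [Finite G] (p : ℕ) [Fact p.Prime] (M : Ideal Cfsg.AlgInt) (hM : Cfsg.IsPModular p M) (x : G) : (∃ n : ℕ, 0 < n ∧ ∑ᶠ χ ∈ Cfsg.principalBlock M G, Complex.normSq ((χ : G → ℂ) x) = n) ∧ ∑ᶠ χ ∈ Cfsg.principalBlock M G, Complex.normSq ((χ : G → ℂ) x) = ∑ᶠ ψ ∈ Cfsg.principalBlock M (G ⧸ Cfsg.pPrimeCore p G), Complex.normSq ((ψ : G ⧸ Cfsg.pPrimeCore p G → ℂ) (QuotientGroup.mk x)) ∧ ∑ᶠ χ ∈ Cfsg.principalBlock M G, Complex.normSq ((χ : G → ℂ) x) ≤ (Nat.card ↥(Subgroup.centralizer ({(QuotientGroup.mk x : G ⧸ Cfsg.pPrimeCore p G)} : Set (G ⧸ Cfsg.pPrimeCore p G))) : ℝ) ∧ ((∑ᶠ χ ∈ Cfsg.principalBlock M G, Cfsg.charDegree (χ : G → ℂ) ^ 2) = (Cfsg.pPrimeCore p G).index ↔ ∀ B : Set (Cfsg.IrrCharacter (G ⧸ Cfsg.pPrimeCore p G)), Cfsg.IsPBlock M B → B = Cfsg.principalBlock M (G ⧸ Cfsg.pPrimeCore p G)) := by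
  have := hM.2.1
  have := charP_of_isPModular hM
  have hN := CfsgH1.not_dvd_card_pPrimeCore p G
  simp only [finsum_mem_irr]
  have e : ∀ {W : Type} [AddCommMonoid W] (f : IrrCharacter G → W),
      ∑ χ ∈ irrF (principalBlock M G), f χ =
        ∑ χ ∈ irrF (principalBlock M (G ⧸ pPrimeCore p G)), f (infl _ χ) := by
    intro W _ f
    rw [principal_infl hN, sum_irrF_image_infl]
  refine ⟨?_, e _, ?_, ?_⟩
  · obtain ⟨n, hn⟩ := exists_nat_sum_normSq (B := principalBlock M G)
      (fun σ χ => galIrr_mem_principal p σ) x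
    refine ⟨n, ?_, hn⟩
    have := Finset.single_le_sum (f := fun χ : IrrCharacter G => Complex.normSq (χ.1 x))
      (fun χ _ => Complex.normSq_nonneg _) (mem_irrF.2 (one_mem_principal (M := M)))
    rw [hn] at this
    simp only [map_one] at this
    exact_mod_cast lt_of_lt_of_le zero_lt_one this
  · rw [e, ← sum_irr_normSq]
    simp only [infl_apply, Complex.normSq_eq_norm_sq]
    exact Finset.sum_le_sum_of_subset_of_nonneg (Finset.subset_univ _) fun _ _ _ => sq_nonneg _
  · rw [e]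
    simp only [charDegree_infl]
    have h1 : ∑ χ : IrrCharacter (G ⧸ pPrimeCore p G), charDegree χ.1 ^ 2 = (pPrimeCore p G).index := by
      rw [Subgroup.index, ← sum_deg_sq]
      exact Finset.sum_congr rfl fun χ _ => by rw [charDegree_eq (deg_spec χ)]
    rw [← h1]
    constructor
    · intro h B hB
      obtain ⟨χ, hχ⟩ := block_nonempty hB
      refine block_eq_of_mem hB isPBlock_principal hχ ?_
      by_contra hn
      have := Finset.sum_lt_sum_of_subset (f := fun χ : IrrCharacter (G ⧸ pPrimeCore p G) =>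
        charDegree χ.1 ^ 2) (Finset.subset_univ (irrF (principalBlock M (G ⧸ pPrimeCore p G))))
        (Finset.mem_univ χ) (by simpa using hn) (pow_pos (charDegree_pos χ.2) 2)
        (fun _ _ _ => Nat.zero_le _)
      omega
    · intro h
      refine Finset.sum_congr ?_ fun _ _ => rfl
      ext χ
      simp only [mem_irrF, Finset.mem_univ, iff_true]
      rw [← h _ (isPBlock_blockOf χ)]
      exact mem_blockOf_self χ

end Cfsg.Agent.S4735
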