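import Cfsg.Statements.S4736
import Cfsg.Agent.H4.PSol
import Cfsg.Agent.S4713

set_option autoImplicit false
open Cfsg

namespace Cfsg.Agent.S4736

open CfsgH4 CfsgH3 CfsgH2 MonoidAlgebra

/-- Let p be a prime, M a maximal ideal of the algebraic integers containing p, and G a finite p-solvable group with Sylow p-subgroup P. Then P is abelian if and only if every irreducible character in the principal p-block of G has height zero. -/
theorem result {G : Type*} [Group G] [Finite G] (p : ℕ) [Fact p.Prime] (M : Ideal Cfsg.AlgInt) (hM : Cfsg.IsPModular p M) (hsolv : Cfsg.IsPSolvable p G) (P : Sylow p G) : IsMulCommutative P ↔ ∀ χ ∈ Cfsg.principalBlock M G, Cfsg.blockHeight p (Cfsg.principalBlock M G) (χ : G → ℂ) = 0 := by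
  have := hM.2.1
  have := charP_of_isPModular hM
  let N := pPrimeCore p G
  let π := QuotientGroup.mk' N
  have hπ := QuotientGroup.mk'_surjective N
  have hinj : ∀ x ∈ (P : Subgroup G), π x = 1 → x = 1 := fun x hx h =>
    Subgroup.disjoint_def.1 (CfsgH1.disjoint_of_isPGroup_of_coprime P.isPGroup'
      (CfsgH1.coprime_card_pPrimeCore p G)) hx ((QuotientGroup.eq_one_iff x).1 h)
  have h1 := S4713.result p (CfsgH1.IsPSolvable.quotient hsolv N) (P.mapSurjective hπ)
  have h2 : (∀ χ : IrrCharacter (G ⧸ N), ¬ p ∣ charDegree χ.1) ↔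
      ∀ χ ∈ principalBlock M G, blockHeight p (principalBlock M G) χ.1 = 0 := by
    constructor
    · intro h χ hχ
      obtain ⟨β, h3, h4⟩ := χ.2.exists_quotient N ((mem_principal_iff_psolv hM hsolv).1 hχ)
      refine height_eq_zero_of_not_dvd ?_
      rw [← show charDegree β = charDegree χ.1 from congrArg (fun z : ℂ => ⌊z.re⌋₊) (h4 1)]
      exact h ⟨β, h3⟩
    · intro h β hβ
      have h3 := h ⟨_, β.2.inflate⟩ ((mem_principal_iff_psolv hM hsolv).2 fun n hn => by
        show β.1 _ = β.1 _
        rw [(QuotientGroup.eq_one_iff n).2 hn]; rfl)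
      rw [blockHeight_eq, minNu_principal, Nat.sub_zero] at h3
      exact ((Fact.out : p.Prime).factorization_pos_of_dvd (charDegree_pos β.2).ne' hβ).ne' h3
  rw [← h2, ← h1]
  constructor
  · intro h
    refine ⟨?_, ⟨⟨?_⟩⟩⟩
    · have := (CfsgH1.pLengthLE_one_iff_normal P).1 (CfsgH1.pLengthLE_one_of_abelian_sylow hsolv P)
      have h3 := this.map π hπ
      rwa [Subgroup.map_sup, (Subgroup.map_eq_bot_iff N).2 (by rw [QuotientGroup.ker_mk']),
        sup_bot_eq] at h3
    · rintro ⟨_, a, ha, rfl⟩ ⟨_, b, hb, rfl⟩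
      refine Subtype.ext ?_
      show π a * π b = π b * π a
      rw [← map_mul, ← map_mul, mul_comm_of_isMulCommutative h ha hb]
  · rintro ⟨-, h⟩
    refine ⟨⟨fun a b => Subtype.ext ?_⟩⟩
    refine mul_inv_eq_one.1 (hinj _ (mul_mem (a * b).2 (inv_mem (b * a).2)) ?_)
    have := mul_comm_of_isMulCommutative h (a := π a) (b := π b) ⟨a, a.2, rfl⟩ ⟨b, b.2, rfl⟩
    simp only [Subgroup.coe_mul, map_mul, map_inv, this, mul_inv_cancel]

end Cfsg.Agent.S4736
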