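import Cfsg.Statements.S4741
import Cfsg.Agent.H4.Rob2

set_option autoImplicit false
open Cfsg

namespace Cfsg.Agent.S4741

open CfsgH4 CfsgH3 CfsgH2 MonoidAlgebra

theorem det_aux {F ι : Type*} [Field F] [Fintype ι] [DecidableEq ι] (A B : Matrix ι ι F)
    (u w : ι → F) (h : ∀ i j, A i j * u i = w j * B i j) (hu : ∀ i, u i ≠ 0) (hB : B.det = 0) :
    A.det = 0 := by
  have h7 : Matrix.diagonal u * A = B * Matrix.diagonal w := by
    ext i j
    rw [Matrix.diagonal_mul, Matrix.mul_diagonal, mul_comm, h, mul_comm]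
  have h8 := congrArg Matrix.det h7
  rw [Matrix.det_mul, Matrix.det_mul, hB, zero_mul, Matrix.det_diagonal] at h8
  exact (mul_eq_zero.1 h8).resolve_left (Finset.prod_ne_zero_iff.2 fun i _ => hu i)

/-- Let p be a prime, M a maximal ideal of the algebraic integers containing p, and D a subgroup of the finite group G. Let x₁, …, x_r be pairwise non-conjugate elements of G such that D is a Sylow p-subgroup of the centralizer of each xᵢ, and such that for any conjugates g of some xᵢ and h of some xⱼ the element g h⁻¹ is never a non-identity p-element. Then there are r distinct p-blocks B₁, …, B_r of G, each having D as a defect group, such that for every choice of characters χᵢ ∈ Bᵢ of height zero the determinant of the r × r matrix (χᵢ(xⱼ)) does not lie in the local ideal at M. -/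
theorem result {G : Type*} [Group G] [Finite G] (p : ℕ) [Fact p.Prime] (M : Ideal Cfsg.AlgInt) (hM : Cfsg.IsPModular p M) (D : Subgroup G) {r : ℕ} (x : Fin r → G) (hx : ∀ i j : Fin r, IsConj (x i) (x j) → i = j) (hD : ∀ i : Fin r, ∃ S : Sylow p ↥(Subgroup.centralizer ({x i} : Set G)), (S : Subgroup ↥(Subgroup.centralizer ({x i} : Set G))).map (Subgroup.centralizer ({x i} : Set G)).subtype = D) (hsep : ∀ i j : Fin r, ∀ g h : G, IsConj (x i) g → IsConj (x j) h → ∀ k : ℕ, 0 < k → orderOf (g * h⁻¹) ≠ p ^ k) : ∃ B : Fin r → Set (Cfsg.IrrCharacter G), Function.Injective B ∧ (∀ i : Fin r, Cfsg.IsPBlock M (B i) ∧ Cfsg.IsDefectGroup p M (B i) D) ∧ ∀ χ : Fin r → Cfsg.IrrCharacter G, (∀ i : Fin r, χ i ∈ B i ∧ Cfsg.blockHeight p (B i) (χ i : G → ℂ) = 0) → ¬ Cfsg.MemLocalIdeal M (Matrix.det (Matrix.of fun i j : Fin r => (χ i : G → ℂ) (x j))) := by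
  classical
  have := hM.2.1
  have := charP_of_isPModular hM
  have h1 : ∀ i, IsSylowIn p D (Subgroup.centralizer {x i}) := fun i =>
    exists_sylow_map_iff.1 (by obtain ⟨S, hS⟩ := hD i; exact ⟨S, hS.symm⟩)
  have hx' : ∀ i, (Nat.card (Subgroup.centralizer ({x i} : Set G))).factorization p =
      (Nat.card D).factorization p := fun i => by
    rw [(h1 i).card_eq, (Fact.out : p.Prime).factorization_pow]; simp
  obtain ⟨f, h2, h3, h4⟩ := exists_blocks_of_sep (M := M) x hx hx' fun i j u v hu hv ⟨k, hk⟩ => by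
    rcases k with _ | k
    · exact mul_inv_eq_one.1 (by simpa using hk)
    · exact absurd hk (hsep j i v u hv hu _ k.succ_pos)
  refine ⟨f, h2, fun i => ⟨(h3 i).1, ?_⟩, fun χ hχ h5 => h4 ?_⟩
  · obtain ⟨j, hj⟩ := exists_ne_zero_of_det h4 i
    exact (isDefectGroup_iff (h3 i).1).2 (isDef_of_lamC (h3 i).1 hj (h1 j)
      ((h3 i).2.trans (hx' j).symm))
  · have h6 := (red_det (M := M) (N := Matrix.of fun i j : Fin r => (χ i).1 (x j))
      fun i j => irr_mem_Loc _ _).2
    rw [(memLocalIdeal_iff.1 h5).2] at h6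
    refine det_aux _ _ (fun i => red M ((χ i).1 1 / (p : ℂ) ^ minNu p (f i))) (fun j =>
      red M (((Subgroup.centralizer ({x j} : Set G)).index : ℂ) /
        (p : ℂ) ^ ((Nat.card G).factorization p - (Nat.card D).factorization p))) (fun i j => ?_)
      (fun i => (red_deg_div_pow_ne_zero_iff (hχ i).1).2 (hχ i).2) h6.symm
    rw [Matrix.of_apply, Matrix.map_apply, Matrix.of_apply,
      lamC_mul_eq (h3 i).1 (hχ i).1 ((hx' j).trans (h3 i).2.symm), (h3 i).2]

end Cfsg.Agent.S4741
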