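import Cfsg.Statements.S4743
import Cfsg.Agent.S4742

set_option autoImplicit false
open Cfsg

namespace Cfsg.Agent.S4743

open CfsgH4 CfsgH3 CfsgH2 MonoidAlgebra

theorem aux {G : Type*} [Group G] [Finite G] {p q : ℕ} [hp : Fact p.Prime] [hq : Fact q.Prime]
    (hpq : p ≠ q) (hG : p ∣ Nat.card G) (h : IsPSolvable p G) : ∃ K : Subgroup G, K.Normal ∧
      ((p ∣ Nat.card K ∧ ¬ q ∣ Nat.card K) ∨ (q ∣ Nat.card K ∧ ¬ p ∣ Nat.card K)) := by
  by_contra hc
  push Not at hc
  obtain ⟨n, H, h0, h1, h2, h3, h4⟩ := h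
  have key : ∀ i, ¬ p ∣ Nat.card (H i) ∧ ¬ q ∣ Nat.card (H i) := fun i => by
    induction i using Fin.induction with
    | zero => simp [h0, hp.out.ne_one, hq.out.ne_one]
    | succ i ih =>
      have e := card_mul_relIndex (h2 (Fin.castSucc_le_succ i))
      have h5 := hc _ (h3 i.succ)
      rcases h4 i with ⟨m, hm⟩ | hm
      · have : ¬ q ∣ Nat.card (H i.succ) := fun h => by
          rw [← e, hm] at h
          exact (hq.out.dvd_mul.1 h).elim ih.2 fun h =>
            hpq ((Nat.prime_dvd_prime_iff_eq hq.out hp.out).1 (hq.out.dvd_of_dvd_pow h)).symm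
        exact ⟨fun h => this (h5.1 h), this⟩
      · have : ¬ p ∣ Nat.card (H i.succ) := fun h => by
          rw [← e] at h
          exact (hp.out.dvd_mul.1 h).elim ih.1 (hp.out.coprime_iff_not_dvd.1 hm.symm)
        exact ⟨this, fun h => this (h5.2 h)⟩
  exact (key (Fin.last n)).1 (by rwa [h1, Subgroup.card_top])

theorem aux2 {G : Type*} [Group G] [Finite G] {p q : ℕ} [hp : Fact p.Prime] [hq : Fact q.Prime]
    {K : Subgroup G} (hK : K.Normal) (h1 : q ∣ Nat.card K) (h2 : ¬ p ∣ Nat.card K) :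
    ¬ ∀ z : G, z ≠ 1 → (∃ k : ℕ, orderOf z = q ^ k) → ∃ g h : G, IsConj z g ∧ IsConj z h ∧
      g * h⁻¹ ≠ 1 ∧ ∃ k : ℕ, orderOf (g * h⁻¹) = p ^ k := fun h => by
  obtain ⟨z, hz, ho⟩ := exists_orderOf_eq_prime h1
  obtain ⟨_, _, h3, h4, h5, k, hk⟩ := h z
    (by rintro rfl; exact hq.out.ne_one (by simpa using ho.symm)) ⟨1, by simpa using ho⟩
  obtain ⟨a, rfl⟩ := isConj_iff.1 h3
  obtain ⟨b, rfl⟩ := isConj_iff.1 h4
  have := Subgroup.orderOf_dvd_natCard K
    (mul_mem (hK.conj_mem z hz a) (inv_mem (hK.conj_mem z hz b)))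
  rcases k with _ | k
  · exact h5 (by simpa using hk)
  · exact h2 ((dvd_pow_self p k.succ_ne_zero).trans (hk ▸ this))

/-- Let p ≠ q be primes dividing the order of the finite group G, suppose the centralizer of every non-identity p-element has order prime to q, and suppose G is p-solvable or q-solvable. Then G has an irreducible character of p-defect zero or an irreducible character of q-defect zero. -/
theorem result {G : Type*} [Group G] [Finite G] (p q : ℕ) [Fact p.Prime] [Fact q.Prime] (hppq : p ≠ q) (hpG : p ∣ Nat.card G) (hqG : q ∣ Nat.card G) (hC : ∀ g : G, g ≠ 1 → (∃ k : ℕ, orderOf g = p ^ k) → ¬ q ∣ Nat.card ↥(Subgroup.centralizer ({g} : Set G))) (hsolv : Cfsg.IsPSolvable p G ∨ Cfsg.IsPSolvable q G) : (∃ χ : Cfsg.IrrCharacter G, (Cfsg.charDegree (χ : G → ℂ)).factorization p = (Nat.card G).factorization p) ∨ (∃ χ : Cfsg.IrrCharacter G, (Cfsg.charDegree (χ : G → ℂ)).factorization q = (Nat.card G).factorization q) := by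
  have hC' : ∀ g : G, g ≠ 1 → (∃ k : ℕ, orderOf g = q ^ k) →
      ¬ p ∣ Nat.card (Subgroup.centralizer ({g} : Set G)) := fun z hz1 ⟨k, hk⟩ h2 => by
    obtain ⟨y, hy, hyo⟩ := exists_orderOf_eq_prime h2
    refine hC y (by rintro rfl; rw [orderOf_one] at hyo; exact (Fact.out : p.Prime).one_lt.ne hyo)
      ⟨1, by simpa using hyo⟩ ?_
    have h3 : z ∈ Subgroup.centralizer ({y} : Set G) :=
      Subgroup.mem_centralizer_singleton_iff.2 (Subgroup.mem_centralizer_singleton_iff.1 hy).symm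
    refine Dvd.dvd.trans ?_ (Subgroup.orderOf_dvd_natCard _ h3)
    rcases k with _ | k
    · exact absurd (by simpa using hk) hz1
    · exact hk ▸ dvd_pow_self q k.succ_ne_zero
  have a1 := S4742.result p q hppq hpG hqG hC
  have a2 := S4742.result q p hppq.symm hqG hpG hC'
  obtain ⟨K, hK, h⟩ : ∃ K : Subgroup G, K.Normal ∧
      ((p ∣ Nat.card K ∧ ¬ q ∣ Nat.card K) ∨ (q ∣ Nat.card K ∧ ¬ p ∣ Nat.card K)) :=
    hsolv.elim (aux hppq hpG) fun h => (aux hppq.symm hqG h).imp fun _ h => ⟨h.1, h.2.symm⟩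
  exact h.elim (fun h => Or.inr (a2.resolve_right (aux2 hK h.1 h.2)))
    fun h => Or.inl (a1.resolve_right (aux2 hK h.1 h.2))

end Cfsg.Agent.S4743
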