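import Mathlib
import Cfsg.Statements.S4746
import Cfsg.Agent.H4.RealOdd
import Cfsg.Agent.S4744

set_option autoImplicit false
open Cfsg

namespace Cfsg.Agent.S4746

/-- Let p be an odd prime and G a finite group of even order divisible by p in which the centralizer of every non-identity p-element has odd order. Then G has an irreducible character of p-defect zero or an irreducible character of even degree. -/
theorem result {G : Type*} [Group G] [Finite G] (p : ℕ) [Fact p.Prime] (hp2 : p ≠ 2) (hpG : p ∣ Nat.card G) (h2G : 2 ∣ Nat.card G) (hC : ∀ g : G, g ≠ 1 → (∃ k : ℕ, orderOf g = p ^ k) → Odd (Nat.card ↥(Subgroup.centralizer ({g} : Set G)))) : (∃ χ : Cfsg.IrrCharacter G, (Cfsg.charDegree (χ : G → ℂ)).factorization p = (Nat.card G).factorization p) ∨ ∃ χ : Cfsg.IrrCharacter G, Even (Cfsg.charDegree (χ : G → ℂ)) := by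
  refine (Cfsg.Agent.S4744.result p hp2 hpG h2G hC).imp_right fun h => ?_
  obtain ⟨P⟩ : Nonempty (Sylow p G) := inferInstance
  have ord : ∀ x ∈ (P : Subgroup G), ∃ k, orderOf x = p ^ k := fun x hx => by
    simpa using IsPGroup.iff_orderOf.1 P.2 ⟨x, hx⟩
  obtain ⟨u, h1, h2, h3⟩ := CfsgH4.exists_real_of_even_normalizer (P.ne_bot_of_dvd_card hpG)
    (fun g hg h => hC g h (ord g hg)) (h P).1
  exact CfsgH4.exists_even_deg_of_real h2 h3 (hC u h2 (ord u h1))

end Cfsg.Agent.S4746
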