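import Cfsg.Statements.S4755
import Cfsg.Agent.H4.Ord4

set_option autoImplicit false
open Cfsg

namespace Cfsg.Agent.S4755

open CfsgH4 CfsgH3

/-- Let x, y be non-identity elements of the finite group G such that χ(x' y') = χ(x') χ(y') for all conjugates x' of x, y' of y and every irreducible character χ. Then the conjugacy class of x y is the set of all products of a conjugate of x with a conjugate of y; every irreducible character of degree greater than 1 vanishes at x y; and the conjugacy class of x y is the coset of the commutator subgroup containing x y. -/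
theorem result {G : Type*} [Group G] [Finite G] (x y : G) (hx : x ≠ 1) (hy : y ≠ 1) (h : ∀ (a b : G) (χ : Cfsg.IrrCharacter G), (χ : G → ℂ) (a * x * a⁻¹ * (b * y * b⁻¹)) = (χ : G → ℂ) (a * x * a⁻¹) * (χ : G → ℂ) (b * y * b⁻¹)) : (∀ z : G, IsConj (x * y) z ↔ ∃ a b : G, z = a * x * a⁻¹ * (b * y * b⁻¹)) ∧ (∀ χ : Cfsg.IrrCharacter G, (χ : G → ℂ) 1 ≠ 1 → (χ : G → ℂ) (x * y) = 0) ∧ (∀ z : G, IsConj (x * y) z ↔ (x * y)⁻¹ * z ∈ commutator G) := by
  have := Fintype.ofFinite G
  have h1 : ∀ (a b : G) (χ : IrrCharacter G), χ.1 (a * x * a⁻¹ * (b * y * b⁻¹)) = χ.1 x * χ.1 y :=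
    fun a b χ => by rw [h, χ.2.classFun, χ.2.classFun]
  have h2 : ∀ (χ : IrrCharacter G), χ.1 (x * y) = χ.1 x * χ.1 y := fun χ => by simpa using h1 1 1 χ
  have h3 : ∀ χ : IrrCharacter G, χ.1 1 ≠ 1 → χ.1 (x * y) = 0 := fun χ hχ => by
    have h3 := sum_conj_mul χ.2 x y
    rw [Finset.sum_congr rfl (g := fun _ => χ.1 x * χ.1 y) (fun g _ => by
      rw [χ.2.classFun.mul_comm, ← h1 1 g]; simp), Finset.sum_const, Finset.card_univ,
      ← Nat.card_eq_fintype_card, nsmul_eq_mul, mul_left_comm] at h3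
    rw [h2]
    by_contra e
    exact hχ ((mul_eq_right₀ e).1 (mul_left_cancel₀ (card_ne_zero_complex G) h3))
  refine ⟨fun z => ⟨fun hz => ?_, ?_⟩, h3, fun z => ⟨fun hz => ?_, fun hz => ?_⟩⟩
  · obtain ⟨c, rfl⟩ := isConj_iff.1 hz
    exact ⟨c, c, by group⟩
  · rintro ⟨a, b, rfl⟩
    exact isConj_of_forall_irr fun χ hχ => (h2 ⟨χ, hχ⟩).trans (h1 a b ⟨χ, hχ⟩).symm
  · obtain ⟨c, rfl⟩ := isConj_iff.1 hz
    have := Subgroup.commutator_mem_commutator (Subgroup.mem_top (x * y)⁻¹) (Subgroup.mem_top c)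
    rwa [commutatorElement_def, inv_inv, mul_assoc, mul_assoc, ← mul_assoc c] at this
  · refine isConj_of_nonneg fun χ hχ => ?_
    by_cases e : χ 1 = 1
    · refine Or.inr (Or.inr ?_)
      rw [← mul_inv_cancel_left (x * y) z, hχ.isChar.map_mul_of_deg_one e,
        apply_commutator_of_deg_one hχ.isChar e hz, e, mul_one]
    · exact Or.inl (h3 ⟨χ, hχ⟩ e)

end Cfsg.Agent.S4755
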