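import Cfsg.Statements.S4757
import Cfsg.Agent.H4.Ord4

set_option autoImplicit false
open Cfsg

namespace Cfsg.Agent.S4757

open CfsgH4 CfsgH3

/-- Let u ≠ 1 be an element of the finite group G and c a complex number such that every non-principal irreducible character χ satisfies χ(1) − χ(u) = c or χ(u) = 0. Then the following are equivalent: (a) u has order 2, G is generated by u together with O(G), the largest normal subgroup of G of odd order, and the centralizer of u is {1, u}; (b) G is not perfect; (c) c = 2. -/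
theorem result {G : Type*} [Group G] [Finite G] (u : G) (hu : u ≠ 1) (c : ℂ) (hyp : ∀ χ : Cfsg.IrrCharacter G, (χ : G → ℂ) ≠ (fun _ => (1 : ℂ)) → ((χ : G → ℂ) 1 - (χ : G → ℂ) u = c ∨ (χ : G → ℂ) u = 0)) : ((orderOf u = 2 ∧ Subgroup.zpowers u ⊔ Cfsg.oddCore G = ⊤ ∧ Subgroup.centralizer ({u} : Set G) = Subgroup.zpowers u) ↔ commutator G ≠ ⊤) ∧ (commutator G ≠ ⊤ ↔ c = 2) := by
  classical
  have lin : ∀ μ : G →* ℂˣ, μ ≠ 1 → 1 - (μ u : ℂ) = c := fun μ hμ => by
    simpa using hyp ⟨_, isIrr_unitsHom μ⟩ fun e => hμ (coeLin_injective e)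
  have A : commutator G ≠ ⊤ → ∃ μ : G →* ℂˣ, μ ≠ 1 := fun h => by
    obtain ⟨g, hg⟩ := not_forall.1 (mt (Subgroup.eq_top_iff' _).2 h)
    obtain ⟨μ, hμ⟩ := exists_lin_ne_one hg
    exact ⟨μ, by rintro rfl; exact hμ rfl⟩
  have B : commutator G ≠ ⊤ → c = 2 := fun h => by
    obtain ⟨μ, hμ⟩ := A h
    have h1 := lin μ hμ
    have h2 := lin μ⁻¹ (fun e => hμ (MonoidHom.ext fun g => inv_eq_one.1 (DFunLike.congr_fun e g)))
    have h3 : (μ u : ℂ) * μ u = 1 := by
      nth_rewrite 1 [sub_right_injective (h1.trans h2.symm)]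
      simp
    rcases mul_self_eq_one_iff.1 h3 with h4 | h4
    · refine (not_forall_zero_or_ker hu fun χ hχ => ?_).elim
      by_cases e : χ = fun _ => 1
      · right; rw [e]
      · rw [h4, sub_self] at h1
        exact (hyp ⟨χ, hχ⟩ e).symm.imp_right fun h => (sub_eq_zero.1 (h.trans h1.symm)).symm
    · rw [← h1, h4]; norm_num
  let o : IrrCharacter G := ⟨fun _ => 1, isIrr_one⟩
  have pos : c = 2 → ∀ χ : IrrCharacter G, χ.1 1 ≠ 1 → χ.1 u ≠ 0 → 0 < (χ.1 1 * χ.1 u).re := by
    intro hc χ h1 h2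
    have h3 := (hyp χ (fun e => h1 (by rw [e]))).resolve_right h2
    obtain ⟨d, d0, hd⟩ := χ.2.exists_deg
    have h4 : χ.1 u = d - 2 := by rw [← hd, ← hc, ← h3]; ring
    rw [hd] at h1
    rw [h4] at h2
    rw [hd, h4]
    have : d ≠ 1 := by rintro rfl; simp at h1
    have : d ≠ 2 := by rintro rfl; simp at h2
    have : (2 : ℝ) < d := by exact_mod_cast (by omega : 2 < d)
    simp; nlinarith
  have nn : c = 2 → ∀ χ : IrrCharacter G, χ.1 1 ≠ 1 → 0 ≤ (χ.1 1 * χ.1 u).re := fun hc χ h1 => by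
    by_cases h2 : χ.1 u = 0
    · simp [h2]
    · exact (pos hc χ h1 h2).le
  have C : c = 2 → commutator G ≠ ⊤ := fun hc h => by
    refine sum_ne_zero_of_re (fun χ => ?_) o (by simp [o]) (sum_irr_deg_mul hu)
    by_cases e : χ.1 1 = 1
    · rw [apply_commutator_of_deg_one χ.2.isChar e (h.ge trivial : u ∈ _), e]; simp
    · exact nn hc χ e
  refine ⟨⟨?_, fun h => ?_⟩, B, C⟩
  · rintro ⟨a, b, -⟩ h
    have hn : (oddCore G).Normal := (inferInstance : (pPrimeCore 2 G).Normal)
    have h1 : commutator G ≤ oddCore G := by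
      rw [← QuotientGroup.ker_mk' (oddCore G)]
      have : IsCyclic (G ⧸ oddCore G) := isCyclic_iff_exists_zpowers_eq_top.2 ⟨u, by
        have := congrArg (Subgroup.map (QuotientGroup.mk' (oddCore G))) b
        rwa [Subgroup.map_sup, MonoidHom.map_zpowers, (CfsgH1.map_mk'_eq_bot_iff _).2 le_rfl, sup_bot_eq,
          Subgroup.map_top_of_surjective _ (QuotientGroup.mk'_surjective _)] at this⟩
      let _ := IsCyclic.commGroup (α := G ⧸ oddCore G)
      exact Abelianization.commutator_subset_ker _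
    have h2 := CfsgH1.coprime_card_pPrimeCore 2 G
    have h3 := Subgroup.orderOf_dvd_natCard _ (h1 (h.ge (Subgroup.mem_top u)))
    rw [a] at h3
    exact (Nat.Prime.coprime_iff_not_dvd Nat.prime_two).1 h2.symm h3
  have hc := B h
  obtain ⟨μ, hμ⟩ := A h
  have l1 : ∀ ν : G →* ℂˣ, ν ≠ 1 → ν u = -1 := fun ν hν => Units.ext (by
    have := lin ν hν; rw [hc] at this; push_cast; linear_combination -this)
  have l2 : ∀ ν : G →* ℂˣ, ν ≠ 1 → ν = μ := fun ν hν => by
    by_contra e
    have := l1 (ν * μ⁻¹) (fun h => e (eq_of_mul_inv_eq_one h))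
    rw [MonoidHom.mul_apply, MonoidHom.inv_apply, l1 ν hν, l1 μ hμ, mul_inv_cancel] at this
    norm_num [Units.ext_iff] at this
  let m : IrrCharacter G := ⟨_, isIrr_unitsHom μ⟩
  have mo : m ≠ o := fun e => hμ (coeLin_injective (congrArg Subtype.val e))
  have l3 : ∀ χ : IrrCharacter G, χ ≠ o → χ ≠ m → χ.1 1 ≠ 1 := fun χ a b e => by
    obtain ⟨ν, hν⟩ := χ.2.isChar.exists_hom_of_deg_one e
    exact b (Subtype.ext (by rw [hν, l2 ν fun e => a (Subtype.ext (by rw [hν, e]; rfl))]))
  have l4 : ∀ χ : IrrCharacter G, χ ≠ o → χ ≠ m → χ.1 u = 0 := fun χ a b => by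
    by_contra e
    refine sum_ne_zero_of_re (f := fun ψ : IrrCharacter G => ψ.1 1 * ψ.1 u - (if ψ = o then 1 else 0) +
      if ψ = m then 1 else 0) (fun ψ => ?_) χ (by
        simpa only [a, b, if_false, sub_zero, add_zero] using pos hc χ (l3 χ a b) e) (by
        simp [Finset.sum_add_distrib, Finset.sum_sub_distrib, sum_irr_deg_mul hu])
    by_cases x : ψ = o
    · simp [x, mo.symm, o]
    by_cases y : ψ = m
    · simp [y, mo, m, l1 μ hμ]
    · simpa only [x, y, if_false, sub_zero, add_zero] using nn hc ψ (l3 ψ x y)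
  have c2 : Nat.card (Subgroup.centralizer ({u} : Set G)) = 2 := by
    apply Nat.cast_injective (R := ℝ)
    rw [← sum_irr_normSq, Finset.sum_eq_add_of_mem o m (Finset.mem_univ _) (Finset.mem_univ _) mo.symm
      fun χ _ h => by simp [l4 χ h.1 h.2]]
    norm_num [o, m, l1 μ hμ]
  have zle : Subgroup.zpowers u ≤ Subgroup.centralizer {u} :=
    Subgroup.zpowers_le.2 (Subgroup.mem_centralizer_singleton_iff.2 rfl)
  have ho : orderOf u = 2 := by
    have := Subgroup.card_dvd_of_le zle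
    rw [c2, Nat.card_zpowers, Nat.dvd_prime Nat.prime_two, orderOf_eq_one_iff] at this
    exact this.resolve_left hu
  have ze := Subgroup.eq_of_le_of_card_ge zle (by rw [c2, Nat.card_zpowers, ho])
  have two : ∀ x ∈ Subgroup.zpowers u, x ≠ 1 → x = u := fun x hx h1 => by
    obtain ⟨i, hi, rfl⟩ := Finset.mem_image.1 (mem_zpowers_iff_mem_range_orderOf.1 hx)
    rw [ho, Finset.mem_range] at hi
    interval_cases i <;> simp_all
  have uK : u ∉ μ.ker := fun e => by
    have := (l1 μ hμ).symm.trans e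
    norm_num [Units.ext_iff] at this
  have odd := CfsgH1.card_dvd_card_sub_one (K := μ.ker) (R := Subgroup.zpowers u)
    (by rw [Subgroup.normalizer_eq_top]; exact le_top) fun x hx h1 => by
      rw [two x hx h1, ← ze, eq_bot_iff]
      exact fun y hy => by_contra fun e => uK (two y hy.2 e ▸ hy.1)
  rw [Nat.card_zpowers, ho] at odd
  have hK : μ.ker ≤ oddCore G := CfsgH1.le_pPrimeCore (Odd.coprime_two_right (by
    have := Nat.card_pos (α := μ.ker); rw [Nat.odd_iff]; omega))
  refine ⟨ho, eq_top_iff.2 fun g _ => ?_, ze.symm⟩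
  have sq : μ * μ = 1 := by
    by_contra e
    exact hμ (mul_eq_left.1 (l2 _ e))
  rcases mul_self_eq_one_iff.1 (congrArg Units.val (DFunLike.congr_fun sq g)) with e | e
  · exact Subgroup.mem_sup_right (hK (Units.ext e))
  · rw [← mul_inv_cancel_left u g]
    refine Subgroup.mul_mem_sup (Subgroup.mem_zpowers u) (hK ?_)
    rw [MonoidHom.mem_ker, map_mul, map_inv, l1 μ hμ, inv_mul_eq_one]
    exact Units.ext e.symm

end Cfsg.Agent.S4757
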