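import Cfsg.Statements.S4762
import Cfsg.Agent.H4.Ord4

set_option autoImplicit false
open Cfsg

namespace Cfsg.Agent.S4762

open CfsgH4 CfsgH3

/-- Let p be a prime and G a finite nilpotent group. Then G has exactly one irreducible complex character of degree divisible by p if and only if p = 2 and G is an extraspecial 2-group. -/
theorem result {G : Type*} [Group G] [Finite G] [Group.IsNilpotent G] (p : ℕ) [Fact p.Prime] : Nat.card {χ : Cfsg.IrrCharacter G // p ∣ Cfsg.charDegree (χ : G → ℂ)} = 1 ↔ (p = 2 ∧ Cfsg.IsExtraspecial 2 G) := by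
  classical
  have hp : p.Prime := Fact.out
  have nl : IsPGroup p G → ∀ χ : IrrCharacter G, p ∣ charDegree χ.1 ↔ χ.1 1 ≠ 1 := fun hG χ => by
    obtain ⟨k, hk⟩ := charDegree_pgroup hp hG χ.2
    rw [Ne, ← charDegree_eq_one_iff χ.2.isChar, hk]
    rcases k with _ | k
    · simp [hp.ne_one]
    · simp [hp.ne_one]
  constructor
  swap
  · rintro ⟨rfl, h⟩
    rw [Nat.card_congr (Equiv.subtypeEquivRight (nl h.1.1)), card_nonlin_extraspecial hp h]
  intro h
  obtain ⟨⟨χ, hχ⟩, hu⟩ := Nat.card_eq_one_iff_exists.1 h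
  have uq : ∀ ψ, IsIrrCharacter G ψ → p ∣ charDegree ψ → ψ = χ.1 := fun ψ a b =>
    congrArg (fun x => x.1.1) (hu ⟨⟨ψ, a⟩, b⟩)
  have van : ∀ g, g ∉ commutator G → χ.1 g = 0 := fun g => eq_zero_of_lin_fixed fun μ =>
    congrFun (uq _ (χ.2.mul_linear μ) (by simpa [charDegree] using hχ))
  obtain ⟨P⟩ : Nonempty (Sylow p G) := inferInstance
  have hP : (P : Subgroup G).Normal := inferInstance
  have hG : IsPGroup p G := by
    let K := pPrimeCore p G
    have hK : K.Normal := inferInstance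
    obtain ⟨k, hk⟩ := index_pPrimeCore_of_nilpotent p G
    have hQ : IsPGroup p (G ⧸ K) := IsPGroup.of_card hk
    have h1 : ∃ β, IsIrrCharacter (G ⧸ K) β ∧ p ∣ charDegree β := by
      by_contra! e
      refine P.not_dvd_index (hχ.trans (deg_dvd_index_of_abelian χ.2 (coe_charDegree χ.2.isChar).symm
        fun a ha b hb => ?_))
      have h2 : a * b * a⁻¹ * b⁻¹ ∈ K := by
        rw [← QuotientGroup.eq_one_iff]
        simp [comm_of_pgroup_of_not_dvd hp hQ e (a : G ⧸ K) b]
      have h3 := Subgroup.disjoint_of_coprime_natCard (H := K) (K := P) (by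
        obtain ⟨j, hj⟩ := P.2.exists_card_eq
        rw [hj]; exact (CfsgH1.coprime_card_pPrimeCore p G).pow_right _)
      exact commutatorElement_eq_one_iff_mul_comm.1 (Subgroup.disjoint_def.1 h3 h2
        (mul_mem (mul_mem (mul_mem ha hb) (inv_mem ha)) (inv_mem hb)))
    obtain ⟨β, a, b⟩ := h1
    have e := uq _ a.inflate b
    have h2 : K ≤ commutator G := fun x hx => by_contra fun h => χ.2.one_ne_zero (by
      rw [← van x h, ← e]; simp only [(QuotientGroup.eq_one_iff x).2 hx, QuotientGroup.mk_one])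
    have h3 : (P : Subgroup G) ⊔ K = ⊤ := Subgroup.index_eq_one.1 (Nat.eq_one_of_dvd_coprimes
      (a := (P : Subgroup G).index) (b := K.index) (hk ▸ (((Nat.Prime.coprime_iff_not_dvd hp).2
        P.not_dvd_index).symm.pow_right k)) (Subgroup.index_dvd_of_le le_sup_left)
        (Subgroup.index_dvd_of_le le_sup_right))
    have h4 : Subsingleton (G ⧸ (P : Subgroup G)) := by
      by_contra e
      have := not_subsingleton_iff_nontrivial.1 e
      refine (Group.IsSolvable.commutator_lt_top_of_nontrivial (G ⧸ (P : Subgroup G))).ne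
        (eq_top_iff.2 fun q _ => ?_)
      obtain ⟨g, rfl⟩ := QuotientGroup.mk_surjective q
      obtain ⟨x, hx, y, hy, rfl⟩ := Subgroup.mem_sup_of_normal_left.1 (h3.ge (Subgroup.mem_top g))
      rw [QuotientGroup.mk_mul, (QuotientGroup.eq_one_iff x).2 hx, one_mul]
      rw [commutator_quot]; exact ⟨y, h2 hy, rfl⟩
    have := P.2
    rw [QuotientGroup.subgroup_eq_top_of_subsingleton _ h4] at this
    exact this.of_equiv Subgroup.topEquiv
  have h1 := (nl hG χ).1 hχ
  obtain ⟨z, z1, z2, z3, z4⟩ := CfsgH2.exists_central_of_ne_bot (V := ⊤) (N := commutator G)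
    (hG.to_subgroup ⊤) le_top (by rw [Subgroup.normalizer_eq_top]) fun e =>
      h1 (χ.2.deg_one_of_commutator fun n hn => by rw [Subgroup.mem_bot.1 (e.le hn)])
  rw [Subgroup.coe_top, Subgroup.centralizer_univ] at z4
  have := normal_of_le_center' (Subgroup.zpowers_le.2 z4)
  have z5 : χ.1 z ≠ χ.1 1 := fun e => z2 (eq_one_of_forall_irr fun ψ a => by
    by_cases b : ψ 1 = 1
    · exact apply_commutator_of_deg_one a.isChar b z1
    · rw [uq ψ a ((nl hG ⟨ψ, a⟩).2 b), e])
  have e : commutator G = Subgroup.zpowers z := le_antisymm (fun x hx => mem_of_forall_irr fun ψ a b =>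
    apply_commutator_of_deg_one a.isChar (by_contra fun c => z5 (by
      rw [← uq ψ a ((nl hG ⟨ψ, a⟩).2 c)]; exact b z (Subgroup.mem_zpowers z))) hx) (Subgroup.zpowers_le.2 z1)
  have c1 : Nat.card (commutator G) = p := by rw [e, Nat.card_zpowers, orderOf_eq_prime z3 z2]
  have cz : commutator G ≤ Subgroup.center G := e ▸ Subgroup.zpowers_le.2 z4
  have h2 := card_nonlin_of_prime_comm (c1 ▸ hp) cz
  rw [← Nat.card_congr (Equiv.subtypeEquivRight (nl hG)), h, one_mul] at h2
  have h3 := (commutator G).card_mul_index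
  have h4 := Subgroup.relIndex_mul_index cz
  have h5 : 0 < (Subgroup.center G).index := Nat.pos_of_ne_zero Subgroup.index_ne_zero_of_finite
  rw [c1, ← h2, ← h4] at h3
  have h6 : p * (commutator G).relIndex (Subgroup.center G) =
      (commutator G).relIndex (Subgroup.center G) + 1 :=
    Nat.eq_of_mul_eq_mul_right h5 (by linarith)
  have h7 : (commutator G).relIndex (Subgroup.center G) = 1 :=
    Nat.dvd_one.1 ((Nat.dvd_add_right dvd_rfl).1 (h6 ▸ dvd_mul_left _ _))
  have h8 := le_antisymm cz (Subgroup.relIndex_eq_one.1 h7)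
  obtain rfl : p = 2 := by rw [h7] at h6; omega
  refine ⟨rfl, ⟨hG, le_antisymm (CfsgH2.frattini_le_of (p := 2) cz fun x => ?_)
    (h8 ▸ CfsgH2.commutator_le_frattini hG), h8⟩, h8 ▸ c1⟩
  refine Subgroup.mem_center_iff.2 fun y => ?_
  have m : x * y * x⁻¹ * y⁻¹ ∈ commutator G :=
    Subgroup.commutator_mem_commutator (Subgroup.mem_top x) (Subgroup.mem_top y)
  have m1 := Subgroup.mem_center_iff.1 (cz m) x
  have m2 : (x * y * x⁻¹ * y⁻¹) ^ 2 = 1 := by
    have := congrArg Subtype.val (pow_card_eq_one' (x := (⟨_, m⟩ : commutator G)))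
    rwa [c1] at this
  calc y * x ^ 2 = (x * y * x⁻¹ * y⁻¹) ^ 2 * y * x ^ 2 := by rw [m2, one_mul]
    _ = (x * y * x⁻¹ * y⁻¹ * x) * y * x := by simp only [sq]; group
    _ = _ := by rw [← m1]; simp only [sq]; group

end Cfsg.Agent.S4762
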