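import Cfsg.Statements.S4763
import Cfsg.Agent.H4.Ord4
import Cfsg.Agent.S4452

set_option autoImplicit false
open Cfsg

namespace Cfsg.Agent.S4763

open CfsgH4 CfsgH3

/-- Let p be a prime and G a finite group that is not nilpotent and has a normal p-complement (a normal subgroup of order prime to p and index a power of p). If G has exactly one irreducible complex character of degree divisible by p, then G has exactly one conjugacy class whose size is divisible by p. -/
theorem result {G : Type*} [Group G] [Finite G] (p : ℕ) [Fact p.Prime] (hnil : ¬ Group.IsNilpotent G) (N : Subgroup G) [N.Normal] (hN : (Nat.card N).Coprime p) (hidx : ∃ k : ℕ, N.index = p ^ k) (hone : Nat.card {χ : Cfsg.IrrCharacter G // p ∣ Cfsg.charDegree (χ : G → ℂ)} = 1) : Nat.card {C : ConjClasses G // p ∣ Nat.card C.carrier} = 1 := by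
  classical
  have hp : p.Prime := Fact.out
  have := Fintype.ofFinite G
  have := Fintype.ofFinite N
  obtain ⟨k, hk⟩ := hidx
  obtain ⟨P⟩ : Nonempty (Sylow p G) := inferInstance
  have hQ : IsPGroup p (G ⧸ N) := IsPGroup.of_card hk
  have hsup : N ⊔ (P : Subgroup G) = ⊤ := Subgroup.index_eq_one.1 (Nat.eq_one_of_dvd_coprimes
      (a := (P : Subgroup G).index) (b := N.index) (hk ▸ (((Nat.Prime.coprime_iff_not_dvd hp).2
        P.not_dvd_index).symm.pow_right k)) (Subgroup.index_dvd_of_le le_sup_right)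
        (Subgroup.index_dvd_of_le le_sup_left))
  obtain ⟨j, hj⟩ := P.2.exists_card_eq
  have hcop : (Nat.card N).Coprime (Nat.card P) := hj ▸ hN.pow_right j
  have hd := Subgroup.disjoint_of_coprime_natCard hcop
  obtain ⟨⟨χ, hχ⟩, hu⟩ := Nat.card_eq_one_iff_exists.1 hone
  have uq : ∀ ψ, IsIrrCharacter G ψ → p ∣ charDegree ψ → ψ = χ.1 := fun ψ a b =>
    congrArg (fun x => x.1.1) (hu ⟨⟨ψ, a⟩, b⟩)
  have hab : ∀ a ∈ P, ∀ b ∈ P, a * b = b * a := by
    have h1 : ∀ β, IsIrrCharacter (G ⧸ N) β → ¬ p ∣ charDegree β := by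
      intro β a b
      have e := uq _ a.inflate b
      obtain ⟨θ, c, d⟩ : ∃ θ, IsIrrCharacter N θ ∧ θ ≠ fun _ => 1 := by
        by_contra! h
        have : N = ⊥ := eq_bot_iff.2 fun n hn => congrArg Subtype.val
          (eq_one_of_forall_irr (g := (⟨n, hn⟩ : N)) fun θ c => by rw [h θ c])
        rw [this, Subgroup.index_bot] at hk
        exact hnil (IsPGroup.of_card hk).isNilpotent
      have nt : ∀ ψ, IsIrrCharacter G ψ → classInner (fun n : N => ψ n) θ ≠ 0 → ¬ p ∣ charDegree ψ := by
        intro ψ x y z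
        rw [uq ψ x z, ← e, show (fun n : N => β ((n : G) : G ⧸ N)) = β 1 • fun _ => (1 : ℂ) from
          funext fun n => by simp [(QuotientGroup.eq_one_iff _).2 n.2]] at y
        exact d (eq_of_smul_constituent isIrr_one c y).symm
      by_cases hi : ∀ g : G, CfsgH3.cj g θ = θ
      · obtain ⟨η, ⟨x, y, -⟩, -⟩ := ext_of_hall c hi (hk ▸ (hN.symm.pow_left k))
        have z : (fun n : N => η n) = θ := funext y
        refine nt _ ((gallagher x.isChar (z ▸ c)).1 ⟨β, a⟩) ?_ ?_
        · rw [show (fun n : N => ((fun g : G => β g) * η) n) = β 1 • θ from funext fun n => by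
            simp [(QuotientGroup.eq_one_iff _).2 n.2, y], CfsgH3.inner_smul_left, c.inner_self, mul_one]
          exact a.one_ne_zero
        · rw [charDegree_eq (n := charDegree β * charDegree η) (by
            simp [coe_charDegree a.isChar, coe_charDegree x.isChar])]
          exact b.mul_right _
      · obtain ⟨ψ, x, y⟩ := c.exists_over
        refine nt ψ x y ?_
        obtain ⟨m, hm⟩ := (x.isChar.restrict N).inner_nat c.isChar
        have := clifford_deg x c y
        rw [hm, ← coe_charDegree c.isChar] at this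
        rw [charDegree_eq (n := m * (inertia θ).index * charDegree θ) (by exact_mod_cast this)]
        refine Dvd.dvd.mul_right (Dvd.dvd.mul_left ?_ _) _
        obtain ⟨i, -, hi'⟩ := (Nat.dvd_prime_pow hp).1 (hk ▸ Subgroup.index_dvd_of_le (le_inertia c.classFun))
        rw [hi']
        refine dvd_pow_self p fun e => hi fun g => ?_
        rw [e, pow_zero, Subgroup.index_eq_one] at hi'
        exact hi'.ge (Subgroup.mem_top g)
    intro a ha b hb
    have h2 : a * b * a⁻¹ * b⁻¹ ∈ N := by
      rw [← QuotientGroup.eq_one_iff]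
      simp [comm_of_pgroup_of_not_dvd hp hQ h1 (a : G ⧸ N) b]
    exact commutatorElement_eq_one_iff_mul_comm.1 (Subgroup.disjoint_def.1 hd h2
      (mul_mem (mul_mem (mul_mem ha hb) (inv_mem ha)) (inv_mem hb)))
  have hNC : Subgroup.normalizer (P : Set G) = Subgroup.centralizer (P : Set G) := by
    refine le_antisymm (fun g hg x hx => ?_) (Subgroup.centralizer_le_normalizer _)
    obtain ⟨n, hn, y, hy, rfl⟩ := Subgroup.mem_sup_of_normal_left.1 (hsup.ge (Subgroup.mem_top g))
    have h1 : n ∈ Subgroup.normalizer (P : Set G) :=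
      (mul_mem_cancel_right (Subgroup.le_normalizer hy)).1 hg
    have h2 : n * x * n⁻¹ * x⁻¹ = 1 := Subgroup.disjoint_def.1 hd
      (by rw [mul_assoc, mul_assoc, ← mul_assoc x]; exact mul_mem hn (Subgroup.Normal.conj_mem inferInstance _ (inv_mem hn) x))
      (mul_mem ((Subgroup.mem_normalizer_iff.1 h1 x).1 hx) (inv_mem hx))
    rw [← mul_assoc, ← commutatorElement_eq_one_iff_mul_comm.1 h2, mul_assoc, hab x hx y hy, mul_assoc]
  have j0 : j ≠ 0 := by
    rintro rfl
    exact P.not_dvd_index (by
      rw [Subgroup.card_eq_one.1 hj, Subgroup.index_bot]; exact hχ.trans (charDegree_dvd_card χ.2))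
  have cop : ∀ d : ℕ, d.Coprime (Nat.card P) ↔ ¬ p ∣ d := fun d => by
    rw [hj, Nat.coprime_pow_right_iff (Nat.pos_of_ne_zero j0), Nat.coprime_comm, hp.coprime_iff_not_dvd]
  have h1 := S4452.result N P hsup hcop (by have := P.2.isNilpotent; infer_instance)
  simp only [cop] at h1
  set C := Subgroup.normalizer ((P : Subgroup G) : Set G) with hC
  have hPC : ∀ x ∈ P, ∀ c ∈ C, x * c = c * x := fun x a c b => hNC.le b x a
  have h2 : Nat.card {η : IrrCharacter C // ¬ p ∣ charDegree η.1} = Nat.card (ConjClasses C) := by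
    rw [← card_irr_eq_card_conjClasses]
    refine Nat.card_congr (Equiv.subtypeUnivEquiv fun η h => P.not_dvd_index ?_)
    refine (h.trans (η.2.deg_dvd_index_of_le_cent (coe_charDegree η.2.isChar).symm
      ((P : Subgroup G).subgroupOf C) (le_trans (fun x hx => Subgroup.mem_center_iff.2 fun c =>
        Subtype.ext (hPC x hx c c.2).symm) η.2.center_le_cent))).trans ?_
    exact Subgroup.relIndex_dvd_index_of_le Subgroup.le_normalizer
  have h3 : Nat.card (ConjClasses C) = Nat.card {D : ConjClasses G // ¬ p ∣ Nat.card D.carrier} := by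
    refine Nat.card_congr (Equiv.ofBijective (fun D => ⟨ConjClasses.map C.subtype D, ?_⟩) ⟨?_, ?_⟩)
    · obtain ⟨c, rfl⟩ := ConjClasses.mk_surjective D
      change ¬ p ∣ Nat.card (ConjClasses.mk (c : G)).carrier
      rw [card_carrier_mk]
      exact fun h => P.not_dvd_index (h.trans (Subgroup.index_dvd_of_le fun x hx =>
        Subgroup.mem_centralizer_singleton_iff.2 (hPC x hx c c.2)))
    · intro D E h
      obtain ⟨c, rfl⟩ := ConjClasses.mk_surjective D
      obtain ⟨d, rfl⟩ := ConjClasses.mk_surjective E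
      obtain ⟨g, hg⟩ : ∃ g : G, g * c * g⁻¹ = d :=
        isConj_iff.1 (ConjClasses.mk_eq_mk_iff_isConj.1 (congrArg Subtype.val h))
      obtain ⟨n, hn, e⟩ := P.conj_eq_normalizer_conj_of_mem_centralizer c g⁻¹ (hNC.le c.2)
        (by rw [inv_inv, hg]; exact hNC.le d.2)
      rw [inv_inv, hg] at e
      exact ConjClasses.mk_eq_mk_iff_isConj.2 (isConj_iff.2 ⟨⟨n, hn⟩⁻¹, Subtype.ext (by simpa using e.symm)⟩)
    · rintro ⟨D, hD⟩
      obtain ⟨x, rfl⟩ := ConjClasses.mk_surjective D
      rw [card_carrier_mk] at hD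
      obtain ⟨Q⟩ : Nonempty (Sylow p (Subgroup.centralizer ({x} : Set G))) := inferInstance
      obtain ⟨R, hR⟩ := exists_sylow_eq (Q.2.map (Subgroup.centralizer ({x} : Set G)).subtype) (by
        rw [Subgroup.index_map_subtype]
        exact fun h => ((Nat.Prime.dvd_mul hp).1 h).elim Q.not_dvd_index hD)
      obtain ⟨g, hg⟩ := MulAction.exists_smul_eq G R P
      refine ⟨ConjClasses.mk ⟨g * x * g⁻¹, hNC.ge fun y hy => ?_⟩, Subtype.ext
        (ConjClasses.mk_eq_mk_iff_isConj.2 (isConj_iff.2 ⟨g, rfl⟩).symm)⟩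
      rw [← hg] at hy
      obtain ⟨z, hz, rfl⟩ := hy
      obtain ⟨w, -, rfl⟩ := hR.le hz
      have := Subgroup.mem_centralizer_singleton_iff.1 w.2
      change g * w * g⁻¹ * _ = _ * (g * w * g⁻¹)
      rw [conj_mul, conj_mul, this]
  have := Fintype.ofFinite (ConjClasses G)
  have h4 := Fintype.card_subtype_compl fun χ : IrrCharacter G => p ∣ charDegree χ.1
  have h5 := Fintype.card_subtype_compl fun D : ConjClasses G => p ∣ Nat.card D.carrier
  have h6 := Fintype.card_subtype_le fun χ : IrrCharacter G => p ∣ charDegree χ.1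
  have h7 := Fintype.card_subtype_le fun D : ConjClasses G => p ∣ Nat.card D.carrier
  simp only [← Nat.card_eq_fintype_card] at h4 h5 h6 h7
  have h8 := card_irr_eq_card_conjClasses (G := G)
  omega

end Cfsg.Agent.S4763
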