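import Cfsg.Statements.S4765
import Cfsg.Agent.H1.PSL2d

set_option autoImplicit false
open Cfsg

namespace Cfsg.Agent.S4765

/-- Let F be a finite field of characteristic p with at least 4 elements. Then PSL(2,F) has exactly one irreducible complex character of degree divisible by p, and its degree is the order of F. -/
theorem result (p : ℕ) [Fact p.Prime] (F : Type*) [Field F] [Fintype F] [CharP F p] (hF : 4 ≤ Fintype.card F) : Nat.card {χ : Cfsg.IrrCharacter (Matrix.ProjectiveSpecialLinearGroup (Fin 2) F) // p ∣ Cfsg.charDegree (χ : Matrix.ProjectiveSpecialLinearGroup (Fin 2) F → ℂ)} = 1 ∧ ∀ χ : Cfsg.IrrCharacter (Matrix.ProjectiveSpecialLinearGroup (Fin 2) F), p ∣ Cfsg.charDegree (χ : Matrix.ProjectiveSpecialLinearGroup (Fin 2) F → ℂ) → Cfsg.charDegree (χ : Matrix.ProjectiveSpecialLinearGroup (Fin 2) F → ℂ) = Fintype.card F := by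
  open Subgroup CfsgH1 CfsgH3 CfsgH1.L2 in
  classical
  obtain ⟨ψ, h, e⟩ := exists_St (F := F)
  have key : ∀ χ : IrrCharacter (P2 F), p ∣ charDegree χ.1 → charDegree χ.1 = Fintype.card F ∧ χ = ⟨ψ, h⟩ := by
    intro χ k
    rcases deg_cases (irr_pr χ.2) with k' | k' | k'
    · refine ⟨k'.1, Subtype.ext (funext fun g => ?_)⟩
      obtain ⟨g, rfl⟩ := pr_surj g
      exact (congrFun k'.2 g).trans (e g).symm
    · exact (not_dvd_q_add p (k.trans k')).elim
    · exact (not_dvd_q_sub p (k.trans k')).elim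
  refine ⟨Nat.card_eq_one_iff_exists.2 ⟨⟨⟨ψ, h⟩, ?_⟩, fun χ => Subtype.ext (key _ χ.2).2⟩, fun χ k => (key χ k).1⟩
  rw [CfsgH4.charDegree_eq ((e 1).trans St_one)]
  exact p_dvd_q p

end Cfsg.Agent.S4765
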