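import Cfsg.Statements.S4768
import Cfsg.Agent.H4.Deg

set_option autoImplicit false
open Cfsg

namespace Cfsg.Agent.S4768

open CfsgH4 CfsgH3 CfsgH2 MonoidAlgebra

theorem lemA {G : Type*} [Group G] [Finite G] {p : ℕ} [hp : Fact p.Prime] (hG : IsPSolvable p G)
    (h : ∀ χ, IsIrrCharacter G χ → ¬ p ∣ charDegree χ) {Q : Type*} [Group Q] (hQ : IsPGroup p Q)
    (f : Q →* G) : derivedSeries Q 1 ≤ f.ker := by
  obtain ⟨P, hP⟩ := (hQ.of_surjective _ f.rangeRestrict_surjective).exists_le_sylow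
  have := normal_sylow_of_not_dvd _ G le_rfl hG h P
  refine Subgroup.commutator_le.2 fun a _ b _ => ?_
  rw [MonoidHom.mem_ker, map_commutatorElement, commutatorElement_eq_one_iff_mul_comm]
  exact congrArg Subtype.val (comm_of_normal_of_not_dvd hp.out P.isPGroup' h ⟨_, hP ⟨a, rfl⟩⟩ ⟨_, hP ⟨b, rfl⟩⟩)

theorem lemB {G Q : Type*} [Group G] [Group Q] (f : Q →* G) {N : Subgroup G} [IsMulCommutative N] {k : ℕ}
    (h : ∀ x ∈ derivedSeries Q k, f x ∈ N) : derivedSeries Q (k + 1) ≤ f.ker :=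
  Subgroup.commutator_le.2 fun a ha b hb => by
    rw [MonoidHom.mem_ker, map_commutatorElement, commutatorElement_eq_one_iff_mul_comm]
    exact congrArg Subtype.val (mul_comm' (⟨_, h a ha⟩ : N) ⟨_, h b hb⟩)

theorem main {p : ℕ} [hp : Fact p.Prime] {Q : Type*} [Group Q] (hQ : IsPGroup p Q) (n : ℕ) :
    ∀ (G : Type*) [Group G] [Finite G], Nat.card G ≤ n → IsPSolvable p G → ∀ f : Q →* G,
      derivedSeries Q (Nat.card {χ : IrrCharacter G // p ∣ charDegree χ.1} + 1) ≤ f.ker := by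
  classical
  induction n with
  | zero => intro G _ _ h; exact absurd Nat.card_pos (not_lt.2 h)
  | succ n ih =>
  intro G _ _ hn hs f
  have := Fintype.ofFinite G
  rcases subsingleton_or_nontrivial G with h | h
  · exact fun x _ => Subsingleton.elim _ _
  obtain ⟨N₀, hN₀, h1, -, h2⟩ := CfsgH1.IsPSolvable.exists_normal_le hs ⊤ top_ne_bot
  have hq : ∀ (N : Subgroup G) [N.Normal], N ≠ ⊥ → ∃ m, m = Nat.card {χ : IrrCharacter G //
      p ∣ charDegree χ.1 ∧ ∀ n ∈ N, χ.1 n = χ.1 1} ∧ ∀ x ∈ derivedSeries Q (m + 1), f x ∈ N :=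
    fun N _ h => ⟨_, rfl, fun x hx => by
      have h3 : Nat.card (G ⧸ N) ≤ n := by
        have := Subgroup.card_eq_card_quotient_mul_card_subgroup N
        have h4 := (Subgroup.one_lt_card_iff_ne_bot N).2 h
        have h5 : 0 < Nat.card (G ⧸ N) := Nat.card_pos
        nlinarith
      have h4 := sum_irr_quot N fun χ => if p ∣ charDegree χ then 1 else 0
      have h5 := ih (G ⧸ N) h3 (CfsgH1.IsPSolvable.quotient hs N) ((QuotientGroup.mk' N).comp f)
      rw [Nat.card_eq_fintype_card, Fintype.card_subtype] at h5 hx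
      rw [← Finset.card_filter, ← Finset.card_filter, Finset.filter_filter] at h4
      simp only [and_comm] at h4 hx
      exact (QuotientGroup.eq_one_iff _).1 (h5 (h4.symm ▸ hx))⟩
  have hle : ∀ N : Subgroup G, Nat.card {χ : IrrCharacter G // p ∣ charDegree χ.1 ∧ ∀ n ∈ N, χ.1 n = χ.1 1} ≤
      Nat.card {χ : IrrCharacter G // p ∣ charDegree χ.1} := fun N =>
    Nat.card_le_card_of_injective (fun χ => ⟨χ.1, χ.2.1⟩) fun a b e => Subtype.ext (congrArg (·.1) e)
  rcases h2 with h2 | h2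
  · obtain ⟨m, rfl, h3⟩ := hq N₀ h1
    intro x hx
    have h4 := h3 x (derivedSeries_antitone Q (Nat.succ_le_succ (hle N₀)) hx)
    obtain ⟨k, hk⟩ := hQ x
    rw [MonoidHom.mem_ker, ← orderOf_eq_one_iff]
    exact Nat.eq_one_of_dvd_coprimes (h2.pow_right k) (Subgroup.orderOf_dvd_natCard _ h4)
      (orderOf_dvd_of_pow_eq_one (by rw [← map_pow, hk, map_one]))
  have := h2.isNilpotent
  obtain ⟨N, q, hq', hN, h3, h4, hc, h5, h6, -⟩ := CfsgH1.exists_minNormal_elementary N₀ inferInstance h1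
  have hNp : IsPGroup p N := h2.to_le h4
  obtain ⟨m, hm, h7⟩ := hq N h3
  rcases (hm.le.trans (hle N)).lt_or_eq with h8 | h8
  · exact lemB f fun x hx => h7 x (derivedSeries_antitone Q h8 hx)
  have h9 : ∀ χ, IsIrrCharacter G χ → p ∣ charDegree χ → ∀ n ∈ N, χ n = χ 1 := fun χ hχ hd => by
    have := (Nat.bijective_iff_injective_and_card (fun χ : {χ : IrrCharacter G //
      p ∣ charDegree χ.1 ∧ ∀ n ∈ N, χ.1 n = χ.1 1} => (⟨χ.1, χ.2.1⟩ : {χ : IrrCharacter G // p ∣ charDegree χ.1}))).2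
      ⟨fun a b e => Subtype.ext (congrArg (·.1) e), hm.symm.trans h8⟩
    obtain ⟨ψ, e⟩ := this.2 ⟨⟨χ, hχ⟩, hd⟩
    have e' : ψ.1.1 = χ := congrArg (·.1.1) e
    exact e' ▸ ψ.2.2
  rcases Nat.eq_zero_or_pos (Nat.card {χ : IrrCharacter G // p ∣ charDegree χ.1}) with h0 | h0
  · rw [h0]
    exact lemA hs (fun χ hχ hd => (Finite.card_eq_zero_iff.1 h0).elim ⟨⟨χ, hχ⟩, hd⟩) hQ f
  refine (derivedSeries_antitone Q (Nat.succ_le_succ h0)).trans (lemB f (N := N) ?_)
  have := Fintype.ofFinite N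
  obtain ⟨k, hk⟩ := IsPGroup.iff_card.1 hNp
  obtain ⟨θ, hθ, hne, hi⟩ := exists_inv_irr_ne_one (p := p) (N := N) (by
    rw [card_irr_of_comm mul_comm', hk]
    refine dvd_pow_self p fun e => h3 (Subgroup.card_eq_one.1 (by rw [hk, e, pow_zero])))
    (hQ.of_surjective _ f.rangeRestrict_surjective)
  have hT := le_inertia hθ.classFun
  have := Fintype.ofFinite (inertia θ)
  have := Fintype.ofFinite (N.subgroupOf (inertia θ))
  have ha : ∀ ψ, IsIrrCharacter (inertia θ) ψ →
      classInner (fun n : N.subgroupOf (inertia θ) => ψ n) (toSubOf _ θ) ≠ 0 → ¬ p ∣ charDegree ψ :=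
    fun ψ hψ hc hd => by
      rw [ip_res_toSubOf hT] at hc
      obtain ⟨a1, a2⟩ := clifford_corr_irr hθ rfl hT hψ hc
      refine not_ker_of_over hθ hne (a2 ▸ hc) (h9 _ a1 (hd.trans ⟨(inertia θ).index, charDegree_eq ?_⟩))
      rw [indFun_one, Nat.cast_mul, coe_charDegree hψ.isChar, mul_comm]
  obtain ⟨ψ, hψ, hc⟩ := (hθ.toSubOf hT).exists_over
  obtain ⟨μ, hμ⟩ := lin_ext_of_not_dvd (k := k) hp.out (hθ.toSubOf hT) (hθ.deg_one_of_comm mul_comm')
    (fun n => Subtype.ext (Subtype.ext (by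
      have := congrArg Subtype.val (pow_card_eq_one' (x := (⟨n.1.1, n.2⟩ : N)))
      rw [hk] at this; exact this))) (fun t => by rw [cj_toSubOf, mem_inertia.1 t.2]) hψ hc (ha ψ hψ hc)
  have hirr : IsIrrCharacter _ fun n : N.subgroupOf (inertia θ) => (μ n : ℂ) := by
    rw [funext hμ]; exact hθ.toSubOf hT
  intro x hx
  refine (QuotientGroup.eq_one_iff (N := N.subgroupOf (inertia θ)) _).1 (lemA (CfsgH1.IsPSolvable.quotient
    (CfsgH1.IsPSolvable.subgroup hs _) _) (fun β hβ hd => ?_) hQ ((QuotientGroup.mk' _).comp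
      (f.codRestrict _ fun x => hi ⟨x, rfl⟩)) hx)
  refine ha _ ((gallagher (isIrr_unitsHom μ).isChar hirr).1 ⟨β, hβ⟩) ?_ (by
    simpa [charDegree] using hd)
  have : (fun n : N.subgroupOf (inertia θ) => ((fun g : inertia θ => β g) * fun g => (μ g : ℂ)) n) =
      β 1 • toSubOf _ θ := funext fun n => by
    simp only [Pi.mul_apply, Pi.smul_apply, smul_eq_mul, hμ, (QuotientGroup.eq_one_iff _).2 n.2]
  rw [this, CfsgH3.inner_smul_left, (hθ.toSubOf hT).inner_self, mul_one]
  exact hβ.one_ne_zero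

/-- Let p be a prime, G a finite p-solvable group and P a Sylow p-subgroup of G. If n is the number of irreducible complex characters of G whose degree is divisible by p, then the (n+1)-st term of the derived series of P is trivial. (The p-solvable case has a direct inductive proof.) -/
theorem result {G : Type*} [Group G] [Finite G] (p : ℕ) [Fact p.Prime] (hG : Cfsg.IsPSolvable p G) (P : Sylow p G) : derivedSeries ↥(P : Subgroup G) (Nat.card {χ : Cfsg.IrrCharacter G // p ∣ Cfsg.charDegree (χ : G → ℂ)} + 1) = ⊥ := by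
  exact eq_bot_iff.2 ((main P.isPGroup' _ G le_rfl hG (P : Subgroup G).subtype).trans (Subgroup.ker_subtype _).le)

end Cfsg.Agent.S4768
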