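import Cfsg.Statements.S4784
import Cfsg.Agent.H4.Ord4

set_option autoImplicit false
open Cfsg

namespace Cfsg.Agent.S4784

open CfsgH4 CfsgH3

/-- Let H be a subgroup of the finite group G and consider the permutation character of G on the cosets of H (the function induced from the principal character of H). Then exactly one irreducible constituent of it is real-valued with Frobenius–Schur indicator +1 (namely the principal character) if and only if the normal core of H has odd index in G. -/
theorem result {G : Type*} [Group G] [Fintype G] (H : Subgroup G) : Nat.card {χ : Cfsg.IrrCharacter G // Cfsg.classInner (Cfsg.indFun H (fun _ : H => (1 : ℂ))) (χ : G → ℂ) ≠ 0 ∧ (∀ g : G, (starRingEnd ℂ) ((χ : G → ℂ) g) = (χ : G → ℂ) g) ∧ (Nat.card G : ℂ)⁻¹ * ∑ g : G, (χ : G → ℂ) (g * g) = 1} = 1 ↔ Odd H.normalCore.index := by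
  classical
  let o : IrrCharacter G := ⟨fun _ => 1, isIrr_one⟩
  have ho : classInner (indFun H (fun _ : H => (1 : ℂ))) o.1 ≠ 0 ∧ (∀ g : G, (starRingEnd ℂ) (o.1 g) = o.1 g) ∧
      (Nat.card G : ℂ)⁻¹ * ∑ g : G, o.1 (g * g) = 1 :=
    ⟨(ip_indFun_one_one H).trans_ne one_ne_zero, fun _ => map_one _, fs_one⟩
  have hθ : IsCharacter G (indFun H fun _ => 1) := isChar_one.ind
  constructor
  · intro h
    obtain ⟨x, hx⟩ := Nat.card_eq_one_iff_exists.1 h
    have e1 : Nat.card {g : G // g * g ∈ H} = ∑ h : H, Nat.card {s : G // s * s = h} := by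
      rw [← Nat.card_sigma]
      exact Nat.card_congr ⟨fun g => ⟨⟨_, g.2⟩, g.1, rfl⟩, fun a => ⟨a.2.1, a.2.2.symm ▸ a.1.2⟩,
        fun _ => rfl, by rintro ⟨⟨a, b⟩, c, d⟩; obtain rfl : c * c = a := d; rfl⟩
    obtain ⟨m, hm, -⟩ := hθ.exists_coeff
    obtain ⟨a, ha, hb⟩ := fs_int (G := G)
    have e2 : (Nat.card {g : G // g * g ∈ H} : ℤ) = Nat.card H * ∑ χ, a χ * m χ := by
      apply Int.cast_injective (α := ℂ)
      rw [e1]
      push_cast
      simp only [card_sqrt_eq]
      rw [Finset.sum_comm, Finset.mul_sum]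
      refine Finset.sum_congr rfl fun χ _ => ?_
      rw [← Finset.mul_sum, ha, ← hm, inner_indFun_left _ _ χ.2.classFun, classInner, mul_left_comm,
        mul_inv_cancel_left₀ (card_ne_zero_complex H)]
      simp
    have e3 : ∑ χ, a χ * m χ ≤ ∑ χ, if χ = o then 1 else 0 := by
      refine Finset.sum_le_sum fun χ _ => ?_
      split_ifs with e
      · have h1 : a o = 1 := by exact_mod_cast (ha o).symm.trans fs_one
        have h2 : m o = 1 := by exact_mod_cast (hm o).symm.trans (ip_indFun_one_one H)
        simp [e, h1, h2]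
      · rcases hb χ with ⟨-, y⟩ | ⟨x', y | y⟩
        · simp [y]
        · by_cases h0 : m χ = 0
          · simp [h0]
          · exact absurd (congrArg Subtype.val ((hx ⟨χ, by rw [hm]; exact_mod_cast h0, congrFun x',
              by rw [ha, y]; simp⟩).trans (hx ⟨o, ho⟩).symm)) e
        · simp [y]
    simp only [Finset.sum_ite_eq', Finset.mem_univ, if_true] at e3
    have e4 : Nat.card {g : G // g * g ∈ H} ≤ Nat.card H := by
      have := mul_le_mul_of_nonneg_left e3 (Nat.cast_nonneg (α := ℤ) (Nat.card H))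
      rw [← e2, mul_one] at this
      exact_mod_cast this
    have e5 := Set.eq_of_subset_of_ncard_le (s := H) (t := {g | g * g ∈ H})
      (fun g hg => mul_mem hg hg) (by exact e4)
    have e6 : ∀ (k : ℕ) (g : G), g ^ 2 ^ k = 1 → g ∈ H := by
      intro k
      induction k with
      | zero => intro g h; rw [pow_zero, pow_one] at h; exact h ▸ one_mem H
      | succ k ih => intro g h; exact e5.ge (ih (g * g) (by rwa [← sq, ← pow_mul, ← pow_succ']))
    have := Fact.mk Nat.prime_two
    obtain ⟨P⟩ : Nonempty (Sylow 2 G) := inferInstance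
    have : (P : Subgroup G) ≤ H.normalCore := fun y hy b => by
      obtain ⟨k, hk⟩ := P.2 ⟨y, hy⟩
      refine e6 k _ ?_
      rw [conj_pow, show y ^ 2 ^ k = 1 from congrArg Subtype.val hk, mul_one, mul_inv_cancel]
    exact Nat.not_even_iff_odd.1 fun e => P.not_dvd_index (e.two_dvd.trans (Subgroup.index_dvd_of_le this))
  · intro h
    refine Nat.card_eq_one_iff_exists.2 ⟨⟨o, ho⟩, ?_⟩
    rintro ⟨χ, a, b, -⟩
    obtain ⟨β, c, d⟩ := χ.2.exists_quotient H.normalCore fun n hn => hθ.ker_of_constituent χ.2 a (by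
      simp only [indFun_one_apply]
      congr 2
      exact Nat.card_congr (Equiv.subtypeEquivRight fun x => by simpa using hn x⁻¹))
    refine Subtype.ext (Subtype.ext (funext fun g => ?_))
    have : β = fun _ => 1 := by_contra fun e => c.conj_ne h e (funext fun q => by
      obtain ⟨g, rfl⟩ := QuotientGroup.mk_surjective q
      change (starRingEnd ℂ) (β g) = β g
      rw [d, b])
    change χ.1 g = 1
    rw [← d, this]

end Cfsg.Agent.S4784
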