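import Cfsg.Statements.S4796
import Cfsg.Agent.H4.Ord4

set_option autoImplicit false
open Cfsg

namespace Cfsg.Agent.S4796

open CfsgH4 CfsgH3

/-- Let G be a finite group with a faithful irreducible complex character χ whose codegree #G / χ(1) is a prime p (for a faithful character the kernel is trivial, so the codegree is #G / χ(1)). Then either G is cyclic of order p, or G is a Frobenius group whose Frobenius kernel has order p: some proper non-trivial subgroup H satisfies H ∩ gHg⁻¹ = 1 for every element g outside H, and the set of elements lying in no conjugate of H, together with the identity, has exactly p elements. -/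
theorem result {G : Type*} [Group G] [Finite G] (χ : Cfsg.IrrCharacter G) (hfaith : ∀ g : G, (χ : G → ℂ) g = (χ : G → ℂ) 1 → g = 1) (p : ℕ) (hp : p.Prime) (hcod : Nat.card G = p * Cfsg.charDegree (χ : G → ℂ)) : (IsCyclic G ∧ Nat.card G = p) ∨ ∃ H : Subgroup G, Cfsg.IsFrobeniusComplement H ∧ Nat.card ↥(Cfsg.frobeniusKernel H) = p := by
  obtain ⟨P, h1, h2, h3, h4, h5⟩ := exists_of_codeg_prime χ.2 hp hcod
  by_cases e : charDegree χ.1 = 1
  · rw [e, mul_one] at hcod
    have := Fact.mk hp
    exact Or.inl ⟨isCyclic_of_prime_card hcod, hcod⟩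
  obtain ⟨H, hH⟩ := Subgroup.exists_right_complement'_of_coprime (N := P) (by
    rw [h2, h3]; exact (Nat.coprime_of_lt_prime (charDegree_pos χ.2).ne' h4 hp))
  have := CfsgH1.frob_of_fpf hH ((Subgroup.one_lt_card_iff_ne_bot _).1 (h2 ▸ hp.one_lt))
    (fun e' => e (by rw [← h3, hH.symm.index_eq_card, e', Subgroup.card_bot])) fun h a b => by
      have := Fact.mk (h2 ▸ hp : (Nat.card P).Prime)
      rcases ((Subgroup.centralizer {h}).subgroupOf P).eq_bot_or_eq_top_of_prime_card with e | e
      · rwa [Subgroup.subgroupOf_eq_bot, disjoint_comm, disjoint_iff] at e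
      · refine absurd (Subgroup.disjoint_def.1 hH.disjoint (h5.le fun x hx => ?_) a) b
        exact Subgroup.mem_centralizer_singleton_iff.1 (Subgroup.subgroupOf_eq_top.1 e hx)
  exact Or.inr ⟨H, this, by rw [CfsgH1.frobKernel_eq hH this]; exact h2⟩

end Cfsg.Agent.S4796
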