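import Cfsg.Statements.S4797
import Cfsg.Agent.H4.Ord4

set_option autoImplicit false
open Cfsg

namespace Cfsg.Agent.S4797

open CfsgH4 CfsgH3

/-- The codegree of an irreducible complex character χ of a finite group G is [G : ker χ] / χ(1), where ker χ is the set of elements at which χ takes the value χ(1). A non-trivial finite group is perfect if and only if no irreducible complex character of it has prime codegree. -/
theorem result {G : Type*} [Group G] [Finite G] [Nontrivial G] : commutator G = ⊤ ↔ ∀ χ : Cfsg.IrrCharacter G, ¬ ((Nat.card G / (Nat.card {g : G // (χ : G → ℂ) g = (χ : G → ℂ) 1} * Cfsg.charDegree (χ : G → ℂ)))).Prime := by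
  constructor
  · intro h χ hp
    obtain ⟨β, a, -, -, b, c⟩ := exists_codeg χ.2
    obtain ⟨P, h1, h2, -, -, h5⟩ := exists_of_codeg_prime a hp (b ▸ c)
    have hQ : commutator (G ⧸ χ.2.isChar.ker) = ⊤ := by
      rw [commutator_quot, h, Subgroup.map_top_of_surjective _ (QuotientGroup.mk'_surjective _)]
    have := Fact.mk hp
    have := isCyclic_of_prime_card h2
    have h6 := Abelianization.commutator_subset_ker
      ((IsCyclic.mulAutMulEquiv P).toMonoidHom.comp MulAut.conjNormal)
    have h7 : P = ⊤ := eq_top_iff.2 fun q _ => h5.le fun x hx => by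
      have h8 : MulAut.conjNormal (H := P) q = 1 := by simpa using h6 (hQ.ge trivial : q ∈ _)
      have := congrArg Subtype.val (DFunLike.congr_fun h8 ⟨x, hx⟩)
      exact (mul_inv_eq_iff_eq_mul.1 this).symm
    rw [h7, Subgroup.coe_top, Subgroup.centralizer_univ, ← commutator_eq_bot_iff_center_eq_top, hQ] at h5
    rw [h7, h5, Subgroup.card_bot] at h2
    exact hp.one_lt.ne h2
  · intro h
    by_contra e
    obtain ⟨q, a, b⟩ := Nat.exists_prime_and_dvd (mt Subgroup.index_eq_one.1 e)
    have := Fact.mk a
    obtain ⟨μ, hμ⟩ := exists_prime_orderOf_dvd_card' (G := G →* ℂˣ) q (by rwa [card_hom_units])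
    refine h ⟨_, isIrr_unitsHom μ⟩ ?_
    have h1 : Nat.card {g : G // (μ g : ℂ) = μ 1} = Nat.card μ.ker :=
      Nat.card_congr (Equiv.subtypeEquivRight fun g => by rw [MonoidHom.mem_ker, map_one, Units.val_inj])
    have h2 : μ.ker.index = q := by
      have h3 : μ.range ≤ rootsOfUnity q ℂ := by
        rintro _ ⟨g, rfl⟩; rw [mem_rootsOfUnity, ← hμ, lin_pow_orderOf]
      have h4 := Subgroup.card_dvd_of_le h3
      have := NeZero.mk a.ne_zero
      rw [Complex.card_rootsOfUnity, Nat.dvd_prime a,
        ← Subgroup.index_ker] at h4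
      refine h4.resolve_left fun e => ?_
      rw [Subgroup.index_eq_one, MonoidHom.ker_eq_top_iff] at e
      rw [e, orderOf_one] at hμ
      exact a.one_lt.ne hμ
    change (Nat.card G / (Nat.card {g : G // (μ g : ℂ) = μ 1} * charDegree fun g => (μ g : ℂ))).Prime
    rwa [h1, charDegree_eq (n := 1) (by simp), mul_one, ← μ.ker.card_mul_index,
      Nat.mul_div_cancel_left _ Nat.card_pos, h2]

end Cfsg.Agent.S4797
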