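import Cfsg.Statements.S4798
import Cfsg.Agent.H4.PSol

set_option autoImplicit false
open Cfsg

namespace Cfsg.Agent.S4798

open CfsgH4 CfsgH3 CfsgH2 MonoidAlgebra

/-- Let p be a prime and χ a faithful irreducible complex character of the finite group G (χ(g) = χ(1) only for g = 1), so that its codegree is #G / χ(1). Then #G / χ(1) is a power of p if and only if χ is induced from a character of a Sylow p-subgroup of G. -/
theorem result {G : Type*} [Group G] [Fintype G] (p : ℕ) [Fact p.Prime] (χ : Cfsg.IrrCharacter G) (hfaith : ∀ g : G, (χ : G → ℂ) g = (χ : G → ℂ) 1 → g = 1) : (∃ k : ℕ, Nat.card G = p ^ k * Cfsg.charDegree (χ : G → ℂ)) ↔ ∃ (P : Sylow p G) (θ : ↥(P : Subgroup G) → ℂ), Cfsg.IsCharacter ↥(P : Subgroup G) θ ∧ (χ : G → ℂ) = Cfsg.indFun (P : Subgroup G) θ := by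
  have hp : p.Prime := Fact.out
  constructor
  · rintro ⟨k, hk⟩
    obtain ⟨P⟩ : Nonempty (Sylow p G) := inferInstance
    have := Fintype.ofFinite P
    obtain ⟨a, ha⟩ := P.isPGroup'.exists_card_eq
    have h1 := (P : Subgroup G).card_mul_index
    rw [hk, ha] at h1
    have hka : k ≤ a := by
      refine (Nat.pow_dvd_pow_iff_le_right hp.one_lt).1 ((Nat.Coprime.pow_left k
        (hp.coprime_iff_not_dvd.2 P.not_dvd_index)).dvd_of_dvd_mul_right ⟨_, h1⟩)
    obtain ⟨b, rfl⟩ := Nat.exists_eq_add_of_le hka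
    rw [pow_add, mul_assoc] at h1
    have h2 := Nat.eq_of_mul_eq_mul_left (pow_pos hp.pos k) h1
    have h3 : ¬ p ^ (b + 1) ∣ charDegree fun x : (P : Subgroup G) => χ.1 x := fun h => by
      rw [charDegree_res, ← h2, pow_succ, Nat.mul_dvd_mul_iff_left (pow_pos hp.pos b)] at h
      exact P.not_dvd_index h
    obtain ⟨θ, h4, h5, h6⟩ := exists_pprime_constituent (χ.2.isChar.restrict _) h3
    obtain ⟨c, hc⟩ := charDegree_pgroup hp P.isPGroup' h4
    have h7 : c ≤ b := by
      by_contra h; exact h6 (hc ▸ pow_dvd_pow p (by omega))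
    rw [← inner_indFun_right _ _ χ.2.classFun, Ne, CfsgH3.inner_eq_zero_symm] at h5
    have h8 := h4.isChar.ind.deg_le_of_constituent χ.2 h5 (coe_charDegree h4.isChar.ind).symm
      (coe_charDegree χ.2.isChar).symm
    refine ⟨P, θ, h4.isChar, (h4.isChar.ind.eq_of_constituent_of_deg_eq χ.2 h5 ?_).symm⟩
    rw [← coe_charDegree h4.isChar.ind, ← coe_charDegree χ.2.isChar]
    congr 1
    refine le_antisymm ?_ h8
    rw [charDegree_ind h4.isChar, hc, ← h2, mul_comm]
    exact Nat.mul_le_mul_right _ (Nat.pow_le_pow_right hp.pos h7)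
  · rintro ⟨P, θ, h1, h2⟩
    have h3 := irr_of_ind_irr h1 (h2 ▸ χ.2)
    obtain ⟨e, he⟩ := charDegree_dvd_card h3
    obtain ⟨a, ha⟩ := P.isPGroup'.exists_card_eq
    obtain ⟨k, -, hk⟩ := (Nat.dvd_prime_pow hp).1 (show e ∣ p ^ a from ⟨charDegree θ, by
      rw [← ha, mul_comm]; exact he⟩)
    refine ⟨k, ?_⟩
    rw [h2, charDegree_ind h1, ← (P : Subgroup G).card_mul_index, he, hk]; ring

end Cfsg.Agent.S4798
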