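import Cfsg.Statements.S4801
import Cfsg.Agent.H4.Ord4

set_option autoImplicit false
open Cfsg

namespace Cfsg.Agent.S4801

open CfsgH4 CfsgH3

/-- The codegree of an irreducible complex character χ of a finite group G is [G : ker χ] / χ(1), where ker χ is the set of elements at which χ takes the value χ(1). Let S be a finite simple group and G a finite group such that every codegree of an irreducible character of S is a codegree of an irreducible character of G. Then the order of S divides the order of G. -/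
theorem result {S : Type*} [Group S] [Finite S] (hS : IsSimpleGroup S) {G : Type*} [Group G] [Finite G] (hsub : ∀ χ : Cfsg.IrrCharacter S, ∃ ψ : Cfsg.IrrCharacter G, (Nat.card S / (Nat.card {g : S // (χ : S → ℂ) g = (χ : S → ℂ) 1} * Cfsg.charDegree (χ : S → ℂ))) = (Nat.card G / (Nat.card {g : G // (ψ : G → ℂ) g = (ψ : G → ℂ) 1} * Cfsg.charDegree (ψ : G → ℂ)))) : Nat.card S ∣ Nat.card G := by
  classical
  refine (Nat.dvd_iff_prime_pow_dvd_dvd _ _).2 fun p k hp hk => ?_
  rcases k with _ | k
  · simp
  let o : IrrCharacter S := ⟨fun _ => 1, isIrr_one⟩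
  obtain ⟨χ, a, b⟩ : ∃ χ : IrrCharacter S, χ ≠ o ∧ ¬ p ∣ charDegree χ.1 := by
    by_contra! h
    have h1 := (dvd_pow_self p k.succ_ne_zero).trans hk
    rw [← sum_charDegree_sq, ← Finset.add_sum_erase _ _ (Finset.mem_univ o),
      charDegree_eq (n := 1) (by simp [o]), Nat.dvd_add_left (Finset.dvd_sum fun χ hχ =>
        dvd_pow (h χ (Finset.mem_erase.1 hχ).1) two_ne_zero)] at h1
    exact hp.one_lt.ne' (by simpa using h1)
  obtain ⟨ψ, hψ⟩ := hsub χ
  refine Dvd.dvd.trans ?_ (codeg_dvd ψ.2)
  rw [← hψ, card_ker_eq χ.2.isChar, χ.2.ker_eq_bot_of_simple (fun e => a (Subtype.ext e)),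
    Subgroup.card_bot, one_mul]
  rw [← Nat.div_mul_cancel (charDegree_dvd_card χ.2)] at hk
  exact (((Nat.Prime.coprime_iff_not_dvd hp).2 b).pow_left _).dvd_of_dvd_mul_right hk

end Cfsg.Agent.S4801
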