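import Cfsg.Statements.S4802
import Cfsg.Agent.H4.Ord4

set_option autoImplicit false
open Cfsg

namespace Cfsg.Agent.S4802

open CfsgH4 CfsgH3

/-- Let N < M be normal subgroups of the finite group G and g ∈ M ∖ N. Then the conjugacy class of g is exactly M ∖ N if and only if every irreducible complex character of G whose kernel contains N takes the same value at all elements of M ∖ N, and every irreducible complex character of G whose kernel does not contain N vanishes at g. -/
theorem result {G : Type*} [Group G] [Finite G] (N M : Subgroup G) [N.Normal] [M.Normal] (hNM : N < M) (g : G) (hgM : g ∈ M) (hgN : g ∉ N) : {h : G | IsConj g h} = (M : Set G) \ (N : Set G) ↔ ((∀ χ : Cfsg.IrrCharacter G, (∀ x ∈ N, (χ : G → ℂ) x = (χ : G → ℂ) 1) → ∀ x ∈ M, x ∉ N → ∀ y ∈ M, y ∉ N → (χ : G → ℂ) x = (χ : G → ℂ) y) ∧ (∀ χ : Cfsg.IrrCharacter G, (∃ x ∈ N, (χ : G → ℂ) x ≠ (χ : G → ℂ) 1) → (χ : G → ℂ) g = 0)) := by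
  have := Fintype.ofFinite N
  constructor
  · intro h
    have h1 : ∀ x ∈ M, x ∉ N → IsConj g x := fun x a b => h.ge ⟨a, b⟩
    refine ⟨fun χ _ x a b y c d => χ.2.classFun.of_isConj ((h1 x a b).symm.trans (h1 y c d)),
      fun χ hχ => ?_⟩
    have := χ.2.sum_normal_mul N hχ g
    rw [Finset.sum_congr rfl (g := fun _ => χ.1 g) (fun n _ => (χ.2.classFun.of_isConj (h1 _
      (mul_mem (hNM.le n.2) hgM) fun e => hgN ((mul_mem_cancel_left n.2).1 e))).symm), Finset.sum_const,
      Finset.card_univ, ← Nat.card_eq_fintype_card, nsmul_eq_mul] at this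
    exact (mul_eq_zero.1 this).resolve_left (card_ne_zero_complex N)
  · rintro ⟨a, b⟩
    ext x
    constructor
    · intro hx
      obtain ⟨c, rfl⟩ := isConj_iff.1 hx
      exact ⟨Subgroup.Normal.conj_mem inferInstance g hgM c,
        fun e => hgN ((Subgroup.Normal.mem_comm_iff inferInstance).1 e |> (by simpa using ·))⟩
    · rintro ⟨c, d⟩
      refine isConj_of_nonneg fun χ hχ => ?_
      by_cases e : ∀ x ∈ N, χ x = χ 1
      · exact Or.inr (Or.inr (a ⟨χ, hχ⟩ e x c d g hgM hgN))
      · exact Or.inl (b ⟨χ, hχ⟩ (by simpa using e))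

end Cfsg.Agent.S4802
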