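import Cfsg.Statements.S4808
import Cfsg.Agent.H4.Ord4

set_option autoImplicit false
open Cfsg

namespace Cfsg.Agent.S4808

open CfsgH4 CfsgH3

/-- The codegree of an irreducible complex character χ of a finite group G is [G : ker χ] / χ(1), where ker χ is the set of elements at which χ takes the value χ(1). A prime divides the order of G if and only if it divides the codegree of some irreducible complex character of G. -/
theorem result {G : Type*} [Group G] [Finite G] (p : ℕ) (hp : p.Prime) : p ∣ Nat.card G ↔ ∃ χ : Cfsg.IrrCharacter G, p ∣ (Nat.card G / (Nat.card {g : G // (χ : G → ℂ) g = (χ : G → ℂ) 1} * Cfsg.charDegree (χ : G → ℂ))) := by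
  refine ⟨fun h => ?_, fun ⟨χ, h⟩ => h.trans (codeg_dvd χ.2)⟩
  by_contra! e
  have := Fact.mk hp
  obtain ⟨x, hx⟩ := exists_prime_orderOf_dvd_card' p h
  refine not_forall_zero_or_ker (g := x) (by rintro rfl; exact hp.one_lt.ne (by simpa using hx))
    fun χ hχ => or_iff_not_imp_right.2 fun h1 => ?_
  obtain ⟨β, a, b, -, c, d⟩ := exists_codeg hχ
  rw [← b]
  refine vanish_of_dvd hp a ?_ ?_
  · rw [c]
    refine (((Nat.Prime.coprime_iff_not_dvd hp).2 (e ⟨χ, hχ⟩)).pow_left _).dvd_of_dvd_mul_left ?_
    rw [← d]; exact Nat.ordProj_dvd _ _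
  · rw [orderOf_eq_prime (p := p) (by rw [← QuotientGroup.mk_pow, ← hx, pow_orderOf_eq_one]; rfl)
      (mt (QuotientGroup.eq_one_iff x).1 h1)]

end Cfsg.Agent.S4808
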