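import Cfsg.Statements.S4813
import Cfsg.Agent.H4.Deg3
import Cfsg.Agent.S4466

set_option autoImplicit false
open Cfsg

namespace Cfsg.Agent.S4813

open CfsgH4 CfsgH3 CfsgH2 MonoidAlgebra

/-- If every irreducible complex character of the finite group G of degree greater than one has prime degree, then G has at most three distinct irreducible character degrees. -/
theorem result {G : Type*} [Group G] [Finite G] (hprime : ∀ d ∈ Cfsg.charDegrees G, d = 1 ∨ d.Prime) : Nat.card ↥(Cfsg.charDegrees G) ≤ 3 := by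
  have h : ∀ χ, IsIrrCharacter G χ → charDegree χ ≠ 1 → (charDegree χ).Prime := fun χ hχ =>
    (hprime _ (mem_cd hχ)).resolve_left
  have := S4466.result fun χ : IrrCharacter G => h _ χ.2
  suffices ∃ a b, ∀ χ, IsIrrCharacter G χ → charDegree χ = 1 ∨ charDegree χ = a ∨ charDegree χ = b by
    obtain ⟨a, b, hab⟩ := this
    rw [Nat.card_coe_set_eq]
    refine (Set.ncard_le_ncard (t := {1, a, b}) ?_).trans
      ((Set.ncard_insert_le _ _).trans (Nat.succ_le_succ (ncard_pair_le' _ _)))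
    rintro _ ⟨χ, rfl⟩
    exact hab _ χ.2
  by_cases h0 : commutator G ≤ ⊥
  · exact ⟨1, 1, fun χ hχ => Or.inl ((charDegree_eq_one_iff hχ.isChar).2
      (hχ.deg_one_of_commutator fun n hn => by rw [Subgroup.mem_bot.1 (h0 hn)]))⟩
  obtain ⟨K, _, -, hK⟩ := exists_minNA h0
  rcases cases_of_minNA hK inferInstance with ⟨q, hq, h3, -⟩ | ⟨N, _, q, F⟩
  · have := Fact.mk hq
    obtain ⟨j, hj⟩ := IsPGroup.iff_card.1 h3
    obtain ⟨β, hβ, h1⟩ := exists_nonlin' hK.1
    refine ⟨q, q, fun χ hχ => or_iff_not_imp_left.2 fun d => Or.inl (by_contra fun d' => ?_)⟩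
    obtain ⟨ψ, hψ, e⟩ := exists_deg_mul_quot hχ (N := K) (by
      rw [Subgroup.index_eq_card, hj]
      exact ((Nat.coprime_primes (h χ hχ d) hq).2 d').pow_right j) hβ
    exact Nat.not_prime_mul h1 d (e ▸ h ψ hψ fun k => d (Nat.eq_one_of_mul_eq_one_left (e.symm.trans k)))
  · obtain ⟨β, hβ, e⟩ := F.mem
    have hf : N.index.Prime := e ▸ h β hβ (e ▸ F.ne_one)
    refine ⟨N.index, q, fun χ hχ => or_iff_not_imp_left.2 fun d => ?_⟩
    obtain ⟨θ, c, hθ, h1, h2⟩ := exists_under' hχ N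
    by_cases hq : q ∣ charDegree θ
    · exact Or.inr ((Nat.prime_dvd_prime_iff_eq F.prime (h χ hχ d)).1 (h1 ▸ hq.mul_left c)).symm
    obtain ⟨ψ, hψ, e⟩ := F.ind θ hθ hq
    have h3 : charDegree θ = 1 := by_contra fun k => Nat.not_prime_mul F.ne_one k
      (e ▸ h ψ hψ fun k' => k (Nat.eq_one_of_mul_eq_one_left (e.symm.trans k')))
    rw [h3, mul_one] at h1
    exact Or.inl ((Nat.prime_dvd_prime_iff_eq (h χ hχ d) hf).1 (h1 ▸ h2))

end Cfsg.Agent.S4813
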