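import Cfsg.Statements.S4814
import Cfsg.Agent.H4.Ord4

set_option autoImplicit false
open Cfsg

namespace Cfsg.Agent.S4814

open CfsgH4 CfsgH3

/-- Let G be a finite group such that the sum, over the irreducible complex characters χ of G, of 1/χ(1)² is less than 2. Then every element of G is a product of two commutators. -/
theorem result {G : Type*} [Group G] [Finite G]
    (h : ∑ᶠ χ : Cfsg.IrrCharacter G, 1 / ‖(χ : G → ℂ) 1‖ ^ 2 < (2 : ℝ)) (g : G) :
    ∃ a b c d : G, (a * b * a⁻¹ * b⁻¹) * (c * d * c⁻¹ * d⁻¹) = g := by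
  classical
  have := Fintype.ofFinite G
  by_contra! e
  let F : (G × G) × (G × G) → G := fun x =>
    x.2.1 * x.2.2 * x.2.1⁻¹ * x.2.2⁻¹ * (x.1.1 * x.1.2 * x.1.1⁻¹ * x.1.2⁻¹ * 1)
  have h1 : ∑ x, ∑ χ : IrrCharacter G, χ.1 (F x) * (starRingEnd ℂ) (χ.1 g) = 0 :=
    Finset.sum_eq_zero fun x _ => sum_irr_mul_conj_of_not_isConj fun hc => by
      obtain ⟨c, hc⟩ := isConj_iff.1 hc
      exact e (c * x.2.1 * c⁻¹) (c * x.2.2 * c⁻¹) (c * x.1.1 * c⁻¹) (c * x.1.2 * c⁻¹)
        (by rw [← hc]; simp only [F]; group)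
  have h2 : ∀ χ : IrrCharacter G, ∑ x, χ.1 (F x) * (starRingEnd ℂ) (χ.1 g) =
      Nat.card G ^ 4 * ((starRingEnd ℂ) (χ.1 g) / χ.1 1 ^ 3) := fun χ => by
    have h0 := χ.2.one_ne_zero
    have a := sum_comm_mul χ.2 1
    have b : χ.1 1 ^ 2 * ∑ x, χ.1 (F x) = Nat.card G ^ 2 *
        ∑ x : G × G, χ.1 (x.1 * x.2 * x.1⁻¹ * x.2⁻¹ * 1) := by
      rw [Fintype.sum_prod_type, Finset.mul_sum, Finset.mul_sum]
      exact Finset.sum_congr rfl fun x _ => sum_comm_mul χ.2 (x.1 * x.2 * x.1⁻¹ * x.2⁻¹ * 1)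
    rw [← Finset.sum_mul]
    field_simp
    apply mul_left_cancel₀ h0
    linear_combination (starRingEnd ℂ) (χ.1 g) * (χ.1 1 ^ 2 * b + Nat.card G ^ 2 * a)
  let o : IrrCharacter G := ⟨fun _ => 1, isIrr_one⟩
  rw [Finset.sum_comm, Finset.sum_congr rfl fun χ _ => h2 χ, ← Finset.mul_sum, mul_eq_zero,
    ← Finset.add_sum_erase _ _ (Finset.mem_univ o)] at h1
  have h3 := eq_neg_of_add_eq_zero_left (h1.resolve_left (pow_ne_zero _ (card_ne_zero_complex G)))
  rw [finsum_irr, ← Finset.add_sum_erase _ _ (Finset.mem_univ o)] at h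
  have h4 := congrArg norm h3
  rw [norm_neg] at h4
  have h5 := h4.trans_le ((norm_sum_le _ _).trans (Finset.sum_le_sum (g := fun χ : IrrCharacter G =>
    1 / ‖χ.1 1‖ ^ 2) fun χ _ => by
      have := norm_pos_iff.2 χ.2.one_ne_zero
      rw [norm_div, norm_pow, Complex.norm_conj, div_le_div_iff₀ (by positivity) (by positivity),
        one_mul, pow_succ' _ 2]
      exact mul_le_mul_of_nonneg_right (χ.2.isChar.norm_le g) (by positivity)))
  simp only [o, map_one, one_pow, div_one, norm_one] at h h5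
  linarith

end Cfsg.Agent.S4814
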