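import Cfsg.Statements.S4825
import Cfsg.Agent.H4.Deg

set_option autoImplicit false
open Cfsg

namespace Cfsg.Agent.S4825

open CfsgH4 CfsgH3 CfsgH2 MonoidAlgebra

/-- Let p be a prime, G a finite group with Sylow p-subgroup P, M a maximal ideal of the algebraic integers containing p, and B a p-block of G with defect group P. Let N be a normal subgroup of G not containing P and θ an irreducible character of N. Then the number of irreducible characters in B of degree prime to p lying over θ (having θ as a constituent on restriction to N) is either 0 or at least 2, and when p ≤ 3 it is divisible by p. -/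
theorem result {G : Type*} [Group G] [Fintype G] (p : ℕ) [Fact p.Prime] (P : Sylow p G) (M : Ideal Cfsg.AlgInt) (hM : Cfsg.IsPModular p M) (B : Set (Cfsg.IrrCharacter G)) (hB : Cfsg.IsPBlock M B) (hBP : Cfsg.IsDefectGroup p M B P) (N : Subgroup G) [N.Normal] [Fintype N] (hPN : ¬ (P : Subgroup G) ≤ N) (θ : Cfsg.IrrCharacter N) :
    (Nat.card {χ : Cfsg.IrrCharacter G // χ ∈ B ∧ ¬ p ∣ Cfsg.charDegree (χ : G → ℂ) ∧ Cfsg.classInner (fun n : N => (χ : G → ℂ) n) (θ : N → ℂ) ≠ 0} = 0 ∨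
      2 ≤ Nat.card {χ : Cfsg.IrrCharacter G // χ ∈ B ∧ ¬ p ∣ Cfsg.charDegree (χ : G → ℂ) ∧ Cfsg.classInner (fun n : N => (χ : G → ℂ) n) (θ : N → ℂ) ≠ 0}) ∧
    (p ≤ 3 → p ∣ Nat.card {χ : Cfsg.IrrCharacter G // χ ∈ B ∧ ¬ p ∣ Cfsg.charDegree (χ : G → ℂ) ∧ Cfsg.classInner (fun n : N => (χ : G → ℂ) n) (θ : N → ℂ) ≠ 0}) := by
  have := hM.2.1
  have := charP_of_isPModular hM
  classical
  have hp : p.Prime := Fact.out
  obtain ⟨x, hx, hxN⟩ := SetLike.not_le_iff_exists.1 hPN
  have hxo : ∃ k, orderOf x = p ^ k := by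
    simpa using IsPGroup.iff_orderOf.1 P.isPGroup' ⟨x, hx⟩
  have h1 := blockPart_eq_zero (eSet_mem_SG hB) (isSecUnion_sec (p := p) x) (ϑ := indFun N θ.1)
    (fun g ⟨z, hz, hc⟩ => indFun_of_not_mem_normal _ _ fun hg => hxN (by
      obtain ⟨c, rfl⟩ := isConj_iff.1 hc.symm
      exact ‹N.Normal›.conj_mem _ (isPPart_mem hz hg) c)) ⟨x, isPPart_self hxo, IsConj.refl x⟩
  choose e he using fun χ : IrrCharacter G => (χ.2.isChar.restrict N).inner_nat θ.2.isChar
  have h2 : (∑ χ ∈ irrF B, (e χ * charDegree χ.1 : Res M)) = 0 := by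
    rw [blockPart_apply] at h1
    have := congrArg (red M) h1
    rw [red_zero, red_sum _ _ fun χ _ => ?_] at this
    · rw [← this]
      refine Finset.sum_congr rfl fun χ _ => ?_
      rw [inner_indFun_left _ _ χ.2.classFun, ← CfsgH3.inner_conj_symm, he, map_natCast,
        red_mul (natCast_mem _ _) (irr_mem_Loc χ x), red_natCast, ← mul_one x,
        red_apply_mul χ.2.isChar (Commute.one_right x) hxo, ← coe_charDegree χ.2.isChar, red_natCast]
    · rw [inner_indFun_left _ _ χ.2.classFun, ← CfsgH3.inner_conj_symm, he, map_natCast]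
      exact mul_mem (natCast_mem _ _) (irr_mem_Loc χ x)
  set S := Finset.univ.filter fun χ : IrrCharacter G => χ ∈ B ∧ ¬ p ∣ charDegree χ.1 ∧
    classInner (fun n : N => χ.1 n) θ.1 ≠ 0 with hS
  rw [Nat.card_eq_fintype_card, Fintype.card_subtype, ← hS]
  have h3 : ∀ χ ∈ S, charDegree χ.1 = e χ * ((inertia θ.1).index * charDegree θ.1) := fun χ h => by
    have := clifford_deg χ.2 θ.2 (Finset.mem_filter.1 h).2.2.2
    rw [he, ← coe_charDegree θ.2.isChar] at this
    exact charDegree_eq (by rw [this]; push_cast; ring)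
  generalize (inertia θ.1).index * charDegree θ.1 = c at h3
  have h4 : p ∣ (∑ χ ∈ S, e χ ^ 2) * c := by
    rw [← CharP.cast_eq_zero_iff (Res M), ← h2, Finset.sum_mul, Nat.cast_sum]
    refine (Finset.sum_congr rfl fun χ h => by rw [h3 χ h]; push_cast; ring).trans
      (Finset.sum_subset (fun χ h => mem_irrF.2 (Finset.mem_filter.1 h).2.1) fun χ h1 h2 => ?_)
    by_cases h5 : p ∣ charDegree χ.1
    · rw [(CharP.cast_eq_zero_iff (Res M) p _).2 h5, mul_zero]
    · have : e χ = 0 := by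
        by_contra h6
        exact h2 (Finset.mem_filter.2 ⟨Finset.mem_univ _, mem_irrF.1 h1, h5, by
          rw [he]; exact Nat.cast_ne_zero.2 h6⟩)
      rw [this, Nat.cast_zero, zero_mul]
  rcases S.eq_empty_or_nonempty with h | ⟨χ, hχ⟩
  · simp [h]
  have h5 : ∀ χ ∈ S, ¬ p ∣ e χ ∧ ¬ p ∣ c := fun χ h => by
    have := (Finset.mem_filter.1 h).2.2.1
    rw [h3 χ h] at this
    exact ⟨fun k => this (k.mul_right _), fun k => this (k.mul_left _)⟩
  have h6 := (hp.dvd_mul.1 h4).resolve_right (h5 χ hχ).2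
  refine ⟨Or.inr ?_, fun h3 => ?_⟩
  · by_contra k
    obtain ⟨ψ, hψ⟩ := Finset.card_eq_one.1 (le_antisymm (by omega) (Finset.card_pos.2 ⟨χ, hχ⟩))
    rw [hψ, Finset.sum_singleton] at h6
    exact (h5 ψ (by simp [hψ])).1 (hp.dvd_of_dvd_pow h6)
  · rw [← ZMod.natCast_eq_zero_iff] at h6 ⊢
    rw [← h6, Nat.cast_sum, Finset.card_eq_sum_ones, Nat.cast_sum]
    refine Finset.sum_congr rfl fun χ h => ?_
    have h7 := ZMod.pow_card_sub_one_eq_one (p := p) (a := e χ) fun k =>
      (h5 χ h).1 ((ZMod.natCast_eq_zero_iff _ _).1 k)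
    have h8 : p - 1 = 1 ∨ p - 1 = 2 := by have := hp.two_le; omega
    rcases h8 with h8 | h8 <;> rw [h8] at h7
    · rw [pow_one] at h7; simp [h7]
    · simp [h7]

end Cfsg.Agent.S4825
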