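import Cfsg.Statements.S4828
import Cfsg.Agent.H4.DC

set_option autoImplicit false
open Cfsg

namespace Cfsg.Agent.S4828

open CfsgH4 CfsgH3 CfsgH2 MonoidAlgebra

/-- Let p be a prime, M a maximal ideal of the algebraic integers containing p, and (Q, e) a Brauer pair of the finite group G (Q a p-subgroup, e a block of C_G(Q)). Then (Q, e) is a maximal Brauer pair of some block of G if and only if e contains an irreducible character θ such that θ takes the value θ(1) at every element of Z(Q) = Q ∩ C_G(Q), the p-part of θ(1) times the p-part of the order of Z(Q) equals the p-part of the order of C_G(Q) (θ has defect zero as a character of C_G(Q)/Z(Q)), and every element of N_G(Q) of p-power order that stabilizes e lies in Q·C_G(Q) (the stabilizer of e in N_G(Q) has index prime to p over Q·C_G(Q)). -/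
theorem result {G : Type*} [Group G] [Finite G] (p : ℕ) [Fact p.Prime] (M : Ideal Cfsg.AlgInt) (hM : Cfsg.IsPModular p M) (Q : Subgroup G) (e : Set (Cfsg.IrrCharacter (Subgroup.centralizer (Q : Set G)))) (he : Cfsg.IsBrauerPair p M Q e) :
    (∃ B : Set (Cfsg.IrrCharacter G), Cfsg.IsMaximalBrauerPair p M B Q e) ↔
      ∃ θ ∈ e, (∀ z : Subgroup.centralizer (Q : Set G), (z : G) ∈ Q → (θ : Subgroup.centralizer (Q : Set G) → ℂ) z = (θ : Subgroup.centralizer (Q : Set G) → ℂ) 1) ∧
        (Cfsg.charDegree (θ : Subgroup.centralizer (Q : Set G) → ℂ)).factorization p + (Nat.card ↥(Q ⊓ Subgroup.centralizer (Q : Set G))).factorization p = (Nat.card (Subgroup.centralizer (Q : Set G))).factorization p ∧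
        (∀ g : G, g ∈ Subgroup.normalizer (Q : Set G) → Cfsg.StabilizesBlock (Subgroup.centralizer (Q : Set G)) e g → (∃ k : ℕ, orderOf g = p ^ k) → g ∈ Q ⊔ Subgroup.centralizer (Q : Set G)) := by
  have := hM.2.1
  have := charP_of_isPModular hM
  have hc : Nat.card ((Q ⊓ Subgroup.centralizer (Q : Set G)).subgroupOf
      (Subgroup.centralizer (Q : Set G))) = Nat.card (Q ⊓ Subgroup.centralizer (Q : Set G) :) :=
    Nat.card_congr (Subgroup.subgroupOfEquivOfLe inf_le_right).toEquiv
  have hi := factorization_card_add_index (p := p)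
    ((Q ⊓ Subgroup.centralizer (Q : Set G)).subgroupOf (Subgroup.centralizer (Q : Set G)))
  have hZ := center_subgroupOf Q
  have hb := bp_of he.1 he.2
  rw [hc] at hi
  constructor
  · rintro ⟨B, h⟩
    have h1 := mp_of_isMax h
    have h2 := (isDef_subgroupOf_iff inf_le_right).2 h1.isDef_center_top
    obtain ⟨θ, ⟨h3, h4⟩, -⟩ := existsUnique_ker (DC_of_central hZ) he.2 h2
    refine ⟨θ, h3, fun z hz => h4 z ⟨hz, z.2⟩, ?_, fun g hg hs hk => ?_⟩
    · rw [← hi, add_comm,
        ← nu_of_height_zero he.2 h2 h3 (height_zero_of_central hZ he.2 h2 h3)]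
    · have h5 := le_of_not_dvd_relIndex (sup_le hb.Cn_le_stab hb.le_stab)
        (CfsgH1.le_normalizer_sup (inf_le_left.trans inf_le_normalizer_Cn)
          (inf_le_left.trans inf_le_right)) h1.not_dvd
        (isPGroup_zpowers_of_orderOf hk.choose_spec) (Subgroup.zpowers_le.2 ⟨⟨trivial, hg⟩,
          ((stabilizesBlock_iff he.2).1 hs).2⟩) (Subgroup.mem_zpowers g)
      rwa [Cn_top, sup_comm] at h5
  · rintro ⟨θ, h1, -, h2, h3⟩
    have h4 := (laradji M (D := (Q ⊓ Subgroup.centralizer (Q : Set G)).subgroupOf _)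
      ((he.1.to_inf_left).comap_subtype) hZ (χ := θ) (by change _ = _ at h2; unfold nu; omega)).1
    rw [← block_eq_blockOf he.2 h1, isDef_subgroupOf_iff inf_le_right] at h4
    obtain ⟨E, hE, h5⟩ := hb.exists_block
    obtain ⟨B, hB, rfl⟩ := exists_block_of_isPrim hE
    refine ⟨B, isMax_iff.2 ⟨hB, he.2, mp_of_max hE hb h5 fun R g h => le_antisymm ?_ h.le⟩⟩
    refine hb.le_of_central (by rwa [Cn_top]) (fun x hx => ?_) h.right.pgroup h.Br_ne_zero
    rw [Cn_top]
    exact h3 x (h.norm hx) ((stabilizesBlock_iff he.2).2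
      ⟨normalizer_le_normalizer_centralizer _ (h.norm hx), (h.le_stab hx).2⟩)
      (ord_of_mem h.right.pgroup hx)

end Cfsg.Agent.S4828
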