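import Cfsg.Statements.S4837
import Cfsg.Agent.H4.Ord4

set_option autoImplicit false
open Cfsg

namespace Cfsg.Agent.S4837

open CfsgH4 CfsgH3

/-- Let G be a finite group of order greater than 2 with an irreducible character χ nonzero on exactly two conjugacy classes, and let N be the set of elements where χ is nonzero, given as a nontrivial normal p-subgroup of G for the prime p. Then for every nonidentity x in N the centralizer C_G(x) is a Sylow p-subgroup of G, and for every irreducible character λ ≠ 1 of N the stabilizer of λ in G (its inertia group) is a Sylow p-subgroup of G. -/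
theorem result {G : Type*} [Group G] [Finite G] (hG : 2 < Nat.card G) (χ : Cfsg.IrrCharacter G) (hχ : Nat.card {C : ConjClasses G // ∃ g ∈ C.carrier, (χ : G → ℂ) g ≠ 0} = 2) (p : ℕ) [Fact p.Prime] (N : Subgroup G) [N.Normal] (hN : ∀ g : G, g ∈ N ↔ (χ : G → ℂ) g ≠ 0) (hNp : IsPGroup p N) (hN1 : N ≠ ⊥) :
    (∀ x ∈ N, x ≠ 1 → ∃ P : Sylow p G, Subgroup.centralizer ({x} : Set G) = P) ∧
      (∀ μ : Cfsg.IrrCharacter N, (μ : N → ℂ) ≠ (fun _ => (1 : ℂ)) → ∃ P : Sylow p G, ∀ g : G, g ∈ (P : Subgroup G) ↔ ∀ n n' : N, (n' : G) = g * n * g⁻¹ → (μ : N → ℂ) n' = (μ : N → ℂ) n) := by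
  classical
  have hp : p.Prime := Fact.out
  have := Fintype.ofFinite G
  have := Fintype.ofFinite N
  obtain ⟨x, h⟩ := exists_gag hG χ.2 hχ
  obtain ⟨-, -, -, hab⟩ := h.comm hN
  have hd : p ∣ Nat.card N := hNp.card_eq_or_dvd.resolve_left (mt Subgroup.card_eq_one.1 hN1)
  have nd : ∀ n, Nat.card N = 1 + n → ¬ p ∣ n := fun n e a =>
    hp.one_lt.ne' (Nat.dvd_one.1 ((Nat.dvd_add_left a).1 (e ▸ hd)))
  constructor
  · intro y hy h1
    obtain ⟨P, hP⟩ := exists_sylow_eq (p := p) (H := Subgroup.centralizer {y})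
      (isPGroup_of_forall_not_dvd hp fun z hz => Subtype.ext (h.pgroup_of_comm hp hN hNp hy h1
        (z.2 y rfl) (by rwa [Subgroup.orderOf_coe])))
      (nd _ (by rw [← index_cent_of_isConj (h.isConj hN hy h1)]; exact h.card_N hN))
    exact ⟨P, hP.symm⟩
  · intro μ hμ
    have ovr : ∀ ν, IsIrrCharacter N ν → ν ≠ (fun _ => 1) → classInner (fun n : N => χ.1 n) ν ≠ 0 := by
      intro ν a b
      obtain ⟨ψ, c, d⟩ := a.exists_over
      by_cases e : ψ = χ.1
      · rwa [← e]
      · have : (fun n : N => ψ n) = ψ 1 • fun _ => (1 : ℂ) := funext fun n => by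
          simpa using h.iff_ker.1 ((hN n).1 n.2) ψ c e
        rw [this] at d
        exact absurd (eq_of_smul_constituent isIrr_one a d).symm b
    have orb : cjOrbit μ.1 = (irrSet N).erase fun _ => 1 := by
      ext ν
      rw [mem_cjOrbit, Finset.mem_erase, mem_irrSet]
      refine ⟨?_, fun ⟨a, b⟩ => exists_cj_of_constituents χ.2 μ.2 b (ovr _ μ.2 hμ) (ovr _ b a)⟩
      rintro ⟨g, rfl⟩
      exact ⟨fun e => hμ (cj_injective g (e.trans (cj_const g 1).symm)), μ.2.cj g⟩
    have c1 : (irrSet N).card = Nat.card N := by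
      rw [← sum_charDegree_sq, Finset.card_eq_sum_ones, sum_irrSet]
      exact Finset.sum_congr rfl fun ν _ => by
        rw [(charDegree_eq_one_iff ν.2.isChar).2 (ν.2.deg_one_of_comm fun a b =>
          Subtype.ext (hab _ a.2 _ b.2)), one_pow]
    obtain ⟨P, hP⟩ := exists_sylow_eq (p := p) (H := inertia μ.1)
      (isPGroup_of_forall_not_dvd hp fun z hz => by_contra fun e => inertia_le_of_cent μ.2 hμ
        (fun k hk y hy hc => by_contra fun h1 => e (Subtype.ext (h.pgroup_of_comm hp hN hNp hk h1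
          (mul_left_cancel (a := y) (by rw [← mul_assoc, ← hab k hk y hy, mul_assoc, ← hc, mul_assoc]))
          (by rwa [Subgroup.orderOf_coe])))) z.2)
      (nd _ (by rw [← card_cjOrbit, orb, add_comm, Finset.card_erase_add_one (mem_irrSet.2 isIrr_one), c1]))
    refine ⟨P, fun g => ?_⟩
    rw [hP, mem_inertia']
    exact ⟨fun a n n' e => by rw [← a n]; exact congrArg μ.1 (Subtype.ext e), fun a n => a n _ rfl⟩

end Cfsg.Agent.S4837
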