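import Cfsg.Statements.S4838
import Cfsg.Agent.H4.Ord4

set_option autoImplicit false
open Cfsg

namespace Cfsg.Agent.S4838

open CfsgH4 CfsgH3

/-- Let G be a finite group of order greater than 2 with an irreducible character χ nonzero on exactly two conjugacy classes, N the normal p-subgroup of elements where χ is nonzero, and P a Sylow p-subgroup of G. Then (a) for every x outside N the centralizer of x in G has the same order as the centralizer of xN in G/N; (b) the centre of P lies in N, and equals N exactly when P is normal in G; (c) N, viewed inside P, is a term of the upper central series of P. -/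
theorem result {G : Type*} [Group G] [Finite G] (hG : 2 < Nat.card G) (χ : Cfsg.IrrCharacter G) (hχ : Nat.card {C : ConjClasses G // ∃ g ∈ C.carrier, (χ : G → ℂ) g ≠ 0} = 2) (p : ℕ) [Fact p.Prime] (N : Subgroup G) [N.Normal] (hN : ∀ g : G, g ∈ N ↔ (χ : G → ℂ) g ≠ 0) (hNp : IsPGroup p N) (hN1 : N ≠ ⊥) (P : Sylow p G) :
    (∀ x : G, x ∉ N → Nat.card (Subgroup.centralizer ({x} : Set G)) = Nat.card (Subgroup.centralizer ({(x : G ⧸ N)} : Set (G ⧸ N)))) ∧
      ((Subgroup.center ↥(P : Subgroup G)).map (P : Subgroup G).subtype ≤ N ∧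
        ((Subgroup.center ↥(P : Subgroup G)).map (P : Subgroup G).subtype = N ↔ (P : Subgroup G).Normal)) ∧
      (∃ i : ℕ, Subgroup.upperCentralSeries ↥(P : Subgroup G) i = N.subgroupOf (P : Subgroup G)) := by
  have hp : p.Prime := Fact.out
  obtain ⟨x, h⟩ := exists_gag hG χ.2 hχ
  have hNP : N ≤ P := hNp.le_sylow_of_normal P
  have key : ∀ y : (P : Subgroup G), (y : G) ∉ N → ∀ B : Subgroup (P : Subgroup G),
      (∀ g, g * y * g⁻¹ * y⁻¹ ∈ B) → Nat.card (N.subgroupOf P) ≤ Nat.card B := by
    intro y hy B hB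
    refine le_trans ?_ (CfsgH2.relIndex_centralizer_le (V := ⊤) fun g _ => hB g)
    rw [Subgroup.relIndex_top_right, Nat.card_congr (Subgroup.subgroupOfEquivOfLe hNP).toEquiv]
    have h1 : Nat.card (Subgroup.centralizer ({y} : Set (P : Subgroup G))) ∣ Nat.card (G ⧸ N) := by
      refine Dvd.dvd.trans ?_ (Subgroup.card_subgroup_dvd_card (Subgroup.centralizer {((y : G) : G ⧸ N)}))
      rw [← h.card_cent hN hy, ← Subgroup.card_map_of_injective (P : Subgroup G).subtype_injective]
      refine Subgroup.card_dvd_of_le ?_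
      rintro _ ⟨z, hz, rfl⟩
      exact Subgroup.mem_centralizer_singleton_iff.2
        (congrArg Subtype.val (Subgroup.mem_centralizer_singleton_iff.1 hz))
    have h2 := Nat.mul_dvd_mul_right h1 (Nat.card N)
    rw [← Subgroup.card_eq_card_quotient_mul_card_subgroup] at h2
    obtain ⟨a, ha⟩ := (P.2.to_subgroup (Subgroup.centralizer {y})).exists_card_eq
    obtain ⟨b, hb⟩ := hNp.exists_card_eq
    have h3 := (Subgroup.centralizer ({y} : Set (P : Subgroup G))).card_mul_index
    rw [ha, hb, ← pow_add] at h2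
    have h4 := Nat.le_of_dvd Nat.card_pos (P.pow_dvd_card_of_pow_dvd_card h2)
    rw [← h3, pow_add, ← ha, ← hb] at h4
    exact Nat.le_of_mul_le_mul_left h4 Nat.card_pos
  have hZ : (Subgroup.center (P : Subgroup G)).map (P : Subgroup G).subtype ≤ N := by
    rintro _ ⟨y, hy, rfl⟩
    by_contra e
    have := key y e ⊥ fun g => by rw [Subgroup.mem_center_iff.1 hy g]; simp
    rw [Subgroup.card_bot, Nat.card_congr (Subgroup.subgroupOfEquivOfLe hNP).toEquiv] at this
    exact hN1 (N.card_le_one_iff_eq_bot.1 this)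
  have nt : Nontrivial (P : Subgroup G) :=
    (Subgroup.nontrivial_iff_ne_bot _).2 fun e => hN1 (le_bot_iff.1 (e ▸ hNP))
  refine ⟨fun y => h.card_cent hN, ⟨hZ, fun e => ?_, fun hP => le_antisymm hZ (h.le hN ?_)⟩, ?_⟩
  · have : ∀ y ∈ N, y ≠ 1 → Subgroup.centralizer {y} = P := fun y hy h1 =>
      P.is_maximal' (isPGroup_of_forall_not_dvd hp fun z hz => Subtype.ext
        (h.pgroup_of_comm hp hN hNp hy h1 (z.2 y rfl) (by rwa [Subgroup.orderOf_coe]))) fun z hz => by
        obtain ⟨w, a, rfl⟩ := e.ge hy
        exact Subgroup.mem_centralizer_singleton_iff.2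
          (congrArg Subtype.val (Subgroup.mem_center_iff.1 a ⟨z, hz⟩))
    refine ⟨fun z hz g => ?_⟩
    rw [← this (g⁻¹ * x * g) (Subgroup.Normal.conj_mem' inferInstance x (h.mem hN) g)
      (fun e => h.ne (CfsgH1.eq_one_of_inv_conj e)), Subgroup.mem_centralizer_singleton_iff] at hz
    rw [← this x (h.mem hN) h.ne, Subgroup.mem_centralizer_singleton_iff]
    calc g * z * g⁻¹ * x = g * (z * (g⁻¹ * x * g)) * g⁻¹ := by group
      _ = _ := by rw [hz]; group
  · rw [Ne, Subgroup.map_eq_bot_iff_of_injective _ (P : Subgroup G).subtype_injective]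
    exact (Subgroup.nontrivial_iff_ne_bot _).1 P.2.center_nontrivial
  · by_contra! e
    have h1 : ∀ i, Subgroup.upperCentralSeries (P : Subgroup G) i ≤ N.subgroupOf P := by
      intro i
      induction i with
      | zero => simp
      | succ i ih =>
        intro y hy
        by_contra h2
        refine e i (Subgroup.eq_of_le_of_card_ge ih (key y h2 _ fun g => ?_))
        have := inv_mem (Subgroup.mem_upperCentralSeries_succ_iff.1 hy g)
        rwa [commutatorElement_inv] at this
    have := P.2.isNilpotent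
    obtain ⟨i, hi⟩ := Group.IsNilpotent.nilpotent (P : Subgroup G)
    exact e i (le_antisymm (h1 i) (hi ▸ le_top))

end Cfsg.Agent.S4838
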