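import Cfsg.Statements.S4839
import Cfsg.Agent.H4.Ord3
import Cfsg.Agent.H1.Frob
import Cfsg.Agent.H2.CSize

set_option autoImplicit false
open Cfsg

namespace Cfsg.Agent.S4839

open CfsgH4 CfsgH3 CfsgH2 MonoidAlgebra

open Subgroup in
theorem cent_le {G : Type*} [Group G] [Finite G] {χ : G → ℂ} {x : G} (h : Gag χ x) {p : ℕ}
    [hp : Fact p.Prime] (hN : ∀ g : G, g ∈ pCore p G ↔ χ g ≠ 0) :
    centralizer ({x} : Set G) ≤ pCore p G := by
  have hNp := CfsgH1.isPGroup_pCore p G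
  obtain ⟨q, hq, hexp, hab⟩ := h.comm hN
  have hx := h.mem hN
  have fpf : ∀ y : G, ¬ p ∣ orderOf y → y ≠ 1 → ∀ k ∈ pCore p G, y * k = k * y → k = 1 :=
    fun y hy h1 k hk e => by_contra fun hk1 => h1 (h.pgroup_of_comm hp.out hN hNp hk hk1 e.symm hy)
  have hC : IsPGroup p (centralizer ({x} : Set G)) := isPGroup_of_forall_not_dvd hp.out fun z hz =>
    Subtype.ext (by_contra fun h1 => h.ne (fpf z (by rwa [orderOf_coe]) h1 x hx
      (mem_centralizer_singleton_iff.1 z.2)))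
  have hCN : centralizer (pCore p G : Set G) ≤ pCore p G :=
    CfsgH1.le_pCore (hC.to_le (centralizer_le (Set.singleton_subset_iff.2 hx)))
  obtain rfl : q = p := by
    obtain ⟨k, hk⟩ := hNp ⟨x, hx⟩
    have : Fact q.Prime := ⟨hq⟩
    have h1 := orderOf_eq_prime (hexp x hx) h.ne
    have h2 : orderOf x ∣ p ^ k := orderOf_dvd_of_pow_eq_one (congrArg Subtype.val hk)
    exact (Nat.prime_dvd_prime_iff_eq hq hp.out).1 (hq.dvd_of_dvd_pow (h1 ▸ h2))
  intro y hy
  by_contra hyN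
  by_cases h2 : q = 2
  · subst h2
    have h3 : 2 ∣ Nat.card (G ⧸ pCore 2 G) := by
      obtain ⟨k, hk⟩ := hC ⟨y, hy⟩
      have h4 : orderOf (y : G ⧸ pCore 2 G) ∣ 2 ^ k := orderOf_dvd_of_pow_eq_one (by
        rw [← QuotientGroup.mk_pow, show y ^ 2 ^ k = 1 from congrArg Subtype.val hk]; rfl)
      obtain ⟨j, -, hj⟩ := (Nat.dvd_prime_pow hq).1 h4
      refine dvd_trans ?_ (orderOf_dvd_natCard (y : G ⧸ pCore 2 G))
      rw [hj]
      refine dvd_pow_self _ fun e => hyN ?_
      rw [e, pow_zero, orderOf_eq_one_iff, QuotientGroup.eq_one_iff] at hj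
      exact hj
    obtain ⟨t', ht⟩ := exists_prime_orderOf_dvd_card' 2 h3
    have ht1 : t' ≠ 1 := fun e => by rw [e, orderOf_one] at ht; omega
    obtain ⟨u', hu1, hu2, hu3⟩ := CfsgH2.exists_inverted ht (by
      rw [CfsgH1.pCore_quotient_pCore]; exact ht1)
    obtain ⟨t, rfl⟩ := QuotientGroup.mk_surjective t'
    obtain ⟨v, rfl⟩ := QuotientGroup.mk_surjective u'
    set r := orderOf (v : G ⧸ pCore 2 G) with hr
    have hr2 : ¬ 2 ∣ r := fun e => hu2 ((Nat.prime_dvd_prime_iff_eq hq hu1).1 e).symm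
    have h4 : (v ^ 2) ^ r = 1 := by
      rw [← pow_mul, mul_comm, pow_mul]
      exact hexp _ ((QuotientGroup.eq_one_iff _).1 (by rw [QuotientGroup.mk_pow, pow_orderOf_eq_one]))
    have h5 : v ^ 2 ≠ 1 := fun e => by
      have : r ∣ 2 := orderOf_dvd_of_pow_eq_one (by rw [← QuotientGroup.mk_pow, e]; rfl)
      exact hu2 ((Nat.prime_dvd_prime_iff_eq hu1 hq).1 this)
    have h6 : ¬ 2 ∣ orderOf (v ^ 2)⁻¹ := fun e =>
      hr2 (e.trans (by rw [orderOf_inv]; exact orderOf_dvd_of_pow_eq_one h4))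
    have h7 := fpf _ h6 (inv_ne_one.2 h5)
    have h8 : t * v ^ 2 * t⁻¹ * v ^ 2 ∈ pCore 2 G := (QuotientGroup.eq_one_iff _).1 (by
      rw [← conj_pow]
      simp only [QuotientGroup.mk_mul, QuotientGroup.mk_pow, QuotientGroup.mk_inv, hu3, inv_pow,
        inv_mul_cancel])
    obtain ⟨m, hm, e⟩ := exists_conj_of_fpf h7 h8
    have e2 : (m⁻¹ * t) * v ^ 2 * (m⁻¹ * t)⁻¹ = (v ^ 2)⁻¹ := by
      rw [mul_inv_cancel_right] at e
      calc _ = m⁻¹ * (t * v ^ 2 * t⁻¹) * m := by group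
        _ = _ := by rw [e]; group
    have hs : ((m⁻¹ * t : G) : G ⧸ pCore 2 G) = t := by
      rw [QuotientGroup.mk_mul, (QuotientGroup.eq_one_iff _).2 (inv_mem hm), one_mul]
    generalize m⁻¹ * t = s at e2 hs
    generalize v ^ 2 = w at e2 h7
    have e3 : s * w⁻¹ * s⁻¹ = w := by rw [← conj_inv, e2, inv_inv]
    have h9 : s * s = 1 := h7 _ ((QuotientGroup.eq_one_iff _).1 (by
      rw [QuotientGroup.mk_mul, hs, ← sq]; exact orderOf_dvd_iff_pow_eq_one.1 ht.dvd)) (by
      calc w⁻¹ * (s * s) = s * w * s⁻¹ * (s * s) := by rw [e2]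
        _ = s * (s * w⁻¹ * s⁻¹) * s⁻¹ * (s * s) := by rw [e3]
        _ = s * s * w⁻¹ * (s * s)⁻¹ * (s * s) := by group
        _ = _ := by rw [inv_mul_cancel_right])
    have hsN : s ∉ pCore 2 G := fun e => ht1 (hs ▸ (QuotientGroup.eq_one_iff _).2 e)
    refine hsN (hCN fun n hn => ?_)
    obtain ⟨c, hc⟩ := isConj_iff.1 (h.camina hN hsN hn)
    have k1 : n * s * (n * s) = 1 := by rw [← hc, conj_mul, h9]; simp
    have k2 : n * n = 1 := by rw [← sq]; exact hexp n hn
    calc n * s = n * s * ((s * s) * (n * n)) := by rw [h9, k2, mul_one, mul_one]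
      _ = n * (s * s) * s * n * n := by group
      _ = n * s * (n * s) * s * n := by
        rw [h9]
        calc n * 1 * s * n * n = n * s * (n * n) := by group
          _ = n * s * (n * (s * s) * n) := by rw [h9, mul_one]
          _ = _ := by group
      _ = s * n := by rw [k1, one_mul]
  · have h3 : 2 ∣ Nat.card G := by
      obtain ⟨k, hk⟩ := IsPGroup.iff_card.1 hNp
      have h4 : Odd (Nat.card (pCore q G)) := hk ▸ (hq.odd_of_ne_two h2).pow
      rw [h.card_N hN] at h4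
      refine dvd_trans ?_ (index_dvd_card (centralizer ({x} : Set G)))
      obtain ⟨j, hj⟩ := h4
      exact ⟨j, by omega⟩
    have : Fact (Nat.Prime 2) := ⟨Nat.prime_two⟩
    obtain ⟨t, ht⟩ := exists_prime_orderOf_dvd_card' 2 h3
    have ht1 : t ≠ 1 := fun e => by rw [e, orderOf_one] at ht; omega
    have h7 := fpf t (fun e => h2 ((Nat.prime_dvd_prime_iff_eq hq Nat.prime_two).1 (ht ▸ e))) ht1
    have hinv := CfsgH1.inverts_of_fpf (K := pCore q G) (s := t) (le_normalizer_of_normal (mem_top t))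
      (by rw [← sq, ← ht, pow_orderOf_eq_one]) (eq_bot_iff.2 fun k hk =>
        h7 k hk.1 (mem_centralizer_singleton_iff.1 hk.2).symm)
    have hdec : ∀ g : G, ∃ m ∈ pCore q G, ∃ k : G, k * t = t * k ∧ g = m * k := fun g => by
      have h8 : g * t * g⁻¹ * t⁻¹ ∈ pCore q G := hCN fun n hn => by
        have e1 := hinv _ (inv_mem hn)
        have e2 := hinv _ ((inferInstance : (pCore q G).Normal).conj_mem' _ (inv_mem hn) g)
        rw [inv_inv] at e1
        calc n * (g * t * g⁻¹ * t⁻¹) = g * (g⁻¹ * n⁻¹ * g)⁻¹ * t * g⁻¹ * t⁻¹ := by group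
          _ = g * t * g⁻¹ * t⁻¹ * (t * n⁻¹ * t⁻¹) := by rw [← e2]; group
          _ = _ := by rw [e1]
      obtain ⟨m, hm, e⟩ := exists_conj_of_fpf h7 h8
      rw [inv_mul_cancel_right] at e
      refine ⟨m, hm, m⁻¹ * g, ?_, by group⟩
      calc m⁻¹ * g * t = m⁻¹ * (g * t * g⁻¹) * g := by group
        _ = _ := by rw [e]; group
    obtain ⟨n₀, hn₀, k₀, hk₀, rfl⟩ := hdec y
    have hk1 : k₀ ∉ pCore q G := fun e => hyN (mul_mem hn₀ e)
    have hk2 : k₀ * x = x * k₀ := by
      have e1 := mem_centralizer_singleton_iff.1 hy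
      rw [← mul_assoc, ← hab _ hn₀ _ hx, mul_assoc, mul_assoc] at e1
      exact mul_left_cancel e1
    have hmem : ∀ m ∈ pCore q G, ∀ k : G, m * k * m⁻¹ * k⁻¹ ∈ pCore q G := fun m hm k => by
      have := mul_mem hm ((inferInstance : (pCore q G).Normal).conj_mem _ (inv_mem hm) k)
      simpa only [mul_assoc] using this
    let F : pCore q G → pCore q G := fun m => ⟨m * k₀ * m⁻¹ * k₀⁻¹, hmem _ m.2 _⟩
    have hF : Function.Surjective F := fun n => by
      obtain ⟨c, hc⟩ := isConj_iff.1 (h.camina hN hk1 n.2)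
      obtain ⟨m, hm, k, hk, rfl⟩ := hdec c
      have e1 : k * k₀ * k⁻¹ * k₀⁻¹ = 1 := h7 _ (by
        have : k * k₀ * k⁻¹ * k₀⁻¹ = m⁻¹ * n * (k₀ * m * k₀⁻¹) := by
          calc _ = m⁻¹ * (m * k * k₀ * (m * k)⁻¹) * m * k₀⁻¹ := by group
            _ = _ := by rw [hc]; group
        rw [this]
        exact mul_mem (mul_mem (inv_mem hm) n.2)
          ((inferInstance : (pCore q G).Normal).conj_mem _ hm _)) (by
        have c1 : Commute k t := hk
        have c2 : Commute k₀ t := hk₀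
        exact (((c1.mul_left c2).mul_left c1.inv_left).mul_left c2.inv_left).symm)
      refine ⟨⟨m, hm⟩, Subtype.ext ?_⟩
      change m * k₀ * m⁻¹ * k₀⁻¹ = n
      calc _ = m * (k * k₀ * k⁻¹ * k₀⁻¹ * k₀) * m⁻¹ * k₀⁻¹ := by rw [e1, one_mul]
        _ = m * k * k₀ * (m * k)⁻¹ * k₀⁻¹ := by group
        _ = _ := by rw [hc, mul_inv_cancel_right]
    have := Finite.injective_iff_surjective.2 hF (a₁ := ⟨x, hx⟩) (a₂ := 1) (Subtype.ext (by
      change x * k₀ * x⁻¹ * k₀⁻¹ = 1 * k₀ * 1⁻¹ * k₀⁻¹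
      rw [← hk2]; group))
    exact h.ne (congrArg Subtype.val this)

/-- Let G be a finite group of order greater than 2 with an irreducible character χ nonzero on exactly two conjugacy classes, and let N be the normal p-subgroup of elements where χ is nonzero. Then N is the whole p-core O_p(G) if and only if G is a doubly transitive Frobenius group with kernel N: G has a Frobenius complement H whose Frobenius kernel is N and whose order is one less than that of N. -/
theorem result {G : Type*} [Group G] [Finite G] (hG : 2 < Nat.card G) (χ : Cfsg.IrrCharacter G) (hχ : Nat.card {C : ConjClasses G // ∃ g ∈ C.carrier, (χ : G → ℂ) g ≠ 0} = 2) (p : ℕ) [Fact p.Prime] (N : Subgroup G) [N.Normal] (hN : ∀ g : G, g ∈ N ↔ (χ : G → ℂ) g ≠ 0) (hNp : IsPGroup p N) (hN1 : N ≠ ⊥) :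
    N = Cfsg.pCore p G ↔ ∃ H : Subgroup G, Cfsg.IsFrobeniusComplement H ∧ Cfsg.frobeniusKernel H = (N : Set G) ∧ Nat.card H + 1 = Nat.card N := by
  obtain ⟨x, h⟩ := exists_gag hG χ.2 hχ
  have hp : p.Prime := Fact.out
  have hpN : p ∣ Nat.card N := by
    obtain ⟨k, hk⟩ := IsPGroup.iff_card.1 hNp
    rw [hk]
    exact dvd_pow_self _ fun e => hN1 (Subgroup.card_eq_one.1 (by rw [hk, e, pow_zero]))
  constructor
  · rintro rfl
    have h1 : Subgroup.centralizer ({x} : Set G) = pCore p G := le_antisymm (cent_le h hN) fun n hn => by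
      obtain ⟨q, -, -, hab⟩ := h.comm hN
      exact Subgroup.mem_centralizer_singleton_iff.2 (hab _ hn _ (h.mem hN))
    have h2 := h.card_N hN
    rw [h1] at h2
    obtain ⟨H, hc⟩ := Subgroup.exists_right_complement'_of_coprime (N := pCore p G)
      (by rw [h2, add_comm]; exact (Nat.coprime_self_add_left.2 (Nat.coprime_one_left _)))
    have h3 := hc.symm.index_eq_card
    have h4 : IsFrobeniusComplement H := CfsgH1.frob_of_fpf hc hN1 (fun e => by
      have := hc.card_mul_card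
      rw [h2, h3, e, Subgroup.card_bot] at this
      omega) fun y hy h1 => eq_bot_iff.2 fun k hk => by_contra fun hk1 => h1
        (h.pgroup_of_comm hp hN hNp hk.1 hk1 (Subgroup.mem_centralizer_singleton_iff.1 hk.2) fun e => by
          have k1 : p ∣ Nat.card H := e.trans (H.orderOf_dvd_natCard hy)
          rw [h2, h3] at hpN
          exact hp.one_lt.ne' (Nat.dvd_one.1 ((Nat.dvd_add_left k1).1 hpN)))
    exact ⟨H, h4, CfsgH1.frobKernel_eq hc h4, by omega⟩
  · rintro ⟨H, hH, hk, hcard⟩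
    obtain ⟨N', h1, -, hc⟩ := CfsgH1.exists_frobKernel hH
    obtain rfl : N' = N := SetLike.coe_injective (h1.trans hk)
    obtain ⟨P, hP⟩ := exists_sylow_eq hNp (fun e => by
      rw [hc.symm.index_eq_card] at e
      rw [← hcard] at hpN
      exact hp.one_lt.ne' (Nat.dvd_one.1 ((Nat.dvd_add_right e).1 hpN)))
    exact le_antisymm (CfsgH1.le_pCore hNp) (hP ▸ CfsgH1.pCore_le_sylow P)

end Cfsg.Agent.S4839
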