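import Cfsg.Statements.S4845
import Cfsg.Agent.H4.Misc5

set_option autoImplicit false
open Cfsg

namespace Cfsg.Agent.S4845

open CfsgH4 CfsgH3 CfsgH2 MonoidAlgebra

/-- Let p be a prime and P a finite non-commutative p-group. Then every two irreducible characters of P of the same degree greater than 1 are Galois conjugate (one is obtained from the other by composing with g ↦ g^k for some k prime to the order of P) if and only if the centre of P is cyclic and the derived subgroup of P has order p. -/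
theorem result {P : Type*} [Group P] [Finite P] (p : ℕ) [Fact p.Prime] (hP : IsPGroup p P) (hna : ¬ IsMulCommutative P) :
    (∀ χ ψ : Cfsg.IrrCharacter P, Cfsg.charDegree (χ : P → ℂ) ≠ 1 → Cfsg.charDegree (χ : P → ℂ) = Cfsg.charDegree (ψ : P → ℂ) → ∃ k : ℕ, Nat.Coprime k (Nat.card P) ∧ ∀ g : P, (ψ : P → ℂ) g = (χ : P → ℂ) (g ^ k)) ↔
      (IsCyclic (Subgroup.center P) ∧ Nat.card (commutator P) = p) := by
  have hp : p.Prime := Fact.out
  have hne : commutator P ≠ ⊥ := by
    intro e
    refine hna ⟨⟨fun a b => ?_⟩⟩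
    have : a * b * a⁻¹ * b⁻¹ ∈ commutator P :=
      Subgroup.commutator_mem_commutator (Subgroup.mem_top _) (Subgroup.mem_top _)
    rw [e, Subgroup.mem_bot] at this
    exact commutatorElement_eq_one_iff_mul_comm.1 this
  obtain ⟨n, hn⟩ := IsPGroup.iff_card.1 hP
  have hn0 : n ≠ 0 := by
    rintro rfl
    have : Subsingleton P := (Nat.card_eq_one_iff_unique.1 hn).1
    exact hna ⟨⟨fun a b => Subsingleton.elim _ _⟩⟩
  constructor
  · intro h
    have hs : GalSame p P := by
      intro χ ψ hχ hψ h1 he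
      obtain ⟨k, hk, e⟩ := h ⟨χ, hχ⟩ ⟨ψ, hψ⟩ (fun e => h1 ((charDegree_eq_one_iff hχ.isChar).1 e))
        (by simp only [charDegree, he])
      exact ⟨k, hk.coprime_dvd_right (hn ▸ dvd_pow_self p hn0), e⟩
    have hc := GalSame.card_aux _ P le_rfl hP hs hne
    exact ⟨hs.cyclic hP hc, hc⟩
  · rintro ⟨h1, h2⟩ χ ψ hd he
    obtain ⟨k, hk, e⟩ := galSame_of_cyclic hP h1 h2 χ.1 ψ.1 χ.2 ψ.2
      (fun e => hd ((charDegree_eq_one_iff χ.2.isChar).2 e))
      (by rw [← coe_charDegree χ.2.isChar, ← coe_charDegree ψ.2.isChar, he])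
    exact ⟨k, hn ▸ hk.pow_right n, e⟩

end Cfsg.Agent.S4845
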