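import Cfsg.Statements.S4856
import Cfsg.Agent.H4.Ord4

set_option autoImplicit false
open Cfsg

namespace Cfsg.Agent.S4856

open CfsgH4 CfsgH3

/-- For an element z of a finite group G, the number of pairs (x, y) of elements with x y x⁻¹ y⁻¹ = z equals the order of G times the sum over the irreducible characters χ of χ(z)/χ(1). -/
theorem result {G : Type*} [Group G] [Finite G] (z : G) : (Nat.card {xy : G × G // xy.1 * xy.2 * xy.1⁻¹ * xy.2⁻¹ = z} : ℂ) = (Nat.card G : ℂ) * ∑ᶠ χ : Cfsg.IrrCharacter G, (χ : G → ℂ) z / (χ : G → ℂ) 1 := by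
  have := Fintype.ofFinite G
  have h := card_fiber_eq_sum (fun x : G × G => x.1 * x.2 * x.1⁻¹ * x.2⁻¹) (fun g h =>
    (Nat.card_congr (((MulAut.conj h).toEquiv.prodCongr (MulAut.conj h).toEquiv).subtypeEquiv fun x => by
      rw [← (MulAut.conj h).apply_eq_iff_eq]; simp [mul_assoc])).symm) z
  have h2 := congrArg (starRingEnd ℂ) h
  rw [map_natCast] at h2
  rw [h2, finsum_irr, map_sum, Finset.mul_sum]
  refine Finset.sum_congr rfl fun χ _ => ?_
  have a := sum_comm_mul χ.2 1
  have h0 := χ.2.one_ne_zero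
  have := card_ne_zero_complex G
  simp only [mul_one] at a
  rw [eq_div_of_mul_eq (pow_ne_zero 2 h0) ((mul_comm _ _).trans a)]
  simp only [map_mul, map_div₀, map_inv₀, map_pow, map_natCast, χ.2.isChar.conj_one, Complex.conj_conj]
  field_simp

end Cfsg.Agent.S4856
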