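import Cfsg.Statements.S4870
import Cfsg.Agent.H4.Ord4

set_option autoImplicit false
open Cfsg

namespace Cfsg.Agent.S4870

open CfsgH4 CfsgH3

/-- Let G be a finite group with a non-abelian minimal normal subgroup N, and let φ be an irreducible complex character of N with stabilizer I in G (the elements g with φ(g n g⁻¹) = φ(n) for all n ∈ N) such that φ extends to an irreducible character of I. Put d = φ(1)·[G : I]. Then the number of linear characters of G is at most [G : I] times the number of irreducible characters of G of degree d. -/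
theorem result {G : Type*} [Group G] [Finite G] (N : Subgroup G) (hN : N.Normal) (hN1 : N ≠ ⊥) (hmin : ∀ M : Subgroup G, M.Normal → M ≤ N → M = ⊥ ∨ M = N) (hna : ¬ IsMulCommutative ↥N) (φ : Cfsg.IrrCharacter ↥N) (I : Subgroup G) (hI : ∀ g : G, g ∈ I ↔ ∀ n n' : ↥N, (n' : G) = g * (n : G) * g⁻¹ → (φ : ↥N → ℂ) n' = (φ : ↥N → ℂ) n) (hNI : N ≤ I) (hext : ∃ ψ : Cfsg.IrrCharacter ↥I, ∀ n : ↥N, (ψ : ↥I → ℂ) (Subgroup.inclusion hNI n) = (φ : ↥N → ℂ) n) : Nat.card {χ : Cfsg.IrrCharacter G // Cfsg.charDegree (χ : G → ℂ) = 1} ≤ I.index * Nat.card {χ : Cfsg.IrrCharacter G // Cfsg.charDegree (χ : G → ℂ) = Cfsg.charDegree (φ : ↥N → ℂ) * I.index} := by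
  classical
  have := Fintype.ofFinite G
  have := Fintype.ofFinite N
  have := Fintype.ofFinite I
  have hT : I = inertia φ.1 := eq_inertia fun g => (hI g).trans
    ⟨fun a n => a n _ rfl, fun a n n' e => by rw [← a n]; exact congrArg φ.1 (Subtype.ext e)⟩
  obtain ⟨ψ, hψ⟩ := hext
  have hc : N ≤ commutator G := by
    rcases hmin ⁅N, N⁆ inferInstance (Subgroup.commutator_le_left _ _) with e | e
    · exact absurd (CfsgH2.isMulCommutative_iff_le_centralizer.2
        (Subgroup.commutator_eq_bot_iff_le_centralizer.1 e)) hna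
    · exact e ▸ Subgroup.commutator_mono le_top le_top
  let r : (G →* ℂˣ) →* (I →* ℂˣ) := MonoidHom.compHom' I.subtype
  have h1 : ∀ ν : r.range, resLe hNI (fun g => ψ.1 g * ν.1 g) = φ.1 := by
    rintro ⟨_, μ, rfl⟩
    funext n
    change ψ.1 (Subgroup.inclusion hNI n) * μ n = _
    rw [hψ, lin_commutator μ (hc n.2)]; simp
  have h2 : ∀ ν : r.range, classInner (resLe hNI (fun g => ψ.1 g * ν.1 g)) φ.1 ≠ 0 := fun ν => by
    rw [h1, φ.2.inner_self]; exact one_ne_zero
  have h3 : Nat.card r.range ≤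
      Nat.card {χ : IrrCharacter G // charDegree χ.1 = charDegree φ.1 * I.index} := by
    refine Nat.card_le_card_of_injective (fun ν => ⟨⟨_, (clifford_corr_irr φ.2 hT hNI
      (ψ.2.mul_linear ν.1) (h2 ν)).1⟩, charDegree_eq ?_⟩) fun a b e => ?_
    · change indFun _ _ 1 = _
      rw [indFun_one, map_one, Nat.cast_mul, coe_charDegree φ.2.isChar, ← hψ 1, map_one]; simp [mul_comm]
    · have h4 := clifford_corr_inj φ.2 hT hNI (ψ.2.mul_linear a.1) (h2 a) (ψ.2.mul_linear b.1) (h2 b)
        (congrArg (fun x => x.1.1) e)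
      have hψN : IsIrrCharacter (N.subgroupOf I) fun n => ψ.1 n := (isIrr_resLe_iff hNI _).1 (by
        rw [show resLe hNI ψ.1 = φ.1 from funext hψ]; exact φ.2)
      have h5 : ∀ ν : r.range, N.subgroupOf I ≤ ν.1.ker := by
        rintro ⟨_, μ, rfl⟩ n hn; exact lin_commutator μ (hc hn)
      have h6 := (gallagher ψ.2.isChar hψN).2
        (a₁ := ⟨_, isIrr_unitsHom (QuotientGroup.lift _ a.1 (h5 a))⟩)
        (a₂ := ⟨_, isIrr_unitsHom (QuotientGroup.lift _ b.1 (h5 b))⟩)
        (funext fun g => (mul_comm _ _).trans ((congrFun h4 g).trans (mul_comm _ _)))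
      exact Subtype.ext (MonoidHom.ext fun g => Units.ext (congrFun (congrArg Subtype.val h6) g))
  have h4 : Nat.card r.ker ≤ I.index := le_trans (Nat.card_congr (Equiv.subtypeEquivRight fun μ =>
    ⟨fun a x hx => DFunLike.congr_fun a ⟨x, hx⟩, fun a => MonoidHom.ext fun x => a x x.2⟩)).le
    (card_lin_trivial_le I)
  rw [Nat.card_congr (Equiv.subtypeEquivRight fun χ : IrrCharacter G => charDegree_eq_one_iff χ.2.isChar),
    card_lin_irr, ← card_hom_units, ← r.ker.card_mul_index, Subgroup.index_ker]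
  exact Nat.mul_le_mul h4 h3

end Cfsg.Agent.S4870
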