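import Cfsg.Statements.S4873
import Cfsg.Agent.H4.Ord4

set_option autoImplicit false
open Cfsg

namespace Cfsg.Agent.S4873

open CfsgH4 CfsgH3

/-- Let N be a normal subgroup of odd index in the finite group G. Then every irreducible complex character of N with Frobenius–Schur indicator +1 lies under exactly one irreducible character of G with Frobenius–Schur indicator +1. -/
theorem result {G : Type*} [Group G] [Finite G] (N : Subgroup G) [N.Normal] (hodd : Odd N.index) (φ : Cfsg.IrrCharacter ↥N) (hφ : (Nat.card ↥N : ℂ)⁻¹ * ∑ᶠ g : ↥N, (φ : ↥N → ℂ) (g * g) = 1) : ∃! χ : Cfsg.IrrCharacter G, (Nat.card G : ℂ)⁻¹ * ∑ᶠ g : G, (χ : G → ℂ) (g * g) = 1 ∧ (∑ᶠ n : ↥N, (χ : G → ℂ) n * (starRingEnd ℂ) ((φ : ↥N → ℂ) n)) ≠ 0 := by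
  classical
  have := Fintype.ofFinite G
  have := Fintype.ofFinite N
  simp only [finsum_eq_sum_of_fintype] at hφ ⊢
  have real : ∀ {H : Type _} [Group H] [Fintype H] {ψ : H → ℂ}, IsIrrCharacter H ψ →
      (Nat.card H : ℂ)⁻¹ * ∑ g, ψ (g * g) = 1 → ∀ g, (starRingEnd ℂ) (ψ g) = ψ g := fun a b => by
    rcases fs_cases_irr a with ⟨-, c⟩ | ⟨c, -⟩
    · rw [c] at b; exact absurd b zero_ne_one
    · exact congrFun c
  have ip : ∀ χ : G → ℂ, ∑ n : N, χ n * (starRingEnd ℂ) (φ.1 n) ≠ 0 ↔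
      classInner (fun n : N => χ n) φ.1 ≠ 0 := fun χ => by
    rw [classInner, mul_ne_zero_iff_left (inv_ne_zero (card_ne_zero_complex N))]
  obtain ⟨χ, a, b, c, d⟩ := existsUnique_gal hodd (starRingEnd ℂ)
    (conj_eq_inv_of_pow Subgroup.index_ne_zero_of_finite) φ.2 (real φ.2 hφ)
  have b' := b.trans_ne one_ne_zero
  refine ⟨⟨χ, a⟩, ⟨?_, (ip _).2 b'⟩, fun ψ h => Subtype.ext (d _ ψ.2 ((ip _).1 h.2) (real ψ.2 h.1))⟩
  rcases fs_cases_irr a with ⟨x, -⟩ | ⟨-, x | x⟩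
  · exact absurd (funext c) x
  · exact x
  exfalso
  have alt : ∀ {H : Type _} [Group H] [Fintype H] (ψ : H → ℂ), (∀ g, (starRingEnd ℂ) (ψ g) = ψ g) →
      classInner (fun g => (ψ g ^ 2 - ψ (g ^ 2)) / 2) (fun _ => 1) =
        (classInner ψ ψ - (Nat.card H : ℂ)⁻¹ * ∑ g, ψ (g * g)) / 2 := fun ψ h => by
    simp only [classInner, h, map_one, mul_one, sq, ← Finset.sum_div, Finset.sum_sub_distrib]; ring
  have h1 := ip_comp_ne_zero_of_constituent N.subtype (isChar_alt2 a.isChar) isIrr_one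
    (by rw [alt χ c, a.inner_self, x]; norm_num) isChar_one (by rw [isIrr_one.inner_self]; exact one_ne_zero)
  refine h1 ((alt (fun n : N => χ n) fun n => c n).trans ?_)
  have h2 := clifford a φ.2 b'
  rw [b, one_smul] at h2
  have h3 : classInner (fun n : N => χ n) (fun n : N => χ n) = ∑ ψ ∈ cjOrbit φ.1, 1 := by
    nth_rewrite 2 [h2]
    rw [inner_sum_right]
    refine Finset.sum_congr rfl fun ψ hψ => ?_
    obtain ⟨g, rfl⟩ := mem_cjOrbit.1 hψ
    rw [ip_res_cj a.classFun, b]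
  have h4 : (Nat.card N : ℂ)⁻¹ * ∑ n : N, χ ((n * n : N) : G) = ∑ ψ ∈ cjOrbit φ.1, 1 := by
    rw [Finset.sum_congr rfl fun n _ => congrFun h2 (n * n)]
    simp only [Finset.sum_apply]
    rw [Finset.sum_comm, Finset.mul_sum]
    refine Finset.sum_congr rfl fun ψ hψ => ?_
    obtain ⟨g, rfl⟩ := mem_cjOrbit.1 hψ
    rw [← hφ, cj_eq_comp, ← Equiv.sum_comp (MulAut.conjNormal (H := N) g).toEquiv fun n => φ.1 (n * n)]
    simp
  rw [h3, h4, sub_self, zero_div]

end Cfsg.Agent.S4873
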