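import Cfsg.Statements.S4888
import Cfsg.Agent.H4.Prin
import Cfsg.Agent.H4.Rob2

set_option autoImplicit false
open Cfsg

namespace Cfsg.Agent.S4888

open CfsgH4 CfsgH3 CfsgH2 MonoidAlgebra

/-- Let G be a finite group, p a prime and M a maximal ideal of the algebraic integers containing p. Then all height-zero irreducible characters of the principal p-block of G (equivalently, all its characters of degree prime to p) have the same degree if and only if G has a normal p-complement. -/
theorem result {G : Type*} [Group G] [Finite G] (p : ℕ) [Fact p.Prime] (M : Ideal Cfsg.AlgInt) (hM : Cfsg.IsPModular p M) : (∃ d : ℕ, ∀ χ : Cfsg.IrrCharacter G, χ ∈ (Cfsg.principalBlock M G) → Cfsg.blockHeight p (Cfsg.principalBlock M G) (χ : G → ℂ) = 0 → Cfsg.charDegree (χ : G → ℂ) = d) ↔ Cfsg.HasNormalPComplement p G := by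
  classical
  have := hM.2.1
  have := charP_of_isPModular hM
  have hp : p.Prime := Fact.out
  have h11 : charDegree (fun _ : G => (1 : ℂ)) = 1 := charDegree_eq (by simp)
  constructor
  · rintro ⟨d, h⟩
    obtain rfl : d = 1 := by rw [← h _ one_mem_principal height_one]; exact h11
    obtain ⟨K, hK, ⟨k, hk⟩, hmin⟩ := exists_Op_residual (G := G) p
    have := Fintype.ofFinite K
    suffices hpK : ¬ p ∣ Nat.card K by
      rw [hasNPC_iff_reg]
      intro g hg
      rw [← kerSub_principal (M := M), mem_kerSub]
      intro χ hχ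
      exact ker_of_mem_principal hχ hpK g (mem_of_not_dvd_orderOf hk hg)
    intro hpK
    have hlin : ∀ δ : K →* ℂˣ, (⟨fun n => δ n, isIrr_unitsHom δ⟩ : IrrCharacter K) ∈ principalBlock M K ↔
        ∀ g : K, ¬ p ∣ (Subgroup.centralizer ({g} : Set K)).index → red M (δ g) = 1 := fun δ => by
      refine ⟨fun a g hg => by simpa using red_div_of_principal a hg, fun a => ?_⟩
      rw [mem_principal_iff_cent]
      intro g
      simp only [centralChar, map_one, Units.val_one, div_one]
      rw [red_mul (natCast_mem _ _) (char_mem_Loc (isIrr_unitsHom δ).isChar g), red_natCast]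
      by_cases e : p ∣ (Subgroup.centralizer ({g} : Set K)).index
      · rw [(CharP.cast_eq_zero_iff _ p _).2 e, zero_mul]
      · rw [a g e, mul_one]
    let S : Subgroup (K →* ℂˣ) :=
      { carrier := {δ | LinInv δ ∧
          ∀ g : K, ¬ p ∣ (Subgroup.centralizer ({g} : Set K)).index → red M (δ g) = 1}
        mul_mem' := fun {a b} ha hb => ⟨fun g n => by simp only [MonoidHom.mul_apply, ha.1 g n, hb.1 g n],
          fun g hg => by
            rw [MonoidHom.mul_apply, Units.val_mul, red_mul (char_mem_Loc (isIrr_unitsHom a).isChar g)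
              (char_mem_Loc (isIrr_unitsHom b).isChar g), ha.2 g hg, hb.2 g hg, one_mul]⟩
        one_mem' := ⟨fun g n => rfl, fun g _ => by simp⟩
        inv_mem' := fun {a} ha => ⟨fun g n => by simp only [MonoidHom.inv_apply, ha.1 g n],
          fun g hg => by
            rw [MonoidHom.inv_apply, Units.val_inv_eq_inv_val,
              red_inv (by rw [ha.2 g hg]; exact one_ne_zero), ha.2 g hg, inv_one]⟩ }
    have hS : ¬ p ∣ Nat.card S := fun h => by
      obtain ⟨δ, hδ⟩ := exists_prime_orderOf_dvd_card' p h
      exact not_dvd_orderOf_of_residual hp hmin δ.2.1 (by rw [Subgroup.orderOf_coe, hδ])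
    let P : IrrCharacter K → Prop := fun θ => θ ∈ principalBlock M K ∧ θ.1 1 = 1 ∧
      ∀ g : G, CfsgH3.cj g θ.1 = θ.1
    have hc : Nat.card S = (Finset.univ.filter P).card := by
      rw [← Fintype.card_subtype, ← Nat.card_eq_fintype_card]
      refine Nat.card_congr (Equiv.ofBijective (fun δ => ⟨⟨fun n => δ.1 n, isIrr_unitsHom _⟩,
        (hlin _).2 δ.2.2, by simp,
        fun g => funext fun n => congrArg Units.val (δ.2.1 g n)⟩) ⟨fun a b e => ?_, ?_⟩)
      · exact Subtype.ext (coeLin_injective (congrArg (fun x => x.1.1) e))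
      · rintro ⟨⟨θ, hθ⟩, h0, h1, h2⟩
        obtain ⟨δ, rfl⟩ := hθ.isChar.exists_hom_of_deg_one h1
        exact ⟨⟨δ, fun g n => Units.ext (congrFun (h2 g) n), (hlin _).1 h0⟩, rfl⟩
    have hdeg : ∀ (g : G) (θ : IrrCharacter K),
        charDegree (CfsgH3.cj g θ.1) = charDegree θ.1 := fun g θ => by
      unfold charDegree; rw [cj_apply_one]
    obtain ⟨θ, h1, h2⟩ := exists_inv_irr_of_not_dvd hp hk
      (fun θ => (if θ ∈ principalBlock M K then (charDegree θ.1 : ℤ) ^ 2 else 0) - if P θ then 1 else 0)
      (fun g θ => by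
        rw [hdeg]
        congr 1
        · exact if_congr (cj_mem_principal g) rfl rfl
        refine if_congr ⟨fun ⟨c, a, b⟩ => ⟨(cj_mem_principal g).1 c, (cj_apply_one g θ.1).symm.trans a, ?_⟩,
          fun ⟨c, a, b⟩ => ⟨(cj_mem_principal g).2 c, by simpa only [b g] using ⟨a, b⟩⟩⟩ rfl rfl
        have : CfsgH3.cj g⁻¹ (CfsgH3.cj g θ.1) = CfsgH3.cj g θ.1 := b g⁻¹
        rw [CfsgH3.cj_inv_cj] at this
        intro x
        rw [this]
        exact b x) (by
        rw [Finset.sum_sub_distrib, Finset.sum_boole, ← hc]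
        have a := factorization_sum_deg_sq (p := p) (isPBlock_principal (M := M) (G := K))
        have b : p ∣ ∑ ψ ∈ irrF (principalBlock M K), charDegree ψ.1 ^ 2 :=
          Nat.dvd_of_factorization_pos (by
            have := hp.factorization_pos_of_dvd Nat.card_pos.ne' hpK
            omega)
        have c : ∑ θ : IrrCharacter K, (if θ ∈ principalBlock M K then (charDegree θ.1 : ℤ) ^ 2 else 0) =
            ((∑ ψ ∈ irrF (principalBlock M K), charDegree ψ.1 ^ 2 : ℕ) : ℤ) := by
          rw [← Finset.sum_filter]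
          push_cast
          exact Finset.sum_congr (by ext; simp) fun _ _ => rfl
        rw [c]
        intro h
        exact hS (by exact_mod_cast (dvd_sub_right (Int.natCast_dvd_natCast.mpr b)).mp h))
    apply h2
    by_cases h0 : θ ∈ principalBlock M K
    swap
    · rw [if_neg h0, if_neg fun a => h0 a.1]; simp
    rw [if_pos h0]
    have hdθ := coe_charDegree θ.2.isChar
    by_cases hd : p ∣ charDegree θ.1
    · rw [if_neg, sub_zero]
      · exact dvd_pow (Int.natCast_dvd_natCast.mpr hd) two_ne_zero
      · rintro ⟨-, a, -⟩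
        rw [← hdθ] at a
        rw [Nat.cast_eq_one.mp a] at hd
        exact hp.one_lt.ne' (Nat.dvd_one.mp hd)
    · obtain ⟨χ, a, b⟩ := ext_of_residual hp hk hmin θ.2 h1 hdθ.symm hd
      have c : charDegree χ = charDegree θ.1 := by unfold charDegree; rw [← b 1]; rfl
      have e : (⟨χ, a⟩ : IrrCharacter G) ∈ principalBlock M G := by
        have f := (cover_iff (M := M) (isPBlock_blockOf ⟨χ, a⟩) isPBlock_principal).1
          ⟨_, mem_blockOf_self _, θ, h0, by
            change classInner (fun n : K => χ n) _ ≠ 0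
            rw [funext b, θ.2.inner_self]; exact one_ne_zero⟩
        rw [← bId_injective (isPBlock_blockOf ⟨χ, a⟩) isPBlock_principal
          (cover_unique_of_pquot le_top le_normalizer_top (mem_of_pregular_of_index hk)
          (isPrim_bIdS isPBlock_principal) (isPrim_bId (isPBlock_blockOf ⟨χ, a⟩))
          (isPrim_bId isPBlock_principal) f (principal_cover K))]
        exact mem_blockOf_self _
      have := h _ e (height_principal_eq_zero_iff.2 (by rwa [c]))
      rw [c] at this
      rw [if_pos ⟨h0, by rw [← hdθ, this, Nat.cast_one], h1⟩, this]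
      simp
  · intro h
    obtain ⟨K, k, hK, h1, h2⟩ := exists_npc h
    refine ⟨1, fun χ hχ h0 => ?_⟩
    have a := χ.2.deg_dvd_index_of_le_cent (coe_charDegree χ.2.isChar).symm K fun n hn => by
      rw [χ.2.isChar.mem_cent, ker_of_mem_principal hχ h1 n hn]
    rw [h2, Nat.dvd_prime_pow hp] at a
    obtain ⟨j, -, hj⟩ := a
    rw [height_principal_eq_zero_iff, hj] at h0
    rcases j with _ | j
    · simpa using hj
    · exact absurd (dvd_pow_self p j.succ_ne_zero) h0

end Cfsg.Agent.S4888
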