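import Cfsg.Statements.S4889
import Cfsg.Agent.H4.Proj3

set_option autoImplicit false
open Cfsg

namespace Cfsg.Agent.S4889

open CfsgH4 CfsgH3 CfsgH2 MonoidAlgebra

/-- Let G be a finite group, p a prime, M a maximal ideal of the algebraic integers containing p, and B a p-block of G that has an abelian defect group and in which every irreducible character has height zero. Then all irreducible characters of B have the same degree if and only if B is a nilpotent block. -/
theorem result {G : Type*} [Group G] [Finite G] (p : ℕ) [Fact p.Prime] (M : Ideal Cfsg.AlgInt) (hM : Cfsg.IsPModular p M) (B : Set (Cfsg.IrrCharacter G)) (hB : Cfsg.IsPBlock M B) (D : Subgroup G) (hD : Cfsg.IsDefectGroup p M B D) (hDab : IsMulCommutative ↥D) (h0 : ∀ χ : Cfsg.IrrCharacter G, χ ∈ B → Cfsg.blockHeight p B (χ : G → ℂ) = 0) : (∃ d : ℕ, ∀ χ : Cfsg.IrrCharacter G, χ ∈ B → Cfsg.charDegree (χ : G → ℂ) = d) ↔ Cfsg.IsNilpotentBlock p M B := by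
  have := hM.2.1
  have := charP_of_isPModular hM
  obtain ⟨e, hm⟩ := ((isDefectGroup_iff hB).1 hD).exists_mp (isPrim_bId hB)
  rw [isNilpotentBlock_iff hB]
  refine ⟨fun ⟨n, hn⟩ => nil_of_equal_deg hm hB (fun x hx y hy =>
    congrArg Subtype.val (mul_comm' (⟨y, hy⟩ : D) ⟨x, hx⟩)) hn, fun h => ?_⟩
  obtain ⟨n, hn⟩ := h.exists_deg hm hB
  exact ⟨n, fun χ hχ => hn χ hχ (Or.inl (h0 χ hχ))⟩

end Cfsg.Agent.S4889
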