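import Cfsg.Statements.S4890
import Cfsg.Agent.H4.Proj3
import Cfsg.Agent.H4.Dom
import Cfsg.Agent.S0972

set_option autoImplicit false
open Cfsg

namespace Cfsg.Agent.S4890

open CfsgH4 CfsgH3 CfsgH2 MonoidAlgebra

open Subgroup in
theorem nil_of_normal {F : Type*} [Field F] [IsAlgClosed F] {G : Type*} [Group G] [Finite G]
    {p : ℕ} [Fact p.Prime] [CharP F p] {E e : F[G]} {D : Subgroup G} [D.Normal]
    (hm : MP p ⊤ E D e) (h : ∀ t ∈ stabA e, ¬ p ∣ orderOf t → t ∈ centralizer (D : Set G)) :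
    Nil p ⊤ E := by
  refine hm.nil_of_fusion fun Q f hs x _ hx hxf hx' => ?_
  have he := hm.bp.prim
  rw [Cn_top] at he
  have hC : ∀ H : Subgroup G, H ≤ normalizer (centralizer (D : Set G) : Set G) := fun H =>
    le_top.trans (normalizer_eq_top _).ge
  have hle : centralizer (D : Set G) ≤ centralizer (Q : Set G) := centralizer_le hs.le
  have h1 := he.isPrim_Tr le_rfl hle (hC _) (hC _)
  set O := Tr (stabA e) (centralizer (Q : Set G)) e
  have h2 : f * O = f := by
    have := (hs.mul_Br_iff (mem_Supp_top O) (by rw [Cn_top]; exact h1.mem.2)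
      (mem_Fix_of_Supp_centralizer h1.mem.1) h1.idem).1 (by
        rw [tr_of_mem_Supp h1.mem.1]; exact he.mul_Tr_self le_rfl (hC _) (hC _))
    rwa [tr_of_mem_Supp (Supp_mono hle h1.mem.1)] at this
  have h3 : f * cjA F x O = f := by
    have := congrArg (cjA F x) h2
    rwa [map_mul, mem_stabA.1 hxf] at this
  have h4 : O = cjA F x O := h1.eq_of_mul_ne_zero (isComm_Zc hle)
    (h1.cjA_of_normalizer (hC ⊤ trivial) (normalizer_le_normalizer_centralizer _ hx)) fun e =>
      hs.left.ne_zero (by rw [← h3, ← h2, mul_assoc, e, mul_zero])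
  have he' := he.cjA_of_normalizer (hC ⊤ (mem_top x)) (hC ⊤ trivial)
  obtain ⟨g, hg, h5⟩ := he.exists_cjA_eq_of_mul_Tr le_rfl (hC (centralizer (Q : Set G))) (hC _) he'
    (by
      change cjA F x e * O ≠ 0
      rw [h4, ← map_mul, he.mul_Tr_self le_rfl (hC _) (hC _)]
      exact he'.ne_zero)
  have h6 : g⁻¹ * x ∈ stabA e := by rw [mem_stabA, ← cjA_cjA, ← h5, cjA_inv_cjA]
  obtain ⟨s, hs'⟩ := exists_isPPart p (g⁻¹ * x)
  have h7 := h _ (mul_mem (inv_mem (isPPart_mem hs' h6)) h6) (reg_of_isPPart hs')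
  refine mem_centralizer_of_acts_like hx' (isPPart_order hs') (fun u hu => ?_) hx
  have k1 := h7 u (hs.le hu)
  have k2 := hg _ ((mem_normalizer_iff.1 hx u).1 hu)
  calc x * u * x⁻¹ = g⁻¹ * (g * (x * u * x⁻¹)) := by group
    _ = s * (s⁻¹ * (g⁻¹ * x) * u) * (g⁻¹ * x)⁻¹ := by rw [← k2]; group
    _ = s * u * s⁻¹ := by rw [← k1]; group

open Subgroup in
theorem cent_of_quot {G : Type*} [Group G] [Finite G] {p : ℕ} [Fact p.Prime] {D : Subgroup G}
    [D.Normal] (hD : IsPGroup p D) {x : G} (hx : ¬ p ∣ orderOf x)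
    (h1 : (x : G ⧸ ⁅D, D⁆) ∈ centralizer (D.map (QuotientGroup.mk' ⁅D, D⁆) : Set (G ⧸ ⁅D, D⁆))) :
    x ∈ centralizer (D : Set G) := by
  have := hD.isNilpotent
  have h2 : D ≤ centralizer (zpowers x : Set G) := by
    refine CfsgH1.le_centralizer_of_commutator_le_frattini
      (le_top.trans (normalizer_eq_top D).ge) ?_ ?_
    · obtain ⟨k, hk⟩ := IsPGroup.iff_card.1 (hD.to_subgroup (frattini D))
      rw [hk, Nat.card_zpowers]
      exact ((Nat.Prime.coprime_iff_not_dvd Fact.out).2 hx).symm.pow_right _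
    · refine le_trans ?_ (show ⁅D, D⁆ ≤ _ from ?_)
      · rw [commutator_le]
        rintro d hd _ ⟨n, rfl⟩
        rw [← QuotientGroup.eq_one_iff, ← QuotientGroup.mk'_apply, map_commutatorElement,
          commutatorElement_eq_one_iff_commute, map_zpow]
        exact Commute.zpow_right (mem_centralizer_iff.1 h1 _ ⟨d, hd, rfl⟩) n
      · rw [← map_subtype_commutator]
        exact map_mono CfsgH1.commutator_le_frattini_of_nilpotent
  exact le_centralizer_iff.1 h2 (mem_zpowers x)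

open Subgroup in
theorem exists_lift {F : Type*} [Field F] {G : Type*} [Group G] [Finite G] {p : ℕ}
    [hp : Fact p.Prime] [CharP F p] {D : Subgroup G} [D.Normal] (hD : IsPGroup p D)
    {f : F[G ⧸ ⁅D, D⁆]} (hf : f ∈ Zc F (centralizer (D.map (QuotientGroup.mk' ⁅D, D⁆) : Set _))
      (centralizer (D.map (QuotientGroup.mk' ⁅D, D⁆) : Set _))) (hff : f * f = f)
    (hr : ∀ y, f.coeff y ≠ 0 → ¬ p ∣ orderOf y) :
    ∃ e ∈ Zc F (centralizer (D : Set G)) (centralizer (D : Set G)), e * e = e ∧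
      emb F (QuotientGroup.mk' ⁅D, D⁆) e = f := by
  have hle : ⁅D, D⁆ ≤ D := commutator_le_left D D
  have hP : IsPGroup p (⁅D, D⁆ : Subgroup G) := hD.to_le hle
  have hC : ∀ x : G, ¬ p ∣ orderOf x → f.coeff x ≠ 0 → x ∈ centralizer (D : Set G) :=
    fun x hx h => cent_of_quot hD hx (mem_of_coeff_ne_zero hf.1 h)
  set a : F[G] := ofFun fun g => if p ∣ orderOf g then 0 else f.coeff g
  have ha : a ∈ Zc F (centralizer (D : Set G)) (centralizer (D : Set G)) :=
    ⟨fun x hx => by
      simp only [a, coeff_ofFun]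
      split_ifs with h
      · rfl
      · exact by_contra fun h' => hx (hC x h h'), mem_Fix.2 fun n hn x => by
      simp only [a, coeff_ofFun, orderOf_conj', QuotientGroup.mk_mul, QuotientGroup.mk_inv]
      rw [mem_Fix.1 hf.2 _ (by
        rintro _ ⟨d, hd, rfl⟩
        exact congrArg (QuotientGroup.mk' ⁅D, D⁆) (hn d hd))]⟩
  have e : emb F (QuotientGroup.mk' ⁅D, D⁆) a = f := ga_ext fun y => by
    by_cases h : f.coeff y = 0
    · rw [h]
      by_contra h0
      obtain ⟨g, rfl, hg⟩ := exists_of_coeff_emb_ne_zero' _ h0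
      simp only [a, coeff_ofFun] at hg
      split_ifs at hg
      · exact hg rfl
      · exact hg h
    · obtain ⟨x, hx, rfl⟩ := exists_reg_lift (QuotientGroup.mk'_surjective _) (hr y h)
      rw [coeff_emb_of_unique]
      · simp only [a, coeff_ofFun, if_neg hx]; rfl
      · intro g e hg
        simp only [a, coeff_ofFun] at hg
        split_ifs at hg with h1
        · exact absurd rfl hg
        · exact eq_of_reg_of_mk_eq hP hx h1 (centralizer_le hle (hC x hx h)) e
  obtain ⟨n, hn⟩ : IsNilpotent (a * a - a) := isNilpotent_of_mem_jacobson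
    (mem_jacobson_of_emb_mk_eq_zero hP (by rw [map_sub, map_mul, e, hff, sub_self]))
  have h1 : (a * a - a) ^ p ^ n = 0 :=
    pow_eq_zero_of_le (Nat.lt_pow_self hp.out.one_lt).le hn
  have : CharP F[G] p := charP_of_injective_algebraMap (algebraMap F F[G]).injective p
  rw [sub_pow_char_pow_of_commute _ _ ((Commute.refl a).mul_left (Commute.refl a)),
    (Commute.refl a).mul_pow, sub_eq_zero] at h1
  refine ⟨a ^ p ^ n, pow_mem ha _, h1, ?_⟩
  rw [map_pow, e]
  exact (IsIdempotentElem.pow_eq hff (pow_ne_zero _ hp.out.ne_zero))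

/-- Let G be a finite group, p a prime, M a maximal ideal of the algebraic integers containing p, and B a p-block of G with a defect group that is normal in G. Then all height-zero irreducible characters of B have the same degree if and only if B is a nilpotent block. -/
theorem result {G : Type*} [Group G] [Finite G] (p : ℕ) [Fact p.Prime] (M : Ideal Cfsg.AlgInt) (hM : Cfsg.IsPModular p M) (B : Set (Cfsg.IrrCharacter G)) (hB : Cfsg.IsPBlock M B) (D : Subgroup G) (hD : Cfsg.IsDefectGroup p M B D) (hDn : D.Normal) : (∃ d : ℕ, ∀ χ : Cfsg.IrrCharacter G, χ ∈ B → Cfsg.blockHeight p B (χ : G → ℂ) = 0 → Cfsg.charDegree (χ : G → ℂ) = d) ↔ Cfsg.IsNilpotentBlock p M B := by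
  have := hM.2.1
  have := charP_of_isPModular hM
  have hD' := (isDefectGroup_iff hB).1 hD
  obtain ⟨e, hm⟩ := hD'.exists_mp (isPrim_bId hB)
  rw [isNilpotentBlock_iff hB]
  refine ⟨fun ⟨n, hn⟩ => nil_of_normal hm fun t ht ht' => cent_of_quot hD'.pgroup ht' ?_,
    fun h => ?_⟩
  swap
  · obtain ⟨n, hn⟩ := h.exists_deg hm hB
    exact ⟨n, fun χ hχ h0 => hn χ hχ (Or.inl h0)⟩
  have hle : ⁅D, D⁆ ≤ D := Subgroup.commutator_le_left D D
  have hP : IsPGroup p (⁅D, D⁆ : Subgroup G) := hD'.pgroup.to_le hle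
  have hs := QuotientGroup.mk'_surjective ⁅D, D⁆
  set π := QuotientGroup.mk' ⁅D, D⁆ with hπ
  have he := hm.bp.prim
  rw [Cn_top] at he
  have hN : (D.map π).Normal := hDn.map _ hs
  have hQ := hD'.pgroup.map π
  obtain ⟨_, h1, h2⟩ := exists_isPrim_mul_ne_zero (isComm_Z (F := Res M) ⊤)
    (emb_mk_ne_zero hP he.idem he.ne_zero)
  obtain ⟨b, hb, rfl⟩ := exists_block_of_isPrim h1
  have h3 : bId M B * e = e := by
    have := hm.mul
    rwa [Br_eq_self_of_idem le_top (Subgroup.normalizer_eq_top _).ge hD'.pgroup (bId_mem B)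
      hm.prim.idem, ← bId_comm] at this
  have h4 : bId M b * emb (Res M) π (bId M B) = bId M b :=
    h1.mul_eq_self (emb_mem_Ztop hs (bId_mem B)) (by rw [← map_mul, hm.prim.idem]) fun h => h2 (by
      rw [← h3, map_mul, ← mul_assoc, h, zero_mul])
  have h5 : Br (D.map π) (bId M b) = bId M b :=
    Br_eq_self_of_idem le_top (Subgroup.normalizer_eq_top _).ge hQ h1.mem h1.idem
  obtain ⟨ξ, hξ⟩ := block_nonempty hb
  have h6 := isDef_map_of_dom hB hb hξ ((infl_mem_iff hB hb hξ).2 h4) hD' (h5.symm ▸ h1.ne_zero)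
  obtain ⟨f, hf, h7⟩ := exists_isPrim_mul_ne_zero
    (isComm_Z (F := Res M) (Subgroup.centralizer (D.map π : Set _))) h2
  have h8 : f * bId M b = f := hf.mul_eq_self
    ⟨mem_Supp_centralizer_of_idem le_top (Subgroup.normalizer_eq_top _).ge hQ h1.mem h1.idem,
      Fix_anti le_top h1.mem.2⟩ h1.idem fun h => h7 (by rw [← mul_assoc, h, zero_mul])
  rw [← mul_assoc, h8] at h7
  have hf' : BP p ⊤ (D.map π) f := ⟨le_top, hQ, by rwa [Cn_top]⟩
  have hab : ∀ a ∈ D.map π, ∀ c ∈ D.map π, a * c = c * a := by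
    rintro _ ⟨a, ha, rfl⟩ _ ⟨c, hc, rfl⟩
    rw [← commutatorElement_eq_one_iff_mul_comm, ← map_commutatorElement]
    exact (QuotientGroup.eq_one_iff _).2 (Subgroup.commutator_mem_commutator ha hc)
  have h9 := (isDefectGroup_iff hb).2 h6
  have h10 := nil_of_equal_deg ⟨h1, hf', by rw [h5, h8], h6⟩ hb (fun a ha c hc => hab c hc a ha)
    (n := n) fun χ hχ => by
      have k1 := (infl_mem_iff hB hb hχ).2 h4
      refine hn _ k1 ?_
      rw [height_eq_zero_iff k1, ← index_defectGroup hB hD, ← Subgroup.index_map_eq D hs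
        ((QuotientGroup.ker_mk' _).le.trans hle), index_defectGroup hb h9]
      exact (height_eq_zero_iff hχ).1 ((S0972.result p M hM b hb _ h9).1 hab χ hχ)
  have h11 : ∀ g, IsPrim (Zc (Res M) (Subgroup.centralizer (D.map π : Set _))
      (Subgroup.centralizer (D.map π : Set _))) g → g * emb (Res M) π e ≠ 0 →
      emb (Res M) π e * g = emb (Res M) π e := fun g hg h0 => by
    obtain ⟨c, hc, rfl⟩ := exists_block_of_isPrim_S hg
    obtain ⟨ε, k1, k2, k3⟩ := exists_lift hD'.pgroup hg.mem hg.idem fun y hy => by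
      have k := mem_of_coeff_ne_zero hg.mem.1 hy
      rw [← Subgroup.orderOf_mk y k]
      exact not_dvd_of_coeff_bId hc (by rwa [coeff_bId, ← coeff_bIdS_coe])
    rw [← k3, ← map_mul, he.mul_eq_self k1 k2 fun h => h0 (by
      rw [← k3, ← map_mul, isComm_Z _ _ k1 _ he.mem, h, map_zero])]
  have hn' : π t ∈ Subgroup.normalizer
      ((Subgroup.centralizer (D.map π : Set (G ⧸ ⁅D, D⁆)) : Subgroup _) : Set (G ⧸ ⁅D, D⁆)) := by
    rw [Subgroup.normalizer_eq_top]; trivial
  have hf2 := hf.cjA_of_normalizer hn' hn'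
  refine h10 _ f hf' (by rw [h5, h8]) _ trivial (by rw [Subgroup.normalizer_eq_top]; trivial)
    (hf2.eq_of_mul_ne_zero (isComm_Z _) hf fun h => emb_mk_ne_zero hP he.idem he.ne_zero ?_)
    (not_dvd_orderOf_map π ht')
  rw [← h11 f hf h7, ← h11 _ hf2 (by
    rw [← mem_stabA.1 ht, emb_cjA, ← map_mul]
    exact (map_ne_zero_iff _ (cjA _ _).injective).2 h7), mul_assoc, h, mul_zero]

end Cfsg.Agent.S4890
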