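import Cfsg.Statements.S4911
import Cfsg.Agent.H4.Glaub4
import Cfsg.Agent.S0160

set_option autoImplicit false
open Cfsg

namespace Cfsg.Agent.S4911

open CfsgH4 CfsgH3

/-- Let P and K be subgroups of a finite group with P a p-group normalizing K and K of order prime to p. Then the number of P-invariant real-valued irreducible complex characters of K equals the number of conjugacy classes of K that are real (closed under inversion) and P-invariant. Moreover, if every real-valued irreducible character of K is P-invariant, then every real element of K (one conjugate in K to its inverse) is conjugate in K to an element centralized by P. -/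
theorem result {G : Type*} [Group G] [Finite G] (p : ℕ) [Fact p.Prime] (P K : Subgroup G) (hP : IsPGroup p ↥P) (hK : ¬ p ∣ Nat.card ↥K) (hPK : P ≤ Subgroup.normalizer (K : Set G)) : Nat.card {θ : Cfsg.IrrCharacter ↥K // (∀ k : ↥K, ((θ : ↥K → ℂ) k).im = 0) ∧ (∀ x ∈ P, ∀ k k' : ↥K, (k' : G) = x * (k : G) * x⁻¹ → (θ : ↥K → ℂ) k' = (θ : ↥K → ℂ) k)} = Nat.card {c : ConjClasses ↥K // (∀ k : ↥K, ConjClasses.mk k = c → IsConj k k⁻¹) ∧ ∀ k : ↥K, ConjClasses.mk k = c → ∀ x ∈ P, ∀ k' : ↥K, (k' : G) = x * (k : G) * x⁻¹ → ConjClasses.mk k' = c} ∧ ((∀ θ : Cfsg.IrrCharacter ↥K, (∀ k : ↥K, ((θ : ↥K → ℂ) k).im = 0) → (∀ x ∈ P, ∀ k k' : ↥K, (k' : G) = x * (k : G) * x⁻¹ → (θ : ↥K → ℂ) k' = (θ : ↥K → ℂ) k)) → ∀ k : ↥K, IsConj k k⁻¹ → ∃ k' : ↥K, IsConj k k' ∧ ∀ x ∈ P, x * (k' : G) * x⁻¹ = (k' : G)) := by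
  have hp : p.Prime := Fact.out
  have hcop : (Nat.card K).Coprime (Nat.card P) := by
    obtain ⟨k, hk⟩ := IsPGroup.iff_card.1 hP
    rw [hk]; exact Nat.Coprime.pow_right _ ((Nat.Prime.coprime_iff_not_dvd hp).2 hK).symm
  have hPs : Group.IsSolvable P := by have := hP.isNilpotent; infer_instance
  set C := K ⊓ Subgroup.centralizer (P : Set G) with hC
  have hCK : C ≤ K := inf_le_left
  have H : GlR p P hCK := glR_cop hp hP hPK hcop hC hCK
  have all : ∀ β : C → ℂ, SInv P β := fun β => sInv_cent β (le_cent_inf K P)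
  obtain ⟨f, hf, -⟩ := H.exists_bij hp (fun θ => (∀ k, (θ k).im = 0) ∧ SInv P θ)
    (fun θ => ∀ k, (θ k).im = 0) (fun _ h => h.2) (fun _ _ => all _) (by
      intro χ ξ hχ hξ hi _ h1
      have h2 := mlt_conj (hχ.isChar.resLe hCK) hξ.isChar
      have hi' : SInv P (fun g => (starRingEnd ℂ) (χ g)) := fun s hs g g' e => by
        beta_reduce; rw [hi s hs g g' e]
      rw [← conj_eq_iff_im, ← conj_eq_iff_im]
      refine ⟨fun h => ?_, fun h => ⟨?_, hi⟩⟩
      · refine H.eq hχ hi hξ.conj_char (all _) hξ (all _) ?_ h1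
        rw [← h2] at h1
        conv at h1 => enter [1, 2, 1]; change resLe hCK (fun g => (starRingEnd ℂ) (χ g)); rw [h.1]
        exact h1
      · refine H.inj _ _ ξ hχ.conj_char hi' hχ hi hξ (all _) ?_ h1
        rw [← h2, h] at h1
        exact h1)
  have hinv : ∀ c : C, ∀ k : K, ConjClasses.mk k = ConjClasses.mk (Subgroup.inclusion hCK c) →
      ∀ x ∈ P, ∀ k' : K, (k' : G) = x * (k : G) * x⁻¹ →
      ConjClasses.mk k' = ConjClasses.mk (Subgroup.inclusion hCK c) := by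
    intro c g h s hs g' e
    rw [ConjClasses.mk_eq_mk_iff_isConj, isConj_iff] at h ⊢
    obtain ⟨x, hx⟩ := h
    refine ⟨⟨s * x * s⁻¹, CfsgH2.conj_mem_of_mem_normalizer (hPK hs) x.2⟩, Subtype.ext ?_⟩
    have h1 : (x : G) * g * (x : G)⁻¹ = c := congrArg Subtype.val hx
    have h2 : s * c = c * s := c.2.2 s hs
    change s * x * s⁻¹ * g' * (s * x * s⁻¹)⁻¹ = c
    rw [e]
    calc _ = s * ((x : G) * g * (x : G)⁻¹) * s⁻¹ := by group
      _ = c := by rw [h1, h2]; group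
  have hreal : ∀ {X : Type _} [Group X] (c : X),
      (∀ k : X, ConjClasses.mk k = ConjClasses.mk c → IsConj k k⁻¹) ↔ IsConj c c⁻¹ := by
    intro X _ c
    refine ⟨fun h => h c rfl, fun h k hk => ?_⟩
    rw [ConjClasses.mk_eq_mk_iff_isConj] at hk
    refine hk.trans (h.trans ?_)
    obtain ⟨x, hx⟩ := isConj_iff.1 hk.symm
    exact isConj_iff.2 ⟨x, by rw [← hx]; group⟩
  have h5 := exists_bij_classes hPK hcop (Or.inl hPs)
    (fun c => ∀ k : C, ConjClasses.mk k = c → IsConj k k⁻¹)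
    (fun c => (∀ k : K, ConjClasses.mk k = c → IsConj k k⁻¹) ∧ ∀ k : K, ConjClasses.mk k = c →
      ∀ x ∈ P, ∀ k' : K, (k' : G) = x * (k : G) * x⁻¹ → ConjClasses.mk k' = c)
    (fun c h s hs g g' e hg => h.2 g hg s hs g' e) (by
      intro c
      rw [hreal, hreal]
      refine ⟨fun h => ⟨(Subgroup.inclusion hCK).map_isConj h, hinv c⟩, fun h => ?_⟩
      obtain ⟨g, hg⟩ := isConj_iff.1 h.1
      obtain ⟨x, hx, e⟩ := isConj_cent hPK hcop (Or.inl hPs) c.2.2 (inv_mem c.2.2) g.2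
        (congrArg Subtype.val hg)
      exact isConj_iff.2 ⟨⟨x, hx⟩, Subtype.ext e⟩)
  have hreal2 : ∀ (X : Subgroup G), Nat.card {θ : IrrCharacter X // ∀ k, (θ.1 k).im = 0} =
      Nat.card {c : ConjClasses X // ∀ k : X, ConjClasses.mk k = c → IsConj k k⁻¹} := by
    intro X
    exact Cfsg.Agent.S0160.result
  have main := (Nat.card_eq_of_bijective f hf).trans ((hreal2 C).trans h5)
  refine ⟨main, fun hall k hk => ?_⟩
  have h6 : Nat.card {θ : IrrCharacter K // (∀ k, (θ.1 k).im = 0) ∧ SInv P θ.1} =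
      Nat.card {θ : IrrCharacter K // ∀ k, (θ.1 k).im = 0} :=
    Nat.card_congr (Equiv.subtypeEquivRight fun θ => ⟨fun h => h.1, fun h => ⟨h, hall θ h⟩⟩)
  rw [h6, hreal2 K] at main
  have h7 := Set.eq_of_subset_of_ncard_le
    (s := {c : ConjClasses K | (∀ k : K, ConjClasses.mk k = c → IsConj k k⁻¹) ∧
      ∀ k : K, ConjClasses.mk k = c →
      ∀ x ∈ P, ∀ k' : K, (k' : G) = x * (k : G) * x⁻¹ → ConjClasses.mk k' = c})
    (t := {c : ConjClasses K | ∀ k : K, ConjClasses.mk k = c → IsConj k k⁻¹})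
    (fun c h => h.1) (le_of_eq main)
  have h8 : ConjClasses.mk k ∈ {c : ConjClasses K | ∀ k : K, ConjClasses.mk k = c → IsConj k k⁻¹} :=
    (hreal k).2 hk
  rw [← h7] at h8
  obtain ⟨g, hg, h9⟩ := exists_conj_cent hPK hcop (Or.inl hPs) (x := k) (fun s hs => by
    have := h8.2 k rfl s hs ⟨_, CfsgH2.conj_mem_of_mem_normalizer (hPK hs) k.2⟩ rfl
    obtain ⟨y, hy⟩ := isConj_iff.1 (ConjClasses.mk_eq_mk_iff_isConj.1 this).symm
    exact ⟨y, y.2, (congrArg Subtype.val hy).symm⟩)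
  refine ⟨⟨g, hg⟩ * k * ⟨g, hg⟩⁻¹, isConj_iff.2 ⟨_, rfl⟩, fun x hx => ?_⟩
  have := h9 x hx
  change x * (g * k * g⁻¹) * x⁻¹ = g * k * g⁻¹
  rw [this]; simp

end Cfsg.Agent.S4911
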