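import Cfsg.Statements.S4912
import Cfsg.Agent.H4.Misc2
import Cfsg.Agent.H4.PSol

set_option autoImplicit false
open Cfsg

namespace Cfsg.Agent.S4912

open CfsgH4 CfsgH3 CfsgH2 MonoidAlgebra

/-- Let G be a finite group with a non-abelian minimal normal subgroup N, and let φ be an irreducible complex character of N with stabilizer I in G such that φ extends to an irreducible character of I with Frobenius–Schur indicator +1. Put d = φ(1)·[G : I]. Then the number of linear characters of G with Frobenius–Schur indicator +1 is at most [G : I] times the number of irreducible characters of G of degree d with Frobenius–Schur indicator +1. -/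
theorem result {G : Type*} [Group G] [Finite G] (N : Subgroup G) (hN : N.Normal) (hN1 : N ≠ ⊥) (hmin : ∀ M : Subgroup G, M.Normal → M ≤ N → M = ⊥ ∨ M = N) (hna : ¬ IsMulCommutative ↥N) (φ : Cfsg.IrrCharacter ↥N) (I : Subgroup G) (hI : ∀ g : G, g ∈ I ↔ ∀ n n' : ↥N, (n' : G) = g * (n : G) * g⁻¹ → (φ : ↥N → ℂ) n' = (φ : ↥N → ℂ) n) (hNI : N ≤ I) (hext : ∃ ψ : Cfsg.IrrCharacter ↥I, (Nat.card ↥I : ℂ)⁻¹ * ∑ᶠ g : ↥I, (ψ : ↥I → ℂ) (g * g) = 1 ∧ ∀ n : ↥N, (ψ : ↥I → ℂ) (Subgroup.inclusion hNI n) = (φ : ↥N → ℂ) n) : Nat.card {χ : Cfsg.IrrCharacter G // Cfsg.charDegree (χ : G → ℂ) = 1 ∧ (Nat.card G : ℂ)⁻¹ * ∑ᶠ g : G, (χ : G → ℂ) (g * g) = 1} ≤ I.index * Nat.card {χ : Cfsg.IrrCharacter G // Cfsg.charDegree (χ : G → ℂ) = Cfsg.charDegree (φ : ↥N → ℂ) * I.index ∧ (Nat.card G : ℂ)⁻¹ * ∑ᶠ g : G, (χ : G → ℂ) (g * g) = 1} := by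
  classical
  have := Fintype.ofFinite G
  have := Fintype.ofFinite I
  have := Fintype.ofFinite N
  have := Fintype.ofFinite (N.subgroupOf I)
  obtain ⟨ψ, h1, h2⟩ := hext
  simp only [finsum_eq_sum_of_fintype] at h1 ⊢
  have hT : I = inertia φ.1 := eq_inertia fun g => (hI g).trans
    ⟨fun h n => h n _ rfl, fun h n n' e => by rw [← h n]; exact congrArg φ.1 (Subtype.ext e)⟩
  have hN' : N ≤ commutator G := by
    rcases hmin ⁅N, N⁆ inferInstance (Subgroup.commutator_le_left _ _) with h | h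
    · exact absurd (Subgroup.le_centralizer_iff_isMulCommutative.1
        (Subgroup.commutator_eq_bot_iff_le_centralizer.1 h)) hna
    · rw [← h]; exact Subgroup.commutator_mono le_top le_top
  have hψN : IsIrrCharacter (N.subgroupOf I) fun x => ψ.1 x := by
    rw [← isIrr_resLe_iff hNI, show resLe hNI ψ.1 = φ.1 from funext h2]; exact φ.2
  have key : ∀ χ : {χ : IrrCharacter G // charDegree (χ : G → ℂ) = 1 ∧
      (Nat.card G : ℂ)⁻¹ * ∑ g : G, (χ : G → ℂ) (g * g) = 1}, ∃ μ : G →* ℂˣ,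
      χ.1.1 = (fun g => (μ g : ℂ)) ∧ ∀ g, (μ (g * g) : ℂ) = 1 := fun χ => by
    obtain ⟨μ, hμ⟩ := χ.1.2.isChar.exists_hom_of_deg_one
      ((charDegree_eq_one_iff χ.1.2.isChar).1 χ.2.1)
    refine ⟨μ, hμ, fun g => ?_⟩
    rcases fs_cases_irr χ.1.2 with h | h
    · exact absurd (h.2.symm.trans χ.2.2) zero_ne_one
    · have := congrFun h.1 g
      simp only [hμ, conj_lin] at this
      rw [map_mul, Units.val_mul]
      nth_rw 1 [← this]
      simp
  choose μ m1 m2 using key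
  have i1 : ∀ ν : G →* ℂˣ, IsIrrCharacter I fun x => ψ.1 x * ν x := fun ν =>
    ψ.2.mul_linear (ν.comp I.subtype)
  have i2 : ∀ ν : G →* ℂˣ, classInner (resLe hNI fun x => ψ.1 x * ν x) φ.1 ≠ 0 := fun ν => by
    have : (resLe hNI fun x => ψ.1 x * ν x) = φ.1 := funext fun n => by
      rw [resLe_apply, lin_commutator ν (hN' n.2), Units.val_one, mul_one]; exact h2 n
    rw [this, φ.2.inner_self]; exact one_ne_zero
  have i3 := fun ν => (clifford_corr_irr φ.2 hT hNI (i1 ν) (i2 ν)).1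
  let f : {χ : IrrCharacter G // charDegree (χ : G → ℂ) = 1 ∧
      (Nat.card G : ℂ)⁻¹ * ∑ g : G, (χ : G → ℂ) (g * g) = 1} →
      {χ : IrrCharacter G // charDegree (χ : G → ℂ) = charDegree (φ : ↥N → ℂ) * I.index ∧
      (Nat.card G : ℂ)⁻¹ * ∑ g : G, (χ : G → ℂ) (g * g) = 1} := fun χ =>
    ⟨⟨_, i3 (μ χ)⟩, by
      apply charDegree_eq
      change indFun I _ 1 = _
      rw [indFun_one, Nat.cast_mul, coe_charDegree φ.2.isChar, ← h2 1]
      simp [mul_comm],
      (fs_eq_one_iff (i3 _)).2 ((fs_eq_one_iff (i1 _)).1 (by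
        simp only [Subgroup.coe_mul, m2, mul_one]; exact h1)).ind⟩
  have := Fintype.ofFinite {μ : G →* ℂˣ // ∀ x ∈ I, μ x = 1}
  refine Nat.card_eq_fintype_card.trans_le ((Finset.card_le_mul_card_image_of_maps_to (f := f)
    (fun _ _ => Finset.mem_univ _) I.index fun b _ => le_trans ?_ (card_lin_trivial_le I)).trans_eq
    (congrArg _ Nat.card_eq_fintype_card.symm))
  rcases (Finset.univ.filter fun a => f a = b).eq_empty_or_nonempty with h | ⟨a₀, h₀⟩
  · rw [h]; exact Nat.zero_le _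
  have k2 : ∀ a ∈ Finset.univ.filter fun a => f a = b, ∀ x ∈ I, (μ a * (μ a₀)⁻¹) x = 1 := by
    intro a ha x hx
    have e := clifford_corr_inj φ.2 hT hNI (i1 _) (i2 _) (i1 _) (i2 _) (congrArg (fun x => x.1.1)
      ((Finset.mem_filter.1 ha).2.trans (Finset.mem_filter.1 h₀).2.symm))
    obtain ⟨n, hn⟩ : ∃ n : N.subgroupOf I, ψ.1 (n * ⟨x, hx⟩) ≠ 0 := by
      by_contra hn
      push Not at hn
      have := congrFun (navg_mul_conj ψ.2.isChar hψN) ⟨x, hx⟩
      simp [navg, hn] at this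
    have := mul_left_cancel₀ hn (congrFun e (n * ⟨x, hx⟩))
    have h3 : ((n : I) : G) ∈ commutator G := hN' n.2
    simp only [Subgroup.coe_mul, map_mul, lin_commutator _ h3, one_mul, Units.val_inj] at this
    simp [this]
  refine (Fintype.card_coe _).symm.trans_le ((Fintype.card_le_of_injective
    (fun a => ⟨_, k2 a.1 a.2⟩) fun a a' e => ?_).trans_eq Nat.card_eq_fintype_card.symm)
  have := mul_right_cancel (congrArg Subtype.val e)
  exact Subtype.ext (Subtype.ext (Subtype.ext (by rw [m1, m1, this])))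

end Cfsg.Agent.S4912
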