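import Cfsg.Statements.S4914
import Cfsg.Agent.H4.Glaub4

set_option autoImplicit false
open Cfsg

namespace Cfsg.Agent.S4914

open CfsgH4 CfsgH3

/-- Let P and K be subgroups of a finite group G with P a p-group normalizing K, and suppose K has a normal Sylow p-subgroup Q. Let C be the subgroup of those k ∈ K whose commutator with every element of P lies in Q (so that C/Q is the fixed-point subgroup of P on K/Q). Then there is a bijection f from the P-invariant irreducible complex characters of K onto the P-invariant irreducible complex characters of C such that, for every P-invariant irreducible character χ of K, the multiplicity of f(χ) in the restriction of χ to C is a natural number congruent to 1 or to −1 modulo p, every other P-invariant irreducible character of C occurs in that restriction with multiplicity divisible by p, and the degrees of χ and f(χ) are congruent modulo p up to sign. -/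
theorem result {G : Type*} [Group G] [Finite G] (p : ℕ) [Fact p.Prime] (P K Q C : Subgroup G) (hP : IsPGroup p ↥P) (hPK : P ≤ Subgroup.normalizer (K : Set G)) (hQK : Q ≤ K) (hQn : ∀ k ∈ K, ∀ q ∈ Q, k * q * k⁻¹ ∈ Q) (hQp : ∃ a : ℕ, Nat.card ↥Q = p ^ a) (hQsyl : ¬ p ∣ Q.relIndex K) (hCK : C ≤ K) (hC : ∀ k : G, k ∈ C ↔ (k ∈ K ∧ ∀ x ∈ P, x * k * x⁻¹ * k⁻¹ ∈ Q)) : ∃ f : {χ : Cfsg.IrrCharacter ↥K // (∀ x ∈ P, ∀ k k' : ↥K, (k' : G) = x * (k : G) * x⁻¹ → (χ : ↥K → ℂ) k' = (χ : ↥K → ℂ) k)} → {ξ : Cfsg.IrrCharacter ↥C // (∀ x ∈ P, ∀ k k' : ↥C, (k' : G) = x * (k : G) * x⁻¹ → (ξ : ↥C → ℂ) k' = (ξ : ↥C → ℂ) k)}, Function.Bijective f ∧ ∀ χ, (∀ ξ : {ξ : Cfsg.IrrCharacter ↥C // (∀ x ∈ P, ∀ k k' : ↥C, (k' : G) = x * (k : G) * x⁻¹ → (ξ : ↥C → ℂ) k' = (ξ : ↥C → ℂ) k)}, ∃ m : ℕ, (Nat.card ↥C : ℂ)⁻¹ * ∑ᶠ c : ↥C, (χ.1 : ↥K → ℂ) (Subgroup.inclusion hCK c) * (starRingEnd ℂ) ((ξ.1 : ↥C → ℂ) c) = (m : ℂ) ∧ (ξ = f χ → ((m : ZMod p) = 1 ∨ (m : ZMod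 p) = -1)) ∧ (ξ ≠ f χ → p ∣ m)) ∧ ((Cfsg.charDegree ((f χ).1 : ↥C → ℂ) : ZMod p) = (Cfsg.charDegree (χ.1 : ↥K → ℂ) : ZMod p) ∨ (Cfsg.charDegree ((f χ).1 : ↥C → ℂ) : ZMod p) = -(Cfsg.charDegree (χ.1 : ↥K → ℂ) : ZMod p)) := by
  have hp : p.Prime := Fact.out
  have := Fintype.ofFinite C
  have kN := le_normalizer_of_conj hQn
  have pN : P ≤ Subgroup.normalizer (Q : Set G) := by
    refine le_normalizer_of_conj fun x hx q hq => ?_
    obtain ⟨a, ha⟩ := hQp
    have h1 : (x * q * x⁻¹) ^ p ^ a ∈ Q := by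
      rw [conj_pow, ← ha]
      have : q ^ Nat.card Q = 1 := congrArg Subtype.val (pow_card_eq_one' (x := (⟨q, hq⟩ : Q)))
      rw [this]; simp
    exact mem_of_pow_coprime h1 (pow_relIndex_mem' kN
      (CfsgH2.conj_mem_of_mem_normalizer (hPK hx) (hQK hq)))
      (Nat.Coprime.pow_left _ ((Nat.Prime.coprime_iff_not_dvd hp).2 hQsyl))
  have hr : RC Q K P C := ⟨hQK, kN, hPK, pN, hC⟩
  have H : GlR p P hCK := hr.glR hp hP hQsyl
  obtain ⟨f, hf, h1⟩ := H.exists_bij hp (SInv P) (SInv P) (fun _ h => h) (fun _ h => h)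
    (fun _ _ _ _ h h' _ => iff_of_true h h')
  refine ⟨f, hf, fun χ => ⟨fun ξ => ?_, ?_⟩⟩
  · obtain ⟨m, hm⟩ := (χ.1.2.isChar.resLe hCK).inner_nat ξ.1.2.isChar
    have hm' : mlt (resLe hCK χ.1.1) ξ.1.1 = m := mlt_eq (by exact_mod_cast hm)
    refine ⟨m, by rw [finsum_eq_sum_of_fintype]; exact hm, fun e => ?_, fun e => ?_⟩
    · have := H.pm χ.1.2 χ.2 ξ.1.2 ξ.2 (e ▸ h1 χ)
      rw [hm'] at this
      rcases this with h | h
      · left
        have := (ZMod.intCast_zmod_eq_zero_iff_dvd _ _).2 h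
        push_cast at this; exact sub_eq_zero.1 this
      · right
        have := (ZMod.intCast_zmod_eq_zero_iff_dvd _ _).2 h
        push_cast at this; exact eq_neg_of_add_eq_zero_left this
    · by_contra h2
      exact e (Subtype.ext (Subtype.ext (H.eq χ.1.2 χ.2 ξ.1.2 ξ.2 (f χ).1.2 (f χ).2
        (by rw [hm']; exact_mod_cast h2) (h1 χ))))
  · have h2 := (ZMod.intCast_zmod_eq_zero_iff_dvd _ _).2
      (H.deg hp hP hr.pC χ.1.2 χ.2 (f χ).1.2 (f χ).2 (h1 χ))
    push_cast at h2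
    rcases H.pm χ.1.2 χ.2 (f χ).1.2 (f χ).2 (h1 χ) with h | h
    · left
      have := (ZMod.intCast_zmod_eq_zero_iff_dvd _ _).2 h
      push_cast at this
      rw [sub_eq_zero.1 this, one_mul] at h2
      exact (sub_eq_zero.1 h2).symm
    · right
      have := (ZMod.intCast_zmod_eq_zero_iff_dvd _ _).2 h
      push_cast at this
      rw [eq_neg_of_add_eq_zero_left this] at h2
      linear_combination h2

end Cfsg.Agent.S4914
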