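import Cfsg.Statements.S4916
import Cfsg.Agent.H4.Reg2

set_option autoImplicit false
open Cfsg

namespace Cfsg.Agent.S4916

open CfsgH4 CfsgH3 CfsgH2 MonoidAlgebra

/-- Let G be a finite group, p a prime and M a maximal ideal of the algebraic integers containing p. Then the principal character is the only irreducible character of degree prime to p in the principal p-block of G if and only if p does not divide the order of G. -/
theorem result {G : Type*} [Group G] [Finite G] (p : ℕ) [Fact p.Prime] (M : Ideal Cfsg.AlgInt) (hM : Cfsg.IsPModular p M) : (∀ χ : Cfsg.IrrCharacter G, χ ∈ Cfsg.principalBlock M G → ¬ p ∣ Cfsg.charDegree (χ : G → ℂ) → (χ : G → ℂ) = fun _ => (1 : ℂ)) ↔ ¬ p ∣ Nat.card G := by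
  have := hM.2.1
  have := charP_of_isPModular hM
  have hB := isPBlock_principal (M := M) (G := G)
  constructor
  · intro h hd
    have h1 : blockDefect p (principalBlock M G) ≠ 0 := by
      rw [blockDefect_principal]
      exact ((Fact.out : p.Prime).factorization_pos_of_dvd Nat.card_pos.ne' hd).ne'
    obtain ⟨ψ, hψ, hne, h0⟩ := exists_ne_height_zero hB h1 ⟨fun _ => 1, isIrr_one⟩
    exact hne (Subtype.ext (h ψ hψ (height_principal_eq_zero_iff.1 h0)))
  · intro h χ hχ _
    have h1 : blockDefect p (principalBlock M G) = 0 := by
      rw [blockDefect_principal, Nat.factorization_eq_zero_of_not_dvd h]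
    rw [eq_singleton_of_defect_zero hB h1 one_mem_principal] at hχ
    exact congrArg Subtype.val hχ

end Cfsg.Agent.S4916
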