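import Cfsg.Statements.S4937
import Cfsg.Agent.H4.Prin

set_option autoImplicit false
open Cfsg

namespace Cfsg.Agent.S4937

open CfsgH4 CfsgH3 CfsgH2 MonoidAlgebra

/-- Let G be a finite group, p a prime, M a maximal ideal of the algebraic integers containing p, N a normal subgroup of G and P a Sylow p-subgroup of N such that G = N·C_G(P). Let θ be an irreducible character in the principal p-block of N that is the restriction of some irreducible character of G. Then θ is the restriction of an irreducible character χ of G lying in the principal p-block of G such that, for every subgroup J of G containing N, the restriction of χ to J is an irreducible character of J lying in the principal p-block of J. -/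
theorem result {G : Type*} [Group G] [Finite G] (p : ℕ) [Fact p.Prime] (M : Ideal Cfsg.AlgInt) (hM : Cfsg.IsPModular p M) (N : Subgroup G) [N.Normal] (P : Sylow p ↥N)
    (hcov : N ⊔ Subgroup.centralizer (((P : Subgroup ↥N).map N.subtype : Subgroup G) : Set G) = ⊤)
    (θ : Cfsg.IrrCharacter ↥N) (hθ : θ ∈ Cfsg.principalBlock M ↥N)
    (hext : ∃ ψ : Cfsg.IrrCharacter G, ∀ x : ↥N, (ψ : G → ℂ) x = (θ : ↥N → ℂ) x) :
    ∃ χ : Cfsg.IrrCharacter G, χ ∈ Cfsg.principalBlock M G ∧ (∀ x : ↥N, (χ : G → ℂ) x = (θ : ↥N → ℂ) x) ∧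
      ∀ J : Subgroup G, N ≤ J → ∃ ξ : Cfsg.IrrCharacter ↥J, ξ ∈ Cfsg.principalBlock M ↥J ∧ ∀ y : ↥J, (ξ : ↥J → ℂ) y = (χ : G → ℂ) y := by
  have := hM.2.1
  have := charP_of_isPModular hM
  obtain ⟨ψ, hψ⟩ := hext
  obtain ⟨ν, h1, h2⟩ := ad_twist (p := p) (fun g => by
    have hg : g ∈ Subgroup.centralizer (((P : Subgroup ↥N).map N.subtype : Subgroup G) : Set G) ⊔ N := by
      rw [sup_comm, hcov]; trivial
    obtain ⟨x, hx, n, hn, rfl⟩ := (mem_sup_of_normalizer' (le_top.trans le_normalizer_top)).1 hg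
    exact ⟨x, by simpa using hn, fun h => (IsSylowIn.of_sylow_map P).not_dvd
      (h.trans (Subgroup.relIndex_dvd_of_le_left _ (le_centralizer_singleton_iff.2 hx)))⟩)
    hθ ψ.2.isChar hψ
  have h3 : IsIrrCharacter G fun g => (ν g : ℂ) * ψ.1 g := by
    simpa only [mul_comm] using ψ.2.mul_linear ν
  have h4 : ∀ x : N, (ν x : ℂ) * ψ.1 x = θ.1 x := fun x => by simp [h1 x x.2, hψ]
  refine ⟨⟨_, h3⟩, mem_principal_of_red_om fun g =>
    h2 _ (cs_mem_SG _ g) (Fix_anti le_top (cs_mem_Fix _ g)), h4, fun J hJ => ?_⟩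
  have h5 : IsIrrCharacter J fun g : J => (ν g : ℂ) * ψ.1 g :=
    (h3.isChar.restrict J).irr_of_res_irr (Subgroup.inclusion hJ) (by
      have : (fun x : N => (ν x : ℂ) * ψ.1 x) = θ.1 := funext h4
      exact this ▸ θ.2)
  exact ⟨⟨_, h5⟩, res_mem_principal hJ h2 fun _ => rfl, fun _ => rfl⟩

end Cfsg.Agent.S4937
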