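import Cfsg.Statements.S4955
import Cfsg.Agent.H4.Ord4

set_option autoImplicit false
open Cfsg

namespace Cfsg.Agent.S4955

open CfsgH4 CfsgH3

/-- Let X be a finite group with an abelian normal Sylow p-subgroup V (a normal p-subgroup of index prime to p in which any two elements commute), and let G be a complement to V in X. Then for every v in V, writing C for the centralizer of v in G, the number k(X) of conjugacy classes of X satisfies k(X) ≤ (order of C)·(order of V) − ((order of G) − k(G)); the statement is written with the subtracted term moved to the left. In particular, if some v in V is centralized by no nonidentity element of G, then k(X) is at most the order of V. -/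
theorem result {X : Type*} [Group X] [Finite X] (p : ℕ) [Fact p.Prime] (V : Subgroup X) [V.Normal] (hVp : IsPGroup p V) (hidx : ¬ p ∣ V.index) (hab : ∀ a ∈ V, ∀ b ∈ V, a * b = b * a) (G : Subgroup X) (hGV : Subgroup.IsComplement' V G) (v : X) (hv : v ∈ V) : Nat.card (ConjClasses X) + Nat.card G ≤ Nat.card ↥(G ⊓ Subgroup.centralizer ({v} : Set X)) * Nat.card V + Nat.card (ConjClasses G) := by
  classical
  have hp : p.Prime := Fact.out
  let S := Finset.univ.filter fun χ : IrrCharacter X => ¬ ∀ n ∈ V, χ.1 n = χ.1 1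
  have h1 := card_le_sum_irr_normSq S (fun σ χ h => by
    simp only [S, Finset.mem_filter, Finset.mem_univ, true_and, galIrr_apply] at h ⊢
    exact fun e => h fun n hn => σ.injective (e n hn)) (g := v) fun χ _ =>
    ne_zero_of_not_dvd hp χ.2.isChar (fun h => hidx (h.trans (deg_dvd_index_of_abelian χ.2
      (coe_charDegree χ.2.isChar).symm hab))) (by
      simpa using IsPGroup.iff_orderOf.1 hVp ⟨v, hv⟩)
  obtain ⟨e, -⟩ := exists_quotEquiv hGV.sup_eq_top hGV.disjoint
  have h2 := sum_irr_quot V (fun _ => 1)
  have h3 := sum_irr_quot V (fun ψ => ‖ψ v‖ ^ 2)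
  rw [sum_irr_normSq, (QuotientGroup.eq_one_iff v).2 hv, (Subgroup.centralizer_eq_top_iff_subset.2
      (by simp)), Subgroup.card_top, ← Nat.card_congr e.toEquiv] at h3
  have h4 := sum_irr_normSq v
  rw [← Finset.sum_filter_add_sum_filter_not _ (fun χ : IrrCharacter X => ∀ n ∈ V, χ.1 n = χ.1 1)] at h4
  have h5 := Finset.card_filter_add_card_filter_not (s := Finset.univ)
    (fun χ : IrrCharacter X => ∀ n ∈ V, χ.1 n = χ.1 1)
  rw [← Finset.card_eq_sum_ones, ← Finset.card_eq_sum_ones, Finset.card_univ, ← Nat.card_eq_fintype_card,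
    ← card_irr_congr e, card_irr_eq_card_conjClasses] at h2
  rw [Finset.card_univ, ← Nat.card_eq_fintype_card, card_irr_eq_card_conjClasses] at h5
  have h6 : Nat.card (Subgroup.centralizer ({v} : Set X)) ≤
      Nat.card (G ⊓ Subgroup.centralizer ({v} : Set X) : Subgroup X) * Nat.card V := by
    rw [← Nat.card_prod]
    have hV : ∀ a ∈ V, a ∈ Subgroup.centralizer {v} := fun a ha =>
      Subgroup.mem_centralizer_singleton_iff.2 (hab a ha v hv)
    refine Nat.card_le_card_of_surjective (fun a => ⟨a.2 * a.1, mul_mem (hV _ a.2.2) a.1.2.2⟩) fun c => ?_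
    obtain ⟨⟨a, b⟩, h⟩ := hGV.2 c.1
    exact ⟨(⟨b, b.2, (mul_mem_cancel_left (hV _ a.2)).1 ((show (a : X) * b = c from h) ▸ c.2 : (a : X) * b ∈ _)⟩, a), Subtype.ext h⟩
  have h7 : (Nat.card G : ℝ) + S.card ≤ Nat.card (Subgroup.centralizer ({v} : Set X)) := by
    rw [← h4, h3]; exact add_le_add (le_of_eq (by congr)) h1
  have h8 : Nat.card G + S.card ≤ Nat.card (Subgroup.centralizer ({v} : Set X)) := by exact_mod_cast h7
  have h9 : Nat.card (ConjClasses G) + S.card = Nat.card (ConjClasses X) := by
    rw [← h5, h2]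
  omega

end Cfsg.Agent.S4955
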