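import Cfsg.Statements.S4956
import Cfsg.Agent.H4.Deg

set_option autoImplicit false
open Cfsg

namespace Cfsg.Agent.S4956

open CfsgH4 CfsgH3 CfsgH2 MonoidAlgebra

/-- Let X be a finite group, V an abelian normal subgroup of X (any two elements of V commute) and G a complement to V in X whose order is coprime to that of V. Let S be a set of representatives of the orbits of G on V under conjugation: S lies in V and every element of V is conjugate under G to exactly one member of S. Then the number of conjugacy classes of X equals the sum, over s in S, of the number of conjugacy classes of the centralizer of s in G. -/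
theorem result {X : Type*} [Group X] [Finite X] (V : Subgroup X) [V.Normal] (hab : ∀ a ∈ V, ∀ b ∈ V, a * b = b * a) (G : Subgroup X) (hGV : Subgroup.IsComplement' V G) (hcop : (Nat.card V).Coprime (Nat.card G)) (S : Finset X) (hSV : ∀ s ∈ S, s ∈ V) (hrep : ∀ v ∈ V, ∃! s, s ∈ S ∧ ∃ g ∈ G, g * v * g⁻¹ = s) : Nat.card (ConjClasses X) = ∑ s ∈ S, Nat.card (ConjClasses ↥(G ⊓ Subgroup.centralizer ({s} : Set X))) := by
  classical
  have hs := hGV.sup_eq_top
  have hd : ∀ x ∈ V, x ∈ G → x = 1 := fun x h1 h2 => Subgroup.mem_bot.1 (hGV.disjoint.eq_bot.le ⟨h1, h2⟩)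
  obtain ⟨e, he1, he2⟩ := Nat.chineseRemainder hcop 1 0
  have hpow : ∀ s ∈ V, ∀ h ∈ G, h * s = s * h → (s * h) ^ e = s := fun s hs h hh hc => by
    rw [(show Commute s h from hc.symm).mul_pow]
    have a1 : (⟨s, hs⟩ : V) ^ e = ⟨s, hs⟩ ^ 1 := pow_eq_pow_iff_modEq.2 (he1.of_dvd (orderOf_dvd_natCard _))
    have a2 : (⟨h, hh⟩ : G) ^ e = ⟨h, hh⟩ ^ 0 := pow_eq_pow_iff_modEq.2 (he2.of_dvd (orderOf_dvd_natCard _))
    have b1 : s ^ e = s := by simpa using congrArg Subtype.val a1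
    have b2 : h ^ e = 1 := by simpa using congrArg Subtype.val a2
    rw [b1, b2, mul_one]
  have hm : ∀ {s x : X}, x ∈ Subgroup.centralizer ({s} : Set X) ↔ x * s = s * x :=
    Subgroup.mem_centralizer_singleton_iff
  choose o ho using fun (s : X) (c : ConjClasses ↥(G ⊓ Subgroup.centralizer ({s} : Set X))) => c.exists_rep
  rw [← Finset.sum_coe_sort, ← Nat.card_sigma]
  refine (Nat.card_eq_of_bijective (fun c : Σ s : S, ConjClasses ↥(G ⊓ Subgroup.centralizer ({s.1} : Set X)) =>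
    ConjClasses.mk (c.1.1 * o c.1.1 c.2)) ⟨?_, fun C => ?_⟩).symm
  · rintro ⟨⟨s, hS⟩, c⟩ ⟨⟨s', hS'⟩, c'⟩ h
    obtain ⟨y, hy⟩ := isConj_iff.1 (ConjClasses.mk_eq_mk_iff_isConj.1 h)
    dsimp only at hy
    have h1 : y * s * y⁻¹ = s' := by
      rw [← hpow s (hSV s hS) _ (o s c).2.1 (hm.1 (o s c).2.2), ← conj_pow, hy,
        hpow s' (hSV s' hS') _ (o s' c').2.1 (hm.1 (o s' c').2.2)]
    have h2 : y * o s c * y⁻¹ = o s' c' := by
      refine mul_left_cancel (a := s') ?_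
      rw [← hy, ← h1]; group
    obtain ⟨w, hw, u, hu, rfl⟩ := Subgroup.mem_sup_of_normal_left.1 (hs.ge (Subgroup.mem_top y))
    have h3 : u * s * u⁻¹ = s' := by
      have := hab w hw _ (‹V.Normal›.conj_mem s (hSV s hS) u)
      rw [← h1]
      calc u * s * u⁻¹ = u * s * u⁻¹ * w * w⁻¹ := by group
        _ = _ := by rw [← this]; group
    obtain rfl : s = s' := (hrep s (hSV s hS)).unique ⟨hS, 1, one_mem _, by group⟩ ⟨hS', u, hu, h3⟩
    have h4 : u * o s c * u⁻¹ = o s c' := by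
      have a1 : (o s c' : X) * (u * o s c * u⁻¹)⁻¹ ∈ G :=
        mul_mem (o s c').2.1 (inv_mem (mul_mem (mul_mem hu (o s c).2.1) (inv_mem hu)))
      have a2 : (o s c' : X) * (u * o s c * u⁻¹)⁻¹ ∈ V := by
        have := mul_mem hw (‹V.Normal›.conj_mem _ (inv_mem hw) (u * o s c * u⁻¹))
        rw [← h2]; convert this using 1; group
      exact (mul_inv_eq_one.1 (hd _ a2 a1)).symm
    have h5 : c = c' := by
      rw [← ho s c, ← ho s c', ConjClasses.mk_eq_mk_iff_isConj]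
      exact isConj_iff.2 ⟨⟨u, hu, hm.2 (mul_inv_eq_iff_eq_mul.1 h3)⟩, Subtype.ext h4⟩
    rw [h5]
  · obtain ⟨x, rfl⟩ := C.exists_rep
    obtain ⟨k, hk, t, ht, rfl⟩ := Subgroup.mem_sup_of_normal_left.1 (hs.ge (Subgroup.mem_top x))
    obtain ⟨x, hx, h⟩ := rel_h1 (N := ⊥) (K := V) (t := t) (by rw [Subgroup.normalizer_eq_top]; trivial)
      (by rw [Subgroup.relIndex_bot_left]
          exact hcop.symm.coprime_dvd_left (Subgroup.orderOf_dvd_natCard G ht)) hk
    have hc : x * (k * t) * x⁻¹ * t⁻¹ ∈ V := by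
      have := mul_mem (mul_mem hx hk) (‹V.Normal›.conj_mem _ (inv_mem hx) t)
      convert this using 1; group
    have h1 : x * (k * t) * x⁻¹ = x * (k * t) * x⁻¹ * t⁻¹ * t := by group
    generalize x * (k * t) * x⁻¹ * t⁻¹ = c at h hc h1
    have h2 : t * c = c * t := mul_inv_eq_iff_eq_mul.1 (mul_inv_eq_one.1 (Subgroup.mem_bot.1 h))
    obtain ⟨s, ⟨hS, u, hu, rfl⟩, -⟩ := hrep c hc
    let a : ↥(G ⊓ Subgroup.centralizer ({u * c * u⁻¹} : Set X)) :=
      ⟨u * t * u⁻¹, G.mul_mem (G.mul_mem hu ht) (G.inv_mem hu), hm.2 (by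
        calc u * t * u⁻¹ * (u * c * u⁻¹) = u * (t * c) * u⁻¹ := by group
          _ = _ := by rw [h2]; group)⟩
    refine ⟨⟨⟨_, hS⟩, ConjClasses.mk a⟩, ConjClasses.mk_eq_mk_iff_isConj.2 (IsConj.symm ?_)⟩
    obtain ⟨b, hb⟩ := isConj_iff.1 (ConjClasses.mk_eq_mk_iff_isConj.1 (ho _ (ConjClasses.mk a)).symm)
    refine isConj_iff.2 ⟨b * u * x, ?_⟩
    dsimp only
    rw [← hb]
    have h3 := hm.1 b.2.2
    calc b * u * x * (k * t) * (b * u * x)⁻¹ = b * u * (x * (k * t) * x⁻¹) * u⁻¹ * (b : X)⁻¹ := by group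
      _ = b * (u * c * u⁻¹) * (u * t * u⁻¹) * (b : X)⁻¹ := by rw [h1]; group
      _ = _ := by rw [h3]; change _ = _ * ((b : X) * (u * t * u⁻¹) * (b : X)⁻¹); group

end Cfsg.Agent.S4956
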