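import Cfsg.Statements.S4964
import Cfsg.Agent.H4.Dom

set_option autoImplicit false
open Cfsg

namespace Cfsg.Agent.S4964

open CfsgH4 CfsgH3 CfsgH2 MonoidAlgebra

/-- Let D be a normal p-subgroup of the finite group G, let D′ be its commutator subgroup (normal in G), and fix a maximal ideal M of the algebraic integers containing p. Then (i) two irreducible characters of G ⧸ D′ lie in the same p-block if and only if their inflations to G do, and (ii) every p-block of G contains the inflation of some irreducible character of G ⧸ D′; so inflation induces a bijection between the p-blocks of G ⧸ D′ and the p-blocks of G. -/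
theorem result {G : Type*} [Group G] [Finite G] (p : ℕ) [Fact p.Prime] (M : Ideal Cfsg.AlgInt) (hM : Cfsg.IsPModular p M) (D : Subgroup G) [D.Normal] (hD : IsPGroup p D) : (∀ χ ψ : Cfsg.IrrCharacter (G ⧸ ⁅D, D⁆), Cfsg.SameBlock M (χ : G ⧸ ⁅D, D⁆ → ℂ) (ψ : G ⧸ ⁅D, D⁆ → ℂ) ↔ Cfsg.SameBlock M ((χ : G ⧸ ⁅D, D⁆ → ℂ) ∘ QuotientGroup.mk) ((ψ : G ⧸ ⁅D, D⁆ → ℂ) ∘ QuotientGroup.mk)) ∧ ∀ B : Set (Cfsg.IrrCharacter G), Cfsg.IsPBlock M B → ∃ χ : Cfsg.IrrCharacter (G ⧸ ⁅D, D⁆), ∃ θ ∈ B, (θ : G → ℂ) = (χ : G ⧸ ⁅D, D⁆ → ℂ) ∘ QuotientGroup.mk := by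
  have := hM.2.1
  have := charP_of_isPModular hM
  have := Fintype.ofFinite G
  have hle : ⁅D, D⁆ ≤ D := Subgroup.commutator_le_left D D
  have hP : IsPGroup p (⁅D, D⁆ : Subgroup G) := hD.to_le hle
  refine ⟨fun χ ψ => sameBlock_infl_iff hP fun x hx h => ?_, fun B hB => ?_⟩
  · have h1 := mem_of_coeff_ne_zero (mem_Supp_centralizer_of_idem (Q := D.map (QuotientGroup.mk' _))
      le_top (Subgroup.normalizer_eq_top _).ge (hD.map _) (bId_mem _)
      (isPrim_bId (isPBlock_blockOf χ)).idem) h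
    have := hD.isNilpotent
    have h2 : D ≤ Subgroup.centralizer (Subgroup.zpowers x : Set G) := by
      refine CfsgH1.le_centralizer_of_commutator_le_frattini
        (le_top.trans (Subgroup.normalizer_eq_top D).ge) ?_ ?_
      · obtain ⟨k, hk⟩ := IsPGroup.iff_card.1 (hD.to_subgroup (frattini D))
        rw [hk, Nat.card_zpowers]
        exact ((Nat.Prime.coprime_iff_not_dvd Fact.out).2 hx).symm.pow_right _
      · refine le_trans ?_ (show ⁅D, D⁆ ≤ _ from ?_)
        · rw [Subgroup.commutator_le]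
          rintro d hd _ ⟨n, rfl⟩
          rw [← QuotientGroup.eq_one_iff, ← QuotientGroup.mk'_apply, map_commutatorElement,
            commutatorElement_eq_one_iff_commute, map_zpow]
          exact Commute.zpow_right (Subgroup.mem_centralizer_iff.1 h1 _ ⟨d, hd, rfl⟩) n
        · rw [← Subgroup.map_subtype_commutator]
          exact Subgroup.map_mono CfsgH1.commutator_le_frattini_of_nilpotent
    exact Subgroup.centralizer_le hle
      (Subgroup.le_centralizer_iff.1 h2 (Subgroup.mem_zpowers x))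
  · obtain ⟨χ, h⟩ := exists_infl_mem hP hB
    exact ⟨χ, _, h, rfl⟩

end Cfsg.Agent.S4964
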