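import Cfsg.Statements.S4965
import Cfsg.Agent.H4.Deg

set_option autoImplicit false
open Cfsg

namespace Cfsg.Agent.S4965

open CfsgH4 CfsgH3 CfsgH2 MonoidAlgebra

/-- Let X be a finite group with an abelian normal subgroup V (any two elements of V commute), and let φ be the action of X ⧸ V on V induced by conjugation (well defined because V is abelian; the hypothesis hφ says that the class of x acts as conjugation by x). Then X has at most as many conjugacy classes as the semidirect product of V by X ⧸ V formed with this action: the split extension has the largest class number among extensions with the given action. -/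
theorem result {X : Type*} [Group X] [Finite X] (V : Subgroup X) [V.Normal] (hab : ∀ a ∈ V, ∀ b ∈ V, a * b = b * a) (φ : X ⧸ V →* MulAut ↥V) (hφ : ∀ (x : X) (v : ↥V), ((φ (QuotientGroup.mk x) v : ↥V) : X) = x * v * x⁻¹) : Nat.card (ConjClasses X) ≤ Nat.card (ConjClasses (SemidirectProduct ↥V (X ⧸ V) φ)) := by
  classical
  have key : ∀ q : (X ⧸ V) × (X ⧸ V), ∃ r : X × X,
      (∃ s : X × X, Commute s.1 s.2 ∧ (s.1 : X ⧸ V) = q.1 ∧ (s.2 : X ⧸ V) = q.2) →
      Commute r.1 r.2 ∧ (r.1 : X ⧸ V) = q.1 ∧ (r.2 : X ⧸ V) = q.2 := fun q =>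
    ⟨Classical.epsilon _, Classical.epsilon_spec⟩
  choose r hr using key
  have hm : ∀ x y : X, (y : X ⧸ V) = x → x * y⁻¹ ∈ V := fun x y h => by
    rw [← QuotientGroup.eq_one_iff, QuotientGroup.mk_mul, QuotientGroup.mk_inv, h, mul_inv_cancel]
  have h1 : ∀ s : {s : X × X // Commute s.1 s.2},
      ∃ z : {z : SemidirectProduct V (X ⧸ V) φ × SemidirectProduct V (X ⧸ V) φ // Commute z.1 z.2},
        z.1.1.right = s.1.1 ∧ z.1.2.right = s.1.2 ∧
        (z.1.1.left : X) = s.1.1 * (r (s.1.1, s.1.2)).1⁻¹ ∧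
        (z.1.2.left : X) = s.1.2 * (r (s.1.1, s.1.2)).2⁻¹ := by
    rintro ⟨⟨x, y⟩, hc⟩
    obtain ⟨h0, h2, h3⟩ := hr (x, y) ⟨(x, y), hc, rfl, rfl⟩
    generalize r (x, y) = t at h0 h2 h3 ⊢
    obtain ⟨a, b⟩ := t
    refine ⟨⟨(⟨⟨_, hm x a h2⟩, x⟩, ⟨⟨_, hm y b h3⟩, y⟩), SemidirectProduct.ext (Subtype.ext ?_) ?_⟩,
      rfl, rfl, rfl, rfl⟩
    · dsimp only at h0 h2 h3 hc
      simp only [SemidirectProduct.mul_left, Subgroup.coe_mul]
      rw [← h2, ← h3, hφ, hφ]
      calc x * a⁻¹ * (a * (y * b⁻¹) * a⁻¹) = x * y * (a * b)⁻¹ := by group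
        _ = y * x * (b * a)⁻¹ := by rw [hc.eq, h0.eq]
        _ = _ := by group
    · simp only [SemidirectProduct.mul_right, ← QuotientGroup.mk_mul]
      exact congrArg _ hc.eq
  choose f hf using h1
  have : Finite (SemidirectProduct V (X ⧸ V) φ) := Finite.of_equiv _ SemidirectProduct.equivProd.symm
  have h2 := Nat.card_le_card_of_injective f fun s t e => by
    obtain ⟨a1, a2, a3, a4⟩ := hf s
    obtain ⟨b1, b2, b3, b4⟩ := hf t
    rw [e] at a1 a2 a3 a4
    rw [← a1, ← a2, b3, ← b1, ← b2] at a3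
    rw [← a1, ← a2, b4, ← b1, ← b2] at a4
    exact Subtype.ext (Prod.ext (mul_right_cancel a3).symm (mul_right_cancel a4).symm)
  rw [card_comm_eq_card_conjClasses_mul_card, card_comm_eq_card_conjClasses_mul_card,
    SemidirectProduct.card, mul_comm (Nat.card V), ← Subgroup.card_eq_card_quotient_mul_card_subgroup] at h2
  exact Nat.le_of_mul_le_mul_right h2 Nat.card_pos

end Cfsg.Agent.S4965
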