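import Cfsg.Statements.S4989
import Cfsg.Agent.H4.Ord4

set_option autoImplicit false
open Cfsg

namespace Cfsg.Agent.S4989

open CfsgH4 CfsgH3

/-- Let H be a subgroup of the finite group G and χ an irreducible complex character of G. Then the inner product of the restriction of χ to H with itself, (1/#H)·Σ_{h ∈ H} |χ(h)|², is at most 1 + #(Z ∖ H)/#H, where Z is the set of zeros of χ in G. -/
theorem result {G : Type*} [Group G] [Finite G] (H : Subgroup G) (χ : Cfsg.IrrCharacter G) : (Nat.card ↥H : ℝ)⁻¹ * ∑ᶠ h : ↥H, ‖(χ : G → ℂ) h‖ ^ 2 ≤ 1 + (Set.ncard ({x : G | (χ : G → ℂ) x = 0} \ (H : Set G)) : ℝ) / (Nat.card ↥H : ℝ) := by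
  classical
  have := Fintype.ofFinite G
  let S := Finset.univ.filter fun g => χ.1 g ≠ 0 ∧ g ∉ H
  let V := Finset.univ.filter fun g => χ.1 g = 0 ∧ g ∉ H
  have split : ∀ f : G → ℝ, ∑ g, f g = ∑ g : H, f g + ∑ g ∈ V, f g + ∑ g ∈ S, f g := by
    intro f
    rw [← Finset.sum_subtype (Finset.univ.filter (· ∈ H)) (by simp)]
    simp only [S, V, Finset.sum_filter, ← Finset.sum_add_distrib]
    refine Finset.sum_congr rfl fun g _ => ?_
    by_cases a : χ.1 g = 0 <;> by_cases b : g ∈ H <;> simp [a, b]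
  have h1 := split fun _ => 1
  have h2 := split fun g => ‖χ.1 g‖ ^ 2
  rw [sum_normSq_irr χ.2,
    Finset.sum_eq_zero fun g (hg : g ∈ V) => by rw [(Finset.mem_filter.1 hg).2.1]; simp] at h2
  simp only [Finset.sum_const, nsmul_eq_mul, mul_one, Finset.card_univ, ← Nat.card_eq_fintype_card] at h1
  have h3 := card_le_sum_normSq χ.2.isGen S (fun g hg k hk => by
    simp only [S, Finset.mem_filter, Finset.mem_univ, true_and] at hg ⊢
    exact ⟨mt (apply_pow_eq_zero_iff χ.2.isGen hk g).1 hg.1,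
      mt (pow_mem_iff_of_coprime hk).1 hg.2⟩) fun g hg => (Finset.mem_filter.1 hg).2.1
  have h0 : (0 : ℝ) < Nat.card H := by exact_mod_cast Nat.card_pos
  rw [finsum_eq_sum_of_fintype, show {x : G | χ.1 x = 0} \ (H : Set G) = V by ext; simp [V],
    Set.ncard_coe_finset, inv_mul_le_iff₀ h0, mul_add, mul_div_cancel₀ _ h0.ne']
  linarith

end Cfsg.Agent.S4989
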