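import Cfsg.Statements.S4996
import Cfsg.Agent.H4.Ord4

set_option autoImplicit false
open Cfsg

namespace Cfsg.Agent.S4996

open CfsgH4 CfsgH3

/-- Let N be a normal subgroup of the finite group G and χ an irreducible complex character of G. Then the restriction of χ to N is not irreducible if and only if χ vanishes on some whole coset Nx of N in G. -/
theorem result {G : Type*} [Group G] [Finite G] (N : Subgroup G) [N.Normal] (χ : Cfsg.IrrCharacter G) : ¬ Cfsg.IsIrrCharacter ↥N (fun n : ↥N => (χ : G → ℂ) n) ↔ ∃ x : G, ∀ n : ↥N, (χ : G → ℂ) ((n : G) * x) = 0 := by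
  classical
  have := Fintype.ofFinite G
  have := Fintype.ofFinite N
  have hf := isChar_navg (N := N) (χ.2.isChar.mul χ.2.isChar.conj_char)
  have e : ∀ x, navg N (χ.1 * fun g => (starRingEnd ℂ) (χ.1 g)) x =
      (((Nat.card N : ℝ)⁻¹ * ∑ n : N, ‖χ.1 (n * x)‖ ^ 2 : ℝ) : ℂ) := fun x => by
    simp only [navg, Pi.mul_apply, Complex.mul_conj']; push_cast; rfl
  have h0 : (0 : ℝ) < Nat.card N := by exact_mod_cast Nat.card_pos
  constructor
  · intro h
    by_contra! h1
    set f := navg N (χ.1 * fun g => (starRingEnd ℂ) (χ.1 g))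
    have f0 : ∀ x, f x ≠ 0 := fun x => by
      obtain ⟨n, hn⟩ := h1 x
      rw [e, Complex.ofReal_ne_zero]
      exact (mul_pos (inv_pos.2 h0) (Finset.sum_pos' (f := fun n : N => ‖χ.1 (n * x)‖ ^ 2)
        (fun _ _ => sq_nonneg _) ⟨n, Finset.mem_univ _, pow_pos (norm_pos_iff.2 hn) 2⟩)).ne'
    have f1 : ∑ x, ‖f x‖ = Nat.card G := by
      have : ∀ x, ‖f x‖ = (Nat.card N : ℝ)⁻¹ * ∑ n : N, ‖χ.1 (n * x)‖ ^ 2 := fun x => by
        rw [e, Complex.norm_real, Real.norm_of_nonneg (by positivity)]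
      simp only [this]
      have h2 : ∀ n : N, ∑ x, ‖χ.1 (n * x)‖ ^ 2 = Nat.card G := fun n =>
        (Equiv.sum_comp (Equiv.mulLeft (n : G)) fun g => ‖χ.1 g‖ ^ 2).trans (sum_normSq_irr χ.2)
      rw [← Finset.mul_sum, Finset.sum_comm, Finset.sum_congr rfl fun n _ => h2 n,
        Finset.sum_const, Finset.card_univ, ← Nat.card_eq_fintype_card, nsmul_eq_mul,
        inv_mul_cancel_left₀ h0.ne']
    have f2 := card_le_sum_norm hf.isGen (Finset.univ.erase 1) (fun g hg k hk => by
      simp only [Finset.mem_erase, Finset.mem_univ, and_true] at hg ⊢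
      exact fun h => hg (Subgroup.mem_bot.1 ((pow_mem_iff_of_coprime hk).1 h))) fun g _ => f0 g
    rw [← Finset.add_sum_erase _ _ (Finset.mem_univ 1)] at f1
    rw [Finset.card_erase_of_mem (Finset.mem_univ _), Finset.card_univ, ← Nat.card_eq_fintype_card,
      Nat.cast_sub Nat.card_pos] at f2
    obtain ⟨m, hm⟩ := hf.exists_deg
    have f3 : f 1 = classInner (fun n : N => χ.1 n) (fun n : N => χ.1 n) := by simp [f, navg, classInner]
    have f4 := f0 1
    rw [hm, Complex.norm_natCast] at f1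
    have f5 : m ≤ 1 := by exact_mod_cast (by push_cast at f2; linarith : (m : ℝ) ≤ 1)
    rw [hm, Nat.cast_ne_zero] at f4
    exact h ((χ.2.isChar.restrict N).irr_of_inner_eq_one (by
      rw [← f3, hm, show m = 1 by omega, Nat.cast_one]))
  · rintro ⟨x, hx⟩ h
    have := congrFun (navg_mul_conj χ.2.isChar h) x
    simp [e, hx] at this

end Cfsg.Agent.S4996
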