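import Cfsg.Statements.S5001
import Cfsg.Agent.H4.DC2

set_option autoImplicit false
open Cfsg

namespace Cfsg.Agent.S5001

open CfsgH4 CfsgH3 CfsgH2 MonoidAlgebra

/-- Let p be a prime, G a finite group and B a p-block of G (relative to a maximal ideal M of the algebraic integers containing p) with defect group D. Let Z be a central p-subgroup of G contained in D and λ a linear character of Z (a homomorphism to the nonzero complex numbers). Say an irreducible character χ of G lies over λ when χ(z) = χ(1)λ(z) for all z ∈ Z. If some irreducible character in B lying over λ has height zero, then λ extends to a linear character of D. -/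
theorem result {G : Type*} [Group G] [Finite G] (p : ℕ) [Fact p.Prime] (M : Ideal Cfsg.AlgInt) (hM : Cfsg.IsPModular p M) (B : Set (Cfsg.IrrCharacter G)) (hB : Cfsg.IsPBlock M B) (D : Subgroup G) (hD : Cfsg.IsDefectGroup p M B D) (Z : Subgroup G) (hZc : Z ≤ Subgroup.center G) (hZp : IsPGroup p ↥Z) (hZD : Z ≤ D) (lam : ↥Z →* ℂˣ) (χ : Cfsg.IrrCharacter G) (hχ : χ ∈ B) (hover : (∀ z : ↥Z, (χ : G → ℂ) z = (χ : G → ℂ) 1 * (lam z : ℂ))) (h0 : Cfsg.blockHeight p B (χ : G → ℂ) = 0) : (∃ μ : ↥D →* ℂˣ, ∀ z : ↥Z, μ ⟨(z : G), hZD z.2⟩ = lam z) := by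
  have := hM.2.1
  have := charP_of_isPModular hM
  obtain ⟨e, -, h⟩ := exists_mp_blk hB ((isDefectGroup_iff hB).1 hD)
  obtain ⟨b, h1, h2, h3⟩ := exists_DC_block hB h
  have := Fintype.ofFinite (D ⊔ Subgroup.centralizer (D : Set G) : Subgroup G)
  obtain ⟨ξ, h4, h5, h6⟩ := ((unitOn_res h2 χ.2.classFun (irr_mem_Loc χ)).2
    ((unitOn_irr hB).2 ⟨hχ, h0⟩)).exists_constituent h2.1 ((LC.irr χ).res _)
  have hG := DC_subgroupOf (le_sup_left : D ≤ D ⊔ Subgroup.centralizer (D : Set G)) le_rfl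
  obtain ⟨ζ, hζ⟩ := exists_fac' hG ξ
  have h7 := (height_eq_zero_iff_DC hG h2.1 ((isDef_subgroupOf_iff le_sup_left).2 (h1 ▸ h3))
    h4 hζ).1 h5
  obtain ⟨μ, hμ⟩ := ζ.2.isChar.exists_hom_of_deg_one h7
  refine ⟨μ.comp (Subgroup.subgroupOfEquivOfLe le_sup_left).symm.toMonoidHom, fun z => ?_⟩
  let y : (D ⊔ Subgroup.centralizer (D : Set G) : Subgroup G) :=
    ⟨z, Subgroup.mem_sup_left (hZD z.2)⟩
  have h8 := congrFun (shf_of_constituent (z := y) (ω := lam z) (Subgroup.mem_center_iff.2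
    fun g => Subtype.ext (Subgroup.mem_center_iff.1 (hZc z.2) g))
    (funext fun g => congrFun (shf_irr_of_apply (hZc z.2) (hover z)) g)
    (fun a => h6 (by rw [a, red_zero]))) 1
  have h9 := hζ.apply ⟨y, hZD z.2⟩
  rw [shf_apply, mul_one, Pi.smul_apply, smul_eq_mul] at h8
  rw [h7, div_one, h8, hμ] at h9
  exact Units.ext (mul_right_cancel₀ ξ.2.one_ne_zero h9).symm

end Cfsg.Agent.S5001
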