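import Cfsg.Statements.S5011
import Cfsg.Agent.H4.Ord4

set_option autoImplicit false
open Cfsg

namespace Cfsg.Agent.S5011

open CfsgH4 CfsgH3

/-- Let G be a finite non-abelian simple group and ρ an irreducible complex representation of G on a space of dimension greater than one (irreducible in the sense that the only subspaces invariant under every ρ(x) are 0 and the whole space). Then for every non-identity element g of G, the centralizer of g does not act irreducibly: there is a non-zero proper subspace invariant under ρ(c) for every c commuting with g. -/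
theorem result {G : Type*} [Group G] [Finite G] [IsSimpleGroup G]
    (hG : ¬ IsMulCommutative G) {V : Type*} [AddCommGroup V] [Module ℂ V] [FiniteDimensional ℂ V]
    (ρ : Representation ℂ G V)
    (hirr : ∀ W : Submodule ℂ V, (∀ x : G, ∀ v ∈ W, ρ x v ∈ W) → W = ⊥ ∨ W = ⊤)
    (hdim : 1 < Module.finrank ℂ V) (g : G) (hg : g ≠ 1) :
    ∃ W : Submodule ℂ V, W ≠ ⊥ ∧ W ≠ ⊤ ∧ ∀ c ∈ Subgroup.centralizer ({g} : Set G), ∀ v ∈ W, ρ c v ∈ W := by
  by_contra! h
  have : Nontrivial V := Module.nontrivial_of_finrank_pos (R := ℂ) (by omega)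
  have := irreducible_of_forall ρ hirr
  have := irreducible_of_forall (ρ.comp (Subgroup.centralizer ({g} : Set G)).subtype) fun U hU =>
    by_contra fun e => by
      obtain ⟨c, a, v, b, d⟩ := h U (not_or.1 e).1 (not_or.1 e).2
      exact d (hU ⟨c, a⟩ v b)
  obtain ⟨c, hc⟩ := exists_scalar_of_commute (ρ.comp (Subgroup.centralizer ({g} : Set G)).subtype) (ρ g)
    fun x => (map_mul ρ g x).symm.trans ((congrArg ρ (x.2 g rfl)).trans (map_mul ρ (x : G) g))
  rcases (MonoidHom.normal_ker ρ).eq_bot_or_eq_top with e | e
  · refine hG ⟨⟨comm_of_simple_of_center hg (Subgroup.mem_center_iff.2 fun x =>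
      (MonoidHom.ker_eq_bot_iff _).1 e ?_)⟩⟩
    rw [map_mul, map_mul, hc]; ext; simp
  · have := congrFun ((isIrr_rep ρ).eq_one_of_ker_top fun x =>
      (character_eq_one_iff_mem_ker ρ x).2 (e.ge trivial)) 1
    rw [Representation.char_one, Nat.cast_eq_one] at this
    omega

end Cfsg.Agent.S5011
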