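import Cfsg.Statements.S5012
import Mathlib
import Cfsg.Agent.H8.Loc5
import Cfsg.Agent.S0906
import Cfsg.Agent.S0908
import Cfsg.Agent.S0955
import Cfsg.Agent.S0956

set_option autoImplicit false
open Cfsg

namespace Cfsg.Agent.S5012

open CfsgH8 CfsgH2 Subgroup

/-- Let G be a finite simple group of Lie type in characteristic p. Then every p-block of G has defect zero or full defect: its defect is 0 or the exponent of p in the order of G (its defect groups are trivial or Sylow p-subgroups). -/
theorem result {G : Type*} [Group G] [Finite G] (p : ℕ) [Fact p.Prime] (hG : Cfsg.IsLieTypeChar p G) (M : Ideal Cfsg.AlgInt) (hM : Cfsg.IsPModular p M) (B : Set (Cfsg.IrrCharacter G)) (hB : Cfsg.IsPBlock M B) : Cfsg.blockDefect p B = 0 ∨ Cfsg.blockDefect p B = (Nat.card G).factorization p := by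
  have hp : p.Prime := Fact.out
  obtain ⟨g, hg⟩ := Cfsg.Agent.S0906.result p M hM B hB
  obtain ⟨S⟩ : Nonempty (Sylow p (centralizer ({g} : Set G))) := inferInstance
  have hD : IsDefectGroup p M B _ := ⟨g, hg, S, rfl⟩
  have hDp := (IsSylowIn.of_sylow_map S).pgroup
  generalize (S : Subgroup (centralizer ({g} : Set G))).map (centralizer ({g} : Set G)).subtype = D
    at hD hDp
  have h1 := Cfsg.Agent.S0908.result p M hM B hB D hD
  by_cases h0 : D = ⊥
  · left
    rw [h0, card_bot, eq_comm, Nat.pow_eq_one] at h1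
    exact h1.resolve_left hp.one_lt.ne'
  right
  have h2 : pCoreOf p (normalizer (D : Set G)) = D := Cfsg.Agent.S0955.result p M hM B hB D hD
  obtain ⟨P, hP⟩ := hDp.exists_le_sylow
  obtain ⟨x, hx, ⟨T, hT⟩, h3⟩ := Cfsg.Agent.S0956.result p M hM B hB D hD P hP
  have h4 := (loc_of_lie hG).l D hDp h0
  rw [ChP, h2] at h4
  have h5 : x ∈ centralizer (D : Set G) := fun d hd => by
    have : d ∈ centralizer ({x} : Set G) := (IsSylowIn.of_sylow_map T).le (hT ▸ hd)
    exact (this x rfl).symm
  have h6 : x = 1 := eq_one_of_mem_pgroup_of_coprime hDp (h4 ⟨centralizer_le_normalizer _ h5, h5⟩)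
    ((Nat.Prime.coprime_iff_not_dvd hp).2 hx).symm
  rw [h6, cj_def, cj_one, inf_idem] at h3
  rw [← h3, P.card_eq_multiplicity] at h1
  exact (Nat.pow_right_injective hp.two_le h1).symm

end Cfsg.Agent.S5012
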