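import Cfsg.Statements.S5015
import Cfsg.Agent.H6.Rk2

set_option autoImplicit false
open Cfsg

namespace Cfsg.Agent.S5015

open CfsgH6 CfsgH6.Rk

/-- Let a group Y act doubly transitively on a set Ω with at least three points, and suppose that the stabilizer of a point α contains a nilpotent subgroup A, normalized by that stabilizer, which acts regularly on the points other than α. Then for any y in Y moving α, the subgroups A and y A y⁻¹ are the unipotent subgroups of a rank one group, and the normal closure of A in Y (the subgroup generated by all conjugates of A) is generated by A and y A y⁻¹ alone. -/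
theorem result {Y Ω : Type*} [Group Y] [MulAction Y Ω]
    (h2 : MulAction.IsMultiplyPretransitive Y Ω 2) (hΩ : 3 ≤ ENat.card Ω) (α : Ω) (A : Subgroup Y)
    (hA : A ≤ MulAction.stabilizer Y α) (hAn : ∀ y ∈ MulAction.stabilizer Y α, Cfsg.conjBy A y = A)
    (hnil : Group.IsNilpotent A) (hreg : ∀ β γ : Ω, β ≠ α → γ ≠ α → ∃! a : Y, a ∈ A ∧ a • β = γ)
    (y : Y) (hy : y ∉ MulAction.stabilizer Y α) :
    Cfsg.IsRankOnePair A (Cfsg.conjBy A y) ∧ Subgroup.normalClosure (A : Set Y) = A ⊔ Cfsg.conjBy A y := by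
  have hfix : ∀ g : Y, ∀ x ∈ conjBy A g, x • (g • α) = g • α := by
    intro g x hx
    have := hA (mem_cb.1 hx)
    rw [MulAction.mem_stabilizer_iff, mul_smul, mul_smul, inv_smul_eq_iff] at this
    exact this
  have hreg' : ∀ g : Y, ∀ β γ : Ω, β ≠ g • α → γ ≠ g • α → ∃! x : Y, x ∈ conjBy A g ∧ x • β = γ := by
    intro g β γ hβ hγ
    obtain ⟨a, ⟨ha, e⟩, hu⟩ := hreg (g⁻¹ • β) (g⁻¹ • γ) (fun e => hβ (by rw [← e]; simp)) (fun e => hγ (by rw [← e]; simp))
    refine ⟨g * a * g⁻¹, ⟨cb_mem ha g, by rw [mul_smul, mul_smul, e]; simp⟩, fun x hx => ?_⟩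
    have := hu (g⁻¹ * x * g) ⟨mem_cb.1 hx.1, by rw [mul_smul, mul_smul, smul_inv_smul, hx.2]⟩
    rw [← this]; group
  have heq : ∀ g g' : Y, g • α = g' • α → conjBy A g = conjBy A g' := by
    intro g g' e
    have := hAn (g'⁻¹ * g) (by rw [MulAction.mem_stabilizer_iff, mul_smul, e]; simp)
    conv_rhs => rw [← this]
    rw [cb_cb]; simp
  have hcond : ∀ g g' : Y, g • α ≠ g' • α → RankOneCondition (conjBy A g) (conjBy A g') := by
    intro g g' hne
    rw [cond_iff]
    intro a ha h1
    have h2 : a • (g' • α) ≠ g' • α := by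
      intro e
      obtain ⟨x, -, hu⟩ := hreg' g (g' • α) (g' • α) hne.symm hne.symm
      exact h1 ((hu a ⟨ha, e⟩).trans (hu 1 ⟨Subgroup.one_mem _, one_smul _ _⟩).symm)
    obtain ⟨b, ⟨hb, e⟩, -⟩ := hreg' g' (g • α) (a • g' • α) hne h2
    refine ⟨b, hb, ?_, ?_⟩
    · rintro rfl
      rw [one_smul] at e
      have := hfix g a ha
      rw [e] at this
      apply hne
      rw [e]
      have h3 := smul_left_cancel a this
      exact absurd h3 h2
    · rw [cb_cb, cb_cb]; apply heq; rw [mul_smul, mul_smul, e]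
  have hy' : (1 : Y) • α ≠ y • α := by
    rw [one_smul]; exact fun e => hy e.symm
  have h3 : ∃ γ : Ω, γ ≠ α ∧ γ ≠ y • α := by
    by_contra hc
    push Not at hc
    have : ENat.card Ω ≤ 2 := by
      have h4 : (Set.univ : Set Ω) ⊆ {α, y • α} := fun γ _ => by
        by_cases h : γ = α
        · exact Or.inl h
        · exact Or.inr (hc γ h)
      have h5 := Set.encard_le_encard h4
      rw [Set.encard_univ] at h5
      refine h5.trans ((Set.encard_insert_le _ _).trans ?_)
      rw [Set.encard_singleton]; rfl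
    exact absurd (hΩ.trans this) (by decide)
  refine ⟨⟨fun e => ?_, hnil, cb_nilp hnil y, by simpa using hcond 1 y hy', by simpa using hcond y 1 hy'.symm⟩, ?_⟩
  · obtain ⟨γ, h4, h5⟩ := h3
    obtain ⟨a, ⟨ha, e2⟩, -⟩ := hreg (y • α) γ (fun e => hy e) h4
    rw [e] at ha
    exact h5 (by rw [← e2, hfix y a ha])
  · apply le_antisymm
    · rw [Subgroup.normalClosure, Subgroup.closure_le]
      intro x hx
      obtain ⟨a, ha, hc⟩ := Group.mem_conjugatesOfSet_iff.1 hx
      obtain ⟨c, rfl⟩ := isConj_iff.1 hc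
      have hm := cb_mem ha c
      by_cases h4 : c • α = α
      · rw [hAn c h4] at hm; exact Subgroup.mem_sup_left hm
      · obtain ⟨a', ⟨ha', e⟩, -⟩ := hreg (y • α) (c • α) (fun e => hy e) h4
        rw [heq c (a' * y) (by rw [mul_smul, e]), ← cb_cb] at hm
        exact cb_le le_sup_right (Subgroup.mem_sup_left ha') hm
    · refine sup_le Subgroup.le_normalClosure ?_
      have := cb_mono (Subgroup.le_normalClosure (H := A)) y
      rwa [cb_normal (N := Subgroup.normalClosure (A : Set Y))] at this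

end Cfsg.Agent.S5015
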