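import Cfsg.Statements.S5018
import Cfsg.Agent.H6.Rk2

set_option autoImplicit false
open Cfsg

namespace Cfsg.Agent.S5018

open CfsgH6 CfsgH6.Rk

/-- A rank one group is not nilpotent, and its second centre equals its centre. -/
theorem result {X : Type*} [Group X] {A B : Subgroup X} (h : Cfsg.IsRankOneGroup X A B) :
    Subgroup.upperCentralSeries X 2 = Subgroup.center X ∧ ¬ Group.IsNilpotent X := by
  refine ⟨r1g_Z2 h, fun hn => ?_⟩
  have h1 : Subgroup.upperCentralSeries X 1 = ⊤ :=
    Subgroup.upperCentralSeries.eq_top (b := 2) (by norm_num) (by rw [r1g_Z2 h, Subgroup.upperCentralSeries_one])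
  rw [Subgroup.upperCentralSeries_one] at h1
  refine r1_comm_ne h.2 (comm_bot_iff.2 fun a _ b _ => ?_)
  exact Subgroup.mem_center_iff.1 (h1 ▸ Subgroup.mem_top b) a

end Cfsg.Agent.S5018
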