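import Cfsg.Statements.S5020
import Cfsg.Agent.H6.Rk5

set_option autoImplicit false
open Cfsg

namespace Cfsg.Agent.S5020

open CfsgH6 CfsgH6.Rk

/-- Let X be a special rank one group with abelian unipotent subgroups A and B, and H = N(A) ∩ N(B) its diagonal subgroup. Then either A has at most three elements and X is isomorphic to SL₂(2), SL₂(3) or PSL₂(3); or X = X' A with the commutator subgroup X' quasisimple and the commutator subgroup ⁅A, H⁆ having more than three elements. -/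
theorem result {X : Type*} [Group X] {A B : Subgroup X} (h : Cfsg.IsRankOneGroup X A B)
    (hs : Cfsg.IsSpecialRankOnePair A B) (hab : Cfsg.HasAbelianUnipotents A B) :
    (ENat.card A ≤ 3 ∧ (Nonempty (X ≃* Matrix.SpecialLinearGroup (Fin 2) (ZMod 2)) ∨
        Nonempty (X ≃* Matrix.SpecialLinearGroup (Fin 2) (ZMod 3)) ∨
        Nonempty (X ≃* Matrix.ProjectiveSpecialLinearGroup (Fin 2) (ZMod 3)))) ∨
    (commutator X ⊔ A = ⊤ ∧ Cfsg.IsQuasisimple (commutator X) ∧
      3 < ENat.card ↥(⁅A, Cfsg.rankOneDiagonal A B⁆ : Subgroup X)) := by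
  by_cases hbig : 3 < ENat.card A
  · right
    have e := special_big hs hab.1 hbig
    have hA : A ≤ commutator X := by
      rw [← e]; exact Subgroup.commutator_mono le_top le_top
    have hB : B ≤ commutator X := by
      obtain ⟨x, -, e⟩ := B_mem_unip h.2
      have := cb_mono hA x
      rwa [← e, cb_normal] at this
    have ht : commutator X = ⊤ := by rw [eq_top_iff, ← h.1]; exact sup_le hA hB
    refine ⟨by rw [ht]; simp, ?_, by rwa [e]⟩
    rw [ht, CfsgLead.isQuasisimple_top]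
    exact r1g_qs h ⟨ht⟩
  left
  push Not at hbig
  refine ⟨hbig, ?_⟩
  have hfin : Finite A := ENat.card_lt_top.1 (hbig.trans_lt (by decide))
  have hc : Nat.card A ≤ 3 := by
    rw [ENat.card_eq_coe_natCard] at hbig; exact_mod_cast hbig
  obtain ⟨a, ha, ha1⟩ := ex_ne_one (r1_ne_bot h.2)
  obtain ⟨b, hb, hb1, e⟩ := r1_ex h.2 ha ha1
  have hc1 : 1 < Nat.card A := by
    rw [Finite.one_lt_card_iff_nontrivial]; exact ⟨⟨a, ha⟩, 1, fun e => ha1 (congrArg Subtype.val e)⟩
  have key : ∀ (p : ℕ) [Fact p.Prime], Nat.card A = p → ∃ φ : Matrix.SpecialLinearGroup (Fin 2) (ZMod p) →* X,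
      φ.range = ⊤ ∧ φ.ker ≤ Subgroup.center _ := by
    intro p hp hA
    have hB : Nat.card B = p := by
      obtain ⟨x, -, e⟩ := B_mem_unip h.2
      rw [e, ← hA]; exact Nat.card_congr (cbEquiv A x).symm.toEquiv
    obtain ⟨φ, h1, h2, -, -⟩ := special_hom (p := p) hs hab.1 ha ha1 hb hb1 e (fun x hx => by
      have := pow_card_eq_one' (x := (⟨x, hx⟩ : A))
      rw [hA] at this; exact congrArg Subtype.val this)
    refine ⟨φ, ?_, h2⟩
    have gen : ∀ (C : Subgroup X) (c : X), Nat.card C = p → c ∈ C → c ≠ 1 → C ≤ Subgroup.zpowers c := by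
      intro C c hC hc hc1 x hx
      have := zpowers_eq_top_of_prime_card hC (g := ⟨c, hc⟩) (fun e => hc1 (congrArg Subtype.val e))
      obtain ⟨n, hn⟩ := Subgroup.mem_zpowers_iff.1 (this ▸ Subgroup.mem_top (⟨x, hx⟩ : C))
      exact ⟨n, congrArg Subtype.val hn⟩
    rw [h1, eq_top_iff, ← h.1]
    exact sup_le ((gen A a hA ha ha1).trans (Subgroup.zpowers_le.2 (Subgroup.subset_closure (by simp))))
      ((gen B b hB hb hb1).trans (Subgroup.zpowers_le.2 (Subgroup.subset_closure (by simp))))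
  have h23 : Nat.card A = 2 ∨ Nat.card A = 3 := by omega
  rcases h23 with h2 | h3
  · left
    obtain ⟨φ, h1, h2⟩ := key 2 h2
    refine ⟨(MulEquiv.ofBijective φ ⟨?_, MonoidHom.range_eq_top.1 h1⟩).symm⟩
    rw [injective_iff_map_eq_one]
    intro x hx
    rcases sl2_center (h2 hx) with rfl | rfl
    · rfl
    · ext i j; fin_cases i <;> fin_cases j <;> rfl
  · right
    haveI : Fact (Nat.Prime 3) := ⟨by norm_num⟩
    obtain ⟨φ, h1, h2⟩ := key 3 h3
    rcases sl2_image φ h2 with ⟨⟨e⟩⟩ | ⟨⟨e⟩⟩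
    · exact Or.inl ⟨(Subgroup.topEquiv.symm.trans (MulEquiv.subgroupCongr h1.symm)).trans e⟩
    · exact Or.inr ⟨(Subgroup.topEquiv.symm.trans (MulEquiv.subgroupCongr h1.symm)).trans e⟩

end Cfsg.Agent.S5020
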