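import Cfsg.Statements.S5026
import Cfsg.Agent.H6.Rs2

set_option autoImplicit false
open Cfsg

namespace Cfsg.Agent.S5026

open CfsgH6 CfsgH6.Rk

/-- Let S be a degenerate set of abstract root subgroups of G (a set of abstract transvection groups) and let a, b be commuting non-identity elements of members of S with a b ≠ 1. Then the members of S centralizing a b are exactly those centralizing both a and b. -/
theorem result {G : Type*} [Group G] {S : Set (Subgroup G)} (hS : Cfsg.IsRootSubgroupSet S) (hdeg : Cfsg.IsDegenerateRootSet S)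
    {a b : G} (ha : a ∈ Cfsg.rootElements S) (hb : b ∈ Cfsg.rootElements S) (hab : a * b = b * a) (hab1 : a * b ≠ 1) :
    Cfsg.centralizingMembers S (Subgroup.zpowers (a * b)) =
      Cfsg.centralizingMembers S (Subgroup.zpowers a) ∩ Cfsg.centralizingMembers S (Subgroup.zpowers b) := by
  have cz : ∀ (E : Subgroup G) (x : G), E ≤ Subgroup.centralizer (Subgroup.zpowers x : Set G) ↔ ∀ e ∈ E, x * e = e * x := by
    intro E x
    constructor
    · intro h e he; exact Subgroup.mem_centralizer_iff.1 (h he) x (Subgroup.mem_zpowers x)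
    · intro h e he
      rw [Subgroup.mem_centralizer_iff]
      rintro _ ⟨n, rfl⟩
      exact (Commute.zpow_left (h e he) n)
  have key : ∀ a b : G, a ∈ rootElements S → b ∈ rootElements S → a * b = b * a → a * b ≠ 1 →
      ∀ E ∈ S, (∀ e ∈ E, a * b * e = e * (a * b)) → ∀ e ∈ E, a * e = e * a := by
    rintro a b ⟨ha1, A, hA, ha⟩ ⟨hb1, B, hB, hb⟩ hab hab1 E hE h
    rcases hS.pair A hA E hE with h1 | h1 | h1
    · exact comm_bot_iff.1 h1 a ha
    · exfalso
      have h2 : ⁅A, B⁆ = ⊥ := by
        rcases hS.pair A hA B hB with h2 | h2 | h2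
        · exact h2
        · exact absurd (r1_elt_ne h2 ha hb ha1 hab) hb1
        · exact absurd h2 (hdeg A hA B hB)
      refine hab1 (zlem hS hE h1 (a := a⁻¹) (fun x hx => ?_) h (A.inv_mem ha) (by simpa) hB (by rw [hab]; simpa using hb))
      rw [mul_assoc, ← comm_bot_iff.1 h2 x hx b hb, ← mul_assoc, comm_of (hS.commutative A hA) ha hx, mul_assoc]
    · exact absurd h1 (hdeg A hA E hE)
  ext E
  simp only [centralizingMembers, Set.mem_setOf_eq, Set.mem_inter_iff, cz]
  constructor
  · rintro ⟨hE, h⟩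
    exact ⟨⟨hE, key a b ha hb hab hab1 E hE h⟩, hE, key b a hb ha hab.symm (hab ▸ hab1) E hE (hab ▸ h)⟩
  · rintro ⟨⟨hE, h1⟩, -, h2⟩
    refine ⟨hE, fun e he => ?_⟩
    rw [mul_assoc, h2 e he, ← mul_assoc, h1 e he, mul_assoc]

end Cfsg.Agent.S5026
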