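import Cfsg.Statements.S5027
import Cfsg.Agent.H6.Rs2

set_option autoImplicit false
open Cfsg

namespace Cfsg.Agent.S5027

open CfsgH6 CfsgH6.Rk

/-- Let S be a set of abstract root subgroups of G such that every member of S has a rank one partner in S (the graph of rank one pairs on S has no isolated vertex). Then the second centre of G equals its centre. -/
theorem result {G : Type*} [Group G] {S : Set (Subgroup G)} (hS : Cfsg.IsRootSubgroupSet S)
    (hF : ∀ A ∈ S, ¬ Cfsg.IsIsolatedIn (Cfsg.FAdj S) S A) : Subgroup.upperCentralSeries G 2 = Subgroup.center G := by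
  apply le_antisymm
  · intro z hz
    rw [Subgroup.mem_center_iff]
    refine gen_ind hS (p := fun g => g * z = z * g) ?_ (by simp) ?_
    · intro A hA a ha
      by_cases h1 : a = 1
      · simp [h1]
      obtain ⟨D, hD, hAD⟩ := noniso hA (hF A hA)
      have h3 := Subgroup.mem_upperCentralSeries_succ_iff.1 hz a
      rw [Subgroup.upperCentralSeries_one, Subgroup.mem_center_iff] at h3
      have := zlem hS hD hAD (z := z * a * z⁻¹ * a⁻¹) (fun x _ => (h3 x).symm) (fun x _ => (h3 x).symm) ha h1 (hS.conj_mem A hA z)
        (by simpa using cb_mem ha z)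
      exact (commutatorElement_eq_one_iff_mul_comm.1 this).symm
    · intro x y hx hy; rw [mul_assoc, hy, ← mul_assoc, hx, mul_assoc]
  · rw [← Subgroup.upperCentralSeries_one]; exact Subgroup.upperCentralSeries_mono G (by norm_num)

end Cfsg.Agent.S5027
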