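import Cfsg.Statements.S5029
import Cfsg.Agent.H6.Rs2

set_option autoImplicit false
open Cfsg

namespace Cfsg.Agent.S5029

open CfsgH6 CfsgH6.Rk

/-- Let S be a set of abstract root subgroups of G, A ∈ S having a rank one partner in S, and B ∈ S with C = ⁅A, B⁆ ∈ S. Then the members of S contained in AC are the conjugates of A by elements of B together with C, they partition AC, the members of S inside AC partition AC so that A is a line partner of C, and for every non-identity a ∈ A the map b ↦ a⁻¹ b⁻¹ a b is an isomorphism from B onto C. -/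
theorem result {G : Type*} [Group G] {S : Set (Subgroup G)} (hS : Cfsg.IsRootSubgroupSet S)
    {A B : Subgroup G} (hA : ¬ Cfsg.IsIsolatedIn (Cfsg.FAdj S) S A) (hAS : A ∈ S) (hB : B ∈ S) (hC : ⁅A, B⁆ ∈ S) :
    Cfsg.membersIn S (A ⊔ ⁅A, B⁆) = (fun b : G => Cfsg.conjBy A b) '' (B : Set G) ∪ {⁅A, B⁆} ∧
    Cfsg.IsSubgroupPartition (A ⊔ ⁅A, B⁆) (Cfsg.membersIn S (A ⊔ ⁅A, B⁆)) ∧
    A ∈ Cfsg.linePartners S ⁅A, B⁆ ∧
    ∀ a ∈ A, a ≠ 1 → ∃ φ : ↥B ≃* ↥⁅A, B⁆, ∀ b : ↥B, (φ b : G) = a⁻¹ * (b : G)⁻¹ * a * b := by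
  obtain ⟨D, hD, hAD⟩ := noniso hAS hA
  have h := L2 hS hAS hB hC
  refine ⟨?_, h.part hS hAS hD hAD, line_symm hAS (h.line hS hAS hD hAD), fun a ha ha1 => ?_⟩
  · ext E
    rw [h.members hS hAS hD hAD]; rfl
  · have hm : ∀ b ∈ B, a⁻¹ * b⁻¹ * a * b ∈ ⁅A, B⁆ := fun b hb => by
      simpa using cm_mem (A.inv_mem ha) (B.inv_mem hb)
    let φ : B →* ↥⁅A, B⁆ := MonoidHom.mk' (fun b => ⟨a⁻¹ * (b : G)⁻¹ * a * b, hm b b.2⟩) fun b b' => by
      apply Subtype.ext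
      have h1 := cm_mul_right (a := a⁻¹) (b := (b : G)⁻¹) (b' := (b' : G)⁻¹)
        (h.cr _ (cm_mem (A.inv_mem ha) (B.inv_mem b'.2)) _ (B.inv_mem b.2))
      simp only [inv_inv] at h1
      simp only [Subgroup.coe_mul]
      rw [h1, comm_of (hS.commutative B hB) b.2 b'.2, ← mul_inv_rev (b' : G) b, inv_inv]
    refine ⟨MulEquiv.ofBijective φ ⟨?_, ?_⟩, fun b => rfl⟩
    · rw [injective_iff_map_eq_one]
      intro b hb
      have h1 : a⁻¹ * (b : G)⁻¹ * a * b = 1 := congrArg Subtype.val hb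
      refine Subtype.ext (h.inj hS hAS hD hAD ha ha1 b.2 ?_)
      calc a * b = b * a * (a⁻¹ * (b : G)⁻¹ * a * b) := by group
        _ = _ := by rw [h1, mul_one]
    · intro c
      obtain ⟨b, hb, e⟩ := h.left a⁻¹ (A.inv_mem ha) (by simpa) c c.2
      exact ⟨⟨b⁻¹, B.inv_mem hb⟩, Subtype.ext (by rw [e]; simp [φ])⟩

end Cfsg.Agent.S5029
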