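import Cfsg.Statements.S5030
import Cfsg.Agent.H6.Rs2

set_option autoImplicit false
open Cfsg

namespace Cfsg.Agent.S5030

open CfsgH6 CfsgH6.Rk

/-- Let S be a set of abstract root subgroups of G and A, B, C ∈ S with ⁅A, B⁆ ∈ S and ⁅B, C⁆ ∈ S, where A and C are different and commute. For a non-identity b ∈ B put X = ⟨A, b⁻¹ C b⟩ and Y = ⟨b⁻¹ A b, C⟩ and R = ⟨A, B, C⟩. Then X and Y are either both abelian or both nilpotent of class exactly two; X and Y commute elementwise; XY is normal in R with R = (XY) B; and R is nilpotent. -/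
theorem result {G : Type*} [Group G] {S : Set (Subgroup G)} (hS : Cfsg.IsRootSubgroupSet S)
    {A B C : Subgroup G} (hA : A ∈ S) (hB : B ∈ S) (hC : C ∈ S) (hAB : ⁅A, B⁆ ∈ S) (hBC : ⁅B, C⁆ ∈ S)
    (hAC : C ∈ Cfsg.commutingPartners S A)
    {b : G} (hb : b ∈ B) (hb1 : b ≠ 1) :
    ((IsMulCommutative ↥(A ⊔ Cfsg.conjBy C b⁻¹) ∧ IsMulCommutative ↥(Cfsg.conjBy A b⁻¹ ⊔ C)) ∨
      ((¬ IsMulCommutative ↥(A ⊔ Cfsg.conjBy C b⁻¹) ∧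
          ⁅⁅A ⊔ Cfsg.conjBy C b⁻¹, A ⊔ Cfsg.conjBy C b⁻¹⁆, A ⊔ Cfsg.conjBy C b⁻¹⁆ = ⊥) ∧
        (¬ IsMulCommutative ↥(Cfsg.conjBy A b⁻¹ ⊔ C) ∧
          ⁅⁅Cfsg.conjBy A b⁻¹ ⊔ C, Cfsg.conjBy A b⁻¹ ⊔ C⁆, Cfsg.conjBy A b⁻¹ ⊔ C⁆ = ⊥))) ∧
    ⁅A ⊔ Cfsg.conjBy C b⁻¹, Cfsg.conjBy A b⁻¹ ⊔ C⁆ = ⊥ ∧
    (∀ r ∈ A ⊔ B ⊔ C, Cfsg.conjBy ((A ⊔ Cfsg.conjBy C b⁻¹) ⊔ (Cfsg.conjBy A b⁻¹ ⊔ C)) r =
      (A ⊔ Cfsg.conjBy C b⁻¹) ⊔ (Cfsg.conjBy A b⁻¹ ⊔ C)) ∧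
    ((A ⊔ Cfsg.conjBy C b⁻¹) ⊔ (Cfsg.conjBy A b⁻¹ ⊔ C)) ⊔ B = A ⊔ B ⊔ C ∧
    Group.IsNilpotent ↥(A ⊔ B ⊔ C) := by
  have h1 := L2 hS hA hB hAB
  have h2 := (L2 hS hB hC hBC).symm
  have hAC' := hAC.2.2
  have hb' := B.inv_mem hb
  have hb1' : b⁻¹ ≠ 1 := by simpa
  have ic : ∀ {P Q : Subgroup G}, P ∈ S → Q ∈ S → (IsMulCommutative ↥(P ⊔ Q) ↔ ⁅P, Q⁆ = ⊥) := by
    intro P Q hP hQ
    constructor
    · intro h; exact comm_bot_mono (comm_self h) le_sup_left le_sup_right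
    · intro h
      exact isComm_of (comm_bot_iff.1 (comm_bot_sup (comm_bot_symm (comm_bot_sup (self_comm hS hP) h))
        (comm_bot_symm (comm_bot_sup (comm_bot_symm h) (self_comm hS hQ)))))
  have e1 : ∀ β ∈ B, β ≠ 1 → (⁅A, conjBy C β⁆ = ⊥ ↔ ⁅A, ⁅C, B⁆⁆ = ⊥) := fun β hβ hβ1 =>
    ⟨fun h => comm_bot_mono (comm_bot_sup hAC' h) le_rfl (h2.le_sup_cb hS hβ hβ1),
      fun h => comm_bot_mono (comm_bot_sup hAC' h) le_rfl (h2.cb_le hβ)⟩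
  have e2 : ⁅A, conjBy C b⁻¹⁆ = ⊥ ↔ ⁅conjBy A b⁻¹, C⁆ = ⊥ := by
    rw [e1 _ hb' hb1', ← e1 _ hb hb1, ← cb_eq_bot (g := b⁻¹), cb_comm, cb_inv_cb]
  have eN : (A ⊔ conjBy C b⁻¹) ⊔ (conjBy A b⁻¹ ⊔ C) = (A ⊔ ⁅A, B⁆) ⊔ (C ⊔ ⁅C, B⁆) := by
    apply le_antisymm
    · exact sup_le (sup_le (le_sup_left.trans le_sup_left) ((h2.cb_le hb').trans le_sup_right))
        (sup_le ((h1.cb_le hb').trans le_sup_left) (le_sup_left.trans le_sup_right))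
    · exact sup_le (sup_le (le_sup_left.trans le_sup_left) ((h1.le_sup_cb hS hb' hb1').trans
        (sup_le (le_sup_left.trans le_sup_left) (le_sup_left.trans le_sup_right))))
        (sup_le (le_sup_right.trans le_sup_right) ((h2.le_sup_cb hS hb' hb1').trans
        (sup_le (le_sup_right.trans le_sup_right) (le_sup_right.trans le_sup_left))))
  refine ⟨?_, n30_XY hS hA hC h1 h2 hAC' hb', ?_, ?_, n30_nilp hS hA hB hC h1 h2 hAC'⟩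
  · rw [ic hA (hS.conj_mem C hC _), ic (hS.conj_mem A hA _) hC, ← e2]
    by_cases h : ⁅A, conjBy C b⁻¹⁆ = ⊥
    · exact Or.inl ⟨h, h⟩
    · refine Or.inr ⟨⟨h, class2 (self_comm hS hA) (self_comm hS (hS.conj_mem C hC _)) (n30_K hS hA hC h2 hAC' hb' hb1')⟩, h, ?_⟩
      rw [sup_comm]
      exact class2 (self_comm hS hC) (self_comm hS (hS.conj_mem A hA _)) (n30_K hS hC hA h1 (comm_bot_symm hAC') hb' hb1')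
  · rw [eN]
    have hB' : ∀ β ∈ B, conjBy ((A ⊔ ⁅A, B⁆) ⊔ (C ⊔ ⁅C, B⁆)) β ≤ (A ⊔ ⁅A, B⁆) ⊔ (C ⊔ ⁅C, B⁆) := by
      intro β hβ
      rw [cb_sup, cb_sup, cb_sup, h1.cb_C hβ, h2.cb_C hβ]
      exact sup_le_sup (sup_le (h1.cb_le hβ) le_sup_right) (sup_le (h2.cb_le hβ) le_sup_right)
    have hm : ∀ x y, conjBy ((A ⊔ ⁅A, B⁆) ⊔ (C ⊔ ⁅C, B⁆)) x = (A ⊔ ⁅A, B⁆) ⊔ (C ⊔ ⁅C, B⁆) →
        conjBy ((A ⊔ ⁅A, B⁆) ⊔ (C ⊔ ⁅C, B⁆)) y = (A ⊔ ⁅A, B⁆) ⊔ (C ⊔ ⁅C, B⁆) →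
        conjBy ((A ⊔ ⁅A, B⁆) ⊔ (C ⊔ ⁅C, B⁆)) (x * y) = (A ⊔ ⁅A, B⁆) ⊔ (C ⊔ ⁅C, B⁆) := by
      intro x y hx hy; rw [← cb_cb, hy, hx]
    intro r hr
    refine sup_ind (p := fun r => conjBy ((A ⊔ ⁅A, B⁆) ⊔ (C ⊔ ⁅C, B⁆)) r = (A ⊔ ⁅A, B⁆) ⊔ (C ⊔ ⁅C, B⁆))
      (fun x hx => sup_ind (p := fun r => conjBy ((A ⊔ ⁅A, B⁆) ⊔ (C ⊔ ⁅C, B⁆)) r = (A ⊔ ⁅A, B⁆) ⊔ (C ⊔ ⁅C, B⁆))
        (fun a ha => cb_self (Subgroup.mem_sup_left (Subgroup.mem_sup_left ha))) (fun β hβ => ?_) hm hx)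
      (fun a ha => cb_self (Subgroup.mem_sup_right (Subgroup.mem_sup_left ha))) hm hr
    refine le_antisymm (hB' β hβ) ?_
    have := cb_mono (hB' _ (B.inv_mem hβ)) β
    rwa [cb_cb_inv] at this
  · rw [eN]
    apply le_antisymm
    · exact sup_le (sup_le (sup_le (le_sup_left.trans le_sup_left) ((comm_le_sup hS _ _).trans le_sup_left))
        (sup_le le_sup_right ((comm_le_sup hS _ _).trans (sup_le le_sup_right (le_sup_right.trans le_sup_left)))))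
        (le_sup_right.trans le_sup_left)
    · exact sup_le (sup_le ((le_sup_left.trans le_sup_left).trans le_sup_left) le_sup_right)
        ((le_sup_left.trans le_sup_right).trans le_sup_left)

end Cfsg.Agent.S5030
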