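import Cfsg.Statements.S5031
import Cfsg.Agent.H6.Rs2

set_option autoImplicit false
open Cfsg

namespace Cfsg.Agent.S5031

open CfsgH6 CfsgH6.Rk

/-- Let S be a set of abstract root subgroups of G and let A, B ∈ S lie in different connected components of the graph of rank one pairs on S, each component having more than one member. Then B is not a line partner of A. -/
theorem result {G : Type*} [Group G] {S : Set (Subgroup G)} (hS : Cfsg.IsRootSubgroupSet S)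
    {A B : Subgroup G} (hA : A ∈ S) (hB : B ∈ S)
    (hne : Cfsg.componentOf (Cfsg.FAdj S) S A ≠ Cfsg.componentOf (Cfsg.FAdj S) S B)
    (hA2 : ∃ A' ∈ Cfsg.componentOf (Cfsg.FAdj S) S A, A' ≠ A) (hB2 : ∃ B' ∈ Cfsg.componentOf (Cfsg.FAdj S) S B, B' ≠ B) :
    B ∉ Cfsg.linePartners S A := by
  intro hL
  have ni : ∀ {A : Subgroup G}, (∃ A' ∈ componentOf (FAdj S) S A, A' ≠ A) → ∃ D ∈ S, IsRankOnePair A D := by
    rintro A ⟨A', ⟨-, h⟩, hne⟩
    rcases h.cases_head with rfl | ⟨D, h1, -⟩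
    · exact absurd rfl hne
    · exact ⟨D, h1.2.1, h1.2.2⟩
  have nr : ¬ Relation.ReflTransGen (FAdj S) A B := by
    intro h
    apply hne
    ext E
    exact ⟨fun h1 => ⟨h1.1, (reach_symm h).trans h1.2⟩, fun h1 => ⟨h1.1, h.trans h1.2⟩⟩
  obtain ⟨a, ha, ha1⟩ := ex_ne_one (hS.ne_bot A hA)
  obtain ⟨b, hb, hb1⟩ := ex_ne_one (hS.ne_bot B hB)
  have key : ∀ {A B : Subgroup G}, A ∈ S → B ∈ S → (∃ D ∈ S, IsRankOnePair A D) → ⁅A, B⁆ = ⊥ → A ⊓ B = ⊥ →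
      ¬ Relation.ReflTransGen (FAdj S) A B → ∀ a ∈ A, a ≠ 1 → ∀ b ∈ B, b ≠ 1 → ∀ P ∈ S, P ≤ A ⊔ B → b * a ∈ P →
      Relation.ReflTransGen (FAdj S) A P := by
    rintro A B hA hB ⟨D, hD, hAD⟩ hAB hinf nr a ha ha1 b hb hb1 P hP hle hm
    have c1 : ⁅P, B⁆ = ⊥ := comm_bot_symm (comm_bot_mono (comm_bot_sup (comm_bot_symm hAB) (self_comm hS hB)) le_rfl hle)
    have c2 : ⁅P, A⁆ = ⊥ := comm_bot_symm (comm_bot_mono (comm_bot_sup (self_comm hS hA) hAB) le_rfl hle)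
    rcases tri hS hB hD with h1 | h1 | h1
    · exact absurd (zlem hS hD hAD (comm_bot_iff.1 (comm_bot_symm hAB) b hb) (comm_bot_iff.1 h1 b hb) ha ha1 hP hm) hb1
    · exact absurd (.head ⟨hA, hD, hAD⟩ (.single ⟨hD, hB, r1_symm h1⟩)) nr
    rcases tri hS hP hD with h2 | h2 | h2
    · exfalso
      have := zlem hS hD hAD (comm_bot_iff.1 c2 _ hm) (comm_bot_iff.1 h2 _ hm) (A.inv_mem ha) (by simpa) hB (by simpa using hb)
      rw [mul_eq_one_iff_eq_inv] at this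
      have h3 : b ∈ A ⊓ B := ⟨this ▸ A.inv_mem ha, hb⟩
      rw [hinf] at h3; exact hb1 h3
    · exact .head ⟨hA, hD, hAD⟩ (.single ⟨hD, hP, r1_symm h2⟩)
    · refine (LL hS hD hAD hP hB c1 h2 h1 ha ha1 ?_).elim
      have := Subgroup.mul_mem _ (Subgroup.mem_sup_right (S := P) (B.inv_mem hb)) (Subgroup.mem_sup_left hm)
      simpa using this
  have hinf : A ⊓ B = ⊥ := hL.2.2.2 A ⟨hA, le_sup_left⟩ B ⟨hB, le_sup_right⟩ hL.1.2.1.symm
  have hab := comm_bot_iff.1 hL.1.2.2 a ha b hb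
  obtain ⟨P, hP, hm⟩ := hL.2.2.1 (b * a) (Subgroup.mul_mem _ (Subgroup.mem_sup_right hb) (Subgroup.mem_sup_left ha)) (by
    intro this
    rw [mul_eq_one_iff_eq_inv] at this
    have h3 : b ∈ A ⊓ B := ⟨this ▸ A.inv_mem ha, hb⟩
    rw [hinf] at h3; exact hb1 h3)
  exact nr ((key hA hB (ni hA2) hL.1.2.2 hinf nr a ha ha1 b hb hb1 P hP.1 hP.2 hm).trans
    (reach_symm (key hB hA (ni hB2) (comm_bot_symm hL.1.2.2) (by rwa [inf_comm]) (fun h => nr (reach_symm h))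
      b hb hb1 a ha ha1 P hP.1 (by rw [sup_comm]; exact hP.2) (by rwa [hab]))))

end Cfsg.Agent.S5031
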