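import Cfsg.Statements.S5032
import Cfsg.Agent.H6.Rs2

set_option autoImplicit false
open Cfsg

namespace Cfsg.Agent.S5032

open CfsgH6 CfsgH6.Rk

/-- Let S be a set of abstract root subgroups of G with more than one member. Then the graph of rank one pairs on S is connected if and only if S is a single conjugacy class of G and some member of S has a rank one partner in S. -/
theorem result {G : Type*} [Group G] {S : Set (Subgroup G)} (hS : Cfsg.IsRootSubgroupSet S) (h2 : ∃ A ∈ S, ∃ B ∈ S, A ≠ B) :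
    Cfsg.IsConnectedFamily (Cfsg.FAdj S) S ↔
      (Cfsg.IsConjClassOfSubgroups S ∧ ∃ A ∈ S, ¬ Cfsg.IsIsolatedIn (Cfsg.FAdj S) S A) := by
  obtain ⟨A, hA, B, hB, hne⟩ := h2
  constructor
  · intro h
    refine ⟨⟨⟨A, hA⟩, fun C hC D hD => ?_⟩, A, hA, fun hi => ?_⟩
    · have := h C hC D hD
      induction this with
      | refl => exact ⟨1, by simp⟩
      | tail _ h2 ih =>
        obtain ⟨g, rfl⟩ := ih h2.1
        obtain ⟨x, -, e⟩ := B_mem_unip h2.2.2
        exact ⟨x * g, by rw [e, cb_cb]⟩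
    · rcases (h A hA B hB).cases_head with rfl | ⟨D, h1, -⟩
      · exact hne rfl
      · exact (hi.2 D).1 h1
  · rintro ⟨⟨-, hc⟩, E, hE, hi⟩ C hC D hD
    obtain ⟨F, hF, hEF⟩ := noniso hE hi
    obtain ⟨g, rfl⟩ := hc E hE C hC
    obtain ⟨g', rfl⟩ := hc E hE D hD
    exact (reach_symm (comp_conj hS hE hF hEF g)).trans (comp_conj hS hE hF hEF g')

end Cfsg.Agent.S5032
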