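import Cfsg.Statements.S5033
import Cfsg.Agent.H6.Rs4

set_option autoImplicit false
open Cfsg

namespace Cfsg.Agent.S5033

open CfsgH6 CfsgH6.Rk

/-- Quasisimplicity criterion for groups generated by abstract root subgroups. Let S be a set of abstract root subgroups of G with more than one member such that: the graph of rank one pairs on S is connected; no two different members of S have the same set of commuting members of S; if S is degenerate then every member of S has more than three elements; and every rank one pair in S is special. Then for every A ∈ S one has G = G' A with A ∩ G' ≠ 1, and the commutator subgroup G' is quasisimple. Moreover G is perfect if S is non-degenerate, or if some rank one pair A, B in S generates a perfect group. -/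
theorem result {G : Type*} [Group G] {S : Set (Subgroup G)} (hS : Cfsg.IsRootSubgroupSet S) (h2 : ∃ A ∈ S, ∃ B ∈ S, A ≠ B)
    (h1 : Cfsg.IsConnectedFamily (Cfsg.FAdj S) S)
    (h2' : ∀ A ∈ S, ∀ C ∈ S, A ≠ C → Cfsg.centralizingMembers S A ≠ Cfsg.centralizingMembers S C)
    (h3 : Cfsg.IsDegenerateRootSet S → ∀ A ∈ S, 3 < ENat.card A)
    (h4 : ∀ A ∈ S, ∀ B ∈ Cfsg.rankOnePartners S A, Cfsg.IsSpecialRankOnePair A B) :
    (∀ A ∈ S, commutator G ⊔ A = ⊤ ∧ A ⊓ commutator G ≠ ⊥) ∧ Cfsg.IsQuasisimple ↥(commutator G) ∧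
    (Cfsg.IsNondegenerateRootSet S → commutator G = ⊤) ∧
    ((∃ A ∈ S, ∃ B ∈ Cfsg.rankOnePartners S A, Group.IsPerfect ↥(A ⊔ B)) → commutator G = ⊤) := by
  obtain ⟨A0, hA0, B0, hB0, hne0⟩ := h2
  have hcl : IsRootSubgroupClass S := by
    refine ⟨hS, ⟨A0, hA0⟩, fun C hC D hD => ?_⟩
    have := h1 C hC D hD
    induction this with
    | refl => exact ⟨1, by simp⟩
    | tail _ h2 ih =>
      obtain ⟨g, rfl⟩ := ih h2.1
      obtain ⟨x, -, e⟩ := B_mem_unip h2.2.2
      exact ⟨x * g, by rw [e, cb_cb]⟩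
  have hF : ∀ A ∈ S, ∃ D ∈ S, IsRankOnePair A D := by
    rcases (h1 A0 hA0 B0 hB0).cases_head with rfl | ⟨D, h, -⟩
    · exact absurd rfl hne0
    · exact cls_hF hcl hA0 h.2.1 h.2.2
  have top : ∀ N : Subgroup G, N.Normal → ∀ A ∈ S, A ≤ N → N = ⊤ := by
    intro N hN A hA hle
    rw [eq_top_iff, ← hS.generates]
    refine iSup₂_le fun E hE => ?_
    obtain ⟨g, rfl⟩ := hcl.2.2 A hA E hE
    have := cb_mono hle g
    rwa [cb_normal (N := N)] at this
  have key : ∀ N : Subgroup G, N.Normal → ∀ A ∈ S, ∀ B ∈ S, ⁅A, B⁆ ≤ N → ⁅A, B⁆ ≠ ⊥ → N = ⊤ := by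
    intro N hN A hA B hB hle hne
    rcases tri hS hA hB with h | h | h
    · exact absurd h hne
    swap
    · exact top N hN _ h.mem hle
    have q : ∀ {X Y : Subgroup G}, ⁅X, Y⁆ ≤ N ↔ ⁅X.map (QuotientGroup.mk' N), Y.map (QuotientGroup.mk' N)⁆ = ⊥ := by
      intro X Y
      rw [← Subgroup.map_commutator, Subgroup.map_eq_bot_iff, QuotientGroup.ker_mk']
    by_cases hd : IsDegenerateRootSet S
    · refine top N hN A hA ?_
      rw [← special_big (h4 A hA B ⟨hB, h⟩) (hS.commutative A hA) (h3 hd A hA)]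
      refine (Subgroup.commutator_mono le_rfl (inf_le_left.trans inf_le_left : rankOneDiagonal A B ≤ A ⊔ B)).trans ?_
      rw [q, Subgroup.map_sup]
      exact comm_bot_sup (q.1 (by rw [self_comm hS hA]; exact bot_le)) (q.1 hle)
    · simp only [IsDegenerateRootSet, not_forall, not_not] at hd
      obtain ⟨A', hA', B', hB', hd⟩ := hd
      obtain ⟨K, hK⟩ := cls_line hcl hF hA' (C3_iff.2 hd) A hA
      obtain ⟨P, hP, h5, h6, h7⟩ := LINE hS hF hA hB h hK
      have h8 : C3 S A ⁅P, B⁆ := L2 hS hA h5.mem (by rwa [h6])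
      have hAP : ⁅A, P⁆ = ⊥ := by have := h8.comm_l; rwa [h6] at this
      refine top N hN P hP ?_
      rw [← h6]
      refine (Subgroup.commutator_mono le_rfl (comm_le_sup hS P B)).trans ?_
      rw [q, Subgroup.map_sup]
      exact comm_bot_sup (q.1 (by rw [hAP]; exact bot_le)) (q.1 hle)
  have ht : commutator G = ⊤ := by
    obtain ⟨D, hD, h⟩ := hF A0 hA0
    exact key _ inferInstance A0 hA0 D hD (Subgroup.commutator_mono le_top le_top) (r1_comm_ne h)
  refine ⟨fun A hA => ⟨by simp [ht], by simpa [ht] using hS.ne_bot A hA⟩, ?_, fun _ => ht, fun _ => ht⟩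
  rw [ht, CfsgLead.isQuasisimple_top, CfsgLead.isQuasisimple_iff]
  refine ⟨ht, ?_, fun N hN => ?_⟩
  · obtain ⟨a, -, ha1⟩ := ex_ne_one (hS.ne_bot A0 hA0)
    exact ⟨a, 1, ha1⟩
  by_cases hN1 : N = ⊤
  · exact Or.inl hN1
  right
  have k1 : ∀ n ∈ N, ∀ A ∈ S, ∀ E ∈ S, ⁅E, A⁆ = ⊥ → ⁅E, conjBy A n⁆ = ⊥ := by
    intro n hn A hA E hE hc
    by_contra hne
    refine hN1 (key N hN E hE _ (hS.conj_mem A hA n) ?_ hne)
    rw [Subgroup.commutator_le]
    rintro e he _ ⟨a, ha, rfl⟩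
    change e * (n * a * n⁻¹) * e⁻¹ * (n * a * n⁻¹)⁻¹ ∈ N
    have h5 := comm_bot_iff.1 hc e he a ha
    have : e * (n * a * n⁻¹) * e⁻¹ * (n * a * n⁻¹)⁻¹ =
        (e * n * e⁻¹) * ((e * a) * n⁻¹ * (e * a)⁻¹) * ((e * a) * e⁻¹ * n * a⁻¹) * n⁻¹ := by group
    rw [this]
    refine N.mul_mem (N.mul_mem (N.mul_mem (hN.conj_mem n hn e) (hN.conj_mem _ (N.inv_mem hn) _)) ?_) (N.inv_mem hn)
    rw [h5]
    simpa [mul_assoc] using hN.conj_mem n hn a
  have k2 : ∀ n ∈ N, ∀ A ∈ S, conjBy A n = A := by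
    intro n hn A hA
    by_contra hne
    refine h2' _ (hS.conj_mem A hA n) A hA hne ?_
    ext E
    simp only [centralizingMembers, Set.mem_setOf_eq, ← Subgroup.commutator_eq_bot_iff_le_centralizer]
    refine and_congr_right fun hE => ⟨fun h => ?_, k1 n hn A hA E hE⟩
    have := k1 n⁻¹ (N.inv_mem hn) _ (hS.conj_mem A hA n) E hE h
    rwa [cb_inv_cb] at this
  intro n hn
  rw [Subgroup.mem_center_iff]
  refine gen_ind hS (p := fun g => g * n = n * g) ?_ (by simp) ?_
  · intro A hA a ha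
    obtain ⟨D, hD, h⟩ := hF A hA
    exact (r1_fix_all h (fun C hC => k2 n hn C (unip_S hS hA hC)) a (Subgroup.mem_sup_left ha)).symm
  · intro x y hx hy; rw [mul_assoc, hy, ← mul_assoc, hx, mul_assoc]

end Cfsg.Agent.S5033
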