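import Cfsg.Statements.S5034
import Cfsg.Agent.H6.Rs4

set_option autoImplicit false
open Cfsg

namespace Cfsg.Agent.S5034

open CfsgH6 CfsgH6.Rk

/-- Let S be a non-degenerate class of abstract root subgroups of G, A ∈ S and B a rank one partner of A. Then some line partner C of A has ⁅B, C⁆ ∈ S, and the rank one pair A, B is special. -/
theorem result {G : Type*} [Group G] {S : Set (Subgroup G)} (hS : Cfsg.IsRootSubgroupClass S) (hnd : Cfsg.IsNondegenerateRootSet S)
    {A B : Subgroup G} (hA : A ∈ S) (hB : B ∈ Cfsg.rankOnePartners S A) :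
    (∃ C ∈ Cfsg.linePartners S A, C ∈ Cfsg.commutatorPartners S B) ∧ Cfsg.IsSpecialRankOnePair A B := by
  have hF := nd_hF hS hnd
  obtain ⟨K, hK⟩ := nd_line hS hnd A hA
  refine ⟨?_, line_special hS.1 hF hA hB.1 hB.2 hK⟩
  obtain ⟨P, hP, h5, h6, h7⟩ := LINE hS.1 hF hA hB.1 hB.2 hK
  have h8 : C3 S A ⁅P, B⁆ := L2 hS.1 hA h5.mem (by rwa [h6])
  exact ⟨P, by have := h8.line hS.1 hA hB.1 hB.2; rwa [h6] at this, hP, h5.symm.mem⟩

end Cfsg.Agent.S5034
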