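import Cfsg.Statements.S5035
import Cfsg.Agent.H6.Rs4

set_option autoImplicit false
open Cfsg

namespace Cfsg.Agent.S5035

open CfsgH6 CfsgH6.Rk

/-- Let S be a set of abstract root subgroups of G whose graph of rank one pairs is connected, and f a homomorphism from G onto a group H. Then either the images of the members of S form a set of abstract root subgroups of H whose graph of rank one pairs is again connected, or H equals the image of a member of S. -/
theorem result {G H : Type*} [Group G] [Group H] {S : Set (Subgroup G)} (hS : Cfsg.IsRootSubgroupSet S)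
    (hc : Cfsg.IsConnectedFamily (Cfsg.FAdj S) S) (f : G →* H) (hf : Function.Surjective f) :
    (Cfsg.IsRootSubgroupSet ((fun A : Subgroup G => A.map f) '' S) ∧
      Cfsg.IsConnectedFamily (Cfsg.FAdj ((fun A : Subgroup G => A.map f) '' S)) ((fun A : Subgroup G => A.map f) '' S)) ∨
    ∃ A ∈ S, A.map f = ⊤ := by
  have hconj : ∀ C ∈ S, ∀ D ∈ S, ∃ g, D = conjBy C g := by
    intro C hC D hD
    have := hc C hC D hD
    induction this with
    | refl => exact ⟨1, by simp⟩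
    | tail _ h2 ih =>
      obtain ⟨g, rfl⟩ := ih h2.1
      obtain ⟨x, -, e⟩ := B_mem_unip h2.2.2
      exact ⟨x * g, by rw [e, cb_cb]⟩
  have hgen : (⨆ A ∈ (fun A : Subgroup G => A.map f) '' S, A) = ⊤ := by
    rw [iSup_image, ← Subgroup.map_top_of_surjective f hf, ← hS.generates, Subgroup.map_iSup]
    simp only [Subgroup.map_iSup]
  by_cases hb : ∃ A ∈ S, A.map f = ⊥
  · right
    obtain ⟨A, hA, e⟩ := hb
    refine ⟨A, hA, ?_⟩
    rw [e, ← hgen, eq_comm, eq_bot_iff]
    refine iSup₂_le ?_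
    rintro _ ⟨E, hE, rfl⟩
    obtain ⟨g, rfl⟩ := hconj A hA E hE
    simp only [cb_map, e, cb_bot, le_refl]
  left
  push Not at hb
  have hcomm : ∀ A ∈ S, IsMulCommutative (A.map f) := by
    intro A hA
    refine isComm_of ?_
    rintro _ ⟨x, hx, rfl⟩ _ ⟨y, hy, rfl⟩
    rw [← map_mul, ← map_mul, comm_of (hS.commutative A hA) hx hy]
  have key : ∀ A ∈ S, ∀ B ∈ S, IsRankOnePair A B → A.map f = B.map f ∨ IsRankOnePair (A.map f) (B.map f) := by
    intro A hA B hB h
    rcases r1_normal h (N := f.ker ⊓ (A ⊔ B)) inf_le_right (fun x hx n hn => ⟨f.normal_ker.conj_mem n hn.1 x,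
      Subgroup.mul_mem _ (Subgroup.mul_mem _ hx hn.2) (Subgroup.inv_mem _ hx)⟩) with h1 | h1
    · left
      have h2 : (A ⊔ B).map f ≤ A.map f := by
        refine (Subgroup.map_mono h1).trans ?_
        rw [Subgroup.map_sup]
        exact sup_le (by rw [(Subgroup.map_eq_bot_iff _).2 inf_le_left]; exact bot_le) le_rfl
      obtain ⟨x, hx, e⟩ := B_mem_unip h
      rw [e, cb_map, cb_self (h2 (Subgroup.mem_map_of_mem f hx))]
    · right
      have k : ∀ {A B : Subgroup G}, IsRankOnePair A B → (∀ n ∈ f.ker ⊓ (A ⊔ B), ∀ x ∈ A ⊔ B, n * x = x * n) →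
          RankOneCondition (A.map f) (B.map f) := by
        intro A B h h1
        rw [cond_iff]
        rintro _ ⟨a, ha, rfl⟩ ha1
        obtain ⟨b, hb, hb1, e⟩ := r1_ex h ha (fun e => ha1 (by simp [e]))
        refine ⟨f b, Subgroup.mem_map_of_mem f hb, fun e => hb1 ?_, by rw [← cb_map, ← cb_map, e]⟩
        exact r1_not_comm (r1_symm h) hb fun y hy => h1 b ⟨e, Subgroup.mem_sup_right hb⟩ y (Subgroup.mem_sup_left hy)
      refine ⟨fun e => ?_, nilp_of_comm (hcomm A hA), nilp_of_comm (hcomm B hB), k h h1,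
        k (r1_symm h) (by rwa [sup_comm])⟩
      obtain ⟨a, ha, ha1⟩ := ex_ne_one (hS.ne_bot A hA)
      obtain ⟨b, hb, e2⟩ : f a ∈ B.map f := e ▸ Subgroup.mem_map_of_mem f ha
      have h3 := h1 (a * b⁻¹) ⟨by simp [MonoidHom.mem_ker, e2], Subgroup.mul_mem _ (Subgroup.mem_sup_left ha)
        (Subgroup.mem_sup_right (B.inv_mem hb))⟩
      refine ha1 (r1_norm h ha ?_)
      rw [show a = (a * b⁻¹) * b by group, ← cb_cb, cb_self hb]
      exact cb_of_cent fun y hy => h3 y (Subgroup.mem_sup_right hy)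
  refine ⟨⟨?_, ?_, hgen, ?_, ?_⟩, ?_⟩
  · rintro _ ⟨A, hA, rfl⟩; exact hcomm A hA
  · rintro _ ⟨A, hA, rfl⟩; exact hb A hA
  · rintro _ ⟨A, hA, rfl⟩ g
    obtain ⟨g, rfl⟩ := hf g
    exact ⟨_, hS.conj_mem A hA g, cb_map f A g⟩
  · rintro _ ⟨A, hA, rfl⟩ _ ⟨B, hB, rfl⟩
    rcases tri hS hA hB with h | h | h
    · left; simp only [← Subgroup.map_commutator, h, Subgroup.map_bot]
    · rcases key A hA B hB h with h1 | h1
      · left; simp only [h1]; exact comm_self (hcomm B hB)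
      · exact Or.inr (Or.inl h1)
    · refine Or.inr (Or.inr (C3_iff.1 ⟨⟨_, h.mem, Subgroup.map_commutator _ _ _⟩, ?_, ?_, ?_, ?_⟩))
      all_goals simp only [← Subgroup.map_commutator]
      · rintro _ ⟨c, hc, rfl⟩ _ ⟨a, ha, rfl⟩; rw [← map_mul, ← map_mul, h.cl c hc a ha]
      · rintro _ ⟨c, hc, rfl⟩ _ ⟨a, ha, rfl⟩; rw [← map_mul, ← map_mul, h.cr c hc a ha]
      · rintro _ ⟨a, ha, rfl⟩ ha1 _ ⟨c, hc, rfl⟩
        obtain ⟨b, hb, rfl⟩ := h.left a ha (fun e => ha1 (by simp [e])) c hc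
        exact ⟨f b, Subgroup.mem_map_of_mem f hb, by simp⟩
      · rintro _ ⟨a, ha, rfl⟩ ha1 _ ⟨c, hc, rfl⟩
        obtain ⟨b, hb, rfl⟩ := h.right a ha (fun e => ha1 (by simp [e])) c hc
        exact ⟨f b, Subgroup.mem_map_of_mem f hb, by simp⟩
  · rintro _ ⟨A, hA, rfl⟩ _ ⟨B, hB, rfl⟩
    have := hc A hA B hB
    clear hB
    induction this with
    | refl => exact .refl
    | tail _ h2 ih =>
      rcases key _ h2.1 _ h2.2.1 h2.2.2 with h1 | h1
      · simp only [← h1]; exact ih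
      · exact ih.tail ⟨⟨_, h2.1, rfl⟩, ⟨_, h2.2.1, rfl⟩, h1⟩

end Cfsg.Agent.S5035
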