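import Cfsg.Statements.S5036
import Cfsg.Agent.H6.Rs4

set_option autoImplicit false
open Cfsg

namespace Cfsg.Agent.S5036

open CfsgH6 CfsgH6.Rk

/-- Let S be a set of abstract root subgroups of G, A, B ∈ S with C = ⁅A, B⁆ ∈ S, and D ∈ S with ⁅D, C⁆ = A. Put X = ⟨B, D⟩ and N = AC. Then B, D form a rank one pair; the conjugates of A under X are the conjugates of C under X, namely the conjugates of A by elements of B together with C, equally the conjugates of C by elements of D together with A, and they partition N; and the centralizer of N in X is central in X. -/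
theorem result {G : Type*} [Group G] {S : Set (Subgroup G)} (hS : Cfsg.IsRootSubgroupSet S)
    {A B D : Subgroup G} (hA : A ∈ S) (hB : B ∈ S) (hC : ⁅A, B⁆ ∈ S) (hD : D ∈ S) (hDC : ⁅D, ⁅A, B⁆⁆ = A) :
    Cfsg.IsRankOnePair B D ∧
    {E | ∃ x ∈ B ⊔ D, E = Cfsg.conjBy A x} = {E | ∃ x ∈ B ⊔ D, E = Cfsg.conjBy ⁅A, B⁆ x} ∧
    {E | ∃ x ∈ B ⊔ D, E = Cfsg.conjBy A x} = (fun b : G => Cfsg.conjBy A b) '' (B : Set G) ∪ {⁅A, B⁆} ∧
    {E | ∃ x ∈ B ⊔ D, E = Cfsg.conjBy A x} = (fun d : G => Cfsg.conjBy ⁅A, B⁆ d) '' (D : Set G) ∪ {A} ∧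
    Cfsg.IsSubgroupPartition (A ⊔ ⁅A, B⁆) {E | ∃ x ∈ B ⊔ D, E = Cfsg.conjBy A x} ∧
    ∀ x ∈ (B ⊔ D) ⊓ Subgroup.centralizer ((A ⊔ ⁅A, B⁆ : Subgroup G) : Set G), ∀ y ∈ B ⊔ D, x * y = y * x := by
  have h := L2 hS hA hB hC
  have r := r1_of_two hS hA hB hD h hDC
  refine ⟨r, ?_, ?_, ?_, ⟨?_, ?_, ?_⟩, ?_⟩
  · ext E; exact (two_orb hS hA hB hD h hDC).trans (two_orb' hS hA hB hD h hDC).symm
  · ext E; exact (two_orb hS hA hB hD h hDC).trans (two_pts hS hA hB hD h hDC)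
  · ext E; exact (two_orb hS hA hB hD h hDC).trans (two_pts' hS hA hB hD h hDC)
  · intro E hE
    obtain ⟨U, -, rfl⟩ := (two_orb hS hA hB hD h hDC).1 hE
    exact inf_le_left
  · intro x hx h1
    obtain ⟨a, ha, c, hc, rfl⟩ := (mem_sup_comm h.comm_l).1 hx
    by_cases ha1 : a = 1
    · exact ⟨_, (two_orb hS hA hB hD h hDC).2 ((two_pts hS hA hB hD h hDC).2 (Or.inr rfl)), by simpa [ha1] using hc⟩
    · obtain ⟨b, hb, hm⟩ := h.root hS ha ha1 hc
      exact ⟨_, ⟨b, Subgroup.mem_sup_left hb, rfl⟩, hm⟩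
  · intro P hP Q hQ hne
    obtain ⟨U, hU, rfl⟩ := (two_orb hS hA hB hD h hDC).1 hP
    obtain ⟨V, hV, rfl⟩ := (two_orb hS hA hB hD h hDC).1 hQ
    have e := unip_sup r hU hV (fun e => hne (by rw [e]))
    rw [eq_bot_iff]
    rintro x ⟨⟨hx, h1⟩, -, h2⟩
    have h3 := comm_sup (fun y hy => (Subgroup.mem_centralizer_iff.1 h1 y hy).symm)
      (fun y hy => (Subgroup.mem_centralizer_iff.1 h2 y hy).symm)
    rw [e] at h3
    refine h.inf hS ?_ ?_
    · rw [← two_cD hS hA hB hD h hDC]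
      exact ⟨hx, Subgroup.mem_centralizer_iff.2 fun y hy => (h3 y (Subgroup.mem_sup_right hy)).symm⟩
    · rw [← h.cent_eq hS]
      exact ⟨hx, Subgroup.mem_centralizer_iff.2 fun y hy => (h3 y (Subgroup.mem_sup_left hy)).symm⟩
  · rcases r1_normal r (N := (B ⊔ D) ⊓ Subgroup.centralizer ((A ⊔ ⁅A, B⁆ : Subgroup G) : Set G)) inf_le_left
      (fun x hx n hn => by
        have := cb_mem hn x
        rwa [cb_cent_inf, cb_self hx, two_norm hS hA hB hD h hDC x hx] at this) with h1 | h1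
    · exfalso
      refine (two_C3 hS hA hB hD h hDC).ne_bot hS (comm_bot_mono (comm_bot_sup ?_ (comm_bot_symm h.comm_r)) le_rfl
        (le_sup_right.trans h1))
      exact comm_bot_iff.2 fun c hc n hn => Subgroup.mem_centralizer_iff.1 hn.2 c (Subgroup.mem_sup_right hc)
    · exact h1

end Cfsg.Agent.S5036
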