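import Cfsg.Statements.S5037
import Cfsg.Agent.H6.Rs4

set_option autoImplicit false
open Cfsg

namespace Cfsg.Agent.S5037

open CfsgH6 CfsgH6.Rk

/-- Let S be a class of abstract root subgroups of G that is either degenerate or non-degenerate (so either the commutator case never occurs, or all three cases occur), and A ≠ C members of S. If every member of S commuting with A commutes with C, then A and C have the same commuting members of S; and if every rank one partner of A is a rank one partner of C, then A and C commute and have the same rank one partners. -/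
theorem result {G : Type*} [Group G] {S : Set (Subgroup G)} (hS : Cfsg.IsRootSubgroupClass S)
    (hdn : Cfsg.IsDegenerateRootSet S ∨ Cfsg.IsNondegenerateRootSet S)
    {A C : Subgroup G} (hA : A ∈ S) (hC : C ∈ S) (hAC : A ≠ C) :
    (Cfsg.centralizingMembers S A ⊆ Cfsg.centralizingMembers S C →
      Cfsg.centralizingMembers S A = Cfsg.centralizingMembers S C) ∧
    (Cfsg.rankOnePartners S A ⊆ Cfsg.rankOnePartners S C →
      ⁅A, C⁆ = ⊥ ∧ Cfsg.rankOnePartners S A = Cfsg.rankOnePartners S C) := by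
  have hR := hS.1
  have cm : ∀ {A E : Subgroup G}, E ∈ centralizingMembers S A ↔ E ∈ S ∧ ⁅E, A⁆ = ⊥ := by
    intro A E
    simp only [centralizingMembers, Set.mem_setOf_eq, ← Subgroup.commutator_eq_bot_iff_le_centralizer]
  have cC : ∀ {A C : Subgroup G} (g : G), centralizingMembers S A ⊆ centralizingMembers S C →
      centralizingMembers S (conjBy A g) ⊆ centralizingMembers S (conjBy C g) := by
    intro A C g h E hE
    rw [cm] at hE ⊢
    have := cm.1 (h (cm.2 ⟨hR.conj_mem E hE.1 g⁻¹, by have := comm_bot_cb hE.2 g⁻¹; rwa [cb_inv_cb] at this⟩))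
    refine ⟨hE.1, ?_⟩
    have := comm_bot_cb this.2 g
    rwa [cb_cb_inv] at this
  have cO : ∀ {A C : Subgroup G} (g : G), rankOnePartners S A ⊆ rankOnePartners S C →
      rankOnePartners S (conjBy A g) ⊆ rankOnePartners S (conjBy C g) := by
    intro A C g h E hE
    have := h (a := conjBy E g⁻¹) ⟨hR.conj_mem E hE.1 g⁻¹, by have := r1_cb hE.2 g⁻¹; rwa [cb_inv_cb] at this⟩
    refine ⟨hE.1, ?_⟩
    have := r1_cb this.2 g
    rwa [cb_cb_inv] at this
  rcases hdn with hd | hnd
  · have t2 : ∀ A ∈ S, ∀ B ∈ S, ⁅A, B⁆ = ⊥ ∨ IsRankOnePair A B := fun A hA B hB => by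
      rcases hR.pair A hA B hB with h | h | h
      exacts [Or.inl h, Or.inr h, absurd h (hd A hA B hB)]
    have key : ∀ A ∈ S, ∀ C ∈ S, centralizingMembers S A ⊆ centralizingMembers S C →
        centralizingMembers S C ⊆ centralizingMembers S A := by
      intro A hA C hC h E hE
      rw [cm] at hE ⊢
      refine ⟨hE.1, ?_⟩
      rcases t2 E hE.1 A hA with h1 | h1
      · exact h1
      exfalso
      have hAC := (cm.1 (h (cm.2 ⟨hA, self_comm hR hA⟩))).2
      have hE' : centralizingMembers S E ⊆ centralizingMembers S C := by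
        obtain ⟨x, hx, e⟩ := B_mem_unip (r1_symm h1)
        have := cC x h
        rwa [← e, cb_of_comm (comm_bot_sup (comm_bot_symm hAC) (comm_bot_symm hE.2)) hx] at this
      obtain ⟨D, hD, hCD⟩ := cls_hF hS hE.1 hA h1 C hC
      have o1 : ∀ {A : Subgroup G}, A ∈ S → centralizingMembers S A ⊆ centralizingMembers S C → IsRankOnePair A D := by
        intro A hA h
        rcases t2 A hA D hD with h2 | h2
        · exact absurd (cm.1 (h (cm.2 ⟨hD, comm_bot_symm h2⟩))).2 (r1_comm_ne (r1_symm hCD))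
        · exact h2
      have hAD := o1 hA h
      have hED := o1 hE.1 hE'
      obtain ⟨d, hd, hd1⟩ := ex_ne_one (hR.ne_bot D hD)
      obtain ⟨a, ha, ha1, e1⟩ := r1_ex' hAD hd hd1
      obtain ⟨e, he, he1, e2⟩ := r1_ex' hED hd hd1
      obtain ⟨c, hc, hc1, e3⟩ := r1_ex' hCD hd hd1
      have s1 := cC a⁻¹ (cC d h)
      have s2 := cC e⁻¹ (cC d hE')
      rw [e1, e3, cb_inv_cb] at s1
      rw [e2, e3, cb_inv_cb] at s2
      have s3 := (cm.1 (s2 (cm.2 ⟨hD, self_comm hR hD⟩))).2
      have s4 := (cm.1 (s1 (cm.2 ⟨hR.conj_mem _ (hR.conj_mem D hD c) e⁻¹, comm_bot_symm s3⟩))).2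
      rw [cb_cb, cb_cb, comm_bot_iff.1 hAC _ (A.inv_mem ha) c hc, comm_bot_iff.1 hE.2 _ (E.inv_mem he) c hc,
        ← cb_cb, ← cb_cb, ← cb_comm, cb_eq_bot] at s4
      obtain ⟨d1, hd1', -, e4⟩ := r1_ex hAD (A.inv_mem ha) (by simpa)
      obtain ⟨d2, hd2', -, e5⟩ := r1_ex hED (E.inv_mem he) (by simpa)
      rw [← e4, ← e5] at s4
      have s5 := comm_bot_cb s4 d1⁻¹
      rw [cb_inv_cb, cb_cb] at s5
      have s6 := (cm.1 (h (cm.2 ⟨hR.conj_mem E hE.1 _, s5⟩))).2
      have hδ : d1⁻¹ * d2 ∈ D := D.mul_mem (D.inv_mem hd1') hd2'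
      have hne : conjBy E (d1⁻¹ * d2) ≠ E := fun e => r1_comm_ne h1 (by rwa [e] at s5)
      have s7 := unip_sup hED (unip_cb A_mem_unip (Subgroup.mem_sup_right hδ)) A_mem_unip hne
      refine r1_comm_ne hCD (comm_bot_mono (comm_bot_sup (comm_bot_symm s6) (comm_bot_symm hE.2)) le_rfl ?_)
      rw [s7]; exact le_sup_right
    refine ⟨fun h => Set.Subset.antisymm h (key A hA C hC h), fun h => ?_⟩
    have h1 : centralizingMembers S C ⊆ centralizingMembers S A := by
      intro E hE
      rw [cm] at hE ⊢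
      refine ⟨hE.1, ?_⟩
      rcases t2 E hE.1 A hA with h1 | h1
      · exact h1
      · exact absurd (comm_bot_symm hE.2) (r1_comm_ne (h ⟨hE.1, r1_symm h1⟩).2)
    refine ⟨comm_bot_symm (cm.1 (h1 (cm.2 ⟨hC, self_comm hR hC⟩))).2, Set.Subset.antisymm h fun E hE => ⟨hE.1, ?_⟩⟩
    rcases t2 A hA E hE.1 with h2 | h2
    · exact absurd (cm.1 (key C hC A hA h1 (cm.2 ⟨hE.1, comm_bot_symm h2⟩))).2 (r1_comm_ne (r1_symm hE.2))
    · exact h2
  · have hF := nd_hF hS hnd
    have hL := nd_line hS hnd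
    have sp : ∀ A ∈ S, ∀ D ∈ S, IsRankOnePair A D → IsSpecialRankOnePair A D := fun A hA D hD h => by
      obtain ⟨K, hK⟩ := hL A hA
      exact line_special hR hF hA hD h hK
    have trick : ∀ (R : Subgroup G → Subgroup G → Prop), (∀ A C g, R A C → R (conjBy A g) (conjBy C g)) →
        ∀ D ∈ S, IsRankOnePair A D → IsRankOnePair C D → ⁅A, C⁆ = ⊥ → R A C → R C A := by
      intro R hRc D hD hAD hCD hc h
      obtain ⟨d, hd, hd1⟩ := ex_ne_one (hR.ne_bot D hD)
      obtain ⟨a, ha, ha1, e1⟩ := r1_ex' hAD hd hd1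
      obtain ⟨c, hc', hc1, e3⟩ := r1_ex' hCD hd hd1
      have e2 := (braid (sp A hA D hD hAD) ha ha1 hd hd1 e1).2.2.2
      have e4 := (braid (sp C hC D hD hCD) hc' hc1 hd hd1 e3).2.2.2
      have s1 := hRc _ _ (a * c) (hRc _ _ d⁻¹ h)
      rw [e2, e4, cb_cb, cb_cb, mul_inv_cancel_right, comm_bot_iff.1 hc a ha c hc', mul_inv_cancel_right, ← e1, ← e3] at s1
      have s2 := hRc _ _ d⁻¹ s1
      rwa [cb_inv_cb, cb_inv_cb] at s2
    constructor
    · intro h
      have hAC := (cm.1 (h (cm.2 ⟨hA, self_comm hR hA⟩))).2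
      obtain ⟨D, hD, hCD⟩ := hF C hC
      have hAD : IsRankOnePair A D := by
        rcases tri hR hA hD with h1 | h1 | h1
        · exact absurd (cm.1 (h (cm.2 ⟨hD, comm_bot_symm h1⟩))).2 (r1_comm_ne (r1_symm hCD))
        · exact h1
        · exfalso
          obtain ⟨d, hd, hd1⟩ := ex_ne_one (hR.ne_bot D hD)
          have s1 := (cm.1 (cC d h (cm.2 ⟨hA, h1.cb_comm hR hA hd⟩))).2
          have s2 := unip_sup hCD A_mem_unip (unip_cb A_mem_unip (Subgroup.mem_sup_right hd))
            (fun e => hd1 (r1_norm (r1_symm hCD) hd e.symm))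
          refine h1.ne_bot hR (comm_bot_mono (comm_bot_sup hAC s1) le_rfl ?_)
          rw [s2]; exact le_sup_right
      exact Set.Subset.antisymm h (trick (fun A C => centralizingMembers S A ⊆ centralizingMembers S C)
        (fun A C g => cC g) D hD hAD hCD hAC h)
    · intro h
      have hAC' : ⁅A, C⁆ = ⊥ := by
        rcases tri hR hA hC with h1 | h1 | h1
        · exact h1
        · exact absurd rfl (h ⟨hC, h1⟩).2.ne
        · exfalso
          obtain ⟨D, hD, hCD⟩ := hF C hC
          obtain ⟨K, hK, h2, h3⟩ := exK hR hF h1.symm.mem (line_symm hC (h1.symm.line hR hC hD hCD))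
          have r := r1_of_two hR hC hA hK h1.symm (by rw [Subgroup.commutator_comm, h3])
          refine r1_comm_ne (h ⟨hK, r⟩).2 ?_
          have := comm_bot_symm h2.comm_r
          rwa [h3] at this
      obtain ⟨D, hD, hAD⟩ := hF A hA
      exact ⟨hAC', Set.Subset.antisymm h (trick (fun A C => rankOnePartners S A ⊆ rankOnePartners S C)
        (fun A C g => cO g) D hD hAD (h ⟨hD, hAD⟩).2 hAC' h)⟩

end Cfsg.Agent.S5037
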