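import Cfsg.Statements.S5038
import Cfsg.Agent.H6.Rs4

set_option autoImplicit false
open Cfsg

namespace Cfsg.Agent.S5038

open CfsgH6 CfsgH6.Rk

/-- Let S be a set of abstract root subgroups of G in which every member has a rank one partner, A ∈ S and B a line partner of A. Then the subgroup generated by the members of S normalizing AB permutes the members of S inside AB doubly transitively by conjugation. -/
theorem result {G : Type*} [Group G] {S : Set (Subgroup G)} (hS : Cfsg.IsRootSubgroupSet S)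
    (hF : ∀ A ∈ S, ¬ Cfsg.IsIsolatedIn (Cfsg.FAdj S) S A) {A B : Subgroup G} (hA : A ∈ S) (hB : B ∈ Cfsg.linePartners S A) :
    ∀ C₁ ∈ Cfsg.membersIn S (A ⊔ B), ∀ C₂ ∈ Cfsg.membersIn S (A ⊔ B), ∀ D₁ ∈ Cfsg.membersIn S (A ⊔ B),
      ∀ D₂ ∈ Cfsg.membersIn S (A ⊔ B), C₁ ≠ C₂ → D₁ ≠ D₂ →
        ∃ x ∈ ⨆ E ∈ Cfsg.normalizingMembers S (A ⊔ B), E, Cfsg.conjBy C₁ x = D₁ ∧ Cfsg.conjBy C₂ x = D₂ := by
  have hF' : ∀ A ∈ S, ∃ D ∈ S, IsRankOnePair A D := fun A hA => noniso hA (hF A hA)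
  obtain ⟨K, hK, h1, h2⟩ := exK hS hF' hA hB
  obtain ⟨K', hK', h3, h4⟩ := exK hS hF' hB.1.1 (line_symm hA hB)
  have h5 : ⁅K', ⁅A, K⁆⁆ = A := by rw [h2, Subgroup.commutator_comm, h4]
  have r := r1_of_two hS hA hK hK' h1 h5
  obtain ⟨D, hD, hAD⟩ := hF' A hA
  have hn := two_norm hS hA hK hK' h1 h5
  have hp : ∀ E ∈ membersIn S (A ⊔ B), ∃ U ∈ unipotentSubgroups K K',
      E = (A ⊔ ⁅A, K⁆) ⊓ Subgroup.centralizer (U : Set G) := by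
    intro E hE
    rw [← h2] at hE
    exact (two_pts hS hA hK hK' h1 h5).2 ((h1.members hS hA hD hAD).1 hE)
  intro C₁ hC1 C₂ hC2 D₁ hD1 D₂ hD2 hC hD
  obtain ⟨U1, hU1, rfl⟩ := hp _ hC1
  obtain ⟨U2, hU2, rfl⟩ := hp _ hC2
  obtain ⟨V1, hV1, rfl⟩ := hp _ hD1
  obtain ⟨V2, hV2, rfl⟩ := hp _ hD2
  obtain ⟨x, hx, rfl, rfl⟩ := unip_pair r hU1 hU2 (fun e => hC (by rw [e]))
  obtain ⟨y, hy, rfl, rfl⟩ := unip_pair r hV1 hV2 (fun e => hD (by rw [e]))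
  have hm : y * x⁻¹ ∈ K ⊔ K' := Subgroup.mul_mem _ hy (Subgroup.inv_mem _ hx)
  refine ⟨y * x⁻¹, (sup_le ?_ ?_ : K ⊔ K' ≤ _) hm, ?_, ?_⟩
  · refine le_iSup₂_of_le K ⟨hK, fun k hk => ?_⟩ le_rfl
    rw [← h2]; exact cb_eq_iff.1 (hn k (Subgroup.mem_sup_left hk))
  · refine le_iSup₂_of_le K' ⟨hK', fun k hk => ?_⟩ le_rfl
    rw [← h2]; exact cb_eq_iff.1 (hn k (Subgroup.mem_sup_right hk))
  · rw [cb_cent_inf, hn _ hm, cb_cb, inv_mul_cancel_right]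
  · rw [cb_cent_inf, hn _ hm, cb_cb, inv_mul_cancel_right]

end Cfsg.Agent.S5038
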