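import Cfsg.Statements.S5040
import Cfsg.Agent.H6.Rs4

set_option autoImplicit false
open Cfsg

namespace Cfsg.Agent.S5040

open CfsgH6 CfsgH6.Rk

/-- Let S be a non-degenerate class of abstract root subgroups of G and Δ a weak TI-subset of S. Then the members of Δ commute with one another elementwise. -/
theorem result {G : Type*} [Group G] {S : Set (Subgroup G)} (hS : Cfsg.IsRootSubgroupClass S) (hnd : Cfsg.IsNondegenerateRootSet S)
    {Δ : Set (Subgroup G)} (hΔ : Cfsg.IsWeakTISubset S Δ) : Cfsg.IsAbelianFamily Δ := by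
  have hF := nd_hF hS hnd
  have hL := nd_line hS hnd
  obtain ⟨hsub, -, hne, hTI⟩ := hΔ
  let U : Subgroup G :=
    { carrier := {g | ∀ A, conjBy A g ∈ Δ ↔ A ∈ Δ}
      mul_mem' := fun {x y} hx hy A => by rw [← cb_cb, hx, hy]
      one_mem' := fun A => by simp
      inv_mem' := fun {x} hx A => by rw [← hx, cb_cb_inv] }
  have k1 : ∀ A ∈ Δ, ∀ E ∈ S, ⁅A, E⁆ = ⊥ → E ≤ U := by
    intro A hA E hE h e he
    by_cases he1 : e = 1
    · rw [he1]; exact U.one_mem
    rcases hTI e ⟨he1, E, hE, he⟩ with h1 | h1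
    · intro B
      constructor
      · intro hB
        rw [← h1] at hB
        obtain ⟨B', hB', e⟩ := hB
        rwa [← cb_inj e]
      · intro hB; rw [← h1]; exact ⟨B, hB, rfl⟩
    · exact absurd hA (Set.disjoint_left.1 h1 ⟨A, hA, cb_of_comm h he⟩)
  have k2 : ∀ A ∈ Δ, ∀ B ∈ S, B ≤ U → ¬ IsRankOnePair A B := by
    intro A hA B hB hBU h
    have := line_gen hS.1 hF hL hS.2 (hsub hA) hB h (fun C hC => k1 A hA C hC.1.1 hC.1.2.2) hBU
    refine hne (Set.Subset.antisymm hsub fun E hE => ?_)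
    obtain ⟨g, rfl⟩ := hS.2.2 A (hsub hA) E hE
    exact ((this ▸ Subgroup.mem_top g : g ∈ U) A).2 hA
  intro A hA B hB
  rcases tri hS.1 (hsub hA) (hsub hB) with h | h | h
  · exact comm_bot_iff.1 h
  · exact absurd h (k2 A hA B (hsub hB) (k1 B hB B (hsub hB) (self_comm hS.1 (hsub hB))))
  · exfalso
    obtain ⟨D, hD, hAD⟩ := hF A (hsub hA)
    obtain ⟨K, hK, h1, h2⟩ := exK hS.1 hF h.mem (line_symm (hsub hA) (h.line hS.1 (hsub hA) hD hAD))
    refine k2 B hB K hK (k1 A hA K hK ?_) (r1_of_two hS.1 (hsub hA) (hsub hB) hK h (by rw [Subgroup.commutator_comm, h2]))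
    have := comm_bot_symm h1.comm_r
    rwa [h2] at this

end Cfsg.Agent.S5040
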