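import Cfsg.Statements.S5043
import Cfsg.Agent.H5.Tv2
import Cfsg.Agent.H9.KR1

set_option autoImplicit false
open Matrix
open Cfsg

namespace Cfsg.Agent.S5043

open CfsgH5 CfsgH9.KR Module Subgroup

/-- Let k be a field and n a natural number. In SL_{n+3}(k) (so in every dimension at least 3) the conjugates of the root subgroup of elementary transvections 1 + c E₁₂ (c ∈ k) — that is, the groups of transvections attached to an incident point–hyperplane pair — form a non-degenerate class of abstract k-root subgroups of SL_{n+3}(k) whose graph of rank one pairs is connected. -/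
theorem result (k : Type*) [Field k] (n : ℕ) :
    Cfsg.IsRootSubgroupClass {A : Subgroup (Matrix.SpecialLinearGroup (Fin (n + 3)) k) |
        ∃ g : Matrix.SpecialLinearGroup (Fin (n + 3)) k,
          A = Cfsg.conjBy (Subgroup.closure {t : Matrix.SpecialLinearGroup (Fin (n + 3)) k |
            ∃ c : k, (t : Matrix (Fin (n + 3)) (Fin (n + 3)) k) = Matrix.transvection 0 1 c}) g} ∧
    Cfsg.IsNondegenerateRootSet {A : Subgroup (Matrix.SpecialLinearGroup (Fin (n + 3)) k) |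
        ∃ g : Matrix.SpecialLinearGroup (Fin (n + 3)) k,
          A = Cfsg.conjBy (Subgroup.closure {t : Matrix.SpecialLinearGroup (Fin (n + 3)) k |
            ∃ c : k, (t : Matrix (Fin (n + 3)) (Fin (n + 3)) k) = Matrix.transvection 0 1 c}) g} ∧
    Cfsg.IsKRootSubgroupSet k {A : Subgroup (Matrix.SpecialLinearGroup (Fin (n + 3)) k) |
        ∃ g : Matrix.SpecialLinearGroup (Fin (n + 3)) k,
          A = Cfsg.conjBy (Subgroup.closure {t : Matrix.SpecialLinearGroup (Fin (n + 3)) k |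
            ∃ c : k, (t : Matrix (Fin (n + 3)) (Fin (n + 3)) k) = Matrix.transvection 0 1 c}) g} ∧
    Cfsg.IsConnectedFamily (Cfsg.FAdj {A : Subgroup (Matrix.SpecialLinearGroup (Fin (n + 3)) k) |
        ∃ g : Matrix.SpecialLinearGroup (Fin (n + 3)) k,
          A = Cfsg.conjBy (Subgroup.closure {t : Matrix.SpecialLinearGroup (Fin (n + 3)) k |
            ∃ c : k, (t : Matrix (Fin (n + 3)) (Fin (n + 3)) k) = Matrix.transvection 0 1 c}) g})
      {A : Subgroup (Matrix.SpecialLinearGroup (Fin (n + 3)) k) |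
        ∃ g : Matrix.SpecialLinearGroup (Fin (n + 3)) k,
          A = Cfsg.conjBy (Subgroup.closure {t : Matrix.SpecialLinearGroup (Fin (n + 3)) k |
            ∃ c : k, (t : Matrix (Fin (n + 3)) (Fin (n + 3)) k) = Matrix.transvection 0 1 c}) g} := by
  classical
  let ι := LinearEquiv.automorphismGroup.toLinearMapMonoidHom.comp (slHom (Fin (n + 3)) k)
  have hι : ∀ g x, ι g x = slHom _ k g x := fun _ _ => rfl
  let R : Set (End k (Fin (n + 3) → k)) := {a | ∃ (φ : Dual k (Fin (n + 3) → k)) (v : Fin (n + 3) → k), φ v = 0 ∧ φ ≠ 0 ∧ v ≠ 0 ∧ a = LinearMap.smulRight φ v}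
  have mul : ∀ (φ ψ : Dual k (Fin (n + 3) → k)) (v w : Fin (n + 3) → k),
      φ.smulRight v * ψ.smulRight w = φ w • ψ.smulRight v := fun φ ψ v w => LinearMap.ext fun x => by
    simp [smul_smul, mul_comm]
  have lift : ∀ (φ : Dual k (Fin (n + 3) → k)) v (c : k) g, φ v = 0 →
      (ι g = 1 + c • φ.smulRight v ↔ slHom _ k g = tr (c • φ) v) := fun φ v c g h => by
    simp only [LinearMap.ext_iff, LinearEquiv.ext_iff, hι, tr_apply (show (c • φ) v = 0 by simp [h])]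
    simp [smul_smul]
  have opp : ∀ {φ ψ : Dual k (Fin (n + 3) → k)} {v w}, φ v = 0 → ψ w = 0 → φ w ≠ 0 → ψ v ≠ 0 →
      Opp k R (φ.smulRight v) (ψ.smulRight w) := fun {φ ψ v w} a b c d =>
    ⟨⟨φ, v, a, fun e => by simp [e] at c, fun e => by simp [e] at d, rfl⟩,
      ⟨ψ, w, b, fun e => by simp [e] at d, fun e => by simp [e] at c, rfl⟩, _, mul_ne_zero c d,
      by simp only [mul, smul_mul_assoc, smul_smul], by simp only [mul, smul_mul_assoc, smul_smul, mul_comm]⟩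
  have K : KS k ι R := ⟨fun a b e => slHom_inj (LinearEquiv.toLinearMap_injective e), ?_, ?_, ?_, ?_, ?_⟩
  rotate_left
  · rintro _ ⟨φ, v, h, -, -, rfl⟩; simp [mul, h]
  · rintro _ ⟨φ, v, -, h1, h2, rfl⟩ e
    obtain ⟨y, hy⟩ := exists_apply_one h1
    simpa [hy, h2] using LinearMap.congr_fun e y
  · rintro _ ⟨φ, v, h, -, -, rfl⟩ c
    obtain ⟨g, hg⟩ := exists_slHom (tr_mem_sl (c • φ) v)
    exact ⟨g, (lift φ v c g h).2 hg⟩
  · rintro _ ⟨φ, v, h, h1, h2, rfl⟩ g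
    exact ⟨dact (slHom _ k g) φ, slHom _ k g v, by rwa [dact_apply_apply], dact_ne_zero _ h1,
      (slHom _ k g).map_ne_zero_iff.2 h2, LinearMap.ext fun x => by
        simp only [Module.End.mul_apply, hι, LinearMap.smulRight_apply, map_smul, dact_apply, map_inv]⟩
  · rintro _ ⟨φ, v, a1, a2, a3, rfl⟩ _ ⟨ψ, w, b1, b2, b3, rfl⟩
    by_cases e : φ w = 0 <;> by_cases e' : ψ v = 0
    · simp [mul, e, e']
    · exact .inr (.inr ⟨by simp [mul, e], by simp [mul, e], φ, -(ψ v • w), by simp [e], a2, by simp [e', b3],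
        LinearMap.ext fun x => by simp [mul, e, smul_smul, mul_comm]⟩)
    · exact .inr (.inr ⟨by simp [mul, e'], by simp [mul, e'], ψ, φ w • v, by simp [e'], b2, by simp [e, a3],
        LinearMap.ext fun x => by simp [mul, e', smul_smul, mul_comm]⟩)
    · exact .inr (.inl (opp a1 b1 e e'))
  have con := K.conn (by
    rintro _ ⟨φ, v, a1, a2, a3, rfl⟩ _ ⟨ψ, w, b1, b2, b3, rfl⟩
    obtain ⟨χ, u, c1, c2, c3, c4, c5⟩ := exists_opp a1 b1 a2 b2 a3 b3
    exact (Relation.ReflTransGen.single (opp a1 c1 c2 c4)).tail (opp c1 b1 c5 c3))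
  let E : Fin (n + 3) → Fin (n + 3) → End k (Fin (n + 3) → k) := fun i j =>
    LinearMap.smulRight (LinearMap.proj j) (Pi.single i 1)
  have hE : ∀ i j, i ≠ j → E i j ∈ R := fun i j h => ⟨_, _, by simp [h.symm], by simpa using (et_data (F := k) (i := i)).1,
    (et_data (j := j)).2, rfl⟩
  have h01 : (0 : Fin (n + 3)) ≠ 1 := by simp
  have h02 : (0 : Fin (n + 3)) ≠ 2 := by simp [Fin.ext_iff, Nat.mod_eq_of_lt]
  have h12 : (1 : Fin (n + 3)) ≠ 2 := by simp [Fin.ext_iff, Nat.mod_eq_of_lt]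
  have e0 : Subgroup.closure {t : Matrix.SpecialLinearGroup (Fin (n + 3)) k |
      ∃ c : k, (t : Matrix (Fin (n + 3)) (Fin (n + 3)) k) = Matrix.transvection 0 1 c} = X k ι (E 0 1) :=
    congrArg Subgroup.closure (Set.ext fun g => exists_congr fun c => by
      rw [lift _ _ _ _ (by simp)]
      exact ⟨slHom_et h01, fun h => congrArg Subtype.val (slHom_inj (h.trans
        (slHom_et (g := Matrix.SpecialLinearGroup.transvection h01 c) h01 rfl).symm))⟩)
  have cl := cls con ⟨_, _, hE 0 1 h01, rfl⟩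
  have e1 : {A | ∃ g, A = conjBy (X k ι (E 0 1)) g} = X k ι '' R := Set.ext fun A =>
    ⟨fun ⟨g, hg⟩ => ⟨_, K.conj _ (hE 0 1 h01) g, by rw [hg, X_conj (K.sq _ (hE 0 1 h01))]⟩,
      cl.2 _ ⟨_, hE 0 1 h01, rfl⟩ A⟩
  rw [e0, e1]
  have r := K.root (top_of_sl_le (sl_le fun φ v h => by
    by_cases e : φ = 0 ∨ v = 0
    · rw [(tr_eq_one_iff h).2 e]; exact one_mem _
    obtain ⟨t, ht⟩ := exists_slHom (tr_mem_sl φ v)
    exact ⟨t, mem_iSup_of_mem _ (mem_iSup_of_mem ⟨_, ⟨φ, v, h, (not_or.1 e).1, (not_or.1 e).2, rfl⟩, rfl⟩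
      (Subgroup.subset_closure (Exists.intro 1 ((lift φ v 1 t h).2 (by rwa [one_smul]))))), ht⟩))
  refine ⟨⟨r.1, cl⟩, ⟨⟨_, ⟨_, hE 0 1 h01, rfl⟩, _, ⟨_, hE 0 2 h02, rfl⟩, fun e => ?_,
    K.comm (K.sq _ (hE 0 1 h01)) (K.sq _ (hE 0 2 h02)) (by simp [E, mul, h02.symm])⟩,
    ⟨_, ⟨_, hE 0 1 h01, rfl⟩, _, ⟨_, hE 1 0 h01.symm, rfl⟩, (K.psl (opp (by simp) (by simp) (by simp) (by simp))).2⟩,
    _, ⟨_, hE 0 1 h01, rfl⟩, _, ⟨_, hE 1 2 h12, rfl⟩, K.c3 (hE 0 1 h01) (hE 1 2 h12) (by simp [E, mul, h02.symm])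
      (by simp [E, mul, h02.symm]) (by simpa [E, mul, h02.symm] using hE 0 2 h02)⟩, r, con⟩
  obtain ⟨g, hg⟩ := K.lift _ (hE 0 1 h01) 1
  obtain ⟨c, hc⟩ := (mem_X (K.sq _ (hE 0 2 h02))).1 (e ▸ (mem_X (K.sq _ (hE 0 1 h01))).2 ⟨1, hg⟩)
  simpa [E, h12.symm] using congrFun (LinearMap.congr_fun (hg.symm.trans hc) (Pi.single 1 1)) 0

end Cfsg.Agent.S5043
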