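import Cfsg.Statements.S5045
import Cfsg.Agent.H9.RI1

set_option autoImplicit false
open Cfsg

namespace Cfsg.Agent.S5045

/-- Let G be a finite group generated by a set D of root involutions, and W the set of members of D whose product with every other member of D has even order or is trivial (the isolated vertices of the odd-order-product graph on D). Then W is conjugation-invariant and generates a normal 2-subgroup of G meeting D in exactly W; the commutator of two members of D lying in different connected components of that graph, each with more than one member, lies in the subgroup generated by W; and for a in such a component, every member of D commuting with a, different from a and with product with a in D, lies in that component or in W. -/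
theorem result {G : Type*} [Group G] [Finite G] {D : Set G} (hD : Cfsg.IsRootInvolutionSet D) :
    (∀ w ∈ {w | Cfsg.IsIsolatedElem (Cfsg.OddAdj D) D w}, ∀ g : G, g * w * g⁻¹ ∈ {w | Cfsg.IsIsolatedElem (Cfsg.OddAdj D) D w}) ∧
    (Subgroup.closure {w | Cfsg.IsIsolatedElem (Cfsg.OddAdj D) D w}).Normal ∧
    IsPGroup 2 ↥(Subgroup.closure {w | Cfsg.IsIsolatedElem (Cfsg.OddAdj D) D w}) ∧
    (Subgroup.closure {w | Cfsg.IsIsolatedElem (Cfsg.OddAdj D) D w} : Set G) ∩ D = {w | Cfsg.IsIsolatedElem (Cfsg.OddAdj D) D w} ∧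
    (∀ a ∈ D, ∀ b ∈ D, (∃ a' ∈ Cfsg.elemComponentOf (Cfsg.OddAdj D) D a, a' ≠ a) →
      (∃ b' ∈ Cfsg.elemComponentOf (Cfsg.OddAdj D) D b, b' ≠ b) →
      Cfsg.elemComponentOf (Cfsg.OddAdj D) D a ≠ Cfsg.elemComponentOf (Cfsg.OddAdj D) D b →
        a * b * a⁻¹ * b⁻¹ ∈ Subgroup.closure {w | Cfsg.IsIsolatedElem (Cfsg.OddAdj D) D w}) ∧
    (∀ a ∈ D, (∃ a' ∈ Cfsg.elemComponentOf (Cfsg.OddAdj D) D a, a' ≠ a) →
      Cfsg.productPartners D a ⊆ Cfsg.elemComponentOf (Cfsg.OddAdj D) D a ∪ {w | Cfsg.IsIsolatedElem (Cfsg.OddAdj D) D w}) := by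
  open Subgroup CfsgH9.RI in
  have c : ∀ w ∈ {w | IsIsolatedElem (OddAdj D) D w}, ∀ g : G, g * w * g⁻¹ ∈ {w | IsIsolatedElem (OddAdj D) D w} := fun w h g =>
    (iso_iff hD).2 ⟨hD.conj_mem w h.1 g, (inferInstance : (pCore 2 G).Normal).conj_mem w ((iso_iff hD).1 h).2 g⟩
  have l : Subgroup.closure {w | IsIsolatedElem (OddAdj D) D w} ≤ pCore 2 G := (closure_le _).2 fun w h => ((iso_iff hD).1 h).2
  have ex : ∀ a, (∃ a' ∈ elemComponentOf (OddAdj D) D a, a' ≠ a) → ∃ x, OddAdj D a x := fun a ⟨a', h, n⟩ =>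
    h.2.cases_head.elim (fun e => (n e.symm).elim) fun ⟨x, e, _⟩ => ⟨x, e⟩
  have k : ∀ a b, (∃ x, OddAdj D a x) → Ln D a b → b ∈ elemComponentOf (OddAdj D) D a ∪ {w | IsIsolatedElem (OddAdj D) D w} := fun a b ⟨x, h⟩ l => by
    refine or_iff_not_imp_right.2 fun n => ?_
    by_contra m
    exact n ⟨l.r, fun y => ⟨fun o => m ⟨l.r, path hD l h o⟩, fun o => m ⟨l.r, path hD l h (A_symm hD o)⟩⟩⟩
  refine ⟨c, ⟨fun n hn g => (show Subgroup.closure {w | IsIsolatedElem (OddAdj D) D w} ≤ (Subgroup.closure {w | IsIsolatedElem (OddAdj D) D w}).comap (MulAut.conj g).toMonoidHom from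
    (closure_le _).2 fun w h => subset_closure (c w h g)) hn⟩,
    (CfsgH1.isPGroup_pCore 2 G).to_le l, Set.Subset.antisymm (fun w h => (iso_iff hD).2 ⟨h.2, l h.1⟩) fun w h => ⟨subset_closure h, h.1⟩,
    fun a ha b hb h1 h2 n => ?_, fun a ha h b hb => k a b (ex a h) ⟨ha, hb.1.1, hb.1.2.1.symm, hb.1.2.1 ▸ hb.2⟩⟩
  have e : ∀ {a b}, Relation.ReflTransGen (OddAdj D) a b → elemComponentOf (OddAdj D) D a = elemComponentOf (OddAdj D) D b := fun h =>
    Set.ext fun _ => and_congr_right fun _ => ⟨(R_symm hD h).trans, h.trans⟩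
  by_cases m : Commute a b
  · simp [m.eq]
  have v : V4 D a b := ⟨ha, hb, fun o => n (e (.single o)), m⟩
  rw [inv hD ha, inv hD hb, show a * b * a * b = a * (b * a * b) by simp only [mul_assoc]]
  rcases k _ _ (ex a h1) (v.ln hD) with p | p
  · exact subset_closure ((k _ _ (ex b h2) (v.ln' hD)).resolve_left fun q => n ((e p.2).trans (e q.2).symm))
  · exact subset_closure p

end Cfsg.Agent.S5045
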