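import Cfsg.Statements.S5046
import Cfsg.Agent.H9.RI1

set_option autoImplicit false
open Cfsg

namespace Cfsg.Agent.S5046

/-- Let G be a finite group generated by a set D of root involutions whose odd-order-product graph is connected, and d ∈ D. Then the members e of D with the same commuting members as d are exactly those for which the union of the commuting members of d and the members whose product with d has order 4 equals the corresponding union for e. -/
theorem result {G : Type*} [Group G] [Finite G] {D : Set G} (hD : Cfsg.IsRootInvolutionSet D)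
    (hc : Cfsg.IsConnectedSet (Cfsg.OddAdj D) D) {d : G} (hd : d ∈ D) :
    Cfsg.sameCommutingClass D d =
      {e | e ∈ D ∧ Cfsg.commutingMembers D d ∪ Cfsg.fourPartners D d = Cfsg.commutingMembers D e ∪ Cfsg.fourPartners D e} := by
  open Subgroup CfsgH9.RI in
  have k : ∀ {d x}, d ∈ D → (x ∈ commutingMembers D d ∪ fourPartners D d ↔ x ∈ D ∧ ¬ OddAdj D d x) := fun {d x} hd =>
    ⟨fun h => h.elim (fun h => ⟨h.1, na_of hD hd h.1 h.2.symm⟩) fun h => ⟨h.1, (v4_of hD hd h.1 h.2).na⟩, fun h => by
      by_cases c : Commute d x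
      exacts [.inl ⟨h.1, c.symm⟩, .inr ⟨h.1, (V4.ord hD ⟨hd, h.1, h.2, c⟩).1⟩]⟩
  refine Set.ext fun e => and_congr_right fun he => (E_iff hD hc hd he).trans ⟨fun h => Set.ext fun x => by rw [k hd, k he, h], fun h x => ?_⟩
  have := Set.ext_iff.1 h x
  rw [k hd, k he] at this
  exact ⟨fun o => by by_contra n; exact (this.2 ⟨o.2.1, n⟩).2 o, fun o => by by_contra n; exact (this.1 ⟨o.2.1, n⟩).2 o⟩

end Cfsg.Agent.S5046
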