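import Cfsg.Statements.S5047
import Cfsg.Agent.H9.RI1

set_option autoImplicit false
open Cfsg

namespace Cfsg.Agent.S5047

/-- Let G be a finite group generated by a set D of root involutions whose odd-order-product graph is connected, a ∈ D, and b a member of D different from a, commuting with a, with ab ∈ D, but not having the same commuting members as a. Then some member x of D with bx of order 4 has ax of order 3. -/
theorem result {G : Type*} [Group G] [Finite G] {D : Set G} (hD : Cfsg.IsRootInvolutionSet D)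
    (hc : Cfsg.IsConnectedSet (Cfsg.OddAdj D) D) {a b : G} (ha : a ∈ D) (hb : b ∈ Cfsg.productPartners D a)
    (hbE : b ∉ Cfsg.sameCommutingClass D a) : ∃ x ∈ Cfsg.fourPartners D b, orderOf (a * x) = 3 := by
  open Subgroup CfsgH9.RI in
  have k : ∀ {a b}, Ln D a b → commutingMembers D a ≠ commutingMembers D b → ∃ g, V4 D g a ∧ g * (a * g * a) = b := fun l n => by
    obtain ⟨x, o, m⟩ : ∃ x, OddAdj D _ x ∧ ¬ OddAdj D _ x := by
      by_contra! H; exact n ((E_iff hD hc l.l l.r).2 (eq_of_le hD hc l.l l.r H))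
    exact (L7 hD o l m).imp fun _ h => ⟨h.1, h.2.2⟩
  have l : Ln D a b := ⟨ha, hb.1.1, hb.1.2.1.symm, hb.1.2.1 ▸ hb.2⟩
  obtain ⟨g, v, e⟩ := k l fun h => hbE ⟨l.r, h⟩
  have l' : Ln D g b := e ▸ v.ln hD
  obtain ⟨x, w, f⟩ := k l'.symm fun h => v.nc (h.le ⟨ha, l.c⟩).2.symm
  refine ⟨x, ⟨w.l, ((w.symm hD).ord hD).1⟩, ?_⟩
  have e1 : a * x * b * (a * x)⁻¹ = g := by
    have : x * b * x = b * g := by rw [← f, ← w.cm hD, sq' hD l.r]
    rw [mul_inv_rev, inv hD ha, inv hD w.l, show a * x * b * (x * a) = a * (x * b * x) * a by simp only [mul_assoc], this, ← mul_assoc, l.c.eq,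
      mul_assoc, mul_assoc, ← mul_assoc a, ← sq' hD v.l (a * g * a), e, l'.c.eq, sq' hD l.r]
  have e2 : a * x * g * (a * x)⁻¹ = g * b := by
    have c : Commute x g := f ▸ (w.ln hD).c
    rw [mul_inv_rev, inv hD ha, inv hD w.l, ← e, sq' hD v.l, mul_assoc a, c.eq]; simp only [mul_assoc, sq' hD w.l]
  have e3 : Commute ((a * x) ^ 3) b := by
    have : a * x * (a * x * (a * x * b * (a * x)⁻¹) * (a * x)⁻¹) * (a * x)⁻¹ = b := by
      rw [e1, e2, ← conj_mul, e1, e2, l'.c.eq, mul_assoc, sq hD v.l, mul_one]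
    rw [Commute, SemiconjBy]; nth_rw 2 [← this]; simp [pow_succ, mul_assoc]
  have o : OddAdj D a x := by
    by_contra n
    have := (na_iff hD ha w.l).1 n
    rw [pow_succ', mul_eq_one_iff_eq_inv] at this
    have c : Commute (a * x) b := this ▸ e3.inv_left
    rw [c.eq, mul_inv_cancel_right] at e1
    exact ne1 hD l'.m (by rw [← e1, sq hD l.r])
  have t : a * (a * x) ^ 3 ∈ D := by simpa [pow_succ, mul_assoc, sq' hD ha, inv hD ha, inv hD w.l] using hD.conj_mem x w.l (x * a)
  refine orderOf_eq_prime (hp := ⟨Nat.prime_three⟩) ?_ fun z => o.2.2.1 (eq_of hD ha z)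
  by_contra n
  exact L1 hD l ⟨ha, t, by simpa using n, by rw [sq' hD ha]; exact o.2.2.2.of_dvd_nat (orderOf_pow_dvd 3)⟩ (l.c.symm.mul_right e3.symm)

end Cfsg.Agent.S5047
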