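import Cfsg.Statements.S5048
import Cfsg.Agent.H9.RI1

set_option autoImplicit false
open Cfsg

namespace Cfsg.Agent.S5048

/-- Let G be a finite group generated by a set D of root involutions whose odd-order-product graph is connected, with some product of two different commuting members of D again in D. Then the largest solvable normal subgroup of G is the preimage of the centre of G/O₂(G), and the quotient of G by it is a simple group. -/
theorem result {G : Type*} [Group G] [Finite G] {D : Set G} (hD : Cfsg.IsRootInvolutionSet D)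
    (hc : Cfsg.IsConnectedSet (Cfsg.OddAdj D) D) (hDD : (D ∩ Cfsg.commutingProducts D).Nonempty) :
    Cfsg.solvableRadical G = Cfsg.twoZCore G ∧ IsSimpleGroup (G ⧸ Cfsg.twoZCore G) := by
  open Subgroup CfsgH9.RI CfsgH1 CfsgH2 in
  obtain ⟨_, m, a, ha, b, hb, c, -, rfl⟩ := hDD
  have l : Ln D a b := ⟨ha, hb, c, m⟩
  have top : ∀ N : Subgroup G, N.Normal → ∀ d ∈ D, d ∈ N → N = ⊤ := fun N hN d hd h => eq_top_iff.2 (hD.generates.ge.trans ((closure_le _).2 fun x hx => by
    obtain ⟨g, rfl⟩ := conj hD hc hd hx; exact hN.conj_mem d h g))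
  have key : ∀ N : Subgroup G, N.Normal → N ≠ ⊤ → N ≤ twoZCore G := fun N hN n => by
    have na : ∀ d ∈ D, ∀ t ∈ D, (d : G ⧸ N) = t → ¬ OddAdj D d t := fun d hd t ht e o => by
      obtain ⟨g, rfl⟩ := conj hD hc ha hd
      have l' : Ln D (g * a * g⁻¹) (g * b * g⁻¹) := ⟨hd, hD.conj_mem b hb g, by simpa [Commute, SemiconjBy] using c, by simpa using hD.conj_mem _ m g⟩
      generalize g * a * g⁻¹ = d, g * b * g⁻¹ = u at *
      have z : ((u * t * (u * t) : G) : G ⧸ N) = 1 := by
        simp only [QuotientGroup.mk_mul, ← e]; simp only [← QuotientGroup.mk_mul]; rw [← l'.c.eq, sq hD l'.m]; rfl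
      by_cases p : OddAdj D u t
      · refine n (top N hN _ l'.symm.m ((QuotientGroup.eq_one_iff _).1 ?_))
        rw [QuotientGroup.mk_mul, e]
        exact eq_one_of_inv_of_odd (odd_orderOf_map (QuotientGroup.mk' N) p.2.2.2) (inv_eq_of_mul_eq_one_right z)
      · exact n (top N hN _ (V4.ln hD ⟨l'.r, ht, p, L1 hD l' o⟩).r ((QuotientGroup.eq_one_iff _).1 (by simpa only [mul_assoc] using z)))
    intro x hx
    refine mem_center_iff.2 fun y => ?_
    obtain ⟨y, rfl⟩ := QuotientGroup.mk'_surjective _ y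
    refine ((hD.generates.ge.trans ((closure_le ((centralizer {QuotientGroup.mk' (pCore 2 G) x}).comap (QuotientGroup.mk' _))).2 fun d hd => ?_)) (mem_top y) _ rfl).symm
    let T := {t ∈ D | (d : G ⧸ N) = t}
    have cj : ∀ y ∈ N, ∀ t ∈ T, y * t * y⁻¹ ∈ T := fun y hy t ht => ⟨hD.conj_mem t ht.1 y, by
      simp [(QuotientGroup.eq_one_iff y).2 hy, ht.2]⟩
    have p := baer_sub (T := T) (fun a ha b hb => ⟨hD.conj_mem a ha.1 b, by simp [← ha.2, ← hb.2]⟩) (fun a ha => sq hD ha.1)
      fun a ha b hb => (na_iff hD ha.1 hb.1).1 (na a ha.1 b hb.1 (ha.2.symm.trans hb.2))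
    have : ((Subgroup.closure T).subgroupOf N).Normal := ⟨fun n hn g => (show Subgroup.closure T ≤ (Subgroup.closure T).comap (MulAut.conj g.1).toMonoidHom from
      (closure_le _).2 fun w h => subset_closure (cj g g.2 w h)) hn⟩
    have := map_pCore_le_of_normal N ⟨⟨x * (d * x⁻¹ * d⁻¹), mul_mem hx (hN.conj_mem _ (inv_mem hx) d)⟩, le_pCore (N := (Subgroup.closure T).subgroupOf N) p.comap_subtype (mem_subgroupOf.2 (by
      simpa only [mul_assoc] using mul_mem (subset_closure (cj x hx d ⟨hd, rfl⟩)) (inv_mem (subset_closure (k := T) ⟨hd, rfl⟩)))), rfl⟩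
    rw [SetLike.mem_coe, mem_comap, mem_centralizer_singleton_iff, eq_comm, ← commutatorElement_eq_one_iff_mul_comm, ← map_commutatorElement]
    exact (QuotientGroup.eq_one_iff _).2 (by simpa [commutatorElement_def, mul_assoc] using this)
  have ne : twoZCore G ≠ ⊤ := fun e => by
    obtain ⟨x, o⟩ := ex hD hc ha hb (by rintro rfl; exact ne1 hD m (sq hD ha))
    have : a * x * (a * x) ∈ pCore 2 G := by
      have := commutatorElement_eq_one_iff_mul_comm.2 (mem_center_iff.1 (e.ge (mem_top x)) (QuotientGroup.mk' _ a))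
      rw [← map_commutatorElement] at this
      simpa [commutatorElement_def, inv hD ha, inv hD o.2.1, mul_assoc] using (QuotientGroup.eq_one_iff _).1 this
    have := eq_one_of_odd_of_mem (isPGroup_pCore 2 G) this (by rw [← pow_two]; exact o.2.2.2.of_dvd_nat (orderOf_pow_dvd 2))
    exact o.2.2.1 (eq_of hD ha (eq_one_of_inv_of_odd o.2.2.2 (inv_eq_of_mul_eq_one_right this)))
  have := QuotientGroup.nontrivial_iff.2 ne
  refine ⟨le_antisymm (sSup_le fun N h => key N h.1 ?_) (le_sSup ⟨inferInstance, ?_⟩), ⟨fun N hN => or_iff_not_imp_right.2 fun n => ?_⟩⟩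
  · rintro rfl
    have := h.2
    have := Group.isSolvable_of_surjective (f := (⊤ : Subgroup G).subtype) fun x => ⟨⟨x, trivial⟩, rfl⟩
    have := nontrivial_of_ne _ _ (ne1 hD ha)
    refine (Group.IsSolvable.commutator_lt_top_of_nontrivial G).ne (top _ inferInstance b hb ?_)
    obtain ⟨g, e⟩ := conj hD hc ha m
    have : a * g * a⁻¹ * g⁻¹ = b := by rw [← sq' hD ha b, ← e, inv hD ha]; simp only [mul_assoc]
    exact this ▸ commutator_mem_commutator (mem_top a) (mem_top g)
  · have := (isPGroup_pCore 2 G).isNilpotent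
    have : Group.IsSolvable (center (G ⧸ pCore 2 G)) := Group.isSolvable_of_comm fun x y => Subtype.ext (mem_center_iff.1 y.2 x)
    have l : pCore 2 G ≤ twoZCore G := fun x hx => by simp [twoZCore, (QuotientGroup.eq_one_iff x).2 hx]
    exact Group.isSolvable_of_ker_le_range (inclusion l) ((QuotientGroup.mk' _).subgroupComap (center _)) fun x hx =>
      ⟨⟨x, (QuotientGroup.eq_one_iff _).1 (congrArg Subtype.val hx)⟩, rfl⟩
  · refine eq_bot_iff.2 fun x hx => ?_
    obtain ⟨x, rfl⟩ := QuotientGroup.mk'_surjective _ x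
    exact (QuotientGroup.eq_one_iff x).2 (key _ (hN.comap _) (fun e => n (comap_injective (QuotientGroup.mk'_surjective _) e)) hx)

end Cfsg.Agent.S5048
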