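import Cfsg.Statements.S5049
import Cfsg.Agent.H9.RI1

set_option autoImplicit false
open Cfsg

namespace Cfsg.Agent.S5049

/-- Let G be a finite group generated by a set D of odd transpositions (root involutions with no product of order 4), Q = O₂(G), and for a ∈ D let Q_a be the commutator subgroup of Q with a. Then every member of D commuting with a centralizes Q_a; and for b ∈ D with ab of odd order greater than 1, the centralizer of ab in Q is the intersection of the centralizers of a and b in Q. -/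
theorem result {G : Type*} [Group G] [Finite G] {D : Set G} (hD : Cfsg.IsOddTranspositionSet D) {a : G} (ha : a ∈ D) :
    (∀ e ∈ Cfsg.commutingMembers D a, ∀ q ∈ ⁅Cfsg.pCore 2 G, Subgroup.zpowers a⁆, e * q = q * e) ∧
    (∀ b ∈ Cfsg.oddPartners D a,
      Cfsg.pCore 2 G ⊓ Subgroup.centralizer {a * b} = Cfsg.pCore 2 G ⊓ Subgroup.centralizer {a} ⊓ Subgroup.centralizer {b}) := by
  open Subgroup CfsgH9.RI CfsgH1 CfsgH2 in
  have k : ∀ {a e q}, a ∈ D → e ∈ D → Commute e a → q ∈ pCore 2 G → Commute e (q * a * q⁻¹) := fun {a e q} ha he c hq => by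
    have h' := hD.1.conj_mem a ha q
    by_contra n
    refine hD.2 _ he _ h' (V4.ord hD.1 ⟨he, h', fun o => ?_, n⟩).1
    have : e * (q * a * q⁻¹) * (e * (q * a * q⁻¹)) ∈ pCore 2 G := (QuotientGroup.eq_one_iff _).1 (by
      simp only [QuotientGroup.mk_mul, QuotientGroup.mk_inv, (QuotientGroup.eq_one_iff q).2 hq, one_mul, inv_one, mul_one]
      simp only [← QuotientGroup.mk_mul]; rw [c.symm.mul_mul_mul_comm, sq hD.1 he, sq hD.1 ha, one_mul]; rfl)
    have := eq_one_of_odd_of_mem (isPGroup_pCore 2 G) this (by rw [← pow_two]; exact o.2.2.2.of_dvd_nat (orderOf_pow_dvd 2))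
    exact o.2.2.1 (eq_of hD.1 he (eq_one_of_inv_of_odd o.2.2.2 (inv_eq_of_mul_eq_one_right this)))
  refine ⟨fun e he q hq => (show _ ≤ centralizer {e} from commutator_le.2 fun x hx y hy => ?_) hq e rfl, fun b hb => le_antisymm (fun q hq => ?_) fun q hq =>
    ⟨hq.1.1, mem_centralizer_singleton_iff.2 (Commute.mul_right (mem_centralizer_singleton_iff.1 hq.1.2) (mem_centralizer_singleton_iff.1 hq.2))⟩⟩
  · obtain ⟨n, rfl⟩ := hy
    refine mem_centralizer_singleton_iff.2 (Commute.symm (Commute.mul_right ?_ ((Commute.zpow_right he.2 n).inv_right)))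
    simpa only [conj_zpow] using (k ha he.1 he.2 hx).zpow_right n
  have c1 := k ha ha rfl hq.1
  have c2 := k hb.1 hb.1 rfl hq.1
  have e : a * (q * a * q⁻¹) = b * (q * b * q⁻¹) := by
    have e : q * a * q⁻¹ * (q * b * q⁻¹) = a * b := by rw [conj_mul, mem_centralizer_singleton_iff.1 hq.2, mul_inv_cancel_right]
    rw [← sq' hD.1 ha (b * _), ← mul_assoc a b, ← e, mul_assoc (q * a * q⁻¹), sq hD.1 (hD.1.conj_mem b hb.1 q), mul_one]
  have := L0 hD.1 ⟨ha, hb.1, hb.2.1.symm, hb.2.2⟩ (z := a * (q * a * q⁻¹)) (by rw [c1.symm.mul_mul_mul_comm, sq hD.1 ha, sq hD.1 (hD.1.conj_mem a ha q), one_mul])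
    ((Commute.refl a).mul_left c1.symm) (e ▸ (Commute.refl b).mul_left c2.symm) (by rw [c1.eq, mul_assoc, sq hD.1 ha, mul_one]; exact hD.1.conj_mem a ha q)
  exact ⟨⟨hq.1, mem_centralizer_singleton_iff.2 (mul_inv_eq_iff_eq_mul.1 (eq_of hD.1 ha this).symm)⟩,
    mem_centralizer_singleton_iff.2 (mul_inv_eq_iff_eq_mul.1 (eq_of hD.1 hb.1 (e ▸ this)).symm)⟩

end Cfsg.Agent.S5049
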