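import Cfsg.Statements.S5057
import Cfsg.Agent.H9.RI1
import Cfsg.Agent.H8.AltSpectrum

set_option autoImplicit false
open Cfsg

namespace Cfsg.Agent.S5057

/-- The involutions of the alternating group of degree 6 form a class of root involutions (a single conjugacy class of involutions generating the group, any two of which commute, have product of odd order, or have product of order 4 whose square is again an involution of the class), and the product of any two of them has order at most 5. -/
theorem result :
    Cfsg.IsRootInvolutionClass {g : ↥(alternatingGroup (Fin 6)) | orderOf g = 2} ∧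
    ∀ d ∈ {g : ↥(alternatingGroup (Fin 6)) | orderOf g = 2}, ∀ e ∈ {g : ↥(alternatingGroup (Fin 6)) | orderOf g = 2},
      orderOf (d * e) ≤ 5 := by
  open Subgroup Equiv Equiv.Perm in
  have o : ∀ g : alternatingGroup (Fin 6), orderOf g ∈ ({1, 2, 3, 4, 5} : Set ℕ) := fun g => CfsgH8.range_orderOf_alt6 ▸ ⟨g, rfl⟩
  have t : ∀ g : alternatingGroup (Fin 6), orderOf g = 2 → g.1.cycleType = {2, 2} := fun g h => by
    obtain ⟨n, e⟩ := cycleType_prime_order (σ := g.1) (by rw [orderOf_coe, h]; exact Nat.prime_two)
    rw [orderOf_coe, h] at e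
    have s := sum_cycleType_le g.1
    have := (CfsgH8.mem_alternatingGroup_iff_cycleType g.1).1 g.2
    rw [e] at s this ⊢
    simp only [Multiset.sum_replicate, Multiset.card_replicate, smul_eq_mul, Fintype.card_fin, Nat.even_iff] at s this
    obtain rfl : n = 1 := by omega
    rfl
  let a : alternatingGroup (Fin 6) := ⟨swap 0 1 * swap 2 3, by rw [mem_alternatingGroup]; decide⟩
  have ha : orderOf a = 2 := orderOf_eq_prime (by decide) (by decide)
  have := alternatingGroup.isSimpleGroup (α := Fin 6) (by simp)
  have c : ∀ d : alternatingGroup (Fin 6), orderOf d = 2 → ∀ g, orderOf (g * d * g⁻¹) = 2 := fun d h g => (CfsgH9.RI.ord_cj g d).trans h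
  refine ⟨⟨⟨fun _ h => h, ((this.eq_bot_or_eq_top_of_normal _ ⟨fun n hn g => (show closure {g : alternatingGroup (Fin 6) | orderOf g = 2} ≤
    (closure {g : alternatingGroup (Fin 6) | orderOf g = 2}).comap (MulAut.conj g).toMonoidHom from (closure_le _).2 fun w h => subset_closure (c w h g)) hn⟩).resolve_left
      fun e => absurd (mem_bot.1 (e.le (subset_closure ha))) (by decide)), c, fun x hx y hy => ?_⟩, ⟨a, ha⟩, fun x hx y hy => ?_⟩, fun d _ e _ => ?_⟩
  · have i : ∀ {x : alternatingGroup (Fin 6)}, orderOf x = 2 → x⁻¹ = x := fun h => inv_eq_of_mul_eq_one_right (by rw [← pow_two, ← h, pow_orderOf_eq_one])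
    rcases o (x * y) with h | h | h | h | h
    · simp [h]
    · exact .inl (by rw [← i h, mul_inv_rev, i hx, i hy])
    · simp [h, Nat.odd_iff]
    · exact .inr (.inr ⟨h, by rw [Set.mem_setOf_eq, orderOf_pow, h]; rfl⟩)
    · rw [Set.mem_singleton_iff.1 h]; simp [Nat.odd_iff]
  · exact (isConj_iff.1 (alternatingGroup.isConj_of (isConj_iff_cycleType_eq.2 ((t x hx).trans (t y hy).symm))
      (by rw [← sum_cycleType, t x hx]; simp))).imp fun _ => Eq.symm
  · rcases o (d * e) with h | h | h | h | h <;> rw [h] <;> norm_num

end Cfsg.Agent.S5057
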