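import Cfsg.Statements.S5058
import Cfsg.Agent.H5.Tv2

set_option autoImplicit false
open Matrix
open Cfsg

namespace Cfsg.Agent.S5058

open CfsgH5 Module Subgroup

/-- Let F be a finite field of characteristic 2 and n a natural number. Then the transvections of SL_{n+3}(F) (so in every dimension at least 3) (the conjugates of the elementary matrices 1 + c E₁₂, c ≠ 0) form a class of root involutions of SL_{n+3}(F); when F has two elements they form a class of {3,4}⁺-transpositions (every product of odd order has order 1 or 3). -/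
theorem result (F : Type*) [Field F] [Fintype F] [CharP F 2] (n : ℕ) :
    Cfsg.IsRootInvolutionClass {t : Matrix.SpecialLinearGroup (Fin (n + 3)) F | ∃ c : F, c ≠ 0 ∧
        ∃ g : Matrix.SpecialLinearGroup (Fin (n + 3)) F, ((g⁻¹ * t * g : Matrix.SpecialLinearGroup (Fin (n + 3)) F) :
          Matrix (Fin (n + 3)) (Fin (n + 3)) F) = Matrix.transvection 0 1 c} ∧
    (Fintype.card F = 2 → Cfsg.IsThreeFourPlusTranspositionSet {t : Matrix.SpecialLinearGroup (Fin (n + 3)) F | ∃ c : F, c ≠ 0 ∧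
        ∃ g : Matrix.SpecialLinearGroup (Fin (n + 3)) F, ((g⁻¹ * t * g : Matrix.SpecialLinearGroup (Fin (n + 3)) F) :
          Matrix (Fin (n + 3)) (Fin (n + 3)) F) = Matrix.transvection 0 1 c}) := by
  classical
  have : Finite ((Fin (n + 3) → F) ≃ₗ[F] (Fin (n + 3) → F)) := DFunLike.finite _
  have h01 : (0 : Fin (n + 3)) ≠ 1 := by simp
  set D := {t : Matrix.SpecialLinearGroup (Fin (n + 3)) F | ∃ c : F, c ≠ 0 ∧
    ∃ g : Matrix.SpecialLinearGroup (Fin (n + 3)) F, ((g⁻¹ * t * g : Matrix.SpecialLinearGroup (Fin (n + 3)) F) :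
      Matrix (Fin (n + 3)) (Fin (n + 3)) F) = Matrix.transvection 0 1 c}
  have cj : ∀ {a b : Matrix.SpecialLinearGroup (Fin (n + 3)) F} {φ ψ v w}, φ v = 0 → ψ w = 0 → φ ≠ 0 → ψ ≠ 0 →
      v ≠ 0 → w ≠ 0 → slHom _ F a = tr φ v → slHom _ F b = tr ψ w → ∃ g, b = g * a * g⁻¹ :=
    fun h1 h2 h3 h4 h5 h6 ha hb => by
      obtain ⟨g, hg, e⟩ := exists_sl_flag (by simp) h1 h2 h3 h4 h5 h6
      obtain ⟨g, rfl⟩ := exists_slHom hg
      exact ⟨g, slHom_inj (by rw [hb, map_mul, map_mul, map_inv, ha, e])⟩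
  have hD : ∀ t, t ∈ D ↔ ∃ φ v, φ v = 0 ∧ φ ≠ 0 ∧ v ≠ 0 ∧ slHom _ F t = tr φ v := fun t =>
    ⟨fun ⟨c, hc, g, hg⟩ => ⟨dact (slHom _ F g) (c • LinearMap.proj 1), slHom _ F g (Pi.single 0 1),
      by rw [dact_apply_apply, et_aux h01], dact_ne_zero _ (smul_ne_zero hc fun e => by
        simpa using LinearMap.congr_fun e (Pi.single 1 1)), (slHom _ F g).map_ne_zero_iff.2 (et_data (j := 0)).2,
      by rw [← conj_tr, ← et, ← slHom_et h01 hg]; simp [mul_assoc]⟩, fun ⟨φ, v, h1, h2, h3, h4⟩ => by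
      obtain ⟨g, hg⟩ := cj (a := Matrix.SpecialLinearGroup.transvection h01 1) (et_aux h01 1) h1
        (et_data (i := 0)).1 h2 (et_data (j := 0)).2 h3 (slHom_et h01 rfl) h4
      exact ⟨1, one_ne_zero, g, by rw [hg]; simp [mul_assoc]; rfl⟩⟩
  have ho : ∀ a, orderOf a = orderOf (slHom (Fin (n + 3)) F a) := fun a => (orderOf_injective _ slHom_inj a).symm
  have h2 : ∀ d ∈ D, orderOf d = 2 := fun d hd => by
    obtain ⟨φ, v, h1, h2, h3, h4⟩ := (hD d).1 hd
    rw [ho, h4]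
    exact orderOf_eq_prime (by rw [sq, tr_sq' h1]) (by simp [tr_eq_one_iff h1, h2, h3])
  have h4 : ∀ x, x ^ 2 ∈ D → orderOf x = 4 ∧ x ^ 2 ∈ D := fun x hx =>
    ⟨orderOf_eq_prime_pow (p := 2) (n := 1) (fun e => by simpa [show x ^ 2 = 1 from e] using h2 _ hx)
      (by rw [show 2 ^ (1 + 1) = 2 * 2 from rfl, pow_mul]; exact (congrArg _ (h2 _ hx)).symm.trans (pow_orderOf_eq_one _)), hx⟩
  have h5 : ∀ a ∈ D, ∀ b ∈ D, a * b = b * a ∨ (Odd (orderOf (a * b)) ∧ (Fintype.card F = 2 → (a * b) ^ 3 = 1)) ∨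
      (orderOf (a * b) = 4 ∧ (a * b) ^ 2 ∈ D) := fun a ha b hb => by
    obtain ⟨φ, v, a1, a2, a3, a4⟩ := (hD a).1 ha
    obtain ⟨ψ, w, b1, b2, b3, b4⟩ := (hD b).1 hb
    have e0 := tr_sq_comm a1 b1
    rw [← a4, ← b4, ← map_mul, ← map_pow, a4, b4] at e0
    by_cases e : φ w = 0 <;> by_cases e' : ψ v = 0
    · exact .inl (Commute.of_map slHom_inj (a4 ▸ b4 ▸ commute_tr_tr a1 b1 e e'))
    · refine .inr (.inr (h4 _ ((hD _).2 ⟨φ, -(ψ v • w), by simp [e], a2, by simp [e', b3], ?_⟩)))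
      rw [e0, ← commutatorElement_inv, commutator_tr b1 a1 e, tr_inv (by simp [e])]
    · exact .inr (.inr (h4 _ ((hD _).2 ⟨ψ, φ w • v, by simp [e'], b2, by simp [e, a3],
        by rw [e0, commutator_tr a1 b1 e']⟩)))
    · refine .inr (.inl ⟨by rw [ho, map_mul, a4, b4]; exact odd_tr_mul a1 b1 e e', fun hq => slHom_inj ?_⟩)
      have : ∀ c : F, c ≠ 0 → c = 1 := fun c e => by simpa [hq] using FiniteField.pow_card_sub_one_eq_one c e
      rw [map_pow, map_mul, a4, b4, tr_mul_cube a1 b1 (this _ e) (this _ e'), map_one]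
  have h6 : IsRootInvolutionSet D := ⟨h2, top_of_sl_le (sl_le fun φ v h => by
      by_cases e : φ = 0 ∨ v = 0
      · rw [(tr_eq_one_iff h).2 e]; exact one_mem _
      obtain ⟨t, ht⟩ := exists_slHom (tr_mem_sl φ v)
      exact ⟨t, Subgroup.subset_closure ((hD t).2 ⟨φ, v, h, (not_or.1 e).1, (not_or.1 e).2, ht⟩), ht⟩),
    fun d ⟨c, hc, g, hg⟩ x => ⟨c, hc, x * g, by simpa [mul_assoc] using hg⟩,
    fun a ha b hb => (h5 a ha b hb).imp_right (Or.imp_left And.left)⟩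
  refine ⟨⟨h6, ⟨Matrix.SpecialLinearGroup.transvection h01 1, 1, one_ne_zero, 1, by simp; rfl⟩, fun a ha b hb => ?_⟩,
    fun hq => ⟨h6, fun a ha b hb ho => ?_⟩⟩
  · obtain ⟨φ, v, a1, a2, a3, a4⟩ := (hD a).1 ha
    obtain ⟨ψ, w, b1, b2, b3, b4⟩ := (hD b).1 hb
    exact cj a1 b1 a2 b2 a3 b3 a4 b4
  rcases h5 a ha b hb with h | h | h
  · have : orderOf (a * b) ∣ 2 := orderOf_dvd_of_pow_eq_one (by
      rw [Commute.mul_pow h, ← h2 a ha, pow_orderOf_eq_one, h2 a ha, ← h2 b hb, pow_orderOf_eq_one, mul_one])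
    exact .inl (((Nat.dvd_prime Nat.prime_two).1 this).resolve_right fun e => by rw [e] at ho; exact absurd ho (by decide))
  · exact (Nat.dvd_prime Nat.prime_three).1 (orderOf_dvd_of_pow_eq_one (h.2 hq))
  · rw [h.1] at ho; exact absurd ho (by decide)

end Cfsg.Agent.S5058
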