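import Cfsg.Statements.S5060
import Cfsg.Agent.H9.QP7

set_option autoImplicit false
open Cfsg

namespace Cfsg.Agent.S5060

open scoped MatrixGroups IntermediateField

/-- Let k ⊆ K be fields with the characteristic of k not 2 and k not of order 3, and let α ∈ K be a non-zero element algebraic over k. Then the subgroup of SL₂(K) generated by the upper unitriangular matrices with entry c and the lower unitriangular matrices with entry cα, c ranging over k, is exactly the group of matrices of SL₂(K) with all entries in k(α). -/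
theorem result {k K : Type*} [Field k] [Field K] [Algebra k K] (hk2 : ringChar k ≠ 2) (hk3 : Nat.card k ≠ 3)
    (α : K) (hα : IsAlgebraic k α) (hα0 : α ≠ 0) :
    (Subgroup.closure ({g : Matrix.SpecialLinearGroup (Fin 2) K | ∃ c : k, (g : Matrix (Fin 2) (Fin 2) K) = !![1, algebraMap k K c; 0, 1]} ∪
        {g : Matrix.SpecialLinearGroup (Fin 2) K | ∃ c : k, (g : Matrix (Fin 2) (Fin 2) K) = !![1, 0; algebraMap k K c * α, 1]}) :
      Set (Matrix.SpecialLinearGroup (Fin 2) K)) =
    {g : Matrix.SpecialLinearGroup (Fin 2) K | ∀ i j : Fin 2, (g : Matrix (Fin 2) (Fin 2) K) i j ∈ IntermediateField.adjoin k ({α} : Set K)} := by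
  open Subgroup CfsgH9 CfsgH9.QP Polynomial in
    have Fk := fk hk2 hk3
    set H := closure ({g : SL(2, K) | ∃ c : k, (g : Matrix (Fin 2) (Fin 2) K) = !![1, algebraMap k K c; 0, 1]} ∪
          {g : SL(2, K) | ∃ c : k, (g : Matrix (Fin 2) (Fin 2) K) = !![1, 0; algebraMap k K c * α, 1]}) with hH
    let t : k⟮α⟯ := IntermediateField.AdjoinSimple.gen k α
    let φ := Matrix.SpecialLinearGroup.map (n := Fin 2) (algebraMap k⟮α⟯ K)
    haveI := IntermediateField.adjoin.finiteDimensional hα.isIntegral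
    have t0 : t ≠ 0 := fun e => hα0 (congrArg Subtype.val e)
    have l : XX k t ≤ H.comap φ := (closure_le _).2 (by
      rintro _ ⟨c, rfl | rfl⟩
      · exact subset_closure (.inl ⟨c, by rw [sl2_map_Tm]; rfl⟩)
      · exact subset_closure (.inr ⟨c, by rw [sl2_map_Lm]; rfl⟩))
    have key : ∀ g : k[X], Tm (aeval t g) ∈ XX k t ∧ Lm (aeval t g * t) ∈ XX k t := fun g => by
      rcases finite_or_infinite k with _ | _
      · haveI : Finite k⟮α⟯ := Module.finite_of_finite k
        obtain ⟨p, _⟩ := CharP.exists k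
        haveI hp : Fact p.Prime := ⟨CharP.char_is_prime k p⟩
        have := fin_ring p (by rintro rfl; exact Fk.h2 (CharP.cast_eq_zero k 2)) (card_gt Fk.h2 Fk.h3) (IsUnit.mk0 t t0)
          (fun r _ => or_iff_not_imp_left.2 (IsUnit.mk0 r)) (fun r _ => or_iff_not_imp_left.2 (IsUnit.mk0 r))
        exact ⟨LL_le _ _ (this g).1, by have := (this (g * X)).2; rw [map_mul, aeval_X] at this; exact LL_le _ _ this⟩
      · have q : TQ !![(0 : k⟮α⟯), 1; 0, 0] !![0, 0; t, 0] (algebraMap _ _ t) := ⟨by ext i j; fin_cases i <;> fin_cases j <;> simp,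
          by ext i j; fin_cases i <;> fin_cases j <;> simp,
          by ext i j; fin_cases i <;> fin_cases j <;> simp [Matrix.algebraMap_matrix_apply]⟩
        have hi : IsIntegral k (algebraMap k⟮α⟯ (Matrix (Fin 2) (Fin 2) k⟮α⟯) t) := (Algebra.IsIntegral.isIntegral t).algebraMap
        have i1 : ∀ c : k, In ((XX k t).map Matrix.SpecialLinearGroup.toGL) (c • !![(0 : k⟮α⟯), 1; 0, 0]) := fun c =>
          ⟨_, ⟨_, T_mem t c, rfl⟩, by ext i j; fin_cases i <;> fin_cases j <;> simp [Algebra.algebraMap_eq_smul_one]⟩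
        have i2 : ∀ c : k, In ((XX k t).map Matrix.SpecialLinearGroup.toGL) (c • !![(0 : k⟮α⟯), 0; t, 0]) := fun c =>
          ⟨_, ⟨_, L_mem t c, rfl⟩, by ext i j; fin_cases i <;> fin_cases j <;> simp [Algebra.algebraMap_eq_smul_one]⟩
        obtain ⟨_, ⟨x, hx, rfl⟩, e1⟩ := q.univ_inf Fk.h2 hi i1 i2 g
        obtain ⟨_, ⟨y, hy, rfl⟩, e2⟩ := q.symm.univ_inf Fk.h2 hi i2 i1 g
        rw [aeval_algebraMap_apply, ← Algebra.smul_def] at e1 e2
        constructor
        · exact (Subtype.ext (e1.trans (by ext i j; fin_cases i <;> fin_cases j <;> simp)) : x = Tm (aeval t g)) ▸ hx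
        · exact (Subtype.ext (e2.trans (by ext i j; fin_cases i <;> fin_cases j <;> simp)) : y = Lm (aeval t g * t)) ▸ hy
    have sj : ∀ r : k⟮α⟯, ∃ g : k[X], aeval t g = r := fun r => by
      simpa using (IntermediateField.adjoin.powerBasis hα.isIntegral).exists_eq_aeval' r |>.imp fun _ h => h.symm
    have top : XX k t = ⊤ := eq_top_iff.2 (upper_lower k⟮α⟯ ▸ sup_le (upper_le fun r => let ⟨g, e⟩ := sj r; e ▸ (key g).1)
      (lower_le fun r => by obtain ⟨g, e⟩ := sj (r / t); simpa [e, t0] using (key g).2))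
    refine Set.Subset.antisymm (fun g hg => ?_) fun g hg => ?_
    · have : H ≤ φ.range := (closure_le _).2 (by
        rintro g (⟨c, e⟩ | ⟨c, e⟩)
        · exact ⟨Tm (algebraMap k _ c), by rw [sl2_map_Tm]; exact Subtype.ext e.symm⟩
        · exact ⟨Lm (algebraMap k _ c * t), by rw [sl2_map_Lm]; exact Subtype.ext e.symm⟩)
      obtain ⟨x, rfl⟩ := this hg
      exact fun i j => (x i j).2
    · have := l (top.ge (mem_top ⟨Matrix.of fun i j => ⟨g i j, hg i j⟩, Subtype.ext (by
        have := sl2_det g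
        simpa [Matrix.det_fin_two] using this)⟩))
      exact this

end Cfsg.Agent.S5060
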