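import Cfsg.Statements.S5063
import Cfsg.Agent.H9.QP9

set_option autoImplicit false
universe u
open Cfsg

namespace Cfsg.Agent.S5063

/-- Let k be a field of characteristic not 2 with k not of order 3, M a finite-dimensional k-vector space and G ≤ GL(M) such that (G, M) is a quadratic pair (M irreducible for G, and G generated by its quadratically acting elements σ whose scalar family 1 + c(σ − 1), c ∈ k, lies in G). Write 𝒬_d for the quadratic elements of G of minimal commutator rank, E(σ) for the subgroup generated by the members of 𝒬_d with the same fixed space and commutator space as σ, and Σ for the set of these subgroups. Then G is a central product of finitely many quasisimple normal subgroups G₁, …, G_s (pairwise commuting and together generating G), each generated by the quadratic elements of G it contains, and every quadratic element of G lies in one of them. -/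
theorem result {k : Type u} [Field k] (hk2 : ringChar k ≠ 2) (hk3 : Nat.card k ≠ 3)
    {M : Type u} [AddCommGroup M] [Module k M] [FiniteDimensional k M]
    {G : Subgroup (LinearMap.GeneralLinearGroup k M)} (hG : Cfsg.IsQuadraticPair G) :
    ∃ (s : ℕ) (Gi : Fin s → Subgroup (LinearMap.GeneralLinearGroup k M)),
      (∀ i, Gi i ≤ G ∧ ∀ g ∈ G, Cfsg.conjBy (Gi i) g = Gi i) ∧ (∀ i j, i ≠ j → ⁅Gi i, Gi j⁆ = ⊥) ∧ (⨆ i, Gi i) = G ∧
      (∀ i, Cfsg.IsQuasisimple ↥(Gi i) ∧ Subgroup.closure (Cfsg.quadraticElements G ∩ (Gi i : Set (LinearMap.GeneralLinearGroup k M))) = Gi i) ∧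
      Cfsg.quadraticElements G ⊆ ⋃ i, (Gi i : Set (LinearMap.GeneralLinearGroup k M)) := by
  open Subgroup CfsgH9.QP in
  have Fk := fk hk2 hk3
  obtain ⟨S, d⟩ := exists_dec Fk (Module.finrank k M + 1) (nu_of_irr hG.1) hG.2 fun _ _ _ => by omega
  have := d.fin.to_subtype
  let e := (Finite.equivFin S).symm
  have le : ∀ K ∈ S, K ≤ G := fun K h => d.sup ▸ le_sSup h
  refine ⟨_, fun i => (e i).1, fun i => ⟨le _ (e i).2, fun g hg => mem_norm.1 ((d.sup.ge.trans (sSup_le fun L hL => ?_)) hg)⟩,
    fun i j h => d.comm _ (e i).2 _ (e j).2 fun q => h (e.injective (Subtype.ext q)), ?_,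
    fun i => ⟨d.qs _ (e i).2, le_antisymm ((closure_le _).2 fun _ h => h.2) (d.gen _ (e i).2)⟩, fun g hg => ?_⟩
  · rcases eq_or_ne (e i).1 L with rfl | ne
    · exact le_normalizer
    · exact fun g hg => mem_norm.2 (conjBy_of_comm (d.comm _ (e i).2 _ hL ne) hg)
  · rw [e.surjective.iSup_comp (fun K : S => K.1), ← sSup_eq_iSup', d.sup]
  · obtain ⟨K, hK, h⟩ := d.mem hG.1 (qe_iff.1 hg).1 (qe_iff.1 hg).2
    exact Set.mem_iUnion.2 ⟨e.symm ⟨K, hK⟩, by simp only [e.apply_symm_apply]; exact h.mem⟩

end Cfsg.Agent.S5063
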