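import Cfsg.Statements.S5064
import Cfsg.Agent.H9.QP7

set_option autoImplicit false
universe u
open Cfsg

namespace Cfsg.Agent.S5064

/-- Let k be a field of characteristic not 2 with k not of order 3, M a finite-dimensional k-vector space and G ≤ GL(M) such that (G, M) is a quadratic pair (M irreducible for G, and G generated by its quadratically acting elements σ whose scalar family 1 + c(σ − 1), c ∈ k, lies in G). Write 𝒬_d for the quadratic elements of G of minimal commutator rank, E(σ) for the subgroup generated by the members of 𝒬_d with the same fixed space and commutator space as σ, and Σ for the set of these subgroups. If σ, τ ∈ 𝒬_d and the subgroup H generated by their two scalar families does not act unipotently on M, then H is isomorphic to SL₂ over a simple algebraic extension k(λ) of k. -/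
theorem result {k : Type u} [Field k] (hk2 : ringChar k ≠ 2) (hk3 : Nat.card k ≠ 3)
    {M : Type u} [AddCommGroup M] [Module k M] [FiniteDimensional k M]
    {G : Subgroup (LinearMap.GeneralLinearGroup k M)} (hG : Cfsg.IsQuadraticPair G)
    {σ τ : LinearMap.GeneralLinearGroup k M} (hσ : σ ∈ Cfsg.minimalQuadraticElements G) (hτ : τ ∈ Cfsg.minimalQuadraticElements G)
    (hH : ¬ Cfsg.IsUnipotentOn (Subgroup.closure (Cfsg.scalarFamily σ ∪ Cfsg.scalarFamily τ))) :
    ∃ (K : Type u) (_ : Field K) (_ : Algebra k K) (lam : K), IsAlgebraic k lam ∧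
      IntermediateField.adjoin k ({lam} : Set K) = ⊤ ∧
      Nonempty (↥(Subgroup.closure (Cfsg.scalarFamily σ ∪ Cfsg.scalarFamily τ)) ≃* Matrix.SpecialLinearGroup (Fin 2) K) := by
  open Subgroup CfsgH9 CfsgH9.QP Polynomial in
    have Fk := fk hk2 hk3
    have ha := mq_iff.1 hσ
    have hb := mq_iff.1 hτ
    set H := closure (scalarFamily σ ∪ scalarFamily τ) with eH
    have i1 : ∀ c : k, In H (c • ((σ : Module.End k M) - 1)) := fun c =>
      ⟨sq _ (by rw [smul_mul_smul_comm, ha.sq, smul_zero]), subset_closure (.inl ⟨c, rfl⟩), rfl⟩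
    have i2 : ∀ c : k, In H (c • ((τ : Module.End k M) - 1)) := fun c =>
      ⟨sq _ (by rw [smul_mul_smul_comm, hb.sq, smul_zero]), subset_closure (.inr ⟨c, rfl⟩), rfl⟩
    have l : ∀ K : Subgroup _, (∀ c : k, In K (c • ((σ : Module.End k M) - 1))) → (∀ c : k, In K (c • ((τ : Module.End k M) - 1))) → H ≤ K :=
      fun K x y => (closure_le _).2 (by
        rintro g (⟨c, e⟩ | ⟨c, e⟩)
        · obtain ⟨u, hu, e'⟩ := x c; exact (Units.ext (e'.trans e.symm) : u = g) ▸ hu
        · obtain ⟨u, hu, e'⟩ := y c; exact (Units.ext (e'.trans e.symm) : u = g) ▸ hu)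
    clear_value H
    generalize (σ : Module.End k M) - 1 = a at *
    generalize (τ : Module.End k M) - 1 = b at *
    have o : a * b * a ≠ 0 := fun o => hH (uni_iff.2 ((ha.uni Fk hb o).mono (l _
      (fun c => ⟨_, mem_sup_left (sq_mem_Eg (Submodule.smul_mem _ c ha.self) (by simp [ha.sq])), rfl⟩)
      (fun c => ⟨_, mem_sup_right (sq_mem_Eg (Submodule.smul_mem _ c hb.self) (by simp [hb.sq])), rfl⟩))))
    have t : TQ a b (a * b + b * a) := ⟨ha.sq, hb.sq, rfl⟩
    have HG := l G ha.mem hb.mem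
    have U := t.univ Fk.h2 Fk.h3 i1 i2 fun x h1 h2 h3 => ha.min x h2 ⟨h1, fun c => (h3 c).mono HG⟩
    obtain ⟨f, π, ρ, θ, hf, f0, ht, mu, hθ, pp, rx, pr, -⟩ := t.exists_MU (k := k) (Algebra.IsIntegral.isIntegral _) (ha.not_nil Fk hb.toQs o)
    haveI := AdjoinRoot.nontrivial f f0
    haveI := (AdjoinRoot.powerBasis' hf).finite
    have pa := ha.pi Fk hb.toQs (fun e => one_ne_zero (mu.inj 1 (by rw [e, mul_zero]))) pp
    have pb := hb.pi Fk ha.toQs (π := π) (fun e => one_ne_zero (mu.symm.inj 1 (by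
      rw [add_comm] at e; rw [← pr, mul_comm π, map_mul, mul_assoc, e]; simp))) (by rwa [add_comm])
    rw [add_comm] at pb
    have q := ha.univ Fk hb.toQs
    set δ := a * b + b * a
    have ra : ∀ g, θ (AdjoinRoot.mk f g) * (aeval δ π * a) = aeval δ g * a := fun g => by rw [hθ, map_mul, mul_assoc, pa, pa]
    have rb : ∀ g, θ (AdjoinRoot.mk f g) * (aeval δ ρ * b) = aeval δ (g * ρ) * b := fun g => by
      rw [hθ, ← mul_assoc, ← map_mul, mul_assoc g, map_mul, pr, ← map_mul]
    have un : ∀ r : AdjoinRoot f, r ≠ 0 → IsUnit r := fun r r0 => by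
      obtain ⟨g, rfl⟩ := AdjoinRoot.mk_surjective r
      refine mu.unit ?_
      have := mt (mu.inj _) r0
      rw [ra] at this ⊢
      rw [pa]; exact ha.min _ this (q g).1
    haveI : Fact (Irreducible f) := ⟨⟨fun u => f0 (degree_eq_zero_of_isUnit u), fun x y e => by
      by_cases hx : AdjoinRoot.mk f x = 0
      · obtain ⟨z, hz⟩ := AdjoinRoot.mk_eq_zero.1 hx
        refine .inr (IsUnit.of_mul_eq_one z (mul_left_cancel₀ hf.ne_zero ?_))
        rw [mul_one]; conv_rhs => rw [e, hz]
        ring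
      · have : AdjoinRoot.mk f y = 0 := (un _ hx).mul_right_eq_zero.1 (by rw [← map_mul, ← e, AdjoinRoot.mk_self])
        obtain ⟨z, hz⟩ := AdjoinRoot.mk_eq_zero.1 this
        refine .inl (IsUnit.of_mul_eq_one z (mul_left_cancel₀ hf.ne_zero ?_))
        rw [mul_one]; conv_rhs => rw [e, hz]
        ring⟩⟩
    refine ⟨AdjoinRoot f, inferInstance, inferInstance, AdjoinRoot.root f, AdjoinRoot.isAlgebraic_root hf.ne_zero,
      IntermediateField.adjoin_root_eq_top f, ⟨(MulEquiv.subgroupCongr (le_antisymm (l _ (fun c => ?_) fun c => ?_) ?_)).trans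
        (MonoidHom.ofInjective mu.Ψ_inj).symm⟩⟩
    · exact ⟨_, ⟨Tm (AdjoinRoot.mk f (C c)), rfl⟩, by rw [mu.Ψ_T, ra]; simp [Algebra.algebraMap_eq_smul_one]⟩
    · exact ⟨_, ⟨Lm (AdjoinRoot.mk f (C c * X)), rfl⟩, by
        rw [mu.Ψ_L, rb, mul_assoc, mul_comm X, map_mul, rx, mul_assoc, pb]; simp [Algebra.algebraMap_eq_smul_one]⟩
    · rw [MonoidHom.range_eq_map, ← upper_lower, map_le_iff_le_comap]
      refine sup_le (upper_le fun r => ?_) (lower_le fun r => ?_) <;> obtain ⟨g, rfl⟩ := AdjoinRoot.mk_surjective r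
      · obtain ⟨u, hu, e⟩ := (U g).1
        exact mem_comap.2 ((Units.ext (by rw [e, mu.Ψ_T, ra]) : u = mu.Ψ (Tm (AdjoinRoot.mk f g))) ▸ hu)
      · obtain ⟨u, hu, e⟩ := (U (g * ρ)).2
        exact mem_comap.2 ((Units.ext (by rw [e, mu.Ψ_L, rb]) : u = mu.Ψ (Lm (AdjoinRoot.mk f g))) ▸ hu)

end Cfsg.Agent.S5064
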