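import Cfsg.Statements.S5065
import Cfsg.Agent.H9.QP7

set_option autoImplicit false
universe u
open Cfsg

namespace Cfsg.Agent.S5065

/-- Let k be a field of characteristic not 2 with k not of order 3, M a finite-dimensional k-vector space and G ≤ GL(M) such that (G, M) is a quadratic pair (M irreducible for G, and G generated by its quadratically acting elements σ whose scalar family 1 + c(σ − 1), c ∈ k, lies in G). Write 𝒬_d for the quadratic elements of G of minimal commutator rank, E(σ) for the subgroup generated by the members of 𝒬_d with the same fixed space and commutator space as σ, and Σ for the set of these subgroups. For σ, τ ∈ 𝒬_d put A = E(σ), B = E(τ) and X = ⟨A, B⟩. Then either X acts unipotently on M, or A and B are the unipotent subgroups of a special rank one group X; in the latter case X contains exactly one central involution acting as −1 on the commutator space [M, X] and trivially on the fixed space C_M(X), and M is the direct sum of C_M(X) and [M, X]. -/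
theorem result {k : Type u} [Field k] (hk2 : ringChar k ≠ 2) (hk3 : Nat.card k ≠ 3)
    {M : Type u} [AddCommGroup M] [Module k M] [FiniteDimensional k M]
    {G : Subgroup (LinearMap.GeneralLinearGroup k M)} (hG : Cfsg.IsQuadraticPair G)
    {σ τ : LinearMap.GeneralLinearGroup k M} (hσ : σ ∈ Cfsg.minimalQuadraticElements G) (hτ : τ ∈ Cfsg.minimalQuadraticElements G) :
    Cfsg.IsUnipotentOn (Cfsg.sameActionSubgroup G σ ⊔ Cfsg.sameActionSubgroup G τ) ∨
    (Cfsg.IsSpecialRankOnePair (Cfsg.sameActionSubgroup G σ) (Cfsg.sameActionSubgroup G τ) ∧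
      (∃! i : LinearMap.GeneralLinearGroup k M, i ∈ Cfsg.sameActionSubgroup G σ ⊔ Cfsg.sameActionSubgroup G τ ∧ i ≠ 1 ∧ i * i = 1 ∧
        (∀ x ∈ Cfsg.sameActionSubgroup G σ ⊔ Cfsg.sameActionSubgroup G τ, i * x = x * i) ∧
        (∀ m ∈ Cfsg.commutatorSubmodule (Cfsg.sameActionSubgroup G σ ⊔ Cfsg.sameActionSubgroup G τ), (i : M →ₗ[k] M) m = -m) ∧
        (∀ m ∈ Cfsg.fixedSubmodule (Cfsg.sameActionSubgroup G σ ⊔ Cfsg.sameActionSubgroup G τ), (i : M →ₗ[k] M) m = m)) ∧
      IsCompl (Cfsg.fixedSubmodule (Cfsg.sameActionSubgroup G σ ⊔ Cfsg.sameActionSubgroup G τ))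
        (Cfsg.commutatorSubmodule (Cfsg.sameActionSubgroup G σ ⊔ Cfsg.sameActionSubgroup G τ))) := by
  open Subgroup CfsgH9.QP in
    have Fk := fk hk2 hk3
    have ha := mq_iff.1 hσ
    have hb := mq_iff.1 hτ
    rw [sas_eq ha, sas_eq hb]
    generalize (σ : Module.End k M) - 1 = a at ha
    generalize (τ : Module.End k M) - 1 = b at hb
    by_cases o : a * b * a = 0
    · exact .inl (uni_iff.2 (ha.uni Fk hb o))
    have op : Op G a b := ⟨ha, hb, o⟩
    obtain ⟨y, hy, s, m⟩ := op.inv Fk ha.self ha.ne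
    set π := a * y + y * a with hπ
    have pp : π * π = π := by simp [hπ, mul_add, add_mul, mul_assoc, s.rules, s.symm.rules]
    have one : ∀ {a y x : Module.End k M}, SP a y → x ∈ EE G a → (a * y + y * a) * x = x ∧ x * (a * y + y * a) = x := fun {a y x} s hx => by
      have e1 := EE_lz (x := a * y + y * a - 1) hx (by simp [add_mul, sub_mul, mul_assoc, s.rules])
      have e2 := EE_rz (x := a * y + y * a - 1) hx (by simp [mul_add, mul_sub, mul_assoc, s.rules])
      rw [sub_mul, one_mul, sub_eq_zero] at e1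
      rw [mul_sub, mul_one, sub_eq_zero] at e2
      exact ⟨e1, e2⟩
    have t : ∀ g ∈ Eg G a ⊔ Eg G b, π * ((g : Module.End k M) - 1) = g - 1 ∧ ((g : Module.End k M) - 1) * π = g - 1 := fun g hg =>
      aug_sup_le (V := ⟨⟨⟨{x | π * x = x ∧ x * π = x}, fun p q => ⟨by rw [mul_add, p.1, q.1], by rw [add_mul, p.2, q.2]⟩⟩, by simp⟩,
        fun c x p => ⟨by rw [mul_smul_comm, p.1], by rw [smul_mul_assoc, p.2]⟩⟩)
        (Submodule.mul_le.2 fun x p y q => ⟨by rw [← mul_assoc, p.1], by rw [mul_assoc, q.2]⟩)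
        (aug_Eg.trans fun x hx => one s hx)
        (aug_Eg.trans fun x hx => by have := one s.symm (hb.EE_eq hy m.ne ▸ hx); rwa [add_comm] at this) (mem_aug hg)
    have w : s.w ∈ Eg G a ⊔ Eg G b := mul_mem (mul_mem (mem_sup_left (sq_mem_Eg ha.self _)) (inv_mem (mem_sup_right (sq_mem_Eg hy _))))
      (mem_sup_left (sq_mem_Eg ha.self _))
    have w2 := mul_mem w w
    have wv : ((s.w * s.w : (Module.End k M)ˣ) : Module.End k M) - 1 = (-2 : k) • π := by rw [s.ww, neg_smul, two_smul, two_mul, ← hπ]; abel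
    have n2 : (-2 : k) ≠ 0 := neg_ne_zero.2 Fk.h2
    have f1 : fixedSubmodule (Eg G a ⊔ Eg G b) = LinearMap.ker π :=
      le_antisymm ((iInf₂_le _ w2).trans (by rw [wv, LinearMap.ker_smul _ _ n2])) (le_iInf₂ fun g hg => (t g hg).2 ▸ ker_le_mul _ _)
    have f2 : commutatorSubmodule (Eg G a ⊔ Eg G b) = LinearMap.range π :=
      le_antisymm (iSup₂_le fun g hg => (t g hg).1 ▸ range_mul_le _ _)
        (le_trans (by rw [wv, LinearMap.range_smul _ _ n2]) (le_iSup₂_of_le _ w2 le_rfl))
    rw [f1, f2]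
    have c : IsCompl (LinearMap.ker π) (LinearMap.range π) := (LinearMap.IsIdempotentElem.isCompl pp).symm
    have v1 : ∀ v ∈ LinearMap.range π, (s.w * s.w).1 v = -v := by
      rintro _ ⟨v, rfl⟩
      rw [sub_eq_iff_eq_add.1 wv, LinearMap.add_apply, LinearMap.smul_apply, ← Module.End.mul_apply, pp, neg_smul, two_smul]; simp
    have v2 : ∀ v ∈ LinearMap.ker π, (s.w * s.w).1 v = v := fun v hv => by
      rw [sub_eq_iff_eq_add.1 wv, LinearMap.add_apply, LinearMap.smul_apply, show π v = 0 from hv]; simp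
    refine .inr ⟨op.special Fk, ⟨s.w * s.w, ⟨w2, ne_one_iff.2 ?_, s.ww_sq, fun x hx => Units.ext ?_, v1, v2⟩, fun j hj => Units.ext ?_⟩, c⟩
    · rw [wv, smul_ne_zero_iff]
      exact ⟨n2, fun e => ha.ne (by rw [← (one s ha.self).1, ← hπ, e, zero_mul])⟩
    · rw [Units.val_mul _ x, Units.val_mul x, sub_eq_iff_eq_add.1 wv, add_mul, mul_add, smul_mul_assoc, mul_smul_comm, one_mul, mul_one]
      congr 2
      linear_combination (norm := noncomm_ring) (t x hx).1 - (t x hx).2
    · ext v
      obtain ⟨x, hx, y, hy, rfl⟩ := Submodule.mem_sup.1 (c.sup_eq_top ▸ Submodule.mem_top : v ∈ LinearMap.ker π ⊔ LinearMap.range π)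
      rw [map_add, map_add, v1 y hy, v2 x hx, hj.2.2.2.2.1 y hy, hj.2.2.2.2.2 x hx]

end Cfsg.Agent.S5065
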