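import Cfsg.Statements.S5066
import Cfsg.Agent.H9.QP7

set_option autoImplicit false
universe u
open Cfsg

namespace Cfsg.Agent.S5066

/-- Let k be a field of characteristic not 2 with k not of order 3, M a finite-dimensional k-vector space and G ≤ GL(M) such that (G, M) is a quadratic pair (M irreducible for G, and G generated by its quadratically acting elements σ whose scalar family 1 + c(σ − 1), c ∈ k, lies in G). Write 𝒬_d for the quadratic elements of G of minimal commutator rank, E(σ) for the subgroup generated by the members of 𝒬_d with the same fixed space and commutator space as σ, and Σ for the set of these subgroups. Let E, F ∈ Σ generate a subgroup that is nilpotent of class exactly two. Then D = ⁅E, F⁆ belongs to Σ, equals the subgroup generated by the commutators of e with F, and also of E with f, for every non-identity e ∈ E, f ∈ F, and ⟨E, F⟩ lies in U(D), the set of elements g of G normalizing D with (g − 1)M inside the fixed space of D, (g − 1) mapping that fixed space into the commutator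 space of D, and g acting trivially on the commutator space of D. -/
theorem result {k : Type u} [Field k] (hk2 : ringChar k ≠ 2) (hk3 : Nat.card k ≠ 3)
    {M : Type u} [AddCommGroup M] [Module k M] [FiniteDimensional k M]
    {G : Subgroup (LinearMap.GeneralLinearGroup k M)} (hG : Cfsg.IsQuadraticPair G)
    {E F : Subgroup (LinearMap.GeneralLinearGroup k M)} (hE : E ∈ Cfsg.quadraticRootSubgroups G) (hF : F ∈ Cfsg.quadraticRootSubgroups G)
    (h2 : ⁅E ⊔ F, E ⊔ F⁆ ≠ ⊥ ∧ ⁅⁅E ⊔ F, E ⊔ F⁆, E ⊔ F⁆ = ⊥) :
    ⁅E, F⁆ ∈ Cfsg.quadraticRootSubgroups G ∧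
    (∀ e ∈ E, e ≠ 1 → Subgroup.closure ((fun f : LinearMap.GeneralLinearGroup k M => e * f * e⁻¹ * f⁻¹) '' (F : Set (LinearMap.GeneralLinearGroup k M))) = ⁅E, F⁆) ∧
    (∀ f ∈ F, f ≠ 1 → Subgroup.closure ((fun e : LinearMap.GeneralLinearGroup k M => e * f * e⁻¹ * f⁻¹) '' (E : Set (LinearMap.GeneralLinearGroup k M))) = ⁅E, F⁆) ∧
    ((E ⊔ F : Subgroup (LinearMap.GeneralLinearGroup k M)) : Set (LinearMap.GeneralLinearGroup k M)) ⊆ Cfsg.quadraticUnipotentCore G ⁅E, F⁆ := by
  open Subgroup CfsgH9.QP in
    have Fk := fk hk2 hk3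
    have nu := nu_of_irr hG.1
    obtain ⟨a, h, rfl⟩ := mem_Sig.1 hE
    obtain ⟨b, hb, rfl⟩ := mem_Sig.1 hF
    have o : a * b * a = 0 := by by_contra o; exact Op.not_two Fk ⟨h, hb, o⟩ h2.2
    have h0 : br a b ≠ 0 := fun e => h2.1 (by
      have c := commutator_eq_bot_iff_le_centralizer.1 (h.comm_bot Fk hb o e)
      have c' : ∀ a, Eg G a ≤ centralizer (Eg G a) := fun a x hx => mem_centralizer_iff.2 fun y hy => Eg_comm hy hx
      have l : ∀ K : Subgroup _, Eg G a ≤ centralizer K → Eg G b ≤ centralizer K → K ≤ centralizer ((Eg G a ⊔ Eg G b : Subgroup _) : Set (Module.End k M)ˣ) :=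
        fun K x y => le_centralizer_iff.1 (sup_le x y)
      exact commutator_eq_bot_iff_le_centralizer.2 (sup_le (l _ (c' a) (le_centralizer_iff.1 c)) (l _ c (c' b))))
    obtain ⟨e1, e2, e3⟩ := h.comm_case Fk nu hb o h0
    exact ⟨e1 ▸ (h.cl hb.toQs o (h.u_symm Fk hb o) h0).1.sig, e2, e3, h.core Fk nu hb o h0⟩

end Cfsg.Agent.S5066
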