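import Cfsg.Statements.S5067

set_option autoImplicit false
open Cfsg

namespace Cfsg.Agent.S5067

open Subgroup
open scoped commutatorElement
theorem aux {P : Type*} [Group P] [Group.IsNilpotent P] (hna : ¬ IsMulCommutative P) {E : Subgroup P} (hE : IsMulCommutative ↥E) :
    Group.nilpotencyClass ↥(Subgroup.normalClosure (E : Set P)) < Group.nilpotencyClass P := by
  have : (E ⊔ commutator P).Normal := Normal.of_commutator_le _ le_sup_right
  have h1 : normalClosure (E : Set P) ≤ E ⊔ commutator P := normalClosure_le_normal (le_sup_left (a := E))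
  generalize normalClosure (E : Set P) = N at *
  have h2 : ∀ k, N.lowerCentralSeries (k + 1) ≤ (⊤ : Subgroup P).lowerCentralSeries (k + 2) := fun k => by
    induction k with
    | succ k ih => exact commutator_mono ih le_top
    | zero =>
      refine commutator_le.2 fun x hx y hy => (QuotientGroup.eq_one_iff _).1 ?_
      obtain ⟨a, ha, b, hb, rfl⟩ := mem_sup_of_normal_right.1 (h1 hx)
      obtain ⟨c, hc, d, hd, rfl⟩ := mem_sup_of_normal_right.1 (h1 hy)
      have k : ∀ b ∈ commutator P, ∀ c : P, Commute (b : P ⧸ (⊤ : Subgroup P).lowerCentralSeries 2) c := fun b hb c =>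
        commutatorElement_eq_one_iff_commute.1 ((QuotientGroup.eq_one_iff ⁅b, c⁆).2 (commutator_mem_commutator hb (mem_top c)))
      exact commutatorElement_eq_one_iff_commute.2 (((Commute.map (setLike_mul_comm ha hc) (QuotientGroup.mk' _)).mul_right
        (k d hd a).symm).mul_left (k b hb (c * d)))
  obtain ⟨c, hc⟩ := Nat.exists_eq_add_of_le' (show 2 ≤ Group.nilpotencyClass P from
    not_le.1 (mt Group.IsNilpotent.nilpotencyClass_le_one_iff.1 hna))
  rw [hc, Nat.lt_succ_iff, ← Subgroup.lowerCentralSeries_eq_bot_iff_nilpotencyClass_le, ← map_subtype_inj, top_subtype_lowerCentralSeries,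
    Subgroup.map_bot, eq_bot_iff, ← Subgroup.lowerCentralSeries_nilpotencyClass, hc]
  exact h2 c

/-- Let P be a non-abelian nilpotent p-group (every element of p-power order; P possibly infinite) generated by two abelian subgroups E and F. Then the normal closure of E in P, and likewise that of F, has nilpotency class strictly smaller than that of P. -/
theorem result {P : Type*} [Group P] {p : ℕ} [Fact p.Prime] (hP : IsPGroup p P) [Group.IsNilpotent P]
    (hna : ¬ IsMulCommutative P) {E F : Subgroup P} (hE : IsMulCommutative ↥E) (hF : IsMulCommutative ↥F) (hgen : E ⊔ F = ⊤) :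
    Group.nilpotencyClass ↥(Subgroup.normalClosure (E : Set P)) < Group.nilpotencyClass P ∧
    Group.nilpotencyClass ↥(Subgroup.normalClosure (F : Set P)) < Group.nilpotencyClass P := by
  exact ⟨aux hna hE, aux hna hF⟩

end Cfsg.Agent.S5067
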