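import Cfsg.Statements.S5069
import Cfsg.Agent.H9.QP9

set_option autoImplicit false
universe u
open Cfsg

namespace Cfsg.Agent.S5069

/-- Let k be a field of characteristic not 2 with k not of order 3, M a finite-dimensional k-vector space and G ≤ GL(M) such that (G, M) is a quadratic pair (M irreducible for G, and G generated by its quadratically acting elements σ whose scalar family 1 + c(σ − 1), c ∈ k, lies in G). Write 𝒬_d for the quadratic elements of G of minimal commutator rank, E(σ) for the subgroup generated by the members of 𝒬_d with the same fixed space and commutator space as σ, and Σ for the set of these subgroups. Then Σ is a disjoint union of finitely many parts Σ₁, …, Σ_r such that the subgroups G_i generated by the Σ_i commute pairwise, each G_i is quasisimple, and inside G_i the members of Σ_i form a class of abstract root subgroups in which every rank one pair A, B contains subgroups A₀ ≤ A, B₀ ≤ B generating an image of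 SL₂(k₁) with central kernel on unitriangular subgroups for some field k₁ with at least four elements. -/
theorem result {k : Type u} [Field k] (hk2 : ringChar k ≠ 2) (hk3 : Nat.card k ≠ 3)
    {M : Type u} [AddCommGroup M] [Module k M] [FiniteDimensional k M]
    {G : Subgroup (LinearMap.GeneralLinearGroup k M)} (hG : Cfsg.IsQuadraticPair G) :
    ∃ (r : ℕ) (part : Fin r → Set (Subgroup (LinearMap.GeneralLinearGroup k M))),
      (⋃ i, part i) = Cfsg.quadraticRootSubgroups G ∧ (∀ i j, i ≠ j → Disjoint (part i) (part j)) ∧ (∀ i, (part i).Nonempty) ∧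
      (∀ i j, i ≠ j → ⁅(⨆ A ∈ part i, A), (⨆ A ∈ part j, A)⁆ = ⊥) ∧
      (∀ i, Cfsg.IsQuasisimple ↥(⨆ A ∈ part i, A) ∧
        Cfsg.IsRootSubgroupClass ((fun A : Subgroup (LinearMap.GeneralLinearGroup k M) => A.subgroupOf (⨆ B ∈ part i, B)) '' (part i)) ∧
        ∀ A ∈ part i, ∀ B ∈ Cfsg.rankOnePartners (part i) A, ∃ A₀ B₀ : Subgroup (LinearMap.GeneralLinearGroup k M), A₀ ≤ A ∧ B₀ ≤ B ∧
          ∃ (k₁ : Type u) (_ : Field k₁), 3 < ENat.card k₁ ∧ Cfsg.IsPSL2PairOver k₁ A₀ B₀) := by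
  open Subgroup CfsgH9.QP in
  have Fk := fk hk2 hk3
  have nu := nu_of_irr hG.1
  obtain ⟨n, f, hf, ne, sj⟩ : ∃ (n : ℕ) (f : Fin n → Subgroup (Module.End k M)ˣ), (∀ i, f i ∈ quadraticRootSubgroups G) ∧
      (∀ i j, i ≠ j → Cm G (f i) ≠ Cm G (f j)) ∧ ∀ A ∈ quadraticRootSubgroups G, ∃ i, Cm G (f i) = Cm G A := by
    have := (Cm_finite Fk nu).to_subtype
    obtain ⟨n, ⟨e⟩⟩ := Finite.exists_equiv_fin (Cm G '' quadraticRootSubgroups G)
    choose f h1 h2 using fun i => (e.symm i).2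
    exact ⟨n, f, h1, fun i j h q => h (e.symm.injective (Subtype.ext (by rw [← h2, ← h2, q]))),
      fun A hA => ⟨e ⟨_, A, hA, rfl⟩, by rw [h2, e.symm_apply_apply]⟩⟩
  refine ⟨n, fun i => Cm G (f i), Set.Subset.antisymm (Set.iUnion_subset fun i _ h => h.1) fun A hA => ?_,
    fun i j h => Set.disjoint_left.2 fun C h1 h2 => ne i j h (Cm_eq (h1.2.trans (RR.symm h2.2))), fun i => ⟨_, hf i, .refl⟩,
    fun i j h => Kc_comm Fk nu (ne i j h), fun i => ⟨Kc_qs Fk nu (hf i), ⟨root_Sg Fk nu (fun _ h => h.1)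
      (fun B hB g hg => Cm_conj Fk nu (Kc_le hg) hB) fun B hB C hC r => ⟨hC, hB.2.trans r⟩, ⟨_, _, ⟨hf i, .refl⟩, rfl⟩, ?_⟩, fun B hB C hC => ?_⟩⟩
  · obtain ⟨i, q⟩ := sj A hA
    exact Set.mem_iUnion.2 ⟨i, q.ge ⟨hA, .refl⟩⟩
  · rintro _ ⟨B, hB, rfl⟩ _ ⟨C, hC, rfl⟩
    obtain ⟨g, hg, rfl⟩ := RR.exists_conj Fk ((RR.symm hB.2).trans hC.2)
    rw [Kc, ← Cm_eq hB.2] at hg
    exact ⟨⟨g, hg⟩, (conjBy_sub B _ ⟨g, hg⟩).symm⟩
  · obtain ⟨c, A₀, B₀, h1, h2, h3⟩ := psl_of Fk ⟨hB.1, hC.1.1, hC.2⟩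
    exact ⟨A₀, B₀, h1, h2, k, inferInstance, c, h3⟩

end Cfsg.Agent.S5069
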