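import Cfsg.Statements.S5070
import Cfsg.Agent.H9.KR2

set_option autoImplicit false
open Matrix
open Cfsg

namespace Cfsg.Agent.S5070

/-- Let F be a field, m a natural number and V = F^{2(m+1)} with the standard non-degenerate alternating form f(u, v) = uᵀ J v. For a non-zero vector p let T(p) be the group of symplectic transvections v ↦ v + c f(v, p) p, c ∈ F. Then the subgroups T(p), p ≠ 0, generate the symplectic group Sp_{2(m+1)}(F) and form a degenerate class of abstract F-root subgroups of it (any two of them either commute elementwise or are the unipotent subgroups of a rank one group that is an image of SL₂(F) with central kernel, never the commutator case), and their graph of rank one pairs is connected. -/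
theorem result (F : Type*) [Field F] (m : ℕ) :
    Cfsg.IsRootSubgroupClass {A : Subgroup ↥(Matrix.symplecticGroup (Fin (m + 1)) F) | ∃ p : Fin (m + 1) ⊕ Fin (m + 1) → F, p ≠ 0 ∧
        A = Subgroup.closure {g : ↥(Matrix.symplecticGroup (Fin (m + 1)) F) | ∃ c : F, ∀ v : Fin (m + 1) ⊕ Fin (m + 1) → F,
          (g : Matrix (Fin (m + 1) ⊕ Fin (m + 1)) (Fin (m + 1) ⊕ Fin (m + 1)) F) *ᵥ v =
            v + (c * (v ⬝ᵥ (Matrix.J (Fin (m + 1)) F *ᵥ p))) • p}} ∧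
    Cfsg.IsDegenerateRootSet {A : Subgroup ↥(Matrix.symplecticGroup (Fin (m + 1)) F) | ∃ p : Fin (m + 1) ⊕ Fin (m + 1) → F, p ≠ 0 ∧
        A = Subgroup.closure {g : ↥(Matrix.symplecticGroup (Fin (m + 1)) F) | ∃ c : F, ∀ v : Fin (m + 1) ⊕ Fin (m + 1) → F,
          (g : Matrix (Fin (m + 1) ⊕ Fin (m + 1)) (Fin (m + 1) ⊕ Fin (m + 1)) F) *ᵥ v =
            v + (c * (v ⬝ᵥ (Matrix.J (Fin (m + 1)) F *ᵥ p))) • p}} ∧
    Cfsg.IsKRootSubgroupSet F {A : Subgroup ↥(Matrix.symplecticGroup (Fin (m + 1)) F) | ∃ p : Fin (m + 1) ⊕ Fin (m + 1) → F, p ≠ 0 ∧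
        A = Subgroup.closure {g : ↥(Matrix.symplecticGroup (Fin (m + 1)) F) | ∃ c : F, ∀ v : Fin (m + 1) ⊕ Fin (m + 1) → F,
          (g : Matrix (Fin (m + 1) ⊕ Fin (m + 1)) (Fin (m + 1) ⊕ Fin (m + 1)) F) *ᵥ v =
            v + (c * (v ⬝ᵥ (Matrix.J (Fin (m + 1)) F *ᵥ p))) • p}} ∧
    Cfsg.IsConnectedFamily (Cfsg.FAdj {A : Subgroup ↥(Matrix.symplecticGroup (Fin (m + 1)) F) | ∃ p : Fin (m + 1) ⊕ Fin (m + 1) → F, p ≠ 0 ∧
        A = Subgroup.closure {g : ↥(Matrix.symplecticGroup (Fin (m + 1)) F) | ∃ c : F, ∀ v : Fin (m + 1) ⊕ Fin (m + 1) → F,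
          (g : Matrix (Fin (m + 1) ⊕ Fin (m + 1)) (Fin (m + 1) ⊕ Fin (m + 1)) F) *ᵥ v =
            v + (c * (v ⬝ᵥ (Matrix.J (Fin (m + 1)) F *ᵥ p))) • p}})
      {A : Subgroup ↥(Matrix.symplecticGroup (Fin (m + 1)) F) | ∃ p : Fin (m + 1) ⊕ Fin (m + 1) → F, p ≠ 0 ∧
        A = Subgroup.closure {g : ↥(Matrix.symplecticGroup (Fin (m + 1)) F) | ∃ c : F, ∀ v : Fin (m + 1) ⊕ Fin (m + 1) → F,
          (g : Matrix (Fin (m + 1) ⊕ Fin (m + 1)) (Fin (m + 1) ⊕ Fin (m + 1)) F) *ᵥ v =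
            v + (c * (v ⬝ᵥ (Matrix.J (Fin (m + 1)) F *ᵥ p))) • p}} := by
  open CfsgH5 CfsgH9.KR Subgroup in
  obtain ⟨K, tri, con⟩ := tv_ks (k := F) spParam_isMax (spForm_nondeg (F := F) (m + 1)) (fun _ => rfl) (fun x _ => ⟨x, rfl⟩) (spHom_inj (m + 1))
    (spHom_mem _) fun t ht => exists_spHom (Form.EG_le_isom ht)
  have e0 : ∀ p, closure {g : Matrix.symplecticGroup (Fin (m + 1)) F | ∃ c : F, ∀ v : Fin (m + 1) ⊕ Fin (m + 1) → F,
      (g : Matrix (Fin (m + 1) ⊕ Fin (m + 1)) (Fin (m + 1) ⊕ Fin (m + 1)) F) *ᵥ v = v + (c * (v ⬝ᵥ (Matrix.J (Fin (m + 1)) F *ᵥ p))) • p} =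
      X F (io (spHom (m + 1) F)) (el (spForm (m + 1) F) p p) := fun p => congrArg Subgroup.closure (Set.ext fun g => exists_congr fun c => by
    simp [LinearMap.ext_iff, spHom_apply, spForm_B, sympForm, smul_smul])
  have e : ∀ P, (∃ p, p ≠ 0 ∧ P = X F (io (spHom (m + 1) F)) (el (spForm (m + 1) F) p p)) ↔ P ∈ X F (io (spHom (m + 1) F)) '' TR (spForm (m + 1) F) :=
    fun P => ⟨fun ⟨p, p0, h⟩ => ⟨_, ⟨p, p0, Form.sp_self _ p, 1, one_ne_zero, by simp [spParam_ε], (one_smul _ _).symm⟩, h.symm⟩,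
      fun ⟨_, ⟨p, p0, _, l, l0, _, rfl⟩, h⟩ => ⟨p, p0, by rw [← h, X_smul l0]⟩⟩
  simp only [e0, e, Set.setOf_mem_eq]
  have r := K.root (eq_top_iff.2 ((closure_sympTransvection (m + 1)).ge.trans ((closure_le _).2 fun g ⟨w, c, h⟩ => by
    have : ∀ v, io (spHom (m + 1) F) g v = v + (c * (spForm (m + 1) F).B v w) • w := fun v => by
      rw [io_apply, spHom_apply, h, sympTransvection_mulVec, Form.tv_apply]
    rcases eq_or_ne w 0 with rfl | w0
    · exact (K.inj (LinearMap.ext fun v => by simp [this]) : g = 1) ▸ one_mem _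
    exact mem_iSup_of_mem _ (mem_iSup_of_mem ((e _).1 ⟨w, w0, rfl⟩) (subset_closure ⟨c, LinearMap.ext fun v => by simp [this, smul_smul]⟩)))))
  exact ⟨⟨r.1, cls (K.conn con) ⟨_, (e _).1 ⟨1, one_ne_zero, rfl⟩⟩⟩, K.deg r.1 tri, r, K.conn con⟩

end Cfsg.Agent.S5070
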