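import Cfsg.Statements.S5071
import Cfsg.Agent.H9.KR2

set_option autoImplicit false
open Matrix
open Cfsg

namespace Cfsg.Agent.S5071

/-- Let F be a finite field with q² elements, n a natural number, and h the Hermitian form Σ uᵢ vᵢ^q on F^{n+2}. For a non-zero isotropic vector p let T(p) be the group of unitary transvections with centre ⟨p⟩: the elements of SU_{n+2}(q) moving every vector by a multiple of p and fixing every vector perpendicular to p. Let Σ be the set of these T(p) and G₀ the subgroup they generate. Then, viewed inside G₀, the members of Σ form a degenerate class of abstract k-root subgroups of G₀ for some field k with q elements (any two commute or are the unipotent subgroups of a rank one group that is an image of SL₂(k) with central kernel, never the commutator case), and their graph of rank one pairs is connected. -/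
theorem result (F : Type*) [Field F] [Fintype F] (q n : ℕ) (hF : Fintype.card F = q ^ 2) :
    Cfsg.IsRootSubgroupClass ((fun A : Subgroup ↥(Cfsg.SU (n + 2) F q) => A.subgroupOf (⨆ B ∈ {A : Subgroup ↥(Cfsg.SU (n + 2) F q) | ∃ p : Fin (n + 2) → F, p ≠ 0 ∧ Cfsg.hermForm (n + 2) F q p p = 0 ∧
          A = Subgroup.closure {g : ↥(Cfsg.SU (n + 2) F q) |
            (∀ v : Fin (n + 2) → F, ∃ c : F, ((g : Matrix.SpecialLinearGroup (Fin (n + 2)) F) : Matrix (Fin (n + 2)) (Fin (n + 2)) F) *ᵥ v = v + c • p) ∧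
            ∀ v : Fin (n + 2) → F, Cfsg.hermForm (n + 2) F q v p = 0 →
              ((g : Matrix.SpecialLinearGroup (Fin (n + 2)) F) : Matrix (Fin (n + 2)) (Fin (n + 2)) F) *ᵥ v = v}}, B)) ''
      {A : Subgroup ↥(Cfsg.SU (n + 2) F q) | ∃ p : Fin (n + 2) → F, p ≠ 0 ∧ Cfsg.hermForm (n + 2) F q p p = 0 ∧
          A = Subgroup.closure {g : ↥(Cfsg.SU (n + 2) F q) |
            (∀ v : Fin (n + 2) → F, ∃ c : F, ((g : Matrix.SpecialLinearGroup (Fin (n + 2)) F) : Matrix (Fin (n + 2)) (Fin (n + 2)) F) *ᵥ v = v + c • p) ∧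
            ∀ v : Fin (n + 2) → F, Cfsg.hermForm (n + 2) F q v p = 0 →
              ((g : Matrix.SpecialLinearGroup (Fin (n + 2)) F) : Matrix (Fin (n + 2)) (Fin (n + 2)) F) *ᵥ v = v}}) ∧
    Cfsg.IsDegenerateRootSet ((fun A : Subgroup ↥(Cfsg.SU (n + 2) F q) => A.subgroupOf (⨆ B ∈ {A : Subgroup ↥(Cfsg.SU (n + 2) F q) | ∃ p : Fin (n + 2) → F, p ≠ 0 ∧ Cfsg.hermForm (n + 2) F q p p = 0 ∧
          A = Subgroup.closure {g : ↥(Cfsg.SU (n + 2) F q) |
            (∀ v : Fin (n + 2) → F, ∃ c : F, ((g : Matrix.SpecialLinearGroup (Fin (n + 2)) F) : Matrix (Fin (n + 2)) (Fin (n + 2)) F) *ᵥ v = v + c • p) ∧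
            ∀ v : Fin (n + 2) → F, Cfsg.hermForm (n + 2) F q v p = 0 →
              ((g : Matrix.SpecialLinearGroup (Fin (n + 2)) F) : Matrix (Fin (n + 2)) (Fin (n + 2)) F) *ᵥ v = v}}, B)) ''
      {A : Subgroup ↥(Cfsg.SU (n + 2) F q) | ∃ p : Fin (n + 2) → F, p ≠ 0 ∧ Cfsg.hermForm (n + 2) F q p p = 0 ∧
          A = Subgroup.closure {g : ↥(Cfsg.SU (n + 2) F q) |
            (∀ v : Fin (n + 2) → F, ∃ c : F, ((g : Matrix.SpecialLinearGroup (Fin (n + 2)) F) : Matrix (Fin (n + 2)) (Fin (n + 2)) F) *ᵥ v = v + c • p) ∧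
            ∀ v : Fin (n + 2) → F, Cfsg.hermForm (n + 2) F q v p = 0 →
              ((g : Matrix.SpecialLinearGroup (Fin (n + 2)) F) : Matrix (Fin (n + 2)) (Fin (n + 2)) F) *ᵥ v = v}}) ∧
    (∃ (L : Type) (_ : Field L) (_ : Fintype L), Fintype.card L = q ∧ Cfsg.IsKRootSubgroupSet L ((fun A : Subgroup ↥(Cfsg.SU (n + 2) F q) => A.subgroupOf (⨆ B ∈ {A : Subgroup ↥(Cfsg.SU (n + 2) F q) | ∃ p : Fin (n + 2) → F, p ≠ 0 ∧ Cfsg.hermForm (n + 2) F q p p = 0 ∧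
          A = Subgroup.closure {g : ↥(Cfsg.SU (n + 2) F q) |
            (∀ v : Fin (n + 2) → F, ∃ c : F, ((g : Matrix.SpecialLinearGroup (Fin (n + 2)) F) : Matrix (Fin (n + 2)) (Fin (n + 2)) F) *ᵥ v = v + c • p) ∧
            ∀ v : Fin (n + 2) → F, Cfsg.hermForm (n + 2) F q v p = 0 →
              ((g : Matrix.SpecialLinearGroup (Fin (n + 2)) F) : Matrix (Fin (n + 2)) (Fin (n + 2)) F) *ᵥ v = v}}, B)) ''
      {A : Subgroup ↥(Cfsg.SU (n + 2) F q) | ∃ p : Fin (n + 2) → F, p ≠ 0 ∧ Cfsg.hermForm (n + 2) F q p p = 0 ∧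
          A = Subgroup.closure {g : ↥(Cfsg.SU (n + 2) F q) |
            (∀ v : Fin (n + 2) → F, ∃ c : F, ((g : Matrix.SpecialLinearGroup (Fin (n + 2)) F) : Matrix (Fin (n + 2)) (Fin (n + 2)) F) *ᵥ v = v + c • p) ∧
            ∀ v : Fin (n + 2) → F, Cfsg.hermForm (n + 2) F q v p = 0 →
              ((g : Matrix.SpecialLinearGroup (Fin (n + 2)) F) : Matrix (Fin (n + 2)) (Fin (n + 2)) F) *ᵥ v = v}})) ∧
    Cfsg.IsConnectedFamily (Cfsg.FAdj ((fun A : Subgroup ↥(Cfsg.SU (n + 2) F q) => A.subgroupOf (⨆ B ∈ {A : Subgroup ↥(Cfsg.SU (n + 2) F q) | ∃ p : Fin (n + 2) → F, p ≠ 0 ∧ Cfsg.hermForm (n + 2) F q p p = 0 ∧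
          A = Subgroup.closure {g : ↥(Cfsg.SU (n + 2) F q) |
            (∀ v : Fin (n + 2) → F, ∃ c : F, ((g : Matrix.SpecialLinearGroup (Fin (n + 2)) F) : Matrix (Fin (n + 2)) (Fin (n + 2)) F) *ᵥ v = v + c • p) ∧
            ∀ v : Fin (n + 2) → F, Cfsg.hermForm (n + 2) F q v p = 0 →
              ((g : Matrix.SpecialLinearGroup (Fin (n + 2)) F) : Matrix (Fin (n + 2)) (Fin (n + 2)) F) *ᵥ v = v}}, B)) ''
      {A : Subgroup ↥(Cfsg.SU (n + 2) F q) | ∃ p : Fin (n + 2) → F, p ≠ 0 ∧ Cfsg.hermForm (n + 2) F q p p = 0 ∧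
          A = Subgroup.closure {g : ↥(Cfsg.SU (n + 2) F q) |
            (∀ v : Fin (n + 2) → F, ∃ c : F, ((g : Matrix.SpecialLinearGroup (Fin (n + 2)) F) : Matrix (Fin (n + 2)) (Fin (n + 2)) F) *ᵥ v = v + c • p) ∧
            ∀ v : Fin (n + 2) → F, Cfsg.hermForm (n + 2) F q v p = 0 →
              ((g : Matrix.SpecialLinearGroup (Fin (n + 2)) F) : Matrix (Fin (n + 2)) (Fin (n + 2)) F) *ᵥ v = v}})) ((fun A : Subgroup ↥(Cfsg.SU (n + 2) F q) => A.subgroupOf (⨆ B ∈ {A : Subgroup ↥(Cfsg.SU (n + 2) F q) | ∃ p : Fin (n + 2) → F, p ≠ 0 ∧ Cfsg.hermForm (n + 2) F q p p = 0 ∧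
          A = Subgroup.closure {g : ↥(Cfsg.SU (n + 2) F q) |
            (∀ v : Fin (n + 2) → F, ∃ c : F, ((g : Matrix.SpecialLinearGroup (Fin (n + 2)) F) : Matrix (Fin (n + 2)) (Fin (n + 2)) F) *ᵥ v = v + c • p) ∧
            ∀ v : Fin (n + 2) → F, Cfsg.hermForm (n + 2) F q v p = 0 →
              ((g : Matrix.SpecialLinearGroup (Fin (n + 2)) F) : Matrix (Fin (n + 2)) (Fin (n + 2)) F) *ᵥ v = v}}, B)) ''
      {A : Subgroup ↥(Cfsg.SU (n + 2) F q) | ∃ p : Fin (n + 2) → F, p ≠ 0 ∧ Cfsg.hermForm (n + 2) F q p p = 0 ∧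
          A = Subgroup.closure {g : ↥(Cfsg.SU (n + 2) F q) |
            (∀ v : Fin (n + 2) → F, ∃ c : F, ((g : Matrix.SpecialLinearGroup (Fin (n + 2)) F) : Matrix (Fin (n + 2)) (Fin (n + 2)) F) *ᵥ v = v + c • p) ∧
            ∀ v : Fin (n + 2) → F, Cfsg.hermForm (n + 2) F q v p = 0 →
              ((g : Matrix.SpecialLinearGroup (Fin (n + 2)) F) : Matrix (Fin (n + 2)) (Fin (n + 2)) F) *ᵥ v = v}}) := by
  open CfsgH5 CfsgH9.KR Subgroup in
  obtain ⟨L, _, _, hL, f, h1, h2⟩ : ∃ (L : Type) (_ : Field L) (_ : Fintype L), Fintype.card L = q ∧ ∃ f : L →+* F, (∀ c, frobQ hF (f c) = f c) ∧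
      ∀ x, frobQ hF x = x → ∃ c, f c = x := by
    let E := (frobQ hF).eqLocusField (RingHom.id F)
    let e : Fin q ≃ E := (Finite.equivFinOfCardEq (card_fixed hF)).symm
    letI := e.field
    exact ⟨Fin q, e.field, inferInstance, Fintype.card_fin q,
      E.subtype.comp e.ringEquiv.toRingHom, fun c => (e c).2, fun x h => ⟨e.symm ⟨x, h⟩, congrArg Subtype.val (e.apply_symm_apply _)⟩⟩
  letI := f.toAlgebra
  have mx := unitParam_isMax (frobQ hF) (frobQ_invol hF)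
  obtain ⟨K, tri, con⟩ := tv_ks (k := L) mx (uForm_nondeg hF (n + 2)) h1 h2 (suHom_inj (n + 2))
    (fun g => (suHom_mem hF g).1) fun t ht => exists_suHom hF ⟨Form.EG_le_isom ht, mem_slSub.2 (Form.det_EG ht)⟩
  obtain ⟨δ, δ0, hδ⟩ := exists_trace_zero (frobQ hF) (frobQ_invol hF) (frobQ_ne hF)
  have e0 : ∀ p l, p ≠ 0 → hermForm (n + 2) F q p p = 0 → l ≠ 0 → frobQ hF l = -l → closure {g : SU (n + 2) F q |
      (∀ v : Fin (n + 2) → F, ∃ c : F, ((g : Matrix.SpecialLinearGroup (Fin (n + 2)) F) : Matrix (Fin (n + 2)) (Fin (n + 2)) F) *ᵥ v = v + c • p) ∧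
      ∀ v : Fin (n + 2) → F, hermForm (n + 2) F q v p = 0 →
        ((g : Matrix.SpecialLinearGroup (Fin (n + 2)) F) : Matrix (Fin (n + 2)) (Fin (n + 2)) F) *ᵥ v = v} =
      X L (io (suHom (n + 2) F q)) (l • el (uForm hF (n + 2)) p p) := fun p l p0 pp l0 hl => congrArg Subgroup.closure (Set.ext fun g => by
    simp only [Set.mem_setOf_eq, ← suHom_apply, ← uForm_B hF, LinearMap.ext_iff, io_apply, LinearMap.add_apply, LinearMap.smul_apply, el_apply,
      Module.End.one_apply, ← algebraMap_smul F (R := L), smul_smul] at pp ⊢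
    refine ⟨fun ⟨a, b⟩ => ?_, fun ⟨c, h⟩ => ⟨fun v => ⟨_, h v⟩, fun v e => by simp [h, e]⟩⟩
    obtain ⟨y, hy⟩ := (uForm_nondeg hF (n + 2)).exists_hyp' (mx.q_eq_zero _ pp) p0
    obtain ⟨c, hc⟩ := a y
    have i := Form.isom_B (suHom_mem hF g).1 y y
    simp only [hc, Form.add_left, Form.add_right, Form.smul_left, Form.smul_right, pp, hy.ef, hy.ff, hy.fe, unitParam_σ, unitParam_ε] at i
    obtain ⟨d, hd⟩ := h2 (c / l) (by rw [map_div₀, hl, show frobQ hF c = -c by linear_combination i, neg_div_neg_eq])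
    refine ⟨d, fun v => ?_⟩
    have := b (v - (uForm hF (n + 2)).B v p • y) (by simp [Form.sub_left, Form.smul_left, hy.fe, unitParam_ε])
    rw [map_sub, map_smul, hc, sub_eq_iff_eq_add] at this
    rw [this, show algebraMap L F d = c / l from hd]; match_scalars <;> field_simp <;> ring)
  have e : ∀ P, P ∈ {P | ∃ p : Fin (n + 2) → F, p ≠ 0 ∧ hermForm (n + 2) F q p p = 0 ∧ P = closure {g : SU (n + 2) F q |
      (∀ v : Fin (n + 2) → F, ∃ c : F, ((g : Matrix.SpecialLinearGroup (Fin (n + 2)) F) : Matrix (Fin (n + 2)) (Fin (n + 2)) F) *ᵥ v = v + c • p) ∧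
      ∀ v : Fin (n + 2) → F, hermForm (n + 2) F q v p = 0 →
        ((g : Matrix.SpecialLinearGroup (Fin (n + 2)) F) : Matrix (Fin (n + 2)) (Fin (n + 2)) F) *ᵥ v = v}} ↔
      P ∈ X L (io (suHom (n + 2) F q)) '' TR (uForm hF (n + 2)) :=
    fun P => ⟨fun ⟨p, p0, pp, h⟩ => ⟨_, ⟨p, p0, uForm_B hF _ ▸ pp, δ, δ0, by simp [unitParam_ε, unitParam_σ, hδ], rfl⟩, (h.trans (e0 p δ p0 pp δ0 hδ)).symm⟩,
      fun ⟨_, ⟨p, p0, pp, l, l0, hl, rfl⟩, h⟩ => ⟨p, p0, uForm_B hF _ ▸ pp, h.symm.trans (e0 p l p0 (uForm_B hF _ ▸ pp) l0 (by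
        simp only [unitParam_ε, unitParam_σ] at hl; linear_combination hl)).symm⟩⟩
  rw [Set.ext e]
  obtain ⟨K', top, e'⟩ := K.sub rfl
  rw [e']
  have r := K'.root top
  obtain ⟨p, y, hy⟩ := Form.Nondeg.unit_exists_hyp (frobQ_ne hF) (uForm_nondeg hF (n + 2)) (by simp)
  exact ⟨⟨r.1, cls (K'.conn con) ⟨_, _, ⟨p, hy.ne_left, hy.ee, δ, δ0, by simp [unitParam_ε, unitParam_σ, hδ], rfl⟩, rfl⟩⟩, K'.deg r.1 tri,
    ⟨L, _, _, hL, r⟩, K'.conn con⟩

end Cfsg.Agent.S5071
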