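import Cfsg.Statements.S5072
import Cfsg.Agent.H9.KR3

set_option autoImplicit false
open Matrix
open Cfsg

namespace Cfsg.Agent.S5072

/-- Let F be a field, m a natural number and V = F^{2(m+3)} with the hyperbolic quadratic form q(x, y) = Σ xᵢ yᵢ (non-degenerate, Witt index m + 3 ≥ 3). For a singular line ℓ (a 2-dimensional subspace on which q vanishes) let T(ℓ) be the group of isometries of q fixing every vector of ℓ^⊥ (the Siegel transvection group of ℓ), let Σ be the set of these groups and G₀ the subgroup they generate. Then, viewed inside G₀, the members of Σ form a set of abstract F-root subgroups of G₀ (any two commute, or are the unipotent subgroups of a rank one group that is an image of SL₂(F) with central kernel, or satisfy the commutator case), and their graph of rank one pairs is connected. -/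
theorem result (F : Type*) [Field F] (m : ℕ) :
    Cfsg.IsKRootSubgroupSet F ((fun A : Subgroup ↥(Cfsg.isometryGroup F (Cfsg.quadFormPlus (m + 3) F)) => A.subgroupOf (⨆ B ∈ {A : Subgroup ↥(Cfsg.isometryGroup F (Cfsg.quadFormPlus (m + 3) F)) | ∃ p r : Fin (m + 3) ⊕ Fin (m + 3) → F, LinearIndependent F ![p, r] ∧
          Cfsg.quadFormPlus (m + 3) F p = 0 ∧ Cfsg.quadFormPlus (m + 3) F r = 0 ∧
          Cfsg.quadFormPlus (m + 3) F (p + r) = 0 ∧
          A = Subgroup.closure {σ : ↥(Cfsg.isometryGroup F (Cfsg.quadFormPlus (m + 3) F)) | ∀ v : Fin (m + 3) ⊕ Fin (m + 3) → F,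
            Cfsg.quadFormPlus (m + 3) F (v + p) - Cfsg.quadFormPlus (m + 3) F v - Cfsg.quadFormPlus (m + 3) F p = 0 →
            Cfsg.quadFormPlus (m + 3) F (v + r) - Cfsg.quadFormPlus (m + 3) F v - Cfsg.quadFormPlus (m + 3) F r = 0 →
              ((σ : Matrix.GeneralLinearGroup (Fin (m + 3) ⊕ Fin (m + 3)) F) : Matrix (Fin (m + 3) ⊕ Fin (m + 3)) (Fin (m + 3) ⊕ Fin (m + 3)) F) *ᵥ v = v}}, B)) ''
      {A : Subgroup ↥(Cfsg.isometryGroup F (Cfsg.quadFormPlus (m + 3) F)) | ∃ p r : Fin (m + 3) ⊕ Fin (m + 3) → F, LinearIndependent F ![p, r] ∧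
          Cfsg.quadFormPlus (m + 3) F p = 0 ∧ Cfsg.quadFormPlus (m + 3) F r = 0 ∧
          Cfsg.quadFormPlus (m + 3) F (p + r) = 0 ∧
          A = Subgroup.closure {σ : ↥(Cfsg.isometryGroup F (Cfsg.quadFormPlus (m + 3) F)) | ∀ v : Fin (m + 3) ⊕ Fin (m + 3) → F,
            Cfsg.quadFormPlus (m + 3) F (v + p) - Cfsg.quadFormPlus (m + 3) F v - Cfsg.quadFormPlus (m + 3) F p = 0 →
            Cfsg.quadFormPlus (m + 3) F (v + r) - Cfsg.quadFormPlus (m + 3) F v - Cfsg.quadFormPlus (m + 3) F r = 0 →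
              ((σ : Matrix.GeneralLinearGroup (Fin (m + 3) ⊕ Fin (m + 3)) F) : Matrix (Fin (m + 3) ⊕ Fin (m + 3)) (Fin (m + 3) ⊕ Fin (m + 3)) F) *ᵥ v = v}}) ∧
    Cfsg.IsConnectedFamily (Cfsg.FAdj {A : Subgroup ↥(Cfsg.isometryGroup F (Cfsg.quadFormPlus (m + 3) F)) | ∃ p r : Fin (m + 3) ⊕ Fin (m + 3) → F, LinearIndependent F ![p, r] ∧
          Cfsg.quadFormPlus (m + 3) F p = 0 ∧ Cfsg.quadFormPlus (m + 3) F r = 0 ∧
          Cfsg.quadFormPlus (m + 3) F (p + r) = 0 ∧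
          A = Subgroup.closure {σ : ↥(Cfsg.isometryGroup F (Cfsg.quadFormPlus (m + 3) F)) | ∀ v : Fin (m + 3) ⊕ Fin (m + 3) → F,
            Cfsg.quadFormPlus (m + 3) F (v + p) - Cfsg.quadFormPlus (m + 3) F v - Cfsg.quadFormPlus (m + 3) F p = 0 →
            Cfsg.quadFormPlus (m + 3) F (v + r) - Cfsg.quadFormPlus (m + 3) F v - Cfsg.quadFormPlus (m + 3) F r = 0 →
              ((σ : Matrix.GeneralLinearGroup (Fin (m + 3) ⊕ Fin (m + 3)) F) : Matrix (Fin (m + 3) ⊕ Fin (m + 3)) (Fin (m + 3) ⊕ Fin (m + 3)) F) *ᵥ v = v}})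
      {A : Subgroup ↥(Cfsg.isometryGroup F (Cfsg.quadFormPlus (m + 3) F)) | ∃ p r : Fin (m + 3) ⊕ Fin (m + 3) → F, LinearIndependent F ![p, r] ∧
          Cfsg.quadFormPlus (m + 3) F p = 0 ∧ Cfsg.quadFormPlus (m + 3) F r = 0 ∧
          Cfsg.quadFormPlus (m + 3) F (p + r) = 0 ∧
          A = Subgroup.closure {σ : ↥(Cfsg.isometryGroup F (Cfsg.quadFormPlus (m + 3) F)) | ∀ v : Fin (m + 3) ⊕ Fin (m + 3) → F,
            Cfsg.quadFormPlus (m + 3) F (v + p) - Cfsg.quadFormPlus (m + 3) F v - Cfsg.quadFormPlus (m + 3) F p = 0 →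
            Cfsg.quadFormPlus (m + 3) F (v + r) - Cfsg.quadFormPlus (m + 3) F v - Cfsg.quadFormPlus (m + 3) F r = 0 →
              ((σ : Matrix.GeneralLinearGroup (Fin (m + 3) ⊕ Fin (m + 3)) F) : Matrix (Fin (m + 3) ⊕ Fin (m + 3)) (Fin (m + 3) ⊕ Fin (m + 3)) F) *ᵥ v = v}} := by
  open CfsgH5 CfsgH9.KR Subgroup in
  have hS := plusForm_nondeg (F := F) (m + 3)
  have K := sg_ks hS (oHom_inj _) (oHom_mem (plusForm_Q (m + 3))) fun t ht => exists_oHom (plusForm_Q (m + 3)) ht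
  have pl : ∀ v p, quadFormPlus (m + 3) F (v + p) - quadFormPlus (m + 3) F v - quadFormPlus (m + 3) F p = (plusForm (m + 3) F).B v p := fun v p => by
    simp only [← plusForm_Q, Form.Q_add]; ring
  have e0 : ∀ p r, Ln (plusForm (m + 3) F) p r → closure {σ : isometryGroup F (quadFormPlus (m + 3) F) | ∀ v : Fin (m + 3) ⊕ Fin (m + 3) → F,
      quadFormPlus (m + 3) F (v + p) - quadFormPlus (m + 3) F v - quadFormPlus (m + 3) F p = 0 →
      quadFormPlus (m + 3) F (v + r) - quadFormPlus (m + 3) F v - quadFormPlus (m + 3) F r = 0 →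
      ((σ : Matrix.GeneralLinearGroup (Fin (m + 3) ⊕ Fin (m + 3)) F) : Matrix (Fin (m + 3) ⊕ Fin (m + 3)) (Fin (m + 3) ⊕ Fin (m + 3)) F) *ᵥ v = v} =
      X F (io (oHom (quadFormPlus (m + 3) F))) (el (plusForm (m + 3) F) p r - el (plusForm (m + 3) F) r p) := fun p r h =>
    congrArg Subgroup.closure (Set.ext fun g => by
      simp only [Set.mem_setOf_eq, pl, ← oHom_apply, LinearMap.ext_iff]
      exact ⟨h.fix hS (oHom_mem (plusForm_Q (m + 3)) g), fun ⟨c, H⟩ v a b => by simpa [a, b] using H v⟩)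
  have e : ∀ P, P ∈ {A : Subgroup (isometryGroup F (quadFormPlus (m + 3) F)) | ∃ p r : Fin (m + 3) ⊕ Fin (m + 3) → F, LinearIndependent F ![p, r] ∧
      quadFormPlus (m + 3) F p = 0 ∧ quadFormPlus (m + 3) F r = 0 ∧ quadFormPlus (m + 3) F (p + r) = 0 ∧
      A = closure {σ : isometryGroup F (quadFormPlus (m + 3) F) | ∀ v : Fin (m + 3) ⊕ Fin (m + 3) → F,
        quadFormPlus (m + 3) F (v + p) - quadFormPlus (m + 3) F v - quadFormPlus (m + 3) F p = 0 →
        quadFormPlus (m + 3) F (v + r) - quadFormPlus (m + 3) F v - quadFormPlus (m + 3) F r = 0 →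
        ((σ : Matrix.GeneralLinearGroup (Fin (m + 3) ⊕ Fin (m + 3)) F) : Matrix (Fin (m + 3) ⊕ Fin (m + 3)) (Fin (m + 3) ⊕ Fin (m + 3)) F) *ᵥ v = v}} ↔
      P ∈ X F (io (oHom (quadFormPlus (m + 3) F))) '' SR (plusForm (m + 3) F) := fun P =>
    ⟨fun ⟨p, r, a, b, c, d, h⟩ => have l : Ln (plusForm (m + 3) F) p r := ⟨a, (plusForm_Q _ _).trans b, (plusForm_Q _ _).trans c, by rw [← pl, b, c, d]; simp⟩
      ⟨_, ⟨p, r, l, rfl⟩, (h.trans (e0 p r l)).symm⟩, fun ⟨_, ⟨p, r, l, rfl⟩, h⟩ => ⟨p, r, l.li, (plusForm_Q _ _).symm.trans l.qp,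
        (plusForm_Q _ _).symm.trans l.qr, by simp [← plusForm_Q, Form.Q_add, l.qp, l.qr, l.pr], h.symm.trans (e0 p r l).symm⟩⟩
  rw [Set.ext e]
  obtain ⟨K', top, e'⟩ := K.sub rfl
  rw [e']
  have hf := (plusForm_hypFam (F := F) (m + 3)).comp (Fin.natAdd_injective 3 m)
  refine ⟨K'.root top, K.conn ?_⟩
  rintro _ ⟨p, r, h, rfl⟩ _ ⟨s, t, h', rfl⟩
  exact h.conn hS hf.totSing_left (by simpa using hf.finrank_left) h'

end Cfsg.Agent.S5072
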