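import Cfsg.Statements.S5073
import Cfsg.Agent.H9.QP7

set_option autoImplicit false
universe u
open Cfsg

namespace Cfsg.Agent.S5073

/-- Let k be a field of characteristic not 2 with k not of order 3, M a finite-dimensional k-vector space and G ≤ GL(M) such that (G, M) is a quadratic pair (M irreducible for G, and G generated by its quadratically acting elements σ whose scalar family 1 + c(σ − 1), c ∈ k, lies in G). Write 𝒬_d for the quadratic elements of G of minimal commutator rank, E(σ) for the subgroup generated by the members of 𝒬_d with the same fixed space and commutator space as σ, and Σ for the set of these subgroups. Let E, F ∈ Σ. If some non-identity element of E commutes with some non-identity element of F, or some non-identity element of E normalizes F, then E and F commute elementwise. -/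
theorem result {k : Type u} [Field k] (hk2 : ringChar k ≠ 2) (hk3 : Nat.card k ≠ 3)
    {M : Type u} [AddCommGroup M] [Module k M] [FiniteDimensional k M]
    {G : Subgroup (LinearMap.GeneralLinearGroup k M)} (hG : Cfsg.IsQuadraticPair G)
    {E F : Subgroup (LinearMap.GeneralLinearGroup k M)} (hE : E ∈ Cfsg.quadraticRootSubgroups G) (hF : F ∈ Cfsg.quadraticRootSubgroups G)
    (h : (∃ e ∈ E, e ≠ 1 ∧ ∃ f ∈ F, f ≠ 1 ∧ e * f = f * e) ∨ E ⊓ Subgroup.normalizer (F : Set (LinearMap.GeneralLinearGroup k M)) ≠ ⊥) :
    ⁅E, F⁆ = ⊥ := by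
  open Subgroup CfsgH9.QP in
    have Fk := fk hk2 hk3
    obtain ⟨a, ha, rfl⟩ := mem_Sig.1 hE
    obtain ⟨b, hb, rfl⟩ := mem_Sig.1 hF
    by_cases o : a * b * a = 0
    · by_cases h0 : br a b = 0
      · exact ha.comm_bot Fk hb o h0
      exfalso
      rcases h with ⟨e, he, e0, f, hf, f0, c⟩ | h
      · refine (ha.cm Fk hb o h0 (mem_Eg.1 he) (mem_Eg.1 hf)).2 (ne_one_iff.1 e0) (ne_one_iff.1 f0) ?_
        rw [← ha.comm_val Fk hb o he hf, c]; simp
      · obtain ⟨⟨e, he, hn⟩, e0⟩ := ne_bot_iff_exists_ne_one.1 h
        replace e0 : e ≠ 1 := fun k => e0 (Subtype.ext k)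
        have f1 := sq_mem_Eg hb.self hb.sq
        have m := mul_mem ((mem_normalizer_iff.1 hn _).1 f1) (inv_mem f1)
        rw [mem_Eg, ha.comm_val Fk hb o he f1, sq_val] at m
        obtain ⟨c1, c2⟩ := ha.cm Fk hb o h0 (mem_Eg.1 he) hb.self
        have c3 := c2 (ne_one_iff.1 e0) hb.ne
        have o' := ha.u_symm Fk hb o
        have g := (ha.cl hb.toQs o o' h0).1
        have m' : b ∈ EE G (br a b) := g.EE_eq c1 c3 ▸ hb.mem_symm m c3
        have e1 : a * br a b = 0 := by simp [br, mul_sub, ← mul_assoc, o, ha.sq]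
        have e2 : br a b * a = 0 := by simp [br, sub_mul, mul_assoc b, o, ha.sq]
        exact h0 (by rw [br, EE_lz m' e1, EE_rz m' e2, sub_self])
    · exfalso
      rcases h with ⟨e, he, e0, f, hf, f0, c⟩ | h
      · refine ha.op_mem Fk hb o (mem_Eg.1 he) (ne_one_iff.1 e0) (mem_Eg.1 hf) (ne_one_iff.1 f0) ?_
        have : ((e : Module.End k M) - 1) * ((f : Module.End k M) - 1) = ((f : Module.End k M) - 1) * ((e : Module.End k M) - 1) := by
          have := congrArg Units.val c
          simp only [Units.val_mul] at this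
          linear_combination (norm := noncomm_ring) this
        rw [this, mul_assoc, EE_mul (mem_Eg.1 he) (mem_Eg.1 he), mul_zero]
      · obtain ⟨⟨e, he, hn⟩, e0⟩ := ne_bot_iff_exists_ne_one.1 h
        refine e0 (Subtype.ext ((Op.symm Fk ⟨ha, hb, o⟩).norm Fk he ?_))
        ext x
        rw [mem_conjBy, mem_normalizer_iff.1 hn]; simp [mul_assoc]

end Cfsg.Agent.S5073
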