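import Cfsg.Statements.S5075
import Cfsg.Agent.H9.ML2

set_option autoImplicit false
open Cfsg

namespace Cfsg.Agent.S5075

/-- Let p be an odd prime, V a finite-dimensional vector space over the field with p elements, and H a group of linear automorphisms of V generated by transvections (elements of order p fixing a hyperplane pointwise) and having no nontrivial normal p-subgroup. Then for some n ≥ 1 there are a decomposition V = V₀ ⊕ V₁ ⊕ ⋯ ⊕ Vₙ into H-invariant subspaces and a decomposition of H as the internal direct product of normal subgroups H₁, …, Hₙ such that Hⱼ acts trivially on every Vᵢ with i ≠ j, and Hⱼ induces on Vⱼ exactly the special linear group of Vⱼ or exactly the isometry group of a non-degenerate alternating form on Vⱼ. -/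
theorem result {p : ℕ} [Fact p.Prime] (hp : Odd p) {V : Type*} [AddCommGroup V] [Module (ZMod p) V] [Finite V]
    (H : Subgroup (V ≃ₗ[ZMod p] V)) (T : Set (V ≃ₗ[ZMod p] V)) (hHT : H = Subgroup.closure T)
    (hT : ∀ t ∈ T, orderOf t = p ∧
      Module.finrank (ZMod p) ↥(LinearMap.ker ((t : V →ₗ[ZMod p] V) - LinearMap.id)) + 1 =
        Module.finrank (ZMod p) V)
    (hOp : Cfsg.pCore p ↥H = ⊥) :
    ∃ (n : ℕ) (W : Fin (n + 1) → Submodule (ZMod p) V) (K : Fin n → Subgroup (V ≃ₗ[ZMod p] V)),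
      1 ≤ n ∧ DirectSum.IsInternal W ∧
      (∀ h ∈ H, ∀ i, (W i).map (h : V →ₗ[ZMod p] V) = W i) ∧
      (∀ j, K j ≤ H ∧ ((K j).subgroupOf H).Normal) ∧ ⨆ j, K j = H ∧
      (∀ j, K j ⊓ (⨆ j' ∈ {j' : Fin n | j' ≠ j}, K j') = ⊥) ∧
      (∀ j j', j ≠ j' → ∀ a ∈ K j, ∀ b ∈ K j', a * b = b * a) ∧
      (∀ j, ∀ h ∈ K j, ∀ i : Fin (n + 1), i ≠ j.succ → ∀ v ∈ W i, h v = v) ∧
      (∀ j, ∃ ρ : ↥(K j) →* (↥(W j.succ) ≃ₗ[ZMod p] ↥(W j.succ)),
        (∀ (h : ↥(K j)) (v : ↥(W j.succ)), ((ρ h v : ↥(W j.succ)) : V) = (h : V ≃ₗ[ZMod p] V) (v : V)) ∧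
        ((ρ.range : Set (↥(W j.succ) ≃ₗ[ZMod p] ↥(W j.succ))) =
            {f : ↥(W j.succ) ≃ₗ[ZMod p] ↥(W j.succ) | LinearMap.det (f : ↥(W j.succ) →ₗ[ZMod p] ↥(W j.succ)) = 1} ∨
          ∃ B : LinearMap.BilinForm (ZMod p) ↥(W j.succ), B.IsAlt ∧ B.Nondegenerate ∧
            (ρ.range : Set (↥(W j.succ) ≃ₗ[ZMod p] ↥(W j.succ))) = {f : ↥(W j.succ) ≃ₗ[ZMod p] ↥(W j.succ) | ∀ x y, B (f x) (f y) = B x y})) := by
  open Subgroup CfsgH5 CfsgH9.ML Module in
  have ts := ts hp hOp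
  have c0 : (2 : ZMod p) ≠ 0 := fun e => by
    have := (Nat.prime_dvd_prime_iff_eq Fact.out Nat.prime_two).1 ((ZMod.natCast_eq_zero_iff 2 p).1 (by simpa using e))
    subst this; exact absurd hp (by decide)
  have c1 : (2 : ZMod p) ≠ 1 := by rw [← one_add_one_eq_two]; simp
  obtain ⟨n, ⟨e⟩⟩ := Finite.exists_equiv_fin {C : Set V // ∀ v ∈ C, C = {q | Rel (Dual.eval (ZMod p) V) (SS H) v q}}
  have cl := fun j => (ts.con_res (e.symm j).2).1
  choose U D hU hD m3 m5 hK using fun j => comp (ts.res (cl j)) (ts.con_res (e.symm j).2).2 c0 c1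
  have m2 : ∀ i j, i ≠ j → ∀ x ∈ U i, ∀ φ ∈ D j, φ x = 0 := fun i j ij x hx φ hφ => by
    by_contra a
    obtain ⟨x0, ψ, ψ0, h1⟩ := (hU i x).1 hx (by rintro rfl; simp at a)
    have φ0 : φ ≠ 0 := by rintro rfl; simp at a
    obtain ⟨q, q0, h2⟩ := (hD j φ).1 hφ φ0
    exact ij (e.symm.injective (Subtype.ext (((e.symm i).2 q (cl i x (h1.2 x0 ψ0) q ⟨⟨x0, ψ, ψ0, h1.1⟩, q0, φ, h2.1, a⟩)).trans
      ((e.symm j).2 q (h2.2 q0 φ0)).symm)))
  obtain ⟨W, W0, Ws⟩ : ∃ W : Fin (n + 1) → Submodule (ZMod p) V, (∀ v, v ∈ W 0 ↔ ∀ j, ∀ φ ∈ D j, φ v = 0) ∧ ∀ j, W j.succ = U j :=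
    ⟨Fin.cons (⨅ j, (D j).dualCoannihilator) U, fun v => by simp [Submodule.mem_iInf, Submodule.mem_dualCoannihilator], fun _ => rfl⟩
  obtain rfl : U = fun j => W j.succ := funext fun j => (Ws j).symm
  have m : ∀ j (i : Fin (n + 1)), i ≠ j.succ → ∀ x ∈ W i, ∀ φ ∈ D j, φ x = 0 := fun j i => Fin.cases (fun _ x hx => (W0 x).1 hx j)
    (fun i h => m2 i j (mt (congrArg _) h)) i
  have top : ⨆ i, W i = ⊤ := eq_top_iff.2 fun v _ => by
    choose x hx hx' using fun j => m5 j v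
    rw [← sub_add_cancel v (∑ j, x j)]
    refine add_mem (Submodule.mem_iSup_of_mem 0 ((W0 _).2 fun j φ hφ => ?_)) (Submodule.sum_mem _ fun j _ => Submodule.mem_iSup_of_mem _ (hx j))
    rw [map_sub, map_sum, Finset.sum_eq_single j (fun i _ ij => m2 i j ij _ (hx i) φ hφ) (by simp), hx' j φ hφ, sub_self]
  have ext : ∀ a b : V ≃ₗ[ZMod p] V, (∀ i, ∀ v ∈ W i, a v = b v) → a = b := fun a b h => LinearEquiv.ext fun v =>
    Submodule.iSup_induction W (motive := fun v => a v = b v) (top.ge Submodule.mem_top) h (by simp) fun x y hx hy => by simp [hx, hy]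
  obtain ⟨K, eK⟩ : ∃ K : Fin n → Subgroup (V ≃ₗ[ZMod p] V), ∀ j, K j = closure {g | ∃ v ∈ W j.succ, ∃ φ ∈ D j,
    (SS H v φ ∧ (v ≠ 0 → φ ≠ 0 → v ∈ (e.symm j).1)) ∧ g = tr φ v} := ⟨_, fun _ => rfl⟩
  have fx : ∀ j i, i ≠ j.succ → K j ≤ fixer (ZMod p) (W i) := fun j i h => (eK j).trans_le ((closure_le _).2 (by
    rintro _ ⟨v, -, φ, hφ, -, rfl⟩; exact tr_mem_fixer v fun w hw => m j i h w hw φ hφ))
  have st : ∀ j i, K j ≤ stab (ZMod p) (W i) := fun j i => by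
    rcases eq_or_ne i j.succ with rfl | h
    · exact (eK j).trans_le ((closure_le _).2 (by rintro _ ⟨v, hv, φ, -, -, rfl⟩; exact tr_mem_stab_of_mem φ hv))
    · exact (fx j i h).trans (fixer_le_stab _)
  have le : ∀ j, K j ≤ H := fun j => (eK j).trans_le ((closure_le _).2 (by rintro _ ⟨v, -, φ, -, h, rfl⟩; exact h.1.2))
  have sup : ⨆ j, K j = H := le_antisymm (iSup_le le) (hHT.trans_le ((closure_le _).2 fun t ht => by
    obtain ⟨v, φ, a, rfl⟩ := exists_tr (hT t ht).1 (hT t ht).2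
    rcases eq_or_ne v 0 with rfl | v0
    · simp [tr_zero_right]
    rcases eq_or_ne φ 0 with rfl | φ0
    · simp [tr_zero_left]
    have h : SS H v φ := ⟨a, hHT ▸ subset_closure ht⟩
    let j := e ⟨{q | Rel _ (SS H) v q}, fun w hw => Set.ext fun q => ⟨ts.trans (Rel.symm hw), ts.trans hw⟩⟩
    have h' : SS H v φ ∧ (v ≠ 0 → φ ≠ 0 → v ∈ (e.symm j).1) := ⟨h, fun _ _ => by rw [e.symm_apply_apply]; exact ts.refl ⟨v0, φ, φ0, h⟩⟩
    exact mem_iSup_of_mem j (eK j ▸ subset_closure ⟨v, (hU j v).2 fun _ => ⟨v0, φ, φ0, h'⟩, φ, (hD j φ).2 fun _ => ⟨v, v0, h'⟩, h', rfl⟩)))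
  have cm : ∀ j j', j ≠ j' → ∀ a ∈ K j, ∀ b ∈ K j', a * b = b * a := fun j j' h a ha b hb => ext _ _ fun i v hv => by
    rcases eq_or_ne i j.succ with rfl | h1
    · have := fx j' _ (mt (Fin.succ_injective _ ·) h) hb
      rw [LinearEquiv.mul_apply, LinearEquiv.mul_apply, mem_fixer.1 this v hv, mem_fixer.1 this _ (stab_apply (st j _ ha) hv)]
    · have := fx j _ h1 ha
      rw [LinearEquiv.mul_apply, LinearEquiv.mul_apply, mem_fixer.1 this v hv, mem_fixer.1 this _ (stab_apply (st j' _ hb) hv)]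
  refine ⟨n, W, K, (e ⟨∅, by simp⟩).pos, DirectSum.isInternal_submodule_of_iSupIndep_of_iSup_eq_top
    ((iSupIndep_iff_finsetSum_eq_zero_imp_eq_zero W).2 fun s v hv h => ?_) top,
    fun h hh i => mem_stab_iff_map.1 ((sup.ge.trans (iSup_le fun j => st j i)) hh), fun j => ⟨le j, (normal_subgroupOf_iff_le_normalizer (le j)).2
      (sup.ge.trans (iSup_le fun i => ?_))⟩, sup, fun j => eq_bot_iff.2 fun g hg => ext _ _ fun i v hv => ?_, cm,
    fun j h hh i hi => mem_fixer.1 (fx j i hi hh), fun j => hK j _ (eK j)⟩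
  · have : ∀ j : Fin n, j.succ ∈ s → v j.succ = 0 := fun j hj => m3 j _ (hv _ hj) fun φ hφ => by
      have := congrArg φ h
      rwa [map_sum, Finset.sum_eq_single_of_mem _ hj fun i hi ij => m j i ij _ (hv i hi) φ hφ, map_zero] at this
    refine Fin.cases (fun h0 => ?_) this
    rwa [Finset.sum_eq_single_of_mem _ h0 fun i => Fin.cases (fun _ h => (h rfl).elim) (fun j hj _ => this j hj) i] at h
  · rcases eq_or_ne j i with rfl | h
    · exact le_normalizer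
    · exact (le_centralizer_iff.1 fun a ha b hb => (cm j i h a ha b hb).symm).trans (centralizer_le_normalizer _)
  · rcases eq_or_ne i j.succ with rfl | h
    · exact mem_fixer.1 ((iSup₂_le fun j' h => fx j' _ (mt (Fin.succ_injective _ ·) (Ne.symm h)) : _ ≤ fixer (ZMod p) (W j.succ)) hg.2) v hv
    · exact mem_fixer.1 (fx j i h hg.1) v hv

end Cfsg.Agent.S5075
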