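import Cfsg.Statements.S5087
import Cfsg.Agent.FS.Norm

set_option autoImplicit false
open Cfsg

namespace Cfsg.Agent.S5087

open CfsgH9 CfsgFS

/-- In a saturated fusion system over a finite p-group S, a subgroup Q is normal in the system if and only if every subgroup P that equals S or is essential contains Q and every element of Aut_F(P) maps Q onto itself. -/
theorem result {Ω : Type*} [Group Ω] {S : Subgroup Ω} [Finite S] (p : ℕ) [Fact p.Prime] (hS : IsPGroup p S) (F : Cfsg.FusionSystem S) (hF : F.IsSaturated p) (Q : Subgroup Ω) : F.IsNormal Q ↔ ∀ P : Subgroup Ω, (P = S ∨ F.IsEssential p P) → (Q ≤ P ∧ ∀ α ∈ F.autGroup P, (Q.subgroupOf P).map α.toMonoidHom = Q.subgroupOf P) := by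
  have hs := Sat.mk hS hF
  refine ⟨fun h P hP => ?_, fun h => hs.nm_of fun P hP => ⟨(h P hP).1, fun α hα x hx => ?_⟩⟩
  · have h1 := Nm.le_of_cr hS h (Fr.centric hP) (Fr.rad hP hs)
    have h2 : ∀ α ∈ F.autGroup P, ∀ x : P, (x : Ω) ∈ Q → ((α x : P) : Ω) ∈ Q := fun α hα x hx => by
      rw [← ap_coe]; exact SC.mem (Nm.sc h) ((mem_autGroup (Fr.le hP)).1 hα) x.2 hx
    refine ⟨h1, fun α hα => le_antisymm ?_ fun x hx => ⟨α⁻¹ x, h2 _ (minv hα) x hx, by simp⟩⟩
    rintro _ ⟨x, hx, rfl⟩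
    exact h2 α hα x hx
  · rw [ap_of_mem _ ((h P hP).1 hx)]
    exact ((h P hP).2 α hα).le ⟨⟨x, (h P hP).1 hx⟩, hx, rfl⟩

end Cfsg.Agent.S5087
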