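import Cfsg.Statements.S5089
import Cfsg.Agent.FS.Norm

set_option autoImplicit false
open Cfsg

namespace Cfsg.Agent.S5089

open CfsgH9 CfsgFS

/-- A saturated fusion system over a finite p-group has a nontrivial subgroup that is normal in the system (O_p(F) ≠ 1) if and only if some nontrivial abelian subgroup is strongly closed in the system. -/
theorem result {Ω : Type*} [Group Ω] {S : Subgroup Ω} [Finite S] (p : ℕ) [Fact p.Prime] (hS : IsPGroup p S) (F : Cfsg.FusionSystem S) (hF : F.IsSaturated p) : F.core ≠ ⊥ ↔ ∃ Q : Subgroup Ω, Q ≠ ⊥ ∧ IsMulCommutative Q ∧ F.StronglyClosed Q := by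
  constructor
  · intro h
    have := finite_of_le (core_le (F := F))
    refine ⟨F.core ⊓ Subgroup.centralizer (F.core : Set Ω), fun e => ?_, ⟨⟨fun a b => Subtype.ext (b.2.2 a a.2.1)⟩⟩, Nm.sc (Nm.center (nm_core F))⟩
    have : Nontrivial F.core := (Subgroup.nontrivial_iff_ne_bot _).2 h
    have h2 := (hS.to_le (core_le (F := F))).center_nontrivial
    obtain ⟨⟨z, hz⟩, hz1⟩ := exists_ne (1 : Subgroup.center F.core)
    have : (z : Ω) ∈ (⊥ : Subgroup Ω) := e ▸ ⟨z.2, fun y hy =>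
      congrArg Subtype.val (Subgroup.mem_center_iff.1 hz ⟨y, hy⟩)⟩
    exact hz1 (Subtype.ext (Subtype.ext this))
  · rintro ⟨Q, h1, h2, h3⟩ e
    refine h1 (le_bot_iff.1 (e ▸ Nm.le_core ((Sat.mk hS hF).nm_of_comm h3 fun x hx y hy => ?_)))
    exact congrArg Subtype.val (h2.1.1 ⟨y, hy⟩ ⟨x, hx⟩)

end Cfsg.Agent.S5089
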