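import Cfsg.Statements.S5094
import Cfsg.Agent.H2.Isolated

set_option autoImplicit false
open Cfsg

namespace Cfsg.Agent.S5094
open Subgroup CfsgH2
open scoped commutatorElement

/-- Glauberman's Z*-Theorem in fusion language: for a finite group G with Sylow 2-subgroup S, the centre of the fusion system of G on S is the set of elements of S whose image in G/O(G) is central, O(G) being the largest normal subgroup of odd order. -/
theorem result {G : Type*} [Group G] [Finite G] (S : Sylow 2 G) : (Cfsg.groupFusionSystem (S : Subgroup G)).center = (S : Subgroup G) ⊓ (Subgroup.center (G ⧸ Cfsg.oddCore G)).comap (QuotientGroup.mk' (Cfsg.oddCore G)) := by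
  have hS := IsSylowIn.of_sylow_top S
  apply le_antisymm
  · refine sSup_le fun Q hQ x hx => mem_inf.2 ⟨hQ.1 hx, ?_⟩
    obtain ⟨k, hk⟩ := exists_orderOf_eq_pow hS.pgroup (hQ.1 hx)
    refine zstar_two hk (iso_of_sylow hS (hQ.1 hx) fun g hg => ?_)
    obtain ⟨ψ, -, h1, h2⟩ := hQ.2 (zpowers x) (conjHom _ g)
      ⟨Subgroup.zpowers_le.2 (hQ.1 hx), fun y => by
        have : cj g (zpowers x) ≤ S := by rw [cj_zpowers]; exact Subgroup.zpowers_le.2 hg
        exact cj_le_iff.1 this y y.2, g, fun _ => rfl⟩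
    exact (h1 ⟨x, mem_zpowers x⟩).symm.trans (h2 ⟨x, hx⟩)
  · obtain ⟨W, hW⟩ : ∃ W, W = (Subgroup.center (G ⧸ Cfsg.oddCore G)).comap
      (QuotientGroup.mk' (Cfsg.oddCore G)) := ⟨_, rfl⟩
    rw [← hW]
    haveI : W.Normal := hW ▸ Normal.comap inferInstance _
    have key : ∀ z ∈ (S : Subgroup G) ⊓ W, ∀ g, g * z * g⁻¹ ∈ (S : Subgroup G) → g * z * g⁻¹ = z :=
      fun z hz g hg => eq_of_mem_of_zstar hS.pgroup hz.1 hg (mk_mem_center_iff.1 (hW.le hz.2) g)
    have hc : (S : Subgroup G) ⊓ W ≤ centralizer (S : Set G) := fun z hz s hs =>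
      mul_inv_eq_iff_eq_mul.1 (key z hz s (mul_mem (mul_mem hs hz.1) (inv_mem hs)))
    refine le_sSup ⟨inf_le_left, ?_⟩
    rintro P φ ⟨hP, hφ, g, hg⟩
    have hZ := IsSylowIn.sylow_inf_normal S W
    have h1 := hZ.mono (K := W ⊓ centralizer (P : Set G))
      (le_inf inf_le_right (hc.trans (centralizer_le hP))) inf_le_left
    have h2 := (hZ.cj_of_mem_normalizer (g := g⁻¹) (by rw [normalizer_eq_top]; trivial)).mono
      (K := W ⊓ centralizer (P : Set G)) (cj_le_iff.2 fun z hz => mem_inf.2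
        ⟨Normal.conj_mem inferInstance _ hz.2 _, fun p hp => by
          have := hc hz _ (hg ⟨p, hp⟩ ▸ hφ ⟨p, hp⟩)
          calc p * (g⁻¹ * z * g⁻¹⁻¹) = g⁻¹ * (g * p * g⁻¹ * z) * g := by group
            _ = _ := by rw [this]; group⟩) inf_le_left
    obtain ⟨d, hd, e⟩ := h1.exists_cj_eq h2
    have h3 : ∀ z ∈ (S : Subgroup G) ⊓ W, g * d * z * (g * d)⁻¹ = z := fun z hz => key z hz _ (by
      have : cj (g * d) ((S : Subgroup G) ⊓ W) = (S : Subgroup G) ⊓ W := by
        rw [← cj_cj, e, cj_cj_inv]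
      exact (this.le (conj_mem_cj _ hz)).1)
    have h4 : ∀ p ∈ P, g * d * p * (g * d)⁻¹ = g * p * g⁻¹ := fun p hp => by
      calc g * d * p * (g * d)⁻¹ = g * (d * p) * d⁻¹ * g⁻¹ := by group
        _ = _ := by rw [← hd.2 p hp]; group
    refine ⟨conjHom _ (g * d), ⟨sup_le hP inf_le_left, fun x => ?_, g * d, fun _ => rfl⟩,
      fun x => (h4 x x.2).trans (hg x).symm, fun x => h3 x x.2⟩
    have : cj (g * d) (P ⊔ ((S : Subgroup G) ⊓ W)) ≤ S := by
      rw [cj_sup]
      refine sup_le (cj_le_iff.2 fun p hp => ?_) (cj_le_iff.2 fun z hz => ?_)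
      · rw [h4 p hp, ← hg ⟨p, hp⟩]; exact hφ _
      · rw [h3 z hz]; exact hz.1
    exact cj_le_iff.1 this x x.2


end Cfsg.Agent.S5094
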