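import Cfsg.Statements.S5107
import Cfsg.Agent.FS.Res1

set_option autoImplicit false
open Cfsg

namespace Cfsg.Agent.S5107

open CfsgH9 CfsgFS

/-- If a Sylow p-subgroup S of a finite group G has nilpotency class at most two and its centre is strongly closed in S with respect to G, then every map of the fusion system of G on S is conjugation by an element of N_G(S), and S is the largest subgroup normal in that fusion system. -/
theorem result {G : Type*} [Group G] [Finite G] (p : ℕ) [Fact p.Prime] (S : Sylow p G) (hcl : ⁅(S : Subgroup G), (S : Subgroup G)⁆ ≤ (S : Subgroup G) ⊓ Subgroup.centralizer ((S : Subgroup G) : Set G)) (hZ : Cfsg.IsStronglyClosed ((S : Subgroup G) ⊓ Subgroup.centralizer ((S : Subgroup G) : Set G)) (S : Subgroup G)) : (∀ (P : Subgroup G) (φ : P →* G), φ ∈ (Cfsg.groupFusionSystem (S : Subgroup G)).Hom P → ∃ g ∈ Subgroup.normalizer ((S : Subgroup G) : Set G), ∀ x : P, φ x = g * (x : G) * g⁻¹) ∧ (Cfsg.groupFusionSystem (S : Subgroup G)).core = S := by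
  have g := isGF_group (S : Subgroup G)
  have s := g.sat (syl_top S)
  have n := s.nm_of_class_two (g.sc_iff.2 ⟨hZ.1, fun x hx a _ => hZ.2 x hx a⟩) hcl inf_le_right
  refine ⟨fun P φ hφ => ?_, le_antisymm core_le (Nm.le_core n)⟩
  obtain ⟨f, f1, f2⟩ := Nm.ext_top n (mor_ext hφ)
  obtain ⟨a, -, e⟩ := g.elim f1
  refine ⟨a, mem_normalizer_of_finite fun x hx => e x hx ▸ f1.mem hx, fun x => ?_⟩
  rw [← ext_coe φ, ← f2 _ x.2, e _ ((mor_ext hφ).le x.2)]

end Cfsg.Agent.S5107
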