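import Cfsg.Statements.S5119
import Cfsg.Agent.FS.Mor

set_option autoImplicit false
open Cfsg

namespace Cfsg.Agent.S5119

open CfsgH9 CfsgFS

/-- Let F be a saturated fusion system over a finite p-group S and E a subsystem of F over a subgroup T that is strongly closed in F. Then E is invariant in F (invariance under Aut_F(T) plus the Frattini condition) if and only if the strong invariance condition holds: for P ≤ Q ≤ T, every map φ of E from P into Q and every map ψ of F with source Q, the transported map ψ φ ψ⁻¹ on ψ(P) is a map of E. -/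
theorem result {Ω : Type*} [Group Ω] {S : Subgroup Ω} [Finite S] (p : ℕ) [Fact p.Prime] (hS : IsPGroup p S) (F : Cfsg.FusionSystem S) (hF : F.IsSaturated p) {T : Subgroup Ω} (E : Cfsg.FusionSystem T) (hE : E.IsSubsystemOf F) (hT : F.StronglyClosed T) : E.IsInvariantIn F ↔ ∀ (P Q : Subgroup Ω) (hPQ : P ≤ Q) (_ : Q ≤ T) (φ : P →* Ω) (_ : φ ∈ E.Hom P) (hφQ : ∀ x : P, φ x ∈ Q) (ψ : Q →* Ω) (_ : ψ ∈ F.Hom Q), ∃ χ ∈ E.Hom ((P.subgroupOf Q).map ψ), ∀ (x : P) (hx : ψ (Subgroup.inclusion hPQ x) ∈ (P.subgroupOf Q).map ψ), χ ⟨ψ (Subgroup.inclusion hPQ x), hx⟩ = ψ ⟨φ x, hφQ x⟩ := by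
  rw [inv_iff]
  constructor
  · intro h P Q hPQ hQ φ hφ hφQ ψ hψ
    obtain ⟨g, h1, h2⟩ := h.sinv P Q _ _ (mor_ext hφ) (mor_ext hψ) hQ hPQ
      fun x hx => by rw [ext_of_mem _ hx]; exact hφQ _
    rw [← map_subgroupOf_eq_im ψ (fun x => (ext_coe ψ x).symm) hPQ] at h1
    refine ⟨_, h1.toHom_mem, fun x hx => ?_⟩
    have := h2 x x.2
    rw [ext_of_mem ψ (hPQ x.2), ext_coe, ext_of_mem ψ (hφQ x)] at this
    exact this
  · intro h
    refine SInv.inv ?_ ⟨hS, hF⟩ hE hT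
    intro P Q f ψ hf hψ hQ hP hfQ
    obtain ⟨χ, h1, h2⟩ := h P Q hP hQ _ hf.toHom_mem (fun x => hfQ x x.2) _ hψ.toHom_mem
    have e := map_subgroupOf_eq_im hψ.homOn.toHom (f := ψ) (fun _ => rfl) hP
    refine ⟨ext χ, by rw [← e]; exact mor_ext h1, fun x hx => ?_⟩
    have hm : ψ x ∈ _ := e.ge (mem_im_of_mem ψ hx)
    rw [ext_of_mem _ hm]
    exact h2 ⟨x, hx⟩ hm

end Cfsg.Agent.S5119
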