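import Cfsg.Statements.S5130
import Cfsg.Agent.FS.Comp2

set_option autoImplicit false
open Cfsg

namespace Cfsg.Agent.S5130

open CfsgH9 CfsgFS

/-- Let F be a saturated fusion system over a finite p-group S that is the direct product of two subgroups S₁ and S₂, each strongly closed in F. Let R be the full subsystem of F over S₁ (all maps of F between subgroups of S₁) and R′ the subsystem over S₁ of those maps that extend to the subgroup generated with S₂ fixing S₂ elementwise. Then R and R′ are saturated, R′ is normal in F and in R, and R is weakly normal in F. -/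
theorem result {Ω : Type*} [Group Ω] {S : Subgroup Ω} [Finite S] (p : ℕ) [Fact p.Prime] (hS : IsPGroup p S) (F : Cfsg.FusionSystem S) (hF : F.IsSaturated p) (S₁ S₂ : Subgroup Ω) (hprod : Cfsg.IsInternalDirectProduct S₁ S₂ S) (h₁ : F.StronglyClosed S₁) (h₂ : F.StronglyClosed S₂) (R R' : Cfsg.FusionSystem S₁) (hR : ∀ P : Subgroup Ω, P ≤ S₁ → R.Hom P = F.Hom P) (hR' : ∀ P : Subgroup Ω, P ≤ S₁ → R'.Hom P = F.centralizerHom S₂ P) : R.IsSaturated p ∧ R'.IsSaturated p ∧ R'.IsNormalIn F p ∧ R'.IsNormalIn R p ∧ R.IsWeaklyNormalIn F p := by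
  obtain ⟨p1, p2, p3, p4, p5⟩ := hprod
  have c : S₂ ≤ Subgroup.centralizer (S₁ : Set Ω) := fun b hb a ha => p3 a ha b hb
  have := finite_of_le p1
  obtain ⟨a, b, d⟩ := direct_factors (p := p) ⟨hS, hF⟩ c p4 p5 h₁ h₂ (R := R) (R' := R')
    (fun P f => ⟨fun k => ⟨(hom_eq_iff.1 (hR P k.le) f).1 k, k.le⟩, fun k => (hom_eq_iff.1 (hR P k.2) f).2 k.1⟩)
    fun P f => ⟨fun k => by
      obtain ⟨-, g, g1, g2, g3⟩ := mem_centralizerHom.1 (hR' P k.le ▸ k.toHom_mem)
      exact ⟨k.le, g, g1, fun x hx => by rw [g2 x hx, ext_of_mem _ hx]; rfl, g3⟩, fun ⟨k, g, g1, g2, g3⟩ => by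
      have m := g1.restrict le_sup_left
      have : m.homOn.toHom ∈ R'.Hom P := (hR' P k).symm ▸ mem_centralizerHom.2
        ⟨fun x hx => ⟨p1 (k hx), cent_swap c (k hx)⟩, g, g1, fun x hx => by rw [ext_of_mem _ hx]; rfl, g3⟩
      exact (mor_ext this).congr fun x hx => by rw [ext_of_mem _ hx]; exact g2 x hx⟩
  exact ⟨a.satE, b.satE, (nrm_iff hS).2 b, (nrm_iff a.sat.pg).2 d, (wnrm_iff hS).2 a⟩

end Cfsg.Agent.S5130
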