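import Cfsg.Statements.S5138
import Cfsg.Agent.FS.Comp2

set_option autoImplicit false
open Cfsg

namespace Cfsg.Agent.S5138

open CfsgH9 CfsgFS

/-- Let F be a saturated fusion system over a finite p-group S and E₁, E₂ normal subsystems over T₁, T₂ with [T₁, T₂] = 1. Then there is a normal subsystem of F over T₁T₂ which, if moreover T₁ ∩ T₂ lies in the centre of E₁ and in the centre of E₂, is a central product of E₁ and E₂ (the factor system of a direct product of E₁ and E₂ modulo a subgroup of its centre meeting both factors trivially). -/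
theorem result {Ω : Type*} [Group Ω] {S : Subgroup Ω} [Finite S] (p : ℕ) [Fact p.Prime] (hS : IsPGroup p S) (F : Cfsg.FusionSystem S) (hF : F.IsSaturated p) {T₁ T₂ : Subgroup Ω} (E₁ : Cfsg.FusionSystem T₁) (E₂ : Cfsg.FusionSystem T₂) (hE₁ : E₁.IsNormalIn F p) (hE₂ : E₂.IsNormalIn F p) (hc : ⁅T₁, T₂⁆ = ⊥) : ∃ D : Cfsg.FusionSystem (T₁ ⊔ T₂), D.IsNormalIn F p ∧ (T₁ ⊓ T₂ ≤ E₁.center → T₁ ⊓ T₂ ≤ E₂.center → Cfsg.FusionSystem.IsCentralProductOf E₁ E₂ D) := by
  have a := (nrm_iff hS).1 hE₁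
  have b := (nrm_iff hS).1 hE₂
  have := finite_of_le a.le
  have := finite_of_le b.le
  have c : T₂ ≤ Subgroup.centralizer (T₁ : Set Ω) := cent_swap (Subgroup.commutator_eq_bot_iff_le_centralizer.1 hc)
  by_cases k : T₁ ⊓ T₂ ≤ E₁.center ∧ T₁ ⊓ T₂ ≤ E₂.center
  · obtain ⟨D, d1, d2⟩ := exists_cp_nrm a b rfl c (cn_of_le k.1) (cn_of_le k.2)
    exact ⟨D, (nrm_iff hS).2 d2, fun _ _ => (cp_iff a.sat b.sat).2 d1⟩
  · obtain ⟨D, d⟩ := exists_nrm_sup a b c
    exact ⟨D, (nrm_iff hS).2 d, fun x y => (k ⟨x, y⟩).elim⟩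

end Cfsg.Agent.S5138
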