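import Cfsg.Statements.S5139
import Cfsg.Agent.FS.Hyp

set_option autoImplicit false
open Cfsg

namespace Cfsg.Agent.S5139

open CfsgH9 CfsgFS

/-- Let G be a finite group with Sylow p-subgroup S and O^p(G) the subgroup generated by the elements of order prime to p. Then the p-residual subsystem of the fusion system of G on S — the saturated subsystem of p-power index over the hyperfocal subgroup — is the fusion system of O^p(G) on S ∩ O^p(G): its maps are exactly the conjugation maps by elements of O^p(G) between subgroups of S ∩ O^p(G). -/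
theorem result {G : Type*} [Group G] [Finite G] (p : ℕ) [Fact p.Prime] (S : Sylow p G) (E : Cfsg.FusionSystem ((Cfsg.groupFusionSystem (S : Subgroup G)).hyperfocalSubgroup p)) (hE : (Cfsg.groupFusionSystem (S : Subgroup G)).IsPResidual p E) : ∃ h : (S : Subgroup G) ⊓ Cfsg.pResidual p G ≤ Cfsg.pResidual p G, ∀ P : Subgroup G, E.Hom P = (Cfsg.fusionSystemOfSubgroup (Cfsg.pResidual p G) ((S : Subgroup G) ⊓ Cfsg.pResidual p G) h).Hom P := by
  refine ⟨inf_le_right, ?_⟩
  have h0 := (isGF_group _).hyp (syl_top S)
  rw [CfsgH2.resIn_top] at h0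
  have h1 : Syl p ((S : Subgroup G) ⊓ pResidual p G) (pResidual p G) :=
    (syl_top S).inf_normal' (Subgroup.normalizer_eq_top _).ge le_top
  have h2 := isGF_sub h1.le
  have h3 := (isGF_group _).ppi (syl_top S) h2 CfsgH2.resIn_top.le le_top inf_le_left
    (by rw [CfsgH2.resIn_top])
  have h4 := ppi_iff.1 hE.2
  exact hom_eq_of_sub (h3.sub_of ⟨S.isPGroup'.to_le hyp_le_S, hE.1⟩ h4.sub h0.le)
    (h4.sub_of (h2.sat h1) h3.sub h0.ge)

end Cfsg.Agent.S5139
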