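import Cfsg.Statements.S5143
import Cfsg.Agent.FS.Cent

set_option autoImplicit false
open Cfsg

namespace Cfsg.Agent.S5143

open CfsgH9 CfsgFS

/-- Let F be a saturated fusion system over a finite p-group S, E a normal subsystem over T, and R a subgroup with T ≤ R ≤ S. Then there is exactly one saturated subsystem D of F over R (exactly one family of map sets) whose p-residual subsystem is that of E: the hyperfocal subgroups of D and E coincide and the p-residual subsystems of D and of E have the same maps. -/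
theorem result {Ω : Type*} [Group Ω] {S : Subgroup Ω} [Finite S] (p : ℕ) [Fact p.Prime] (hS : IsPGroup p S) (F : Cfsg.FusionSystem S) (hF : F.IsSaturated p) {T : Subgroup Ω} (E : Cfsg.FusionSystem T) (hE : E.IsNormalIn F p) (R : Subgroup Ω) (hTR : T ≤ R) (hRS : R ≤ S) : ∃ D : Cfsg.FusionSystem R, (D.IsSaturated p ∧ D.IsSubsystemOf F ∧ D.hyperfocalSubgroup p = E.hyperfocalSubgroup p ∧ ∀ (D₁ : Cfsg.FusionSystem (D.hyperfocalSubgroup p)) (E₁ : Cfsg.FusionSystem (E.hyperfocalSubgroup p)), D.IsPResidual p D₁ → E.IsPResidual p E₁ → ∀ P : Subgroup Ω, D₁.Hom P = E₁.Hom P) ∧ ∀ D' : Cfsg.FusionSystem R, D'.IsSaturated p → D'.IsSubsystemOf F → D'.hyperfocalSubgroup p = E.hyperfocalSubgroup p → (∀ (D₁ : Cfsg.FusionSystem (D'.hyperfocalSubgroup p)) (E₁ : Cfsg.FusionSystem (E.hyperfocalSubgroup p)), D'.IsPResidual p D₁ → E.IsPResidual p E₁ → ∀ P : Subgroup Ω, D₁.Hom P = E₁.Hom P) → ∀ P : Subgroup Ω, D'.Hom P = D.Hom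 P := by
  have h := (nrm_iff hS).1 hE
  have := finite_of_le h.le
  have := finite_of_le hRS
  have := finite_of_le (hyp_le_S (F := E) (p := p))
  obtain ⟨E₀, e1, e2⟩ := Sat.exists_ppi hyp_le_S h.sat le_rfl
  have n := h.res e1 e2
  obtain ⟨D₀, hD⟩ := exists_ges F E₀ p
  have pp := hD.ppi n.toWNrm
  have lR := hyp_le_S.trans hTR (a := E.hyperfocalSubgroup p)
  obtain ⟨D, d1, d2⟩ := Sat.exists_ppi hRS (hD.sat n) (pp.hyp.trans lR)
  have l := d2.sub_of e1 pp.sub lR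
  have p2 := pp.of_sub l d2.sub
  have eh : D.hyperfocalSubgroup p = E.hyperfocalSubgroup p := (p2.hyp_eq d1).symm.trans (e2.hyp_eq h.sat)
  refine ⟨D, ⟨d1.sat, sub_trans d2.sub hD.sub, eh, fun D₁ E₁ a b P => ?_⟩, fun D' a b c d => ?_⟩
  · have := finite_of_le (hyp_le_S (F := D) (p := p))
    rw [(ppi_iff.1 a.2).hom_eq p2 ⟨d1.pg.to_le hyp_le_S, a.1⟩ e1 eh P,
      (ppi_iff.1 b.2).hom_eq e2 ⟨e1.pg, b.1⟩ e1 rfl P]
  have s : Sat D' p := ⟨d1.pg, a⟩
  obtain ⟨D₁, f1, f2⟩ := Sat.exists_ppi hyp_le_S s le_rfl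
  have q := d D₁ E₀ ⟨f1.sat, ppi_iff.2 f2⟩ ⟨e1.sat, ppi_iff.2 e2⟩
  have q1 := sub_of_hom_eq q
  have q2 := sub_of_hom_eq fun P => (q P).symm
  have p3 : PPI E₀ D' p := ⟨sub_trans q2 f2.sub, c.le, fun P hP α a1 a2 =>
    autGroup_eq_of_sub q1 q2 P ▸ f2.aut P (hP.trans c.ge) α a1 a2⟩
  have nn := hRS.trans (SC.norm n.sc)
  have l2 := d2.sub_of s (hD.le_of n.toInv s b (p3.nrm s e1 nn) p3) le_rfl
  exact hom_eq_of_sub l2 (ppi_eq_of_le d1 s l2 p2 p3.sub e1 nn)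

end Cfsg.Agent.S5143
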