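import Cfsg.Statements.S5147
import Cfsg.Agent.FS.ModN

set_option autoImplicit false
open Cfsg

namespace Cfsg.Agent.S5147

open CfsgH9 CfsgFS

/-- Let G be a finite group with Sylow 2-subgroup S whose 2-fusion system on S is constrained, and L a component of G (a subnormal quasisimple subgroup). Then the 2-fusion system of L/Z(L) on the image of S ∩ L is constrained. -/
theorem result {G : Type*} [Group G] [Finite G] (S : Sylow 2 G) (hF : (Cfsg.groupFusionSystem (S : Subgroup G)).IsConstrained 2) (L : Subgroup G) (hL : Cfsg.IsComponent L) : (Cfsg.groupFusionSystem (((S : Subgroup G).subgroupOf L).map (QuotientGroup.mk' (Subgroup.center L)))).IsConstrained 2 := by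
  obtain ⟨k1, k2⟩ := gf_subnormal' (isGF_group _) (syl_top S) hF hL.1
  have h := homOn_hom (QuotientGroup.mk' (Subgroup.center L)) ⊤
  refine (IsGF.fsurj (isGF_group _) (isGF_group _) k1 h (by
    rw [im_hom, ← MonoidHom.range_eq_map, MonoidHom.range_eq_top.2 (QuotientGroup.mk'_surjective _)])
    (im_hom _ _)).constrained k1.pg k2 ((isGF_group _).cn pre_le fun g _ x hx => ?_)
  exact (Subgroup.mem_center_iff.1 ((QuotientGroup.eq_one_iff x).1 ((mem_ker (h.mono le_top)).1 hx).2) g).symm

end Cfsg.Agent.S5147
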