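import Cfsg.Statements.S5156
import Cfsg.Agent.FS.Comp3

set_option autoImplicit false
universe u
open Cfsg

namespace Cfsg.Agent.S5156

open CfsgH9 CfsgFS

/-- A saturated fusion system over a finite p-group has a terminating alternating chain of p'-residual and p-residual subsystems (the chain reaches the trivial system — the notion of solvability adapted to fusion systems of p-solvable groups) if and only if it is constrained and its models are p-solvable (a model is a finite group realizing the system on a Sylow p-subgroup with self-centralizing largest normal p-subgroup; it exists and is unique up to isomorphism for constrained systems). -/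
theorem result {Ω : Type u} [Group Ω] {S : Subgroup Ω} [Finite S] (p : ℕ) [Fact p.Prime] (hS : IsPGroup p S) (F : Cfsg.FusionSystem S) (hF : F.IsSaturated p) : F.HasTerminatingResidualSeries p ↔ (F.IsConstrained p ∧ ∀ (G : Type u) [Group G] (ι : S →* G), F.IsModel p G ι → Cfsg.IsPSolvable p G) := by
  have h : Sat F p := ⟨hS, hF⟩
  constructor
  · intro k
    obtain ⟨a, b⟩ := term_spec k h
    exact ⟨h.constrained_iff.2 fun ⟨V, C, s, q⟩ => a V C s q, fun G _ ι m => (model_iff.1 m).psolv_iff.2 (b _ core_le)⟩
  · rintro ⟨a, b⟩
    obtain ⟨G, _, θ, m⟩ := exists_model h (nm_core F) (core_centric a)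
    exact term_of h a (m.psolv_iff.1 (b G _ m.model))

end Cfsg.Agent.S5156
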