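import Cfsg.Statements.S5159
import Cfsg.Agent.FS.Misc

set_option autoImplicit false
open Cfsg

namespace Cfsg.Agent.S5159

open CfsgH9 CfsgFS

/-- Let F be a saturated fusion system over a finite p-group S, E a normal subsystem over T, and D the factor system of F modulo T (read through any homomorphism on S with kernel T). Then F is solvable if and only if E and D are solvable (solvable, for a system over a subgroup S: for every subgroup R other than S that is strongly closed in F, the factor system of F modulo R has a nontrivial subgroup normal in it). -/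
theorem result {Ω : Type*} [Group Ω] {S : Subgroup Ω} [Finite S] (p : ℕ) [Fact p.Prime] (hS : IsPGroup p S) (F : Cfsg.FusionSystem S) (hF : F.IsSaturated p) {T : Subgroup Ω} (E : Cfsg.FusionSystem T) (hE : E.IsNormalIn F p) {Ω' : Type*} [Group Ω'] {S' : Subgroup Ω'} (θ : S →* Ω') (D : Cfsg.FusionSystem S') (hD : F.IsFactorSystem T θ D) : F.IsSolvableSystem ↔ (E.IsSolvableSystem ∧ D.IsSolvableSystem) := by
  have k := (nrm_iff hS).1 hE
  obtain ⟨k1, k2⟩ := factor_fsurj hD k.satF k.sc
  have := k1.fin
  have := finite_of_le k.le
  rw [k.satF.solv_iff, k.sat.solv_iff, (k1.sat k.satF).solv_iff]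
  refine ⟨fun h => ⟨?_, k1.surj ▸ h.im k1⟩, fun h => by
    have := h.2.pre k1.toFHom (k2.symm ▸ k.ch h.1)
    rwa [k1.pre_top] at this⟩
  have := h.inf k.sub
  rwa [inf_eq_right.2 k.le] at this

end Cfsg.Agent.S5159
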