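import Cfsg.Statements.S5160
import Cfsg.Agent.FS.PP

set_option autoImplicit false
open Cfsg

namespace Cfsg.Agent.S5160

open CfsgH9 CfsgFS

/-- Let G be a finite group with nontrivial Sylow p-subgroup S and F its fusion system on S. Suppose (a) no nontrivial proper subgroup of S is strongly closed in F, and (b) the automorphisms of S induced by G are generated by those induced, for R running over the fully normalized radical centric subgroups of F, by the subgroup of N_G(R) generated by its elements of p-power order. Then F is simple. -/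
theorem result {G : Type*} [Group G] [Finite G] (p : ℕ) [Fact p.Prime] (S : Sylow p G) (hS1 : (S : Subgroup G) ≠ ⊥) (ha : ∀ T : Subgroup G, (Cfsg.groupFusionSystem (S : Subgroup G)).StronglyClosed T → T = ⊥ ∨ T = (S : Subgroup G)) (hb : Cfsg.autInducedBy ⊤ (S : Subgroup G) = ⨆ (R : Subgroup G) (_ : (Cfsg.groupFusionSystem (S : Subgroup G)).IsFullyNormalized R ∧ (Cfsg.groupFusionSystem (S : Subgroup G)).IsRadical p R ∧ (Cfsg.groupFusionSystem (S : Subgroup G)).IsCentric R), Cfsg.autInducedBy (Subgroup.closure {g : G | g ∈ Subgroup.normalizer (R : Set G) ∧ ∃ k : ℕ, orderOf g = p ^ k}) (S : Subgroup G)) : (Cfsg.groupFusionSystem (S : Subgroup G)).IsSimple p := by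
  have g := isGF_group (S : Subgroup G)
  have k : Sat _ p := g.sat (syl_top S)
  refine (simple_iff S.2).2 (simple_of k hS1 ha fun E hE => ?_)
  rw [g.autGroup le_rfl, hb]
  refine iSup_le fun R => iSup_le fun hR α hα => ?_
  obtain ⟨a, a1, a2, rfl⟩ := mem_autInducedBy'.1 hα
  have l := hR.1.1
  have : a ∈ Subgroup.normalizer (R : Set G) ∧ cj R a ∈ E.autGroup R := by
    clear hα a2
    induction a1 using Subgroup.closure_induction with
    | mem x hx => exact ⟨hx.1, hE.ppr.aut R l _ ((g.autGroup l).symm ▸ cj_mem_autInducedBy (Subgroup.mem_top x))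
        ((pel_iff.2 hx.2).imp fun k hk => by rw [← cj_pow hx.1, hk, cj_one])⟩
    | one => exact ⟨Subgroup.one_mem _, by rw [cj_one]; exact Subgroup.one_mem _⟩
    | mul x y _ _ hx hy => exact ⟨mmul hx.1 hy.1, cj_mul hx.1 hy.1 ▸ mmul hx.2 hy.2⟩
    | inv x _ hx => exact ⟨minv hx.1, cj_inv hx.1 ▸ minv hx.2⟩
  exact (k.mor_of_centric hE.sat (le_iff_sub.2 hE.sub) ((mem_autGroup le_rfl).1
    ((g.autGroup le_rfl).symm ▸ cj_mem_autInducedBy (Subgroup.mem_top a))) l hR.2.2
    (((mem_autGroup l).1 this.2).congr fun x hx => by rw [ap_cj this.1 hx, ap_cj a2 (l hx)])).mem_autGroup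

end Cfsg.Agent.S5160
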