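import Cfsg.Statements.S5164
import Mathlib
import Cfsg.Agent.H8.Alt4

set_option autoImplicit false
open Cfsg

namespace Cfsg.Agent.S5164

open CfsgH8 CfsgH9 Subgroup Equiv Equiv.Perm

/-- For n ≥ 6 and a prime p, a nontrivial Sylow p-subgroup of the alternating group of degree n is abelian if and only if n < p². -/
theorem result (n p : ℕ) (hn : 6 ≤ n) [Fact p.Prime] (S : Sylow p (alternatingGroup (Fin n))) (hS : (S : Subgroup (alternatingGroup (Fin n))) ≠ ⊥) : IsMulCommutative S ↔ n < p ^ 2 := by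
  have hp : p.Prime := Fact.out
  have : NeZero p := ⟨hp.ne_zero⟩
  obtain ⟨φ⟩ := exists_frame p (Fin n)
  have h := frame_lt p (Fin n)
  constructor
  · intro hc
    by_contra hl
    have hpk : p ≤ Fintype.card (Fin n) / p := (Nat.le_div_iff_mul_le hp.pos).2 (by
      rw [← sq, Fintype.card_fin]; omega)
    have h3 : 3 ≤ Fintype.card (Fin (Fintype.card (Fin n) / p)) := by
      rw [Fintype.card_fin]
      by_cases h2 : p = 2
      · subst h2; rw [Fintype.card_fin]; omega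
      · have := hp.two_le; omega
    obtain ⟨ψ⟩ : Nonempty (ZMod p ↪ Fin (Fintype.card (Fin n) / p)) :=
      Function.Embedding.nonempty_of_card_le (by rwa [ZMod.card, Fintype.card_fin])
    obtain ⟨Q, hQ, hτ⟩ := exists_syl_shift ψ
    obtain ⟨a, -, ha⟩ := (syl_top S).conj (syl_hat (φ := φ) h hQ).pg le_top
    have ne : ψ 1 ≠ ψ 0 := by simp
    obtain ⟨f, f1, f0, f2⟩ := exists_even (p := p) h3 ne 1
    have s : sign (wdl p (viaEmbeddingHom ψ (Equiv.addRight 1))) = 1 := sign_wdl_p (k := 1) (by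
      rw [pow_one, ← map_pow, addRight_pow]; simp [addRight_zero'])
    have m1 := ha _ (wev_mem_hat f2 (wtr_mem Q f))
    have m2 := ha _ (wev_mem_hat s (wdl_mem (hτ 1)))
    have c := congrArg Subtype.val (hc.is_comm.comm ⟨_, m1⟩ ⟨_, m2⟩)
    have c' : wev φ _ f2 * wev φ _ s = wev φ _ s * wev φ _ f2 := by
      simp only [MulMemClass.mk_mul_mk] at c
      calc _ = a⁻¹ * (a * wev φ _ f2 * a⁻¹ * (a * wev φ _ s * a⁻¹)) * a := by group
        _ = _ := by rw [c]; group
    have := congrArg (fun x : alternatingGroup (Fin n) => x.1 (φ (ψ 0, 0))) c'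
    simp [wev, via_apply, f1, f0] at this
  · intro hl
    have hk : Fintype.card (Fin n) / p < p := (Nat.div_lt_iff_lt_mul hp.pos).2 (by rwa [← sq, Fintype.card_fin])
    have hQ : Syl p (⊥ : Subgroup (Perm (Fin (Fintype.card (Fin n) / p)))) ⊤ := ⟨bot_le, IsPGroup.of_bot, by
      rw [relIndex_bot_left, card_top, Nat.card_perm, Nat.card_eq_fintype_card, Fintype.card_fin,
        hp.dvd_factorial]; omega⟩
    obtain ⟨a, -, ha⟩ := (syl_hat (φ := φ) h hQ).conj S.2 le_top
    refine ⟨⟨fun x y => Subtype.ext ?_⟩⟩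
    obtain ⟨_, hx, e1⟩ := mem_hat.1 (ha _ x.2)
    obtain ⟨_, hy, e2⟩ := mem_hat.1 (ha _ y.2)
    obtain ⟨f, rfl⟩ := mem_Wr_bot.1 hx
    obtain ⟨g, rfl⟩ := mem_Wr_bot.1 hy
    have : (a * x * a⁻¹) * (a * y * a⁻¹) = (a * y * a⁻¹) * (a * x * a⁻¹) := Subtype.ext (by
      rw [Subgroup.coe_mul (alternatingGroup _) (a * x.1 * a⁻¹), Subgroup.coe_mul (alternatingGroup _) (a * y.1 * a⁻¹),
        ← e1, ← e2, ← map_mul, wtr_comm, map_mul])
    show x.1 * y.1 = y.1 * x.1
    calc _ = a⁻¹ * ((a * x * a⁻¹) * (a * y * a⁻¹)) * a := by group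
      _ = _ := by rw [this]; group

end Cfsg.Agent.S5164
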