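import Cfsg.Statements.S5166
import Cfsg.Agent.H7.Fus

set_option autoImplicit false
open Cfsg

namespace Cfsg.Agent.S5166

open CfsgH7 MulAction
open scoped Pointwise symmDiff
set_option maxRecDepth 100000

def L : List (ℕ × List (ℕ × ℕ)) :=
  [(1, [(0x53af478ac45c6099d4283c8ad19980, 0xac554599cd9d8817dd88388b01c920)]),
   (3, [(0x3da8e98aeca94c98ac6d549f022020, 0x8d9f5999642d11051d82bb5c34c820)]),
   (2, [(0xb5df32a144ad04c3ae468a5cd1c020, 0xb5deea24e2a948c544d25a2701b420)]),
   (9, [(0x2bd47b11c65c5929d209aa2ed18820, 0x2ccea5b1c9b448d7d506a42f218820), (0x89df3ac2eda150655992591c918820, 0x8aa6fa22f2a96093ac8db31c618820)])]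
def LS : List (ℕ × List (ℕ × ℕ)) :=
  [(1, [(0x72df1532902ce48b5c2da98e448c40, 0x52cf173690add12b4c6c299e410520)]),
   (2, [(0x3d8b47a5709b98d8aa42b92a61a020, 0x3d8b47a5709b98d8aa42b92a61a020)])]

/-- The 2-fusion system of the Mathieu group M₁₁ (as the explicit permutation group carved out of the automorphism group of the binary Golay code) on a Sylow 2-subgroup is simple: saturated, over a nontrivial 2-group, with no normal subsystem other than the trivial one and itself. -/
theorem result (S : Sylow 2 Cfsg.Spor.M11) : (Cfsg.groupFusionSystem (S : Subgroup Cfsg.Spor.M11)).IsSimple 2 := by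
  have h := pM11.refull L (by decide +kernel)
  have := h.finite_top
  exact h.fus_simple (h.sub_chain LS (2 ^ 4) (by decide +kernel)).2 (by norm_num) (Act.prunes_all _)
    (z := 0x9d8b4ba2303a98d5b85279aa40a460) (P := []) (j := 4)
    (Rs := [([], 1, [(0x9d8ee7a2838d486515a2586f093120, 0x9d8b4ba2303a98d5b85279aa40a460), (0xbacaf998e8ad0498d864541d26b020, 0x9d8b4ba2303a98d5b85279aa40a460)]),
   ([(2, 2)], 4, [(0x546b4735669bc49b1d0cb90b01c820, 0x3d1d678970b94618d64999944621a0)])]) (by decide +kernel) S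

end Cfsg.Agent.S5166
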