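import Cfsg.Statements.S5167
import Cfsg.Agent.H7.Fus

set_option autoImplicit false
open Cfsg

namespace Cfsg.Agent.S5167

open CfsgH7 MulAction
open scoped Pointwise symmDiff
set_option maxRecDepth 100000

def L : List (ℕ × List (ℕ × ℕ)) :=
  [(1, [(0xa5e2b508e12d9239d40c741ed34888, 0xb395758aa629c88a4da088de164a09)]),
   (9, [(0x9aa2f5a2f23ba0cad040b24a33102d, 0x89d6abc2ada380c9d8d278ca222428)]),
   (2, [(0x7dcb65b1c6a444d3cd28502a484823, 0xb50af509c3bc59299d285c2a403426)]),
   (6, [(0xbadd1990e8b29837d526a40a068832, 0xbbd47982865d46db39308a0b260824)]),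
   (5, [(0x5dcf5791c09c64d2d12351acc80828, 0xb168a7b5c39c584b9d20a997240830), (0xa9cb670de48ce00a5d2d5994860832, 0x552eb701ed8cd0339524b1ab09082c)])]
def LS : List (ℕ × List (ℕ × ℕ)) :=
  [(0, [(0x75ab338682b94095aa468c1e32218d, 0x7dab1a24e62dc015a9829a1c32424d)]),
   (1, [(0x8d6cfb98a93d1a252d01732641ca00, 0x9d6ce28ae1a1da652e097ca241b100)]),
   (2, [(0x3aea59c23273c88b292cb8a8d19820, 0x3aea59c23273c88b292cb8a8d19820)])]

/-- The 2-fusion system of the Mathieu group M₁₂ (as the explicit permutation group carved out of the automorphism group of the binary Golay code) on a Sylow 2-subgroup is simple: saturated, over a nontrivial 2-group, with no normal subsystem other than the trivial one and itself. -/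
theorem result (S : Sylow 2 Cfsg.Spor.M12) : (Cfsg.groupFusionSystem (S : Subgroup Cfsg.Spor.M12)).IsSimple 2 := by
  have h := pM12.refull L (by decide +kernel)
  have := h.finite_top
  exact h.fus_simple (h.sub_chain LS (2 ^ 6) (by decide +kernel)).2 (by norm_num) (Act.prunes_all _)
    (z := 0x2daa78b26873db25a830a0ae419920) (P := [(0, 3), (1, 6), (1, 1), (8, 3), (5, 5), (10, 1), (9, 6), (1, 1), (0, 6)]) (j := 15)
    (Rs := [([], 1, [(0xa2eea736329bd04b144caa4f001823, 0x2daa78b26873db25a830a0ae419920), (0xa9cb670de48ce00a5d2d5994860832, 0x2daa78b26873db25a830a0ae419920), (0x2d1d5589438cd2679e4db12e880181, 0x2daa78b26873db25a830a0ae419920), (0xa39f1bc0e0554925d9239b0a26a026, 0x2daa78b26873db25a830a0ae419920)]),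
   ([(0, 3), (1, 6), (1, 1), (4, 7), (0, 2)], 10, [(0x55235bb6633bc8cb2c412a1c684920, 0xa56d7741f28cc0852ccc2a4e32044d)])]) (by decide +kernel) S

end Cfsg.Agent.S5167
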