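import Cfsg.Statements.S5168
import Cfsg.Agent.H7.Fus

set_option autoImplicit false
open Cfsg

namespace Cfsg.Agent.S5168

open CfsgH7 MulAction
open scoped Pointwise symmDiff
set_option maxRecDepth 100000

def L : List (ℕ × List (ℕ × ℕ)) :=
  [(1, [(0xba187592464ced01baaaa14226c5e0, 0xbb5277444c0a8759a1f6a40d2590a0)]),
   (17, [(0xbd9a74aa8c121e491a6e2ae2385420, 0xbd8514aca36a2b034a6ea28ec23c20)]),
   (2, [(0xb8cc9ac22443e8a2bacc11e4b6cc20, 0xba66d11632728682328f35570b1c20)]),
   (9, [(0xbb4c93ae2453ac893e8c9d4b018820, 0xbb4c93ae2453ac893e8c9d4b018820), (0xb914b7ce36915b5331074d07070820, 0xbc18693e2498daaa54e942dd628820)]),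
   (3, [(0xbcaca8562ba0d069bd27691cc28820, 0xbd64f5da33514e48512d4306670820)])]
def LS : List (ℕ × List (ℕ × ℕ)) :=
  [(1, [(0xbd9047352335251615753c0337a840, 0xbd90e235861ce4b48a353bd54804a0)]),
   (2, [(0xbc91051e34592c29bdd568d2561820, 0xbb5105da34524e37ccb59088e33020), (0xbb6b451e3059ac57cc689398249020, 0xbb6b451e3059ac57cc689398249020)])]

/-- The 2-fusion system of the Mathieu group M₂₂ (as the explicit permutation group carved out of the automorphism group of the binary Golay code) on a Sylow 2-subgroup is simple: saturated, over a nontrivial 2-group, with no normal subsystem other than the trivial one and itself. -/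
theorem result (S : Sylow 2 Cfsg.Spor.M22) : (Cfsg.groupFusionSystem (S : Subgroup Cfsg.Spor.M22)).IsSimple 2 := by
  have h := pM22.refull L (by decide +kernel)
  have := h.finite_top
  exact h.fus_simple (h.sub_chain LS (2 ^ 7) (by decide +kernel)).2 (by norm_num) (Act.prunes_all _)
    (z := 0xbdab07c834999a552c483b98322620) (P := [(2, 4), (5, 3), (0, 2), (8, 3)]) (j := 10)
    (Rs := [([], 1, [(0xbd90a81c664924e63c4dac5659d020, 0xbdab07c834999a552c483b98322620), (0xbc9051d9e4626ab8ce0769a8e12820, 0xbdab07c834999a552c483b98322620), (0xba6535b9f1854c7a28ad122c41b020, 0xbdab07c834999a552c483b98322620), (0xbd2a5244ce4a83318ac882ded91d80, 0xbdab07c834999a552c483b98322620), (0xbd42e651e62922d54cf040ac34c960, 0xbdab07c834999a552c483b98322620)])]) (by decide +kernel) S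

end Cfsg.Agent.S5168
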