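import Cfsg.Statements.S5169
import Cfsg.Agent.H7.Fus

set_option autoImplicit false
open Cfsg

namespace Cfsg.Agent.S5169

open CfsgH7 MulAction
open scoped Pointwise symmDiff
set_option maxRecDepth 100000

def L : List (ℕ × List (ℕ × ℕ)) :=
  [(0, [(0xbbd47734942827590d70159288b026, 0xb99906ac68b4e424d4a4a01f151c2e)]),
   (11, [(0xb96903bd4d339964a26b88aa309240, 0xbb0b5484f493a0d4456a9bec221860)]),
   (1, [(0xbd90598824ac0cd5aa8f8b12e90ce0, 0xbd9e998cee411865a8b50b69014a20)]),
   (16, [(0xbb8b2610d689d235bdb482aa814c20, 0xbc0a8151e755933599a4746b260c20)]),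
   (2, [(0xba923220f07b8a25dab2899b3a3020, 0xba923220f07b8a25dab2899b3a3020), (0xbce47b54707b98d59109a184a89420, 0xbce47b54707b98d59109a184a89420)]),
   (20, [(0xbb4678b13033c885d6722ba9650820, 0xb91454a27071ad258e2ca3ceda8820)])]
def LS : List (ℕ × List (ℕ × ℕ)) :=
  [(0, [(0xbca6aad9637ba0161e85498820222d, 0xbca69ad82d7b80b8d0e25190581183)]),
   (1, [(0xb9aa39b8497c98d5aa082d8e1a4480, 0xb9aa39b8497c98d5aa082d8e1a4480)]),
   (2, [(0xbca65ad9907b8715a08a11a8969c20, 0xbca65ad9907b8715a08a11a8969c20)])]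

/-- The 2-fusion system of the Mathieu group M₂₃ (as the explicit permutation group carved out of the automorphism group of the binary Golay code) on a Sylow 2-subgroup is simple: saturated, over a nontrivial 2-group, with no normal subsystem other than the trivial one and itself. -/
theorem result (S : Sylow 2 Cfsg.Spor.M23) : (Cfsg.groupFusionSystem (S : Subgroup Cfsg.Spor.M23)).IsSimple 2 := by
  have h := pM23.refull L (by decide +kernel)
  have := h.finite_top
  exact h.fus_simple (h.sub_chain LS (2 ^ 7) (by decide +kernel)).2 (by norm_num) (Act.prunes_all _)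
    (z := 0xbdaa29c8617b98d0208a298e98d20b) (P := [(4, 1), (0, 4), (4, 7), (7, 1)]) (j := 9)
    (Rs := [([], 1, [(0xbceab242d40bda75498e1a62532040, 0xbdaa29c8617b98d0208a298e98d20b), (0xb8dd37b245335448044b4c514b54e0, 0xbdaa29c8617b98d0208a298e98d20b), (0xbd6725a8b103c81b352c1a2903b846, 0xbdaa29c8617b98d0208a298e98d20b), (0xbd9cca9a817c8858a5071cd62541a0, 0xbdaa29c8617b98d0208a298e98d20b)])]) (by decide +kernel) S

end Cfsg.Agent.S5169
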