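import Cfsg.Statements.S5170
import Cfsg.Agent.H7.Fus

set_option autoImplicit false
open Cfsg

namespace Cfsg.Agent.S5170

open CfsgH7 MulAction
open scoped Pointwise symmDiff
set_option maxRecDepth 100000

def L : List (ℕ × List (ℕ × ℕ)) :=
  [(1, [(0x68292405c35bcc42c6f09d95511d89, 0x498953d148746e1794131356c80e56)]),
   (7, [(0x4a22e2ce4b10c8d355947daea3c020, 0x29948946a23d189812f61ae6d73c20)]),
   (2, [(0x9dca893149146b670c0d39a845c02f, 0xb31a5bcdc202d121c61439aa453c29)]),
   (15, [(0x9d6405a9eda3a044599738d2530831, 0x42acfbd40d8ba099c8ab38c8c30834)]),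
   (3, [(0xaadcc898a37a2e924e4d3d010b082a, 0x68ee6526647d514b018e3ca2b80825)]),
   (21, [(0xba13671a0c7a8116ccb4392b21882b, 0xbd0a8511917cd7003ab63c9261882d)]),
   (4, [(0x5ceb2b510a79006bc1313b0ae1882d, 0x5ceb2b510a79006bc1313b0ae1882d), (0x83aad201977da9152d263a0b318832, 0x83aad201977da9152d263a0b318832), (0x452b694d667b5ca8b1373c0a018824, 0x452b694d667b5ca8b1373c0a018824), (0x32aa341d27c5766d1243cca818837, 0x32aa341d27c5766d1243cca818837)])]
def LS : List (ℕ × List (ℕ × ℕ)) :=
  [(0, [(0x1aa046aea57a269b4ae03ba3460826, 0x4ae246a8b579a639598e38214b8828)]),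
   (1, [(0x7da63ac841bb8a75a888619a9a4600, 0x7da63ac841bb8a75a888619a9a4600)]),
   (3, [(0x8d9246caec7ba7052ea63a07428820, 0x8d9246caec7ba7052ea63a07428820), (0x2baed2493515a635198b3a2148bc20, 0xaba046c86515a8942e263aaf363c20)])]

/-- The 2-fusion system of the Mathieu group M₂₄ (as the explicit permutation group of the 24 points preserving the binary Golay code) on a Sylow 2-subgroup is simple: saturated, over a nontrivial 2-group, with no normal subsystem other than the trivial one and itself. -/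
theorem result (S : Sylow 2 Cfsg.M24) : (Cfsg.groupFusionSystem (S : Subgroup Cfsg.M24)).IsSimple 2 := by
  have h := packM.refull L (by decide +kernel)
  have := h.finite_top
  exact h.fus_simple (h.sub_chain LS (2 ^ 10) (by decide +kernel)).2 (by norm_num) (Act.prunes_all _)
    (z := 0x8d873a4aec138905a8a80992dabce0) (P := [(0, 5), (6, 8), (1, 4), (0, 2), (10, 9), (10, 6), (0, 2), (6, 1), (13, 12), (12, 1), (6, 3), (1, 1), (13, 16), (3, 1), (4, 14), (1, 1), (8, 13), (1, 1), (3, 11)]) (j := 26)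
    (Rs := [([], 1, [(0x83886582ec1c91109e8fa8a6a6a4b6, 0x8d873a4aec138905a8a80992dabce0), (0x1c56715aa825e6a848a07b12d3502e, 0x8d873a4aec138905a8a80992dabce0), (0xa99e4658516a8f393a802a2e91c02b, 0x8d873a4aec138905a8a80992dabce0), (0x2012a5ca747d90d8c0ac3dea61882e, 0x8d873a4aec138905a8a80992dabce0), (0x38de89468eb5dabab0099954221830, 0x8d873a4aec138905a8a80992dabce0), (0xb2987a5dc3221f5914c99816d80831, 0x8d873a4aec138905a8a80992dabce0)])]) (by decide +kernel) S

end Cfsg.Agent.S5170
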