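import Cfsg.Statements.S5191
import Cfsg.Agent.FS.Mor

set_option autoImplicit false
open Cfsg

namespace Cfsg.Agent.S5191

open CfsgH9 CfsgFS

/-- Fusion in a finite group G and in its quotient by O_{p'}(G) agree. Let S be a Sylow p-subgroup of G, N = O_{p'}(G) and P ≤ S. If an element of G/N conjugates the image of P into the image of S, then some element g of G conjugates P into S and induces the same map on P modulo N. (Together with the injectivity of S → G/N this says that g ↦ gN induces an isomorphism of the fusion system of G on S with that of G/N on SN/N.) -/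
theorem result {G : Type*} [Group G] [Finite G] {p : ℕ} [Fact p.Prime]
    [hN : (Cfsg.pPrimeCore p G).Normal] (S : Sylow p G) (P : Subgroup G) (hP : P ≤ (S : Subgroup G))
    (γ : G ⧸ Cfsg.pPrimeCore p G)
    (hγ : ∀ x ∈ P, γ * QuotientGroup.mk x * γ⁻¹ ∈ ((S : Subgroup G).map (QuotientGroup.mk' (Cfsg.pPrimeCore p G)))) :
    ∃ g : G, ∀ x ∈ P, g * x * g⁻¹ ∈ S ∧
      (QuotientGroup.mk (g * x * g⁻¹) : G ⧸ Cfsg.pPrimeCore p G) = γ * QuotientGroup.mk x * γ⁻¹ := by
  have h := (isGF_group (S : Subgroup G)).fsurj (isGF_group _) (syl_top S) (homOn_hom (QuotientGroup.mk' (pPrimeCore p G)) ⊤)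
    (by rw [im_hom, Subgroup.map_top_of_surjective _ (QuotientGroup.mk'_surjective _)]) (im_hom _ _)
  obtain ⟨f, h1, h2⟩ := h.lift _ _ ((isGF_group _).mor (P := P.map (QuotientGroup.mk' _)) (Subgroup.mem_top γ)
    (Subgroup.map_mono hP) (by rintro _ ⟨x, hx, rfl⟩; exact hγ x hx))
  obtain ⟨g, -, e⟩ := (isGF_group _).elim h1
  refine ⟨g, fun x hx => ?_⟩
  have hx' := mem_pre_of (θ := QuotientGroup.mk' (pPrimeCore p G)) (P' := P.map (QuotientGroup.mk' _)) (hP hx) ⟨x, hx, rfl⟩
  rw [← e x hx']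
  exact ⟨h1.mem hx', (h2 x hx').symm⟩

end Cfsg.Agent.S5191
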