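import Cfsg.Statements.S5193
import Cfsg.Agent.FS.Loc3

set_option autoImplicit false
open Cfsg

namespace Cfsg.Agent.S5193

open CfsgH9 CfsgFS

/-- Glauberman's Theorem for fusion systems. Let F be a saturated fusion system over a finite p-group S, let J(S) be the subgroup generated by the abelian subgroups of S of largest order, and let N be the normalizer fusion system of J(S) in F (a fusion system over N_S(J(S)) = S). Then every p-th power of an element of Z(S) that lies in the centre of N lies in the centre of F; and if p is odd, or if the symmetric group of degree 4 is not involved in any model of the normalizer system of a fully normalized F-centric subgroup (F is S₄-free), then the centre of N equals the centre of F. -/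
theorem result {Ω : Type*} [Group Ω] {S : Subgroup Ω} [Finite S] (p : ℕ) [Fact p.Prime] (hS : IsPGroup p S) (F : Cfsg.FusionSystem S) (hF : F.IsSaturated p) (N : Cfsg.FusionSystem (Cfsg.FusionSystem.normalizerIn S (Cfsg.thompsonSubgroupAOf S))) (hN : F.IsNormalizerSystem (Cfsg.thompsonSubgroupAOf S) N) : Subgroup.closure ((fun z : Ω => z ^ p) '' ((S ⊓ Subgroup.centralizer (S : Set Ω) : Subgroup Ω) : Set Ω)) ⊓ N.center ≤ F.center ∧ (p ≠ 2 ∨ F.IsSectionFree p (Equiv.Perm (Fin 4)) → N.center = F.center) := by
  have h : Sat F p := ⟨hS, hF⟩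
  revert N
  rw [thompsonAOf_eq]
  intro N hN
  obtain ⟨h1, h2, -, h3, -⟩ := ns_data h hN J_le (Subgroup.le_normalizer.trans (normalizer_le_normalizer_J S))
  exact ⟨fun x hx => center_quad (wf_J (dvd_zero p)) (fun _ _ _ => zc_le_J) (fun G _ _ P k =>
    exists_quadratic_J (CfsgH2.IsSylowIn.of_sylow_top P) k) h hx.1 (h3 x hx.2 (zc_le_J (h2 hx.2))),
    fun hp => le_antisymm (fun x hx => h.center_J (free_S4 hp) (h2 hx) (h3 x hx (zc_le_J (h2 hx)))) h1⟩

end Cfsg.Agent.S5193
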