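import Cfsg.Statements.S5196
import Cfsg.Agent.FS.Loc3

set_option autoImplicit false
universe u
open Cfsg

namespace Cfsg.Agent.S5196

open CfsgH9 CfsgFS

/-- Let p be an odd prime and W a positive characteristic p-functor: W assigns to every finite p-group Q (in a fixed universe) a subgroup W(Q), nontrivial when Q is, carried to W(R) by every isomorphism Q ≅ R; assume also Z(Q) ≤ W(Q) for every finite p-group Q. Suppose W satisfies the local condition: for every finite group G with Sylow p-subgroup P, O_p(G) ∩ Z(G) = O_p(G) ∩ Z(N_G(W(P))). Then W controls weak closure of elements in every saturated fusion system F over a finite p-group S: the centre of the normalizer fusion system of W(S) in F equals the centre of F. (For p = 2 no functor satisfies the local condition, so p is taken odd.) -/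
theorem result {p : ℕ} [Fact p.Prime] (hp : p ≠ 2) (W : ∀ (Q : Type u) [Group Q], Subgroup Q) (hW1 : ∀ (Q : Type u) [Group Q] [Finite Q], IsPGroup p Q → Nontrivial Q → W Q ≠ ⊥) (hW2 : ∀ (Q R : Type u) [Group Q] [Group R] [Finite Q], IsPGroup p Q → ∀ φ : Q ≃* R, (W Q).map φ.toMonoidHom = W R) (hWZ : ∀ (Q : Type u) [Group Q] [Finite Q], IsPGroup p Q → Subgroup.center Q ≤ W Q) (hC : ∀ (G : Type u) [Group G] [Finite G] (P : Sylow p G), Cfsg.pCore p G ⊓ Subgroup.center G = Cfsg.pCore p G ⊓ (Subgroup.center ↥(Subgroup.normalizer (((W ↥(P : Subgroup G)).map (P : Subgroup G).subtype : Subgroup G) : Set G))).map (Subgroup.normalizer (((W ↥(P : Subgroup G)).map (P : Subgroup G).subtype : Subgroup G) : Set G)).subtype) {Ω : Type u} [Group Ω] {S : Subgroup Ω} [Finite S] (hS : IsPGroup p S) (F : Cfsg.FusionSystem S) (hF : F.IsSaturated p) (N : Cfsg.FusionSystem (Cfsg.FusionSystem.normalizerIn S ((W ↥S).map S.subtype))) (hN : F.IsNormalizerSystem ((W ↥S).map S.subtype) N) : N.center = F.center := by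
  have h : Sat F p := ⟨hS, hF⟩
  have hW := wf_ind ⟨hW1, hW2⟩
  have hZ : ∀ {G : Type u} [Group G] (U : Subgroup G) [Finite U], IsPGroup p U →
      U ⊓ Subgroup.centralizer (U : Set G) ≤ ind W G U := fun U _ hU x hx =>
    ⟨⟨x, hx.1⟩, hWZ U hU (Subgroup.mem_center_iff.2 fun y => Subtype.ext (hx.2 y y.2)), rfl⟩
  obtain ⟨h1, h2, -, h3, -⟩ := ns_data h hN (hW.le S) (Subgroup.le_normalizer.trans (hW.norm hS))
  refine le_antisymm (fun x hx => center_main (Y := Unit) hW hZ False True (fun G _ _ P y k1 _ k2 _ _ k3 => ?_) h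
    (Or.inl trivial) (h2 hx) False.elim (h3 x hx (hZ S hS (h2 hx)))) h1
  have := (hC G P).ge ⟨zc_le_pCore k1 (CfsgH2.IsSylowIn.of_sylow_top P) k2, ⟨y, hW.sfun.le_normalizer P k2.1⟩,
    Subgroup.mem_center_iff.2 fun g => Subtype.ext (Subgroup.mem_centralizer_singleton_iff.1 (k3 g.2)), rfl⟩
  exact eq_top_iff.2 fun g _ => Subgroup.mem_centralizer_singleton_iff.2 (Subgroup.mem_center_iff.1 this.2 g)

end Cfsg.Agent.S5196
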