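import Cfsg.Statements.S5200
import Cfsg.Agent.FS.Cent

set_option autoImplicit false
open Cfsg

namespace Cfsg.Agent.S5200

open CfsgH9 CfsgFS

/-- Let F be a saturated fusion system over a finite p-group S and E a normal subsystem of F over T whose centralizer in S lies in T: every subgroup Y of C_S(T) such that E is contained in the centralizer fusion system of Y in F satisfies Y ≤ T. Then T·C_S(T)/T is abelian (the commutator subgroup of T·C_S(T) lies in T), and if p is odd then C_S(T) ≤ T. -/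
theorem result {Ω : Type*} [Group Ω] {S : Subgroup Ω} [Finite S] (p : ℕ) [Fact p.Prime] (hS : IsPGroup p S) (F : Cfsg.FusionSystem S) (hF : F.IsSaturated p) {T : Subgroup Ω} (E : Cfsg.FusionSystem T) (hE : E.IsNormalIn F p) (hCE : ∀ Y : Subgroup Ω, Y ≤ Cfsg.FusionSystem.centralizerIn S T → (∀ C : Cfsg.FusionSystem (Cfsg.FusionSystem.centralizerIn S Y), F.IsCentralizerSystem Y C → E.IsSubsystemOf C) → Y ≤ T) : ⁅T ⊔ Cfsg.FusionSystem.centralizerIn S T, T ⊔ Cfsg.FusionSystem.centralizerIn S T⁆ ≤ T ∧ (p ≠ 2 → Cfsg.FusionSystem.centralizerIn S T ≤ T) := by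
  have h := (nrm_iff hS).1 hE
  have k : CE F E p ≤ T := hCE _ CE_le fun C hC => (cz_iff_cs h.le CE_le hC).2 h.cz_CE
  refine ⟨Subgroup.commutator_le.2 fun a ha b hb => ?_, fun hp => h.cent_le hp k⟩
  obtain ⟨C, hC⟩ := exists_CS F h.le
  obtain ⟨t, ht, c, hc, rfl⟩ := (mem_sup_cent centralizerIn_le_centralizer).1 ha
  obtain ⟨u, hu, d, hd, rfl⟩ := (mem_sup_cent centralizerIn_le_centralizer).1 hb
  have k1 := k (h.foc_cs hC (comm_le_foc (Subgroup.commutator_mem_commutator hc hd)))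
  have := mmul (mmul (mmul ht (SC.conj h.sc hc.1 hu)) (mmul k1 (SC.conj h.sc (mmul hd.1 hc.1) (minv (SC.conj h.sc
    (minv hc.1) ht))))) (minv hu)
  convert this using 1
  simp only [commutatorElement_def]
  have e := hc.2 t ht
  have : c⁻¹ * t * c⁻¹⁻¹ = t := by rw [inv_inv, mul_assoc, e, inv_mul_cancel_left]
  rw [this]
  calc t * c * (u * d) * (t * c)⁻¹ * (u * d)⁻¹ = t * c * u * d * c⁻¹ * (d * t)⁻¹ * u⁻¹ := by group
    _ = t * c * u * d * c⁻¹ * (t * d)⁻¹ * u⁻¹ := by rw [hd.2 t ht]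
    _ = t * c * u * d * c⁻¹ * d⁻¹ * t⁻¹ * u⁻¹ := by group
    _ = t * c * u * d * c⁻¹ * d⁻¹ * ((d * c) * t⁻¹ * (d * c)⁻¹) * u⁻¹ := by
      rw [← (mmul hd hc).2 _ (minv ht), mul_inv_cancel_right]
    _ = _ := by group

end Cfsg.Agent.S5200
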