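import Cfsg.Statements.S5213
import Cfsg.Agent.Lead.Sm11

set_option autoImplicit false
open Cfsg

namespace Cfsg.Agent.S5213

open Cfsg

/-- Let S be a finite 2-group of 2-rank 2 (it has an elementary abelian subgroup of order 4 and none of order 8) and F a saturated fusion system over S with trivial centre. Then S is dihedral, semidihedral, wreathed, homocyclic abelian (a direct product of cyclic groups of one common order), or isomorphic to a Sylow 2-subgroup of the projective special unitary group PSU₃(4) (realised over the field with 16 elements). -/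
theorem result {Ω : Type*} [Group Ω] {S : Subgroup Ω} [Finite S] (hS : IsPGroup 2 S) (F : Cfsg.FusionSystem S) (hF : F.IsSaturated 2) (hr : Cfsg.PRankAtLeast 2 2 ↥S ∧ ¬ Cfsg.PRankAtLeast 2 3 ↥S) (hZ : F.center = ⊥) {K : Type*} [Field K] [Fintype K] (hK : Fintype.card K = 16) : (∃ m : ℕ, Nonempty (↥S ≃* DihedralGroup m)) ∨ Cfsg.IsQuasiDihedral ↥S ∨ Cfsg.IsWreathed ↥S ∨ (∃ n k : ℕ, Nonempty (↥S ≃* Multiplicative (Fin k → ZMod (2 ^ n)))) ∨ ∃ T : Sylow 2 (Cfsg.PSU 3 K 4), Nonempty (↥S ≃* ↥(T : Subgroup (Cfsg.PSU 3 K 4))) := by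
  rcases (CfsgFS.Sat.mk hS hF).rank_two (K := K) hK (fun A a b => by
      by_contra! c
      obtain ⟨n, hn⟩ := (hS.to_subgroup A).exists_card_eq
      rw [hn] at c
      exact hr.2 ⟨A, a, b, hn ▸ Nat.pow_le_pow_right two_pos ((Nat.pow_lt_pow_iff_right one_lt_two).1 c)⟩)
    (fun e => by
      obtain ⟨A, -, -, c⟩ := hr.1
      have := c.trans (Subgroup.card_le_card_group A)
      simp [e] at this)
    (fun z oz hz => by simp [Subgroup.mem_bot.1 (hZ ▸ hz)] at oz) with ⟨r, c⟩ | c | c | ⟨n, ⟨c⟩⟩ | ⟨⟨c⟩⟩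
  · exact .inl ⟨_, c⟩
  · exact .inr (.inl c)
  · exact .inr (.inr (.inl c))
  · exact .inr (.inr (.inr (.inl ⟨n + 1, 2, ⟨c.trans (AddEquiv.toMultiplicative
      (LinearEquiv.finTwoArrow ℤ (ZMod (2 ^ (n + 1)))).symm.toAddEquiv)⟩⟩)))
  · exact .inr (.inr (.inr (.inr ⟨default, (CfsgH5.sylow_PSU3 (p := 2) (k := 2) (q := 4) hK rfl _).map c.trans⟩)))

end Cfsg.Agent.S5213
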