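import Cfsg.Statements.S5222
import Cfsg.Agent.FS.Bis2

set_option autoImplicit false
open Cfsg

namespace Cfsg.Agent.S5222

open CfsgH9 CfsgFS

/-- Let F be a saturated fusion system over a finite p-group S whose normalizer fusion system of S is the inner fusion system of S (Aut_F(S) is a p-group). Then for every subgroup Q of S with [S, S] ≤ Q ≤ Φ(S), the normalizer fusion system of Q in F is the inner fusion system of N_S(Q) = S. -/
theorem result {Ω : Type*} [Group Ω] {S : Subgroup Ω} [Finite S] (p : ℕ) [Fact p.Prime] (hS : IsPGroup p S) (F : Cfsg.FusionSystem S) (hF : F.IsSaturated p) (hN : ∀ N : Cfsg.FusionSystem (Cfsg.FusionSystem.normalizerIn S S), F.IsNormalizerSystem S N → ∀ P : Subgroup Ω, N.Hom P = (Cfsg.innerFusionSystem (Cfsg.FusionSystem.normalizerIn S S)).Hom P) (Q : Subgroup Ω) (h1 : (commutator ↥S).map S.subtype ≤ Q) (h2 : Q ≤ (frattini ↥S).map S.subtype) : ∀ N : Cfsg.FusionSystem (Cfsg.FusionSystem.normalizerIn S Q), F.IsNormalizerSystem Q N → ∀ P : Subgroup Ω, N.Hom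 P = (Cfsg.innerFusionSystem (Cfsg.FusionSystem.normalizerIn S Q)).Hom P := by
  intro N hNQ
  have a : Sat F p := ⟨hS, hF⟩
  have hQ : Q ≤ S := h2.trans (Subgroup.map_subtype_le _)
  rw [Subgroup.map_subtype_commutator] at h1
  have hn : S ≤ Subgroup.normalizer Q := le_norm_of_conj fun s hs x hx => by
    simpa [commutatorElement_def] using mmul (h1 (Subgroup.commutator_mem_commutator hs (hQ hx))) hx
  obtain ⟨M, hM⟩ := exists_NS F (le_refl S)
  have h3 : IsPGroup p (F.autGroup S) := by
    rw [← ns_aut hM le_rfl]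
    exact (triv_iff.1 (hN M hM)).pg (hS.to_le normalizerIn_le) (le_normalizerIn le_rfl)
  have b := a.ns (fn_of_normal hQ hn) hNQ
  have c := Nm.sc (ns_nm hNQ hQ)
  have d := ns_sub hNQ
  have e : Cfsg.FusionSystem.normalizerIn S Q = S := inf_eq_left.2 hn
  refine triv_iff.2 ?_
  clear hNQ
  revert N
  rw [e]
  intro N b c d
  exact b.triv_of_hyp_le ((b.hyp_le_of_aut (h3.to_le (autGroup_mono d le_rfl)) c h1).trans h2)

end Cfsg.Agent.S5222
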