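import Cfsg.Statements.S5226
import Cfsg.Agent.FS.Norm

set_option autoImplicit false
open Cfsg

namespace Cfsg.Agent.S5226

open CfsgH9 CfsgFS

/-- Let F be a saturated fusion system over a finite p-group S and Q a subgroup of S. Then Q is normal in F (F equals the normalizer system of Q) if and only if Q is strongly closed in F and admits a central series 1 = Q₀ ≤ Q₁ ≤ ⋯ ≤ Qₙ = Q ([Qᵢ₊₁, Q] ≤ Qᵢ) all of whose proper terms are weakly closed in F. -/
theorem result {Ω : Type*} [Group Ω] {S : Subgroup Ω} [Finite S] (p : ℕ) [Fact p.Prime] (hS : IsPGroup p S) (F : Cfsg.FusionSystem S) (hF : F.IsSaturated p) (Q : Subgroup Ω) : F.IsNormal Q ↔ F.StronglyClosed Q ∧ ∃ (n : ℕ) (C : Fin (n + 1) → Subgroup Ω), C 0 = ⊥ ∧ C (Fin.last n) = Q ∧ Monotone C ∧ (∀ i : Fin n, ⁅C i.succ, Q⁆ ≤ C i.castSucc) ∧ ∀ i : Fin n, F.WeaklyClosed (C i.castSucc) := by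
  have hs := Sat.mk hS hF
  constructor
  · intro h
    have := finite_of_le h.1
    obtain ⟨n, C, h0, hn, hm, h1, h2, h3⟩ := exists_chain (hS.to_le h.1).isNilpotent
    refine ⟨Nm.sc h, n, fun i => C i, h0, hn, fun i j hij => hm hij,
      fun i => by rw [Subgroup.commutator_comm]; exact h3 i, fun i => ?_⟩
    have : Finite (C i.castSucc) := finite_of_le (h1 _)
    exact SC.wc (Q := C i.castSucc) (Nm.sc (Nm.of_inv h (h1 _) fun α _ => h2 _ α))
  · rintro ⟨hQ, n, Qs, h0, hn, hm, h, hw⟩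
    refine hs.nm_of_wchain hQ (fun i => if hi : i < n + 1 then Qs ⟨i, hi⟩ else ⊤) n (by simpa using h0)
      (by simp only [Nat.lt_succ_self, dif_pos]; exact hn) (fun i j hij hj => ?_) (fun i hi => ?_) fun i hi => ?_
    · rw [dif_pos (by omega), dif_pos (by omega)]
      exact hm hij
    · rw [dif_pos (by omega)]
      exact hw ⟨i, hi⟩
    · rw [dif_pos (by omega), dif_pos (by omega), Subgroup.commutator_comm]
      exact h ⟨i, hi⟩

end Cfsg.Agent.S5226
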