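import Cfsg.Statements.S5243
import Cfsg.Agent.FS.PP

set_option autoImplicit false
open Cfsg

namespace Cfsg.Agent.S5243

open CfsgH9 CfsgFS

/-- Let F be a saturated fusion system over a finite p-group S, E a normal subsystem of F over T ≤ S, and χ a surjective homomorphism from Aut_F(T) onto a nontrivial finite group Δ of order prime to p whose kernel contains Aut_E(T). Then there is a proper normal subsystem F₀ of F over S containing E such that Aut_{F₀}(S) consists of those α ∈ Aut_F(S) whose restriction to T is an element of Aut_F(T) in the kernel of χ; moreover every p'-residual subsystem O^{p'}(F) of F is contained in F₀. -/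
theorem result {Ω : Type*} [Group Ω] {S : Subgroup Ω} [Finite S] (p : ℕ) [Fact p.Prime] (hS : IsPGroup p S) (F : Cfsg.FusionSystem S) (hF : F.IsSaturated p) {T : Subgroup Ω} (hTS : T ≤ S) (E : Cfsg.FusionSystem T) (hE : E.IsNormalIn F p) {Δ : Type*} [Group Δ] [Finite Δ] [Nontrivial Δ] (hΔ : (Nat.card Δ).Coprime p) (χ : ↥(F.autGroup T) →* Δ) (hχ : Function.Surjective χ) (hker : (E.autGroup T).subgroupOf (F.autGroup T) ≤ χ.ker) : ∃ F₀ : Cfsg.FusionSystem S, F₀.IsNormalIn F p ∧ ¬ (∀ P : Subgroup Ω, F₀.Hom P = F.Hom P) ∧ E.IsSubsystemOf F₀ ∧ (∀ α : MulAut ↥S, α ∈ F₀.autGroup S ↔ α ∈ F.autGroup S ∧ ∃ β : ↥(F.autGroup T), χ β = 1 ∧ ∀ t : ↥T, (((β : MulAut ↥T) t : ↥T) : Ω) = ((α ⟨(t : Ω), hTS t.2⟩ : ↥S) : Ω)) ∧ ∀ R : Cfsg.FusionSystem S, F.IsPPrimeResidual p R → R.IsSubsystemOf F₀ := by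
  have k := (nrm_iff hS).1 hE
  have m : ∀ β : F.autGroup T, (β : MulAut T) ∈ χ.ker.map (F.autGroup T).subtype ↔ χ β = 1 := fun β =>
    Subgroup.mem_map_iff_mem (f := (F.autGroup T).subtype) Subtype.val_injective
  obtain ⟨D, d1, d2, d3, d4⟩ := k.toInv.exists_ker k.satF k.sat (K := χ.ker.map (F.autGroup T).subtype)
    (fun α hα => (m ⟨α, autGroup_mono k.sub le_rfl hα⟩).2 (hker hα)) (Subgroup.map_subtype_le _)
    (le_norm_of_conj fun α hα β hβ => by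
      obtain ⟨γ, g1, rfl⟩ := hβ
      exact (m (⟨α, hα⟩ * γ * (⟨α, hα⟩)⁻¹)).2 (by rw [map_mul, map_mul, MonoidHom.mem_ker.1 g1]; simp))
    (ndvd_of_coprime hΔ) fun α hα => (m (⟨α, hα⟩ ^ Nat.card Δ)).2 (by rw [map_pow, pow_card_eq_one'])
  refine ⟨D, (nrm_iff hS).2 d1, fun e => ?_, d2, fun α => ?_, fun R hR => hR.2.2 D d1.satE (ppr_iff.2 d1.ppr)⟩
  · obtain ⟨δ, hδ⟩ := exists_ne (1 : Δ)
    obtain ⟨β, rfl⟩ := hχ δ
    exact hδ ((m β).1 (d3 ▸ autGroup_mono (sub_of_hom_eq fun P => (e P).symm) hTS β.2))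
  · rw [d4]
    refine and_congr_right fun _ => ⟨fun h => ?_, fun ⟨β, b1, b2⟩ => mem_KR.2 ⟨β, (m β).2 b1, fun x hx => ?_⟩⟩
    · obtain ⟨_, ⟨β, b1, rfl⟩, b2⟩ := mem_KR.1 h
      exact ⟨β, b1, fun t => by rw [← ap_coe, ← ap_of_mem α]; exact (b2 t t.2).symm⟩
    · rw [ap_of_mem _ hx, ap_of_mem _ (hTS hx)]; exact (b2 ⟨x, hx⟩).symm

end Cfsg.Agent.S5243
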