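import Cfsg.Statements.S5245
import Cfsg.Agent.FS.Hyp

set_option autoImplicit false
open Cfsg

namespace Cfsg.Agent.S5245

open CfsgH9 CfsgFS

/-- Let F be an extremely sparse fusion system over a finite p-group S (saturated, not the inner system, and every saturated fusion system over any subgroup T of S contained in F is F itself or the inner system of T). Then S is normal in F, the focal and hyperfocal subgroups of F are both S, and Aut_F(S) is generated by the inner automorphisms of S together with a single automorphism of prime order q ≠ p (F is the fusion system of the semidirect product of S by a cyclic group of prime order). -/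
theorem result {Ω : Type*} [Group Ω] {S : Subgroup Ω} [Finite S] (p : ℕ) [Fact p.Prime] (hS : IsPGroup p S) (F : Cfsg.FusionSystem S) (hF : F.IsSaturated p) (hxs : ¬ (∀ P : Subgroup Ω, F.Hom P = (Cfsg.innerFusionSystem S).Hom P) ∧ ∀ (T : Subgroup Ω) (E : Cfsg.FusionSystem T), E.IsSaturated p → E.IsSubsystemOf F → (T = S ∧ ∀ P : Subgroup Ω, E.Hom P = F.Hom P) ∨ (∀ P : Subgroup Ω, E.Hom P = (Cfsg.innerFusionSystem T).Hom P)) : F.IsNormal S ∧ F.focalSubgroup = S ∧ F.hyperfocalSubgroup p = S ∧ ∃ (q : ℕ) (β : MulAut ↥S), q.Prime ∧ q ≠ p ∧ β ∈ F.autGroup S ∧ orderOf β = q ∧ (F.autGroup S : Subgroup (MulAut ↥S)) = Cfsg.Inn ↥S ⊔ Subgroup.zpowers β := by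
  obtain ⟨h1, h2⟩ := hxs
  have key : ∀ P ≤ S, ∀ β ∈ F.autGroup P, (orderOf β).Coprime p → β ≠ 1 →
      P = S ∧ F.autGroup P = Inn P ⊔ Subgroup.zpowers β ∧ F.IsNormal P := fun P hP β hβ ho hne => by
    obtain ⟨E, e1, e2, e3, e4⟩ := exists_cyc_sys hS hP hβ ho
    obtain ⟨k1, k2⟩ := (h2 P E e2.sat e1).resolve_right fun k => not_triv_of e2.pg le_rfl
      (e3 ▸ Subgroup.mem_sup_right (Subgroup.mem_zpowers β)) ho hne (triv_iff.1 k)
    have k3 := sub_of_hom_eq fun P => (k2 P).symm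
    exact ⟨k1, (autGroup_eq_of_sub e1 k3 P).symm.trans e3, nm_of_sub e1 k3 e4⟩
  obtain ⟨P, hP, β, hβ, hq, hne⟩ := (Sat.mk hS hF).exists_prime_aut fun h => h1 (triv_iff.2 h)
  have ho := (Nat.coprime_primes hq Fact.out).2 hne
  have h0 : β ≠ 1 := fun e => hq.one_lt.ne' (by rw [e, orderOf_one])
  obtain ⟨rfl, k2, k3⟩ := key P hP.le β hβ ho h0
  have hh : F.hyperfocalSubgroup p = P := by
    obtain ⟨γ, c1, c2, c3⟩ := exists_res_aut hyp_le_S le_rfl hβ fun x hx =>
      SC.mem (Sat.mk hS hF).sc_hyp ((mem_autGroup le_rfl).1 hβ) (hyp_le_S hx) hx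
    refine (key _ hyp_le_S γ c1 (ho.coprime_dvd_left c3) fun e => h0 (ap_ext fun x hx => ?_)).1
    rw [ap_one]
    refine fix_of_coprime hS ho hx ?_
    rw [← c2 _ (mem_hyp le_rfl hβ ho hx), e, ap_one]
  exact ⟨k3, foc_le_S.antisymm (hh.ge.trans hyp_le_foc), hh, _, β, hq, hne, hβ, rfl, k2⟩

end Cfsg.Agent.S5245
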