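import Cfsg.Statements.S5272
import Cfsg.Agent.FS.Loc5

set_option autoImplicit false
open Cfsg

namespace Cfsg.Agent.S5272

open CfsgH9 CfsgFS

/-- An axiomatic Glauberman–Thompson nilpotency criterion for fusion systems. Let p be an odd prime, F a saturated fusion system over a finite p-group S, and 𝒜 a nonempty family of abelian subgroups of S. For Q ≤ S write I(Q) for the intersection of the members of 𝒜 contained in Q. Assume (invariance) that for every Q ≤ S containing a member of 𝒜, every F-automorphism of Q maps I(Q) into itself, and (replacement) that for every subgroup B of S of nilpotency class at most 2, if some member of 𝒜 contains [B,B] but not B, then B normalizes some member of 𝒜 that contains [B,B] but not B. Then F is the inner fusion system of S if and only if the normalizer fusion system of I(S) in F is the inner fusion system of N_S(I(S)). -/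
theorem result {Ω : Type*} [Group Ω] {S : Subgroup Ω} [Finite S] (p : ℕ) [Fact p.Prime] (hS : IsPGroup p ↥S) (F : Cfsg.FusionSystem S) (hF : F.IsSaturated p) (hp : p ≠ 2) (𝒜 : Set (Subgroup Ω)) (h𝒜 : ∀ A ∈ 𝒜, A ≤ S ∧ IsMulCommutative ↥A) (hne : 𝒜.Nonempty) (hinv : ∀ Q : Subgroup Ω, Q ≤ S → (∃ A ∈ 𝒜, A ≤ Q) → ∀ α ∈ F.autGroup Q, ∀ x : ↥Q, (x : Ω) ∈ (⨅ A ∈ {A : Subgroup Ω | A ∈ 𝒜 ∧ A ≤ Q}, A) → (((α : MulAut ↥Q) x : ↥Q) : Ω) ∈ (⨅ A ∈ {A : Subgroup Ω | A ∈ 𝒜 ∧ A ≤ Q}, A)) (hrep : ∀ B : Subgroup Ω, B ≤ S → ⁅⁅B, B⁆, B⁆ = ⊥ → (∃ A ∈ 𝒜, ⁅B, B⁆ ≤ A ∧ ¬ B ≤ A) → ∃ A ∈ 𝒜, ⁅B, B⁆ ≤ A ∧ ¬ B ≤ A ∧ B ≤ Subgroup.normalizer (A : Set Ω)) : (∀ P : Subgroup Ω, F.Hom P = (Cfsg.innerFusionSystem S).Hom P) ↔ ∀ N : Cfsg.FusionSystem (Cfsg.FusionSystem.normalizerIn S (⨅ A ∈ 𝒜, A)), F.IsNormalizerSystem (⨅ A ∈ 𝒜, A) N → ∀ P : Subgroup Ω, N.Hom P = (Cfsg.innerFusionSystem (Cfsg.FusionSystem.normalizerIn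 S (⨅ A ∈ 𝒜, A))).Hom P := by
  have h : Sat F p := ⟨hS, hF⟩
  have hi : ∀ T ≤ S, (∃ A ∈ 𝒜, A ≤ T) → ∀ α ∈ F.autGroup T, ∀ x,
      (∀ A ∈ 𝒜, A ≤ T → x ∈ A) → ∀ A ∈ 𝒜, A ≤ T → ap α x ∈ A := fun T t1 t2 α hα x hx A a1 a2 => by
    have := hinv T t1 t2 α hα ⟨x, a2 (hx A a1 a2)⟩ (by
      simp only [Subgroup.mem_iInf]; exact fun B hB => hx B hB.1 hB.2)
    simp only [Subgroup.mem_iInf] at this
    rw [ap_of_mem _ (a2 (hx A a1 a2))]
    exact this A ⟨a1, a2⟩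
  rw [← sInf_eq_iInf, triv_iff]
  obtain ⟨A₀, a0⟩ := hne
  have lZ : sInf 𝒜 ≤ S := (sInf_le a0).trans (h𝒜 _ a0).1
  have := finite_of_le lZ
  have hn : S ≤ Subgroup.normalizer (sInf 𝒜 : Subgroup Ω) := fun s hs => mem_normalizer_of_finite fun x hx =>
    Subgroup.mem_sInf.2 fun A a => by
      have := hi S le_rfl ⟨A, a, (h𝒜 A a).1⟩ _ (cj_mem_autGroup F le_rfl hs) x
        (fun B b _ => Subgroup.mem_sInf.1 hx B b) A a (h𝒜 A a).1
      rwa [ap_cj (Subgroup.le_normalizer hs) (lZ hx)] at this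
  refine ⟨fun k N hN => triv_iff.2 ((isNS_iff.1 hN).triv_of h k (fn_of_normal lZ hn) le_top), fun k => ?_⟩
  obtain ⟨N, hN⟩ := exists_NS F lZ
  exact h.triv_of_family hp 𝒜 h𝒜 ⟨A₀, a0⟩ hi hrep ((isNS_iff.1 hN).kle_inner (triv_iff.1 (k N hN)))

end Cfsg.Agent.S5272
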