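import Cfsg.Statements.S5276
import Cfsg.Agent.FS.Bis2

set_option autoImplicit false
open Cfsg

namespace Cfsg.Agent.S5276

open CfsgH9 CfsgFS

/-- Let p be a prime and F a saturated fusion system over a finite p-group S. Then F is the inner fusion system of S if and only if the normalizer fusion system of S itself in F is the inner fusion system (equivalently, Aut_F(S) is induced by S) and the Frattini subgroup Φ(S) is strongly closed in F. -/
theorem result {Ω : Type*} [Group Ω] {S : Subgroup Ω} [Finite S] (p : ℕ) [Fact p.Prime] (hS : IsPGroup p ↥S) (F : Cfsg.FusionSystem S) (hF : F.IsSaturated p) : (∀ P : Subgroup Ω, F.Hom P = (Cfsg.innerFusionSystem S).Hom P) ↔ (∀ N : Cfsg.FusionSystem (Cfsg.FusionSystem.normalizerIn S S), F.IsNormalizerSystem S N → ∀ P : Subgroup Ω, N.Hom P = (Cfsg.innerFusionSystem (Cfsg.FusionSystem.normalizerIn S S)).Hom P) ∧ F.StronglyClosed ((frattini ↥S).map S.subtype) := by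
  have a : Sat F p := ⟨hS, hF⟩
  rw [triv_iff]
  refine ⟨fun h => ⟨fun N hN => triv_iff.2 (h.of_sub (ns_sub hN) (le_normalizerIn le_rfl)), ?_⟩, fun ⟨hN, h⟩ => ?_⟩
  · exact h.conjMod.sc bot_le (Subgroup.map_subtype_le _)
      (Subgroup.le_normalizer.trans (CfsgH1.normalizer_le_normalizer_map_of_characteristic _))
  obtain ⟨M, hM⟩ := exists_NS F (le_refl S)
  have h3 : IsPGroup p (F.autGroup S) := by
    rw [← ns_aut hM le_rfl]
    exact (triv_iff.1 (hN M hM)).pg (hS.to_le normalizerIn_le) (le_normalizerIn le_rfl)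
  exact a.triv_of_hyp_le (a.hyp_le_of_aut h3 h (comm_le_frattini hS))

end Cfsg.Agent.S5276
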