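import Cfsg.Statements.S5289
import Cfsg.Agent.Lead.Sm9

set_option autoImplicit false
open Cfsg

namespace Cfsg.Agent.S5289

open Cfsg

/-- Let p ≥ 5 be a prime and S a finite p-group of p-rank two (it has an elementary abelian subgroup of order p² and none of order p³) which is not the extraspecial group of order p³ and exponent p. Then S is resistant: for every saturated fusion system F over S, S is normal in F, that is, every map of F extends to an F-automorphism of S. -/
theorem result {Ω : Type*} [Group Ω] {S : Subgroup Ω} [Finite S] (p : ℕ) [Fact p.Prime] (hS : IsPGroup p S)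
    (F : Cfsg.FusionSystem S) (hF : F.IsSaturated p)
    (hp : 5 ≤ p)
    (hrank2 : ∃ E : Subgroup Ω, E ≤ S ∧ Cfsg.IsElementaryAbelian p E ∧ Nat.card E = p ^ 2)
    (hrank3 : ∀ E : Subgroup Ω, E ≤ S → Cfsg.IsElementaryAbelian p E → Nat.card E ≤ p ^ 2)
    (hnotE : ¬ (Nat.card S = p ^ 3 ∧ Monoid.exponent ↥S = p)) : F.IsNormal S := by
  refine (CfsgFS.Sat.mk hS hF).nm_rank2 (by omega) (fun A a1 a2 => ?_) fun c => ?_
  · rw [← Subgroup.card_map_of_injective S.subtype_injective]
    exact hrank3 _ (Subgroup.map_subtype_le A) (CfsgFT.ea_map (A := A) ⟨a1, a2⟩ S.subtype)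
  · by_contra! k
    refine hnotE ⟨c, ((Nat.dvd_prime (Fact.out : p.Prime)).1 (Monoid.exponent_dvd_of_forall_pow_eq_one fun x => Subtype.ext (k x x.2))).resolve_left fun e => ?_⟩
    haveI := Monoid.exp_eq_one_iff.1 e
    exact (Nat.one_lt_pow three_ne_zero (Fact.out : p.Prime).one_lt).ne (Nat.card_of_subsingleton (1 : S) ▸ c)

end Cfsg.Agent.S5289
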