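import Cfsg.Statements.S5301
import Cfsg.Agent.FS.Norm

set_option autoImplicit false
universe u
open Cfsg

namespace Cfsg.Agent.S5301

open CfsgH9 CfsgFS

/-- Let F be a saturated fusion system over a finite p-group S. If for every subgroup P of S that is fully normalized, centric and radical in F the automorphism group that F induces on P has a normal Sylow p-subgroup, then S is normal in F. -/
theorem result {Ω : Type u} [Group Ω] {S : Subgroup Ω} [Finite S] (p : ℕ) [Fact p.Prime] (hS : IsPGroup p S)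
    (F : Cfsg.FusionSystem S) (hF : F.IsSaturated p)
    (hcl : ∀ P : Subgroup Ω, F.IsFullyNormalized P → F.IsCentric P → F.IsRadical p P →
      ∃ R : Sylow p ↥(F.autGroup P), (R : Subgroup ↥(F.autGroup P)).Normal) :
    F.IsNormal S := by
  have hs := Sat.mk hS hF
  refine hs.nm_top fun P hP => (ess_elim hP (hs.syl hP.2.1)).1 ?_
  obtain ⟨R, hR⟩ := hcl P hP.2.1 hP.1 (hs.ess_rad hP)
  rw [← (radical_iff.1 (hs.ess_rad hP)).2]
  have := aut_finite hP.1.1
  have h1 := syl_map_subtype R
  obtain ⟨a, ha, h2⟩ := h1.conj (hs.syl hP.2.1).pg (hs.syl hP.2.1).le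
  intro x hx
  obtain ⟨y, hy, e⟩ := h2 x hx
  exact ⟨_, le_pCore hR R.isPGroup' (hR.conj_mem y hy ⟨a, ha⟩⁻¹), by
    simp only [Subgroup.subtype_apply] at e; simp [e, mul_assoc]⟩

end Cfsg.Agent.S5301
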