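import Cfsg.Statements.S5317
import Cfsg.Agent.H1.PSL2e
import Cfsg.Agent.FS.Crit
import Cfsg.Agent.H5.SpMat
import Cfsg.Agent.H2.BS16

set_option autoImplicit false
open Cfsg

namespace Cfsg.Agent.S5317

/-- Let F be a finite field of odd order q with q² ≡ 1 mod 16 (so that a Sylow 2-subgroup of PSL(2,q), dihedral of order the 2-part of (q²−1)/2, has order at least 8). Then the 2-fusion system of PSL(2,F) on a Sylow 2-subgroup is simple: saturated, over a nontrivial 2-group, with no normal subsystem other than the trivial one and itself. -/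
theorem result {F : Type*} [Field F] [Fintype F] (hodd : Fintype.card F % 2 = 1) (h16 : 16 ∣ Fintype.card F ^ 2 - 1)
    (S : Sylow 2 (Matrix.ProjectiveSpecialLinearGroup (Fin 2) F)) :
    (Cfsg.groupFusionSystem (S : Subgroup (Matrix.ProjectiveSpecialLinearGroup (Fin 2) F))).IsSimple 2 := by
  open Subgroup CfsgH1 CfsgH1.L2 CfsgH2 in
  classical
  have ho : Odd (Fintype.card F) := Nat.odd_iff.2 hodd
  have h8 : Fintype.card F % 8 = 1 ∨ Fintype.card F % 8 = 7 := by
    obtain ⟨k, hk⟩ := h16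
    have := two_le_q (F := F)
    generalize Fintype.card F = n at *
    have e : n ^ 2 = 16 * k + 1 := by have : 1 ≤ n ^ 2 := Nat.one_le_pow _ _ (by omega); omega
    obtain ⟨m, rfl | rfl | rfl | rfl⟩ : ∃ m, n = 8 * m + 1 ∨ n = 8 * m + 3 ∨ n = 8 * m + 5 ∨ n = 8 * m + 7 :=
      ⟨n / 8, by omega⟩
    · omega
    · ring_nf at e; omega
    · ring_nf at e; omega
    · omega
  obtain ⟨m, -, -, ⟨e⟩, -, -⟩ := sylow2_dih ho S
  obtain ⟨a, b, h, -⟩ := exists_idx2_of_dihedral e
  have o : ∀ j : ℤ, orderOf (a ^ j * b) = 2 := fun j => orderOf_eq_prime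
    (by have := (h.shift j).sq; rwa [← sq, show j + -1 * j + 0 = 0 by ring, zpow_zero] at this)
    fun k => (h.shift j).notMem (k ▸ one_mem _)
  have h4 : 4 ≤ Fintype.card F := by have := two_le_q (F := F); omega
  refine CfsgFS.simple_crit' (SL2Simple.PSL_commutator_eq_top (CfsgH5.exists_sq_ne_one h4)) (CfsgH9.syl_top S)
    (fun k => h.notMem ((mem_bot.1 (k.le h.b_mem)).symm ▸ one_mem _)) (fun T hT z hz oz _ => ?_) (fun x hx ox => ?_) S
  · have k : ∀ j : ℤ, a ^ j * b ∈ T := fun j =>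
      hT.conj hz ((h.mem _).2 ⟨j, .inr rfl⟩) (isConj_invol ho oz (o j))
    rw [h.commutator_eq_sq, zpowers_le]
    simpa using mul_mem (k 2) (inv_mem (k 0))
  · obtain ⟨y, rfl⟩ := pr_surj x
    have := (norm_syl2 h8 (sylow_comap S)).le ((comap_norm_pr S.1).le hx)
    rw [CfsgFS.eq_one_of_coprime S.isPGroup' this ox]
    exact one_mem _

end Cfsg.Agent.S5317
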