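import Cfsg.Statements.S5322
import Cfsg.Agent.H7.J3.F

set_option autoImplicit false
open Cfsg

namespace Cfsg.Agent.S5322

open CfsgH7 MulAction
open scoped Pointwise symmDiff
set_option maxRecDepth 100000
set_option Elab.async false

open CfsgH7.J3F CfsgFS
variable {G Ω : Type*} [Group G] [MulAction G Ω]
theorem fus [Finite G] (W : WT J3.T.tb G Ω) (h : Ok W) (P : Sylow 2 G) :
    (groupFusionSystem (P : Subgroup G)).IsSimple 2 := by
  let V := W.rw xs ok
  have l : ∀ j, j < 16 → V.ev (Tb.lt j) = W.gs xs j := fun j hj => evW_lt _ hj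
  have hP : IsPGroup 2 (cl (W.gs xs) 7) := V.pc pc 7 le_rfl
  have ne : ∀ a q, (okW (J3.T.tb.rw xs).n a &&ₙ okW (J3.T.tb.rw xs).n 0 &&ₙ okW (J3.T.tb.rw xs).n 0 &&ₙ okW (J3.T.tb.rw xs).n 0 &&ₙ (Nat.succ q ≤ₙ (J3.T.tb.rw xs).N) &&ₙ
      bnot (trW (J3.T.tb.rw xs).U a (trW (J3.T.tb.rw xs).U 0 q) =ₙ trW (J3.T.tb.rw xs).U 0 (trW (J3.T.tb.rw xs).U 0 q))) = true → V.ev a ≠ 1 := fun a q c e =>
    V.not_eq2 c (by rw [e, V.ev_zero])
  have h7 : 128 ∣ Nat.card (cl (W.gs xs) 7) := by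
    obtain ⟨k, hk⟩ := IsPGroup.iff_card.mp hP
    have := c7 W
    rw [hk] at this ⊢
    exact pow_dvd_pow 2 ((Nat.pow_le_pow_iff_right (by norm_num)).mp (show 2 ^ 7 ≤ 2 ^ k from this))
  have o3 : orderOf (W.gs xs 7) = 3 := by
    have a := V.eq2 (a := Tb.lt 7) (b := 0x770002) (c := 0) (d := 0) (by decide +kernel)
    have b := V.eq2 (a := Tb.lt 7) (b := Tb.lt 7) (c := 0x770002) (d := 0) (by decide +kernel)
    have c := ne (Tb.lt 7) 0 (by decide +kernel)
    rw [V.ev_zero, mul_one] at a b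
    rw [← b, l 7 (by norm_num)] at a
    rw [l 7 (by norm_num)] at c
    have : Fact (Nat.Prime 3) := ⟨Nat.prime_three⟩
    exact orderOf_eq_prime (by rw [pow_three, a]) c
  refine fus_crit (x := W.gs xs) h.2.1 (by norm_num) hP h7 ?_ ?_ (c9 W) (fun j hj => ?_) ?_ (cq W h)
    (fun j hj => V.nm ((all_iff _ _).mp nq j hj)) (V.nm ns) (fun hn => ?_) (s := V.ev 0x458600005)
    (t := V.ev 0x8865400006) ⟨evW_mem_cl (by decide +kernel), ?_⟩ ⟨evW_mem_cl (by decide +kernel), ?_⟩ ?_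
    (fun K hK h0 => ?_) P
  · exact Nat.Coprime.mul_dvd_of_dvd_of_dvd (m := 128) (n := 3) (by norm_num)
      (h7.trans (Subgroup.card_dvd_of_le (cl_mono _ (by norm_num))))
      (o3 ▸ Subgroup.orderOf_dvd_natCard _ (mem_cl _ (by norm_num)))
  · have := (C1 W h).card_le
    rwa [ln.1, ← ln.2] at this
  · have := V.eq2 ((all_iff _ _).mp cz j hj)
    rwa [l j (by omega), l 0 (by norm_num)] at this
  · exact l 0 (by norm_num) ▸ ne (Tb.lt 0) 0 (by decide +kernel)
  · have a := V.eq2 (a := Tb.lt 8) (b := Tb.lt 5) (c := 0x578310005) (d := Tb.lt 8) (by decide +kernel)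
    have b := V.eq2 (a := 0x578310005) (b := Tb.lt 6) (c := 0x8738700006) (d := 0) (by decide +kernel)
    have c := ne 0x8738700006 0 (by decide +kernel)
    have d : V.ev 0x8738700006 ^ 5 = 1 := V.one_spec (a := .p (.w 0x8738700006) 5) (by decide +kernel)
    rw [l 8 (by norm_num), l 5 (by norm_num), ← mul_inv_eq_iff_eq_mul] at a
    rw [V.ev_zero, mul_one, l 6 (by norm_num), ← a] at b
    have m : V.ev 0x8738700006 ∈ cl (W.gs xs) 7 := b ▸ mul_mem ((Subgroup.mem_normalizer_iff.mp hn _).mp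
      (mem_cl _ (by norm_num))) (mem_cl _ (by norm_num))
    obtain ⟨k, hk⟩ := hP ⟨_, m⟩
    have := pow_gcd' (congrArg Subtype.val hk) d
    rw [Nat.Coprime.pow_left k (by norm_num : Nat.Coprime 2 5), pow_one] at this
    exact c this
  · simpa [V.ev_zero] using V.eq2 (a := 0x458600005) (b := 0x458600005) (c := 0) (d := 0) (by decide +kernel)
  · simpa [V.ev_zero] using V.eq2 (a := 0x8865400006) (b := 0x8865400006) (c := 0) (d := 0) (by decide +kernel)
  · have := V.eq2 (a := 0x458600005) (b := 0x8865400006) (c := Tb.lt 7) (d := 0) (by decide +kernel)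
    rwa [V.ev_zero, mul_one, l 7 (by norm_num)] at this
  · rw [← l 0 (by norm_num)] at h0
    have y0 := V.gcl hK h0 (y := 0x6120003) (evW_mem_cl (by decide +kernel)) (Tb.lt 9) (by decide +kernel)
    have y1 := V.gcl hK h0 (y := 0x5120003) (evW_mem_cl (by decide +kernel)) (Tb.lt 10) (by decide +kernel)
    have y2 := V.gcl hK h0 (y := 0x43210004) (evW_mem_cl (by decide +kernel)) (Tb.lt 11) (by decide +kernel)
    refine cl_le fun j hj => ?_
    rw [← l j (by omega)]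
    interval_cases j
    · exact V.mem_of (ts := [Tb.lt 0, 0x6120003, 0x5120003, 0x43210004]) ⟨h0, y0, y1, y2⟩ 0x1 _ (by decide +kernel)
    · exact V.mem_of (ts := [Tb.lt 0, 0x6120003, 0x5120003, 0x43210004]) ⟨h0, y0, y1, y2⟩ 0x3132120006 _ (by decide +kernel)
    · exact V.mem_of (ts := [Tb.lt 0, 0x6120003, 0x5120003, 0x43210004]) ⟨h0, y0, y1, y2⟩ 0x32320004 _ (by decide +kernel)
    · exact V.mem_of (ts := [Tb.lt 0, 0x6120003, 0x5120003, 0x43210004]) ⟨h0, y0, y1, y2⟩ 0x21210004 _ (by decide +kernel)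
    · exact V.mem_of (ts := [Tb.lt 0, 0x6120003, 0x5120003, 0x43210004]) ⟨h0, y0, y1, y2⟩ 0x123120005 _ (by decide +kernel)
    · exact V.mem_of (ts := [Tb.lt 0, 0x6120003, 0x5120003, 0x43210004]) ⟨h0, y0, y1, y2⟩ 0x312310005 _ (by decide +kernel)
    · exact V.mem_of (ts := [Tb.lt 0, 0x6120003, 0x5120003, 0x43210004]) ⟨h0, y0, y1, y2⟩ 0x232130005 _ (by decide +kernel)
def Cm {K : Type*} [Group K] (_ : K ≃* G) (Ω : Type*) : Type _ := Ω
instance cmAct {K : Type*} [Group K] (e : K ≃* G) : MulAction K (Cm e Ω) := MulAction.compHom Ω e.toMonoidHom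
def cmp {T : Tb} {K : Type*} [Group K] (W : WT T G Ω) (e : K ≃* G) : WT T K (Cm e Ω) where
  gen i := e.symm (W.gen i)
  pt := W.pt
  inj := W.inj
  spec x hx p hp := ⟨(W.spec x hx p hp).1, by
    change e (e.symm _) • W.pt p = W.pt _
    rw [e.apply_symm_apply]; exact (W.spec x hx p hp).2⟩
  hiv x hx := ⟨(W.hiv x hx).1, by rw [← map_mul, (W.hiv x hx).2, map_one]⟩
  hB := W.hB
  base g h := (MulEquiv.map_eq_one_iff e).mp (W.base (e g) h)
theorem cmp_top {T : Tb} {K : Type*} [Group K] (W : WT T G Ω) (e : K ≃* G) {n : ℕ} (t : cl W.gen n = ⊤) :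
    cl (cmp W e).gen n = ⊤ := by
  have : cl W.gen n ≤ (cl (cmp W e).gen n).comap e.symm.toMonoidHom := cl_le fun x hx => mem_cl (cmp W e).gen hx
  rw [eq_top_iff]
  intro g _
  simpa using this (t.ge (Subgroup.mem_top (e g)))

/-- For a finite group G isomorphic to the third Janko group J₃, the 2-fusion system of G on a Sylow 2-subgroup is simple: saturated, over a nontrivial 2-group, with no normal subsystem other than the trivial one and itself. -/
theorem result {G : Type*} [Group G] [Finite G] (hG : Cfsg.Spor.IsoJ3 G) (S : Sylow 2 G) : (Cfsg.groupFusionSystem (S : Subgroup G)).IsSimple 2 := by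
  obtain ⟨F, _, _, ω, hF, hω, ⟨e⟩⟩ := hG
  obtain ⟨_, -, -, b, _, W, t, -⟩ := J3.full hF hω
  have t' := cmp_top W e t
  exact fus (cmp W e) ⟨⟨le_rfl, t'⟩, (Nat.card_congr e.toEquiv).trans b, ((cmp W e).coatom2 t' J3.co).2.ge⟩ S

end Cfsg.Agent.S5322
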