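import Cfsg.Statements.S5348
import Cfsg.Agent.TT.T2

set_option autoImplicit false
open Cfsg

namespace Cfsg.Agent.S5348

open CfsgTT

/-- Let D be a conjugation-invariant generating set of 3-transpositions of a finite group G and d a member of D. Let V be the set of members of D commuting with exactly the same members of D as d, and W the set of members w of D such that the members of D other than w commuting with w are precisely the members of D other than d commuting with d. Then V = {d} or W = {d}. -/
theorem result {G : Type*} [Group G] [Finite G] {D : Set G} (hD : Cfsg.IsThreeTranspositionGroup D) {d : G} (hd : d ∈ D) : {v : G | v ∈ D ∧ ∀ e ∈ D, Commute v e ↔ Commute d e} = {d} ∨ {w : G | w ∈ D ∧ {y : G | y ∈ D ∧ y ≠ d ∧ Commute d y} = {y : G | y ∈ D ∧ y ≠ w ∧ Commute w y}} = {d} := by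
  by_contra k
  push Not at k
  obtain ⟨k1, k2⟩ := k
  refine k1 (Set.eq_singleton_iff_unique_mem.2 ⟨⟨hd, fun _ _ => Iff.rfl⟩, fun v hv => ?_⟩)
  by_contra n
  refine k2 (Set.eq_singleton_iff_unique_mem.2 ⟨⟨hd, rfl⟩, fun w hw => ?_⟩)
  have m := hw.2.le ⟨hv.1, n, V.comm hd hv.2⟩
  exact (W.eq hw.1 hw.2 ((hv.2 w hw.1).1 m.2.2.symm)).symm

end Cfsg.Agent.S5348
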