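import Cfsg.Statements.S5350
import Cfsg.Agent.TT.T2

set_option autoImplicit false
open Cfsg

namespace Cfsg.Agent.S5350

open CfsgTT CfsgH1 CfsgH2 CfsgLead

/-- Let D be a conjugacy class of 3-transpositions generating the finite group G, with at least two members, and d a member of D. Then the set of members w of D whose commuting partners in D (other than w) are exactly those of d (other than d) coincides with the set of members of D lying in the coset of d modulo the largest normal 3-subgroup of G, and also with the orbit of d under conjugation by that normal 3-subgroup. -/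
theorem result {G : Type*} [Group G] [Finite G] {D : Set G} (hD : Cfsg.IsThreeTranspositionClass D) (hD2 : ∃ a ∈ D, ∃ b ∈ D, a ≠ b) {d : G} (hd : d ∈ D) : {w : G | w ∈ D ∧ {y : G | y ∈ D ∧ y ≠ d ∧ Commute d y} = {y : G | y ∈ D ∧ y ≠ w ∧ Commute w y}} = {w : G | w ∈ D ∧ d⁻¹ * w ∈ Cfsg.pCore 3 G} ∧ {w : G | w ∈ D ∧ {y : G | y ∈ D ∧ y ≠ d ∧ Commute d y} = {y : G | y ∈ D ∧ y ≠ w ∧ Commute w y}} = {w : G | ∃ g ∈ Cfsg.pCore 3 G, w = g * d * g⁻¹} := by
  have h := tc_of hD hD2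
  refine ⟨Set.ext fun v => ⟨fun k => ⟨k.1, ?_⟩, fun k => ⟨k.1, ?_⟩⟩, Set.ext fun v => ⟨fun k => ?_, ?_⟩⟩
  · rw [h.ts.inv hd]; exact W.core h.ts h.cl hd k.1 k.2
  · exact W.of_pg h.ts (isPGroup_pCore 3 G) hd k.1 (h.ts.inv hd ▸ k.2)
  · by_cases c : Commute d v
    · exact ⟨1, one_mem _, by rw [← W.eq k.1 k.2 c]; simp⟩
    · exact ⟨_, W.core h.ts h.cl hd k.1 k.2, (h.ts.conj_to hd k.1 c).symm⟩
  · rintro ⟨g, hg, rfl⟩
    exact ⟨h.cl _ _ hd, W.of_pg h.ts (isPGroup_pCore 3 G) hd (h.cl _ _ hd) (h.ts.mul_conj_mem' hd hg)⟩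

end Cfsg.Agent.S5350
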