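import Cfsg.Statements.S5354
import Cfsg.Agent.TT.T3

set_option autoImplicit false
open Cfsg

namespace Cfsg.Agent.S5354

open CfsgTT

/-- Let D be a conjugation-invariant generating set of 3-transpositions of the finite group G on which G acts primitively by conjugation, and suppose two different members of D commute (width at least 2). Then G has a quasisimple normal subgroup L of index at most 2 with the generalized Fitting subgroup of G equal to L times the centre, the commuting graph of D is connected, and for d in D the subgroup generated by the members of D commuting with d is a maximal D-subgroup: it is proper, and every subgroup generated by members of D that contains it is either it or G. -/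
theorem result {G : Type*} [Group G] [Finite G] {D : Set G} (hD : Cfsg.IsThreeTranspositionGroup D) (hprim : Cfsg.IsPrimitiveUnderConj D) (hw : ∃ a ∈ D, ∃ b ∈ D, a ≠ b ∧ Commute a b) : (∃ L : Subgroup G, L.Normal ∧ Cfsg.IsQuasisimple L ∧ L.index ≤ 2 ∧ Cfsg.generalizedFittingSubgroup G = L ⊔ Subgroup.center G) ∧ (Cfsg.commutingGraph D).Connected ∧ ∀ d ∈ D, Subgroup.closure {y : G | y ∈ D ∧ Commute d y} ≠ ⊤ ∧ ∀ H : Subgroup G, Cfsg.IsDSubgroup D H → Subgroup.closure {y : G | y ∈ D ∧ Commute d y} ≤ H → H = Subgroup.closure {y : G | y ∈ D ∧ Commute d y} ∨ H = ⊤ := by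
  have h : PR D := ⟨⟨ts_iff.1 hD.1, hD.2.1, hD.2.2, hprim.1, hprim.2.1⟩, hprim, hw⟩
  obtain ⟨L, n, q, e⟩ := h.exists_L h.core2 h.core3
  refine ⟨⟨L, n, q, h.index_of_conn q h.conn, e⟩, (conn_iff h.nonempty).2 h.conn, fun d hd => ⟨fun k => ?_,
    fun H hH le => ?_⟩⟩
  · obtain ⟨c, hc, m⟩ := h.exists_nc hd
    exact m (Kd_comm (D := D) (k.ge (Subgroup.mem_top c))).symm
  · by_cases k : ∀ c ∈ D, c ∈ H → Commute d c
    · exact Or.inl (le_antisymm (hH.ge.trans (Subgroup.closure_mono fun c hc => ⟨hc.1, k c hc.1 hc.2⟩)) le)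
    · push Not at k
      obtain ⟨c, hc, m, n⟩ := k
      exact Or.inr (h.max_perp hd (fun y hy t => le (Subgroup.subset_closure ⟨hy, t⟩)) hc m n)

end Cfsg.Agent.S5354
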