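import Cfsg.Statements.S5358
import Cfsg.Agent.H5.OrthMat

set_option autoImplicit false
open scoped MatrixGroups
open Cfsg

namespace Cfsg.Agent.S5358

open CfsgH5

/-- Let Q be a non-degenerate quadratic form on the n-dimensional coordinate space over the field with three elements and u, v vectors of the same non-zero norm Q(u) = Q(v) spanning different lines (v ≠ u and v ≠ −u). Then the reflection matrices of u and v commute if and only if u and v are orthogonal for the polar form of Q. -/
theorem result (n : ℕ) (Q : QuadraticForm (ZMod 3) (Fin n → ZMod 3)) (hQ : (QuadraticMap.polarBilin Q).Nondegenerate) (u v : Fin n → ZMod 3) (hu : Q u ≠ 0) (huv : Q u = Q v) (h1 : v ≠ u) (h2 : v ≠ -u) : Commute (Cfsg.reflectionMatrix (⇑Q) u) (Cfsg.reflectionMatrix (⇑Q) v) ↔ QuadraticMap.polar (⇑Q) u v = 0 := by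
  have hq := Form.ofQF_Q Q
  rw [Form.polar_eq hq]
  refine ⟨fun h => ?_, fun h => mat_ext fun x => ?_⟩
  · have := congrArg (·.mulVec u) h
    simp only [← Matrix.mulVec_mulVec, reflectionMatrix_mulVec hq, Form.rf_self (hq u ▸ hu), map_neg] at this
    rw [Form.rf_apply v, map_sub, map_smul, Form.rf_self (hq u ▸ hu), Form.rf_apply u, Form.orth_symm,
      hq, hq, ← huv] at this
    by_contra h0
    have h3 : ∀ c : ZMod 3, c ≠ 0 → c = 1 ∨ c = -1 := by decide
    have h4 : ∀ x : Fin n → ZMod 3, (3 : ZMod 3) • x = 0 := fun x => zero_smul _ x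
    rcases h3 _ (mul_ne_zero (inv_ne_zero hu) (Form.ne_symm h0)) with e | e <;> rw [e] at this
    · exact h2 (by linear_combination (norm := module) this + h4 v)
    · exact h1 (by linear_combination (norm := module) -this + h4 v)
  · simp only [← Matrix.mulVec_mulVec, reflectionMatrix_mulVec hq]
    exact LinearEquiv.congr_fun (Form.rf_comm h) x

end Cfsg.Agent.S5358
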