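import Cfsg.Statements.S5359
import Cfsg.Agent.H5.Iso3

set_option autoImplicit false
open scoped MatrixGroups
open Cfsg

namespace Cfsg.Agent.S5359

open CfsgH5

/-- Let Q be a non-degenerate quadratic form on the n-dimensional coordinate space over the field with three elements, n odd and at least 5, and c a non-zero scalar. Then the subgroup of the isometry group of Q generated by the reflections in vectors of norm c has index 2 in the isometry group. -/
theorem result (n : ℕ) (hn : 5 ≤ n) (hodd : Odd n) (Q : QuadraticForm (ZMod 3) (Fin n → ZMod 3)) (hQ : (QuadraticMap.polarBilin Q).Nondegenerate) (c : ZMod 3) (hc : c ≠ 0) : (Cfsg.reflectionSubgroup (⇑Q) c).index = 2 := by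
  have hq := Form.ofQF_Q Q
  have hS := Form.ofQF_nondeg hQ
  have h1 := hS.scale (inv_ne_zero hc)
  have h2 := Form.scale_isom (S := Form.ofQF Q) (inv_ne_zero hc)
  have h3 : ∀ g, g ∈ Cfsg.reflectionSubgroup Q c ↔ ((Form.ofQF Q).scale c⁻¹).spin (oHom Q g) = 1 :=
    fun g => by
      rw [← Subgroup.mem_map_iff_mem (oHom_inj Q), map_reflectionSubgroup hq,
        hS.mem_RC (ZMod.card 3) (by simpa using hn) hc, and_iff_right (oHom_mem hq g)]
  obtain ⟨a, ha0, ha⟩ := exists_chi_eq_neg_one (F := ZMod 3) (by decide)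
  obtain ⟨v, hv⟩ := h1.exists_Q_eq (by simp; omega) a
  obtain ⟨r, hr⟩ := exists_oHom hq (h2 ▸ Form.rf_mem (S := (Form.ofQF Q).scale c⁻¹) v)
  have h4 : ((Form.ofQF Q).scale c⁻¹).spin (oHom Q r) = -1 := by
    rw [hr, h1.spin_rf (hv ▸ ha0), hv, ha]
  refine Subgroup.index_eq_two_iff_exists_notMem_and.2 ⟨r, by simp [h3, h4], fun b => ?_⟩
  rw [h3, h3, map_mul, h1.spin_mul (h2 ▸ oHom_mem hq b) (h2 ▸ oHom_mem hq r), h4]
  rcases Int.units_eq_one_or (((Form.ofQF Q).scale c⁻¹).spin (oHom Q b)) with e | e <;> simp [e]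

end Cfsg.Agent.S5359
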