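import Cfsg.Statements.S5361
import Cfsg.Agent.TT.T4

set_option autoImplicit false
open Cfsg

namespace Cfsg.Agent.S5361

open CfsgTT

/-- Let D be a conjugacy class of 3-transpositions generating the finite group G, and suppose the centre of G is trivial and some two different members of D commute. Then the following are equivalent: (1) the commutator subgroup of G is simple (possibly of prime order); (2) G acts primitively on D by conjugation; (3) the largest normal 2-subgroup and the largest normal 3-subgroup of G are trivial and the commuting graph of D is connected. -/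
theorem result {G : Type*} [Group G] [Finite G] {D : Set G} (hD : Cfsg.IsThreeTranspositionClass D) (hZ : Subgroup.center G = ⊥) (hw : ∃ a ∈ D, ∃ b ∈ D, a ≠ b ∧ Commute a b) : (IsSimpleGroup (commutator G) ↔ Cfsg.IsPrimitiveUnderConj D) ∧ (Cfsg.IsPrimitiveUnderConj D ↔ (Cfsg.pCore 2 G = ⊥ ∧ Cfsg.pCore 3 G = ⊥ ∧ (Cfsg.commutingGraph D).Connected)) := by
  have h := tc_of hD (by obtain ⟨a, ha, b, hb, n, -⟩ := hw; exact ⟨a, ha, b, hb, n⟩)
  refine ⟨⟨fun s => (h.pr_of_simple s (h.nonab hZ hw s)).prim, fun p => PR.simple ⟨h, p, hw⟩ hZ⟩,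
    fun p => ?_, fun ⟨k2, k3, k⟩ => ?_⟩
  · have q : PR D := ⟨h, p, hw⟩
    exact ⟨le_bot_iff.1 (hZ ▸ q.core2), le_bot_iff.1 (hZ ▸ q.core3), (conn_iff h.nonempty).2 q.conn⟩
  · obtain ⟨L, n, q, -⟩ := h.exists_L (k2 ▸ bot_le) (k3 ▸ bot_le)
    exact h.prim_of (k3 ▸ bot_le) q (h.index_of_conn q ((conn_iff h.nonempty).1 k))

end Cfsg.Agent.S5361
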