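import Cfsg.Statements.S5363
import Cfsg.Agent.TT.T1

set_option autoImplicit false
open Cfsg

namespace Cfsg.Agent.S5363

open CfsgTT

/-- Let D be a conjugation-invariant set of involutions of a finite group G. Then every product of two members of D has odd order or order 2 if and only if, for every a in D and every b in D different from a and commuting with a, the members of D commuting with a b are exactly those commuting with both a and b. -/
theorem result {G : Type*} [Group G] [Finite G] {D : Set G} (hinv : ∀ d ∈ D, orderOf d = 2) (hconj : ∀ g : G, ∀ d ∈ D, g * d * g⁻¹ ∈ D) : (∀ a ∈ D, ∀ b ∈ D, Odd (orderOf (a * b)) ∨ orderOf (a * b) = 2) ↔ ∀ a ∈ D, ∀ b ∈ D, b ≠ a → Commute a b → {y : G | y ∈ D ∧ Commute (a * b) y} = {y : G | y ∈ D ∧ Commute a y} ∩ {y : G | y ∈ D ∧ Commute b y} := by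
  have sq : ∀ {d}, d ∈ D → d * d = 1 := fun hd => sq_of_ord (hinv _ hd)
  have iv : ∀ {d}, d ∈ D → d⁻¹ = d := fun hd => inv_eq_of_mul_eq_one_right (sq hd)
  constructor
  · intro h a ha b hb ne c
    refine Set.ext fun y => ⟨fun ⟨hy, k⟩ => ?_, fun ⟨k1, k2⟩ => ⟨k1.1, k1.2.mul_left k2.2⟩⟩
    have e1 : a * (a * b) = b := by rw [← mul_assoc, sq ha, one_mul]
    have e2 : (a * b) * b = a := by rw [mul_assoc, sq hb, mul_one]
    have t : ∀ {a}, a ∈ D → orderOf (a * y) = 2 → Commute a y := fun ha o =>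
      (comm_iff_sq (sq ha) (sq hy)).2 (o ▸ pow_orderOf_eq_one _)
    rcases h a ha y hy with o1 | o1
    · rcases h b hb y hy with o2 | o2
      · exfalso
        have c' : Commute (a * b) (b * y) := (c.mul_left (Commute.refl b)).mul_right k
        have e : a * y = (a * b) * (b * y) := by rw [← mul_assoc, e2]
        have z : (a * b) ^ (orderOf (a * y) * orderOf (b * y)) = 1 := by
          have := pow_orderOf_eq_one (a * y)
          have := congrArg (· ^ orderOf (b * y)) this
          simp only [one_pow, ← pow_mul] at this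
          generalize orderOf (a * y) = m at this ⊢
          rwa [e, c'.mul_pow, mul_comm m (orderOf (b * y)), pow_mul (b * y), pow_orderOf_eq_one, one_pow, mul_one,
            mul_comm (orderOf (b * y)) m] at this
        obtain ⟨j, hj⟩ := o1.mul o2
        rw [hj, pow_succ, pow_mul, (comm_iff_sq (sq ha) (sq hb)).1 c, one_pow, one_mul] at z
        exact ne (by rw [← e1, z, mul_one])
      · exact ⟨⟨hy, e2 ▸ k.mul_left (t hb o2)⟩, hy, t hb o2⟩
    · exact ⟨⟨hy, t ha o1⟩, hy, e1 ▸ (t ha o1).mul_left k⟩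
  · intro h a ha b hb
    rcases Nat.even_or_odd (orderOf (a * b)) with ⟨m, hm⟩ | o
    swap
    · exact Or.inl o
    right
    have pos := orderOf_pos (a * b)
    have ia : ∀ j : ℕ, a * (a * b) ^ j = ((a * b) ^ j)⁻¹ * a := fun j => by
      rw [← mul_inv_eq_iff_eq_mul, ← conj_pow, ← inv_pow, mul_inv_rev, iv ha, iv hb, ← mul_assoc, sq ha, one_mul]
    have ib : ∀ j : ℕ, b * (a * b) ^ j = ((a * b) ^ j)⁻¹ * b := fun j => by
      rw [← mul_inv_eq_iff_eq_mul, ← conj_pow, ← inv_pow, mul_inv_rev, iv ha, iv hb, mul_assoc, mul_assoc, sq hb,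
        mul_one]
    have zz : ((a * b) ^ m)⁻¹ = (a * b) ^ m := inv_eq_of_mul_eq_one_right (by rw [← pow_add, ← hm, pow_orderOf_eq_one])
    have z1 : (a * b) ^ m ≠ 1 := pow_ne_one_of_lt_orderOf (by omega) (by omega)
    have ca : Commute a ((a * b) ^ m) := by rw [Commute, SemiconjBy, ia, zz]
    have cb : Commute b ((a * b) ^ m) := by rw [Commute, SemiconjBy, ib, zz]
    have mD : a * (a * b) ^ m ∈ D := by
      rcases Nat.even_or_odd m with ⟨j, rfl⟩ | ⟨j, rfl⟩
      · have := hconj ((a * b) ^ j)⁻¹ a ha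
        rwa [inv_inv, ← ia, mul_assoc, ← pow_add] at this
      · have := hconj ((a * b) ^ j)⁻¹ b hb
        rw [inv_inv, ← ib, mul_assoc, ← pow_add] at this
        rwa [pow_succ', ← mul_assoc, ← mul_assoc, sq ha, one_mul, two_mul]
    have := (h a ha _ mD (by simpa using z1) ((Commute.refl a).mul_right ca)).le
      ⟨hb, by rw [← mul_assoc, sq ha, one_mul]; exact cb.symm⟩
    have := Nat.le_of_dvd two_pos (orderOf_dvd_of_pow_eq_one ((comm_iff_sq (sq ha) (sq hb)).1 this.1.2))
    omega

end Cfsg.Agent.S5363
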