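import Cfsg.Statements.S5364
import Cfsg.Agent.TT.T1

set_option autoImplicit false
open Cfsg

namespace Cfsg.Agent.S5364

open CfsgTT

/-- Let D be a conjugation-invariant set of involutions of a finite group G and t an involution in the centre of G such that d t does not lie in D for any d in D. If the images of the members of D in G modulo the subgroup generated by t satisfy the 3-transposition order conditions (each has order 2 and any two have product of order at most 3), then so do the members of D. -/
theorem result {G : Type*} [Group G] [Finite G] {D : Set G} (hinv : ∀ d ∈ D, orderOf d = 2) (hconj : ∀ g : G, ∀ d ∈ D, g * d * g⁻¹ ∈ D) (t : G) (ht : orderOf t = 2) (htZ : t ∈ Subgroup.center G) (hDt : ∀ d ∈ D, d * t ∉ D) [(Subgroup.zpowers t).Normal] (himg : Cfsg.IsThreeTranspositionSet ((QuotientGroup.mk : G → G ⧸ Subgroup.zpowers t) '' D)) : Cfsg.IsThreeTranspositionSet D := by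
  have sq : ∀ {d}, d ∈ D → d * d = 1 := fun hd => sq_of_ord (hinv _ hd)
  have iv : ∀ {d}, d ∈ D → d⁻¹ = d := fun hd => inv_eq_of_mul_eq_one_right (sq hd)
  have zp : ∀ y ∈ Subgroup.zpowers t, y = 1 ∨ y = t := fun y hy => by
    classical
    rw [mem_zpowers_iff_mem_range_orderOf, ht] at hy
    simp only [Finset.mem_image, Finset.mem_range] at hy
    obtain ⟨i, hi, rfl⟩ := hy
    interval_cases i <;> simp
  refine ⟨hinv, fun d hd e he => (himg.2 _ ⟨d, hd, rfl⟩ _ ⟨e, he, rfl⟩).imp (fun k => ?_) fun k => ?_⟩
  · rw [← QuotientGroup.mk_mul, ← QuotientGroup.mk_pow, QuotientGroup.eq_one_iff] at k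
    refine (zp _ k).resolve_right fun k => hDt e he ?_
    have := hconj d e he
    rwa [iv hd, show d * e * d = e * t by
      rw [Subgroup.mem_center_iff.1 htZ, ← k, pow_two, mul_assoc _ _ e, mul_assoc d e e, sq he, mul_one]] at this
  · rw [← QuotientGroup.mk_mul, ← QuotientGroup.mk_pow, QuotientGroup.eq_one_iff] at k
    refine (zp _ k).resolve_right fun k => hDt _ (hconj e d hd) ?_
    have := hconj d e he
    rwa [iv hd, show d * e * d = e * d * e⁻¹ * t by
      rw [Subgroup.mem_center_iff.1 htZ, ← k, pow_three, iv he]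
      have s1 : ∀ x, e * (e * x) = x := fun x => by rw [← mul_assoc, sq he, one_mul]
      have s2 : ∀ x, d * (d * x) = x := fun x => by rw [← mul_assoc, sq hd, one_mul]
      simp only [mul_assoc, s1, s2, sq he, mul_one]] at this

end Cfsg.Agent.S5364
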