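import Cfsg.Statements.S5366
import Cfsg.Agent.TT.T6

set_option autoImplicit false
open Cfsg

namespace Cfsg.Agent.S5366

open CfsgTT Cfsg.LineSystem

/-- Let L be a nondegenerate Fischer space on the point type X (every point on a line). Then for every point x the map t(x) — sending a point collinear with x to the third point of their common line and fixing every other point — is a permutation of X of order 2 and an automorphism of the line system; and the set of all t(x) satisfies the 3-transposition order conditions in the permutation group of X (any two have product of order at most 3). -/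
theorem result {X : Type*} (L : Set (Set X)) (hL : Cfsg.IsFischerSpace L) (hnd : Cfsg.LineSystem.IsNondegenerate L) : (∀ x : X, ∃ σ : Equiv.Perm X, ⇑σ = Cfsg.LineSystem.lineMap L x ∧ orderOf σ = 2 ∧ Cfsg.LineSystem.IsIso L L σ) ∧ Cfsg.IsThreeTranspositionSet {σ : Equiv.Perm X | ∃ x : X, ⇑σ = Cfsg.LineSystem.lineMap L x} := by
  have K := lm_sym3 hL.1
  have e := eq_Ln hL.1 hL.2.1
  have d := fischer_dist hL
  generalize lineMap L = op at K e d
  subst e
  have o : ∀ x (σ : Equiv.Perm X), ⇑σ = op x → orderOf σ = 2 := fun x σ k => by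
    refine orderOf_eq_prime (Equiv.ext fun y => by simp [pow_two, k, K.inv]) fun t => ?_
    obtain ⟨l, hl, m⟩ := hnd x
    obtain ⟨y, hy, ne⟩ := Set.exists_ne_of_one_lt_ncard (by rw [K.three l hl]; decide) x
    exact (K.line_eq hl m hy ne.symm).1 (by rw [← k, t]; rfl)
  have im : ∀ x l, l ∈ Ln op → op x '' l ∈ Ln op := by
    rintro x _ ⟨s, t, n, rfl⟩
    refine ⟨op x s, op x t, fun k => n (by rw [← d] at k; rw [← K.inv x (op s t), k, K.inv]), ?_⟩
    rw [← d]
    exact (Set.image_insert_eq.trans (congrArg _ (Set.image_pair _ _ _)) : op x '' {t, s, op s t} = {op x t, op x s, op x (op s t)})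
  refine ⟨fun x => ⟨Function.Involutive.toPerm _ (K.inv x), rfl, o x _ rfl, fun l => ⟨im x l, fun k => ?_⟩⟩,
    fun σ ⟨x, k⟩ => o x σ k, ?_⟩
  · have := im x (op x '' l) k
    rwa [Set.image_image, funext (K.inv x), Set.image_id'] at this
  · rintro σ ⟨x, hx⟩ τ ⟨y, hy⟩
    have s1 := sq_of_ord (o x σ hx)
    have s2 := sq_of_ord (o y τ hy)
    by_cases n : op x y = y
    · exact Or.inl ((comm_iff_sq s1 s2).1 (Equiv.ext fun z => by simp only [Equiv.Perm.mul_apply, hx, hy]; rw [d, n]))
    · refine Or.inr ((braid_iff_cube s1 s2).1 (Equiv.ext fun z => ?_))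
      simp only [Equiv.Perm.mul_apply, hx, hy]
      rw [d, K.inv, d y x, K.inv, K.sym x y n]

end Cfsg.Agent.S5366
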