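import Cfsg.Statements.S5392
import Cfsg.Agent.H7.Le6

set_option autoImplicit false
open Cfsg

namespace Cfsg.Agent.S5392

open CfsgH7 MulAction
open scoped Pointwise symmDiff
set_option maxRecDepth 100000
set_option Elab.async false

open Le

def N : Subgroup Co0 where
  carrier := {g | ∀ v : LL, ∃ w : LL, g • v - v = (2 : ℤ) • w}
  one_mem' := fun v => ⟨0, by simp⟩
  mul_mem' := fun {a b} ha hb v => by
    obtain ⟨w, e⟩ := ha (b • v)
    obtain ⟨z, f⟩ := hb v
    exact ⟨w + z, by rw [smul_add, ← e, ← f, mul_smul]; abel⟩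
  inv_mem' := fun {a} ha v => by
    obtain ⟨w, e⟩ := ha (a⁻¹ • v)
    exact ⟨-w, by rw [smul_neg, ← e, smul_inv_smul]; abel⟩

instance : N.Normal := ⟨fun g hg k v => by
  obtain ⟨w, e⟩ := hg (k⁻¹ • v)
  exact ⟨k • w, by rw [← co_zsmul, ← e, smul_sub, smul_inv_smul, mul_smul, mul_smul]⟩⟩

/-- The Leech lattice modulo twice itself is a faithful irreducible module for the first Conway group: an automorphism of the rank-24 lattice built from the length-24 code that moves every lattice vector only by twice a lattice vector lies in the centre of the automorphism group (the centre consists of ±1, which act trivially there, so the kernel is exactly the centre), and an additive subgroup lying between twice the lattice and the lattice that is invariant under all lattice automorphisms is one of the two. -/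
theorem result : (∀ g : ↥Cfsg.Co0, (∀ v : ↥Cfsg.leechLattice, ∃ w : ↥Cfsg.leechLattice, ((g • v : ↥Cfsg.leechLattice) : Cfsg.GolayPt → ℤ) - (v : Cfsg.GolayPt → ℤ) = 2 • (w : Cfsg.GolayPt → ℤ)) → g ∈ Subgroup.center ↥Cfsg.Co0) ∧ ∀ M : AddSubgroup (Cfsg.GolayPt → ℤ), (∀ v ∈ Cfsg.leechLattice, (2 : ℤ) • v ∈ M) → M ≤ Cfsg.leechLattice → (∀ g : ↥Cfsg.Co0, ∀ v : ↥Cfsg.leechLattice, (v : Cfsg.GolayPt → ℤ) ∈ M → ((g • v : ↥Cfsg.leechLattice) : Cfsg.GolayPt → ℤ) ∈ M) → (∀ x ∈ M, ∃ w ∈ Cfsg.leechLattice, x = (2 : ℤ) • w) ∨ M = Cfsg.leechLattice := by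
  refine ⟨fun g h => ?_, fun M h2 hM hg => ?_⟩
  · rcases normal_Co0 (M := N) (fun v => ⟨-v, by rw [neg1_smul, two_smul]; abel⟩) with e | e
    · rw [← e]
      intro v
      obtain ⟨w, r⟩ := h v
      exact ⟨w, Subtype.ext (r.trans (by simp [two_smul]))⟩
    · obtain ⟨k, r⟩ := trU nm_P
      obtain ⟨w, s⟩ := (e ▸ Subgroup.mem_top k : k ∈ N) lU
      rw [r] at s
      have a := dt_UP
      rcases latL.cong (by rw [dtH_self, nm_P]; norm_num) (by rw [dtH_self, nm_U]; norm_num) s with t | t | t
      · rw [t, dt_self, nm_U] at a; omega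
      · rw [t, dt_neg, dt_self, nm_U] at a; omega
      · rw [dtH_self, nm_P] at t; omega
  · refine (em _).imp_right fun hn => le_antisymm hM ?_
    push Not at hn
    obtain ⟨x, hx, hn⟩ := hn
    obtain ⟨y, a, z, b⟩ := mainL.1 ⟨x, hM hx⟩
    have b' : x - y = (2 : ℤ) • (z : V24) := congrArg Subtype.val b
    have hy : (y : V24) ∈ M := by
      rw [show (y : V24) = x - (2 : ℤ) • (z : V24) by rw [← b']; abel]
      exact sub_mem hx (h2 _ z.2)
    have all : ∀ v : LL, nm v = nm y → (v : V24) ∈ M := fun v e => by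
      obtain ⟨g, rfl⟩ := same_norm e.symm a
      exact hg g y hy
    have y0 : y ≠ 0 := by
      rintro rfl
      exact hn z z.2 (by simpa using b')
    have fin : ∀ u : LL, nm u = 32 → (u : V24) ∈ M → leechLattice ≤ M := fun u hu h => by
      rw [← closure_min, AddSubgroup.closure_le]
      intro v hv
      obtain ⟨g, e⟩ := same_norm (v := u) (w := ⟨v, hv.1⟩) (hu.trans hv.2.symm) (by omega)
      have := hg g u h
      rwa [e] at this
    have := nm_min y0
    have : (16 : ℤ) ∣ nm y := leech_even y.2
    have : nm y = 32 ∨ nm y = 48 ∨ nm y = 64 := by omega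
    rcases this with e | e | e
    · exact fin y e hy
    · refine fin lP nm_P ?_
      rw [show (lP : V24) = ((lV + lP : LL) : V24) - lV by simp]
      exact sub_mem (all _ (by rw [nm_add, nm_V, nm_P, dt_VP, e]; rfl)) (all _ (nm_V.trans e.symm))
    · have g := gd_spec (c := 0x5290a429085214a421084210842908) (by decide +kernel)
      have n1 : nm (vec 0x5290a429085214a421084210842908) = 32 := g.norm (k := 4640) (by decide +kernel)
      have n2 : dt (vec cU) (vec 0x5290a429085214a421084210842908) = 8 := gU.dot g (k := 4616) (by decide +kernel)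
      have n3 : dt (vec cP) (vec 0x5290a429085214a421084210842908) = 8 := gP.dot g (k := 4616) (by decide +kernel)
      rw [vec_U] at n2
      rw [vec_P] at n3
      have n4 : nm (lU + lP) = 64 := by rw [nm_add, nm_U, nm_P, dt_UP]; rfl
      refine fin _ n1 ?_
      rw [show (vec 0x5290a429085214a421084210842908 : V24) = ((lU + lP : LL) : V24) - ((lU + lP - vec 0x5290a429085214a421084210842908 : LL) : V24) by simp]
      exact sub_mem (all _ (n4.trans e.symm)) (all _ (by rw [nm_sub, n4, n1, add_dt, n2, n3, e]; rfl))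

end Cfsg.Agent.S5392
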