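import Cfsg.Statements.S5393
import Cfsg.Agent.H7.Mj

set_option autoImplicit false
open Cfsg

namespace Cfsg.Agent.S5393

open CfsgH7 MulAction
open scoped Pointwise symmDiff
set_option maxRecDepth 100000
set_option Elab.async false


/-- The length-24 code built from the squares modulo 23 contains the all-ones word, and the code modulo the all-ones word is an irreducible module over the field with two elements for the code's automorphism group: a subspace of the code that contains the all-ones word and is invariant under every coordinate permutation preserving the code is either the span of the all-ones word or the whole code. -/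
theorem result : (fun _ : Cfsg.GolayPt => (1 : ZMod 2)) ∈ Cfsg.golayCode ∧ ∀ W : Submodule (ZMod 2) (Cfsg.GolayPt → ZMod 2), (fun _ => (1 : ZMod 2)) ∈ W → W ≤ Cfsg.golayCode → (∀ σ ∈ Cfsg.M24, ∀ w ∈ W, (fun p => w (σ.symm p)) ∈ W) → W = Submodule.span (ZMod 2) {fun _ => (1 : ZMod 2)} ∨ W = Cfsg.golayCode := by
  refine ⟨support_mem_Cw.mp (supp_one ▸ Cw_univ), fun W h1 hle hW => ?_⟩
  by_cases h : ∃ w ∈ W, support₂ w ≠ ∅ ∧ support₂ w ≠ Finset.univ
  · obtain ⟨w, hw, h2, h3⟩ := h
    refine Or.inr (le_antisymm hle fun c hc => ?_)
    obtain ⟨v, hv, e⟩ := (invF_sub hW).code (support_mem_Cw.mpr (hle hw)) ⟨w, hw, rfl⟩ h2 h3 _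
      (support_mem_Cw.mpr hc)
    exact support_inj e ▸ hv
  · refine Or.inl (le_antisymm (fun w hw => ?_) ((Submodule.span_singleton_le_iff_mem _ _).mpr h1))
    by_cases h2 : support₂ w = ∅
    · rw [support_inj (h2.trans supp_zero.symm)]; exact zero_mem _
    · have : support₂ w = Finset.univ := by_contra fun h3 => h ⟨w, hw, h2, h3⟩
      rw [support_inj (this.trans supp_one.symm)]; exact Submodule.mem_span_singleton_self _

end Cfsg.Agent.S5393
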