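import Cfsg.Statements.S5394
import Cfsg.Agent.H7.Mg

set_option autoImplicit false
open Cfsg

namespace Cfsg.Agent.S5394

open CfsgH7 MulAction
open scoped Pointwise symmDiff
set_option maxRecDepth 100000
set_option Elab.async false


/-- The automorphism group of the length-24 code built from the squares modulo 23 has exactly two conjugacy classes of involutions: an involution either fixes exactly the eight points of an octad or has no fixed points, both kinds occur, and any two involutions of the same kind are conjugate in the group. -/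
theorem result : (∀ g ∈ Cfsg.M24, orderOf g = 2 → (Finset.univ.filter fun p => g p = p) ∈ Cfsg.octads ∨ ∀ p, g p ≠ p) ∧ (∃ g ∈ Cfsg.M24, orderOf g = 2 ∧ (Finset.univ.filter fun p => g p = p) ∈ Cfsg.octads) ∧ (∃ g ∈ Cfsg.M24, orderOf g = 2 ∧ ∀ p, g p ≠ p) ∧ ∀ g ∈ Cfsg.M24, ∀ h ∈ Cfsg.M24, orderOf g = 2 → orderOf h = 2 → ((∀ p, g p ≠ p) ↔ (∀ p, h p ≠ p)) → ∃ k ∈ Cfsg.M24, k * g * k⁻¹ = h := by
  refine ⟨fun g hg h => ?_, ⟨elM zA, (elM zA).2, by rw [Subgroup.orderOf_coe, zA_ord], ?_⟩,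
    ⟨elM zB, (elM zB).2, by rw [Subgroup.orderOf_coe, zB_ord], fx_empty.mp zB_card⟩,
    fun g hg h hh og oh e => ?_⟩
  · lift g to M24 using hg
    rw [Subgroup.orderOf_coe] at h
    rcases cls2 h with ⟨k, rfl⟩ | ⟨k, rfl⟩
    · left
      show fx _ ∈ octads
      rw [fx_conjM, zA_fx]
      exact (octM k _).mpr o0_mem
    · exact Or.inr (fx_empty.mp (by rw [fx_conjM, cardM, zB_card]))
  · show fx _ ∈ octads
    rw [zA_fx]; exact o0_mem
  · lift g to M24 using hg
    lift h to M24 using hh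
    rw [Subgroup.orderOf_coe] at og oh
    rw [← fx_empty, ← fx_empty] at e
    by_cases h0 : (fx g).card = 0
    · obtain ⟨a, rfl⟩ := cls2B og h0
      obtain ⟨b, rfl⟩ := cls2B oh (e.mp h0)
      exact ⟨(b * a⁻¹ : M24), (b * a⁻¹).2, by push_cast; group⟩
    · obtain ⟨a, rfl⟩ := cls2A og h0
      obtain ⟨b, rfl⟩ := cls2A oh (mt e.mpr h0)
      exact ⟨(b * a⁻¹ : M24), (b * a⁻¹).2, by push_cast; group⟩

end Cfsg.Agent.S5394
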