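import Cfsg.Statements.S5405
import Cfsg.Agent.H5.OrthMat

set_option autoImplicit false
open scoped MatrixGroups
open Cfsg

namespace Cfsg.Agent.S5405

open CfsgH5 CfsgH5.Form Matrix
set_option maxRecDepth 100000
set_option synthInstance.maxSize 2000
set_option synthInstance.maxHeartbeats 400000
theorem z2 : ∀ x : ZMod 2, x ≠ 0 → x = 1 := by decide
theorem key {V : Type*} [AddCommGroup V] [Module (ZMod 2) V] [FiniteDimensional (ZMod 2) V] {S : Form (orthParam (ZMod 2)) V} (hS : S.Nondeg)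
    (hg : ∀ K : Subgroup (V ≃ₗ[ZMod 2] V), (∀ x y, S.Q x = 1 → S.Q y = 1 → S.rf x * S.rf y ∈ K) → S.om ≤ K)
    {n : ℕ} (α β : Fin (n + 1) → V) (nb : Fin (n + 1) → Fin (n + 1)) (ht : V → ℕ)
    (h1 : ∀ i, S.Q (α i) = 1) (h2 : ∀ i, S.B (α i) (α (nb i)) = 1)
    (h3 : ∀ i, nb (nb i) = i ∨ S.B (α i) (α (nb (nb i))) = 0 ∧ α i ≠ α (nb (nb i))) (h4 : ∀ i, i ≠ 0 → nb i < i)
    (h5 : ∀ i j, S.B (β i) (α j) = if i = j then 1 else 0)
    (h6 : ∀ x, S.Q x = 1 → (∃ i, x = α i) ∨ ∃ i, S.B x (α i) = 1 ∧ ht (x + α i) < ht x)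
    (F : (V ≃ₗ[ZMod 2] V) → V) (hF : ∀ g ∈ S.om, ∀ h ∈ S.om, F (g * h) = F g + g (F h)) : ∃ v, ∀ g ∈ S.om, F g = g v - v := by
  have r : ∀ {x}, S.Q x = 1 → ∀ v, S.rf x v = v + S.B v x • x := fun hx v => by
    rw [rf_apply, hx, inv_one, one_mul, ZModModule.sub_eq_add]
  have bx : ∀ x, S.B x x = 0 := fun x => by rw [orth_self, show (2 : ZMod 2) = 0 from rfl, zero_mul]
  have m : ∀ {x y}, S.Q x = 1 → S.Q y = 1 → S.rf x * S.rf y ∈ S.om := fun hx hy =>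
    hS.rf_mul_rf_mem_om one_ne_zero (by simp [hx, hy])
  have F1 : F 1 = 0 := by simpa using hF 1 (one_mem _) 1 (one_mem _)
  have tri : ∀ {x y z}, S.Q x = 1 → S.Q y = 1 → S.Q z = 1 → F (S.rf x * S.rf z) = F (S.rf x * S.rf y) + S.rf x (S.rf y (F (S.rf y * S.rf z))) :=
    fun {x y z} hx hy hz => by
      rw [show S.rf x * S.rf z = (S.rf x * S.rf y) * (S.rf y * S.rf z) by rw [mul_assoc, ← mul_assoc (S.rf y), rf_mul_self, one_mul],
        hF _ (m hx hy) _ (m hy hz)]; rfl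
  have cj : ∀ {x y}, S.Q x = 1 → S.B y x = 1 → S.rf x * S.rf y = S.rf (y + x) * S.rf x := fun {x y} hx h => by
    have := conj_rf (S.rf_mem x) y
    rw [r hx, h, one_smul] at this
    exact eq_mul_of_mul_inv_eq this
  have qa : ∀ {x y}, S.Q x = 1 → S.Q y = 1 → S.B x y = 1 → S.Q (x + y) = 1 := fun hx hy h => by rw [Q_add, hx, hy, h]; rfl
  have A : ∀ {x y}, S.Q x = 1 → S.Q y = 1 → S.B x y = 1 →
      F (S.rf x * S.rf y) = S.B (F (S.rf x * S.rf y)) x • y + S.B (F (S.rf x * S.rf y)) y • x := fun {x y} hx hy h => by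
    have h' := (S.orth_symm x y).trans h
    have hw := qa hy hx h'
    have e1 := cj hx h'
    have e2 := cj (y := x) hw (by simp [h, bx])
    rw [add_comm y, ← add_assoc, ZModModule.add_self, zero_add, add_comm x] at e2
    have t := tri hx hw hx
    rw [tri hx hy hw, ← e2, ← e1, rf_mul_self, F1] at t
    generalize F (S.rf x * S.rf y) = c at *
    simp only [r hx, r hy, r hw, add_left, add_right, smul_left, h, h', bx] at t
    generalize S.B c x = p at *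
    generalize S.B c y = q at *
    rw [← sub_eq_zero, t]
    clear * -
    match_scalars <;> first | rfl | (revert p q; decide)
  have sw : ∀ {x y}, S.Q x = 1 → S.Q y = 1 → S.rf y (F (S.rf y * S.rf x)) = S.rf x (F (S.rf x * S.rf y)) := fun {x y} hx hy => by
    have t := tri hx hy hx
    rw [rf_mul_self, F1, eq_comm, add_eq_zero_iff_eq_neg, ZModModule.neg_eq_self] at t
    rw [t, rf_rf]
  have B' : ∀ {x y z}, S.Q x = 1 → S.Q y = 1 → S.Q z = 1 → S.B y x = 1 → S.B z x = 1 → S.B y z = 0 → y ≠ z →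
      S.B (F (S.rf y * S.rf x)) y = S.B (F (S.rf z * S.rf x)) z := fun {x y z} hx hy hz a b c ne => by
    have t := hF _ (m hy hz) _ (m hy hz)
    rw [show S.rf y * S.rf z * (S.rf y * S.rf z) = 1 by rw [mul_assoc, ← mul_assoc (S.rf z), ← rf_comm c, mul_assoc, rf_mul_self, mul_one, rf_mul_self],
      F1, LinearEquiv.mul_apply, r hy, r hz] at t
    have c' := (S.orth_symm y z).trans c
    have u : S.B (F (S.rf y * S.rf z)) y = 0 := by
      generalize F (S.rf y * S.rf z) = d at *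
      simp only [add_left, smul_left, c', mul_zero, add_zero, ← add_assoc, ZModModule.add_self, zero_add] at t
      by_contra k
      rw [z2 _ k, one_smul, eq_comm, add_eq_zero_iff_eq_neg, ZModModule.neg_eq_self] at t
      by_cases l : S.B d z = 0
      · simp [← t, l] at a
      · exact ne (by rw [← t, z2 _ l, one_smul])
    rw [tri hy hx hz, sw hz hx, A hy hx a, A hz hx b] at u
    generalize S.B (F (S.rf y * S.rf x)) y = p1 at *
    generalize S.B (F (S.rf y * S.rf x)) x = p2 at *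
    generalize S.B (F (S.rf z * S.rf x)) z = p3 at *
    generalize S.B (F (S.rf z * S.rf x)) x = p4 at *
    simp only [r hy, r hz, add_left, smul_left, bx, c', (S.orth_symm y x).trans a, (S.orth_symm z x).trans b] at u
    clear * - u
    revert p1 p2 p3 p4; decide
  let φ := fun i => S.B (F (S.rf (α (nb i)) * S.rf (α i))) (α (nb i))
  obtain ⟨v, hv⟩ : ∃ v, ∀ j, S.B v (α j) = φ j := ⟨∑ i, φ i • β i, fun j => by simp [sum_left, h5]⟩
  let K : Subgroup (V ≃ₗ[ZMod 2] V) :=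
    { carrier := {g | g ∈ S.om ∧ F g = g v - v}
      mul_mem' := fun {a b} ha hb => ⟨mul_mem ha.1 hb.1, by rw [hF _ ha.1 _ hb.1, ha.2, hb.2]; simp⟩
      one_mem' := ⟨one_mem _, by simp [F1]⟩
      inv_mem' := fun {a} ha => ⟨inv_mem ha.1, by
        have := hF _ (inv_mem ha.1) _ ha.1
        rw [inv_mul_cancel, F1, ha.2, map_sub, ← LinearEquiv.mul_apply, inv_mul_cancel, eq_comm, add_eq_zero_iff_eq_neg] at this
        simp [this]⟩ }
  have ed : ∀ i, S.rf (α (nb i)) * S.rf (α i) ∈ K := fun i => ⟨m (h1 _) (h1 _), by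
    have a := h2 i
    have a' := (S.orth_symm _ _).trans a
    have b : φ (nb i) = S.B (F (S.rf (α i) * S.rf (α (nb i)))) (α i) := by
      rcases h3 i with e | ⟨e, ne⟩
      · simp only [φ, e]
      · exact (B' (h1 _) (h1 _) (h1 _) a ((S.orth_symm _ _).trans (h2 _)) e ne).symm
    have s := congrArg (S.B · (α i)) (sw (h1 i) (h1 (nb i)))
    rw [LinearEquiv.mul_apply, r (h1 _), r (h1 _), A (h1 _) (h1 _) a']
    simp only [r (h1 _), add_left, smul_left, bx, a, a', hv, b, φ] at s ⊢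
    simp only [mul_zero, add_zero, mul_one] at s
    rw [← s]
    generalize S.B (F (S.rf (α (nb i)) * S.rf (α i))) (α i) = p
    generalize S.B (F (S.rf (α (nb i)) * S.rf (α i))) (α (nb i)) = q
    clear * -
    match_scalars <;> first | rfl | (revert p q; decide)⟩
  have R0 : ∀ i, S.rf (α i) * S.rf (α 0) ∈ K := fun i => by
    induction i using WellFoundedLT.induction with | ind i ih =>
    by_cases h : i = 0
    · rw [h, rf_mul_self]; exact one_mem _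
    · simpa [mul_assoc, rf_inv, ← mul_assoc (S.rf (α (nb i))), rf_mul_self] using mul_mem (inv_mem (ed i)) (ih _ (h4 i h))
  have R : ∀ k x, ht x = k → S.Q x = 1 → S.rf x * S.rf (α 0) ∈ K := fun k => by
    induction k using Nat.strong_induction_on with | _ k ih =>
    intro x e hx
    rcases h6 x hx with ⟨i, rfl⟩ | ⟨i, a, b⟩
    · exact R0 i
    have := cj (y := x + α i) (h1 i) (by simp [a, bx])
    rw [add_assoc, ZModModule.add_self, add_zero] at this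
    rw [← mul_inv_eq_iff_eq_mul.2 this, rf_inv]
    have := mul_mem (mul_mem (R0 i) (inv_mem (ih _ (e ▸ b) _ rfl (qa hx (h1 i) a)))) (R0 i)
    simpa [mul_assoc, rf_inv, ← mul_assoc (S.rf (α 0)), rf_mul_self] using this
  exact ⟨v, fun g h => (hg K (fun x y hx hy => by simpa [mul_assoc, rf_inv, ← mul_assoc (S.rf (α 0)), rf_mul_self] using mul_mem (R _ x rfl hx) (inv_mem (R _ y rfl hy))) h).2⟩
theorem br {ι : Type} [Fintype ι] [DecidableEq ι] {Q : (ι → ZMod 2) → ZMod 2} {S : Form (orthParam (ZMod 2)) (ι → ZMod 2)} (h : ∀ v, S.Q v = Q v)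
    (k : ∀ F : ((ι → ZMod 2) ≃ₗ[ZMod 2] (ι → ZMod 2)) → ι → ZMod 2, (∀ g ∈ S.om, ∀ h ∈ S.om, F (g * h) = F g + g (F h)) → ∃ v, ∀ g ∈ S.om, F g = g v - v)
    (f : Omega (ZMod 2) Q → ι → ZMod 2) (hf : ∀ g h, f (g * h) = f g + (g.1.1 : Matrix ι ι (ZMod 2)) *ᵥ f h) :
    ∃ v, ∀ g, f g = (g.1.1 : Matrix ι ι (ZMod 2)) *ᵥ v - v := by
  classical
  have e : ∀ g, f g = (fun t => if k : t ∈ S.om then f ((omEquiv h).symm ⟨t, k⟩) else 0) (omEquiv h g).1 := fun g => by simp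
  obtain ⟨v, hv⟩ := k (fun t => if k : t ∈ S.om then f ((omEquiv h).symm ⟨t, k⟩) else 0) fun a ha b hb => by
    obtain ⟨a, e1⟩ := (omEquiv h).surjective ⟨a, ha⟩
    obtain ⟨b, e2⟩ := (omEquiv h).surjective ⟨b, hb⟩
    obtain rfl := congrArg Subtype.val e1
    obtain rfl := congrArg Subtype.val e2
    simp only [] at e
    rw [← Subgroup.coe_mul, ← map_mul, ← e, ← e, ← e, hf]; rfl
  exact ⟨v, fun g => (e g).trans (hv _ (omEquiv h g).2)⟩

def dc {ι : Type} (e : ι → ℕ) (a : ℕ) (i : ι) : ZMod 2 := (a >>> e i : ℕ)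
def hh {ι : Type} [Fintype ι] (e : ι → ℕ) (T : ℕ) (x : ι → ZMod 2) : ℕ := T >>> (5 * ∑ i, (x i).val * 2 ^ e i) % 32
def eM (m : ℕ) : (Fin m ⊕ Fin m) ⊕ Fin 2 → ℕ := Sum.elim (Sum.elim (·) (m + ·)) (2 * m + ·)
def eP (m : ℕ) : Fin m ⊕ Fin m → ℕ := Sum.elim (·) (m + ·)
theorem sj {ι : Type} [Fintype ι] [DecidableEq ι] (e : ι → ℕ) (N : ℕ) (h : Fintype.card (ι → ZMod 2) ≤ N)
    (k : ∀ a < N, ∑ i, (dc e a i).val * 2 ^ e i = a) {P : (ι → ZMod 2) → Prop} (p : ∀ a < N, P (dc e a)) (x) : P x := by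
  obtain ⟨a, rfl⟩ := ((Fintype.bijective_iff_injective_and_card (fun a : Fin (Fintype.card (ι → ZMod 2)) => dc e a)).2
    ⟨fun a b q => Fin.ext (by rw [← k _ (a.2.trans_le h), ← k _ (b.2.trans_le h)]; simp only [q]), by simp⟩).2 x
  exact p _ (a.2.trans_le h)

/-- Vanishing of first cohomology on the natural module for three small orthogonal groups over the field with two elements: for the commutator subgroup of the isometry group of the elliptic quadratic form in dimension 4, of the elliptic form in dimension 6, and of the hyperbolic form in dimension 8, every crossed homomorphism into the natural module (a map f with f(gh) = f(g) + g·f(h)) is principal (of the form g ↦ g·v − v). -/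
theorem result : (∀ f : ↥(Cfsg.Omega (ZMod 2) (Cfsg.quadFormMinus 1 (ZMod 2) 1 1)) → ((Fin 1 ⊕ Fin 1) ⊕ Fin 2 → ZMod 2), (∀ g h : ↥(Cfsg.Omega (ZMod 2) (Cfsg.quadFormMinus 1 (ZMod 2) 1 1)), f (g * h) = f g + Matrix.mulVec (((g : ↥(Cfsg.isometryGroup (ZMod 2) (Cfsg.quadFormMinus 1 (ZMod 2) 1 1))) : GL ((Fin 1 ⊕ Fin 1) ⊕ Fin 2) (ZMod 2)) : Matrix ((Fin 1 ⊕ Fin 1) ⊕ Fin 2) ((Fin 1 ⊕ Fin 1) ⊕ Fin 2) (ZMod 2)) (f h)) → ∃ v : (Fin 1 ⊕ Fin 1) ⊕ Fin 2 → ZMod 2, ∀ g : ↥(Cfsg.Omega (ZMod 2) (Cfsg.quadFormMinus 1 (ZMod 2) 1 1)), f g = Matrix.mulVec (((g : ↥(Cfsg.isometryGroup (ZMod 2) (Cfsg.quadFormMinus 1 (ZMod 2) 1 1))) : GL ((Fin 1 ⊕ Fin 1) ⊕ Fin 2) (ZMod 2)) : Matrix ((Fin 1 ⊕ Fin 1) ⊕ Fin 2) ((Fin 1 ⊕ Fin 1) ⊕ Fin 2) (ZMod 2)) v - v) ∧ (∀ f : ↥(Cfsg.Omega (ZMod 2) (Cfsg.quadFormMinus 2 (ZMod 2) 1 1)) → ((Fin 2 ⊕ Fin 2) ⊕ Fin 2 → ZMod 2), (∀ g h : ↥(Cfsg.Omega (ZMod 2) (Cfsg.quadFormMinus 2 (ZMod 2) 1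 1)), f (g * h) = f g + Matrix.mulVec (((g : ↥(Cfsg.isometryGroup (ZMod 2) (Cfsg.quadFormMinus 2 (ZMod 2) 1 1))) : GL ((Fin 2 ⊕ Fin 2) ⊕ Fin 2) (ZMod 2)) : Matrix ((Fin 2 ⊕ Fin 2) ⊕ Fin 2) ((Fin 2 ⊕ Fin 2) ⊕ Fin 2) (ZMod 2)) (f h)) → ∃ v : (Fin 2 ⊕ Fin 2) ⊕ Fin 2 → ZMod 2, ∀ g : ↥(Cfsg.Omega (ZMod 2) (Cfsg.quadFormMinus 2 (ZMod 2) 1 1)), f g = Matrix.mulVec (((g : ↥(Cfsg.isometryGroup (ZMod 2) (Cfsg.quadFormMinus 2 (ZMod 2) 1 1))) : GL ((Fin 2 ⊕ Fin 2) ⊕ Fin 2) (ZMod 2)) : Matrix ((Fin 2 ⊕ Fin 2) ⊕ Fin 2) ((Fin 2 ⊕ Fin 2) ⊕ Fin 2) (ZMod 2)) v - v) ∧ (∀ f : ↥(Cfsg.Omega (ZMod 2) (Cfsg.quadFormPlus 4 (ZMod 2))) → (Fin 4 ⊕ Fin 4 → ZMod 2), (∀ g h : ↥(Cfsg.Omega (ZMod 2) (Cfsg.quadFormPlus 4 (ZMod 2))), f (g * h) = f g + Matrix.mulVec (((g : ↥(Cfsg.isometryGroup (ZMod 2) (Cfsg.quadFormPlus 4 (ZMod 2)))) : GL (Fin 4 ⊕ Fin 4) (ZMod 2)) : Matrix (Fin 4 ⊕ Fin 4) (Fin 4 ⊕ Fin 4) (ZMod 2)) (f h)) → ∃ v :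 Fin 4 ⊕ Fin 4 → ZMod 2, ∀ g : ↥(Cfsg.Omega (ZMod 2) (Cfsg.quadFormPlus 4 (ZMod 2))), f g = Matrix.mulVec (((g : ↥(Cfsg.isometryGroup (ZMod 2) (Cfsg.quadFormPlus 4 (ZMod 2)))) : GL (Fin 4 ⊕ Fin 4) (ZMod 2)) : Matrix (Fin 4 ⊕ Fin 4) (Fin 4 ⊕ Fin 4) (ZMod 2)) v - v) := by
  refine ⟨?_, ?_, ?_⟩
  · refine br (minusForm_Q 1 1 1) (key (n := 3) (minusForm_nondeg' 1 (by decide)) (fun K h => ((minusForm_nondeg' 1 (by decide)).om_le_EG ((minusForm_hypFam (F := ZMod 2) 1 1 1).isHyp 0) (by simp)).trans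
      ((Subgroup.closure_le _).2 (by
        rintro _ ⟨u, w, l, E, rfl⟩
        by_cases k : l = 0
        · have : u = 0 ∨ w = 0 ∨ w = u := (by simp only [minusForm_Q, minusForm_B]; decide +kernel : ∀ u w, (minusForm 1 (ZMod 2) 1 1).Q u = 0 →
            (minusForm 1 (ZMod 2) 1 1).Q w = 0 → (minusForm 1 (ZMod 2) 1 1).B w u = 0 → u = 0 ∨ w = 0 ∨ w = u) u w E.Qu_eq (E.Q_eq.trans k) E.perp
          rcases this with rfl | rfl | rfl
          · rw [show eich E = 1 from LinearEquiv.ext fun x => by simp [orth_eich_apply]]; exact one_mem K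
          · rw [eich_eq_one_of_mem E (zero_mem _)]; exact one_mem K
          · rw [eich_eq_one_of_mem E (Submodule.mem_span_singleton_self _)]; exact one_mem K
        · rw [eich_eq_rf E k]
          refine h _ _ ?_ (E.Q_eq.trans (z2 _ k))
          rw [z2 _ k, one_smul, ZModModule.sub_eq_add, Q_add, E.Q_eq, E.Qu_eq, E.perp, z2 _ k]; rfl))) (fun i => dc (eM 1) (![8, 4, 10, 3] i)) (fun i => dc (eM 1) (![7, 8, 3, 2] i))
      ![1, 0, 1, 2] (hh (eM 1) 0x441000200086000000) ?_ ?_ ?_ (by decide) ?_ (sj (eM 1) 16 (by simp) (by decide +kernel) ?_)) <;>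
    simp only [minusForm_Q, minusForm_B] <;> decide +kernel
  · refine br (minusForm_Q 2 1 1) (key (n := 5) (minusForm_nondeg' 2 (by decide)) (fun K h => (minusForm_nondeg' 2 (by decide)).om_le_of_rf (.inr (by simp)) fun x y a b => h x y (z2 _ a) (z2 _ (b ▸ a))) (fun i => dc (eM 2) (![32, 16, 40, 10, 13, 14] i)) (fun i => dc (eM 2) (![30, 32, 14, 13, 4, 5] i))
      ![1, 0, 1, 2, 3, 2] (hh (eM 2) 0x18003000c1008053888110002000e0004064046020004000a200c0430ca000000480000814000000) ?_ ?_ ?_ (by decide) ?_ (sj (eM 2) 64 (by simp) (by decide +kernel) ?_)) <;>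
    simp only [minusForm_Q, minusForm_B] <;> decide +kernel
  · refine br (plusForm_Q 4) (key (n := 7) (plusForm_nondeg 4) (fun K h => (plusForm_nondeg 4).om_le_of_rf (.inr (by simp)) fun x y a b => h x y (z2 _ a) (z2 _ (b ▸ a))) (fun i => dc (eP 4) (![136, 196, 168, 34, 232, 68, 216, 69] i)) (fun i => dc (eP 4) (![163, 136, 103, 32, 69, 216, 1, 16] i))
      ![1, 0, 1, 2, 3, 4, 5, 4] (hh (eP 4) 0x11a0280123800c04120d480000040001022100070120044000340c4016000000186d638d0000000300132800e03d000196000021000c028c00e40000480103c0a381406016010af52854000000000003000d03d4078002040e0000e12940000314208000380b4814000c14301603092100000ccc00000000392001580045000406031000dc40018c0020000401206814038180202a000000000000000000000) ?_ ?_ ?_ (by decide) ?_ (sj (eP 4) 256 (by simp) (by decide +kernel) ?_)) <;>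
    simp only [plusForm_Q, plusForm_B] <;> decide +kernel

end Cfsg.Agent.S5405
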