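import Cfsg.Statements.S5420
import Cfsg.Agent.H2.Large

set_option autoImplicit false
open Cfsg

namespace Cfsg.Agent.S5420
open Subgroup CfsgH2
open scoped commutatorElement

/-- Let Q be an extraspecial 2-subgroup of the finite group G whose centralizer in G is its centre Z and which is normal in the centralizer of Z. If Z lies in the largest normal 2-subgroup of G, then Q is a large extraspecial 2-subgroup of G: it normalizes no non-trivial subgroup of G of odd order. -/
theorem result {G : Type*} [Group G] [Finite G] (Q : Subgroup G) (hL1 : Cfsg.IsExtraspecial 2 ↥Q) (hL2 : Subgroup.centralizer (Q : Set G) = ((Subgroup.center ↥Q).map Q.subtype)) (hL3 : Subgroup.centralizer (((Subgroup.center ↥Q).map Q.subtype) : Set G) ≤ Subgroup.normalizer (Q : Set G)) (hZ : ((Subgroup.center ↥Q).map Q.subtype) ≤ Cfsg.pCore 2 G) : Cfsg.IsLargeExtraspecial Q := by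
  obtain ⟨z, h⟩ := LX.of_extraspecial hL1 hL2 hL3
  rw [h.map_center] at hZ
  have hz := hZ (mem_zpowers z)
  refine h.large fun K hK hn => eq_bot_iff.2 fun k hk => mem_bot.2 (h.eq_one_of_odd hK hn hk ?_)
  refine commute_of_comm_eq_one (eq_one_of_odd_of_mem (CfsgH1.isPGroup_pCore 2 G) (mul_mem
    (Normal.conj_mem inferInstance _ hz k) (inv_mem hz)) (odd_orderOf_of_mem hK ?_))
  have := mul_mem hk (conj_mem_of_mem_normalizer (hn h.mem) (inv_mem hk))
  simpa [mul_assoc] using this


end Cfsg.Agent.S5420
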