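import Cfsg.Statements.S5423
import Cfsg.Agent.H5.Tv1

set_option autoImplicit false
open Cfsg

namespace Cfsg.Agent.S5423

open CfsgH5 Module Subgroup
open scoped IsMulCommutative

/-- Let G be a finite group that is the split extension of an elementary abelian normal subgroup U of order 2^(n+1), n ≥ 1, by its full automorphism group: U has a complement M in G whose conjugation action on U is faithful and realizes every automorphism of U. Let Z be a subgroup of U of order 2 and Q the largest normal 2-subgroup of the centralizer C of Z. Then Q is extraspecial of order 2^(2n+1) with an elementary abelian subgroup of order 2^(n+1) (plus type), Q is a large extraspecial 2-subgroup of G, and C is the split extension of Q by the general linear group of degree n over the field with two elements. -/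
theorem result {G : Type*} [Group G] [Finite G] (n : ℕ) (hn : 1 ≤ n) (U M : Subgroup G) [U.Normal] (hU : Cfsg.IsElementaryAbelian 2 U) (hUcard : Nat.card ↥U = 2 ^ (n + 1)) (hUM : U ⊓ M = ⊥) (hUM' : U ⊔ M = ⊤) (hfaith : ∀ m ∈ M, (∀ u ∈ U, m * u * m⁻¹ = u) → m = 1) (hfull : ∀ φ : ↥U ≃* ↥U, ∃ m ∈ M, ∀ u : ↥U, ((φ u : ↥U) : G) = m * u * m⁻¹) (Z : Subgroup G) (hZU : Z ≤ U) (hZ : Nat.card ↥Z = 2) (Q : Subgroup G) (hQ : Q = (Cfsg.pCore 2 ↥(Subgroup.centralizer (Z : Set G))).map (Subgroup.centralizer (Z : Set G)).subtype) : Cfsg.IsExtraspecial 2 ↥Q ∧ Nat.card ↥Q = 2 ^ (2 * n + 1) ∧ (∃ E : Subgroup G, E ≤ Q ∧ Cfsg.IsElementaryAbelian 2 E ∧ Nat.card ↥E = 2 ^ (n + 1)) ∧ Cfsg.IsLargeExtraspecial Q ∧ ∃ K : Subgroup G, K ≤ Subgroup.centralizer (Z : Set G) ∧ Q ⊓ K = ⊥ ∧ Q ⊔ K = Subgroup.centralizer (Z : Set G) ∧ Nonempty (↥K ≃* Matrix.GeneralLinearGroup (Fin n) (ZMod 2)) := by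
  have := hU.1
  letI : Module (ZMod 2) (Additive U) := AddCommGroup.zmodModule fun x =>
    Additive.toMul.injective (Subtype.ext (hU.2 _ x.toMul.2))
  obtain ⟨ρ, h1, h2, h3⟩ := exists_affine hUM hUM' hfaith hfull
  have : IsCyclic Z := isCyclic_of_prime_card hZ
  obtain ⟨z, rfl⟩ := (Z.isCyclic_iff_exists_zpowers_eq_top).1 this
  have hz : z ≠ 1 := fun e => by simp [e] at hZ
  have hc : centralizer (zpowers z : Set G) = centralizer {z} := by
    rw [zpowers_eq_closure, centralizer_closure]
  rw [hc] at hQ ⊢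
  refine tv_main ρ h1 (h2 ⟨z, hZU (mem_zpowers z)⟩) rfl (fun e => by simpa using LinearMap.congr_fun e (0, 1))
    (fun e => hz (congrArg (fun x => x.1.toMul.1) e)) (fun g hg => h3 g hg.2) hn ?_ hQ
  have e := Module.natCard_eq_pow_finrank (K := ZMod 2) (V := Additive U)
  rw [Nat.card_congr Additive.toMul, hUcard, Nat.card_zmod] at e
  rw [finrank_prod, ← Nat.pow_right_injective le_rfl e, finrank_self]

end Cfsg.Agent.S5423
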