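import Cfsg.Statements.S5426
import Cfsg.Agent.H2.Large2

set_option autoImplicit false
open Cfsg

namespace Cfsg.Agent.S5426
open Subgroup CfsgH2
open scoped commutatorElement

/-- Let Q be a large extraspecial 2-subgroup of the finite group G (extraspecial; centralizer equal to its centre; normal in the centralizer of its centre; normalizing no non-trivial subgroup of odd order) with centre generated by z, and let M be the normal closure of z in G. Then one of the following holds: Q is normal in G; or M is abelian and the generalized Fitting subgroup of G is its largest normal 2-subgroup; or M is the generalized Fitting subgroup of G and is a non-abelian simple group; or M is the generalized Fitting subgroup of G and is the direct product of a non-abelian simple subgroup L and its conjugate u L u⁻¹ by some u in Q (the two meet trivially and commute elementwise), with z = z₁ (u z₁ u⁻¹) for some z₁ in L whose centralizer in L is a Sylow 2-subgroup of L with Frattini subgroup inside the subgroup generated by z₁,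 and Q is not the largest normal 2-subgroup of the centralizer of z. -/
theorem result {G : Type*} [Group G] [Finite G] (Q : Subgroup G) (hQ : Cfsg.IsLargeExtraspecial Q) (z : G) (hz : ((Subgroup.center ↥Q).map Q.subtype) = Subgroup.zpowers z) (M : Subgroup G) (hM : M = Subgroup.normalClosure ({z} : Set G)) : Q.Normal ∨ (IsMulCommutative ↥M ∧ Cfsg.generalizedFittingSubgroup G = Cfsg.pCore 2 G) ∨ (M = Cfsg.generalizedFittingSubgroup G ∧ IsSimpleGroup ↥M ∧ ¬ IsMulCommutative ↥M) ∨ (M = Cfsg.generalizedFittingSubgroup G ∧ ∃ (L : Subgroup G) (u : G), u ∈ Q ∧ IsSimpleGroup ↥L ∧ ¬ IsMulCommutative ↥L ∧ L ⊓ (L).map (MulAut.conj u).toMonoidHom = ⊥ ∧ (∀ x ∈ L, ∀ y ∈ (L).map (MulAut.conj u).toMonoidHom, x * y = y * x) ∧ L ⊔ (L).map (MulAut.conj u).toMonoidHom = M ∧ ∃ z₁ ∈ L, z = z₁ * (u * z₁ * u⁻¹) ∧ (∃ R : Sylow 2 ↥L, (R : Subgroup ↥L) = (Subgroup.centralizer ({z₁} : Set G)).subgroupOf L ∧ (frattini ↥(R : Subgroup ↥L)).map ((L.subtype).comp (R : Subgroup ↥L).subtype) ≤ Subgroup.zpowers z₁) ∧ Q ≠ (Cfsg.pCore 2 ↥(Subgroup.centralizer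 ({z} : Set G))).map (Subgroup.centralizer ({z} : Set G)).subtype) := by
  have h := LX.of_large hQ hz
  subst hM
  by_cases h0 : pCore 2 G = ⊥
  · have hs : LS Q z := ⟨h, hQ.2.2.2, h0⟩
    obtain ⟨L, hL⟩ := hs.exists_comp
    have hLs := simple_of_qs hL.2 (hs.inf_cent_bot hL.1)
    rw [hs.ncl_eq, hs.fstar]
    by_cases h1 : ∀ u ∈ Q, cj u L = L
    · have h2 : layer G = L := le_antisymm (CfsgLead.layer_le_iff.2 fun K hK => by
        obtain ⟨q, hq, rfl⟩ := hs.trans hL hK
        exact (h1 q hq).le) (CfsgLead.le_layer hL)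
      rw [h2]
      exact Or.inr (Or.inr (Or.inl ⟨rfl, hLs⟩))
    · push Not at h1
      obtain ⟨u, hu, hne⟩ := h1
      obtain ⟨z₁, h1, c, hc, e⟩ := hs.decomp hL
      have hL2 := comp_le_cent (comp_cj hL u) hL hne
      have hC : L ⊓ centralizer {z} = L ⊓ centralizer {z₁} := by
        ext x
        simp only [mem_inf, mem_centralizer_singleton_iff']
        exact and_congr_right fun hx => LS.comm_iff hc e hx
      have hS := hs.syl hL h1 hc e hu hne
      refine Or.inr (Or.inr (Or.inr ⟨rfl, L, u, hu, hLs.1, hLs.2, ?_, fun x hx y hy => hL2 hy x hx,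
        hs.layer_eq hL h1 hc e hu hne, z₁, h1, hs.z_eq hL h1 hc e hu hne, ⟨hS.toSylow, ?_, ?_⟩,
        hs.ne_o2c hL h1 hc e hu hne⟩))
      · rw [eq_bot_iff, ← hs.inf_cent_bot hL.1]
        exact inf_le_inf_left _ hL2
      · rw [IsSylowIn.toSylow_coe, hC, inf_subgroupOf_left]
      · rw [map_le_iff_le_comap]
        have hsq : ∀ x : (hS.toSylow : Subgroup L), x ^ 2 ∈ (zpowers z₁).comap
            ((L.subtype).comp (hS.toSylow : Subgroup L).subtype) := fun x =>
          hs.sq_mem hL h1 hc e hu hne x.1.2 (mem_centralizer_singleton_iff'.1 x.2.2)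
        refine frattini_le_of (p := 2) ?_ hsq
        rw [_root_.commutator_def, commutator_le]
        intro a _ b _
        rw [show ⁅a, b⁆ = a ^ 2 * (a⁻¹ * b) ^ 2 * (b ^ 2)⁻¹ by
          simp only [commutatorElement_def, sq]; group]
        exact mul_mem (mul_mem (hsq _) (hsq _)) (inv_mem (hsq _))
  · have h1 := h.charP_of_ne h0
    have h2 : normalClosure ({z} : Set G) ≤ pCore 2 G ⊓ centralizer (pCore 2 G : Set G) :=
      normalClosure_le_normal (Set.singleton_subset_iff.2 h1.1)
    exact Or.inr (Or.inl ⟨isMulCommutative_of_forall fun a ha b hb => (h2 hb).2 a (h2 ha).1,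
      (CfsgLead.genFitting_eq_pCore_iff 2).2 h1.2⟩)


end Cfsg.Agent.S5426
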