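import Cfsg.Statements.S5427
import Cfsg.Agent.H2.Large2

set_option autoImplicit false
open Cfsg

namespace Cfsg.Agent.S5427
open Subgroup CfsgH2
open scoped commutatorElement

/-- Let z be an involution of the finite group G whose centralizer C has generalized Fitting subgroup Q, an extraspecial 2-group of width at least 2 (order 2^(2w+1), w ≥ 2). Let K be a subgroup of G such that the subgroup U generated by the K-conjugates of z is abelian and C is generated by the C-conjugates of U. Suppose that either some K-conjugate of z other than z lies in Q, or some element u of U ∩ Q outside the subgroup generated by z has z in the largest normal 2-subgroup of its centralizer. Then G is simple and Q is a large extraspecial 2-subgroup of G. -/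
theorem result {G : Type*} [Group G] [Finite G] (z : G) (hz : orderOf z = 2) (Q : Subgroup G) (hQC : Q ≤ Subgroup.centralizer ({z} : Set G)) (hF : (Cfsg.generalizedFittingSubgroup ↥(Subgroup.centralizer ({z} : Set G))).map (Subgroup.centralizer ({z} : Set G)).subtype = Q) (hQ : Cfsg.IsExtraspecial 2 ↥Q) (w : ℕ) (hw : 2 ≤ w) (hcard : Nat.card ↥Q = 2 ^ (2 * w + 1)) (K U : Subgroup G) (hU : U = Subgroup.closure {x : G | ∃ k ∈ K, x = k * z * k⁻¹}) (hUab : IsMulCommutative ↥U) (hgen : Subgroup.closure {x : G | ∃ c ∈ Subgroup.centralizer ({z} : Set G), ∃ u ∈ U, x = c * u * c⁻¹} = Subgroup.centralizer ({z} : Set G)) (h3 : (∃ k ∈ K, k * z * k⁻¹ ∈ Q ∧ k * z * k⁻¹ ≠ z) ∨ ∃ u ∈ U ⊓ Q, u ∉ Subgroup.zpowers z ∧ (∃ hz' : z ∈ Subgroup.centralizer ({u} : Set G), (⟨z, hz'⟩ : ↥(Subgroup.centralizer ({u} : Set G))) ∈ Cfsg.pCore 2 ↥(Subgroup.centralizer ({u} : Set G)))) : IsSimpleGroup G ∧ Cfsg.IsLargeExtraspecial Q := by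
  have hF' : CfsgLead.fstarOf (centralizer ({z} : Set G)) = Q := hF
  have h : LX Q z := hF' ▸ LX.of_fstar hz (hF' ▸ hQ)
  have hl : IsLargeExtraspecial Q := by
    rcases h3 with ⟨k, -, h1, h2⟩ | ⟨u, hu, h1, h2, h4⟩
    · exact (h.orth hw hcard h1 h2).large
    · refine h.large_of_mem_o2c hu.2 h1 ?_ ⟨_, h4, rfl⟩
      have h5 := hu.1
      have h6 : ∀ a ∈ U, ∀ b ∈ U, a * b = b * a := fun a ha b hb => mul_comm_of_isMulCommutative hUab ha hb
      rw [hU] at h5 h6
      refine closure_induction (p := fun x _ => x * x = 1) ?_ (mul_one 1) (fun x y hx hy e1 e2 => ?_)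
        (fun x _ e => by rw [← mul_inv_rev, e, inv_one]) h5
      · rintro _ ⟨k, -, rfl⟩
        rw [show k * z * k⁻¹ * (k * z * k⁻¹) = k * (z * z) * k⁻¹ by group, h.zz]; group
      · rw [mul_assoc, ← mul_assoc y, ← h6 x hx y hy, mul_assoc, e2, mul_one, e1]
  refine ⟨h.simple_of hl (by rw [← hF', eq_o2c_of_fstar (hF' ▸ h.isPGroup)]) ?_, hl⟩
  have h1 : U ≤ normalClosure ({z} : Set G) := by
    rw [hU, closure_le]
    rintro _ ⟨k, -, rfl⟩
    exact normalClosure_normal.conj_mem z (subset_normalClosure (Set.mem_singleton z)) k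
  refine hgen.symm.le.trans ((closure_le _).2 ?_)
  rintro _ ⟨c, -, u, hu, rfl⟩
  exact normalClosure_normal.conj_mem _ (h1 hu) c


end Cfsg.Agent.S5427
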