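import Cfsg.Statements.S5428
import Cfsg.Agent.H2.Large2

set_option autoImplicit false
open Cfsg

namespace Cfsg.Agent.S5428
open Subgroup CfsgH2
open scoped commutatorElement

/-- Let z be an involution of the finite group G whose centralizer C has generalized Fitting subgroup Q extraspecial (as a 2-group), let A be a subgroup of C of odd order, and let R be the centralizer of A in Q; suppose R has order at least 32, the largest normal subgroup of odd order of the centralizer of the subgroup generated by A and R lies in A, the order of that centralizer is not divisible by 4, and g is an element of G with g z g⁻¹ in R but outside the centre Z of Q. Let M be the subgroup generated by A and the centralizer of A (A is normal in it). Then: the centralizer in M of the subgroup generated by R and A, joined with A, equals the subgroup generated by A and Z; the image of R in M/A is a large extraspecial 2-subgroup of M/A; and g z g⁻¹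 is conjugate to z inside the subgroup generated by R and the centralizer of A in g Q g⁻¹. -/
theorem result {G : Type*} [Group G] [Finite G] (z : G) (hz : orderOf z = 2) (Q : Subgroup G) (hQC : Q ≤ Subgroup.centralizer ({z} : Set G)) (hF : (Cfsg.generalizedFittingSubgroup ↥(Subgroup.centralizer ({z} : Set G))).map (Subgroup.centralizer ({z} : Set G)).subtype = Q) (hQ : Cfsg.IsExtraspecial 2 ↥Q) (A : Subgroup G) (hA : A ≤ Subgroup.centralizer ({z} : Set G)) (hAodd : Odd (Nat.card ↥A)) (R : Subgroup G) (hR : R = Q ⊓ Subgroup.centralizer (A : Set G)) (hR32 : 32 ≤ Nat.card ↥R) (hO : (Cfsg.oddCore ↥(Subgroup.centralizer ((A ⊔ R : Subgroup G) : Set G))).map (Subgroup.centralizer ((A ⊔ R : Subgroup G) : Set G)).subtype ≤ A) (h4 : ¬ 4 ∣ Nat.card ↥(Subgroup.centralizer ((A ⊔ R : Subgroup G) : Set G))) (g : G) (hgR : g * z * g⁻¹ ∈ R) (hgZ : g * z * g⁻¹ ∉ ((Subgroup.center ↥Q).map Q.subtype)) (M : Subgroup G) (hM : M = Subgroup.centralizer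 (A : Set G) ⊔ A) [hn : (A.subgroupOf M).Normal] : (M ⊓ Subgroup.centralizer ((R ⊔ A : Subgroup G) : Set G)) ⊔ A = A ⊔ ((Subgroup.center ↥Q).map Q.subtype) ∧ Cfsg.IsLargeExtraspecial ((R.subgroupOf M).map (QuotientGroup.mk' (A.subgroupOf M))) ∧ ∃ x ∈ R ⊔ ((Q).map (MulAut.conj g).toMonoidHom ⊓ Subgroup.centralizer (A : Set G)), x * (g * z * g⁻¹) * x⁻¹ = z := by
  have hF' : CfsgLead.fstarOf (centralizer ({z} : Set G)) = Q := hF
  have h : LX Q z := hF' ▸ LX.of_fstar hz (hF' ▸ hQ)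
  rw [h.map_center] at hgZ ⊢
  have hne : g * z * g⁻¹ ≠ z := fun e => hgZ (e.symm ▸ mem_zpowers z)
  subst hR
  obtain ⟨w, hcard⟩ := ES.exists_card Q h.toES
  have hw : 2 ≤ w := by
    by_contra hw
    have h1 := hR32.trans (card_le_of_le (inf_le_left : Q ⊓ centralizer (A : Set G) ≤ Q))
    rw [hcard] at h1
    have : w = 0 ∨ w = 1 := by omega
    rcases this with rfl | rfl <;> norm_num at h1
  have o := h.orth hw hcard hgR.1 hne
  have hE := h.es_cent hA hAodd
  have hzA : z ∈ centralizer (A : Set G) := hE.mem.2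
  have hE' := o.hP.es_cent (A := A) (fun a ha => mem_centralizer_singleton_iff.2 (hgR.2 a ha)) hAodd
  obtain ⟨x, hx, ex⟩ := hE.exists_conj hgR hgZ (mem_zpowers z)
  obtain ⟨y, hy, ey⟩ := hE'.exists_conj ⟨o.zP, hzA⟩ o.symm.notMem (mem_zpowers _)
  have ek := conj_of_move o.hP.zz o.comm ex ey
  have hzD : z ∈ centralizer ((A ⊔ Q ⊓ centralizer (A : Set G) : Subgroup G) : Set G) := by
    rw [centralizer_sup']; exact ⟨hzA, hE.zle_cent (mem_zpowers z)⟩
  have hD := (le_oddCore_sup hz hzD h4).trans (sup_le_sup_right hO _)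
  have hCM : centralizer (A : Set G) ≤ M := hM.symm ▸ le_sup_left
  have hAM : A ≤ M := hM ▸ le_sup_right
  refine ⟨le_antisymm (sup_le (inf_le_right.trans (by rw [sup_comm]; exact hD)) le_sup_left)
    (sup_le le_sup_right (zpowers_le_of_mem (mem_sup_left ⟨hCM hzA, by rw [sup_comm]; exact hzD⟩))), ?_,
    y⁻¹ * x, mul_mem (inv_mem (mem_sup_right hy)) (mem_sup_left hx), ek⟩
  have hk : (y⁻¹ * x)⁻¹ ∈ centralizer (A : Set G) := inv_mem (mul_mem (inv_mem hy.2) hx.2)
  have ek' : (y⁻¹ * x)⁻¹ * z * (y⁻¹ * x)⁻¹⁻¹ = g * z * g⁻¹ := by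
    rw [inv_inv, mul_assoc, inv_mul_eq_iff_eq_mul]; exact (mul_inv_eq_iff_eq_mul.1 ek).symm
  have hker : ∀ c : M, QuotientGroup.mk' (A.subgroupOf M) c = 1 ↔ (c : G) ∈ A := fun c =>
    QuotientGroup.eq_one_iff c
  have hQA : ∀ a ∈ Q, a ∈ A → a = 1 := fun a h1 h2 =>
    eq_one_of_odd_of_mem h.isPGroup h1 (odd_orderOf_of_mem hAodd h2)
  have kill : ∀ c ∈ M, ∃ c₀ ∈ centralizer (A : Set G), c₀⁻¹ * c ∈ A ∧ ∀ x ∈ Q ⊓ centralizer (A : Set G),
      c * x * c⁻¹ = c₀ * x * c₀⁻¹ ∧ (c * x * c⁻¹ * x⁻¹ ∈ A → Commute c₀ x) := fun c hc => by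
    rw [hM, mem_sup_of_normalizer (le_normalizer_centralizer' le_normalizer)] at hc
    obtain ⟨c₀, h1, a, h2, rfl⟩ := hc
    refine ⟨c₀, h1, by simpa using h2, fun x hx => ?_⟩
    have e1 : c₀ * a * x * (c₀ * a)⁻¹ = c₀ * x * c₀⁻¹ := by
      rw [mul_assoc c₀, hx.2 a h2]; group
    refine ⟨e1, fun h3 => commute_of_comm_eq_one ?_⟩
    rw [e1] at h3
    have h5 : Commute (c₀ * x * c₀⁻¹ * x⁻¹) x := hx.2 _ h3
    have h6 := h5.mul_pow (2 ^ 2)
    rw [inv_mul_cancel_right, conj_pow, h.pow_sq hx.1, mul_one, mul_one, mul_inv_cancel] at h6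
    have h7 := orderOf_dvd_of_pow_eq_one h6.symm
    exact orderOf_eq_one_iff.1 (Nat.Coprime.eq_one_of_dvd
      ((coprime_two_iff_odd.2 (odd_orderOf_of_mem hAodd h3)).pow_right 2) h7)
  have hzM := hCM hzA
  have hX := LX.quot (QuotientGroup.mk' (A.subgroupOf M)) (QuotientGroup.mk'_surjective _)
    (hE.toPES.subgroupOf hzM) (fun e => h.z_ne_one (hQA z h.mem ((hker _).1 e)))
    (fun e => by
      have h1 := hE.eq_of_comm (isMulCommutative_of_forall fun a ha b hb => congrArg Subtype.val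
        (mul_comm_of_isMulCommutative e (a := ⟨a, hCM ha.2⟩) (b := ⟨b, hCM hb.2⟩) ha hb))
      rw [h1, Nat.card_zpowers, hz] at hR32
      omega)
    (fun c hc => by
      obtain ⟨c₀, h1, h2, h3⟩ := kill c c.2
      have h5 : c₀ ∈ A ⊔ zpowers z := hD (by
        rw [centralizer_sup']
        exact ⟨h1, mem_centralizer_iff'.2 fun x hx => (h3 x hx).2 ((hker _).1 (hc ⟨x, hCM hx.2⟩ hx))⟩)
      rw [sup_comm, mem_sup_of_normalizer (hA.trans (by rw [normalizer_zpowers_two hz]))] at h5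
      obtain ⟨v, hv, a, ha, rfl⟩ := h5
      have h6 : v⁻¹ * c ∈ A := by
        have := mul_mem ha h2
        rwa [show a * ((v * a)⁻¹ * c) = v⁻¹ * c by group] at this
      rcases (mem_zpowers_two hz).1 hv with rfl | rfl
      · rw [(hker c).2 (by simpa using h6)]; exact one_mem _
      · have h7 := (hker (⟨v, hzM⟩⁻¹ * c)).2 h6
        rw [map_mul, map_inv, inv_mul_eq_one] at h7
        rw [← h7]; exact mem_zpowers _)
    (fun c hc x hx => by
      obtain ⟨c₀, h1, h2, h3⟩ := kill c c.2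
      refine ⟨c * x * c⁻¹, ?_, rfl⟩
      show (c : G) * x * (c : G)⁻¹ ∈ Q ⊓ centralizer (A : Set G)
      rw [(h3 x hx).1]
      exact mem_inf.2 ⟨h.conj_mem' ((h3 z hE.mem).2 ((hker _).1 hc)) hx.1, mul_mem (mul_mem h1 hx.2) (inv_mem h1)⟩)
  refine hX.large_of_both (g := QuotientGroup.mk' _ ⟨_, hCM hk⟩) ?_ ?_ ?_
  · refine ⟨⟨_, hCM hk⟩ * ⟨z, hzM⟩ * ⟨_, hCM hk⟩⁻¹, ?_, by simp only [map_mul, map_inv]⟩
    show (y⁻¹ * x)⁻¹ * z * (y⁻¹ * x)⁻¹⁻¹ ∈ Q ⊓ centralizer (A : Set G)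
    rwa [ek']
  · refine ⟨⟨_, hCM hk⟩⁻¹ * ⟨z, hzM⟩ * ⟨_, hCM hk⟩, mem_inf.2 ⟨?_, mul_mem (mul_mem (inv_mem hk) hzA) hk⟩,
      by simp only [map_mul, map_inv]⟩
    show (y⁻¹ * x)⁻¹⁻¹ * z * (y⁻¹ * x)⁻¹ ∈ Q
    rw [← mem_cj, h.cj_eq ek']
    exact o.zP
  · intro e
    rw [← map_inv, ← map_mul, ← map_mul, ← mul_inv_eq_one, ← map_inv, ← map_mul, hker] at e
    change (y⁻¹ * x)⁻¹ * z * (y⁻¹ * x)⁻¹⁻¹ * z⁻¹ ∈ A at e
    rw [ek'] at e
    exact hne (mul_inv_eq_one.1 (hQA _ (mul_mem hgR.1 (inv_mem h.mem)) e))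


end Cfsg.Agent.S5428
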