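import Cfsg.Statements.S5429
import Cfsg.Agent.H2.Large2

set_option autoImplicit false
open Cfsg

namespace Cfsg.Agent.S5429
open Subgroup CfsgH2
open scoped commutatorElement

/-- Let z be an involution of the finite group G with centralizer C whose generalized Fitting subgroup Q is extraspecial of width at least 3 (order 2^(2w+1), w ≥ 3); let g be an element of G with g z g⁻¹ in Q but outside the centre Z of Q, and t an involution lying in both Q and g Q g⁻¹ that is not conjugate to z; write P for the centralizer of t in Q and suppose that the elements of C acting trivially by conjugation on P modulo the subgroup generated by t and z are exactly the elements of Q. Then the image of P in the centralizer of t modulo the subgroup generated by t is a large extraspecial 2-subgroup there, and g z g⁻¹ is conjugate to z inside the subgroup generated by P and the centralizer of t in g Q g⁻¹. -/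
theorem result {G : Type*} [Group G] [Finite G] (z : G) (hz : orderOf z = 2) (Q : Subgroup G) (hQC : Q ≤ Subgroup.centralizer ({z} : Set G)) (hF : (Cfsg.generalizedFittingSubgroup ↥(Subgroup.centralizer ({z} : Set G))).map (Subgroup.centralizer ({z} : Set G)).subtype = Q) (hQ : Cfsg.IsExtraspecial 2 ↥Q) (w : ℕ) (hw : 3 ≤ w) (hcard : Nat.card ↥Q = 2 ^ (2 * w + 1)) (g : G) (hgQ : g * z * g⁻¹ ∈ Q) (hgZ : g * z * g⁻¹ ∉ ((Subgroup.center ↥Q).map Q.subtype)) (t : G) (ht : orderOf t = 2) (htQ : t ∈ Q ⊓ (Q).map (MulAut.conj g).toMonoidHom) (htz : ¬ IsConj z t) (P : Subgroup G) (hP : P = Q ⊓ Subgroup.centralizer ({t} : Set G)) (hCP : ∀ c ∈ Subgroup.centralizer ({z} : Set G), (∀ x ∈ P, ∃ y ∈ Subgroup.closure ({t, z} : Set G), c * x * c⁻¹ = x * y) ↔ c ∈ Q) [hn : ((Subgroup.zpowers t).subgroupOf (Subgroup.centralizer ({t} : Set G))).Normal] : Cfsg.IsLargeExtraspecial ((P.subgroupOf (Subgroup.centralizer ({t} : Set G))).map (QuotientGroup.mk' ((Subgroup.zpowers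 t).subgroupOf (Subgroup.centralizer ({t} : Set G))))) ∧ ∃ x ∈ P ⊔ ((Q).map (MulAut.conj g).toMonoidHom ⊓ Subgroup.centralizer ({t} : Set G)), x * (g * z * g⁻¹) * x⁻¹ = z := by
  have hF' : CfsgLead.fstarOf (centralizer ({z} : Set G)) = Q := hF
  have h : LX Q z := hF' ▸ LX.of_fstar hz (hF' ▸ hQ)
  rw [h.map_center] at hgZ
  have hne : g * z * g⁻¹ ≠ z := fun e => hgZ (e.symm ▸ mem_zpowers z)
  have o := h.orth (by omega : 2 ≤ w) hcard hgQ hne
  have hzs : IsConj z (g * z * g⁻¹) := isConj_iff.2 ⟨g, rfl⟩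
  have ht1 : t ≠ 1 := fun e => by rw [e, orderOf_one] at ht; omega
  obtain ⟨x, hx, ex⟩ := h.exists_move htQ.1 ht htz hgQ hzs hne
  obtain ⟨y, hy, ey⟩ := o.hP.exists_move htQ.2 ht (fun e => htz (hzs.trans e)) o.zP hzs.symm hne.symm
  have ek := conj_of_move o.hP.zz o.comm ex ey
  subst hP
  refine ⟨?_, y⁻¹ * x, mul_mem (inv_mem (mem_sup_right hy)) (mem_sup_left hx), ek⟩
  have hzt : z ∈ centralizer ({t} : Set G) := mem_centralizer_singleton_iff'.2 (h.cent t htQ.1)
  have hk : (y⁻¹ * x)⁻¹ ∈ centralizer ({t} : Set G) := inv_mem (mul_mem (inv_mem hy.2) hx.2)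
  have ek' : (y⁻¹ * x)⁻¹ * z * (y⁻¹ * x)⁻¹⁻¹ = g * z * g⁻¹ := by
    rw [inv_inv, mul_assoc, inv_mul_eq_iff_eq_mul]; exact (mul_inv_eq_iff_eq_mul.1 ek).symm
  have hzt' : z ∉ zpowers t := fun e => ((mem_zpowers_two ht).1 e).elim h.z_ne_one fun e =>
    htz (e ▸ IsConj.refl _)
  have hcz : ∀ c : G, c * z * c⁻¹ * z⁻¹ ∈ zpowers t → Commute c z := fun c hc => by
    rcases (mem_zpowers_two ht).1 hc with e | e
    · exact commute_of_comm_eq_one e
    · exact (h.not_conj_mul htQ.1 ht1 htz (isConj_iff.2 ⟨c, mul_inv_eq_iff_eq_mul.1 e⟩)).elim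
  have hker : ∀ c : centralizer ({t} : Set G), QuotientGroup.mk'
      ((zpowers t).subgroupOf (centralizer ({t} : Set G))) c = 1 ↔ (c : G) ∈ zpowers t := fun c =>
    QuotientGroup.eq_one_iff c
  have hX := LX.quot (QuotientGroup.mk' ((zpowers t).subgroupOf (centralizer ({t} : Set G))))
    (QuotientGroup.mk'_surjective _)
    ((h.toPES.mono (B := Q ⊓ centralizer {t}) ⟨h.mem, hzt⟩ inf_le_left).subgroupOf hzt)
    (fun e => hzt' ((hker _).1 e)) (fun e => h.not_comm_half (by omega : 2 ≤ w) hcard htQ.1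
      (fun e' => ((mem_zpowers_two hz).1 e').elim ht1 fun e' => htz (e' ▸ IsConj.refl _))
      (isMulCommutative_of_forall fun a ha b hb => congrArg Subtype.val
        (mul_comm_of_isMulCommutative e (a := ⟨a, ha.2⟩) (b := ⟨b, hb.2⟩) ha hb)))
    (fun c hc => by
      have h1 : ∀ x ∈ Q ⊓ centralizer {t}, (c : G) * x * (c : G)⁻¹ * x⁻¹ ∈ zpowers t := fun x hx =>
        (hker _).1 (hc ⟨x, hx.2⟩ hx)
      have h2 : (c : G) ∈ Q := (hCP c (mem_centralizer_singleton_iff'.2 (hcz c (h1 z ⟨h.mem, hzt⟩)))).1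
        fun x hx => ⟨_, zpowers_le_of_mem (subset_closure (by simp)) (h1 x hx), by
          rw [← (commute_of_mem_zpowers (mem_centralizer_singleton_iff'.1 hx.2).symm (h1 x hx)).eq]; group⟩
      have h3 : (c : G) ∈ Q ⊓ centralizer ((Q ⊓ centralizer {t} : Subgroup G) : Set G) :=
        ⟨h2, mem_centralizer_iff'.2 fun x hx => commute_of_comm_eq_one (by
          rcases (mem_zpowers_two hz).1 (h.comm c h2 x hx.1) with e | e
          · exact e
          · exact (hzt' (e ▸ h1 x hx)).elim)⟩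
      rw [h.inf_cent_elt htQ.1, mem_sup_two h.zz (mul_self_of_orderOf_two ht) (h.cent t htQ.1)] at h3
      have htt : t ∈ centralizer ({t} : Set G) := mem_centralizer_singleton_iff'.2 (Commute.refl t)
      have h4 := (hker ⟨t, htt⟩).2 (mem_zpowers t)
      rcases h3 with e | e | e | e
      · rw [show c = 1 from Subtype.ext e, map_one]; exact one_mem _
      · rw [show c = ⟨z, hzt⟩ from Subtype.ext e]; exact mem_zpowers _
      · rw [show c = ⟨t, htt⟩ from Subtype.ext e, h4]; exact one_mem _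
      · rw [show c = ⟨z, hzt⟩ * ⟨t, htt⟩ from Subtype.ext e, map_mul, h4, mul_one]; exact mem_zpowers _)
    (fun c hc x hx => ⟨c * x * c⁻¹, ⟨h.conj_mem' (hcz c ((hker _).1 hc)) hx.1, (c * x * c⁻¹).2⟩, rfl⟩)
  refine hX.large_of_both (g := QuotientGroup.mk' _ ⟨_, hk⟩) ?_ ?_ ?_
  · refine ⟨⟨_, hk⟩ * ⟨z, hzt⟩ * ⟨_, hk⟩⁻¹, mem_inf.2 ⟨?_, mul_mem (mul_mem hk hzt) (inv_mem hk)⟩,
      by simp only [map_mul, map_inv]⟩
    show (y⁻¹ * x)⁻¹ * z * (y⁻¹ * x)⁻¹⁻¹ ∈ Q
    rwa [ek']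
  · refine ⟨⟨_, hk⟩⁻¹ * ⟨z, hzt⟩ * ⟨_, hk⟩, mem_inf.2 ⟨?_, mul_mem (mul_mem (inv_mem hk) hzt) hk⟩,
      by simp only [map_mul, map_inv]⟩
    show (y⁻¹ * x)⁻¹⁻¹ * z * (y⁻¹ * x)⁻¹ ∈ Q
    rw [← mem_cj, h.cj_eq ek']
    exact o.zP
  · intro e
    rw [← map_inv, ← map_mul, ← map_mul, ← mul_inv_eq_one, ← map_inv, ← map_mul, hker] at e
    exact hne (ek' ▸ mul_inv_eq_iff_eq_mul.2 (hcz _ e).eq)


end Cfsg.Agent.S5429
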