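import Cfsg.Statements.S5431
import Cfsg.Agent.H2.Large

set_option autoImplicit false
open Cfsg

namespace Cfsg.Agent.S5431
open Subgroup CfsgH2
open scoped commutatorElement

/-- Let Q be a large extraspecial 2-subgroup of the finite group G (extraspecial; centralizer equal to its centre; normal in the centralizer of its centre; normalizing no non-trivial subgroup of odd order) with centre generated by z, an involution, of width w ≥ 2 (order 2^(2w+1)); let g be an element outside the centralizer H of z with g z g⁻¹ in Q; write V for the subgroup generated by z and g z g⁻¹, X for the subgroup generated by Q and g Q g⁻¹, R for the subgroup generated by the centralizer of z in g Q g⁻¹ and the centralizer of g z g⁻¹ in Q, and E for the intersection of Q and g Q g⁻¹. Then V is the centre of R, E lies in the second centre of R, R is nilpotent of class at most 3, E and R/E are elementary abelian, R/E is the direct product of the images of the centralizer of g z g⁻¹ in Q and of the centralizer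 of z in g Q g⁻¹ (R is their product and they meet in E), and the commutator subgroup of X and E lies in V. -/
theorem result {G : Type*} [Group G] [Finite G] (Q : Subgroup G) (hQ : Cfsg.IsLargeExtraspecial Q) (z : G) (hz : ((Subgroup.center ↥Q).map Q.subtype) = Subgroup.zpowers z) (hz2 : orderOf z = 2) (w : ℕ) (hw : 2 ≤ w) (hcard : Nat.card ↥Q = 2 ^ (2 * w + 1)) (g : G) (hgH : g ∉ Subgroup.centralizer ({z} : Set G)) (hgQ : g * z * g⁻¹ ∈ Q) (V X R E : Subgroup G) (hV : V = Subgroup.closure ({z, g * z * g⁻¹} : Set G)) (hX : X = Q ⊔ (Q).map (MulAut.conj g).toMonoidHom) (hR : R = ((Q).map (MulAut.conj g).toMonoidHom ⊓ Subgroup.centralizer ({z} : Set G)) ⊔ (Q ⊓ Subgroup.centralizer ({g * z * g⁻¹} : Set G))) (hE : E = Q ⊓ (Q).map (MulAut.conj g).toMonoidHom) : (Subgroup.center ↥R).map R.subtype = V ∧ E ≤ (Subgroup.upperCentralSeries ↥R 2).map R.subtype ∧ Subgroup.upperCentralSeries ↥R 3 = ⊤ ∧ Cfsg.IsElementaryAbelian 2 E ∧ (∀ x ∈ R, ∀ y ∈ R, x * y * x⁻¹ * y⁻¹ ∈ E ∧ x ^ 2 ∈ E) ∧ ((Q).map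 (MulAut.conj g).toMonoidHom ⊓ Subgroup.centralizer ({z} : Set G)) ⊓ (Q ⊓ Subgroup.centralizer ({g * z * g⁻¹} : Set G)) = E ∧ ⁅X, E⁆ ≤ V := by
  have h := LX.of_large hQ hz
  have o := h.orth hw hcard hgQ fun e => hgH (mem_centralizer_singleton_iff'.2 (mul_inv_eq_iff_eq_mul.1 e))
  rw [cj_def] at hX hR hE ⊢
  obtain rfl : R = o.R := hR
  subst hV hX hE
  have h1 : ∀ x : o.R, x ∈ center o.R ↔ (x : G) ∈ closure {z, g * z * g⁻¹} := fun x => by
    rw [← o.center_R, ← map_center_eq_inf]
    exact ⟨fun hx => ⟨x, hx, rfl⟩, fun ⟨y, hy, e⟩ => Subtype.ext e ▸ hy⟩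
  have h2 : ∀ x : o.R, (x : G) ∈ Q ⊓ cj g Q → x ∈ Subgroup.upperCentralSeries o.R 2 := fun x hx => by
    rw [Subgroup.mem_upperCentralSeries_succ_iff]
    intro y
    rw [Subgroup.upperCentralSeries_one, h1]
    exact comm_mem_symm (o.comm_X_E (mul_mul_inv_mul_inv_mem_commutator (o.R_le_X y.2) hx))
  refine ⟨by rw [map_center_eq_inf, o.center_R], fun x hx => ⟨⟨x, o.E_le_R hx⟩, h2 _ hx, rfl⟩,
    eq_top_iff.2 fun x _ => ?_, o.E_ea, fun x hx y hy => ⟨o.comm_mem_E hx hy, o.sq_mem_E hx⟩,
    o.B_inf_A, o.comm_X_E⟩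
  rw [Subgroup.mem_upperCentralSeries_succ_iff]
  exact fun y => h2 _ (o.comm_mem_E x.2 y.2)


end Cfsg.Agent.S5431
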