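import Cfsg.Statements.S5432
import Cfsg.Agent.H2.Extra3

set_option autoImplicit false
open Cfsg

namespace Cfsg.Agent.S5432
open Subgroup CfsgH2
open scoped commutatorElement

/-- Let E be an extraspecial 2-group of order 2^(2n+1), n ≥ 1. If E contains an elementary abelian subgroup of order 2^(n+1) (plus type), then its outer automorphism group is isomorphic to the full isometry group of the hyperbolic quadratic form in dimension 2n over the field with two elements; otherwise (minus type) it is isomorphic to the full isometry group of the elliptic quadratic form in dimension 2n over that field. -/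
theorem result {E : Type*} [Group E] [Finite E] (hE : Cfsg.IsExtraspecial 2 E) (n : ℕ) (hn : 1 ≤ n) (hcard : Nat.card E = 2 ^ (2 * n + 1)) : ((∃ A : Subgroup E, Cfsg.IsElementaryAbelian 2 A ∧ Nat.card ↥A = 2 ^ (n + 1)) → Nonempty (Cfsg.Out E ≃* Cfsg.isometryGroup (ZMod 2) (Cfsg.quadFormPlus n (ZMod 2)))) ∧ ((¬ ∃ A : Subgroup E, Cfsg.IsElementaryAbelian 2 A ∧ Nat.card ↥A = 2 ^ (n + 1)) → Nonempty (Cfsg.Out E ≃* Cfsg.isometryGroup (ZMod 2) (Cfsg.quadFormMinus (n - 1) (ZMod 2) 1 1))) := by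
  obtain ⟨m, rfl⟩ : ∃ m, n = m + 1 := ⟨n - 1, by omega⟩
  obtain ⟨z, hz, -⟩ := ES.of_top hE
  have c : Nat.card (⊤ : Subgroup E) = 2 ^ (2 * (m + 1) + 1) := by rw [Subgroup.card_top, hcard]
  have h1 := hz.rk_le c
  have h2 := hz.le_rk c
  have h3 : (∃ A : Subgroup E, Cfsg.IsElementaryAbelian 2 A ∧ Nat.card ↥A = 2 ^ (m + 1 + 1)) ↔
      m + 1 + 1 ≤ CfsgFT.rk 2 (⊤ : Subgroup E) := by
    rw [CfsgFT.le_rk_iff]
    exact ⟨fun ⟨A, h1, h2⟩ => ⟨A, le_top, h1, h2⟩, fun ⟨A, h⟩ => ⟨A, h.ea, h.card⟩⟩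
  rw [h3]
  constructor
  · intro h
    obtain ⟨z, π, h4, h5⟩ := exists_coord_plus hE hcard (by omega)
    exact h5.out_equiv h4
  · intro h
    obtain ⟨z, π, h4, h5⟩ := exists_coord_minus hE hcard (by omega)
    exact h5.out_equiv h4


end Cfsg.Agent.S5432
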