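import Cfsg.Statements.S5434
import Cfsg.Agent.H2.Large

set_option autoImplicit false
open Cfsg

namespace Cfsg.Agent.S5434
open Subgroup CfsgH2
open scoped commutatorElement

/-- Let Q be a large extraspecial 2-subgroup of the finite group G (extraspecial; centralizer equal to its centre; normal in the centralizer of its centre; normalizing no non-trivial subgroup of odd order), and A a non-trivial subgroup of odd order of the normalizer of Q. Then Q is the central product of the centralizer of A in Q and the commutator subgroup [Q, A] (they generate Q and commute elementwise), [Q, A] is extraspecial, and the centralizer of A in Q is either the centre of Q or extraspecial. -/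
theorem result {G : Type*} [Group G] [Finite G] (Q : Subgroup G) (hQ : Cfsg.IsLargeExtraspecial Q) (A : Subgroup G) (hA : A ≤ Subgroup.normalizer (Q : Set G)) (hAodd : Odd (Nat.card ↥A)) (hA1 : A ≠ ⊥) : (Q ⊓ Subgroup.centralizer (A : Set G)) ⊔ ⁅Q, A⁆ = Q ∧ (∀ x ∈ Q ⊓ Subgroup.centralizer (A : Set G), ∀ y ∈ ⁅Q, A⁆, x * y = y * x) ∧ Cfsg.IsExtraspecial 2 ↥⁅Q, A⁆ ∧ (Q ⊓ Subgroup.centralizer (A : Set G) = ((Subgroup.center ↥Q).map Q.subtype) ∨ Cfsg.IsExtraspecial 2 ↥(Q ⊓ Subgroup.centralizer (A : Set G))) := by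
  obtain ⟨z, h⟩ := LX.of_extraspecial hQ.1 hQ.2.1 hQ.2.2.1
  have hcop : (Nat.card A).Coprime (Nat.card Q) :=
    coprime_card_of_pgroup h.isPGroup (coprime_two_iff_odd.2 hAodd)
  have hs : Group.IsSolvable A ∨ Group.IsSolvable Q := Or.inr (by
    haveI := h.isPGroup.isNilpotent; infer_instance)
  have h1 := CfsgH1.commutator_sup_centralizer hA hcop hs
  have hAz : A ≤ centralizer (zpowers z : Set G) := by rw [centralizer_zpowers', ← h.norm_eq]; exact hA
  have h2 : ⁅⁅Q, A⁆, Q ⊓ centralizer (A : Set G)⁆ = ⊥ := by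
    refine three_subgroups_bot ?_ ?_
    · rw [commutator_eq_bot_of_le_centralizer (le_centralizer_iff.1 inf_le_right), commutator_bot_left]
    · refine commutator_eq_bot_of_le_centralizer (le_trans ?_ (le_centralizer_iff.1 hAz))
      exact (commutator_mono inf_le_left le_rfl).trans h.commutator_le
  have h3 : ∀ x ∈ Q ⊓ centralizer (A : Set G), ∀ y ∈ ⁅Q, A⁆, Commute x y := fun x hx y hy =>
    (commute_of_commutator_eq_bot h2 hy hx).symm
  have hle : ⁅Q, A⁆ ≤ Q := commutator_le_left_of_normalizer hA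
  have h4 : ⁅Q, A⁆ ≠ ⊥ := fun e => by
    have h5 := le_centralizer_iff.1 (le_centralizer_of_commutator_eq_bot e)
    obtain ⟨x, hx, hx1⟩ := (A.bot_or_exists_ne_one).resolve_left hA1
    exact hx1 (eq_one_of_odd_of_mem h.isPGroup (h.cle (h5 hx)) (odd_orderOf_of_mem hAodd hx))
  have h5 : z ∈ ⁅Q, A⁆ := h.mem_of_normal hle (normalizer_commutator_ge_left Q A) h4
  have h6 : z ∈ Q ⊓ centralizer (A : Set G) := ⟨h.mem, le_centralizer_iff.1 hAz (mem_zpowers z)⟩
  have h7 : ∀ x ∈ Q, (∀ y ∈ ⁅Q, A⁆, Commute x y) → (∀ y ∈ Q ⊓ centralizer (A : Set G), Commute x y) →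
      x ∈ zpowers z := fun x hx a b => h.nondeg x hx fun y hy => by
    obtain ⟨n, hn, c, hc, rfl⟩ := CfsgH1.exists_commutator_mul_centralizer hA hcop hs hy
    exact (a n hn).mul_right (b c hc)
  have h8 : ES 2 ⁅Q, A⁆ z := ⟨h.toPES.mono h5 hle, fun x hx a => h7 x (hle hx) a fun y hy => (h3 y hy x hx).symm⟩
  have h9 : ES 2 (Q ⊓ centralizer (A : Set G)) z :=
    ⟨h.toPES.mono h6 inf_le_left, fun x hx a => h7 x hx.1 (h3 x hx) a⟩
  refine ⟨by rw [sup_comm, h1], h3, h8.isExtraspecial fun e => h4 ?_, ?_⟩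
  · rw [← CfsgH1.commutator_commutator_eq hA hcop, e]
    exact commutator_eq_bot_of_le_centralizer (le_centralizer_iff.1 hAz)
  · rw [h.map_center]
    exact (em _).imp_right h9.isExtraspecial


end Cfsg.Agent.S5434
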