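import Cfsg.Statements.S5435
import Cfsg.Agent.H2.Large3

set_option autoImplicit false
open Cfsg

namespace Cfsg.Agent.S5435
open Subgroup CfsgH2
open scoped commutatorElement

open CfsgFT

/-- Let L be a finite non-abelian simple group with an involution z whose centralizer R is a Sylow 2-subgroup of L whose Frattini subgroup is the subgroup generated by z. Then R is dihedral of order 8. -/
theorem result {L : Type*} [Group L] [Finite L] [IsSimpleGroup L] (hL : ¬ IsMulCommutative L) (z : L) (hz : orderOf z = 2) (R : Sylow 2 L) (hR : (R : Subgroup L) = Subgroup.centralizer ({z} : Set L)) (hΦ : (frattini ↥(R : Subgroup L)).map (R : Subgroup L).subtype = Subgroup.zpowers z) : Nonempty (↥(R : Subgroup L) ≃* DihedralGroup 4) := by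
  have hR2 : IsPGroup 2 (R : Subgroup L) := R.isPGroup'
  have hzR : z ∈ (R : Subgroup L) := hR ▸ mem_centralizer_singleton_iff'.2 (Commute.refl z)
  have h : PZ (R : Subgroup L) z := by
    refine ⟨⟨⟨hzR, hz, fun x hx => (mem_centralizer_singleton_iff'.1 (hR ▸ hx)).symm, fun x hx y hy => ?_⟩,
      fun x hx => hΦ ▸ pow_mem_map_frattini hR2 hx⟩, IsSylowIn.of_sylow_top R, hR, fun g hg => ?_⟩
    · exact hΦ ▸ commutator_le_map_frattini hR2 (commutator_mem_commutator hx hy)
    · rw [hR, ← normalizer_zpowers_two hz, ← hΦ]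
      exact normalizer_le_normalizer_map_frattini _ hg
  have hp : ⁅(⊤ : Subgroup L), (⊤ : Subgroup L)⁆ = ⊤ :=
    (IsSimpleGroup.eq_bot_or_eq_top_of_normal _ inferInstance).resolve_left fun e =>
      hL ⟨⟨fun a b => commute_of_commutator_eq_bot e trivial trivial⟩⟩
  have h2 : ∀ N : Subgroup L, N.Normal → N.index ≠ 2 := fun N hN hi => by
    have h2 : ⁅(⊤ : Subgroup L), (⊤ : Subgroup L)⁆ ≤ N := by
      rw [commutator_le]
      intro a _ b _
      rw [commutatorElement_def, mul_mem_iff_of_index_two hi, mul_mem_iff_of_index_two hi,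
        mul_mem_iff_of_index_two hi, inv_mem_iff, inv_mem_iff]
      tauto
    rw [hp, top_le_iff] at h2
    rw [h2, index_top] at hi
    omega
  by_contra hn
  have hi := isolated_of_sylow R hz hzR fun g hg => by
    by_contra hne
    exact hn (h.dihedral hp h2 hg (isConj_conj z g) hne)
  have hO : pPrimeCore 2 L = ⊥ := (IsSimpleGroup.eq_bot_or_eq_top_of_normal _ inferInstance).resolve_right
    fun e => by
      have h3 := CfsgH1.coprime_card_pPrimeCore 2 L
      have h4 := even_card_of_invol (e ▸ mem_top z : z ∈ pPrimeCore 2 L) hz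
      exact (Nat.not_odd_iff_even.2 h4) (coprime_two_iff_odd.1 h3)
  have h3 := zstar_center hi hO
  rcases IsSimpleGroup.eq_bot_or_eq_top_of_normal (center L) inferInstance with e | e
  · exact h.z_ne_one (mem_bot.1 (e ▸ h3))
  · exact hL ⟨⟨fun a b => mem_center_iff.1 (e ▸ mem_top b : b ∈ center L) a⟩⟩


end Cfsg.Agent.S5435
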