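import Cfsg.Statements.S5436
import Cfsg.Agent.H2.Large2

set_option autoImplicit false
open Cfsg

namespace Cfsg.Agent.S5436
open Subgroup CfsgH2
open scoped commutatorElement

/-- Let z be an involution of the finite group G with centralizer H whose generalized Fitting subgroup Q is extraspecial of width at least 2 (order 2^(2w+1), w ≥ 2); suppose some conjugate of z other than z lies in Q, H/Q is a non-abelian simple group, H acts irreducibly by conjugation on Q modulo the subgroup generated by z (the only H-invariant subgroups of Q containing z are that subgroup and Q), and Q is not the subgroup generated by the conjugates of z lying in H. Then G is simple. -/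
theorem result {G : Type*} [Group G] [Finite G] (z : G) (hz : orderOf z = 2) (Q : Subgroup (Subgroup.centralizer ({z} : Set G))) [Q.Normal] (hF : Cfsg.generalizedFittingSubgroup ↥(Subgroup.centralizer ({z} : Set G)) = Q) (hQ : Cfsg.IsExtraspecial 2 ↥Q) (w : ℕ) (hw : 2 ≤ w) (hcard : Nat.card ↥Q = 2 ^ (2 * w + 1)) (hnwc : ∃ g : G, (∃ hq : g * z * g⁻¹ ∈ Subgroup.centralizer ({z} : Set G), (⟨g * z * g⁻¹, hq⟩ : Subgroup.centralizer ({z} : Set G)) ∈ Q) ∧ g * z * g⁻¹ ≠ z) (hsimp : IsSimpleGroup (↥(Subgroup.centralizer ({z} : Set G)) ⧸ Q)) (hna : ¬ IsMulCommutative (↥(Subgroup.centralizer ({z} : Set G)) ⧸ Q)) (hirr : ∀ W : Subgroup (Subgroup.centralizer ({z} : Set G)), W.Normal → W ≤ Q → (W = Q ∨ ∀ x ∈ W, (x : G) ∈ Subgroup.zpowers z)) (hwcl : Subgroup.closure {x : Subgroup.centralizer ({z} : Set G) | IsConj z (x : G)} ≠ Q) : IsSimpleGroup G := by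
  have hF' : CfsgLead.fstarOf (centralizer ({z} : Set G)) = Q.map (centralizer ({z} : Set G)).subtype := by
    rw [← hF]; rfl
  have e := Q.equivMapOfInjective _ (centralizer ({z} : Set G)).subtype_injective
  have h : LX (Q.map (centralizer ({z} : Set G)).subtype) z :=
    hF' ▸ LX.of_fstar hz (hF' ▸ isExtraspecial_of_equiv e hQ)
  obtain ⟨g, ⟨hq, hgQ⟩, hne⟩ := hnwc
  have hl := (h.orth hw (by rw [← hcard]; exact (Nat.card_congr e.toEquiv).symm) ⟨_, hgQ, rfl⟩ hne).large
  refine h.simple_of hl (by rw [← hF', eq_o2c_of_fstar (hF' ▸ h.isPGroup)]) ?_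
  set W := closure {x : centralizer ({z} : Set G) | IsConj z (x : G)} with hW
  haveI hWn : W.Normal := ⟨fun x hx c => by
    have h1 : W ≤ W.comap (MulAut.conj c).toMonoidHom := by
      rw [hW, closure_le]
      intro y hy
      exact subset_closure (IsConj.trans hy (isConj_iff.2 ⟨c, rfl⟩))
    exact h1 hx⟩
  have h1 : Q ≤ W := by
    rcases hirr (W ⊓ Q) inferInstance inf_le_right with h2 | h2
    · exact inf_eq_right.1 h2
    · exact (h.conj_notMem hne (h2 ⟨_, hq⟩ ⟨subset_closure (isConj_iff.2 ⟨g, rfl⟩), hgQ⟩)).elim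
  have h2 : W = ⊤ := by
    rcases hsimp.eq_bot_or_eq_top_of_normal (W.map (QuotientGroup.mk' Q))
      (hWn.map _ (QuotientGroup.mk'_surjective Q)) with h3 | h3
    · rw [Subgroup.map_eq_bot_iff, QuotientGroup.ker_mk'] at h3
      exact (hwcl (le_antisymm h3 h1)).elim
    · have := comap_map_eq (QuotientGroup.mk' Q) W
      rwa [h3, comap_top, QuotientGroup.ker_mk', sup_eq_left.2 h1, eq_comm] at this
  have h3 : W ≤ (normalClosure ({z} : Set G)).comap (centralizer ({z} : Set G)).subtype := by
    rw [hW, closure_le]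
    intro y hy
    obtain ⟨c, hc⟩ := isConj_iff.1 hy
    have := normalClosure_normal.conj_mem _ (subset_normalClosure (s := {z}) rfl) c
    rwa [hc] at this
  intro x hx
  exact h3 (h2 ▸ mem_top (⟨x, hx⟩ : centralizer ({z} : Set G)))


end Cfsg.Agent.S5436
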