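import Cfsg.Statements.S5438
import Cfsg.Agent.H2.Extra

set_option autoImplicit false
open Cfsg

namespace Cfsg.Agent.S5438
open Subgroup CfsgH2
open scoped commutatorElement

/-- Let z be a 2-central involution of the finite group G (an involution central in some Sylow 2-subgroup) and H a subgroup containing z such that the coset H is the only coset of H fixed by z (in the action of G on the cosets of H). Then H has odd index in G, and for every 2-element x of H the conjugates of x lying in H form a single H-class. -/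
theorem result {G : Type*} [Group G] [Finite G] (z : G) (hz : Cfsg.IsTwoCentralInvolution z) (H : Subgroup G) (hzH : z ∈ H) (hfix : ∀ g : G, g⁻¹ * z * g ∈ H → g ∈ H) : Odd H.index ∧ ∀ x ∈ H, (∃ k : ℕ, orderOf x = 2 ^ k) → ∀ g : G, g * x * g⁻¹ ∈ H → ∃ h ∈ H, h * x * h⁻¹ = g * x * g⁻¹ := by
  obtain ⟨hz2, P, hzP, hP⟩ := hz
  have hPH : (P : Subgroup G) ≤ H := fun x hx => hfix x (by
    rw [mul_assoc, ← hP x hx]; simpa using hzH)
  have hS := IsSylowIn.of_sylow P hPH
  refine ⟨?_, fun x hx ⟨k, hk⟩ g hg => ?_⟩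
  · have := (IsSylowIn.of_sylow_top P).not_dvd_of_le hPH le_top
    rw [relIndex_top_right] at this
    exact Nat.not_even_iff_odd.1 fun h => this h.two_dvd
  have key : ∀ y ∈ H, orderOf y = 2 ^ k → ∃ a ∈ H, a⁻¹ * z * a ∈ centralizer ({y} : Set G) := by
    intro y hy ho
    obtain ⟨a, ha, h1⟩ := hS.exists_cj_le (isPGroup_zpowers_of_orderOf ho) (zpowers_le_of_mem hy)
    have h2 := hP _ (h1 (conj_mem_cj a (mem_zpowers y)))
    refine ⟨a, ha, mem_centralizer_singleton_iff.2 ?_⟩
    calc a⁻¹ * z * a * y = a⁻¹ * (z * (a * y * a⁻¹)) * a := by group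
      _ = _ := by rw [← h2]; group
  obtain ⟨a, ha, h1⟩ := key x hx hk
  obtain ⟨b, hb, h2⟩ := key _ hg (by rw [orderOf_conj', hk])
  rw [← cj_centralizer_singleton, mem_cj] at h2
  have o : ∀ u : G, IsPGroup 2 (zpowers (u⁻¹ * z * u)) := fun u =>
    isPGroup_zpowers_of_orderOf (k := 1) (by simpa [hz2] using orderOf_conj' u⁻¹ z)
  have e : g⁻¹ * (b⁻¹ * z * b) * g = (b * g)⁻¹ * z * (b * g) := by group
  rw [e] at h2
  obtain ⟨T, h3, h4⟩ := IsSylowIn.exists_le (o (b * g)) (zpowers_le_of_mem h2)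
  obtain ⟨c, hc, h5⟩ := h3.exists_cj_le (o a) (zpowers_le_of_mem h1)
  obtain ⟨m, h6⟩ := exists_cj_le_sylow P h3.pgroup
  have h7 := hfix (b * g * m⁻¹) (by
    have := hPH (h6 (conj_mem_cj m (h4 (mem_zpowers _))))
    convert this using 1; group)
  have h8 := hfix (a * c⁻¹ * m⁻¹) (by
    have := hPH (h6 (conj_mem_cj m (h5 (conj_mem_cj c (mem_zpowers _)))))
    convert this using 1; group)
  refine ⟨g * c, ?_, ?_⟩
  · have := mul_mem (mul_mem (inv_mem hb) (mul_mem h7 (inv_mem h8))) ha
    convert this using 1; group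
  · rw [mul_assoc g c x, mem_centralizer_singleton_iff.1 hc]; group


end Cfsg.Agent.S5438
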