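import Cfsg.Statements.S5439
import Cfsg.Agent.H2.Extra

set_option autoImplicit false
open Cfsg

namespace Cfsg.Agent.S5439
open Subgroup CfsgH2
open scoped commutatorElement

/-- Let I and J be two different conjugacy classes of involutions of the finite group G and H a subgroup such that every member of I ∪ J fixes exactly one coset in the action on the cosets of H, and such that for every a in I ∩ H and every b in (I ∪ J) ∩ H different from a and commuting with it, the centralizer of a b lies in H. Then H = G. -/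
theorem result {G : Type*} [Group G] [Finite G] (I J : Set G) (a₀ b₀ : G) (ha₀ : orderOf a₀ = 2) (hb₀ : orderOf b₀ = 2) (hI : I = {x | IsConj a₀ x}) (hJ : J = {x | IsConj b₀ x}) (hIJ : I ≠ J) (H : Subgroup G) (hfix : ∀ x ∈ I ∪ J, ∃! c : G ⧸ H, x • c = c) (hcent : ∀ a ∈ I, a ∈ H → ∀ b ∈ I ∪ J, b ∈ H → a ≠ b → a * b = b * a → Subgroup.centralizer ({a * b} : Set G) ≤ H) : H = ⊤ := by
  have hf : ∀ x g : G, x • (g : G ⧸ H) = g ↔ g⁻¹ * x * g ∈ H := fun x g => by
    rw [MulAction.Quotient.smul_mk, smul_eq_mul, eq_comm, QuotientGroup.eq, mul_assoc]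
  have hu : ∀ x ∈ I ∪ J, x ∈ H → ∀ g : G, g⁻¹ * x * g ∈ H → g ∈ H := fun x hx h1 g h2 => by
    have := (hfix x hx).unique ((hf x 1).2 (by simpa using h1)) ((hf x g).2 h2)
    simpa using QuotientGroup.eq.1 this
  have hex : ∀ x ∈ I ∪ J, ∃ y ∈ H, IsConj x y := fun x hx => by
    obtain ⟨c, hc⟩ := (hfix x hx).exists
    obtain ⟨g, rfl⟩ := QuotientGroup.mk_surjective c
    exact ⟨_, (hf x g).1 hc, by simpa using isConj_conj x g⁻¹⟩
  subst hI hJ
  by_contra hne
  obtain ⟨g, hg⟩ : ∃ g, g ∉ H := by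
    by_contra h; push Not at h; exact hne (eq_top_iff.2 fun g _ => h g)
  obtain ⟨a, haH, ha⟩ := hex a₀ (Or.inl (IsConj.refl _))
  obtain ⟨b', hbH, hb'⟩ := hex b₀ (Or.inr (IsConj.refl _))
  obtain ⟨b, eb⟩ : ∃ b, b = g * b' * g⁻¹ := ⟨_, rfl⟩
  have hb : IsConj b₀ b := eb ▸ hb'.trans (isConj_conj _ g)
  have hbH' : b ∉ H := fun h => hg (by
    simpa using hu b' (Or.inr hb') hbH g⁻¹ (by simpa [eb] using h))
  have ha2 : a * a = 1 := mul_self_of_orderOf_two (orderOf_eq_of_isConj ha ▸ ha₀)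
  have hb2 : b * b = 1 := mul_self_of_orderOf_two (orderOf_eq_of_isConj hb ▸ hb₀)
  have he : Even (orderOf (a * b)) := Nat.not_odd_iff_even.1 fun ho => hIJ (by
    have := (ha.trans (isConj_of_odd ha2 hb2 ho)).trans hb.symm
    ext x
    exact ⟨fun h => this.symm.trans h, fun h => this.trans h⟩)
  obtain ⟨h1, h2, h3⟩ := exists_central_invol ha2 hb2 he
  obtain ⟨n, hn⟩ : ∃ n, n = orderOf (a * b) / 2 := ⟨_, rfl⟩
  rw [← hn] at h1 h2 h3
  have h4 : (a * b) ^ n ∈ H := hu a (Or.inl ha) haH _ (by rw [mul_assoc, ← h2.eq]; simpa using haH)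
  have h5 : (a * b) ^ n * a ∈ {x | IsConj a₀ x} ∪ {x | IsConj b₀ x} := by
    rcases pow_mul_conj ha2 hb2 n with ⟨-, k, hk⟩ | ⟨-, k, hk⟩ <;> rw [zpow_natCast] at hk <;> rw [← hk]
    · exact Or.inl (ha.trans (isConj_conj _ _))
    · exact Or.inr (hb.trans (isConj_conj _ _))
  have h6 := hcent a ha haH _ h5 (mul_mem h4 haH)
    (fun e => ne_one_of_orderOf_two h1 (by simpa using e)) (by rw [← mul_assoc, h2.eq])
  rw [h2.eq, ← mul_assoc, ha2, one_mul] at h6
  exact hbH' (h6 (mem_centralizer_singleton_iff.2 h3.symm))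


end Cfsg.Agent.S5439
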