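import Cfsg.Statements.S5459

set_option autoImplicit false
open Cfsg

namespace Cfsg.Agent.S5459

open Subgroup
open scoped commutatorElement

/-- Let G be a finite group with a quasisimple normal subgroup L and an involution d such that G is generated by L and d, the centre of L has odd order, and d inverts every element of the centre of L. If the commuting graph on the conjugacy class of the image of d in G modulo the centre of L is connected, then the commuting graph on the conjugacy class of d is connected. -/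
theorem result {G : Type*} [Group G] [Finite G] (L : Subgroup G) [L.Normal] (hL : Cfsg.IsQuasisimple ↥L) (d : G) (hd : orderOf d = 2) (hgen : L ⊔ Subgroup.zpowers d = ⊤) (hodd : Odd (Nat.card ↥(Subgroup.center ↥L))) (hinv : ∀ c ∈ (Subgroup.center ↥L).map L.subtype, d * c * d⁻¹ = c⁻¹) [hn : ((Subgroup.center ↥L).map L.subtype).Normal] (hconn : (Cfsg.commutingGraph (conjugatesOf (QuotientGroup.mk d : G ⧸ (Subgroup.center ↥L).map L.subtype))).Connected) : (Cfsg.commutingGraph (conjugatesOf d)).Connected := by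
  set Z := (Subgroup.center ↥L).map L.subtype
  have h1 : ∀ x ∈ conjugatesOf d, ∀ c ∈ Z, x * c = c⁻¹ * x := fun x hx c hc => by
    obtain ⟨g, rfl⟩ := isConj_iff.1 hx
    have := hinv _ (hn.conj_mem' c hc g)
    calc _ = g * (d * (g⁻¹ * c * g) * d⁻¹) * d * g⁻¹ := by group
      _ = _ := by rw [this]; group
  have h2 : ∀ w ∈ Z, ∃ u ∈ Z, u * u = w := by
    rintro _ ⟨w, hw, rfl⟩
    obtain ⟨u, hu⟩ := (powCoprime (G := center L) (n := 2) hodd.coprime_two_right).surjective ⟨w, hw⟩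
    exact ⟨u, ⟨u, u.2, rfl⟩, (pow_two _).symm.trans (congrArg (fun x : center L => (x : G)) hu)⟩
  have h3 : ∀ x ∈ conjugatesOf d, ∀ c ∈ Z, ∃ u ∈ Z, u⁻¹ * x * u⁻¹⁻¹ = x * c := fun x hx c hc => by
    obtain ⟨u, hu, rfl⟩ := h2 c hc
    exact ⟨u, hu, by rw [← h1 x hx u hu, inv_inv, mul_assoc]⟩
  have h4 : ∀ a b, (commutingGraph (conjugatesOf (d : G ⧸ Z))).Reachable a b → ∀ x : conjugatesOf d, (x.1 : G ⧸ Z) = a →
      ∃ y : conjugatesOf d, (y.1 : G ⧸ Z) = b ∧ (commutingGraph _).Reachable x y := fun a b h x hx => by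
    rw [SimpleGraph.reachable_iff_reflTransGen] at h
    induction h with
    | refl => exact ⟨x, hx, .refl _⟩
    | @tail b c h h' ih =>
      obtain ⟨y, e, hy⟩ := ih
      obtain ⟨n, k⟩ := (SimpleGraph.fromRel_adj _ _ _).1 h'
      replace k : Commute b.1 c.1 := k.elim id .symm
      obtain ⟨g, hg⟩ := isConj_iff.1 c.2
      obtain ⟨g, rfl⟩ := QuotientGroup.mk_surjective g
      have m : g * d * g⁻¹ ∈ conjugatesOf d := isConj_iff.2 ⟨g, rfl⟩
      replace hg : ((g * d * g⁻¹ : G) : G ⧸ Z) = c := hg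
      generalize g * d * g⁻¹ = z at m hg
      obtain ⟨u, hu, e1⟩ := h2 _ (QuotientGroup.eq.1 (show (z : G ⧸ Z) = (y.1 * z * y.1⁻¹ : G) by
        rw [QuotientGroup.mk_mul, QuotientGroup.mk_mul, QuotientGroup.mk_inv, e, hg, k.eq]; simp))
      obtain ⟨v, -, e2⟩ := h3 z m u hu
      have e3 : ((z * u : G) : G ⧸ Z) = c := by rw [QuotientGroup.mk_mul_of_mem _ hu, hg]
      refine ⟨⟨z * u, e2 ▸ m.trans (isConj_iff.2 ⟨_, rfl⟩)⟩, e3, hy.trans (SimpleGraph.Adj.reachable
        ((SimpleGraph.fromRel_adj _ _ _).2 ⟨fun f => n (Subtype.ext (by rw [← e, f, e3])), Or.inl ?_⟩))⟩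
      calc y.1 * (z * u) = z * (z⁻¹ * (y * z * y.1⁻¹)) * (y * u) := by group
        _ = _ := by rw [← e1, h1 _ y.2 u hu]; group
  let φ : G → commutingGraph (conjugatesOf d) →g commutingGraph (conjugatesOf d) := fun g =>
    ⟨fun x => ⟨g * x * g⁻¹, x.2.trans (isConj_iff.2 ⟨g, rfl⟩)⟩, fun h => by
      rw [commutingGraph, SimpleGraph.fromRel_adj] at h ⊢
      exact ⟨fun e => h.1 (Subtype.ext (by simpa using congrArg Subtype.val e)), h.2.imp (·.conj g) (·.conj g)⟩⟩
  set o : conjugatesOf d := ⟨d, IsConj.refl d⟩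
  let H : Subgroup G :=
    { carrier := {g | (commutingGraph _).Reachable o (φ g o)}
      one_mem' := by simp [φ]
      mul_mem' := fun {a b} ha hb => ha.trans (by simpa [φ, mul_assoc] using hb.map (φ a))
      inv_mem' := fun {a} ha => by simpa [φ, mul_assoc] using (ha.map (φ a⁻¹)).symm }
  have h5 : ∀ g, ∃ u ∈ Z, u⁻¹ * g ∈ H := fun g => by
    obtain ⟨y, e, hy⟩ := h4 _ _ (hconn.preconnected ⟨d, IsConj.refl _⟩ ⟨(φ g o).1, (QuotientGroup.mk' Z).map_isConj (φ g o).2⟩) o rfl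
    obtain ⟨u, hu, e⟩ := h3 _ (φ g o).2 _ (QuotientGroup.eq.1 e.symm)
    have : y = φ (u⁻¹ * g) o := Subtype.ext (by simpa [φ, mul_assoc] using e.symm)
    exact ⟨u, hu, by subst this; exact hy⟩
  have h6 : L ≤ H := by
    rw [← subgroupOf_eq_top, eq_top_iff, ← hL.1.commutator_eq_top]
    refine commutator_le.2 fun a _ b _ => ?_
    obtain ⟨_, ⟨u, hu, rfl⟩, ha⟩ := h5 a
    obtain ⟨_, ⟨v, hv, rfl⟩, hb⟩ := h5 b
    have := (H.subgroupOf L).commutator_le_self (commutator_mem_commutator (show u⁻¹ * a ∈ H.subgroupOf L from ha)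
      (show v⁻¹ * b ∈ H.subgroupOf L from hb))
    have c : ∀ w ∈ center L, ∀ x y, ⁅w⁻¹ * x, y⁆ = ⁅x, y⁆ := fun w hw x y => by
      rw [commutatorElement_mul_left_eq_conj_mul, commutatorElement_eq_one_iff_mul_comm.2 (mem_center_iff.1 (inv_mem hw) y).symm,
        ← mem_center_iff.1 (inv_mem hw)]
      simp
    rwa [c u hu, ← commutatorElement_inv, c v hv, commutatorElement_inv] at this
  have h7 : ∀ x, (commutingGraph _).Reachable o x := fun ⟨x, hx⟩ => by
    obtain ⟨g, rfl⟩ := isConj_iff.1 hx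
    obtain ⟨u, hu, h⟩ := h5 g
    exact (H.mul_mem_cancel_left (inv_mem (h6 (map_subtype_le _ hu)))).1 h
  exact @SimpleGraph.Connected.mk _ _ (fun x y => (h7 x).symm.trans (h7 y)) ⟨o⟩

end Cfsg.Agent.S5459
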