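import Cfsg.Statements.S5521
import Cfsg.Agent.H7.Mi

set_option autoImplicit false
open Cfsg

namespace Cfsg.Agent.S5521

open CfsgH7 MulAction
open scoped Pointwise symmDiff
set_option maxRecDepth 100000
set_option Elab.async false


/-- The Mathieu group M₂₄ in its natural action on the 24 coordinate positions of the binary Golay code has minimal base size exactly 7: every set of at most 6 positions is fixed pointwise by some non-identity element of M₂₄, while some set of 7 positions is fixed pointwise only by the identity. -/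
theorem result :
    (∀ B : Finset Cfsg.GolayPt, B.card ≤ 6 → ∃ g ∈ Cfsg.M24, g ≠ 1 ∧ ∀ b ∈ B, g b = b) ∧
    (∃ B : Finset Cfsg.GolayPt, B.card = 7 ∧ ∀ g ∈ Cfsg.M24, (∀ b ∈ B, g b = b) → g = 1) := by
  constructor
  · intro B hB
    obtain ⟨C, h1, -, h2⟩ := Finset.exists_subsuperset_card_eq (Finset.subset_univ B) hB
      (show 6 ≤ _ by rw [Finset.card_univ, card_pt]; decide)
    obtain ⟨a, C1, ha, rfl, h21⟩ := Finset.card_eq_succ.mp h2
    obtain ⟨b, C2, hb, rfl, h22⟩ := Finset.card_eq_succ.mp h21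
    obtain ⟨c, C3, hc, rfl, h23⟩ := Finset.card_eq_succ.mp h22
    obtain ⟨d, e, f, h3, h4, h5, rfl⟩ := Finset.card_eq_three.mp h23
    simp only [Finset.mem_insert, Finset.mem_singleton, not_or] at hb hc
    obtain ⟨g, rfl, rfl, rfl, rfl, rfl⟩ := tr5 hb.1 hb.2.1 hc.1 hb.2.2.1 hc.2.1 h3 hb.2.2.2 hc.2.2 h4 h5
    obtain ⟨a, rfl⟩ := exists_smul' g a
    obtain ⟨i, hi, rfl⟩ := exists_dec a
    obtain ⟨t, h6, h7, h8⟩ := (show ∀ i < 24, ∃ t ∈ [0xbc12ba18ad946c79b11553dc418820, 0xbd6cb22627638cfa224a834b318820, 0xba4eca91d491550b216d99a2f18820, 0xba0d6aa4b26c56a792143cdcc18820, 0xb9d367add3814d263488a2a3518820, 0xb990f640a75466db512492dd518820, 0xbca0fb4dcb49507aaa862362c18820, 0xb9944a31d5694e85c2d27a63318820, 0xbbec66acb4ac52c41e72241ca18820, 0xbc255651c4395a979a6a5a23618820, 0xbd58a410b37c4f66a6905c9c618820, 0xbb54c79cb044486aae534d1d618820, 0xba9b5b48a93468864ceb811cf18820, 0xba8cb9d9cf4152d24990a9e3418820, 0xb9e545b4a64c6b023d56431d318820, 0xbbeb23b5ca6169682d0434e2918820,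 0xbd9e854ca46461534967a25cd18820], inM24 t = true ∧ F24.isOne t = false ∧
        ∀ j ∈ [i, 23, 0, 1, 2, 3], j < 24 ∧ F24.g t j = j by decide +kernel) i hi
    have r := elM_rep h7
    refine ⟨(g * elM t * g⁻¹ : M24), Subtype.prop _, fun h => ?_, fun x hx => ?_⟩
    · have : g * elM t * g⁻¹ = 1 := Subtype.ext h
      rw [conj_eq_one_iff, r.isOne_iff] at this
      exact absurd (h8.1.symm.trans this) (by decide)
    · have k : ∀ j ∈ [i, 23, 0, 1, 2, 3], ((g * elM t * g⁻¹ : M24) : P24) (g • dec j) = g • dec j := fun j hj =>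
        conj_fix (X := GolayPt) ((r.fix_iff (h8.2 j hj).1).mpr (h8.2 j hj).2)
      have := h1 hx
      simp only [Finset.mem_insert, Finset.mem_singleton] at this
      rcases this with rfl | rfl | rfl | rfl | rfl | rfl <;> exact k _ (by simp)
  · refine ⟨toFs 0x80003f, by rw [card_toFs (by norm_num)]; decide +kernel, fun g hg h => ?_⟩
    have := ((packM.refull [(23, [(0x406c6ccf6ade2f105522b90449974, 0x741e0921b661a740a465888e4aad57)]),(0, [(0xbd046204eb6566f52470714116a2d2, 0xb85d66808861c6f82d428d0d34d645)]),(1, [(0xbd5a29a2013465462cb63a46e7a880, 0xba2cc9b5d1192ab508d23bd212d200)]),(2, [(0xba2924b0c58b8951b6765096783c20, 0xba1954d1e31395229e762460d59820)]),(3, [(0xbb9477b2d1ac07244ccb4d1a520820, 0xbc5e65320e9d8b2454eba248368820)]),(4, [(0xbce8d549c7216ab45a0c4be2618820, 0xba9b5b48a93468864ceb811cf18820), (0xb990f640a75466db512492dd518820, 0xbac8a69dd2a159333d3585a2818820)]),(5, [(0xbb5135bdd63160aa1ea964a2418820, 0xbc12ba18ad946c79b11553dc418820)])]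 (by decide +kernel)).fixM 7 0x80003f 1 (by decide +kernel)).eq_bot
    have h1 : (⟨g, hg⟩ : M24) ∈ ⊤ ⊓ fixM (toFs 0x80003f) := ⟨trivial, h⟩
    rw [this] at h1
    exact congrArg Subtype.val (Subgroup.mem_bot.mp h1)

end Cfsg.Agent.S5521
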