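import Cfsg.Statements.S5522
import Cfsg.Agent.H7.Mi

set_option autoImplicit false
open Cfsg

namespace Cfsg.Agent.S5522

open CfsgH7 MulAction
open scoped Pointwise symmDiff
set_option maxRecDepth 100000
set_option Elab.async false


/-- The Mathieu group M₁₁, realised as the stabiliser of one point of the dodecad of squares inside the stabiliser M₁₂ of that dodecad in M₂₄, acts on the twelve coordinate positions outside the dodecad of squares (its 3-transitive action of degree 12); in this action every element of prime order fixes a point, i.e. the action is elusive. -/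
theorem result (g : Equiv.Perm Cfsg.GolayPt) (hg : g ∈ Cfsg.Spor.M11) (hord : (orderOf g).Prime) :
    ∃ x : Cfsg.GolayPt, x ∉ Cfsg.Spor.squareDodecad ∧ g x = x := by
  have key : ∀ {p k : ℕ} (L : List (ℕ × List (ℕ × ℕ))), p.Prime → ¬ p ^ (k + 1) ∣ 7920 → orderOf g = p →
      ((F24.siftAll (F24.build L11) (Fmt.gens L) &&ₙ F24.loChk L &&ₙ F24.hiChk L &&ₙ
        (F24.size (F24.build L) =ₙ p ^ k)) &&ₙ F24.srch Fmt.okAll (fun t => bnot (force (Act.powT F24 t p) F24.isOne) ||ₙ any (fun i => tb 0xfacca0 i &&ₙ (F24.g t i =ₙ i)) 24) (F24.build L) [] F24.one) = true →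
      ∃ x : GolayPt, x ∉ Spor.squareDodecad ∧ g x = x := by
    intro p k L hp hk ho hc
    rw [band_eq, Bool.and_eq_true] at hc
    have h := (pM11.sub_chain L _ hc.1).2
    obtain ⟨c, t, h1, h2⟩ := h.full.forall_p (k := k) (j := 1) hp (h.full.card.symm.trans h.card)
      (by rwa [pM11.card_top]) hc.2 (x := ⟨g, hg⟩) (by rw [Subgroup.orderOf_mk, ho, pow_one])
    have h0 : F24.isOne (Act.powT F24 t p) = true := (h1.pow_eq_one_iff p).mp (by
      rw [conj_pow, show (⟨g, hg⟩ : Spor.M11) ^ p = 1 from Subtype.ext (ho ▸ pow_orderOf_eq_one g)]; simp)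
    simp only [force_eq, h0, bnot_eq, Bool.not_true, bor_eq, Bool.false_or, any_iff, band_eq, Bool.and_eq_true, n_beq, tb_eq] at h2
    obtain ⟨i, hi, h3, h4⟩ := h2
    have h5 : ((c : P24) * g * (c : P24)⁻¹) (dec i) = dec i := (h1.fix_iff hi).mpr h4
    refine ⟨(c : P24)⁻¹ • dec i, ?_, ?_⟩
    · have : (c : P24) • Spor.squareDodecad = Spor.squareDodecad := c.2.1.2
      rw [← memM (c : P24), smul_inv_smul, this, squareDodecad_eq, ← Finset.mem_compl, ← toFs_compl,
        dec_mem_toFs hi]
      exact h3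
    · rw [Equiv.Perm.smul_def, Equiv.Perm.eq_inv_iff_eq]; exact h5
  have hd : orderOf g ∣ 2 ^ 4 * 3 ^ 2 * 5 * 11 := by
    have := orderOf_dvd_natCard (⟨g, hg⟩ : Spor.M11)
    rwa [pM11.card_top, Subgroup.orderOf_mk] at this
  rcases (Nat.Prime.dvd_mul hord).mp hd with hd | hd
  · rcases (Nat.Prime.dvd_mul hord).mp hd with hd | hd
    · rcases (Nat.Prime.dvd_mul hord).mp hd with hd | hd
      · exact key (k := 4) LS11 Nat.prime_two (by norm_num) ((Nat.prime_dvd_prime_iff_eq hord Nat.prime_two).mp (hord.dvd_of_dvd_pow hd)) (by decide +kernel)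
      · exact key (k := 2) [(1, [(0x996eeab6c179c435aa08a322434920, 0xac667b88a97d2465a82870ec463600), (0xbc6ae9c0a651c2d7ac68a4ac412580, 0xb96a799ad25d18153c487422448da0)])] Nat.prime_three (by norm_num) ((Nat.prime_dvd_prime_iff_eq hord Nat.prime_three).mp (hord.dvd_of_dvd_pow hd)) (by decide +kernel)
    · exact key (k := 1) [(1, [(0xaae3350dc879cc1a5932bb0b023440, 0x3aaeba22a47c446b4d30734a390580)])] Nat.prime_five (by norm_num) ((Nat.prime_dvd_prime_iff_eq hord Nat.prime_five).mp hd) (by decide +kernel)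
  · exact key (k := 1) [(1, [(0x2d5f3b2164bd0727298d8a4e610600, 0x7cecea30e1aad098a8d2292f068c40)])] fact11.out (by norm_num) ((Nat.prime_dvd_prime_iff_eq hord fact11.out).mp hd) (by decide +kernel)

end Cfsg.Agent.S5522
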