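import Cfsg.Statements.S5541
import Cfsg.Agent.H4.Maj

set_option autoImplicit false
open Cfsg

namespace Cfsg.Agent.S5541

open CfsgH4

/-- Let ρ be a representation of a group H on a finite-dimensional real vector space U whose only ρ-invariant subspaces are the zero subspace and U, and suppose U carries a non-zero ρ-invariant symmetric bilinear form. Then the following are equivalent: (1) there is a non-zero ρ-equivariant commutative bilinear product on U of which every ρ-equivariant bilinear product is a scalar multiple; (2) there is a non-zero ρ-invariant trilinear form on U that is symmetric under all permutations of its arguments and of which every ρ-invariant trilinear form is a scalar multiple. -/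
theorem result {H : Type*} [Group H] {U : Type*} [AddCommGroup U] [Module ℝ U] [FiniteDimensional ℝ U] (ρ : Representation ℝ H U) (hirr : ∀ W : Submodule ℝ U, (∀ g : H, W.map (ρ g) ≤ W) → W = ⊥ ∨ W = ⊤) (B : LinearMap.BilinForm ℝ U) (hB0 : B ≠ 0) (hBs : ∀ u v, B u v = B v u) (hBi : ∀ (g : H) (u v : U), B (ρ g u) (ρ g v) = B u v) : (∃ m : U →ₗ[ℝ] U →ₗ[ℝ] U, m ≠ 0 ∧ (∀ u v, m u v = m v u) ∧ (∀ (g : H) (u v : U), m (ρ g u) (ρ g v) = ρ g (m u v)) ∧ ∀ m' : U →ₗ[ℝ] U →ₗ[ℝ] U, (∀ (g : H) (u v : U), m' (ρ g u) (ρ g v) = ρ g (m' u v)) → ∃ c : ℝ, m' = c • m) ↔ (∃ t : U →ₗ[ℝ] U →ₗ[ℝ] U →ₗ[ℝ] ℝ, t ≠ 0 ∧ (∀ u v w, t u v w = t v u w ∧ t u v w = t u w v) ∧ (∀ (g : H) (u v w : U), t (ρ g u) (ρ g v) (ρ g w) = t u v w) ∧ ∀ t' : U →ₗ[ℝ] U →ₗ[ℝ] U →ₗ[ℝ] ℝ, (∀ (g : H) (u v w : U), t' (ρ g u) (ρ g v) (ρ g w) = t' u v w) → ∃ c : ℝ, t' = c • t) := by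
  have hnd : B.Nondegenerate := by
    have hk : LinearMap.ker B = ⊥ := by
      refine (hirr (LinearMap.ker B) fun g => ?_).resolve_right fun e => hB0 (LinearMap.ker_eq_top.1 e)
      rintro _ ⟨u, hu, rfl⟩
      rw [LinearMap.mem_ker]
      ext v
      have := hBi g u (ρ g⁻¹ v)
      rw [Representation.self_inv_apply, LinearMap.mem_ker.1 hu] at this
      exact this
    refine LinearMap.BilinForm.Nondegenerate.ofSeparatingLeft ?_
    exact LinearMap.separatingLeft_iff_ker_eq_bot.2 hk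
  have hext : ∀ x y : U, (∀ w, B x w = B y w) → x = y := fun x y h => by
    rw [← sub_eq_zero]
    exact hnd.1 _ fun w => by rw [map_sub, LinearMap.sub_apply, h, sub_self]
  let E : U ≃ₗ[ℝ] Module.Dual ℝ U := B.toDual hnd
  have hE : ∀ u w, E u w = B u w := fun u w => rfl
  have toM : ∀ t : U →ₗ[ℝ] U →ₗ[ℝ] U →ₗ[ℝ] ℝ, ∃ m : U →ₗ[ℝ] U →ₗ[ℝ] U,
      ∀ u v w, B (m u v) w = t u v w := fun t =>
    ⟨t.compr₂ E.symm.toLinearMap, fun u v w => by
      rw [← hE]
      exact LinearMap.congr_fun (E.apply_symm_apply (t u v)) w⟩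
  have toT : ∀ m : U →ₗ[ℝ] U →ₗ[ℝ] U, ∃ t : U →ₗ[ℝ] U →ₗ[ℝ] U →ₗ[ℝ] ℝ,
      ∀ u v w, B (m u v) w = t u v w := fun m => ⟨m.compr₂ B, fun u v w => rfl⟩
  have hinv : ∀ (m : U →ₗ[ℝ] U →ₗ[ℝ] U) (t : U →ₗ[ℝ] U →ₗ[ℝ] U →ₗ[ℝ] ℝ),
      (∀ u v w, B (m u v) w = t u v w) →
      ((∀ (g : H) (u v : U), m (ρ g u) (ρ g v) = ρ g (m u v)) ↔
        ∀ (g : H) (u v w : U), t (ρ g u) (ρ g v) (ρ g w) = t u v w) := by
    intro m t h
    constructor
    · intro h1 g u v w
      rw [← h, ← h, h1, hBi]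
    · intro h1 g u v
      refine hext _ _ fun w => ?_
      have := h1 g u v (ρ g⁻¹ w)
      rw [← h, ← h, ← hBi g (m u v), Representation.self_inv_apply] at this
      exact this
  have hz : ∀ (m : U →ₗ[ℝ] U →ₗ[ℝ] U) (t : U →ₗ[ℝ] U →ₗ[ℝ] U →ₗ[ℝ] ℝ),
      (∀ u v w, B (m u v) w = t u v w) → (m = 0 ↔ t = 0) := by
    intro m t h
    constructor
    · rintro rfl
      ext u v w
      simp [← h]
    · rintro rfl
      ext u v
      exact hext _ _ fun w => by simp [h]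
  constructor
  · rintro ⟨m, h0, hc, hi, hu⟩
    obtain ⟨t, ht⟩ := toT m
    have hti := (hinv m t ht).1 hi
    have huniq : ∀ t' : U →ₗ[ℝ] U →ₗ[ℝ] U →ₗ[ℝ] ℝ,
        (∀ (g : H) (u v w : U), t' (ρ g u) (ρ g v) (ρ g w) = t' u v w) → ∃ c : ℝ, t' = c • t := by
      intro t' h'
      obtain ⟨m', hm'⟩ := toM t'
      obtain ⟨c, rfl⟩ := hu m' ((hinv m' t' hm').2 h')
      refine ⟨c, ?_⟩
      ext u v w
      simp [← hm', ← ht]
    have hs : ∀ u v w, t u v w = t v u w := fun u v w => by rw [← ht, ← ht, hc]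
    have ht0 : t ≠ 0 := fun e => h0 ((hz m t ht).2 e)
    refine ⟨t, ht0, fun u v w => ⟨hs u v w, ?_⟩, hti, huniq⟩
    obtain ⟨c, hc'⟩ := huniq ((LinearMap.lflip (R := ℝ)).toLinearMap ∘ₗ t) fun g u v w => hti g u w v
    have h1 : ∀ u v w, t u w v = c * t u v w := fun u v w =>
      LinearMap.congr_fun (LinearMap.congr_fun (LinearMap.congr_fun hc' u) v) w
    have h2 : c = 1 := by
      obtain ⟨a, b, d, h3⟩ : ∃ a b d, t a b d ≠ 0 := by
        by_contra h
        push Not at h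
        exact ht0 (by ext a b d; exact h a b d)
      have e1 : t a b d = c * (c * t a b d) := by rw [← h1, ← h1]
      have e2 : t a b d = c * (c * (c * t a b d)) := by
        rw [← h1 a b d, hs a d b, ← h1 d a b, hs d b a, ← h1 b d a, hs b a d]
      rw [← e1] at e2
      exact mul_right_cancel₀ h3 (by rw [← e2, one_mul])
    rw [h1 u w v, h2, one_mul]
  · rintro ⟨t, h0, hs, hi, hu⟩
    obtain ⟨m, hm⟩ := toM t
    refine ⟨m, fun e => h0 ((hz m t hm).1 e), fun u v => hext _ _ fun w => ?_,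
      (hinv m t hm).2 hi, fun m' h' => ?_⟩
    · rw [hm, hm, (hs u v w).1]
    · obtain ⟨t', ht'⟩ := toT m'
      obtain ⟨c, rfl⟩ := hu t' ((hinv m' t' ht').1 h')
      refine ⟨c, ?_⟩
      ext u v
      exact hext _ _ fun w => by simp [ht', hm]

end Cfsg.Agent.S5541
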