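import Cfsg.Statements.S5543
import Cfsg.Agent.H4.Maj

set_option autoImplicit false
open Cfsg

namespace Cfsg.Agent.S5543

open CfsgH4

/-- Let V be a finite-dimensional real vector space with a commutative bilinear product and a positive-definite symmetric bilinear form that associates with the product and satisfies the Norton inequality (the Majorana setting of the definitions). Let X be a group of linear automorphisms of V in which every element squares to the identity, and suppose every non-identity element x of X is a Majorana involution with an axial vector a(x) of squared length 1, such that for any two distinct non-identity x, y the product a(x) ∘ a(y) equals (1/8)(a(x) + a(y) − a(xy)) (the dihedral subalgebra of type 2A whose third axis belongs to the involution xy). Then X has order at most 4. -/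
theorem result {V : Type*} [AddCommGroup V] [Module ℝ V] [FiniteDimensional ℝ V] (mul : V →ₗ[ℝ] V →ₗ[ℝ] V) (B : LinearMap.BilinForm ℝ V) (hV : Cfsg.Axial.IsMajoranaAmbient mul B) (X : Subgroup (V ≃ₗ[ℝ] V)) (hX : ∀ x ∈ X, x * x = 1) (ax : (V ≃ₗ[ℝ] V) → V) (hax : ∀ x ∈ X, x ≠ 1 → Cfsg.Axial.IsMajoranaPair mul B x (ax x)) (h1 : ∀ x ∈ X, x ≠ 1 → B (ax x) (ax x) = 1) (h2A : ∀ x ∈ X, ∀ y ∈ X, x ≠ 1 → y ≠ 1 → x ≠ y → mul (ax x) (ax y) = (1 / 8 : ℝ) • (ax x + ax y - ax (x * y))) : Nat.card ↥X ≤ 4 := by
  classical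
  by_contra hlt
  have hfin : Finite X := Nat.finite_of_card_ne_zero (by omega)
  have := Fintype.ofFinite X
  have hex : ∀ s : Finset X, s.card ≤ 4 → ∃ x, x ∉ s := by
    intro s hs
    by_contra h
    push Not at h
    have := Finset.card_le_card (show Finset.univ ⊆ s from fun x _ => h x)
    rw [Finset.card_univ, ← Nat.card_eq_fintype_card] at this
    omega
  obtain ⟨x, hx⟩ := hex {1} (by simp)
  obtain ⟨y, hy⟩ := hex {1, x} (Finset.card_le_two.trans (by norm_num))
  obtain ⟨z, hz⟩ := hex {1, x, y, x * y} Finset.card_le_four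
  simp only [Finset.mem_insert, Finset.mem_singleton, not_or] at hx hy hz
  have hsq : ∀ a : X, a * a = 1 := fun a => Subtype.ext (hX a a.2)
  have hinv : ∀ a : X, a⁻¹ = a := fun a => inv_eq_of_mul_eq_one_right (hsq a)
  have hcm : ∀ a b : X, a * b = b * a := fun a b => by
    rw [← hinv (a * b), mul_inv_rev, hinv, hinv]
  letI : CommGroup X := { (inferInstance : Group X) with mul_comm := hcm }
  have hsq' : ∀ a b : X, a * (a * b) = b := fun a b => by rw [← mul_assoc, hsq, one_mul]
  have hm : ∀ a b : X, a ≠ 1 → b ≠ 1 → a ≠ b →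
      mul (ax a) (ax b) = (1 / 8 : ℝ) • (ax a + ax b - ax (a * b : X)) := fun a b h1 h2 h3 =>
    h2A a a.2 b b.2 (fun e => h1 (Subtype.ext e)) (fun e => h2 (Subtype.ext e))
      (fun e => h3 (Subtype.ext e))
  have hne : ∀ a b : X, a ≠ b → a * b ≠ 1 := fun a b h e => h (by
    rw [← hinv b]; exact eq_inv_of_mul_eq_one_left e)
  have hq : ∀ a : X, a ≠ 1 → a ≠ x → mul (ax x) (ax a - ax (x * a : X)) =
      (1 / 4 : ℝ) • (ax a - ax (x * a : X)) := by
    intro a h1 h2
    rw [map_sub, hm x a hx h1 h2.symm, hm x (x * a) hx (hne _ _ h2.symm)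
      (fun e => h1 (by simpa using e)), hsq']
    module
  have hP := hax x x.2 (fun e => hx (Subtype.ext e))
  have hxy : x * y ≠ 1 := hne _ _ (Ne.symm hy.2)
  have hxz : x * z ≠ 1 := hne _ _ (Ne.symm hz.2.1)
  have hyz : y * z ≠ 1 := hne _ _ (Ne.symm hz.2.2.1)
  have hyzx : y * z ≠ x := fun e => hz.2.2.2 (by rw [← e, mul_comm y z, mul_assoc, hsq, mul_one])
  have h44 := maj_44 hP (hq y hy.1 hy.2) (hq z hz.1 hz.2.1)
  have hpr : mul (ax y - ax (x * y : X)) (ax z - ax (x * z : X)) =
      (-1 / 4 : ℝ) • (ax (y * z : X) - ax (x * (y * z) : X)) := by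
    simp only [map_sub, LinearMap.sub_apply]
    rw [hm y z hy.1 hz.1 (Ne.symm hz.2.2.1), hm y (x * z) hy.1 hxz (fun e => hyzx (by
        rw [e, mul_assoc, hsq, mul_one])), hm (x * y) z hxy hz.1 (Ne.symm hz.2.2.2),
      hm (x * y) (x * z) hxy hxz (fun e => hz.2.2.1 (mul_left_cancel e).symm),
      show y * (x * z) = x * (y * z) from mul_left_comm _ _ _, mul_assoc x y z,
      show x * y * (x * z) = y * z by rw [mul_mul_mul_comm, hsq, one_mul]]
    module
  rw [hpr, map_smul, hq _ hyz hyzx, map_smul, map_smul, hq _ hyz hyzx] at h44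
  have h0 : ax (y * z : X) = ax (x * (y * z) : X) := by
    linear_combination (norm := module) (64 / 3 : ℝ) • h44
  have hP' := hax (y * z : X) (y * z).2 (fun e => hyz (Subtype.ext e))
  have h2 := hm (y * z) (x * (y * z)) hyz (hne _ _ hyzx.symm) (fun e => hx (by simpa using e))
  rw [← h0, hP'.2.2.1.1.2.1, mul_left_comm, hsq, mul_one] at h2
  have h3 : ax x = (-6 : ℝ) • ax (y * z : X) := by
    linear_combination (norm := module) (8 : ℝ) • h2
  have h4 := hP.2.2.1.1.2.1
  rw [h3] at h4
  simp only [map_smul, LinearMap.smul_apply, hP'.2.2.1.1.2.1] at h4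
  refine hP'.2.2.1.1.1 ?_
  linear_combination (norm := module) (1 / 42 : ℝ) • h4

end Cfsg.Agent.S5543
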