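import Cfsg.Statements.S5545
import Cfsg.Agent.H4.Maj

set_option autoImplicit false
open Cfsg

namespace Cfsg.Agent.S5545

open CfsgH4

/-- Let V be a finite-dimensional real vector space with a commutative bilinear product and a positive-definite symmetric bilinear form that associates with the product and satisfies the Norton inequality (the Majorana setting of the definitions). Let μ₀, μ₁ be commuting Majorana involutions with distinct axial vectors a₀ ≠ a₁ of squared length 1, each involution having no other axial vector. Then either a₀ and a₁ are orthogonal with a₀ ∘ a₁ = 0 (type 2B), or their inner product is 1/8 and, with a₂ = a₀ + a₁ − 8 a₀ ∘ a₁, the vector a₂ is an idempotent and a₀ ∘ a₂ = (1/8)(a₀ + a₂ − a₁), a₁ ∘ a₂ = (1/8)(a₁ + a₂ − a₀) (type 2A: the three idempotents span a subalgebra with aᵢ ∘ aⱼ = (1/8)(aᵢ + aⱼ − aₖ)). -/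
theorem result {V : Type*} [AddCommGroup V] [Module ℝ V] [FiniteDimensional ℝ V] (mul : V →ₗ[ℝ] V →ₗ[ℝ] V) (B : LinearMap.BilinForm ℝ V) (hV : Cfsg.Axial.IsMajoranaAmbient mul B) (μ₀ μ₁ : V ≃ₗ[ℝ] V) (a₀ a₁ : V) (h₀ : Cfsg.Axial.IsMajoranaPair mul B μ₀ a₀) (h₁ : Cfsg.Axial.IsMajoranaPair mul B μ₁ a₁) (hu₀ : ∀ a : V, Cfsg.Axial.IsMajoranaPair mul B μ₀ a → a = a₀) (hu₁ : ∀ a : V, Cfsg.Axial.IsMajoranaPair mul B μ₁ a → a = a₁) (hn₀ : B a₀ a₀ = 1) (hn₁ : B a₁ a₁ = 1) (hc : μ₀ * μ₁ = μ₁ * μ₀) (hne : a₀ ≠ a₁) : (B a₀ a₁ = 0 ∧ mul a₀ a₁ = 0) ∨ (B a₀ a₁ = 1 / 8 ∧ mul (a₀ + a₁ - (8 : ℝ) • mul a₀ a₁) (a₀ + a₁ - (8 : ℝ) • mul a₀ a₁) = a₀ + a₁ - (8 : ℝ) • mul a₀ a₁ ∧ mul a₀ (a₀ + a₁ - (8 : ℝ) • mul a₀ a₁) = (1 / 8 : ℝ) • (a₀ + (a₀ + a₁ - (8 : ℝ) • mul a₀ a₁) - a₁) ∧ mul a₁ (a₀ + a₁ - (8 : ℝ) • mul a₀ a₁) = (1 / 8 : ℝ) • (a₁ + (a₀ + a₁ - (8 : ℝ) • mul a₀ a₁) - a₀)) := by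
  have f0 : μ₀ a₁ = a₁ := hu₁ _ (maj_conj h₁ h₀.1 hc)
  have f1 : μ₁ a₀ = a₀ := hu₀ _ (maj_conj h₀ h₁.1 hc.symm)
  have h00 : mul a₀ a₀ = a₀ := h₀.2.2.1.1.2.1
  have h11 : mul a₁ a₁ = a₁ := h₁.2.2.1.1.2.1
  obtain ⟨e1, e2⟩ := maj_half hV h₀ hn₀ h11 f0
  obtain ⟨e3, e4⟩ := maj_half hV h₁ hn₁ h00 f1
  obtain ⟨hcm, hsym, hpos, has, -⟩ := hV
  rw [hsym a₁ a₀, hcm a₁ a₀] at e3 e4
  have hσσ : B (mul a₀ a₁) (mul a₀ a₁) = 3 * B a₀ a₁ / 4 * B a₀ a₁ + 1 / 4 * B a₀ a₁ := by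
    conv_lhs => rw [← has, e3]
    rw [map_add, map_smul, map_smul, has, h00]
    rfl
  generalize hσ : mul a₀ a₁ = σ at *
  generalize hl : B a₀ a₁ = l at *
  have h10 : mul a₁ a₀ = σ := by rw [hcm, hσ]
  simp only [map_add, map_sub, map_smul, LinearMap.add_apply, LinearMap.sub_apply,
    LinearMap.smul_apply, hcm σ a₀, hcm σ a₁, e1, e3, h00, h11, hσ, h10] at e2 e4
  have h1 : (l * (8 * l - 1)) • (a₀ - a₁) = 0 := by
    linear_combination (norm := module) (4 : ℝ) • e2 - (4 : ℝ) • e4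
  rcases mul_eq_zero.1 ((smul_eq_zero.1 h1).resolve_right (sub_ne_zero.2 hne)) with h | h
  · left
    refine ⟨h, ?_⟩
    by_contra h0
    have := hpos σ h0
    rw [hσσ, h] at this
    norm_num at this
  · right
    have h2 : l = 1 / 8 := by linarith
    subst h2
    refine ⟨rfl, ?_, ?_, ?_⟩
    · simp only [map_add, map_sub, map_smul, LinearMap.add_apply, LinearMap.sub_apply,
        LinearMap.smul_apply, hcm σ a₀, hcm σ a₁, e1, e3, h00, h11, hσ, h10]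
      linear_combination (norm := module) (-16 : ℝ) • e2
    · simp only [map_add, map_sub, map_smul, e1, h00, hσ]
      module
    · simp only [map_add, map_sub, map_smul, e3, h11, h10]
      module

end Cfsg.Agent.S5545
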