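import Cfsg.Statements.S5548
import Cfsg.Agent.H7.Mj

set_option autoImplicit false
open Cfsg

namespace Cfsg.Agent.S5548

open CfsgH7 MulAction
open scoped Pointwise symmDiff
set_option maxRecDepth 100000
set_option Elab.async false

theorem two {P : Finset GolayPt → Prop} (h : InvF P) {s : Finset GolayPt} (h2 : s.card = 2) (hP : P s) :
    ∀ (n : ℕ) (u : Finset GolayPt), u.card = 2 * (n + 1) → P u := by
  have h1 : ∀ u : Finset GolayPt, u.card = 2 → P u := fun u hu => by
    obtain ⟨g, rfl⟩ := trP2 h2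
    obtain ⟨g', rfl⟩ := trP2 hu
    have := h.smul (g' * g⁻¹) _ hP
    rwa [mulM_smul, Subgroup.coe_inv, inv_smul_smul] at this
  intro n
  induction n with
  | zero => exact h1
  | succ n ih =>
    intro u hu
    obtain ⟨t, ht, h3⟩ := Finset.exists_subset_card_eq (s := u) (n := 2) (by omega)
    have := h.add _ _ (h1 t h3) (ih (u \ t) (by rw [Finset.card_sdiff_of_subset ht]; omega))
    rwa [Finset.disjoint_sdiff.symmDiff_eq_sup, Finset.sup_eq_union, Finset.union_sdiff_of_subset ht] at this

theorem red {P : Finset GolayPt → Prop} (h : InvF P) : ∀ (n : ℕ) (s : Finset GolayPt), s.card = n → n ≤ 8 →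
    n % 2 = 0 → s ∉ Cw → P s → ∃ u : Finset GolayPt, u.card = 2 ∧ P u := by
  intro n
  induction n using Nat.strong_induction_on with
  | _ n ih =>
  intro s hs h8 h2 hc hP
  have h0 : n ≠ 0 := by rintro rfl; exact hc (Finset.card_eq_zero.mp hs ▸ Cw_empty)
  by_cases h3 : n = 2
  · exact ⟨s, hs.trans h3, hP⟩
  have key : ∀ (g : M24) (t : Finset GolayPt), t ⊆ s → (g : P24) • t = t → (g : P24) • s ≠ s → n < 2 * t.card →
      2 * n < 2 * t.card + 8 → ∃ u : Finset GolayPt, u.card = 2 ∧ P u := fun g t ht h4 h5 h6 h7 => by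
    have h9 := card_symmDiff' ((g : P24) • s) s
    have h10 : t.card ≤ ((g : P24) • s ∩ s).card := Finset.card_le_card (Finset.subset_inter
      (by rw [← h4, subsetM]; exact ht) ht)
    rw [cardM, hs] at h9
    exact ih _ (by omega) _ rfl (by omega) (by omega) (fun h11 => h5 (eq_of_symmDiff_card h11 (by omega)))
      (h.add _ _ (h.smul g _ hP) hP)
  by_cases h4 : n = 4
  · obtain ⟨t, ht, h5⟩ := Finset.exists_subset_card_eq (s := s) (n := 3) (by omega)
    obtain ⟨g, rfl⟩ := trP3 h5
    obtain ⟨m, hm, rfl⟩ := exists_maskM g s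
    obtain ⟨x, hx⟩ := Finset.card_eq_one.mp (show ((g : P24) • toFs m \ (g : P24) • toFs 0x800003).card = 1 by
      rw [Finset.card_sdiff_of_subset ht]; omega)
    obtain ⟨y, rfl⟩ := exM g x
    obtain ⟨i, hi, rfl⟩ := exists_dec y
    rw [sdiffM, ← Finset.smul_finset_singleton, eqM] at hx
    rw [subsetM] at ht
    have e : toFs m = toFs (1 <<< i ||| 0x800003) := by
      rw [toFs_or, toFs_shl hi, ← hx, Finset.sdiff_union_of_subset ht]
    have h6 : dec i ∉ toFs 0x800003 := (Finset.mem_sdiff.mp (hx ▸ Finset.mem_singleton_self _)).2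
    rw [dec_mem_toFs hi] at h6
    obtain ⟨t, h7, h8'⟩ := (show ∀ i < 24, tb 0x800003 i = false → ∃ t ∈ S21,
      actm t (1 <<< i ||| 0x800003) ≠ 1 <<< i ||| 0x800003 ∧ actm t 0x800003 = 0x800003 by decide +kernel) i hi (by simpa [tb_eq] using h6)
    obtain ⟨u, -, r⟩ := pack21.mem t h7
    refine key (g * u * g⁻¹) _ ((subsetM _ _ _).mpr ht) (conj_fix (by rw [smul_toFsM r, h8'.2])) ?_ (by omega) (by omega)
    rw [conjM_smul, Ne, eqM, e, smul_toFsM r, toFs_eq_iff (actm_lt r _) (or_lt (shl_lt hi) (by norm_num))]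
    exact h8'.1
  · obtain ⟨t, ht, h5⟩ := Finset.exists_subset_card_eq (s := s) (n := 5) (by omega)
    obtain ⟨g, rfl⟩ := tr5s h5
    obtain ⟨m, hm, rfl⟩ := exists_maskM g s
    by_cases h6 : ∀ u ∈ Hfix [0x80000f], (u : P24) • toFs m = toFs m
    · exfalso
      rw [subsetM] at ht
      rw [cardM] at hs
      rw [CwM] at hc
      have k : ∀ i j, i < 24 → ((Nat.succ i ≤ₙ 24) &&ₙ (Dpt.orb (Fmt.gens L5) 30 i &ₙ j =ₙ j)) = true →
          ∀ x ∈ toFs j, x ∈ toFs m → toFs j ⊆ toFs m := fun i j hi hc x hx hx' y hy => by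
        obtain ⟨a, ha, rfl⟩ := reach_pt L5_mem i j hc hx
        obtain ⟨b, hb, rfl⟩ := reach_pt L5_mem i j hc hy
        rw [← h6 a ha, memM] at hx'
        rw [← h6 b hb, memM]; exact hx'
      obtain ⟨x, hx, hx'⟩ := Finset.exists_mem_notMem_of_card_lt_card (s := toFs 0x80000f) (t := toFs m)
        (by rw [cardM] at h5; omega)
      by_cases hb : x ∈ toFs 0x24020
      · have := Finset.union_subset ht (k 5 _ (by norm_num) (by decide +kernel) x hb hx)
        rw [← toFs_or] at this
        refine hc (Finset.eq_of_subset_of_card_le this ?_ ▸ o0_mem.1)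
        rw [card_toFs (m := _ ||| _) (by decide), hs]; exact h8
      · have := Finset.card_le_card (k 4 0x7dbfd0 (by norm_num) (by decide +kernel) x
          ((show ∀ b, b ∉ toFs 0x80000f → b ∉ toFs 0x24020 → b ∈ toFs 0x7dbfd0 by decide +kernel) x hx' hb) hx)
        rw [card_toFs (by norm_num), hs] at this
        exact absurd (this.trans h8) (by decide +kernel)
    · push Not at h6
      obtain ⟨u, hu, h7⟩ := h6
      by_cases h9 : n = 6
      · exact key (g * u * g⁻¹) _ ht (conj_fix (hu _ (by simp))) (by rwa [conjM_smul, Ne, eqM]) (by omega) (by omega)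
      · exact key (g * u * g⁻¹) _ ht (conj_fix (hu _ (by simp))) (by rwa [conjM_smul, Ne, eqM]) (by omega) (by omega)

theorem par (w : GolayPt → ZMod 2) : ∑ p, w p = 0 ↔ (support₂ w).card % 2 = 0 := by
  have : ∑ p, w p = ((support₂ w).card : ZMod 2) := by
    rw [support₂, Finset.card_filter, Nat.cast_sum]
    refine Finset.sum_congr rfl fun p _ => ?_
    generalize w p = a
    revert a; decide
  rw [this, ZMod.natCast_eq_zero_iff, Nat.dvd_iff_mod_eq_zero]

/-- For the automorphism group of the length-24 binary Golay code of the definitions (the Mathieu group of degree 24) acting on binary words of length 24 by permuting coordinates, the only invariant subspaces of the space of all words are: zero, the span of the all-ones word, the code itself, the even-weight words, and the whole space. (So the permutation module has a unique composition series.) -/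
theorem result (W : Submodule (ZMod 2) (Cfsg.GolayPt → ZMod 2)) (hW : ∀ σ ∈ Cfsg.M24, ∀ w ∈ W, (fun p => w (σ.symm p)) ∈ W) : W = ⊥ ∨ W = Submodule.span (ZMod 2) {fun _ => (1 : ZMod 2)} ∨ W = Cfsg.golayCode ∨ (W : Set (Cfsg.GolayPt → ZMod 2)) = {w | ∑ p, w p = 0} ∨ W = ⊤ := by
  have hI := invF_sub hW
  have mem : ∀ w, (∃ v ∈ W, support₂ v = support₂ w) → w ∈ W := fun w ⟨v, hv, e⟩ => support_inj e ▸ hv
  by_cases hle : W ≤ golayCode
  · by_cases h : ∃ w ∈ W, support₂ w ≠ ∅ ∧ support₂ w ≠ Finset.univ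
    · obtain ⟨w, hw, h2, h3⟩ := h
      exact Or.inr (Or.inr (Or.inl (le_antisymm hle fun c hc => mem _
        (hI.code (support_mem_Cw.mpr (hle hw)) ⟨w, hw, rfl⟩ h2 h3 _ (support_mem_Cw.mpr hc)))))
    · have k : ∀ w ∈ W, w = 0 ∨ w = fun _ => 1 := fun w hw => by
        by_cases h2 : support₂ w = ∅
        · exact Or.inl (support_inj (h2.trans supp_zero.symm))
        · exact Or.inr (support_inj ((by_contra fun h3 => h ⟨w, hw, h2, h3⟩ : support₂ w = Finset.univ).trans supp_one.symm))
      by_cases h1 : (fun _ => (1 : ZMod 2)) ∈ W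
      · refine Or.inr (Or.inl (le_antisymm (fun w hw => ?_) ((Submodule.span_singleton_le_iff_mem _ _).mpr h1)))
        rcases k w hw with rfl | rfl
        exacts [zero_mem _, Submodule.mem_span_singleton_self _]
      · refine Or.inl (eq_bot_iff.mpr fun w hw => ?_)
        rcases k w hw with rfl | rfl
        exacts [zero_mem _, absurd hw h1]
  · obtain ⟨w, hw, hc⟩ := SetLike.not_le_iff_exists.mp hle
    rw [← support_mem_Cw] at hc
    obtain ⟨l, h1, h2⟩ := exists_lead (support₂ w)
    obtain ⟨g, h3, h4⟩ := moves_coset h2 hc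
    have e : ((g : P24) • support₂ w) ∆ support₂ w = ((g : P24) • l) ∆ l := by
      rw [smul_symmDiff'] at h3
      rw [← symmDiff_eq_bot, symmDiff_symmDiff_symmDiff_comm, h3, symmDiff_self]
    have h5 := card_symmDiff' ((g : P24) • l) l
    rw [cardM] at h5
    obtain ⟨u, h6, h7⟩ := red hI _ _ rfl (by rw [e]; omega) (by rw [e]; omega) h4
      (hI.add _ _ (hI.smul g _ ⟨w, hw, rfl⟩) ⟨w, hw, rfl⟩)
    have ev : ∀ v : GolayPt → ZMod 2, (support₂ v).card % 2 = 0 → v ∈ W := fun v hv => by
      by_cases h0 : (support₂ v).card = 0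
      · rw [support_inj ((Finset.card_eq_zero.mp h0).trans supp_zero.symm)]; exact zero_mem _
      · exact mem _ (two hI h6 h7 ((support₂ v).card / 2 - 1) _ (by omega))
    by_cases ho : ∃ v ∈ W, (support₂ v).card % 2 = 1
    · obtain ⟨v, hv, h8⟩ := ho
      refine Or.inr (Or.inr (Or.inr (Or.inr (eq_top_iff.mpr fun x _ => ?_))))
      by_cases h9 : (support₂ x).card % 2 = 0
      · exact ev x h9
      · have := card_symmDiff' (support₂ x) (support₂ v)
        simpa using W.add_mem (ev (x - v) (by rw [supp_sub]; omega)) hv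
    · refine Or.inr (Or.inr (Or.inr (Or.inl (Set.ext fun x => ?_))))
      rw [Set.mem_setOf_eq, par]
      exact ⟨fun hx => by_contra fun h => ho ⟨x, hx, by omega⟩, ev x⟩

end Cfsg.Agent.S5548
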