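import Cfsg.Statements.S5552
import Cfsg.Agent.H7.Le6

set_option autoImplicit false
open Cfsg

namespace Cfsg.Agent.S5552

open CfsgH7 MulAction
open scoped Pointwise symmDiff
set_option maxRecDepth 100000
set_option Elab.async false

open Le

theorem ex3 (b c k l m : ℕ) (h : (gd b &&ₙ gd c &&ₙ (ip b b =ₙ 4640) &&ₙ (ip c c =ₙ 4640) &&ₙ
    (ip cU b =ₙ k) &&ₙ (ip cU c =ₙ l) &&ₙ (ip b c =ₙ m)) = true) : ∃ u v w : LL, nm u = 32 ∧ nm v = 32 ∧
    nm w = 32 ∧ dt u v = k - 4608 ∧ dt u w = l - 4608 ∧ dt v w = m - 4608 := by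
  simp only [band_eq, Bool.and_eq_true] at h
  obtain ⟨p, q, a, b, c, d, e⟩ := h
  have p := gd_spec p
  have q := gd_spec q
  exact ⟨_, _, _, vec_U ▸ nm_U, p.norm a, q.norm b, gU.dot p c, gU.dot q d, p.dot q e⟩

/-- On the Leech lattice of the definitions, let Q be a function to the field with two elements that is constant on cosets of twice the lattice, is a quadratic form there (Q(u+v+w) + Q(u) + Q(v) + Q(w) = Q(u+v) + Q(u+w) + Q(v+w) for all u, v, w), is invariant under every lattice automorphism, and is not identically zero. Then Q(v) is the squared length of v divided by 16, reduced modulo 2, for every lattice vector v (squared lengths of lattice vectors are multiples of 16). -/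
theorem result (Q : ↥Cfsg.leechLattice → ZMod 2) (hcoset : ∀ v w : ↥Cfsg.leechLattice, Q (v + (w + w)) = Q v) (hquad : ∀ u v w : ↥Cfsg.leechLattice, Q (u + v + w) + Q u + Q v + Q w = Q (u + v) + Q (u + w) + Q (v + w)) (hinv : ∀ (g : ↥Cfsg.Co0) (v : ↥Cfsg.leechLattice), Q (g • v) = Q v) (hne : ∃ v : ↥Cfsg.leechLattice, Q v ≠ 0) (v : ↥Cfsg.leechLattice) : Q v = ((Cfsg.sqNorm (v : Cfsg.GolayPt → ℤ) / 16 : ℤ) : ZMod 2) := by
  have same : ∀ u v : LL, nm u = nm v → nm u ≤ 64 → Q u = Q v := fun u v a b => by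
    obtain ⟨g, rfl⟩ := same_norm a b
    exact (hinv g u).symm
  have q0 : Q 0 = 0 := by
    have := hquad 0 0 0
    simp only [add_zero] at this
    revert this; generalize Q 0 = a; revert a; decide
  have q2 : ∀ v, nm v = 32 → Q v = 0 := by
    obtain ⟨u, v, w, a, b, c, d, e, f⟩ := ex3 0x421084210842108421084210842184
      0x3210a5290a429084210842108428c8 4592 4600 4600 (by decide +kernel)
    have s := fun x (h : nm x = 32) => same x u (h.trans a.symm) (by omega)
    have := hquad u v w
    rw [s v b, s w c, s (u + v) (by rw [nm_add]; omega), s (u + v + w) (by rw [nm_add, nm_add, add_dt]; omega),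
      same (u + w) (v + w) (by rw [nm_add, nm_add]; omega) (by rw [nm_add]; omega)] at this
    intro x hx
    rw [s x hx]
    revert this; generalize Q u = a; generalize Q (v + w) = b; revert a b; decide
  have q4 : ∀ v, nm v = 64 → Q v = 0 := by
    obtain ⟨u, v, w, a, b, c, d, e, f⟩ := ex3 0x221084210842108421084210842188 0x421084210842108421084210843104 4592 4592 4608 (by decide +kernel)
    have := hquad u v w
    rw [q2 u a, q2 v b, q2 w c, q2 (u + v) (by rw [nm_add]; omega), q2 (u + w) (by rw [nm_add]; omega),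
      q2 (u + v + w) (by rw [nm_add, nm_add, add_dt]; omega)] at this
    intro x hx
    rw [same x (v + w) (by rw [nm_add]; omega) (by omega)]
    simpa using this.symm
  have red : ∀ v : LL, ∃ y, Q v = Q y ∧ nm v % 32 = nm y % 32 ∧
      (y = 0 ∨ nm y = 32 ∨ nm y = 48 ∨ nm y = 64) := fun v => by
    obtain ⟨y, a, z, b⟩ := mainL.1 v
    have e : v = y + (z + z) := by rw [← two_zsmul, ← b]; abel
    refine ⟨y, by rw [e, hcoset], ?_, (em _).imp_right fun h => ?_⟩
    · have : (8 : ℤ) ∣ dt y z := leech_dot y.2 z.2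
      have : (16 : ℤ) ∣ nm z := leech_even z.2
      rw [e, nm_add, nm_add, dt_add, dt_self]
      omega
    · have := nm_min h
      have : (16 : ℤ) ∣ nm y := leech_even y.2
      omega
  have q3 : ∀ v, nm v = 48 → Q v = 1 := fun v hv => by
    obtain ⟨u, hu⟩ := hne
    obtain ⟨y, a, -, rfl | b | b | b⟩ := red u
    · exact absurd (a.trans q0) hu
    · exact absurd (a.trans (q2 y b)) hu
    · rw [same v y (hv.trans b.symm) (by omega), ← a]
      revert hu; generalize Q u = a; revert a; decide
    · exact absurd (a.trans (q4 y b)) hu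
  obtain ⟨y, a, b, c⟩ := red v
  have h0 : nm v % 32 = 0 → ((nm v / 16 : ℤ) : ZMod 2) = 0 := fun h =>
    (ZMod.intCast_eq_intCast_iff' _ 0 2).mpr (by omega)
  rw [a]
  rcases c with rfl | c | c | c
  · rw [q0, h0 (b.trans rfl)]
  · rw [q2 y c, h0 (by omega)]
  · rw [q3 y c]; exact ((ZMod.intCast_eq_intCast_iff' _ 1 2).mpr (by show nm v / 16 % _ = _; omega)).symm
  · rw [q4 y c, h0 (by omega)]

end Cfsg.Agent.S5552
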