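import Cfsg.Statements.S5553
import Cfsg.Agent.H7.Le5

set_option autoImplicit false
open Cfsg

namespace Cfsg.Agent.S5553

open CfsgH7 MulAction
open scoped Pointwise symmDiff
set_option maxRecDepth 100000
set_option Elab.async false

open Le

def B : AddSubgroup (GolayPt → ZMod 4) := AddSubgroup.zmultiples (φ4 (two Finset.univ))

theorem cB : Nat.card B = 2 := by
  rw [B, Nat.card_zmultiples]
  exact addOrderOf_eq_prime (by funext i; simp [φ4, two]; rfl) fun h => absurd (congrFun h none) (by decide)

theorem mB {x : V24} : φ4 x ∈ B ↔ (∀ i, x i % 4 = 0) ∨ ∀ i, x i % 4 = 2 := by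
  constructor
  · rintro ⟨k, e⟩
    simp only [← map_zsmul, φ4_eq, Pi.smul_apply, two, Finset.mem_univ, if_true, smul_eq_mul] at e
    rcases Int.emod_two_eq_zero_or_one k with h | h
    · exact Or.inl fun i => by have := e i; omega
    · exact Or.inr fun i => by have := e i; omega
  · rintro (h | h)
    · rw [mem_ker4.mpr h]; exact zero_mem _
    · rw [(φ4_eq (y := two Finset.univ)).mpr fun i => by simp [two, h i]]
      exact AddSubgroup.mem_zmultiples _

/-- The Leech lattice of the definitions has an additive subgroup A containing twice the lattice, of index 2^12 in the lattice, all of whose vectors have squared length divisible by 32: the invariant quadratic form 'squared length over 16 modulo 2' on the lattice modulo twice the lattice (a 24-dimensional space over the field with two elements) vanishes on a 12-dimensional subspace, so it is of plus type. -/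
theorem result : ∃ A : AddSubgroup (Cfsg.GolayPt → ℤ), A ≤ Cfsg.leechLattice ∧ (∀ v ∈ Cfsg.leechLattice, (2 : ℤ) • v ∈ A) ∧ (A.addSubgroupOf Cfsg.leechLattice).index = 2 ^ 12 ∧ ∀ v ∈ A, (32 : ℤ) ∣ Cfsg.sqNorm v := by
  refine ⟨B.comap φ4 ⊓ leechLattice, inf_le_right, fun v hv => ⟨mB.mpr ?_, zsmul_mem hv _⟩, ?_, fun v hv => ?_⟩
  · obtain ⟨m, s, h0, -, h1, -⟩ := mem_leech.mp hv
    simp only [Pi.smul_apply, smul_eq_mul]
    rcases h0 with rfl | rfl
    · exact Or.inl fun i => by have := h1 i; split_ifs at this <;> omega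
    · exact Or.inr fun i => by have := h1 i; split_ifs at this <;> omega
  · have a : B ≤ leechLattice.map φ4 :=
      AddSubgroup.zmultiples_le.mpr ⟨_, (Lx_two Cw_univ).mem, rfl⟩
    have b := AddSubgroup.card_mul_index (B.addSubgroupOf (leechLattice.map φ4))
    rw [Nat.card_congr (AddSubgroup.addSubgroupOfEquivOfLe a).toEquiv, cB, card_map4] at b
    show (B.comap φ4 ⊓ leechLattice).relIndex leechLattice = _
    rw [AddSubgroup.inf_relIndex_right, AddSubgroup.relIndex_comap, AddSubgroup.relIndex]
    omega
  · rcases mB.mp hv.1 with h | h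
    · have a := (mem_of_ker h).mp hv.2
      have : (32 : ℤ) ∣ ∑ i, (v i ^ 2 - 4 * v i) := Finset.dvd_sum fun i _ => by
        obtain ⟨k, e⟩ := Int.dvd_of_emod_eq_zero (h i)
        obtain ⟨l, f⟩ := Int.even_mul_pred_self k
        exact ⟨l, by rw [e]; linear_combination 16 * f⟩
      rw [Finset.sum_sub_distrib, ← Finset.mul_sum] at this
      rw [sqNorm]; omega
    · have : (32 : ℤ) ∣ ∑ i, (v i ^ 2 - 4) := Finset.dvd_sum fun i _ => by
        obtain ⟨k, e⟩ : ∃ k, v i = 4 * k + 2 := ⟨v i / 4, by have := h i; omega⟩
        obtain ⟨l, f⟩ := Int.even_mul_succ_self k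
        exact ⟨l, by rw [e]; linear_combination 16 * f⟩
      rw [Finset.sum_sub_distrib, Finset.sum_const, Finset.card_univ, card_pt] at this
      rw [sqNorm]
      simp only [nsmul_eq_mul, Nat.cast_ofNat] at this
      omega

end Cfsg.Agent.S5553
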