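import Cfsg.Statements.S5562
import Cfsg.Agent.TT.T1

set_option autoImplicit false
open Cfsg

namespace Cfsg.Agent.S5562

open CfsgTT

/-- Let G be a finite group, d an involution of G whose conjugates pairwise have products of odd order, and x any involution of G. Then the conjugacy class of d is the disjoint union, over the conjugates a of d commuting with x, of the sets of conjugates of d commuting with ax: every conjugate of d commutes with ax for exactly one conjugate a of d that commutes with x. -/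
theorem result {G : Type*} [Group G] [Finite G] (d : G) (hd : orderOf d = 2)
    (hodd : ∀ a ∈ conjugatesOf d, ∀ b ∈ conjugatesOf d, Odd (orderOf (a * b)))
    (x : G) (hx : orderOf x = 2) :
    ∀ e ∈ conjugatesOf d,
      ∃! a : G, a ∈ conjugatesOf d ∧ Commute a x ∧ Commute e (a * x) := by
  intro e he
  have cl : ∀ g, ∀ a ∈ conjugatesOf d, g * a * g⁻¹ ∈ conjugatesOf d := fun g a ha =>
    IsConj.trans ha (isConj_iff.2 ⟨g, rfl⟩)
  have sq : ∀ {a}, a ∈ conjugatesOf d → a * a = 1 := fun ha => by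
    obtain ⟨u, rfl⟩ := isConj_iff.1 ha
    rw [conj_mul, sq_of_ord hd]; simp
  have iv : ∀ {a}, a ∈ conjugatesOf d → a⁻¹ = a := fun ha => inv_eq_of_mul_eq_one_right (sq ha)
  have rt : ∀ w : G, Odd (orderOf w) → ∃ j : ℕ, (w ^ j) ^ 2 = w := by
    rintro w ⟨j, hj⟩
    exact ⟨j + 1, by rw [← pow_mul, show (j + 1) * 2 = orderOf w + 1 by omega, pow_succ, pow_orderOf_eq_one, one_mul]⟩
  have uq : ∀ a ∈ conjugatesOf d, ∀ b ∈ conjugatesOf d, a * e * a⁻¹ = b * e * b⁻¹ → a = b := fun a ha b hb k => by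
    have s : (a * e) ^ 2 = (b * e) ^ 2 := by
      rw [iv ha, iv hb] at k
      rw [pow_two, pow_two, ← mul_assoc, ← mul_assoc, k]
    obtain ⟨j, hj⟩ := (hodd a ha e he).mul (hodd b hb e he)
    have t1 : (a * e) ^ (2 * (j + 1)) = a * e := by
      rw [show 2 * (j + 1) = orderOf (a * e) * orderOf (b * e) + 1 by omega, pow_succ, pow_mul, pow_orderOf_eq_one]; simp
    have t2 : (b * e) ^ (2 * (j + 1)) = b * e := by
      rw [show 2 * (j + 1) = orderOf (b * e) * orderOf (a * e) + 1 by rw [mul_comm (orderOf (b * e))]; omega, pow_succ,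
        pow_mul, pow_orderOf_eq_one]; simp
    rw [pow_mul, s, ← pow_mul, t2] at t1
    exact (mul_right_cancel t1).symm
  have xx : x * x = 1 := sq_of_ord hx
  have he' := cl x e he
  obtain ⟨a, ha, k⟩ : ∃ a ∈ conjugatesOf d, a * e * a⁻¹ = x * e * x⁻¹ := by
    generalize x * e * x⁻¹ = f at he'
    have o := hodd f he' e he
    obtain ⟨j, hj⟩ := rt _ o
    obtain ⟨i, hi⟩ := rt ((f * e) ^ j) (o.of_dvd_nat (orderOf_pow_dvd j))
    have ie : e * ((f * e) ^ j) ^ i * e⁻¹ = (((f * e) ^ j) ^ i)⁻¹ := by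
      rw [← conj_pow, ← conj_pow, ← inv_pow, ← inv_pow, mul_inv_rev, iv he', iv he, mul_assoc, mul_assoc, sq he, mul_one]
    generalize ((f * e) ^ j) ^ i = r at hi ie
    have e1 : r * e * r⁻¹ * e = (f * e) ^ j := by
      rw [← hi, ← ie, pow_two, iv he]; simp only [mul_assoc]; rw [sq he, mul_one, ← mul_assoc e e, sq he, one_mul]
    refine ⟨_, cl r e he, ?_⟩
    rw [iv (cl r e he)]
    apply mul_right_cancel (b := e)
    rw [← hj, pow_two, ← e1]; simp only [mul_assoc]
  have ca : Commute a x := by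
    refine (conj_eq_iff_comm.1 (uq _ (cl x a ha) _ ha ?_)).symm
    have k' : a * (x * e * x⁻¹) * a⁻¹ = e := by rw [← k, conj_conj, sq ha]; simp
    have k2 : x⁻¹ * e * x = x * e * x⁻¹ := by rw [inv_eq_of_mul_eq_one_right xx]
    rw [k, show x * a * x⁻¹ * e * (x * a * x⁻¹)⁻¹ = x * (a * (x⁻¹ * e * x) * a⁻¹) * x⁻¹ by group, k2, k']
  refine ⟨a, ⟨ha, ca, (conj_eq_iff_comm.1 ?_).symm⟩, fun b ⟨hb, _, kb⟩ => uq b hb a ha ?_⟩
  · rw [← conj_conj, ← k, conj_conj, sq ha]; simp
  · have := conj_eq_iff_comm.2 kb.symm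
    rw [k]
    conv_lhs => rw [← this]
    rw [conj_conj, ← mul_assoc b b, sq hb, one_mul]

end Cfsg.Agent.S5562
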