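import Cfsg.Statements.S5594
import Cfsg.Agent.H7.Le5

set_option autoImplicit false
open Cfsg

namespace Cfsg.Agent.S5594

open CfsgH7 MulAction
open scoped Pointwise symmDiff
set_option maxRecDepth 100000
set_option Elab.async false

open Le

/-- The automorphism group of the Leech lattice contains the negation map, and the subgroup of order 2 it generates has no complement: the automorphism group is a non-split extension of its quotient by that subgroup (it is not the direct product of a group of order 2 with the first Conway group). -/
theorem result :
    ∃ n : ↥Cfsg.Co0, (∀ v : ↥Cfsg.leechLattice, ((n • v : ↥Cfsg.leechLattice) : Cfsg.GolayPt → ℤ) = -(v : Cfsg.GolayPt → ℤ)) ∧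
    ∀ K : Subgroup ↥Cfsg.Co0, ¬ (Subgroup.zpowers n).IsComplement' K := by
  refine ⟨neg1, fun v => by rw [neg1_smul]; rfl, fun K hK => ?_⟩
  have i2 : K.index = 2 := by
    rw [hK.index_eq_card, Nat.card_zpowers]
    exact orderOf_eq_prime (by rw [sq, neg1_sq]) neg1_ne
  have := Subgroup.normal_of_index_eq_two i2
  rcases normal_cases (M := K) with h | h
  · have := Subgroup.relIndex_dvd_index_of_normal K (St lU)
    rw [← Subgroup.inf_relIndex_right, h, Subgroup.relIndex_bot_left, is2.2, i2] at this
    norm_num at this
  · rw [h, Subgroup.index_top] at i2
    omega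

end Cfsg.Agent.S5594
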