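import Cfsg.Statements.S5596
import Cfsg.Agent.H2.Large

set_option autoImplicit false
open Cfsg

namespace Cfsg.Agent.S5596
open Subgroup CfsgH2
open scoped commutatorElement

/-- Setting: `z` is an involution of the finite group `G`; for each element `x`, `Q x` is the largest normal 2-subgroup of the centralizer of `x`; `Q z` is extraspecial and contains its own centralizer in `G`. A subgroup `U` is singular when it is elementary abelian, every non-identity element of `U` is conjugate to `z`, and any two non-identity elements `u`, `v` of `U` are orthogonal (`v ∈ Q u`). Write `QU` for the intersection of the `Q u` and `LU` for the join of the `Q u` over the non-identity `u` in `U`. If `U` is singular of order `2 ^ n` with `n ≥ 2`, then `U ≤ QU ≤ LU`, `LU` normalizes `U`, and `LU` induces on `U` its full automorphism group (the general linear group of dimension `n` over the field with two elements): every automorphism of `U` is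 conjugation by some element of `LU`. -/
theorem result {G : Type*} [Group G] [Finite G]
    (Q : G → Subgroup G)
    (hQ : ∀ x : G, Q x = (Cfsg.pCore 2 ↥(Subgroup.centralizer ({x} : Set G))).map (Subgroup.centralizer ({x} : Set G)).subtype)
    (z : G) (hz : orderOf z = 2) (hE : Cfsg.IsExtraspecial 2 ↥(Q z))
    (hC : Subgroup.centralizer ((Q z : Subgroup G) : Set G) ≤ Q z)
    (U : Subgroup G) (hU2 : ∀ u ∈ U, u * u = 1)
    (hS : ∀ u ∈ U, u ≠ 1 → ∃ g : G, g * z * g⁻¹ = u)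
    (hO : ∀ u ∈ U, ∀ v ∈ U, u ≠ 1 → v ≠ 1 → v ∈ Q u)
    (QU LU : Subgroup G) (hQU : QU = ⨅ u ∈ ((U : Set G) \ {1}), Q u) (hLU : LU = ⨆ u ∈ ((U : Set G) \ {1}), Q u)
    (n : ℕ) (hn : 2 ≤ n) (hcard : Nat.card ↥U = 2 ^ n) :
    U ≤ QU ∧ QU ≤ LU ∧ LU ≤ Subgroup.normalizer (U : Set G) ∧
      ∀ φ : ↥U ≃* ↥U, ∃ g ∈ LU, ∀ u : ↥U, g * (u : G) * g⁻¹ = ((φ u : ↥U) : G) := by
  obtain rfl : Q = o2c := funext hQ
  have h := LX.of_o2c hz hE hC
  have hL : ∀ u ∈ U, u ≠ 1 → LX (o2c u) u := fun u hu h1 => by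
    obtain ⟨g, rfl⟩ := hS u hu h1
    exact cj_o2c g z ▸ h.cj g
  have hUQ : ∀ u ∈ U, u ≠ 1 → U ≤ o2c u := fun u hu h1 v hv => by
    by_cases e : v = 1
    · exact e ▸ one_mem _
    · exact hO u hu v hv h1 e
  have hle : ∀ u ∈ U, u ≠ 1 → o2c u ≤ LU := fun u hu h1 => hLU ▸ le_iSup₂_of_le u ⟨hu, h1⟩ le_rfl
  have hN : LU ≤ normalizer (U : Set G) := hLU ▸ iSup₂_le fun u hu =>
    (hL u hu.1 hu.2).le_normalizer hu.1 (hUQ u hu.1 hu.2)
  have hU : U ≠ ⊥ := fun e => by
    rw [e, card_bot] at hcard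
    have := Nat.pow_right_injective (le_refl 2) ((pow_zero 2).trans hcard)
    omega
  obtain ⟨u, hu, hu1⟩ := (U.bot_or_exists_ne_one).resolve_left hU
  refine ⟨hQU ▸ le_iInf₂ fun u hu => hUQ u hu.1 hu.2,
    le_trans (hQU ▸ iInf₂_le u ⟨hu, hu1⟩) (hle u hu hu1), hN, fun φ => ?_⟩
  let F : G → Subgroup U := fun g => MonoidHom.eqLocus ((MulAut.conj g).toMonoidHom.comp U.subtype)
    (U.subtype.comp φ.toMonoidHom)
  have hF : ∀ g (v : U), v ∈ F g ↔ g * v * g⁻¹ = φ v := fun _ _ => Iff.rfl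
  obtain ⟨B, -, ⟨g, hg, rfl⟩, hmax⟩ := exists_maximal_subgroup (Φ := fun B : Subgroup U => ∃ g ∈ LU, F g = B)
    ⟨1, one_mem _, rfl⟩
  refine ⟨g, hg, fun x => (hF g x).1 ?_⟩
  by_contra hx
  have hy : g⁻¹ * φ x * g ∈ U := conj_mem_of_mem_normalizer' (hN hg) (φ x).2
  obtain ⟨y, ey⟩ : ∃ y : U, (y : G) = g⁻¹ * φ x * g := ⟨⟨_, hy⟩, rfl⟩
  have ey' : g * y * g⁻¹ = φ x := by rw [ey]; group
  have hyF : y ∉ F g := fun h1 => by
    have : φ y = φ x := Subtype.ext (((hF g y).1 h1).symm.trans ey')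
    exact hx (φ.injective this ▸ h1)
  have hw : (x : G) * y ∈ U := mul_mem x.2 y.2
  have hw1 : (x : G) * y ≠ 1 := fun e => hx ((hF g x).2 (by
    rw [eq_inv_of_mul_eq_one_left e, inv_eq_of_mul_self (hU2 _ y.2), ey']))
  have hW := hL _ hw hw1
  have hUc : ∀ a ∈ U, ∀ b ∈ U, Commute a b := fun a ha b hb =>
    commute_of_mul_self (hU2 a ha) (hU2 b hb) (hU2 _ (mul_mem ha hb))
  obtain ⟨q, hq, h1, h2⟩ := hW.exists_not_commute (B := (F g).map U.subtype ⊔ zpowers ((x : G) * y))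
    (mem_sup_right (mem_zpowers _)) ((sup_le (map_subtype_le _) (zpowers_le_of_mem hw)).trans (hUQ _ hw hw1))
    (hUQ _ hw hw1 x.2) (fun h3 => by
      obtain ⟨_, ⟨m, hm, rfl⟩, k, hk⟩ := (mem_sup_zpowers (Subgroup.centralizer_le_normalizer _
        (mem_centralizer_iff'.2 fun b hb => hUc _ hw b (map_subtype_le _ hb)))).1 h3
      rcases (mem_zpowers_two hW.ord).1 (zpow_mem (mem_zpowers _) k) with e | e <;> rw [e] at hk
      · exact hx ((Subtype.ext (by simpa using hk) : m = x) ▸ hm)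
      · refine hyF ((Subtype.ext ?_ : m⁻¹ = y) ▸ inv_mem hm)
        rw [(hUc _ x.2 _ y.2).eq, ← mul_assoc, mul_eq_right] at hk
        exact (eq_inv_of_mul_eq_one_right hk).symm)
  have h3 := hW.conj_eq hq (hUQ _ hw hw1 x.2) h2
  rw [← mul_assoc, hU2 _ x.2, one_mul] at h3
  have h4 := hmax (F (g * q)) ⟨_, mul_mem hg (hle _ hw hw1 hq), rfl⟩ fun v hv => (hF _ _).2 (by
    rw [← (hF g v).1 hv, mul_assoc g q, (h1 v (mem_sup_left ⟨v, hv, rfl⟩)).eq]; group)
  exact hx (h4 ▸ (hF _ _).2 (by rw [← ey', ← h3]; group))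


end Cfsg.Agent.S5596
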