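import Cfsg.Statements.S5597
import Cfsg.Agent.H2.Large

set_option autoImplicit false
open Cfsg

namespace Cfsg.Agent.S5597
open Subgroup CfsgH2
open scoped commutatorElement

/-- Setting: `z` is an involution of the finite group `G`; for each element `x`, `Q x` is the largest normal 2-subgroup of the centralizer of `x`; `Q z` is extraspecial and contains its own centralizer in `G`. A subgroup `U` is singular when it is elementary abelian, every non-identity element of `U` is conjugate to `z`, and any two non-identity elements `u`, `v` of `U` are orthogonal (`v ∈ Q u`). Write `QU` for the intersection of the `Q u` and `LU` for the join of the `Q u` over the non-identity `u` in `U`. If `U` is a non-trivial singular subgroup, then `LU` acts trivially on `QU / U` (every commutator of an element of `LU` with an element of `QU` lies in `U`), and for every `x` in `QU` outside `U` the centralizer of `U` in `LU` permutes the coset `x U` transitively: each `x u` with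 `u ∈ U` is a conjugate of `x` by an element of `LU` centralizing `U`. -/
theorem result {G : Type*} [Group G] [Finite G]
    (Q : G → Subgroup G)
    (hQ : ∀ x : G, Q x = (Cfsg.pCore 2 ↥(Subgroup.centralizer ({x} : Set G))).map (Subgroup.centralizer ({x} : Set G)).subtype)
    (z : G) (hz : orderOf z = 2) (hE : Cfsg.IsExtraspecial 2 ↥(Q z))
    (hC : Subgroup.centralizer ((Q z : Subgroup G) : Set G) ≤ Q z)
    (U : Subgroup G) (hU2 : ∀ u ∈ U, u * u = 1)
    (hS : ∀ u ∈ U, u ≠ 1 → ∃ g : G, g * z * g⁻¹ = u)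
    (hO : ∀ u ∈ U, ∀ v ∈ U, u ≠ 1 → v ≠ 1 → v ∈ Q u)
    (QU LU : Subgroup G) (hQU : QU = ⨅ u ∈ ((U : Set G) \ {1}), Q u) (hLU : LU = ⨆ u ∈ ((U : Set G) \ {1}), Q u)
    (hU : U ≠ ⊥) :
    (∀ g ∈ LU, ∀ x ∈ QU, g * x * g⁻¹ * x⁻¹ ∈ U) ∧
      ∀ x ∈ QU, x ∉ U → ∀ u ∈ U, ∃ g ∈ LU ⊓ Subgroup.centralizer (U : Set G), g * x * g⁻¹ = x * u := by
  obtain rfl : Q = o2c := funext hQ
  have h := LX.of_o2c hz hE hC
  have hL : ∀ u ∈ U, u ≠ 1 → LX (o2c u) u := fun u hu h1 => by
    obtain ⟨g, rfl⟩ := hS u hu h1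
    exact cj_o2c g z ▸ h.cj g
  have hUQ : ∀ u ∈ U, u ≠ 1 → U ≤ o2c u := fun u hu h1 v hv => by
    by_cases e : v = 1
    · exact e ▸ one_mem _
    · exact hO u hu v hv h1 e
  have hle : ∀ u ∈ U, u ≠ 1 → o2c u ≤ LU := fun u hu h1 => hLU ▸ le_iSup₂_of_le u ⟨hu, h1⟩ le_rfl
  have hge : ∀ u ∈ U, u ≠ 1 → QU ≤ o2c u := fun u hu h1 => hQU ▸ iInf₂_le u ⟨hu, h1⟩
  constructor
  · have : LU ≤ centMod U QU := hLU ▸ iSup₂_le fun u hu q hq => mem_centMod.2
      ⟨(hL u hu.1 hu.2).le_normalizer hu.1 (hUQ u hu.1 hu.2) hq, fun x hx =>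
        zpowers_le_of_mem hu.1 ((hL u hu.1 hu.2).comm q hq x (hge u hu.1 hu.2 hx))⟩
    exact fun g hg => (mem_centMod.1 (this hg)).2
  · intro x hx hxU u hu
    by_cases e : u = 1
    · exact ⟨1, one_mem _, by simp [e]⟩
    obtain ⟨q, hq, h1, h2⟩ := (hL u hu e).exists_not_commute hu (hUQ u hu e) (hge u hu e hx) hxU
    exact ⟨q, ⟨hle u hu e hq, mem_centralizer_iff'.2 h1⟩, (hL u hu e).conj_eq hq (hge u hu e hx) h2⟩


end Cfsg.Agent.S5597
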