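import Cfsg.Statements.S5598
import Cfsg.Agent.H2.Large

set_option autoImplicit false
open Cfsg

namespace Cfsg.Agent.S5598
open Subgroup CfsgH2
open scoped commutatorElement

/-- Setting: `z` is an involution of the finite group `G`; for each element `x`, `Q x` is the largest normal 2-subgroup of the centralizer of `x`; `Q z` is extraspecial and contains its own centralizer in `G`. A subgroup `U` is singular when it is elementary abelian, every non-identity element of `U` is conjugate to `z`, and any two non-identity elements `u`, `v` of `U` are orthogonal (`v ∈ Q u`). Write `QU` for the intersection of the `Q u` and `LU` for the join of the `Q u` over the non-identity `u` in `U`. If the singular subgroup `U` is generated by a set `T` of non-identity elements, then `QU` is already the intersection of the `Q t` over `t ∈ T`. -/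
theorem result {G : Type*} [Group G] [Finite G]
    (Q : G → Subgroup G)
    (hQ : ∀ x : G, Q x = (Cfsg.pCore 2 ↥(Subgroup.centralizer ({x} : Set G))).map (Subgroup.centralizer ({x} : Set G)).subtype)
    (z : G) (hz : orderOf z = 2) (hE : Cfsg.IsExtraspecial 2 ↥(Q z))
    (hC : Subgroup.centralizer ((Q z : Subgroup G) : Set G) ≤ Q z)
    (U : Subgroup G) (hU2 : ∀ u ∈ U, u * u = 1)
    (hS : ∀ u ∈ U, u ≠ 1 → ∃ g : G, g * z * g⁻¹ = u)
    (hO : ∀ u ∈ U, ∀ v ∈ U, u ≠ 1 → v ≠ 1 → v ∈ Q u)
    (QU LU : Subgroup G) (hQU : QU = ⨅ u ∈ ((U : Set G) \ {1}), Q u) (hLU : LU = ⨆ u ∈ ((U : Set G) \ {1}), Q u)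
    (T : Set G) (hT : Subgroup.closure T = U) (hT1 : (1 : G) ∉ T) :
    QU = ⨅ t ∈ T, Q t := by
  obtain rfl : Q = o2c := funext hQ
  have h := LX.of_o2c hz hE hC
  have hL : ∀ u ∈ U, u ≠ 1 → LX (o2c u) u := fun u hu h1 => by
    obtain ⟨g, rfl⟩ := hS u hu h1
    exact cj_o2c g z ▸ h.cj g
  rw [hQU]
  refine le_antisymm (le_iInf₂ fun t ht => iInf₂_le t ⟨hT ▸ subset_closure ht, fun e => hT1 (e ▸ ht)⟩)
    fun x hx => ?_
  have key : ∀ u ∈ closure T, u = 1 ∨ x ∈ o2c u := by
    intro u hu
    induction hu using closure_induction with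
    | mem t ht => exact Or.inr (mem_iInf.1 (mem_iInf.1 hx t) ht)
    | one => exact Or.inl rfl
    | inv u hu ih => rw [inv_eq_of_mul_self (hU2 u (hT ▸ hu))]; exact ih
    | mul s t hs ht ihs iht =>
      rw [hT] at hs ht
      rcases ihs with rfl | ihs
      · simpa using iht
      rcases iht with rfl | iht
      · simpa using Or.inr ihs
      by_cases e1 : s = 1
      · rw [e1, one_mul]; exact Or.inr iht
      by_cases e2 : t = 1
      · rw [e2, mul_one]; exact Or.inr ihs
      by_cases e3 : s = t
      · left; rw [e3]; exact hU2 t ht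
      right
      have h1 := hL t ht e2
      have h2 := hO t ht s hs e2 e1
      obtain ⟨q, hq, e⟩ := h1.exists_conj h2 (fun h3 => by
        rcases (mem_zpowers_two h1.ord).1 h3 with e | e
        · exact e1 e
        · exact e3 e) (mem_zpowers t)
      rw [← e, ← cj_o2c]
      have := h1.le_normalizer (B := o2c t ⊓ o2c s) ⟨h1.mem, hO s hs t ht e1 e2⟩ inf_le_left hq
      exact cj_mono q inf_le_right ((cj_eq_iff_mem_normalizer.2 this).symm ▸ (mem_inf.2 ⟨iht, ihs⟩))
  exact mem_iInf.2 fun u => mem_iInf.2 fun hu => (key u (hT ▸ hu.1)).resolve_left hu.2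


end Cfsg.Agent.S5598
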