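import Cfsg.Statements.S5599
import Cfsg.Agent.H7.Mi
import Cfsg.Agent.H7.Cnt

set_option autoImplicit false
open scoped Pointwise
open Cfsg

namespace Cfsg.Agent.S5599

open CfsgH7 MulAction
open scoped Pointwise symmDiff
set_option maxRecDepth 100000
set_option Elab.async false


/-- In the automorphism group of the length-24 code, the two-point Mathieu group (permutations of the code's group fixing the extra point and the residue 0) has index 2 in the setwise stabiliser of that pair of points, and an element of the code's group interchanging the two points normalises the two-point group and induces on it, by conjugation, an automorphism that is not inner. -/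
theorem result (g : Equiv.Perm Cfsg.GolayPt) (hg : g ∈ Cfsg.M24) (h₁ : g none = some 0) (h₂ : g (some 0) = none) : Cfsg.Spor.M22.relIndex (Cfsg.M24 ⊓ MulAction.stabilizer (Equiv.Perm Cfsg.GolayPt) ({none, some 0} : Finset Cfsg.GolayPt)) = 2 ∧ (∀ x ∈ Cfsg.Spor.M22, g * x * g⁻¹ ∈ Cfsg.Spor.M22) ∧ ¬ ∃ h ∈ Cfsg.Spor.M22, ∀ x ∈ Cfsg.Spor.M22, g * x * g⁻¹ = h * x * h⁻¹ := by
  lift g to M24 using hg
  have e0 : ({none, some 0} : Finset GolayPt) = toFs 0x800001 := pair_eq.symm
  have hle : stabilizer M24 (dec 23) ⊓ stabilizer M24 (dec 0) ≤ stabilizer M24 (toFs 0x800001) :=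
    packPair.le_of_sift pack22 (by decide +kernel)
  have hg : g ∈ stabilizer M24 (toFs 0x800001) := by
    rw [mem_stabM, ← e0, ← pairM]
    show ({(g : P24) none, (g : P24) (some 0)} : Finset GolayPt) = _
    rw [h₁, h₂, Finset.pair_comm]
  refine ⟨?_, ?_, ?_⟩
  · rw [e0, stab24_eq, M22_eq, Subgroup.relIndex_map_map_of_injective _ _ M24.subtype_injective]
    have := card_inf_mul_relIndex (stabilizer M24 (dec 23) ⊓ stabilizer M24 (dec 0)) (stabilizer M24 (toFs 0x800001))
    rw [inf_of_le_left hle, pack22.card, packPair.card] at this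
    omega
  · rw [M22_eq]
    rintro _ ⟨x, hx, rfl⟩
    exact ⟨g * x * g⁻¹, packPair.conj_mem pack22 (by decide +kernel) g hg x hx, rfl⟩
  · rw [M22_eq]
    rintro ⟨_, ⟨h, hh, rfl⟩, e⟩
    have h1 : h⁻¹ * g ∈ Subgroup.centralizer ((stabilizer M24 (dec 23) ⊓ stabilizer M24 (dec 0) : Subgroup M24) : Set M24) := by
      intro x hx
      have : g * x * g⁻¹ = h * x * h⁻¹ := Subtype.ext (e _ ⟨x, hx, rfl⟩)
      calc x * (h⁻¹ * g) = h⁻¹ * (h * x * h⁻¹) * g := by group
        _ = _ := by rw [← this]; group
    obtain ⟨u, hu, hu'⟩ := pack22.mem 0xb960a439728cc870d4544bec3331a0 (by decide +kernel)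
    obtain ⟨t, ht, h2⟩ := (packPair.refull [(1, [(0xbcd6251112b428689ca11b9f56a580, 0xbbc8db416e29861acc51531323d100)]),(13, [(0xba46f452ac84e322add66a84439820, 0xba232731afa24f051ad318964a9420)]),(4, [(0xbae561a8c5411a27ba7481e3562420, 0xbd0884d4a75a9a3b484f3460e9b020)]),(3, [(0xbc0657ce2292da9450ceab1443d820, 0xb88ea93e369a1a67158b1a684ac020)]),(6, [(0x9cb9c9f08d5a5a28e64a1841d837, 0x9cb9c9f08d5a5a28e64a1841d837)]),(15, [(0x59f459522a9dac9a22a71a441c037, 0x59f459522a9dac9a22a71a441c037)])] (by decide +kernel)).full.srch (Act.prunes_conj hu' hu') (f := fun t => bnot (lall (F24.comm t) S22) ||ₙ F24.isOne t)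
      (by decide +kernel) (mul_mem (inv_mem (hle hh)) hg) (h1 u hu).symm
    rw [show lall (F24.comm t) S22 = true from (pack22.comm_all ht).mp h1] at h2
    have h3 := inv_mul_eq_one.mp (ht.isOne_iff.mpr (show F24.isOne t = true by simpa using h2))
    subst h3
    have : (h : P24) none = none := hh.1
    rw [h₁] at this
    cases this

end Cfsg.Agent.S5599
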