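import Cfsg.Statements.S5601
import Cfsg.Agent.H7.Mi

set_option autoImplicit false
open scoped Pointwise
open Cfsg

namespace Cfsg.Agent.S5601

open CfsgH7 MulAction
open scoped Pointwise symmDiff
set_option maxRecDepth 100000
set_option Elab.async false

theorem gen3 {X : Subgroup M24} (h : Nat.card X = 3) : ∃ x, orderOf x = 3 ∧ X = Subgroup.zpowers x := by
  haveI : Fact (Nat.Prime 3) := ⟨Nat.prime_three⟩
  haveI := isCyclic_of_prime_card h
  obtain ⟨x, rfl⟩ := (Subgroup.isCyclic_iff_exists_zpowers_eq_top X).mp inferInstance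
  exact ⟨x, by rwa [Nat.card_zpowers] at h, rfl⟩

theorem nf (x : M24) : {p : GolayPt | ∀ y ∈ Subgroup.zpowers x, ((y : M24) : P24) p = p}.ncard = (fx x).card := by
  rw [← Set.ncard_coe_finset]
  congr 1
  ext p
  simp only [Set.mem_setOf_eq, Finset.coe_filter, Finset.mem_univ, true_and]
  refine ⟨fun h => h x (Subgroup.mem_zpowers x), fun h y hy => ?_⟩
  exact (Subgroup.zpowers_le (H := stabilizer M24 p)).mpr h hy

theorem cjz (k x : M24) : MulAut.conj k • Subgroup.zpowers x = Subgroup.zpowers (k * x * k⁻¹) :=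
  MonoidHom.map_zpowers _ _

/-- The group of the length-24 code has exactly two conjugacy classes of subgroups of order 3: a subgroup of order 3 fixes either exactly 6 of the 24 points or none of them, both cases occur, and two subgroups of order 3 with the same number of fixed points are conjugate. -/
theorem result : (∀ X : Subgroup ↥Cfsg.M24, Nat.card X = 3 → {p : Cfsg.GolayPt | ∀ x ∈ X, ((x : ↥Cfsg.M24) : Equiv.Perm Cfsg.GolayPt) p = p}.ncard = 6 ∨ {p : Cfsg.GolayPt | ∀ x ∈ X, ((x : ↥Cfsg.M24) : Equiv.Perm Cfsg.GolayPt) p = p}.ncard = 0) ∧ (∃ X : Subgroup ↥Cfsg.M24, Nat.card X = 3 ∧ {p : Cfsg.GolayPt | ∀ x ∈ X, ((x : ↥Cfsg.M24) : Equiv.Perm Cfsg.GolayPt) p = p}.ncard = 6) ∧ (∃ X : Subgroup ↥Cfsg.M24, Nat.card X = 3 ∧ {p : Cfsg.GolayPt | ∀ x ∈ X, ((x : ↥Cfsg.M24) : Equiv.Perm Cfsg.GolayPt) p = p}.ncard = 0) ∧ ∀ X Y : Subgroup ↥Cfsg.M24, Nat.card X = 3 → Nat.card Y = 3 → {p : Cfsg.GolayPt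 | ∀ x ∈ X, ((x : ↥Cfsg.M24) : Equiv.Perm Cfsg.GolayPt) p = p}.ncard = {p : Cfsg.GolayPt | ∀ x ∈ Y, ((x : ↥Cfsg.M24) : Equiv.Perm Cfsg.GolayPt) p = p}.ncard → ∃ k : ↥Cfsg.M24, MulAut.conj k • X = Y := by
  refine ⟨fun X h => ?_, ⟨Subgroup.zpowers (elM yA), by rw [Nat.card_zpowers, yA_ord], by rw [nf, yA_card]⟩,
    ⟨Subgroup.zpowers (elM yB), by rw [Nat.card_zpowers, yB_ord], by rw [nf, yB_card]⟩, fun X Y hX hY e => ?_⟩
  · obtain ⟨x, hx, rfl⟩ := gen3 h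
    rw [nf]
    rcases cls3 hx with ⟨k, rfl⟩ | ⟨k, rfl⟩
    · left; rw [fx_conjM, cardM, yA_card]
    · right; rw [fx_conjM, cardM, yB_card]
  · obtain ⟨x, hx, rfl⟩ := gen3 hX
    obtain ⟨y, hy, rfl⟩ := gen3 hY
    rw [nf, nf] at e
    by_cases h0 : (fx x).card = 0
    · obtain ⟨a, rfl⟩ := cls3B hx h0
      obtain ⟨b, rfl⟩ := cls3B hy (e ▸ h0)
      exact ⟨b * a⁻¹, by rw [cjz]; congr 1; group⟩
    · obtain ⟨a, rfl⟩ := cls3A hx h0
      obtain ⟨b, rfl⟩ := cls3A hy (e ▸ h0)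
      exact ⟨b * a⁻¹, by rw [cjz]; congr 1; group⟩

end Cfsg.Agent.S5601
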