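import Cfsg.Statements.S5603
import Cfsg.Agent.H7.Mg

set_option autoImplicit false
open scoped Pointwise
open Cfsg

namespace Cfsg.Agent.S5603

open CfsgH7 MulAction
open scoped Pointwise symmDiff
set_option maxRecDepth 100000
set_option Elab.async false


/-- A fixed-point-free element of order 3 of the group of the length-24 code maps to themselves exactly 7 sextets and exactly 15 trios. -/
theorem result (g : Equiv.Perm Cfsg.GolayPt) (hg : g ∈ Cfsg.M24) (h₃ : orderOf g = 3) (h₀ : ∀ p, g p ≠ p) : {S : Finset (Finset Cfsg.GolayPt) | S ∈ Cfsg.sextets ∧ g • S = S}.ncard = 7 ∧ {T : Finset (Finset Cfsg.GolayPt) | T ∈ Cfsg.trios ∧ g • T = T}.ncard = 15 := by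
  lift g to M24 using hg
  rw [Subgroup.orderOf_coe] at h₃
  obtain ⟨k, rfl⟩ := cls3B h₃ (fx_empty.mpr h₀)
  rw [fix_sx k yB_rep, fix_tr k yB_rep]
  decide +kernel

end Cfsg.Agent.S5603
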