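import Cfsg.Statements.S5604
import Cfsg.Agent.H7.Mj

set_option autoImplicit false
open scoped Pointwise
open Cfsg

namespace Cfsg.Agent.S5604

open CfsgH7 MulAction
open scoped Pointwise symmDiff
set_option maxRecDepth 100000
set_option Elab.async false


/-- For a subgroup S of order 7 of the group of the length-24 code (a Sylow 7-subgroup): the normaliser of S has order 126, the centraliser of S has order 42 and is non-abelian, and the whole normaliser leaves some trio invariant. (These are the orders of a Frobenius group of order 21 times a symmetric group of degree 3; the isomorphism type itself is not asserted here.) -/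
theorem result (S : Subgroup ↥Cfsg.M24) (hS : Nat.card S = 7) : Nat.card ↥(Subgroup.normalizer (S : Set ↥Cfsg.M24)) = 126 ∧ Nat.card ↥(Subgroup.centralizer (S : Set ↥Cfsg.M24)) = 42 ∧ (∃ x ∈ Subgroup.centralizer (S : Set ↥Cfsg.M24), ∃ y ∈ Subgroup.centralizer (S : Set ↥Cfsg.M24), x * y ≠ y * x) ∧ ∃ T ∈ Cfsg.trios, ∀ n ∈ Subgroup.normalizer (S : Set ↥Cfsg.M24), ((n : ↥Cfsg.M24) : Equiv.Perm Cfsg.GolayPt) • T = T := by
  obtain ⟨g, -, hg⟩ := exists_cj_mem (K := S) (H := ⊤) le_top (p := 7) (by norm_num) (u := elM y7) trivial y7_ord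
    (by rw [hS]) (by rw [card_topM]; norm_num)
  have e : S = cj g⁻¹ (Subgroup.zpowers (elM y7)) := by
    rw [Subgroup.eq_of_le_of_card_ge (Subgroup.zpowers_le.mpr hg) (by rw [card_cj, hS, Nat.card_zpowers, y7_ord]), cj_inv_cj]
  generalize g⁻¹ = k at e
  subst e
  have h0 := packM.refull Ly7 (by decide +kernel)
  have hN := (h0.normL y7_rep y7_ord [0xbdab49ca307b9ac5a928398a418820, 0x5d1b7121ec3c8c9846c49b8b51802a, 0x85ccb010e99a1d663e95148ad1a831, 0x62dd0556761125449eed020a61c42f, 0x4c24c8b45405517b4d66510ae1bc27, 0xb3109798175348ba0a0e8d4b219c33, 0xa24963b94b89ab0b81927b4a81cc22] [(0, [(0xa4269309cc41c165b6eaac46f2c824, 0x4b0f7a88d6245505a28f74c602c82d)]),(1, [(0x735269ae287dec492ab03d0ac08860, 0x735269ae287dec492ab03d0ac08860)]),(2, [(0xb2ccc7b8f013649bc688510b51cc20, 0x5dc89135509c9d4b1d888d4a61bc20)])] 126 (by decide +kernel)).top_inf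
  have hC := (h0.centL y7_rep Cy7 42 (by decide +kernel)).top_inf
  rw [cj_normalizer, cj_centralizer', cent_zpowers, card_cj, card_cj]
  refine ⟨hN.card, hC.card, ?_, ?_⟩
  · obtain ⟨x, hx, rx⟩ := hC.mem 0x4cc281291ba1cf558f55c82d1b0a9 (by decide +kernel)
    obtain ⟨y, hy, ry⟩ := hC.mem 0x735269ae287dec492ab03d0ac08860 (by decide +kernel)
    refine ⟨_, conj_mem_cj.mpr hx, _, conj_mem_cj.mpr hy, fun h => ?_⟩
    have : x * y = y * x := mul_left_cancel (a := k) (by simpa [← mul_assoc] using h)
    exact absurd ((rx.comm_iff ry).mp this) (by decide +kernel)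
  · have hv : Dtr.valid 0x2461580a84a5 := by decide +kernel
    have := cj_mono k (hN.le_stab Dtr hv (by decide +kernel))
    rw [← stabM_smul] at this
    exact ⟨_, (trM k _).mpr (trdec_mem hv), fun n hn => this hn⟩

end Cfsg.Agent.S5604
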