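import Cfsg.Statements.S5607
import Cfsg.Agent.H7.Mh

set_option autoImplicit false
open scoped Pointwise
open Cfsg

namespace Cfsg.Agent.S5607

open CfsgH7 MulAction
open scoped Pointwise symmDiff
set_option maxRecDepth 100000
set_option Elab.async false


/-- For a fixed-point-free involution t of the group of the length-24 code: its centraliser in that group has order 7680, is transitive on the 24 points, and is contained, together with t, in the stabiliser of some sextet. -/
theorem result (t : Equiv.Perm Cfsg.GolayPt) (ht : t ∈ Cfsg.M24) (h₂ : orderOf t = 2) (h₀ : ∀ p, t p ≠ p) : Nat.card {c : Equiv.Perm Cfsg.GolayPt // c ∈ Cfsg.M24 ∧ c * t = t * c} = 7680 ∧ (∀ p q : Cfsg.GolayPt, ∃ c ∈ Cfsg.M24, c * t = t * c ∧ c p = q) ∧ ∃ S ∈ Cfsg.sextets, t • S = S ∧ ∀ c ∈ Cfsg.M24, c * t = t * c → c • S = S := by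
  lift t to M24 using ht
  rw [Subgroup.orderOf_coe] at h₂
  obtain ⟨k, rfl⟩ := cls2B h₂ (fx_empty.mpr h₀)
  have e : ∀ c : M24, (c : P24) * (k * elM zB * k⁻¹ : M24) = (k * elM zB * k⁻¹ : M24) * c ↔
      c ∈ cj k (Subgroup.centralizer {elM zB}) := fun c => by
    rw [cj_centralizer, Subgroup.mem_centralizer_singleton_iff, Subtype.ext_iff]; rfl
  have hv : Dsx.valid 0x800828 := by decide +kernel
  have hle := cj_mono k (packzB.le_stab Dsx hv (by decide +kernel))
  rw [← stabM_smul] at hle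
  refine ⟨?_, fun p q => ?_, _, (sxM k _).mpr (sx_valid hv), hle ((e _).mp rfl), fun c hc h => hle ((e ⟨c, hc⟩).mp h)⟩
  · rw [card_subtype_map e, card_cj, packzB.card]
  · obtain ⟨p, rfl⟩ := exM k p
    obtain ⟨q, rfl⟩ := exM k q
    obtain ⟨u, hu, rfl⟩ := reach_pt packzB.mem 0 16777215 (by decide +kernel) (toFs_full ▸ Finset.mem_univ p)
    obtain ⟨v, hv, rfl⟩ := reach_pt packzB.mem 0 16777215 (by decide +kernel) (toFs_full ▸ Finset.mem_univ q)
    refine ⟨(k * (v * u⁻¹) * k⁻¹ : M24), Subtype.prop _, (e _).mpr (conj_mem_cj.mpr (mul_mem hv (inv_mem hu))), ?_⟩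
    simp

end Cfsg.Agent.S5607
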