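import Cfsg.Statements.S5608
import Cfsg.Agent.H7.Mh

set_option autoImplicit false
open scoped Pointwise
open Cfsg

namespace Cfsg.Agent.S5608

open CfsgH7 MulAction
open scoped Pointwise symmDiff
set_option maxRecDepth 100000
set_option Elab.async false


/-- If an element of order 3 and an involution of the group of the length-24 code commute, then either the element of order 3 has exactly 6 fixed points and the involution exactly 8, or both are fixed-point-free. -/
theorem result (x s : Equiv.Perm Cfsg.GolayPt) (hx : x ∈ Cfsg.M24) (hs : s ∈ Cfsg.M24) (h₃ : orderOf x = 3) (h₂ : orderOf s = 2) (hc : Commute x s) : ((Finset.univ.filter fun p => x p = p).card = 6 ∧ (Finset.univ.filter fun p => s p = p).card = 8) ∨ ((Finset.univ.filter fun p => x p = p).card = 0 ∧ (Finset.univ.filter fun p => s p = p).card = 0) := by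
  lift x to M24 using hx
  lift s to M24 using hs
  rw [Subgroup.orderOf_coe] at h₃ h₂
  have hc' : s * x = x * s := Subtype.ext hc.symm
  have key : ∀ {k y : M24} {L : List (ℕ × List (ℕ × ℕ))} {M : ℕ} (n : ℕ), Pack AM (Subgroup.centralizer {y}) (Fmt.gens L) L M →
      x = k * y * k⁻¹ → F24.srch Fmt.okAll (fun t => bnot (bnot (F24.isOne t) &&ₙ force (Act.powT F24 t 2) F24.isOne) ||ₙ
        (pc24 (fxm t) =ₙ n)) (F24.build L) [] F24.one = true → (fx s).card = n := by
    intro k y L M n h e hc
    obtain ⟨t, ht, h1⟩ := h.full.all hc (g := k⁻¹ * s * k⁻¹⁻¹) (Subgroup.mem_centralizer_singleton_iff.mpr (by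
      rw [e] at hc'
      calc _ = k⁻¹ * (s * (k * y * k⁻¹)) * k := by group
        _ = _ := by rw [hc']; group))
    have h2 := (ht.orderOf_prime_iff 2 Nat.prime_two).mp (by rw [orderOf_conj', h₂])
    rw [show (bnot (F24.isOne t) &&ₙ force (Act.powT F24 t 2) F24.isOne) = true from h2] at h1
    have h3 := card_fx ht
    rw [fx_conjM, cardM] at h3
    exact h3.trans (by simpa using h1)
  rcases cls3 h₃ with ⟨k, e⟩ | ⟨k, e⟩
  · exact Or.inl ⟨by show (fx _).card = 6; rw [e, fx_conjM, cardM, yA_card], key 8 packyA e (by decide +kernel)⟩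
  · exact Or.inr ⟨by show (fx _).card = 0; rw [e, fx_conjM, cardM, yB_card], key 0 packyB e (by decide +kernel)⟩

end Cfsg.Agent.S5608
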