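import Cfsg.Statements.S5609
import Cfsg.Agent.H7.Mj

set_option autoImplicit false
open scoped Pointwise
open Cfsg

namespace Cfsg.Agent.S5609

open CfsgH7 MulAction
open scoped Pointwise symmDiff
set_option maxRecDepth 100000
set_option Elab.async false

theorem adj {a b : Finset GolayPt} (ha : a ∈ octads) (hb : b ∈ octads) :
    (blockGraph octads).Adj ⟨a, ha⟩ ⟨b, hb⟩ ↔ (a ∩ b).card = 0 := by
  rw [Finset.card_eq_zero, ← Finset.disjoint_iff_inter_eq_empty, blockGraph, SimpleGraph.fromRel_adj]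
  exact ⟨fun h => h.2.elim id fun h => h.symm, fun h => ⟨fun e => oct_ne_of_disj ha h (congrArg Subtype.val e), Or.inl h⟩⟩

theorem adjg (g : M24) {a b : ℕ} (h : (isOct a &&ₙ isOct b &&ₙ (pc24 (a &ₙ b) =ₙ 0)) = true) (ha hb) :
    (blockGraph octads).Adj ⟨(g : P24) • toFs a, ha⟩ ⟨(g : P24) • toFs b, hb⟩ := by
  simp only [band_eq, Bool.and_eq_true, n_beq] at h
  rw [adj, interM, cardM, card_inter_toFs (isOct_lt h.1)]
  exact h.2.2

theorem wk {a b : Finset GolayPt} (ha : a ∈ octads) (hb : b ∈ octads) :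
    ((a ∩ b).card = 4 → ∃ p : (blockGraph octads).Walk ⟨a, ha⟩ ⟨b, hb⟩, p.length = 2) ∧
    ((a ∩ b).card = 2 → (∃ p : (blockGraph octads).Walk ⟨a, ha⟩ ⟨b, hb⟩, p.length = 3) ∧
      ∀ p : (blockGraph octads).Walk ⟨a, ha⟩ ⟨b, hb⟩, p.length ≠ 2) := by
  refine ⟨fun h => ?_, fun h => ?_⟩
  · obtain ⟨g, rfl, rfl⟩ := trOO ha hb h (m := 0xc75001) (by decide +kernel)
    exact ⟨.cons (adjg g (b := 0x3886c0) (by decide +kernel) _ ((octM g _).mpr (oct_of (by decide +kernel))))
      (.cons (adjg g (by decide +kernel) _ _) .nil), rfl⟩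
  · obtain ⟨g, rfl, rfl⟩ := trOO ha hb h (m := 0x49f002) (by decide +kernel)
    refine ⟨⟨.cons (adjg g (b := 0x6920d0) (by decide +kernel) _ ((octM g _).mpr (oct_of (by decide +kernel))))
      (.cons (adjg g (b := 0x860721) (by decide +kernel) _ ((octM g _).mpr (oct_of (by decide +kernel))))
      (.cons (adjg g (by decide +kernel) _ _) .nil)), rfl⟩, fun p hp => ?_⟩
    have h1 := p.adj_getVert_succ (i := 0) (by omega)
    have h2 := p.adj_getVert_succ (i := 1) (by omega)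
    rw [p.getVert_zero] at h1
    rw [show 1 + 1 = p.length from hp.symm, p.getVert_length] at h2
    generalize p.getVert 1 = x at h1 h2
    obtain ⟨x, hx⟩ := x
    obtain ⟨m, hm, rfl⟩ := exists_maskM g x
    rw [adj, interM, cardM] at h1 h2
    rw [octM, toFs_mem_octads hm] at hx
    rw [card_inter_toFs (by norm_num)] at h1
    rw [card_inter_toFs hm] at h2
    have := forall_isCode (fun m => bnot (isOct m &&ₙ (pc24 (0x82402f &ₙ m) =ₙ 0) &&ₙ (pc24 (m &ₙ 0x49f002) =ₙ 0)))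
      (by decide +kernel) (isOct_isCode hx)
    simp [hx, h1, h2] at this

theorem conn : (blockGraph octads).Connected := by
  haveI : Nonempty octads := ⟨⟨_, o0_mem⟩⟩
  refine ⟨fun ⟨a, ha⟩ ⟨b, hb⟩ => ?_⟩
  by_cases h : a = b
  · subst h; rfl
  rcases s24_inter card_pt steiner_octads ha hb h with h | h | h
  · exact ((adj ha hb).mpr h).reachable
  · exact ((wk ha hb).2 h).1.choose.reachable
  · exact ((wk ha hb).1 h).choose.reachable

/-- In the graph on the 759 octads of the length-24 code in which two octads are adjacent when they are disjoint, the graph is connected (of diameter 3) and two distinct octads are at distance 1, 2 or 3 exactly when they meet in 0, 4 or 2 points respectively. -/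
theorem result (o o' : Finset Cfsg.GolayPt) (ho : o ∈ Cfsg.octads) (ho' : o' ∈ Cfsg.octads) (hne : o ≠ o') : (Cfsg.blockGraph Cfsg.octads).Connected ∧ ((Cfsg.blockGraph Cfsg.octads).dist ⟨o, ho⟩ ⟨o', ho'⟩ = 1 ↔ (o ∩ o').card = 0) ∧ ((Cfsg.blockGraph Cfsg.octads).dist ⟨o, ho⟩ ⟨o', ho'⟩ = 2 ↔ (o ∩ o').card = 4) ∧ ((Cfsg.blockGraph Cfsg.octads).dist ⟨o, ho⟩ ⟨o', ho'⟩ = 3 ↔ (o ∩ o').card = 2) := by
  have h0 : (blockGraph octads).dist ⟨o, ho⟩ ⟨o', ho'⟩ ≠ 0 := fun h =>
    hne (congrArg Subtype.val (conn.dist_eq_zero_iff.mp h))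
  have h1 := SimpleGraph.dist_eq_one_iff_adj.trans (adj ho ho')
  refine ⟨conn, h1, ?_⟩
  rcases s24_inter card_pt steiner_octads ho ho' hne with h | h | h
  · rw [h1.mpr h, h]; simp
  · obtain ⟨⟨p, hp⟩, h2⟩ := (wk ho ho').2 h
    have h3 := SimpleGraph.dist_le p
    obtain ⟨q, hq⟩ := conn.exists_walk_length_eq_dist ⟨o, ho⟩ ⟨o', ho'⟩
    have := h2 q
    omega
  · obtain ⟨p, hp⟩ := (wk ho ho').1 h
    have h3 := SimpleGraph.dist_le p
    omega

end Cfsg.Agent.S5609
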