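import Cfsg.Statements.S5613
import Cfsg.Agent.H7.Mi

set_option autoImplicit false
open scoped Pointwise
open Cfsg

namespace Cfsg.Agent.S5613

open CfsgH7 MulAction
open scoped Pointwise symmDiff
set_option maxRecDepth 100000
set_option Elab.async false


/-- In the group of the length-24 code, the joint stabiliser of two octads has order 10752, 1152 or 720 according as the octads meet in 0, 4 or 2 points. -/
theorem result (o o' : Finset Cfsg.GolayPt) (ho : o ∈ Cfsg.octads) (ho' : o' ∈ Cfsg.octads) : ((o ∩ o').card = 0 → Nat.card ↥(MulAction.stabilizer Cfsg.M24 o ⊓ MulAction.stabilizer Cfsg.M24 o') = 10752) ∧ ((o ∩ o').card = 4 → Nat.card ↥(MulAction.stabilizer Cfsg.M24 o ⊓ MulAction.stabilizer Cfsg.M24 o') = 1152) ∧ ((o ∩ o').card = 2 → Nat.card ↥(MulAction.stabilizer Cfsg.M24 o ⊓ MulAction.stabilizer Cfsg.M24 o') = 720) := by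
  refine ⟨fun h => ?_, fun h => ?_, fun h => ?_⟩
  · obtain ⟨g, rfl, rfl⟩ := trOO ho ho' h (m := 0x6920d0) (by decide +kernel)
    rw [stabM_smul, stabM_smul, ← cj_inf, card_cj]
    exact (packOct.stabL Dcw (c := 0x6920d0) (by decide +kernel) 35 9 30 [(0, [(0x4cef849d560ac85516933424196f1, 0xb60ab4813a44cf4ad0ca9c441b8b7)]),(1, [(0x754ccb50335160f42d323922d15c60, 0x14ed2820ad65c9453d2b3d5c608e20)]),(2, [(0x898929a876496ac7d1683c04dbb820, 0x1c1aa9d2e65888c4c9e83d9d589420)]),(3, [(0xb9ac8229d3946b47ad898346728820, 0xbd5ac83dc75c4c9549142587328820), (0xb9dab828b560e747a24925a2670820, 0xb9a0c6a4b358eafa490ab122770820)]),(4, [(0xb926faa22da3a0b6255231cb618820, 0xb926faa22da3a0b6255231cb618820), (0xb9e086be3593a6952d94b10a618820, 0xb9e086be3593a6952d94b10a618820), (0xbd6cb22627638cfa224a834b318820, 0xbd6cb22627638cfa224a834b318820)])] 10752 (by decide +kernel)).card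
  · obtain ⟨g, rfl, rfl⟩ := trOO ho ho' h (m := 0xc75001) (by decide +kernel)
    rw [stabM_smul, stabM_smul, ← cj_inf, card_cj]
    exact (packOct.stabL Dcw (c := 0xc75001) (by decide +kernel) 285 9 280 [(0, [(0x4a874b1d69ddb023d483542b188b1, 0x740d57d80c545b222668a1c2b188b7)]),(1, [(0x730ed5da327de70a112aaa04628460, 0x748eb6c22c7de969a126a906a09440)]),(3, [(0x8caa69c1d63dc8c5d1ed4a84828c20, 0x742aa9daf24c50c598e47d06d11420)]),(2, [(0x8c16a9caf66b9ecad0874184919420, 0x8c16a9caf66b9ecad0874184919420)]),(4, [(0x759446b2f2a44f04a0d59acaf18820, 0x8d90f3c1cc25e723556a6a4b418820), (0x8c8877b1d045d56a25b35d4a618820, 0x730cb45af09c5323b54fa10b518820)])] 1152 (by decide +kernel)).card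
  · obtain ⟨g, rfl, rfl⟩ := trOO ho ho' h (m := 0x49f002) (by decide +kernel)
    rw [stabM_smul, stabM_smul, ← cj_inf, card_cj]
    exact (packOct.stabL Dcw (c := 0x49f002) (by decide +kernel) 453 9 448 [(0, [(0xbb168b2473805ed91d46ad224281c2, 0xbcce682caf68596aa65452064881c2)]),(1, [(0x1cea961cb6805ed520d22504bbc5c0, 0x1c2a6b204f6859322e8a92627b95c0)]),(2, [(0x2b4cb826337bacca2a48256e710c20, 0x2b4cb826337bacca2a48256e710c20)]),(3, [(0x1c164b56f3639ed91d54498a888820, 0x8ce4882c766b98faa4e4518b4b8820)]),(4, [(0x8b1667a4b383acd3c948a92f418820, 0x2b4e482aef9b996aa6485d22618820)])] 720 (by decide +kernel)).card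

end Cfsg.Agent.S5613
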