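import Cfsg.Statements.S5614
import Cfsg.Agent.H7.Mi

set_option autoImplicit false
open scoped Pointwise
open Cfsg

namespace Cfsg.Agent.S5614

open CfsgH7 MulAction
open scoped Pointwise symmDiff
set_option maxRecDepth 100000
set_option Elab.async false


/-- In the group of the length-24 code, the joint stabiliser of two octads meeting in exactly two points is isomorphic to the symmetric group of degree 6. -/
theorem result (o o' : Finset Cfsg.GolayPt) (ho : o ∈ Cfsg.octads) (ho' : o' ∈ Cfsg.octads) (h₂ : (o ∩ o').card = 2) : Nonempty (↥(MulAction.stabilizer Cfsg.M24 o ⊓ MulAction.stabilizer Cfsg.M24 o') ≃* Equiv.Perm (Fin 6)) := by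
  obtain ⟨g, rfl, rfl⟩ := trOO ho ho' h₂ (m := 0x49f002) (by decide +kernel)
  rw [stabM_smul, stabM_smul, ← cj_inf]
  exact equiv_cj g (((packOct.stabL Dcw (c := 0x49f002) (by decide +kernel) 453 9 448 [(0, [(0xbb168b2473805ed91d46ad224281c2, 0xbcce682caf68596aa65452064881c2)]),(1, [(0x1cea961cb6805ed520d22504bbc5c0, 0x1c2a6b204f6859322e8a92627b95c0)]),(2, [(0x2b4cb826337bacca2a48256e710c20, 0x2b4cb826337bacca2a48256e710c20)]),(3, [(0x1c164b56f3639ed91d54498a888820, 0x8ce4882c766b98faa4e4518b4b8820)]),(4, [(0x8b1667a4b383acd3c948a92f418820, 0x2b4e482aef9b996aa6485d22618820)])] 720 (by decide +kernel)).rebase (S' := [0x8b095b1aed9ba0fa29279204b28023, 0x3d529984cb060d5a6b441227b8dc5]) (L' := [(0, [(0xbb168b2473805ed91d46ad224281c2, 0xbcce682caf68596aa65452064881c2)]),(1, [(0x1cea961cb6805ed520d22504bbc5c0, 0x1c2a6b204f6859322e8a92627b95c0)]),(2, [(0x2b4cb826337bacca2a48256e710c20, 0x2b4cb826337bacca2a48256e710c20)]),(3,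 [(0x1c164b56f3639ed91d54498a888820, 0x8ce4882c766b98faa4e4518b4b8820)]),(4, [(0x8b1667a4b383acd3c948a92f418820, 0x2b4e482aef9b996aa6485d22618820)])]) (P := [(0, 1), (0, 3), (3, 4), (0, 4), (0, 6), (3, 6), (0, 0), (0, 3), (4, 9), (9, 9), (10, 2), (3, 4), (4, 1), (1, 3), (1, 11), (5, 14), (0, 5), (15, 10), (4, 5), (1, 1), (0, 6), (8, 3), (7, 8)]) (k := 25) (by decide +kernel)).iso_top (pack_perm 6 ⟨nat_lit 6, nat_lit 3, nat_lit 7⟩ (by decide) (S := [0x3315, 0x204cd]) (L := [(0, [(0x286a1, 0x29684)]),(1, [(0x22a58, 0x1d310)]),(2, [(0x23548, 0x158c8)]),(3, [(0x1ca88, 0x1ca88)]),(4, [(0x25688, 0x25688)])]) (M := 720) (by decide) (P := [(0, 0), (0, 3), (3, 4), (0, 4), (5, 5), (1, 6), (0, 0), (0, 3), (4, 0), (0, 2), (10, 11), (9, 8), (0, 2), (2, 15), (13, 1), (6, 1), (6, 1), (3, 4), (8, 19), (19, 1), (0, 0), (0, 4), (10, 1), (10, 1), (4, 12), (8, 16), (24, 1), (0, 11), (15, 12)]) (k := 31) (by decide +kernel))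
    ⟨nat_lit 30, nat_lit 5, nat_lit 31⟩ (by decide) (P := [(0, 1), (0, 3), (3, 3), (0, 5), (4, 0), (0, 2), (2, 8), (5, 0), (0, 2), (9, 11), (0, 11), (0, 12), (10, 13), (0, 0), (0, 3), (9, 10), (0, 2), (15, 6), (17, 1), (14, 4), (11, 12), (1, 1), (0, 4), (21, 3), (0, 6), (9, 9), (7, 8), (10, 1)]) (k := 30) (L := [(0, [(0x3b9d731b8b2896a870b39f34564432ca705c22, 0x3bac6f9913d55626f06ba7634a8b21ca888023)]),(1, [(0x3bcce35b8b528b2c70985ec3caa6512f4289c0, 0x3bcc677a2cd247aaf0686cc91eb45a066889c0)]),(2, [(0x33dc6b7c15889798b36b990520f2aac74bc420, 0x398cebbb1d8e48204c9b9ed32e8a4ca352dc20)]),(3, [(0x3bcd6f191bea669cb0b3a6c52d2495228b8820, 0x3bcd6f191bea669cb0b3a6c52d2495228b8820)]),(4, [(0x37ace3bc2b4e482aef9b996aa6485d22618820, 0x338ef37a8b1667a4b383acd3c948a92f418820)])]) (by decide +kernel))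

end Cfsg.Agent.S5614
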