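import Cfsg.Statements.S5615
import Cfsg.Agent.H7.Mj

set_option autoImplicit false
open scoped Pointwise
open Cfsg

namespace Cfsg.Agent.S5615

open CfsgH7 MulAction
open scoped Pointwise symmDiff
set_option maxRecDepth 100000
set_option Elab.async false

def hs (c : ℕ) : Bool := (tA c =ₙ 0x82402f) ||ₙ (tB c =ₙ 0x82402f) ||ₙ (tC c =ₙ 0x82402f)

theorem hs_iff {c : ℕ} (h : trv c = true) : toFs 0x82402f ∈ trdec c ↔ hs c = true := by
  obtain ⟨h1, h2, -⟩ := trv_iff.mp h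
  simp only [trdec, hs, Finset.mem_insert, Finset.mem_singleton, bor_eq, Bool.or_eq_true, n_beq]
  rw [toFs_eq_iff (by norm_num) (isOct_lt h1), toFs_eq_iff (by norm_num) (isOct_lt h2),
    toFs_eq_iff (by norm_num) (isOct_lt (trv_C h))]
  simp only [eq_comm]

theorem trTT {o : Finset GolayPt} {T₁ T₂ : Finset (Finset GolayPt)} (h1 : T₁ ∈ trios) (h2 : T₂ ∈ trios)
    (h3 : o ∈ T₁) (h4 : o ∈ T₂) (h5 : T₁ ≠ T₂) : ∃ g : M24, (g : P24) • toFs 0x82402f = o ∧
      (g : P24) • trdec 0x527c082402f = T₁ ∧ (g : P24) • trdec 0x742a40099590 = T₂ := by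
  obtain ⟨o', ho', hne⟩ := Finset.exists_mem_ne (show 1 < T₁.card by rw [h1.1]; decide) o
  obtain ⟨g, rfl, rfl⟩ := trO2 (h1.2.1 o h3) (h1.2.1 o' ho') (h1.2.2 o h3 o' ho' hne.symm)
  have e : T₁ = (g : P24) • trdec 0x527c082402f :=
    (trio_eq h1 h3 ho' hne.symm).trans (trio_eq ((trM g _).mpr t0_mem) ((memM _ _ _).mpr (by decide +kernel))
      ((memM _ _ _).mpr (by decide +kernel)) hne.symm).symm
  subst e
  obtain ⟨T, rfl⟩ := exM g T₂
  rw [trM] at h2
  rw [memM] at h4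
  obtain ⟨i, hi, rfl⟩ := exists_trio_idx h2
  have v := trio_valid hi
  have h := (packTr.stabL Dcw (c := 0x82402f) (by decide +kernel) 8 9 3 [(0, [(0x15ab359c12604cf22a084b6f428e2e, 0x2daa4a4029600cf9a8e89346b15dd1)]),(2, [(0xbc92732c4c50488856967cdcd88ca0, 0xba1493586b3949093eaca4c2d145c0)]),(1, [(0x1a9b0391d3316c84b2955be3208ae0, 0xb509810b4346aa3d96c9bdd2b8860)]),(3, [(0x2a9309323638ea66d16f24ee870820, 0x2c1aa34e3440d724daa47b2e770820), (0x73e645a627a5e55620d05347628820, 0x7118fab628b5ccb99e4a8247428820)]),(4, [(0xbae957b6289ba44b1cd0524ac18820, 0xbae957b6289ba44b1cd0524ac18820), (0xbb1f3a4232ab916218ed4a8ab18820, 0xbb1f3a4232ab916218ed4a8ab18820), (0xba1474922b3398d85676a3cb218820, 0xba1474922b3398d85676a3cb218820), (0xbcc8cb2a265b8f47c9096c0b518820, 0xbcc8cb2a265b8f47c9096c0b518820)])] 21504 (by decide +kernel))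
  obtain ⟨j, hj, ej⟩ : ∃ j < 3795, trio j = 0x742a40099590 := ⟨1416, by norm_num, by decide +kernel⟩
  obtain ⟨u, hu, e⟩ := Coded.exists_of_lab (D := Dtr) h.mem (fuel := 30) (cs := [0x742a40099590]) (by decide +kernel)
    (e := trio) (n := 3795) (ok := fun c => hs c &&ₙ bnot (trkey c =ₙ trkey 0x527c082402f)) (lab := fun _ => 0)
    (by decide +kernel) hj hi (trio_valid hj) v (by rw [ej]; decide +kernel) (by
      rw [(hs_iff v).mp h4, band_eq, Bool.true_and, bnot_eq, Bool.not_eq_true', n_beq_false]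
      exact fun h => h5 (congrArg _ ((Dtr.key_spec _ _ v t0_valid).mpr h).symm)) rfl
  rw [ej] at e
  refine ⟨g * u, ?_, ?_, ?_⟩
  · rw [mulM_smul]; exact congrArg _ hu.2
  · rw [mulM_smul]; exact congrArg _ hu.1
  · rw [mulM_smul]; exact congrArg _ e

/-- An octad of the length-24 code lies in exactly 15 trios; the stabiliser of the octad in the code's group acts doubly transitively on these 15 trios, and the kernel of this action is the pointwise stabiliser of the octad. -/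
theorem result (o : Finset Cfsg.GolayPt) (ho : o ∈ Cfsg.octads) : {T : Finset (Finset Cfsg.GolayPt) | T ∈ Cfsg.trios ∧ o ∈ T}.ncard = 15 ∧ (∀ T₁ T₂ T₁' T₂' : Finset (Finset Cfsg.GolayPt), T₁ ∈ Cfsg.trios → T₂ ∈ Cfsg.trios → T₁' ∈ Cfsg.trios → T₂' ∈ Cfsg.trios → o ∈ T₁ → o ∈ T₂ → o ∈ T₁' → o ∈ T₂' → T₁ ≠ T₂ → T₁' ≠ T₂' → ∃ g ∈ Cfsg.M24, g • o = o ∧ g • T₁ = T₁' ∧ g • T₂ = T₂') ∧ ∀ g ∈ Cfsg.M24, g • o = o → ((∀ T ∈ Cfsg.trios, o ∈ T → g • T = T) ↔ ∀ p ∈ o, g p = p) := by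
  refine ⟨?_, fun T₁ T₂ T₁' T₂' a b c d e f g h i j => ?_, ?_⟩
  · obtain ⟨g, rfl⟩ := trO ho
    rw [ncard_transport (Q := fun T => T ∈ trios ∧ toFs 0x82402f ∈ T) (g : P24) fun x => by rw [trM, memM],
      ncard_tr _ hs fun c hc => hs_iff hc]
    decide +kernel
  · obtain ⟨u, rfl, rfl, rfl⟩ := trTT a b e f i
    obtain ⟨v, h1, rfl, rfl⟩ := trTT c d g h j
    refine ⟨(v * u⁻¹ : M24), Subtype.prop _, ?_, ?_, ?_⟩ <;> rw [mulM_smul, Subgroup.coe_inv, inv_smul_smul]
    exact h1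
  · obtain ⟨k, rfl⟩ := trO ho
    intro g hg h
    lift g to M24 using hg
    obtain ⟨u, rfl⟩ : ∃ u, g = k * u * k⁻¹ := ⟨k⁻¹ * g * k, by group⟩
    rw [conjM_smul, eqM] at h
    have e : (∀ p ∈ (k : P24) • toFs 0x82402f, ((k * u * k⁻¹ : M24) : P24) p = p) ↔ u ∈ fixM (toFs 0x82402f) := by
      rw [← mem_fixM, fixM_smul, conj_mem_cj]
    rw [e]
    constructor
    · intro hT
      have k : ∀ c, trv c = true → hs c = true → u ∈ stabilizer M24 (Dtr.dec c) := fun c h1 h2 => by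
        have := hT _ ((trM k _).mpr (trdec_mem h1)) ((memM _ _ _).mpr ((hs_iff h1).mpr h2))
        rwa [conjM_smul, eqM] at this
      rw [((((packOct.stabL Dtr (c := 0x3da10082402f) (by decide +kernel) 20 11 15 [(0, [(0x74ce62240cb154daca8b43c30b8c51, 0x1bd69b280435d9043647ad1d3104b1)]),(1, [(0x13d674a9c620ed56d24c84ca80de20, 0x1358a32427b4568aca64a40af75c60)]),(2, [(0x740ea658a62097344aa96d06f8dc20, 0x149266287625cf36d10bac22f2b820)]),(4, [(0x7326f6a0b595e06258f45aa2918820, 0x72a08abcada5e76398924b22b18820), (0x2ccea5b1c9b448d7d506a42f218820, 0x2bd47b11c65c5929d209aa2ed18820)]),(5, [(0x8adb2452ef816acb28d33a5c418820, 0x8adb2452ef816acb28d33a5c418820), (0x2a695835d34464c32acf3aee418820, 0x2a695835d34464c32acf3aee418820)])] 21504 (by decide +kernel)).stabL Dtr (c := 0xcb25082402f) (by decide +kernel) 19 11 14 [(0, [(0x125ed441d2ac68721ad36280b0dc65, 0x125ed441d2ac68721ad36280b0dc65)]),(1, [(0xbd86b1ee4515686ca099d07570a20,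 0x8cc863a829b0d756bd0c951d028ae0)]),(4, [(0xbb1b2aa233a0e0721acf4ac4a71420, 0xba66f8522d40eb6310f26284b71420), (0xba1474922b3398d85676a3cb218820, 0xba1474922b3398d85676a3cb218820)]),(2, [(0xbaa087b63598a4c3d934598642b820, 0xbaa087b63598a4c3d934598642b820), (0xbad106be349166cb1d35519c410c20, 0xbad106be349166cb1d35519c410c20)])] 1536 (by decide +kernel)).stabL Dtr (c := 0x34349082402f) (by decide +kernel) 17 11 12 [(0, [(0xa0ea4901630d92855eba4c4d716f1, 0xc1473300b48c8d45276abc52716f1), (0x5ab47b43098a445a8c83a46c2ba37, 0x5ab47b43098a445a8c83a46c2ba37), (0x734c952cac3ded094e847d62808062, 0x734c952cac3ded094e847d62808062)]),(4, [(0xbcc8cb2a265b8f47c9096c0b518820, 0xbcc8cb2a265b8f47c9096c0b518820), (0xbb4c93ae2453ac893e8c9d4b018820, 0xbb4c93ae2453ac893e8c9d4b018820), (0xb99b28523343aaa4b16f258a718820, 0xb99b28523343aaa4b16f258a718820), (0xbbd8459e29b39559b606920b418820, 0xbbd8459e29b39559b606920b418820)])] 128 (by decide +kernel)).stabL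 Dtr (c := 0x11b8c082402f) (by decide +kernel) 13 11 8 [(4, [(0xb9e086be3593a6952d94b10a618820, 0xb9e086be3593a6952d94b10a618820), (0xbb4c93ae2453ac893e8c9d4b018820, 0xbb4c93ae2453ac893e8c9d4b018820), (0xbd6cb22627638cfa224a834b318820, 0xbd6cb22627638cfa224a834b318820), (0xbc92655a2c3b9706cea47d0a818820, 0xbc92655a2c3b9706cea47d0a818820)])] 16 (by decide +kernel)).eq_of_le packE (by decide +kernel)]
      exact ⟨⟨⟨⟨h, k _ (by decide +kernel) (by decide +kernel)⟩, k _ (by decide +kernel) (by decide +kernel)⟩, k _ (by decide +kernel) (by decide +kernel)⟩, k _ (by decide +kernel) (by decide +kernel)⟩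
    · intro hu T hT ho
      obtain ⟨T, rfl⟩ := exM k T
      rw [trM] at hT
      rw [memM] at ho
      obtain ⟨i, hi, rfl⟩ := exists_trio_idx hT
      have v := trio_valid hi
      have := (all_iff _ _).mp (show all (fun i => force (trio i) fun c => bnot (hs c) ||ₙ Dtr.fixes (Fmt.gens (LE0.drop 8)) c) 3795 = true by decide +kernel) i hi
      rw [force_eq, (hs_iff v).mp ho] at this
      exact conj_fix (packE.le_stab Dtr v (by simpa using this) hu)

end Cfsg.Agent.S5615
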