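import Cfsg.Statements.S5616
import Cfsg.Agent.H7.Mj

set_option autoImplicit false
open scoped Pointwise
open Cfsg

namespace Cfsg.Agent.S5616

open CfsgH7 MulAction
open scoped Pointwise symmDiff
set_option maxRecDepth 100000
set_option Elab.async false

def d3 (c : ℕ) : ℕ := force (syn c) fun s => force (part s 23) fun a => force (part s 0) fun b => force (part s 1) fun c =>
  ite' (a =ₙ b) (ite' (b =ₙ c) 1 2) (ite' ((a =ₙ c) ||ₙ (b =ₙ c)) 2 3)

theorem d3_eq {c : ℕ} (hc : c < 2 ^ 24) (h4 : pc24 c = 4) :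
    ((sx (toFs c)).filter fun t => (t ∩ toFs 0x800003).Nonempty).card = d3 c := by
  have e : ((sx (toFs c)).filter fun t => (t ∩ toFs 0x800003).Nonempty) =
      {toFs (part (syn c) 23), toFs (part (syn c) 0), toFs (part (syn c) 1)} := by
    have e0 : toFs 0x800003 = {dec 23, dec 0, dec 1} := by decide +kernel
    ext t
    simp only [Finset.mem_filter, e0, Finset.Nonempty, Finset.mem_inter, Finset.mem_insert, Finset.mem_singleton]
    constructor
    · rintro ⟨h, x, hx, rfl | rfl | rfl⟩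
      exacts [Or.inl (part_unique hc h4 (by norm_num) h hx), Or.inr (Or.inl (part_unique hc h4 (by norm_num) h hx)),
        Or.inr (Or.inr (part_unique hc h4 (by norm_num) h hx))]
    · rintro (rfl | rfl | rfl)
      exacts [⟨(part_mem hc h4 (by norm_num)).1, _, (part_mem hc h4 (by norm_num)).2, Or.inl rfl⟩,
        ⟨(part_mem hc h4 (by norm_num)).1, _, (part_mem hc h4 (by norm_num)).2, Or.inr (Or.inl rfl)⟩,
        ⟨(part_mem hc h4 (by norm_num)).1, _, (part_mem hc h4 (by norm_num)).2, Or.inr (Or.inr rfl)⟩]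
  have l1 := part_lt (syn c) (show 23 < 24 by norm_num)
  have l2 := part_lt (syn c) (show 0 < 24 by norm_num)
  have l3 := part_lt (syn c) (show 1 < 24 by norm_num)
  rw [e]
  simp only [d3, force_eq, ite'_eq, n_beq, bor_eq, Bool.or_eq_true]
  simp only [← toFs_eq_iff l1 l2, ← toFs_eq_iff l2 l3, ← toFs_eq_iff l1 l3]
  generalize toFs (part (syn c) 23) = x
  generalize toFs (part (syn c) 0) = y
  generalize toFs (part (syn c) 1) = z
  by_cases h1 : x = y <;> by_cases h2 : y = z <;> by_cases h3 : x = z <;> simp_all [Finset.card_insert_eq_ite]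

theorem tp (g : P24) (S : Finset (Finset GolayPt)) (Y : Finset GolayPt) :
    ((g • S).filter fun t => (t ∩ g • Y).Nonempty).card = (S.filter fun t => (t ∩ Y).Nonempty).card := by
  rw [← cardM g (S.filter _)]
  congr 1
  ext t
  obtain ⟨t, rfl⟩ := exists_smul' g t
  rw [memM, Finset.mem_filter, Finset.mem_filter, memM, interM, Finset.smul_finset_nonempty]

/-- Let Y be a set of 3 of the 24 points. The sextets of the length-24 code whose tetrads meeting Y number 1, 2 or 3 are respectively 21, 630 and 1120 in number, and two sextets with the same number of tetrads meeting Y are conjugate under the setwise stabiliser of Y in the code's group. -/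
theorem result (Y : Finset Cfsg.GolayPt) (hY : Y.card = 3) : {S : Finset (Finset Cfsg.GolayPt) | S ∈ Cfsg.sextets ∧ (S.filter fun t => (t ∩ Y).Nonempty).card = 1}.ncard = 21 ∧ {S : Finset (Finset Cfsg.GolayPt) | S ∈ Cfsg.sextets ∧ (S.filter fun t => (t ∩ Y).Nonempty).card = 2}.ncard = 630 ∧ {S : Finset (Finset Cfsg.GolayPt) | S ∈ Cfsg.sextets ∧ (S.filter fun t => (t ∩ Y).Nonempty).card = 3}.ncard = 1120 ∧ ∀ S S' : Finset (Finset Cfsg.GolayPt), S ∈ Cfsg.sextets → S' ∈ Cfsg.sextets → (S.filter fun t => (t ∩ Y).Nonempty).card = (S'.filter fun t => (t ∩ Y).Nonempty).card → ∃ g ∈ Cfsg.M24, g • Y = Y ∧ g • S = S' := by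
  obtain ⟨g, rfl⟩ := trP3 hY
  have key : ∀ n, {S : Finset (Finset GolayPt) | S ∈ sextets ∧ (S.filter fun t => (t ∩ (g : P24) • toFs 0x800003).Nonempty).card = n}.ncard =
      cnt (fun s => force (lead s) fun c => (pc24 c =ₙ 4) &&ₙ (d3 c =ₙ n)) 4096 := fun n => by
    rw [← ncard_sx (fun S => (S.filter fun t => (t ∩ toFs 0x800003).Nonempty).card = n) _ fun c hc h4 => by
      rw [d3_eq hc h4, n_beq]]
    exact ncard_transport (g : P24) fun x => by rw [sxM, tp]
  refine ⟨by rw [key]; decide +kernel, by rw [key]; decide +kernel, by rw [key]; decide +kernel, fun S S' hS hS' h => ?_⟩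
  obtain ⟨S, rfl⟩ := exM g S
  obtain ⟨S', rfl⟩ := exM g S'
  rw [sxM] at hS hS'
  rw [tp, tp] at h
  obtain ⟨s, hs, h4, rfl⟩ := exists_sx hS
  obtain ⟨s', hs', h4', rfl⟩ := exists_sx hS'
  rw [d3_eq (lead_lt _) h4, d3_eq (lead_lt _) h4'] at h
  obtain ⟨u, hu, e⟩ := lab_sx packTrip.mem 2000 [0x800803, 0x800803, 0x800806, 0x880050] (fun _ => true) d3 (by decide +kernel) hs hs' h4 h4' rfl rfl h
  exact ⟨(g * u * g⁻¹ : M24), Subtype.prop _, conj_fix hu, conj_fix e⟩

end Cfsg.Agent.S5616
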