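import Cfsg.Statements.S5618
import Cfsg.Agent.H7.Mi

set_option autoImplicit false
open scoped Pointwise
open Cfsg

namespace Cfsg.Agent.S5618

open CfsgH7 MulAction
open scoped Pointwise symmDiff
set_option maxRecDepth 100000
set_option Elab.async false


/-- For a dodecad d of the length-24 code and a hexad C on it (a 6-point intersection of d with an octad): the joint stabiliser of d and C in the code's group is isomorphic to the symmetric group of degree 6, and it acts faithfully both on the six points of C and on the six points of d outside C. -/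
theorem result (d : Finset Cfsg.GolayPt) (hd : d ∈ Cfsg.dodecads) (C : Finset Cfsg.GolayPt) (hC : C ∈ Cfsg.hexadsOn d) : Nonempty (↥(MulAction.stabilizer Cfsg.M24 d ⊓ MulAction.stabilizer Cfsg.M24 C) ≃* Equiv.Perm (Fin 6)) ∧ (∀ g ∈ MulAction.stabilizer Cfsg.M24 d ⊓ MulAction.stabilizer Cfsg.M24 C, (∀ p ∈ C, ((g : ↥Cfsg.M24) : Equiv.Perm Cfsg.GolayPt) p = p) → g = 1) ∧ ∀ g ∈ MulAction.stabilizer Cfsg.M24 d ⊓ MulAction.stabilizer Cfsg.M24 C, (∀ p ∈ d \ C, ((g : ↥Cfsg.M24) : Equiv.Perm Cfsg.GolayPt) p = p) → g = 1 := by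
  obtain ⟨h6, o, ho, rfl⟩ := hC
  obtain ⟨g, rfl, rfl⟩ := trDO hd ho h6
  have h := (packDod.stabL Dcw (c := 0x149f) (by decide +kernel) 137 9 132 [(0, [(0x72e91ba6d27ce0c29d06536a009062, 0x9c4b57428d7dcccb1e495216208064)]),(1, [(0x73e758a169b95a2a2a463c2c360480, 0x7968baa666b5da38aa123a1c123040)]),(3, [(0xb5eae2a62d7d20359e465226460820, 0xb5eae2a62d7d20359e465226460820)]),(2, [(0xbc4b49a2c673d2259db2542a41b020, 0xbc4b49a2c673d2259db2542a41b020)]),(4, [(0xbae957b6289ba44b1cd0524ac18820, 0xbae957b6289ba44b1cd0524ac18820)])] 720 (by decide +kernel))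
  have e : stabilizer M24 (toFs 0x5335f) ⊓ stabilizer M24 (toFs 0x149f ∩ toFs 0x5335f) =
      stabilizer M24 (toFs 0x5335f) ⊓ stabilizer M24 (toFs 0x149f) := by
    ext u
    simp only [Subgroup.mem_inf, mem_stabM]
    refine and_congr_right fun h1 => ⟨fun h2 => ?_, fun h2 => by rw [← interM, h1, h2]⟩
    refine octad_eq_of_inter ((octM u _).mpr (oct_of (by decide +kernel))) (oct_of (by decide +kernel)) ?_
    refine le_trans ?_ (Finset.card_le_card (s := toFs 0x149f ∩ toFs 0x5335f) (Finset.subset_inter ?_ Finset.inter_subset_left))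
    · rw [card_inter_toFs (by norm_num)]; decide +kernel
    · rw [← h2, subsetM]; exact Finset.inter_subset_left
  have f : ∀ {m : ℕ}, (stabilizer M24 (toFs 0x5335f) ⊓ stabilizer M24 (toFs 0x149f)) ⊓ fixM (toFs m) = ⊥ →
      ∀ u ∈ cj g (stabilizer M24 (toFs 0x5335f) ⊓ stabilizer M24 (toFs 0x149f)),
        (∀ p ∈ (g : P24) • toFs m, (u : P24) p = p) → u = 1 := fun {m} hb u hu hp => by
    have : u ∈ cj g (stabilizer M24 (toFs 0x5335f) ⊓ stabilizer M24 (toFs 0x149f) ⊓ fixM (toFs m)) := by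
      rw [cj_inf, ← fixM_smul]; exact ⟨hu, hp⟩
    rw [hb, mem_cj, Subgroup.mem_bot] at this
    calc u = g * (g⁻¹ * u * g) * g⁻¹ := by group
      _ = 1 := by rw [this]; group
  rw [interM, sdiffM, stabM_smul, stabM_smul, ← cj_inf, e]
  refine ⟨equiv_cj g ((h.rebase (S' := [0x7ded45b672ac4c0729093c0a261061, 0x5d1c5a9aed7c52199e50522c019182]) (L' := [(0, [(0x72e91ba6d27ce0c29d06536a009062, 0x9c4b57428d7dcccb1e495216208064)]),(1, [(0x73e758a169b95a2a2a463c2c360480, 0x7968baa666b5da38aa123a1c123040)]),(3, [(0xb5eae2a62d7d20359e465226460820, 0xb5eae2a62d7d20359e465226460820)]),(2, [(0xbc4b49a2c673d2259db2542a41b020, 0xbc4b49a2c673d2259db2542a41b020)]),(4, [(0xbae957b6289ba44b1cd0524ac18820, 0xbae957b6289ba44b1cd0524ac18820)])]) (P := [(1, 2), (1, 3), (0, 0), (0, 3), (2, 5), (0, 7), (6, 0), (0, 2), (4, 5), (0, 0), (0, 3), (10, 12), (5, 1), (14, 14), (0, 0), (0, 9), (6, 1), (13, 13), (19, 1), (6, 7), (1, 1), (17, 5),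 (11, 12), (0, 7), (4, 8)]) (k := 27) (by decide +kernel)).iso_top (pack_perm 6 ⟨nat_lit 6, nat_lit 3, nat_lit 7⟩ (by decide) (S := [0x2b19, 0xa8e8]) (L := [(0, [(0x5899, 0x23285)]),(1, [(0x22a58, 0x1d310)]),(2, [(0x14748, 0x14748)]),(3, [(0x1d888, 0x23a88)]),(4, [(0x25688, 0x25688)])]) (M := 720) (by decide) (P := [(0, 2), (0, 2), (0, 3), (3, 1), (0, 2), (6, 6), (0, 7), (0, 5), (9, 10), (0, 11), (11, 1), (0, 12), (12, 0), (0, 2), (5, 10), (0, 2), (5, 1), (7, 15), (0, 11), (0, 17), (15, 0), (0, 2), (5, 12), (0, 0), (0, 3), (8, 0), (0, 2), (27, 19), (1, 20), (0, 4)]) (k := 32) (by decide +kernel))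
    ⟨nat_lit 30, nat_lit 5, nat_lit 31⟩ (by decide) (P := [(1, 2), (0, 2), (0, 4), (4, 0), (0, 2), (5, 7), (0, 0), (0, 7), (3, 4), (0, 0), (0, 3), (11, 11), (0, 12), (0, 15), (10, 1), (5, 1), (15, 18), (6, 13), (0, 0), (0, 3), (9, 0), (0, 2), (22, 5), (0, 8), (0, 3), (14, 10), (0, 5)]) (k := 29) (L := [(0, [(0x379ef31a5de757b6d2a39038a8d03a4a223001, 0x37aee399b468fac1689ba42ba8cd3a4a361001)]),(1, [(0x359de3bc7ae25b41c6add01a29323b66313080, 0x338df79a74deb2a2b2bc4c2b292d3c28120d80)]),(2, [(0x3b9de39a5c5f49cacda9602ba8c83a5c323020, 0x3b9de39a5c5f49cacda9602ba8c83a5c323020)]),(3, [(0x3bcde359b2dd57c2262d124ba90d3ca6360820, 0x3bcde71a5de8e29a329d503b29a93c1ec20820)]),(4, [(0x3bcde758bae957b6289ba44b1cd0524ac18820, 0x3bcde758bae957b6289ba44b1cd0524ac18820)])]) (by decide +kernel)), ?_, ?_⟩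
  · rw [← toFs_and]
    exact f ((h.refull [(0, [(0x8ba96598b2abda0baa093a26218584, 0x5d1f52c2e9759a19a9063ca201904c)]),(1, [(0x9c6d55c9eda5cc12aa093a1c361040, 0x7568fbcac9896039a9063b56220580)]),(2, [(0xb466e29ae8a3e425aa093b6a460c20, 0x8dcafab6c9750c35a9103ca6413020)]),(3, [(0x5d9d49a2292d4ccb9e12535e320820, 0x5d9d49a2292d4ccb9e12535e320820)]),(4, [(0xbae957b6289ba44b1cd0524ac18820, 0xbae957b6289ba44b1cd0524ac18820)]),(12, [])] (by decide +kernel)).fixM 6 _ 1 (by decide +kernel)).eq_bot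
  · rw [show toFs 0x5335f \ (toFs 0x149f ∩ toFs 0x5335f) = toFs 0x52340 from by decide +kernel]
    exact f ((h.refull [(6, [(0xb4eaf2b62972e01a2a463a2e013064, 0x2deabb262da3e4272a063a26008d84)]),(8, [(0x9d2ce7b57289501baa0939aa400c4c, 0x5d4b6bc1e99d2408a90d399c410583)]),(9, [(0xb5e342a6ad5ba0c7aa4839a6018444, 0xb5e342a6ad5ba0c7aa4839a6018444)]),(13, [(0x2da959b5d07c64459d2851aec00443, 0x2da959b5d07c64459d2851aec00443)]),(16, [(0xb96af9c232a2da171d2851ac010d84, 0xb96af9c232a2da171d2851ac010d84)]),(18, [])] (by decide +kernel)).fixM 6 _ 1 (by decide +kernel)).eq_bot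

end Cfsg.Agent.S5618
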