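import Cfsg.Statements.S5619
import Cfsg.Agent.H7.Mj

set_option autoImplicit false
open scoped Pointwise
open Cfsg

namespace Cfsg.Agent.S5619

open CfsgH7 MulAction
open scoped Pointwise symmDiff
set_option maxRecDepth 100000
set_option Elab.async false

def AQ : Act (QuaternionGroup 2) (QuaternionGroup 2) where
  F := ⟨nat_lit 8, nat_lit 3, nat_lit 7⟩
  pt := fun i => if i < 4 then .a i else .xa i
  ok := by decide
  inj := by decide
  faith := by decide

theorem pQ : Pack AQ ⊤ [0xd670d1, 0x21afac] [(0, [(0x443d67, 0xd19f5), (0x688b3e, 0x21afac)])] 8 :=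
  Pack.of_card_le (P := [(0, 2), (1, 2), (3, 1)]) (k := 5) (by rw [Subgroup.card_top, Nat.card_eq_fintype_card, QuaternionGroup.card])
    (fun t ht => by
      simp only [List.mem_cons, List.not_mem_nil, or_false] at ht
      rcases ht with rfl | rfl
      · exact ⟨.a 1, trivial, by unfold Act.Rep; decide +kernel⟩
      · exact ⟨.xa 0, trivial, by unfold Act.Rep; decide +kernel⟩) (by decide +kernel)

/-- In the group of the length-24 code, the subgroup fixing a dodecad setwise and three of its points individually (a group of order 72) has a normal Sylow 3-subgroup that is elementary abelian of order 9, and its Sylow 2-subgroups are quaternion of order 8. -/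
theorem result (d : Finset Cfsg.GolayPt) (hd : d ∈ Cfsg.dodecads) (p q r : Cfsg.GolayPt) (hp : p ∈ d) (hq : q ∈ d) (hr : r ∈ d) (hpq : p ≠ q) (hpr : p ≠ r) (hqr : q ≠ r) : (∀ Q : Sylow 3 ↥(MulAction.stabilizer Cfsg.M24 d ⊓ MulAction.stabilizer Cfsg.M24 p ⊓ MulAction.stabilizer Cfsg.M24 q ⊓ MulAction.stabilizer Cfsg.M24 r), (Q : Subgroup ↥(MulAction.stabilizer Cfsg.M24 d ⊓ MulAction.stabilizer Cfsg.M24 p ⊓ MulAction.stabilizer Cfsg.M24 q ⊓ MulAction.stabilizer Cfsg.M24 r)).Normal ∧ Nat.card ↥Q = 9 ∧ ∀ x ∈ (Q : Subgroup ↥(MulAction.stabilizer Cfsg.M24 d ⊓ MulAction.stabilizer Cfsg.M24 p ⊓ MulAction.stabilizer Cfsg.M24 q ⊓ MulAction.stabilizer Cfsg.M24 r)), x ^ 3 = 1) ∧ ∀ P : Sylow 2 ↥(MulAction.stabilizer Cfsg.M24 d ⊓ MulAction.stabilizer Cfsg.M24 p ⊓ MulAction.stabilizer Cfsg.M24 q ⊓ MulAction.stabilizer Cfsg.M24 r), Nonempty (↥P ≃* QuaternionGroup 2) := by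
  obtain ⟨g, rfl, rfl, rfl, rfl⟩ := trDppp hd hp hq hr hpq hpr hqr
  rw [stabM_smul, stabM_smul, stabM_smul, stabM_smul, ← cj_inf, ← cj_inf, ← cj_inf]
  have hN := pack9.sub_chain [(3, [(0xbda8e7a0ed2d4925c46c5267030820, 0xbd9d52b1449d20859cd288ded48820), (0xb2dd57c2262d124ba90d3ca6360820, 0x5de8e29a329d503b29a93c1ec20820)])] 9 (by decide +kernel)
  have hQ := pack9.sub_chain [(3, [(0x79551bc1cc59cc39d488a26cd90820, 0x9954758e92bc4907d4c8736c960820), (0x8a8b372566a3e4d3d988b8eb020820, 0x3a8afa36e474d898da485c2a330820)])] 8 (by decide +kernel)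
  refine ⟨fun Q => ?_, fun P => ?_⟩
  · have c := (card_subOf (cj_mono g hN.1)).trans ((card_cj _ _).trans hN.2.card)
    obtain ⟨k, e⟩ := sylow_iso Q _ (c.trans (by rw [card_cj, pack9.card]; decide +kernel))
    have n := normal_cj g (pack9.normal hN.2 (by decide +kernel))
    rw [cj_normal n] at e
    refine ⟨e ▸ n, (congrArg (fun X : Subgroup _ => Nat.card X) e).trans c, fun x hx => Subtype.ext ?_⟩
    rw [e] at hx
    exact pow_cj g (hN.2.sq 3 (by decide +kernel)) x hx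
  · have c := (card_subOf (cj_mono g hQ.1)).trans ((card_cj _ _).trans hQ.2.card)
    obtain ⟨k, e⟩ := sylow_iso P _ (c.trans (by rw [card_cj, pack9.card]; decide +kernel))
    obtain ⟨f⟩ := equiv_cj g ((hQ.2.rebase (S' := [0x8a8b372566a3e4d3d988b8eb020820, 0x9954758e92bc4907d4c8736c960820]) (L' := [(3, [(0x79551bc1cc59cc39d488a26cd90820, 0x9954758e92bc4907d4c8736c960820), (0x8a8b372566a3e4d3d988b8eb020820, 0x3a8afa36e474d898da485c2a330820)])]) (P := [(0, 1), (2, 1)]) (k := 4) (by decide +kernel)).iso_top (pQ.rebase (S' := [0x443d67, 0x688b3e]) (L' := [(0, [(0x443d67, 0xd19f5), (0x688b3e, 0x21afac)])]) (P := []) (k := 2) (by decide +kernel))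
      ⟨nat_lit 32, nat_lit 5, nat_lit 31⟩ (by decide) (P := []) (k := 2) (L := [(3, [(0xdeb38ef3fe9954758e92bc4907d4c8736c960820, 0xce37affbbc79551bc1cc59cc39d488a26cd90820), (0xd671bf779f8a8b372566a3e4d3d988b8eb020820, 0xc6f59e7fdd3a8afa36e474d898da485c2a330820)])]) (by decide +kernel))
    obtain ⟨f'⟩ := equiv_cj k ⟨(Subgroup.subgroupOfEquivOfLe (cj_mono g hQ.1)).trans f⟩
    exact ⟨(MulEquiv.subgroupCongr e).trans f'⟩

end Cfsg.Agent.S5619
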