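import Cfsg.Statements.S5620
import Cfsg.Agent.H7.Mi

set_option autoImplicit false
open scoped Pointwise
open Cfsg

namespace Cfsg.Agent.S5620

open CfsgH7 MulAction
open scoped Pointwise symmDiff
set_option maxRecDepth 100000
set_option Elab.async false


/-- Inside the stabiliser of the dodecad of squares (a Mathieu group of degree 12), the stabiliser of the residue 0 (a point of the dodecad) and the stabiliser of the extra point (a point outside the dodecad) are isomorphic but not conjugate; conjugation by a suitable element of the code's group that maps the dodecad of squares onto its complement carries the first onto the second. -/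
theorem result : Nonempty (↥(Cfsg.Spor.M12 ⊓ MulAction.stabilizer (Equiv.Perm Cfsg.GolayPt) (none : Cfsg.GolayPt)) ≃* ↥Cfsg.Spor.M11) ∧ (¬ ∃ k ∈ Cfsg.Spor.M12, MulAut.conj k • Cfsg.Spor.M11 = Cfsg.Spor.M12 ⊓ MulAction.stabilizer (Equiv.Perm Cfsg.GolayPt) (none : Cfsg.GolayPt)) ∧ ∃ g ∈ Cfsg.M24, g • Cfsg.Spor.squareDodecad = Finset.univ \ Cfsg.Spor.squareDodecad ∧ MulAut.conj g • Cfsg.Spor.M11 = Cfsg.Spor.M12 ⊓ MulAction.stabilizer (Equiv.Perm Cfsg.GolayPt) (none : Cfsg.GolayPt) := by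
  have hg : AM.Rep (elM 0x634880524f48a763055182c6571eb7) 0x634880524f48a763055182c6571eb7 := elM_rep (by decide +kernel)
  have h1 : (elM 0x634880524f48a763055182c6571eb7 : P24) • toFs 0x5335f = (toFs 0x5335f)ᶜ := by
    rw [smul_toFsM hg, ← toFs_compl]; congr 1
  have h2 : (elM 0x634880524f48a763055182c6571eb7 : P24) • dec 0 = dec 23 := (hg.smul_eq_iff (i := 0) (j := 23) (by decide) (by decide)).mpr (by decide +kernel)
  have e : cj (elM 0x634880524f48a763055182c6571eb7 : P24) Spor.M11 = Spor.M12 ⊓ stabilizer P24 (none : GolayPt) := by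
    rw [Spor.M11, Spor.M12, cj_inf, cj_inf, cj_of_mem (elM _).2, cj_stab, cj_stab, squareDodecad_eq, h1]
    rw [show (some 0 : GolayPt) = dec 0 from rfl, h2, show dec 23 = none from rfl]
    ext u
    simp only [Subgroup.mem_inf, mem_stabilizer_iff, smul_compl', compl_inj_iff]
  refine ⟨⟨(MulEquiv.subgroupCongr e.symm).trans (cjEquiv _ _).symm⟩, ?_, _, (elM 0x634880524f48a763055182c6571eb7).2, ?_,
    by rw [← cj_eq_smul, e]⟩
  · rintro ⟨k, hk, e⟩
    have h := (packDod.stabL Dpt (c := 0x17) (by decide +kernel) 17 2 12 [(0, [(0xba9737ca817450c2d60438ac64b403, 0xb9551a49c99bc4cad86d3916801a01)]),(1, [(0xb9e96520a18bd249b9865b6a314240, 0xbd0b5585e2728c93cdb2b222c20e00)]),(2, [(0xbae657a54ca38433d8d08b6a824820, 0xba8afa88e89b8d0b46445a68363420)]),(3, [(0xbd9d52b1449d20859cd288ded48820, 0xbda8e7a0ed2d4925c46c5267030820)]),(4, [(0xbae957b6289ba44b1cd0524ac18820, 0xbae957b6289ba44b1cd0524ac18820)])] 7920 (by decide +kernel))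
    rw [← cj_eq_smul, Spor.M11, cj_inf, cj_of_mem hk, cj_stab] at e
    have h3 : k • (some 0 : GolayPt) ∈ toFs 0x5335f := by
      have : k • Spor.squareDodecad = Spor.squareDodecad := hk.2
      rw [squareDodecad_eq] at this
      rw [← this, memM]; decide +kernel
    obtain ⟨i, hi, e'⟩ := exists_dec (k • (some 0 : GolayPt))
    rw [← e', dec_mem_toFs hi] at h3
    obtain ⟨t, ht, h4⟩ := (show ∀ i < 24, tb 0x5335f i = true → ∃ t ∈ Fmt.gens [(0, [(0xba9737ca817450c2d60438ac64b403, 0xb9551a49c99bc4cad86d3916801a01)]),(1, [(0xb9e96520a18bd249b9865b6a314240, 0xbd0b5585e2728c93cdb2b222c20e00)]),(2, [(0xbae657a54ca38433d8d08b6a824820, 0xba8afa88e89b8d0b46445a68363420)]),(3, [(0xbd9d52b1449d20859cd288ded48820, 0xbda8e7a0ed2d4925c46c5267030820)]),(4, [(0xbae957b6289ba44b1cd0524ac18820, 0xbae957b6289ba44b1cd0524ac18820)])], F24.g t i ≠ i by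
      decide +kernel) i hi (tb_eq _ _ ▸ h3)
    obtain ⟨u, hu, hu'⟩ := h.mem t ht
    have h5 : (u : P24) ∈ Spor.M12 ⊓ stabilizer P24 (none : GolayPt) :=
      ⟨M12_eq ▸ ⟨u, hu.1, rfl⟩, hu.2⟩
    rw [← e, ← e'] at h5
    exact h4 ((hu'.fix_iff hi).mp h5.2)
  · rw [squareDodecad_eq, h1, Finset.compl_eq_univ_sdiff]

end Cfsg.Agent.S5620
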