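import Cfsg.Statements.S5622
import Cfsg.Agent.H3.Gol

set_option autoImplicit false
open Cfsg

namespace Cfsg.Agent.S5622

open CfsgPm

/-- Let C be a self-dual binary code of length 24 with minimum weight at least 8 (a 12-dimensional subspace of the 24-dimensional space over the field with two elements, any two of whose words have dot product zero, with no non-zero word of weight below 8 — an abstract extended binary Golay code). Then the minimum weight of C is exactly 8, and the supports of the words of weight 8 (the octads) form a Steiner system S(5, 8, 24) on the 24 coordinates: every 5 coordinates lie in the support of exactly one word of weight 8. -/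
theorem result (C : Submodule (ZMod 2) (Fin 24 → ZMod 2)) (hdim : Module.finrank (ZMod 2) C = 12) (horth : ∀ v ∈ C, ∀ w ∈ C, ∑ i, v i * w i = 0) (hmin : ∀ w ∈ C, w ≠ 0 → 8 ≤ hammingNorm w) : (∃ w ∈ C, hammingNorm w = 8) ∧ Cfsg.IsSteinerSystem 5 8 (Cfsg.wordsOfWeight (C : Set (Fin 24 → ZMod 2)) 8) := by
  obtain ⟨P, -, hP⟩ := Finset.exists_subset_card_eq (s := (Finset.univ : Finset (Fin 24))) (n := 5) (by simp)
  refine ⟨(gol_oct hdim hmin horth P hP).imp fun _ h => ⟨h.1, h.2.1⟩, fun _ h => h.2, fun s hs => ?_⟩
  obtain ⟨o, h1, h2, h3⟩ := gol_oct hdim hmin horth s hs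
  refine ⟨_, ⟨⟨⟨o, h1, rfl⟩, h2⟩, h3⟩, ?_⟩
  rintro _ ⟨⟨⟨u, k1, rfl⟩, k2⟩, k3⟩
  change hammingNorm u = 8 at k2
  have := Finset.card_le_card (Finset.subset_inter k3 h3)
  have := wt_sub u o
  rw [show u = o from by_contra fun n => by have := hmin _ (sub_mem k1 h1) (sub_ne_zero.2 n); omega]

end Cfsg.Agent.S5622
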