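import Cfsg.Statements.S5626
import Cfsg.Agent.H3.Pl6

set_option autoImplicit false
open Cfsg

namespace Cfsg.Agent.S5626

open CfsgPm Finset

/-- Uniqueness of the projective plane of order 4: any two Steiner systems S(2, 5, 21) (21 points, lines of 5 points, two points on exactly one line) are isomorphic. -/
theorem result {α β : Type*} [Fintype α] [DecidableEq α] [Fintype β] [DecidableEq β] (hα : Fintype.card α = 21) (hβ : Fintype.card β = 21) {L : Set (Finset α)} {L' : Set (Finset β)} (hL : Cfsg.IsSteinerSystem 2 5 L) (hL' : Cfsg.IsSteinerSystem 2 5 L') : Cfsg.SetSystemIso L L' := by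
  obtain ⟨H, hH⟩ := card_pos.1 (by rw [(card_arcs hL hα).2]; omega : 0 < #(Arcs L 6))
  obtain ⟨H', hH'⟩ := card_pos.1 (by rw [(card_arcs hL' hβ).2]; omega : 0 < #(Arcs L' 6))
  obtain ⟨e, he⟩ := enum6 (mem_Arcs.1 hH).1
  obtain ⟨e', he'⟩ := enum6 (mem_Arcs.1 hH').1
  exact (plane_iso hL hα hL' hβ (Subtype.val_injective.comp e.injective) (he.symm ▸ (mem_Arcs.1 hH).2 : Arc L (univ.image fun i => (e i : α)))
    (Subtype.val_injective.comp e'.injective) (he'.symm ▸ (mem_Arcs.1 hH').2 : Arc L' (univ.image fun i => (e' i : β)))).imp fun _ h => h.2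

end Cfsg.Agent.S5626
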