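import Cfsg.Statements.S5628
import Cfsg.Agent.H3.Pl6

set_option autoImplicit false
open Cfsg

namespace Cfsg.Agent.S5628

open CfsgPm Finset Sum Pointwise
theorem sec2 : ∀ z z', (∀ a b, ln a b z → a ≠ b → ln a b z') → (∀ i, z ≠ inl i) → z = z' := by decide +kernel

/-- In a projective plane of order 4 (a Steiner system S(2, 5, 21)), every permutation of the six points of a hyperoval (a 6-set met by no line in more than two points) is the restriction of exactly one automorphism of the plane. In particular the stabiliser of a hyperoval in the automorphism group is isomorphic to the symmetric group of degree 6 acting faithfully on the hyperoval. -/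
theorem result {α : Type*} [Fintype α] [DecidableEq α] (hα : Fintype.card α = 21) (L : Set (Finset α)) (hL : Cfsg.IsSteinerSystem 2 5 L) (H : Finset α) (hH : (H.card = 6 ∧ ∀ l ∈ L, (l ∩ H).card ≤ 2)) (σ : Equiv.Perm ↥H) : ∃! g : Equiv.Perm α, g ∈ Cfsg.setSystemAut L ∧ ∀ p : ↥H, g p = σ p := by
  obtain ⟨e, he⟩ := enum6 hH.1
  have hA : Arc L (univ.image fun i => (e i : α)) := he.symm ▸ hH.2
  have hi : Function.Injective fun i => (e i : α) := Subtype.val_injective.comp e.injective
  obtain ⟨g, g1, g2⟩ := plane_iso hL hα hL hα hi hA (e' := fun i => (σ (e i) : α)) (Subtype.val_injective.comp (σ.injective.comp e.injective))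
    (Arc.mono hH.2 fun x hx => by obtain ⟨i, -, rfl⟩ := mem_image.1 hx; exact Subtype.prop _)
  have hg : g ∈ setSystemAut L := g2
  have g3 : ∀ p : H, g p = σ p := fun p => by simpa using g1 (e.symm p)
  refine ⟨g, ⟨hg, g3⟩, fun g' ⟨h1, h2⟩ => (inv_mul_eq_one.1 (Equiv.ext fun x => ?_)).symm⟩
  have hu : g⁻¹ * g' ∈ setSystemAut L := mul_mem (inv_mem hg) h1
  have hf : ∀ p : H, (g⁻¹ * g') p = p := fun p => by simp [h2, ← g3]
  generalize (g⁻¹ * g' : Equiv.Perm α) = u at hu hf
  obtain ⟨d, d1, d2⟩ := model hL hα hi hA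
  obtain ⟨z, rfl⟩ := d.surjective x
  by_cases c : ∃ i, z = inl i
  · obtain ⟨i, rfl⟩ := c
    exact d1 i ▸ hf _
  refine (d.symm_apply_eq.1 (sec2 z _ (fun a b h n => ?_) (not_exists.1 c)).symm)
  obtain ⟨l, h3, h4, h5⟩ := ex2 hL (hi.ne n)
  obtain ⟨i, j, k⟩ := d2 l h3
  have E := ln_uniq a b (inl a) (by simp [ln, n]) (inl b) ⟨by simpa, by simp [ln, n]⟩ i j ⟨(k _).1 (d1 a ▸ h4), (k _).1 (d1 b ▸ h5)⟩
  have hl : u • l ∈ L := (MulAction.mem_stabilizer_iff.1 hu) ▸ Set.smul_mem_smul_set h3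
  rw [E, ← k, Equiv.apply_symm_apply, ← un2 hL hl h3 (hi.ne n) (hf (e a) ▸ smul_mem_smul_finset h4) (hf (e b) ▸ smul_mem_smul_finset h5) h4 h5]
  exact smul_mem_smul_finset ((k z).2 (E z ▸ h))

end Cfsg.Agent.S5628
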