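import Cfsg.Statements.S5632
import Cfsg.Agent.H5.LinMat

set_option autoImplicit false
open Cfsg

namespace Cfsg.Agent.S5632

/-- For a finite field F and subspaces 0 < W < U of F^n with dim W + dim U = n, the elements of SL_n(F) stabilising both W and U form a subgroup that is not maximal in SL_n(F): some subgroup lies strictly between it and SL_n(F). -/
theorem result {F : Type*} [Field F] [Fintype F] (n : ℕ) (W U : Submodule F (Fin n → F)) (hW0 : W ≠ ⊥) (hWU : W < U) (hdim : Module.finrank F W + Module.finrank F U = n) : ∃ K : Subgroup (Matrix.GeneralLinearGroup (Fin n) F), Cfsg.Geo.subspaceStabilizer W ⊓ Cfsg.Geo.subspaceStabilizer U ⊓ Cfsg.Geo.specialLinear (Fin n) F < K ∧ K < Cfsg.Geo.specialLinear (Fin n) F := by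
  rw [CfsgH5.specialLinear_eq, CfsgH5.subspaceStabilizer_eq, CfsgH5.subspaceStabilizer_eq,
    ← Subgroup.comap_inf, ← Subgroup.comap_inf]
  refine CfsgH5.not_maximal_comap _ ⟨CfsgH5.stab F (W : Set (Fin n → F)) ⊓ CfsgH5.slSub F _,
    lt_of_le_not_ge (inf_le_inf_right _ inf_le_left) fun h => ?_,
    lt_of_le_not_ge inf_le_right fun h => CfsgH5.sl_not_le_stab hW0 hWU.ne_top (h.trans inf_le_left)⟩
  have h1 : U ≠ ⊤ := by
    rintro rfl
    simp only [finrank_top, Module.finrank_fintype_fun_eq_card, Fintype.card_fin, Nat.add_eq_right,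
      Submodule.finrank_eq_zero] at hdim
    exact hW0 hdim
  obtain ⟨v, hv⟩ : ∃ x, x ∉ U := by
    by_contra h; push Not at h; exact h1 (Submodule.eq_top_iff'.2 h)
  obtain ⟨u, hu, hu'⟩ := SetLike.exists_of_lt hWU
  obtain ⟨φ, h2, h3⟩ := CfsgH5.exists_dual_sep (W ⊔ Submodule.span F {v}) (x := u) (fun hh => by
    obtain ⟨c, hc⟩ := CfsgH5.mem_sup_span_singleton.1 hh
    have hc0 : c ≠ 0 := by rintro rfl; exact hu' (by simpa using hc)
    exact hv ((U.smul_mem_iff hc0).1 (by simpa using U.sub_mem hu (hWU.le hc))))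
  exact CfsgH5.tr_notMem_stab (h3 v (Submodule.mem_sup_right (Submodule.mem_span_singleton_self v)))
    hv hu (by simp [h2]) (h ⟨CfsgH5.tr_mem_stab_of_ker v fun w hw =>
      h3 w (Submodule.mem_sup_left hw), CfsgH5.tr_mem_sl φ v⟩).1.2

end Cfsg.Agent.S5632
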