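import Cfsg.Statements.S5633
import Cfsg.Agent.H5.LinMat

set_option autoImplicit false
open Cfsg

namespace Cfsg.Agent.S5633

/-- For a finite field F and complementary non-zero subspaces W ⊕ U = F^n with dim W < dim U, the elements of SL_n(F) stabilising both W and U form a subgroup that is not maximal in SL_n(F): some subgroup lies strictly between it and SL_n(F). -/
theorem result {F : Type*} [Field F] [Fintype F] (n : ℕ) (W U : Submodule F (Fin n → F)) (hW0 : W ≠ ⊥) (hWU : W ⊓ U = ⊥) (hWU' : W ⊔ U = ⊤) (hdim : Module.finrank F W < Module.finrank F U) : ∃ K : Subgroup (Matrix.GeneralLinearGroup (Fin n) F), Cfsg.Geo.subspaceStabilizer W ⊓ Cfsg.Geo.subspaceStabilizer U ⊓ Cfsg.Geo.specialLinear (Fin n) F < K ∧ K < Cfsg.Geo.specialLinear (Fin n) F := by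
  rw [CfsgH5.specialLinear_eq, CfsgH5.subspaceStabilizer_eq, CfsgH5.subspaceStabilizer_eq,
    ← Subgroup.comap_inf, ← Subgroup.comap_inf]
  have h1 : W ≠ ⊤ := by
    rintro rfl
    exact absurd (Submodule.finrank_mono (le_top (a := U))) (by omega)
  refine CfsgH5.not_maximal_comap _ ⟨CfsgH5.stab F (W : Set (Fin n → F)) ⊓ CfsgH5.slSub F _,
    lt_of_le_not_ge (inf_le_inf_right _ inf_le_left) fun h => ?_,
    lt_of_le_not_ge inf_le_right fun h => CfsgH5.sl_not_le_stab hW0 h1 (h.trans inf_le_left)⟩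
  obtain ⟨w, hw, hw0⟩ := (Submodule.ne_bot_iff W).1 hW0
  obtain ⟨u, hu, hu0⟩ := (Submodule.ne_bot_iff U).1 (by rintro rfl; simp at hdim)
  have key : ∀ x, x ∈ W → x ∈ U → x = 0 := fun x h1 h2 => by
    rw [← Submodule.mem_bot F, ← hWU]; exact ⟨h1, h2⟩
  obtain ⟨φ, h2, h3⟩ := CfsgH5.exists_dual_sep W (x := u) fun hh => hu0 (key u hh hu)
  exact CfsgH5.tr_notMem_stab (h3 w hw) (fun hh => hw0 (key w hw hh)) hu (by simp [h2])
    (h ⟨CfsgH5.tr_mem_stab_of_mem φ hw, CfsgH5.tr_mem_sl φ w⟩).1.2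

end Cfsg.Agent.S5633
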