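import Cfsg.Statements.S5634
import Cfsg.Agent.H9.MX3

set_option autoImplicit false
open Cfsg

namespace Cfsg.Agent.S5634

/-- For a finite field F with q elements and n ≥ 13, let D be a decomposition of F^n into t ≥ 2 independent subspaces of equal dimension m ≥ 1 spanning F^n. Unless m = 1 and q ≤ 4, or m = 2 and q = 2, the elements of SL_n(F) permuting the members of D form a maximal subgroup of SL_n(F). -/
theorem result {F : Type*} [Field F] [Fintype F] (n : ℕ) (hn : 13 ≤ n) {t : ℕ} (m : ℕ) (D : Fin t → Submodule F (Fin n → F)) (hD : Cfsg.Geo.IsMDecomposition m D) (h1 : ¬ (m = 1 ∧ Fintype.card F ≤ 4)) (h2 : ¬ (m = 2 ∧ Fintype.card F = 2)) : Cfsg.Geo.IsMaximalIn (Cfsg.Geo.specialLinear (Fin n) F) (Cfsg.Geo.decompositionStabilizer D ⊓ Cfsg.Geo.specialLinear (Fin n) F) := by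
  open CfsgH5 CfsgH9.MX Module in
  obtain ⟨p, p1, p2, p3⟩ := exists_proj hD.indep hD.iSup_eq_top
  have ht := hD.two_le
  have hm := hD.pos
  have hd : ∀ {N}, (∀ g ∈ slSub F (Fin n → F), g ∈ dstab D → g ∈ N) → DG D p m N := fun h =>
    ⟨hD.indep, hD.iSup_eq_top, hD.finrank_eq, hm, p1, p2, p3, fun g h1 h2 => h g h2 h1⟩
  have e : n = t * m := by
    have := ((DirectSum.isInternal_submodule_iff_iSupIndep_and_iSup_eq_top D).2 ⟨hD.indep, hD.iSup_eq_top⟩)
    simpa [hD.finrank_eq] using (LinearEquiv.ofBijective (DirectSum.coeLinearMap D) this).finrank_eq.symm.trans (finrank_directSum F fun i => D i)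
  refine isMaximalIn_gl specialLinear_eq (· ∈ dstab D) mem_decompositionStabilizer_iff
    ((hd (N := ⊤) fun _ _ _ => trivial).not_mem (i := ⟨0, by omega⟩) (j := ⟨1, by omega⟩) (by simp)) fun N h3 _ g hg hn => ?_
  by_cases h4 : m = 1
  · exact (hd h3).mono h4 (by omega) (by simp; subst h4; omega) hg hn
  refine (hd h3).two (by omega) (fun h5 => ⟨by simp; subst h5; omega, ?_⟩) hg hn
  obtain ⟨c, h6, h7⟩ := gen_of_card_ne_two fun h => h2 ⟨h5, h⟩
  exact ⟨.mk0 c h6, sub_ne_zero.2 h7⟩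

end Cfsg.Agent.S5634
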