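import Cfsg.Statements.S5645
import Cfsg.Agent.H5.SpMat

set_option autoImplicit false
open Cfsg

namespace Cfsg.Agent.S5645

/-- For a finite field F and m ≥ 7, in the symplectic group Sp_2m(F) of the standard alternating form on F^(2m) (as a subgroup of GL_2m(F)), the stabiliser of any non-zero subspace on which the form vanishes identically is a maximal subgroup. -/
theorem result {F : Type*} [Field F] [Fintype F] (m : ℕ) (hm : 7 ≤ m) (W : Submodule F (Fin m ⊕ Fin m → F)) (hW0 : W ≠ ⊥) (hW : Cfsg.Geo.IsTotallySingularFor (Cfsg.sympForm m F) W) : Cfsg.Geo.IsMaximalIn (Cfsg.spGL m F) (Cfsg.Geo.subspaceStabilizer W ⊓ Cfsg.spGL m F) := by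
  have hS := CfsgH5.spForm_nondeg (F := F) m
  have hW' : (CfsgH5.spForm m F).TotSing W := CfsgH5.Form.totSing_of_isMax CfsgH5.spParam_isMax hW
  rw [CfsgH5.spGL_eq, CfsgH5.subspaceStabilizer_eq, ← Subgroup.comap_inf]
  refine CfsgH5.isMaximalIn_comap _ (CfsgH5.isMaximalIn_of inf_le_right ?_ ?_)
  · intro h
    exact hS.EG_not_le_stab hW' hW0 (Or.inl CfsgH5.Form.sp_Λ) (by
      rw [hS.sp_EG]; exact h.trans inf_le_left)
  · intro N h1 h2 g hg hn
    rw [← hS.sp_EG] at h1 ⊢
    exact hS.EG_le_of_parabolic hW' (Or.inl CfsgH5.Form.sp_Λ) h1 hg (h2 hg)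
      fun hh => hn ⟨hh, h2 hg⟩

end Cfsg.Agent.S5645
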