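import Cfsg.Statements.S5646
import Cfsg.Agent.H5.Mx3

set_option autoImplicit false
open Cfsg

namespace Cfsg.Agent.S5646

open CfsgH5

/-- For a finite field F and m ≥ 7, in the symplectic group Sp_2m(F) of the standard alternating form on F^(2m), the stabiliser of any non-zero subspace W on which the form is non-degenerate and with dim W < m is a maximal subgroup. -/
theorem result {F : Type*} [Field F] [Fintype F] (m : ℕ) (hm : 7 ≤ m) (W : Submodule F (Fin m ⊕ Fin m → F)) (hW0 : W ≠ ⊥) (hW : Cfsg.Geo.IsNondegenerateOn (Cfsg.sympForm m F) W) (hdim : Module.finrank F W < m) : Cfsg.Geo.IsMaximalIn (Cfsg.spGL m F) (Cfsg.Geo.subspaceStabilizer W ⊓ Cfsg.spGL m F) := by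
  have hS := spForm_nondeg (F := F) m
  have hG := Form.good_sp hS
  have hW' : (spForm m F).NondegOn W := isNondegenerateOn_iff.1 hW
  have h1 := hW'.finrank_add
  rw [finrank_sp] at h1
  refine isMaximalIn_gl (spGL_eq' m) _ mem_subspaceStabilizer_iff ?_ fun N h2 h3 g hg hn => ?_
  · exact SetLike.not_le_iff_exists.1 (hG.EG_not_le_stab (by rw [finrank_sp]; omega) hW0
      (by rintro rfl; rw [finrank_top, finrank_sp] at hdim; omega))
  · exact hG.EG_le_of_nondeg hW' (by omega) (fun g _ => Form.not_le_map_of_lt (by omega) g)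
      hW'.irr_sp (fun k hk => h2 k hk.2 hk.1) h3 hg hn

end Cfsg.Agent.S5646
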