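import Cfsg.Statements.S5647
import Cfsg.Agent.H5.Mx4

set_option autoImplicit false
open Cfsg

namespace Cfsg.Agent.S5647

open CfsgH5

/-- For a finite field F with q elements and m ≥ 7, let D be a decomposition of F^(2m) into t ≥ 2 pairwise orthogonal subspaces of equal dimension k on each of which the standard alternating form is non-degenerate, spanning F^(2m). Unless k = 2 and q = 2, the elements of Sp_2m(F) permuting the members of D form a maximal subgroup of Sp_2m(F). -/
theorem result {F : Type*} [Field F] [Fintype F] (m : ℕ) (hm : 7 ≤ m) {t : ℕ} (k : ℕ) (D : Fin t → Submodule F (Fin m ⊕ Fin m → F)) (hD : Cfsg.Geo.IsNondegenerateMDecomposition (Cfsg.sympForm m F) k D) (hex : ¬ (k = 2 ∧ Fintype.card F = 2)) : Cfsg.Geo.IsMaximalIn (Cfsg.spGL m F) (Cfsg.Geo.decompositionStabilizer D ⊓ Cfsg.spGL m F) := by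
  have hS := spForm_nondeg (F := F) m
  have hnd : ∀ i, (spForm m F).NondegOn (D i) := fun i => isNondegenerateOn_iff.1 (hD.nondegenerate i)
  have hO : (spForm m F).ODec k D := ⟨hnd, fun i j hij => hD.orthogonal i j hij,
    hD.decomp.iSup_eq_top, hD.decomp.finrank_eq, fun i j => (hnd i).res.sp_exists_isom' (hnd j).res
      (by rw [hD.decomp.finrank_eq, hD.decomp.finrank_eq])⟩
  have ht := hD.decomp.two_le
  have h0 := hD.decomp.pos
  obtain ⟨r, hr⟩ := (hnd ⟨0, by omega⟩).res.sp_even
  rw [hD.decomp.finrank_eq] at hr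
  refine isMaximalIn_dstab (Form.good_sp hS) (spGL_eq' m) hO ht h0 (fun i => ?_)
    fun N h1 h2 g hg hn => hO.sp_EG_le hS (by omega) ?_ h1 h2 hg hn
  · obtain ⟨w, hw, hw0⟩ := (Submodule.ne_bot_iff (D i)).1 (by
      intro h1; have := hO.dim i; rw [h1, finrank_bot] at this; omega)
    exact ⟨w, hw, hw0, Form.sp_q _ w⟩
  · by_cases h3 : 3 ≤ k
    · exact .inl h3
    · exact .inr (gen_of_card_ne_two fun h4 => hex ⟨by omega, h4⟩)

end Cfsg.Agent.S5647
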