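import Cfsg.Statements.S5650
import Cfsg.Agent.H5.Sf3

set_option autoImplicit false
open Cfsg

namespace Cfsg.Agent.S5650

open CfsgH5

/-- For a finite field F, a subfield F₀ with |F| = |F₀| ^ r for a prime r, and m ≥ 7, let P be an invertible matrix and ζ a non-zero scalar such that ζ times the standard alternating form takes values in F₀ on the F₀-span of the columns of P. Then the elements of Sp_2m(F) lying in the subfield group of P (the conjugate by P of the product of GL_2m(F₀) with the scalars) form a maximal subgroup of Sp_2m(F). -/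
theorem result {F : Type*} [Field F] [Fintype F] (m : ℕ) (hm : 7 ≤ m) (F₀ : Subfield F) (r : ℕ) (hr : r.Prime) (hcard : Fintype.card F = Nat.card F₀ ^ r) (P : Matrix.GeneralLinearGroup (Fin m ⊕ Fin m) F) (ζ : F) (hζ : ζ ≠ 0) (hP : Cfsg.Geo.IsFormRationalStructure (Cfsg.sympForm m F) F₀ ζ P) : Cfsg.Geo.IsMaximalIn (Cfsg.spGL m F) (Cfsg.Geo.subfieldSubgroup F₀ P ⊓ Cfsg.spGL m F) := by
  let S := spForm m F
  let S0 : Form (spParam F₀) _ := Form.ofAlt (fun u v => ⟨ζ * S.B (jP F₀ P u) (jP F₀ P v),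
      hP _ _ (fun i => (u i).2) fun i => (v i).2⟩) (fun x y z => Subtype.ext (by simp [mul_add]))
    (fun c x z => Subtype.ext (by simp [map_smulₛₗ]; ring)) (fun x y => Subtype.ext (by simp [S.sp_skew (jP F₀ P x)]))
    fun x => Subtype.ext (by simp [S.sp_self])
  refine isMaximalIn_subfield (rs_of (S0 := S0) (spForm_nondeg m) hζ (fun _ _ => rfl) Form.good_sp (fun _ => rfl)
    (fun v => by simp [Form.sp_q]) (by simp; omega)) (spGL_eq' m) hr hcard (fun l _ => ?_) fun H h _ a b g =>
      h.rat_of_isMax spParam_isMax b (pow_mem_subfield Nat.prime_two) a one_ne_zero trivial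
  by_cases h2 : (2 : F) = 0
  · obtain ⟨a, ha⟩ := exists_sq_of_two_eq_zero h2 (l / ζ)
    exact .inr ⟨S0.sp_q, a, by rw [spParam_σ, ← mul_assoc, ← sq, ha, div_mul_cancel₀ _ hζ]⟩
  · exact .inl ⟨l / 2, by simp only [spParam_σ, spParam_ε]; field_simp; ring⟩

end Cfsg.Agent.S5650
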