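import Cfsg.Statements.S5652
import Cfsg.Agent.H5.Mx3

set_option autoImplicit false
open Cfsg

namespace Cfsg.Agent.S5652

open CfsgH5

/-- For a finite field F of characteristic two and m ≥ 7, let Q be a non-degenerate quadratic form on F^(2m) whose polar form is the standard alternating form. Then the elements of Sp_2m(F) that are similarities of Q (they are exactly the isometries of Q) form a maximal subgroup of Sp_2m(F). -/
theorem result {F : Type*} [Field F] [Fintype F] (m : ℕ) (hm : 7 ≤ m) (heven : ¬ Odd (Fintype.card F)) (Q : (Fin m ⊕ Fin m → F) → F) (hQ : Cfsg.Geo.IsNondegenerateQuadraticForm Q) (hpol : ∀ u v, QuadraticMap.polar Q u v = Cfsg.sympForm m F u v) : Cfsg.Geo.IsMaximalIn (Cfsg.spGL m F) (Cfsg.Geo.quadSimilarityGroup Q ⊓ Cfsg.spGL m F) := by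
  have hS := geoForm_nondeg hQ
  have h2 := two_eq_zero_of_not_odd heven
  have hB : ∀ x y, (spForm m F).B x y = (geoForm hQ).B x y := fun x y => by
    rw [← polar_eq_B (geoForm_Q hQ), hpol, spForm_B]
  have hK := spGL_eq (F := F) m
  have : Geo.quadSimilarityGroup Q ⊓ spGL m F = isometryGroup F Q ⊓ spGL m F := by
    ext g
    refine and_congr_left fun hg => ⟨fun ⟨c, hc⟩ v _ => ?_, fun h => ⟨1, fun v => by simpa using h v v⟩⟩
    rw [hK] at hg
    have h1 := (spForm_hypFam (F := F) m).ef ⟨0, by omega⟩ ⟨0, by omega⟩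
    have h3 := Form.isom_B hg (Pi.single (.inr ⟨0, by omega⟩) 1) (Pi.single (.inl ⟨0, by omega⟩) 1)
    rw [h1, spForm_B, ← hpol] at h3
    rw [spForm_B, ← hpol] at h1
    simp only [QuadraticMap.polar, MulEquiv.toMonoidHom_eq_coe, MonoidHom.coe_coe, glEquiv_apply,
      ← Matrix.mulVec_add, hc, if_true] at h1 h3
    have h4 : (c : F) = 1 := by linear_combination h3 - c * h1
    have := hc v
    rwa [h4, one_mul] at this
  rw [this]
  refine isMaximalIn_gl hK (· ∈ (geoForm hQ).isom)
    (fun g => by rw [isometryGroup_eq _ (geoForm_Q hQ)]; rfl) ?_ fun N h3 h4 g hg hn => ?_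
  · obtain ⟨e, f, h⟩ := hS.exists_isHyp (by rw [finrank_sp]; omega)
    refine ⟨(spForm m F).tv f 1, Form.tv_mem _ _ _, fun h1 => ?_⟩
    have := Form.isom_Q h1 e
    rw [Form.tv_apply, hB, h.ef, h.Q_comb', h.Qe] at this
    simp at this
  · exact Form.sp_le_of_orth hS hB h2 (by rw [finrank_sp]; omega) (fun k hk => h3 k
      ((spParam_isMax.mem_isom _).2 fun x y => by rw [hB, hB, Form.isom_B hk]) hk) h4 hg hn

end Cfsg.Agent.S5652
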