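import Cfsg.Statements.S5653
import Cfsg.Agent.H5.UnitMat

set_option autoImplicit false
open Cfsg

namespace Cfsg.Agent.S5653

/-- Let F be the field with q² elements and n ≥ 13, and let SU_n(q) be the group of matrices of determinant one preserving the standard unitary form Σ u_i v_i^q on F^n (the intersection of the unitary group GU_n with the kernel of the determinant). The elements of SU_n(q) stabilising a non-zero subspace on which the form vanishes identically form a maximal subgroup of SU_n(q). -/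
theorem result {F : Type*} [Field F] [Fintype F] (n q : ℕ) (hF : Fintype.card F = q ^ 2) (hn : 13 ≤ n) (W : Submodule F (Fin n → F)) (hW0 : W ≠ ⊥) (hW : Cfsg.Geo.IsTotallySingularFor (Cfsg.hermForm n F q) W) : Cfsg.Geo.IsMaximalIn (Cfsg.GU n F q ⊓ Cfsg.Geo.specialLinear (Fin n) F) (Cfsg.Geo.subspaceStabilizer W ⊓ (Cfsg.GU n F q ⊓ Cfsg.Geo.specialLinear (Fin n) F)) := by
  have hS := CfsgH5.uForm_nondeg hF n
  have hW' : (CfsgH5.uForm hF n).TotSing W :=
    CfsgH5.Form.totSing_of_isMax (CfsgH5.unitParam_isMax _ _) hW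
  have hΛ := CfsgH5.Form.unit_Λ (hσ := CfsgH5.frobQ_invol hF) (CfsgH5.frobQ_ne hF)
  rw [CfsgH5.SU_gl_eq hF, CfsgH5.subspaceStabilizer_eq, ← Subgroup.comap_inf,
    ← hS.unit_EG (CfsgH5.frobQ_ne hF) (by simp; omega)]
  refine CfsgH5.isMaximalIn_comap _ (CfsgH5.isMaximalIn_of inf_le_right ?_ ?_)
  · intro h
    exact hS.EG_not_le_stab hW' hW0 (Or.inl hΛ) (h.trans inf_le_left)
  · intro N h1 h2 g hg hn
    exact hS.EG_le_of_parabolic hW' (Or.inl hΛ) h1 hg (CfsgH5.Form.EG_le_isom (h2 hg))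
      fun hh => hn ⟨hh, h2 hg⟩

end Cfsg.Agent.S5653
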