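import Cfsg.Statements.S5654
import Cfsg.Agent.H5.Mx3

set_option autoImplicit false
open Cfsg

namespace Cfsg.Agent.S5654

open CfsgH5

/-- Let F be the field with q² elements and n ≥ 13. In SU_n(q) (determinant-one isometries of the standard unitary form on F^n) the stabiliser of a non-zero subspace W on which the form is non-degenerate and with 2 dim W < n is a maximal subgroup. -/
theorem result {F : Type*} [Field F] [Fintype F] (n q : ℕ) (hF : Fintype.card F = q ^ 2) (hn : 13 ≤ n) (W : Submodule F (Fin n → F)) (hW0 : W ≠ ⊥) (hW : Cfsg.Geo.IsNondegenerateOn (Cfsg.hermForm n F q) W) (hdim : 2 * Module.finrank F W < n) : Cfsg.Geo.IsMaximalIn (Cfsg.GU n F q ⊓ Cfsg.Geo.specialLinear (Fin n) F) (Cfsg.Geo.subspaceStabilizer W ⊓ (Cfsg.GU n F q ⊓ Cfsg.Geo.specialLinear (Fin n) F)) := by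
  have hS := uForm_nondeg hF n
  have hG := Form.good_unit (frobQ_ne hF) hS (by simp; omega)
  have hW' : (uForm hF n).NondegOn W := isNondegenerateOn_iff.1 hW
  have h1 := hW'.finrank_add
  rw [Module.finrank_fin_fun] at h1
  refine isMaximalIn_gl (SU_gl_eq' hF (by omega)) _ mem_subspaceStabilizer_iff ?_
    fun N h2 h3 g hg hn => ?_
  · exact SetLike.not_le_iff_exists.1 (hG.EG_not_le_stab (by simp; omega) hW0
      (by rintro rfl; simp at hdim; omega))
  · exact hG.EG_le_of_nondeg hW' (by omega) (fun g _ => Form.not_le_map_of_lt (by omega) g)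
      (hW'.irr_unit (frobQ_ne hF)) (fun k hk => h2 k hk.2 hk.1) h3 hg hn

end Cfsg.Agent.S5654
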