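import Cfsg.Statements.S5657
import Cfsg.Agent.H5.Mx3

set_option autoImplicit false
open Cfsg

namespace Cfsg.Agent.S5657

open CfsgH5

/-- Let F be the field with q² elements and n = 2k ≥ 13. Let D be a decomposition of F^n into two complementary subspaces of dimension k on each of which the standard unitary form vanishes identically. Then the elements of SU_n(q) preserving or interchanging the two subspaces form a maximal subgroup of SU_n(q). -/
theorem result {F : Type*} [Field F] [Fintype F] (n q : ℕ) (hF : Fintype.card F = q ^ 2) (hn : 13 ≤ n) (k : ℕ) (hk : 2 * k = n) (D : Fin 2 → Submodule F (Fin n → F)) (hD : Cfsg.Geo.IsMDecomposition k D) (hts : ∀ i, Cfsg.Geo.IsTotallySingularFor (Cfsg.hermForm n F q) (D i)) : Cfsg.Geo.IsMaximalIn (Cfsg.GU n F q ⊓ Cfsg.Geo.specialLinear (Fin n) F) (Cfsg.Geo.decompositionStabilizer D ⊓ (Cfsg.GU n F q ⊓ Cfsg.Geo.specialLinear (Fin n) F)) := by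
  have hS := uForm_nondeg hF n
  refine isMaximalIn_tsp (Form.good_unit (frobQ_ne hF) hS (by simp; omega))
    (SU_gl_eq' hF (by omega)) hD (by omega)
    (fun i => Form.totSing_of_isMax (unitParam_isMax _ _) (hts i)) (fun l hl => ?_)
    fun s hs _ e f h => ?_
  · obtain ⟨θ, hθ⟩ := exists_trace_one _ (frobQ_invol hF) (frobQ_ne hF)
    rw [unitParam_mem] at hl
    refine ⟨θ * l, ?_⟩
    simp only [unitParam_σ, unitParam_ε, map_mul]
    linear_combination (-l) * hθ + frobQ hF θ * hl
  · obtain ⟨a, ha, h1⟩ := exists_div_of_norm_one _ (frobQ_invol hF) (frobQ_ne hF)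
      (Form.norm_one_inv (hS.unit_det hs))
    refine ⟨a, ha, ?_⟩
    rw [hS.unit_EG (frobQ_ne hF) (by simp; omega)]
    refine ⟨Subgroup.mul_mem _ hs (Form.dil_mem _ _), mem_slSub.2 ?_⟩
    rw [det_mul', Form.det_dil, unitParam_σ, h1, mul_inv_cancel₀ (det_ne_zero' s)]

end Cfsg.Agent.S5657
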