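import Cfsg.Statements.S5658
import Cfsg.Agent.H5.Sf3

set_option autoImplicit false
open Cfsg

namespace Cfsg.Agent.S5658

open CfsgH5

/-- Let F be the field with q² elements, n ≥ 13, and F₀ a subfield with |F| = |F₀| ^ r for an odd prime r. Let P be an invertible matrix such that the standard unitary form takes values in F₀ on the F₀-span of the columns of P. Then the elements of SU_n(q) lying in the subfield group of P (the conjugate by P of the product of GL_n(F₀) with the scalars) form a maximal subgroup of SU_n(q). -/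
theorem result {F : Type*} [Field F] [Fintype F] (n q : ℕ) (hF : Fintype.card F = q ^ 2) (hn : 13 ≤ n) (F₀ : Subfield F) (r : ℕ) (hr : r.Prime) (hro : Odd r) (hcard : Fintype.card F = Nat.card F₀ ^ r) (P : Matrix.GeneralLinearGroup (Fin n) F) (hP : Cfsg.Geo.IsFormRationalStructure (Cfsg.hermForm n F q) F₀ 1 P) : Cfsg.Geo.IsMaximalIn (Cfsg.GU n F q ⊓ Cfsg.Geo.specialLinear (Fin n) F) (Cfsg.Geo.subfieldSubgroup F₀ P ⊓ (Cfsg.GU n F q ⊓ Cfsg.Geo.specialLinear (Fin n) F)) := by
  let S := uForm hF n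
  let σ : F₀ →+* F₀ := ((frobQ hF).comp F₀.subtype).codRestrict F₀ fun x => pow_mem x.2 q
  have h1 : ∀ a, σ (σ a) = a := fun a => Subtype.ext (frobQ_invol hF a)
  obtain ⟨a, h2, h3⟩ := exists_ne_of_odd hF hro hcard
  have h4 : ∃ a, σ a ≠ a := ⟨⟨a, h2⟩, fun e => h3 (congrArg Subtype.val e)⟩
  let S0 := Form.ofHerm σ h1 h4 (fun u v => ⟨1 * S.B (jP F₀ P u) (jP F₀ P v),
      hP _ _ (fun i => (u i).2) fun i => (v i).2⟩) (fun x y z => Subtype.ext (by simp))
    (fun c x z => Subtype.ext (by simp [map_smulₛₗ])) fun x y => Subtype.ext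
      ((one_mul _).trans ((S.unit_herm (jP F₀ P x) (jP F₀ P y)).trans (congrArg _ (one_mul _).symm)))
  obtain ⟨l, h5, h6⟩ := exists_trace_zero σ h1 h4
  exact isMaximalIn_subfield_unit hF (by omega) (rs_of (S0 := S0) (uForm_nondeg hF n) one_ne_zero (fun _ _ => rfl)
    (fun h => Form.good_unit h4 h (by simp; omega)) (fun _ => rfl)
    (fun v => by rw [Form.unit_q_eq_zero, Form.unit_q_eq_zero, Subtype.ext_iff, ← one_mul (Form.B _ _ _)]; rfl)
    (by simp; omega)) hr hcard (.inr ⟨l, h5, (unitParam_mem _ _).2 (by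
      rw [one_mul, show frobQ hF l = -l from congrArg Subtype.val h6, add_neg_cancel])⟩)

end Cfsg.Agent.S5658
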