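import Cfsg.Statements.S5659
import Cfsg.Agent.H5.Sf3

set_option autoImplicit false
open Cfsg

namespace Cfsg.Agent.S5659

open CfsgH5

/-- Let F be the field with q² elements, q odd, n ≥ 13, and F₀ the subfield with q elements. Let P be an invertible matrix such that the standard unitary form takes values in F₀ on the F₀-span of the columns of P (so it restricts to a non-degenerate symmetric bilinear form there). Then the elements of SU_n(q) lying in the subfield group of P form a maximal subgroup of SU_n(q). -/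
theorem result {F : Type*} [Field F] [Fintype F] (n q : ℕ) (hF : Fintype.card F = q ^ 2) (hn : 13 ≤ n) (hodd : Odd q) (F₀ : Subfield F) (hcard : Fintype.card F = Nat.card F₀ ^ 2) (P : Matrix.GeneralLinearGroup (Fin n) F) (hP : Cfsg.Geo.IsFormRationalStructure (Cfsg.hermForm n F q) F₀ 1 P) : Cfsg.Geo.IsMaximalIn (Cfsg.GU n F q ⊓ Cfsg.Geo.specialLinear (Fin n) F) (Cfsg.Geo.subfieldSubgroup F₀ P ⊓ (Cfsg.GU n F q ⊓ Cfsg.Geo.specialLinear (Fin n) F)) := by
  let S := uForm hF n
  have h2 : (2 : F) ≠ 0 := two_ne_zero_of_odd (hF ▸ hodd.pow)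
  have h6 : Nat.card F₀ = q := Nat.pow_left_injective two_ne_zero (hcard.symm.trans hF)
  have h7 : ∀ x ∈ F₀, frobQ hF x = x := fun x hx => h6 ▸ (mem_subfield_iff F₀).1 hx
  have h3 : ∀ u v, S.B (jP F₀ P u) (jP F₀ P v) ∈ F₀ := fun u v =>
    one_mul (S.B _ _) ▸ hP _ _ (fun i => (u i).2) fun i => (v i).2
  let Q0 : (Fin n → F₀) → F₀ := fun v => ⟨_, h3 v v⟩
  have h1 : ∀ u v, (QuadraticMap.polar Q0 u v : F₀) = 2 * S.B (jP F₀ P u) (jP F₀ P v) := fun u v => by
    simp [QuadraticMap.polar, Q0, S.unit_herm (jP F₀ P u) (jP F₀ P v), h7 _ (h3 u v)]; ring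
  let S0 := Form.ofQuad Q0 (fun c x => Subtype.ext (by simp [Q0, map_smulₛₗ, h7 _ c.2]; ring))
    (fun x y z => Subtype.ext (by simp [h1, mul_add])) fun c x z => Subtype.ext (by simp [h1, map_smulₛₗ]; ring)
  exact isMaximalIn_subfield_unit hF (by omega) (rs_of (S0 := S0) (uForm_nondeg hF n) h2 h1
    (fun h => Form.good_orth h (by simp; omega)) (fun c => h7 _ c.2)
    (fun v => by rw [Form.unit_q_eq_zero, Form.q_eq_zero_iff, Form.ofQuad_Q, Subtype.ext_iff]; rfl)
    (by simp; omega)) Nat.prime_two hcard (.inl rfl)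

end Cfsg.Agent.S5659
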