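import Cfsg.Statements.S5660
import Cfsg.Agent.H5.Sf3

set_option autoImplicit false
open Cfsg

namespace Cfsg.Agent.S5660

open CfsgH5

/-- Let F be the field with q² elements, n ≥ 13 even, and F₀ the subfield with q elements. Let ζ be a non-zero element with ζ + ζ^q = 0 and P an invertible matrix such that ζ times the standard unitary form takes values in F₀ on the F₀-span of the columns of P and the form vanishes on every pair (u, u) of that span (so ζ times the form restricts to a non-degenerate alternating form there). Then the elements of SU_n(q) lying in the subfield group of P form a maximal subgroup of SU_n(q). -/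
theorem result {F : Type*} [Field F] [Fintype F] (n q : ℕ) (hF : Fintype.card F = q ^ 2) (hn : 13 ≤ n) (heven : Even n) (F₀ : Subfield F) (hcard : Fintype.card F = Nat.card F₀ ^ 2) (ζ : F) (hζ0 : ζ ≠ 0) (hζ : ζ + ζ ^ q = 0) (P : Matrix.GeneralLinearGroup (Fin n) F) (hP : Cfsg.Geo.IsFormRationalStructure (Cfsg.hermForm n F q) F₀ ζ P) (halt : ∀ u : Fin n → F, (∀ i, u i ∈ F₀) → Cfsg.hermForm n F q (Matrix.mulVec (P : Matrix (Fin n) (Fin n) F) u) (Matrix.mulVec (P : Matrix (Fin n) (Fin n) F) u) = 0) : Cfsg.Geo.IsMaximalIn (Cfsg.GU n F q ⊓ Cfsg.Geo.specialLinear (Fin n) F) (Cfsg.Geo.subfieldSubgroup F₀ P ⊓ (Cfsg.GU n F q ⊓ Cfsg.Geo.specialLinear (Fin n) F)) := by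
  let S := uForm hF n
  have h6 : Nat.card F₀ = q := Nat.pow_left_injective two_ne_zero (hcard.symm.trans hF)
  have h7 : ∀ x ∈ F₀, frobQ hF x = x := fun x hx => h6 ▸ (mem_subfield_iff F₀).1 hx
  have h3 : ∀ u, S.B (jP F₀ P u) (jP F₀ P u) = 0 := fun u => halt _ fun i => (u i).2
  let S0 : Form (spParam F₀) _ := Form.ofAlt (fun u v => ⟨ζ * S.B (jP F₀ P u) (jP F₀ P v),
      hP _ _ (fun i => (u i).2) fun i => (v i).2⟩) (fun x y z => Subtype.ext (by simp [mul_add]))
    (fun c x z => Subtype.ext (by simp [map_smulₛₗ]; ring)) (fun x y => Subtype.ext (by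
      have := h3 (x + y)
      simp [h3 x, h3 y] at this ⊢
      linear_combination ζ * this)) fun x => Subtype.ext (by simp [h3])
  exact isMaximalIn_subfield_unit hF (by omega) (rs_of (S0 := S0) (uForm_nondeg hF n) hζ0 (fun _ _ => rfl)
    Form.good_sp (fun c => h7 _ c.2) (fun v => by simp [Form.unit_q_eq_zero, Form.sp_q, S, h3])
    (by simp; omega)) Nat.prime_two hcard (.inl rfl)

end Cfsg.Agent.S5660
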