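import Cfsg.Statements.S5674
import Cfsg.Agent.H5.OrthMat

set_option autoImplicit false
open Cfsg

namespace Cfsg.Agent.S5674

open CfsgH5

/-- Let F be a finite field of odd order, m ≥ 6, Q the standard quadratic form x₀² + Σ x_i y_i on F^(2m+1) and Ω the commutator subgroup of its isometry group inside GL_(2m+1)(F). The elements of Ω stabilising a non-zero subspace on which Q vanishes form a maximal subgroup of Ω. -/
theorem result {F : Type*} [Field F] [Fintype F] (hodd : Odd (Fintype.card F)) (m : ℕ) (hm : 6 ≤ m) (W : Submodule F (Unit ⊕ (Fin m ⊕ Fin m) → F)) (hW0 : W ≠ ⊥) (hW : Cfsg.Geo.IsTotallySingularQuad (Cfsg.quadFormOdd m F) W) : Cfsg.Geo.IsMaximalIn (Cfsg.Geo.omegaGL (Cfsg.quadFormOdd m F)) (Cfsg.Geo.subspaceStabilizer W ⊓ Cfsg.Geo.omegaGL (Cfsg.quadFormOdd m F)) := by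
  have hS := oddForm_nondeg (F := F) m (two_ne_zero_of_odd hodd)
  have hW' := (Form.totSing_iff (oddForm_Q m)).2 hW
  rw [omegaGL_eq (oddForm_Q m), subspaceStabilizer_eq, ← Subgroup.comap_inf,
    hS.om_eq_EG_of_five (by rw [finrank_odd]; omega)]
  refine isMaximalIn_comap _ (isMaximalIn_of inf_le_right ?_ ?_)
  · intro h
    exact hS.EG_not_le_stab hW' hW0 (Or.inr (by rw [finrank_odd]; omega)) (h.trans inf_le_left)
  · intro N h1 h2 g hg hn
    exact hS.EG_le_of_parabolic hW' (Or.inr (by rw [finrank_odd]; omega)) h1 hg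
      (Form.EG_le_isom (h2 hg)) fun hh => hn ⟨hh, h2 hg⟩

end Cfsg.Agent.S5674
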