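import Cfsg.Statements.S5677
import Cfsg.Agent.H5.Mx4

set_option autoImplicit false
open Cfsg

namespace Cfsg.Agent.S5677

open CfsgH5

/-- Let F be a finite field of odd order q, m ≥ 6, Q the standard quadratic form on F^(2m+1) and Ω the commutator subgroup of its isometry group. Let D be a decomposition of F^(2m+1) into t ≥ 2 pairwise orthogonal, pairwise Q-isometric subspaces of equal dimension k > 1 on which the polar form is non-degenerate. Unless q = 3 and k = 3, the elements of Ω permuting the members of D form a maximal subgroup of Ω. -/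
theorem result {F : Type*} [Field F] [Fintype F] (hodd : Odd (Fintype.card F)) (m : ℕ) (hm : 6 ≤ m) {t : ℕ} (k : ℕ) (hk : 1 < k) (D : Fin t → Submodule F (Unit ⊕ (Fin m ⊕ Fin m) → F)) (hD : Cfsg.Geo.IsOrthogonalMDecomposition (Cfsg.quadFormOdd m F) k D) (hex : ¬ (Fintype.card F = 3 ∧ k = 3)) : Cfsg.Geo.IsMaximalIn (Cfsg.Geo.omegaGL (Cfsg.quadFormOdd m F)) (Cfsg.Geo.decompositionStabilizer D ⊓ Cfsg.Geo.omegaGL (Cfsg.quadFormOdd m F)) := by
  have h2 := two_ne_zero_of_odd hodd
  have hS := oddForm_nondeg (F := F) m h2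
  have hB := polar_eq_B (oddForm_Q (F := F) m)
  have hD' := hD.decomp
  rw [hB] at hD'
  have hnd : ∀ i, (oddForm m F).NondegOn (D i) := fun i => isNondegenerateOn_iff.1 (hD'.nondegenerate i)
  have hO : (oddForm m F).ODec k D := ⟨hnd, fun i j hij => hD'.orthogonal i j hij,
    hD'.decomp.iSup_eq_top, hD'.decomp.finrank_eq,
    fun i j => (areIsometricFor_iff (oddForm_Q m)).1 (hD.isometric i j)⟩
  have ht := hD'.decomp.two_le
  have hmul := IsMDecomposition.mul_eq hD'.decomp
  have hodd' : Odd k := by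
    have : Odd (t * k) := by
      simp at hmul
      exact ⟨m, by nlinarith⟩
    exact (Nat.odd_mul.1 this).2
  obtain ⟨r, hr⟩ := hodd'
  have hd : 5 ≤ Module.finrank F (Unit ⊕ (Fin m ⊕ Fin m) → F) := by rw [finrank_odd]; omega
  have hG := Form.good_orth hS hd
  refine isMaximalIn_dstab hG (omegaGL_eq' (oddForm_Q m) hS (by simp; omega)) hO ht (by omega)
    (fun i => hG.sing _ (by rw [hO.dim]; omega))
    fun N h1 h3 g hg hn => hO.orth_EG_le hS h2 hd (by omega) ?_ h1 h3 hg hn
  by_cases h4 : 5 ≤ k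
  · exact .inl h4
  · refine .inr ⟨by omega, exists_sq_ne_one ?_⟩
    have := Fintype.one_lt_card (α := F)
    obtain ⟨j, hj⟩ := hodd
    by_contra h5
    exact hex ⟨by omega, by omega⟩

end Cfsg.Agent.S5677
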