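import Cfsg.Statements.S5685
import Cfsg.Agent.H5.OrthMat

set_option autoImplicit false
open Cfsg

namespace Cfsg.Agent.S5685

open CfsgH5

/-- Let F be a finite field with q elements, n ≥ 13 even, Q a non-degenerate quadratic form on F^n of plus type (some subspace of dimension n/2 is totally singular), and Ω the commutator subgroup of the isometry group of Q, viewed inside GL_n(F). The elements of Ω stabilising a non-zero subspace W on which Q vanishes, with dim W ≠ n/2 − 1, form a maximal subgroup of Ω. -/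
theorem result {F : Type*} [Field F] [Fintype F] {n : ℕ} (hn : 13 ≤ n) (heven : Even n) (Q : (Fin n → F) → F) (hQ : Cfsg.Geo.IsNondegenerateQuadraticForm Q) (hplus : Cfsg.Geo.IsPlusTypeOn Q ⊤) (W : Submodule F (Fin n → F)) (hW0 : W ≠ ⊥) (hW : Cfsg.Geo.IsTotallySingularQuad Q W) (hdim : 2 * (Module.finrank F W + 1) ≠ n) : Cfsg.Geo.IsMaximalIn (Cfsg.Geo.omegaGL Q) (Cfsg.Geo.subspaceStabilizer W ⊓ Cfsg.Geo.omegaGL Q) := by
  have hS := geoForm_nondeg hQ
  have hW' := (Form.totSing_iff (geoForm_Q hQ)).2 hW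
  rw [omegaGL_eq (geoForm_Q hQ), subspaceStabilizer_eq, ← Subgroup.comap_inf,
    hS.om_eq_EG_of_five (by simp; omega)]
  refine isMaximalIn_comap _ (isMaximalIn_of inf_le_right ?_ ?_)
  · intro h
    exact hS.EG_not_le_stab hW' hW0 (Or.inr (by simp; omega)) (h.trans inf_le_left)
  · intro N h1 h2 g hg hn
    exact hS.EG_le_of_parabolic hW' (Or.inr (by simp; omega)) h1 hg
      (Form.EG_le_isom (h2 hg)) fun hh => hn ⟨hh, h2 hg⟩

end Cfsg.Agent.S5685
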