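import Cfsg.Statements.S5686
import Cfsg.Agent.H5.Orth2

set_option autoImplicit false
open Cfsg

namespace Cfsg.Agent.S5686

open CfsgH5 Matrix

/-- Let F be a finite field with q elements, n ≥ 13 even, Q a non-degenerate quadratic form on F^n of plus type (some subspace of dimension n/2 is totally singular), and Ω the commutator subgroup of the isometry group of Q, viewed inside GL_n(F). The elements of Ω stabilising a subspace of dimension n/2 − 1 on which Q vanishes form a subgroup that is not maximal: some subgroup lies strictly between it and Ω. -/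
theorem result {F : Type*} [Field F] [Fintype F] {n : ℕ} (hn : 13 ≤ n) (heven : Even n) (Q : (Fin n → F) → F) (hQ : Cfsg.Geo.IsNondegenerateQuadraticForm Q) (hplus : Cfsg.Geo.IsPlusTypeOn Q ⊤) (W : Submodule F (Fin n → F)) (hW : Cfsg.Geo.IsTotallySingularQuad Q W) (hdim : 2 * (Module.finrank F W + 1) = n) : ∃ K : Subgroup (Matrix.GeneralLinearGroup (Fin n) F), Cfsg.Geo.subspaceStabilizer W ⊓ Cfsg.Geo.omegaGL Q < K ∧ K < Cfsg.Geo.omegaGL Q := by
  have hS := geoForm_nondeg hQ
  have hG : (∃ a : F, a ≠ 0 ∧ a ≠ 1) ∨ Module.finrank F (Fin n → F) ≠ 4 := Or.inr (by simp; omega)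
  have hW' := (Form.totSing_iff (geoForm_Q hQ)).2 hW
  obtain ⟨L, hL⟩ := (isPlusTypeOn_top_iff (geoForm_Q hQ)).1 hplus
  have h1 := hL.dim
  rw [Module.finrank_fin_fun] at h1
  obtain ⟨X, h2, h3, h4⟩ := hS.exists_totSing_ge hW' hL.ts (by omega)
  have hX : (geoForm hQ).IsLag X := ⟨h2, by rw [h4, hL.dim]⟩
  obtain ⟨X', h5, h6, h7, h8⟩ := hS.two_lag hX h3 (by omega)
  rw [omegaGL_eq (geoForm_Q hQ), subspaceStabilizer_eq, ← Subgroup.comap_inf]
  refine not_maximal_comap _ ⟨stab F (X : Set (Fin n → F)) ⊓ (geoForm hQ).om,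
    lt_of_le_of_ne (fun g hg => ⟨?_, hg.2⟩) fun h => ?_, lt_of_le_of_ne inf_le_right fun h => ?_⟩
  · have h9 := Form.om_le_isom hg.2
    rcases h8 _ (hX.map h9) (by rw [← mem_stab_iff_map.1 hg.1]; exact Submodule.map_mono h3)
      with h | h
    · exact mem_stab_iff_map.2 h
    · rw [← h, Form.lagSign_map_eq_dk hS hG hX h9, hS.dk_om hG hg.2] at h7
      exact absurd h7 (by decide)
  · obtain ⟨v, hv, hvW⟩ := SetLike.exists_of_lt (lt_of_le_of_ne h3 fun h => by rw [h] at hdim; omega)
    obtain ⟨u, hu, hu0⟩ := Submodule.exists_mem_ne_zero_of_ne_bot (p := W)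
      (fun h => by rw [h] at hdim; simp at hdim; omega)
    obtain ⟨w, h9, h10⟩ := hS.exists_sep (Submodule.span F {v}) (x := u) fun h => by
      obtain ⟨c, rfl⟩ := Submodule.mem_span_singleton.1 h
      exact hvW ((W.smul_mem_iff (by rintro rfl; simp at hu0)).1 hu)
    have hE := Form.orth_isEich (h2.Q hv)
      (Form.perp_symm (h9 v (Submodule.mem_span_singleton_self v)))
    have h11 : Form.eich hE ∈ stab F (W : Set (Fin n → F)) ⊓ (geoForm hQ).om :=
      h ▸ ⟨h2.Qu_le_stab hv (Form.eich_mem_Qu hE), hS.EG_le_om hG (Form.eich_mem_EG hE)⟩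
    have h12 : Form.eich hE u ∈ W := stab_apply h11.1 hu
    rw [Form.orth_eich_of_perp hE (h2.B _ (h3 hu) _ hv), h10, one_smul] at h12
    exact hvW (by simpa using W.sub_mem hu h12)
  · exact hS.EG_not_le_stab h2 (fun h => by rw [h] at h4; simp at h4; omega)
      (Or.inr (by simp; omega)) ((hS.EG_le_om hG).trans (h ▸ inf_le_left))

end Cfsg.Agent.S5686
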