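import Cfsg.Statements.S5687
import Cfsg.Agent.H5.OrthMat

set_option autoImplicit false
open Cfsg

namespace Cfsg.Agent.S5687

open CfsgH5

/-- Let F be a finite field with q elements, n ≥ 13 even, Q a non-degenerate quadratic form on F^n of minus type (no subspace of dimension n/2 is totally singular), and Ω the commutator subgroup of the isometry group of Q, viewed inside GL_n(F). The elements of Ω stabilising a non-zero subspace on which Q vanishes form a maximal subgroup of Ω. -/
theorem result {F : Type*} [Field F] [Fintype F] {n : ℕ} (hn : 13 ≤ n) (heven : Even n) (Q : (Fin n → F) → F) (hQ : Cfsg.Geo.IsNondegenerateQuadraticForm Q) (hminus : ¬ Cfsg.Geo.IsPlusTypeOn Q ⊤) (W : Submodule F (Fin n → F)) (hW0 : W ≠ ⊥) (hW : Cfsg.Geo.IsTotallySingularQuad Q W) : Cfsg.Geo.IsMaximalIn (Cfsg.Geo.omegaGL Q) (Cfsg.Geo.subspaceStabilizer W ⊓ Cfsg.Geo.omegaGL Q) := by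
  have hS := geoForm_nondeg hQ
  have hW' := (Form.totSing_iff (geoForm_Q hQ)).2 hW
  rw [isPlusTypeOn_top_iff (geoForm_Q hQ)] at hminus
  rw [omegaGL_eq (geoForm_Q hQ), subspaceStabilizer_eq, ← Subgroup.comap_inf,
    hS.om_eq_EG_of_five (by simp; omega)]
  refine isMaximalIn_comap _ (isMaximalIn_of inf_le_right ?_ ?_)
  · intro h
    exact hS.EG_not_le_stab hW' hW0 (Or.inr (by simp; omega)) (h.trans inf_le_left)
  · intro N hK h2 g hg hn
    have hi := Form.EG_le_isom (h2 hg)
    by_cases hd : Module.finrank F (Fin n → F) = 2 * Module.finrank F W + 2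
    swap
    · exact hS.EG_le_of_parabolic hW' (Or.inr hd) hK hg hi fun hh => hn ⟨hh, h2 hg⟩
    have h1 : ∀ u ∈ W, (geoForm hQ).Qu u ≤ N := fun u hu =>
      (le_inf (hW'.Qu_le_stab hu) (Form.Qu_le_EG u)).trans hK
    obtain ⟨u, hu, hu'⟩ : ∃ u ∈ W, g u ∉ W := by
      by_contra hc
      push Not at hc
      exact hn ⟨mem_stab_of_le hc, h2 hg⟩
    have hq : (geoForm hQ).q (g u) = 0 := by rw [Form.isom_q hi, hW'.q u hu]
    have hp : g u ∉ (geoForm hQ).perp W := fun hp =>
      hminus ⟨_, hW'.sup_span hq hp, by rw [finrank_sup_span_eq hu', hd]; ring⟩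
    rw [Form.mem_perp] at hp
    push Not at hp
    obtain ⟨e, he, hne⟩ := hp
    exact hS.EG_le_of_opp (hW'.q e he) hq hne (h1 e he) (Form.Qu_map_le' hi hg (h1 u hu))

end Cfsg.Agent.S5687
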