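import Cfsg.Statements.S5689
import Cfsg.Agent.H5.Mx3

set_option autoImplicit false
open Cfsg

namespace Cfsg.Agent.S5689

open CfsgH5

/-- Let F be a finite field with q elements, n ≥ 13 even, Q a non-degenerate quadratic form on F^n of minus type (no subspace of dimension n/2 is totally singular), and Ω the commutator subgroup of the isometry group of Q, viewed inside GL_n(F). Let W be a non-zero proper subspace on which the polar form of Q is non-degenerate, not of odd dimension n/2. Exclude the case q ≤ 3 in which W, or its orthogonal complement, is a plane containing a line on which Q vanishes. Then the elements of Ω stabilising W form a maximal subgroup of Ω. -/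
theorem result {F : Type*} [Field F] [Fintype F] {n : ℕ} (hn : 13 ≤ n) (heven : Even n) (Q : (Fin n → F) → F) (hQ : Cfsg.Geo.IsNondegenerateQuadraticForm Q) (hminus : ¬ Cfsg.Geo.IsPlusTypeOn Q ⊤) (W : Submodule F (Fin n → F)) (hW0 : W ≠ ⊥) (hW1 : W ≠ ⊤) (hdim : ¬ (2 * Module.finrank F W = n ∧ Odd (Module.finrank F W))) (hW : Cfsg.Geo.IsNondegenerateOn (QuadraticMap.polar Q) W) (hex : ¬ (Fintype.card F ≤ 3 ∧ (∃ U : Submodule F (Fin n → F), Module.finrank F U = 2 ∧ Cfsg.Geo.IsNondegenerateOn (QuadraticMap.polar Q) U ∧ Cfsg.Geo.IsPlusTypeOn Q U ∧ (U = W ∨ (Cfsg.Geo.AreOrthogonalFor (QuadraticMap.polar Q) U W ∧ Module.finrank F U + Module.finrank F W = n))))) : Cfsg.Geo.IsMaximalIn (Cfsg.Geo.omegaGL Q) (Cfsg.Geo.subspaceStabilizer W ⊓ Cfsg.Geo.omegaGL Q) := by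
  have hS := geoForm_nondeg hQ
  have hW' : (geoForm hQ).NondegOn W :=
    isNondegenerateOn_iff.1 (polar_eq_B (geoForm_Q hQ) ▸ hW)
  have h1 := hW'.finrank_add
  rw [Module.finrank_fin_fun] at h1
  refine isMaximalIn_orth_nondeg (geoForm_Q hQ) hS (by simp; omega) hW0 hW1 hW ?_
    (by simpa using hex) fun g _ => mem_subspaceStabilizer_iff g
  rintro h2 ⟨e, he⟩
  have h3 : Even (Module.finrank F W) := by
    by_contra h
    exact hdim ⟨by omega, Nat.not_even_iff_odd.1 h⟩
  apply hminus
  rw [isPlusTypeOn_top_iff (geoForm_Q hQ), ← Form.tp_eq_one_iff, hW'.tp_mul hS h3 (h2 ▸ h3),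
    he.tp_eq, Int.units_mul_self]

end Cfsg.Agent.S5689
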