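import Cfsg.Statements.S5691
import Cfsg.Agent.H5.Mx3

set_option autoImplicit false
open Cfsg

namespace Cfsg.Agent.S5691

open CfsgH5

/-- Let F be a finite field with q elements, n ≥ 13 even, Q a non-degenerate quadratic form on F^n (of either type), and Ω the commutator subgroup of the isometry group of Q, viewed inside GL_n(F). Suppose q is even and v is a vector with Q(v) ≠ 0. Then the elements of Ω stabilising the line spanned by v form a maximal subgroup of Ω. -/
theorem result {F : Type*} [Field F] [Fintype F] {n : ℕ} (hn : 13 ≤ n) (heven : Even n) (Q : (Fin n → F) → F) (hQ : Cfsg.Geo.IsNondegenerateQuadraticForm Q) (hchar : ¬ Odd (Fintype.card F)) (v : (Fin n → F)) (hv : Q v ≠ 0) : Cfsg.Geo.IsMaximalIn (Cfsg.Geo.omegaGL Q) (Cfsg.Geo.subspaceStabilizer (Submodule.span F {v}) ⊓ Cfsg.Geo.omegaGL Q) := by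
  have hS := geoForm_nondeg hQ
  have hv' : (geoForm hQ).Q v ≠ 0 := by rwa [geoForm_Q]
  refine isMaximalIn_gl (omegaGL_eq' (geoForm_Q hQ) hS (by simp; omega)) _
    mem_subspaceStabilizer_iff ?_ fun N h2 h3 g hg hn => ?_
  · refine SetLike.not_le_iff_exists.1 ((Form.good_orth hS (by simp; omega)).EG_not_le_stab
      (by simp; omega) (by simpa using Form.ne_zero_of_Q hv') fun h => ?_)
    have := finrank_span_single_le (F := F) v
    rw [h, finrank_top, Module.finrank_fin_fun] at this
    omega
  · exact Form.orth_EG_le_of_point hS (two_eq_zero_of_not_odd hchar) (by simp; omega) hv'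
      (fun k hk => h2 k hk.2 hk.1) h3 hg hn

end Cfsg.Agent.S5691
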