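import Cfsg.Statements.S5697
import Cfsg.Agent.H5.Mx3

set_option autoImplicit false
open Cfsg

namespace Cfsg.Agent.S5697

open CfsgH5

/-- Let F be a finite field with q elements, n ≥ 13 even, Q a non-degenerate quadratic form on F^n of plus type (some subspace of dimension n/2 is totally singular), and Ω the commutator subgroup of the isometry group of Q, viewed inside GL_n(F). Suppose n/2 is even and let D be a decomposition of F^n into two complementary subspaces of dimension n/2 on each of which Q vanishes. Then the elements of Ω preserving or interchanging the two subspaces form a maximal subgroup of Ω. -/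
theorem result {F : Type*} [Field F] [Fintype F] {n : ℕ} (hn : 13 ≤ n) (heven : Even n) (Q : (Fin n → F) → F) (hQ : Cfsg.Geo.IsNondegenerateQuadraticForm Q) (hplus : Cfsg.Geo.IsPlusTypeOn Q ⊤) (k : ℕ) (hk : 2 * k = n) (hke : Even k) (D : Fin 2 → Submodule F (Fin n → F)) (hD : Cfsg.Geo.IsMDecomposition k D) (hts : ∀ i, Cfsg.Geo.IsTotallySingularQuad Q (D i)) : Cfsg.Geo.IsMaximalIn (Cfsg.Geo.omegaGL Q) (Cfsg.Geo.decompositionStabilizer D ⊓ Cfsg.Geo.omegaGL Q) := by
  have hS := geoForm_nondeg hQ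
  have hT : ∀ i, (geoForm hQ).TotSing (D i) := fun i => (Form.totSing_iff (geoForm_Q hQ)).2 (hts i)
  have hG : (∃ a : F, a ≠ 0 ∧ a ≠ 1) ∨ Module.finrank F (Fin n → F) ≠ 4 := Or.inr (by simp; omega)
  refine isMaximalIn_tsp (Form.good_orth hS (by simp; omega))
    (omegaGL_eq' (geoForm_Q hQ) hS (by simp; omega)) hD (by omega) hT
    (fun l hl => ⟨0, by simpa [Form.orth_Λ] using hl⟩) fun s hs h1 e f h => ?_
  have h2 : dk s = 1 := by
    rw [← Form.lagSign_map_eq_dk hS hG (U := D 0) ⟨hT 0, by simp [hD.finrank_eq, hk]⟩ hs, h1,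
      lagSign_eq_one_iff, (isCompl_of_decomp hD).inf_eq_bot, finrank_bot, hD.finrank_eq]
    simpa using hke
  obtain ⟨μ, hμ, h3⟩ : ∃ μ : F, μ ≠ 0 ∧ chi μ = (geoForm hQ).spin s := by
    by_cases h2 : (2 : F) = 0
    · exact ⟨1, one_ne_zero, by rw [hS.spin_of_two h2 hG hs, chi_one]⟩
    · exact exists_chi_eq h2 _
  refine ⟨μ, hμ, ?_⟩
  rw [← hS.om_eq_EG_of_five (by simp; omega)]
  exact hS.mul_mem_om hG hs (Form.dil_mem _ _) (by rw [h2, hS.dk_dil]) (by rw [hS.spin_dil, h3])

end Cfsg.Agent.S5697
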