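import Cfsg.Statements.S5699
import Cfsg.Agent.H5.Mx3

set_option autoImplicit false
open Cfsg

namespace Cfsg.Agent.S5699

open CfsgH5

/-- Let F be a finite field with q elements, n ≥ 13 even, Q a non-degenerate quadratic form on F^n (of either type), and Ω the commutator subgroup of the isometry group of Q, viewed inside GL_n(F). Let D be a decomposition of F^n into two orthogonal subspaces of odd dimension n/2 on which the polar form is non-degenerate and which are not Q-isometric to each other. Then the elements of Ω permuting (necessarily fixing) the two subspaces form a maximal subgroup of Ω. -/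
theorem result {F : Type*} [Field F] [Fintype F] {n : ℕ} (hn : 13 ≤ n) (heven : Even n) (Q : (Fin n → F) → F) (hQ : Cfsg.Geo.IsNondegenerateQuadraticForm Q) (k : ℕ) (hk : 2 * k = n) (hko : Odd k) (D : Fin 2 → Submodule F (Fin n → F)) (hD : Cfsg.Geo.IsNondegenerateMDecomposition (QuadraticMap.polar Q) k D) (hni : ¬ Cfsg.Geo.AreIsometricFor Q (D 0) (D 1)) : Cfsg.Geo.IsMaximalIn (Cfsg.Geo.omegaGL Q) (Cfsg.Geo.decompositionStabilizer D ⊓ Cfsg.Geo.omegaGL Q) := by
  have hS := geoForm_nondeg hQ
  have hB := polar_eq_B (geoForm_Q hQ)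
  have hW' : (geoForm hQ).NondegOn (D 0) := isNondegenerateOn_iff.1 (hB ▸ hD.nondegenerate 0)
  have h1 := hW'.finrank_add
  have h2 := hD.decomp.finrank_eq 0
  have h3 := hD.decomp.finrank_eq 1
  rw [Module.finrank_fin_fun] at h1
  have h4 : D 1 = (geoForm hQ).perp (D 0) := by
    refine Submodule.eq_of_le_of_finrank_le (fun u hu v hv => ?_) (by omega)
    rw [← hB]; exact hD.orthogonal 1 0 (by decide) u hu v hv
  rw [areIsometricFor_iff (geoForm_Q hQ)] at hni
  obtain ⟨j, hj⟩ := hko
  refine isMaximalIn_orth_nondeg (geoForm_Q hQ) hS (by simp; omega) (W := D 0) ?_ ?_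
    (hD.nondegenerate 0) (fun _ => h4 ▸ hni) ?_ fun g hg => ?_
  · intro h; rw [h, finrank_bot] at h2; omega
  · intro h; rw [h, finrank_top, Module.finrank_fin_fun] at h2; omega
  · rintro ⟨-, U, h5, -, -, rfl | ⟨-, h6⟩⟩
    · omega
    · simp at h6; omega
  · rw [mem_decompositionStabilizer_two]
    constructor
    · rintro (⟨h, -⟩ | ⟨h, -⟩)
      · exact mem_stab_iff_map.2 h
      · exact absurd (Form.isIsom_of_map hg h) hni
    · refine fun h => Or.inl ⟨mem_stab_iff_map.1 h, mem_stab_iff_map.1 ?_⟩
      rw [h4]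
      exact Form.isom_stab_perp hg h

end Cfsg.Agent.S5699
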