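import Cfsg.Statements.S5700
import Cfsg.Agent.H5.Xf1

set_option autoImplicit false
open Cfsg

namespace Cfsg.Agent.S5700

open CfsgH5 Matrix

/-- Let F be a finite field with q elements, n ≥ 13 even, Q a non-degenerate quadratic form on F^n (of either type), and Ω the commutator subgroup of the isometry group of Q, viewed inside GL_n(F). Let K be a subfield of the algebra of n × n matrices over F containing the scalars, of degree 2 over F, closed under adjoints for the polar form of Q but not consisting of self-adjoint elements, and such that every k in K rescales Q (Q(k v) = c Q(v) for a constant c depending on k). Then the elements of Ω normalising K form a maximal subgroup of Ω. -/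
theorem result {F : Type*} [Field F] [Fintype F] {n : ℕ} (hn : 13 ≤ n) (heven : Even n) (Q : (Fin n → F) → F) (hQ : Cfsg.Geo.IsNondegenerateQuadraticForm Q) (K : Subalgebra F (Matrix (Fin n) (Fin n) F)) (hK : Cfsg.Geo.IsFieldSubalgebra 2 K) (hac : Cfsg.Geo.IsAdjointClosedFor (QuadraticMap.polar Q) K) (hnsa : ¬ Cfsg.Geo.IsSelfAdjointFor (QuadraticMap.polar Q) K) (hsc : ∀ k ∈ K, ∃ c : F, ∀ v : (Fin n → F), Q (Matrix.mulVec k v) = c * Q v) : Cfsg.Geo.IsMaximalIn (Cfsg.Geo.omegaGL Q) (Cfsg.Geo.subalgebraNormalizer K ⊓ Cfsg.Geo.omegaGL Q) := by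
  have hS := geoForm_nondeg hQ
  have hB := polar_eq_B (geoForm_Q hQ)
  rw [hB] at hac hnsa
  simp only [← geoForm_Q hQ] at hsc
  obtain ⟨m, rfl⟩ := heven
  refine isMaximalIn_unitary_ext hS (fun _ => rfl) (by simp; omega) (omegaGL_eq' (geoForm_Q hQ) hS (by simp; omega))
    (fun l hl => ⟨0, by simpa using orthParam_π_zero.1 (FParam.π_eq_zero_iff _ |>.2 hl)⟩) hK hac hnsa
    (fun x y h => (Form.q_eq_iff _ _).2 ?_) (hS.om_eq_EG_of_five (by simp; omega)).le
  generalize geoForm hQ = S at *
  simp only [Geo.IsSelfAdjointFor, not_forall] at hnsa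
  obtain ⟨k, hk, u, v, h1⟩ := hnsa
  obtain ⟨c, h2⟩ := hsc k hk
  obtain ⟨d, h3⟩ := hsc (k + 1) (add_mem hk (one_mem _))
  simp only [add_mulVec, one_mulVec, Form.Q_add, h2] at h3
  by_cases h4 : (2 : F) = 0
  · refine mul_left_cancel₀ (a := d - c - 1) (fun e => h1 ?_) (by linear_combination h3 y - h3 x + h k hk)
    have := h3 (u + v)
    simp only [mulVec_add, Form.add_left, Form.add_right] at this
    rw [S.orth_symm (k *ᵥ v)]
    linear_combination this - h3 u - h3 v + (S.Q (u + v) - S.Q u - S.Q v) * e - S.B (k *ᵥ v) u * h4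
  · exact mul_left_cancel₀ h4 (by simpa [S.orth_self] using h 1 (one_mem _))

end Cfsg.Agent.S5700
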