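import Cfsg.Statements.S5726
import Cfsg.Agent.H3.Pm1
import Cfsg.Agent.H2.PGroup

set_option autoImplicit false
open Cfsg

namespace Cfsg.Agent.S5726

open CfsgPm MulAction CfsgH8 Subgroup

/-- If a finite group acts faithfully and transitively on a set with p^k elements, p a prime and k ≥ 1, then some element of order p fixes no point. -/
theorem result {G Ω : Type*} [Group G] [Finite G] [MulAction G Ω] [FaithfulSMul G Ω] [Fintype Ω] (htr : MulAction.IsPretransitive G Ω)
    (p k : ℕ) (hp : p.Prime) (hk : 1 ≤ k) (hΩ : Fintype.card Ω = p ^ k) :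
    ∃ g : G, orderOf g = p ∧ ∀ ω : Ω, g • ω ≠ ω := by
  have := Fact.mk hp
  obtain ⟨P⟩ : Nonempty (Sylow p G) := inferInstance
  rw [← Nat.card_eq_fintype_card] at hΩ
  have tr := sylow_trans hΩ P
  have : Nontrivial Ω := Finite.one_lt_card_iff_nontrivial.1 (hΩ ▸ Nat.one_lt_pow (by omega) hp.one_lt)
  have : Nontrivial P.1 := by
    obtain ⟨a, b, h⟩ := exists_pair_ne Ω
    obtain ⟨g, rfl⟩ := exists_smul_eq P.1 a b
    exact ⟨g, 1, fun e => h (by simp [e])⟩
  have := P.2.center_nontrivial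
  obtain ⟨n, hn, e⟩ := (P.2.to_subgroup (center P.1)).nontrivial_iff_card.1 this
  obtain ⟨z, hz⟩ := exists_prime_orderOf_dvd_card' (G := center P.1) p (e ▸ dvd_pow_self p hn.ne')
  rw [← Subgroup.orderOf_coe, ← Subgroup.orderOf_coe] at hz
  refine ⟨z, hz, fun a e => ?_⟩
  rw [centralizer_semiregular P.1 (fun m hm => congrArg Subtype.val (mem_center_iff.1 z.2 ⟨m, hm⟩)) e, orderOf_one] at hz
  exact hp.one_lt.ne hz

end Cfsg.Agent.S5726
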