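import Cfsg.Statements.S5727
import Cfsg.Agent.H3.Pm1
import Cfsg.Agent.S5726

set_option autoImplicit false
open Cfsg

namespace Cfsg.Agent.S5727

open CfsgPm MulAction CfsgH8 Subgroup Finset

/-- If a finite group acts faithfully and transitively on a set with m·p elements, where p is a prime and 1 ≤ m ≤ p, then some element of order p fixes no point. -/
theorem result {G Ω : Type*} [Group G] [Finite G] [MulAction G Ω] [FaithfulSMul G Ω] [Fintype Ω] (htr : MulAction.IsPretransitive G Ω)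
    (p m : ℕ) (hp : p.Prime) (hm : 1 ≤ m) (hmp : m ≤ p) (hΩ : Fintype.card Ω = m * p) :
    ∃ g : G, orderOf g = p ∧ ∀ ω : Ω, g • ω ≠ ω := by
  classical
  rcases hmp.eq_or_lt with rfl | hlt
  · exact S5726.result htr m 2 hp one_le_two (by rw [hΩ, sq])
  have := Fact.mk hp
  obtain ⟨P⟩ : Nonempty (Sylow p G) := inferInstance
  have := Fintype.ofFinite P.1
  have h1 : ∀ a : Ω, (stabilizer P.1 a).index = p := fun a => by
    obtain ⟨k, hk⟩ := P.2.index (stabilizer P.1 a)
    have h2 : p ^ k ≤ m * p := by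
      rw [← hk, ← hΩ, index_stabilizer, ← Nat.card_eq_fintype_card]; exact Finite.card_subtype_le _
    have h3 : k ≠ 0 := by
      rintro rfl
      exact P.not_dvd_index ((show p ∣ (stabilizer G a).index by
        rw [← card_eq_index, Nat.card_eq_fintype_card, hΩ]; exact dvd_mul_left _ _).trans
          (index_dvd_of_le fun g hg => (index_eq_one.1 hk ▸ mem_top _ : (⟨g, hg⟩ : P.1) ∈ stabilizer P.1 a)))
    have h4 : k < 2 := (Nat.pow_lt_pow_iff_right hp.one_lt).1 (h2.trans_lt (by rw [sq]; exact Nat.mul_lt_mul_of_pos_right hlt hp.pos))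
    rw [hk, show k = 1 by omega, pow_one]
  obtain ⟨g, hg⟩ : ∃ g : P.1, ∀ a : Ω, g • a ≠ a := by
    by_contra hc
    have h2 : ∀ g ∈ (univ : Finset P.1), p ≤ fx Ω g := fun g _ => by
      have h3 := card_modEq_fixed hp (P := zpowers (g : G)) (P.2.to_le (zpowers_le.2 g.2)) (Set.univ : Set Ω) fun _ _ _ _ => trivial
      rw [show {y | y ∈ Set.univ ∧ ∀ x ∈ zpowers (g : G), x • y = y} = fixedBy Ω (g : G) from Set.ext fun y =>
        ⟨fun h => h.2 _ (mem_zpowers _), fun h => ⟨trivial, fun g hg => (zpowers_le (H := stabilizer G y)).2 h hg⟩⟩,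
        Nat.card_univ, Nat.card_eq_fintype_card, hΩ] at h3
      exact Nat.le_of_dvd (Nat.pos_of_ne_zero fun e => hc ⟨g, fx_eq_zero.1 e⟩) ((h3.dvd_iff dvd_rfl).1 (dvd_mul_left _ _))
    have h3 := card_nsmul_le_sum _ _ _ h2
    have h4 : (∑ a : Ω, Nat.card (stabilizer P.1 a)) * p = m * p * Nat.card P.1 := by
      rw [sum_mul, sum_congr rfl (g := fun _ => Nat.card P.1) fun a _ => by rw [← (stabilizer P.1 a).card_mul_index, h1], sum_const, card_univ, hΩ]; rfl
    rw [sum_fx_stab, card_univ, ← Nat.card_eq_fintype_card, smul_eq_mul] at h3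
    have h5 := Nat.mul_le_mul_right p h3
    rw [h4, mul_comm _ (Nat.card _), mul_assoc] at h5
    exact (Nat.mul_lt_mul_of_pos_right hlt hp.pos).not_ge (Nat.le_of_mul_le_mul_left h5 Nat.card_pos)
  have : Nonempty Ω := Fintype.card_pos_iff.1 (hΩ ▸ Nat.mul_pos hm hp.pos)
  refine ⟨g, orderOf_eq_prime (eq_of_smul_eq_smul fun a : Ω => ?_) (fun e => hg (Classical.arbitrary Ω) (by
    rw [show g = 1 from Subtype.ext e, one_smul])), hg⟩
  obtain ⟨n, hn⟩ := IsPGroup.iff_card.1 P.2
  have : (stabilizer P.1 a).Normal := normal_of_index_eq_minFac_card (by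
    rw [h1, hn, hp.pow_minFac]; rintro rfl
    have := (stabilizer P.1 a).index_dvd_card
    rw [h1, hn] at this; exact hp.one_lt.not_ge (Nat.le_of_dvd one_pos this))
  have := (stabilizer P.1 a).pow_index_mem g
  rw [h1] at this; rw [one_smul]; exact this

end Cfsg.Agent.S5727
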