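import Cfsg.Statements.S5728

set_option autoImplicit false
open Cfsg

namespace Cfsg.Agent.S5728

/-- An elusive transitive action. Let p = 2^s − 1 be a prime and let F be the field with p² elements. Inside the group of affine maps x ↦ a·x + b of F (a ≠ 0), consider the subgroup of maps with both coefficients in the prime field. Then every element of prime order of the affine group is conjugate, within the affine group, to an element of that subgroup; equivalently, in the transitive action of the affine group on the cosets of that subgroup (of degree p(p + 1)) every element of prime order fixes a point. -/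
theorem result (p s : ℕ) [Fact p.Prime] (hs : p = 2 ^ s - 1)
    (g : Equiv.Perm (GaloisField p 2)) (hg : g ∈ Cfsg.affineGroup (GaloisField p 2)) (hord : (orderOf g).Prime) :
    ∃ x ∈ Cfsg.affineGroup (GaloisField p 2), ∃ a b : ZMod p, a ≠ 0 ∧
      ∀ y : GaloisField p 2, (x * g * x⁻¹) y = algebraMap (ZMod p) (GaloisField p 2) a * y + algebraMap (ZMod p) (GaloisField p 2) b := by
  obtain ⟨a, b, hg⟩ := hg
  rcases eq_or_ne a 1 with rfl | ha
  · have hb : b ≠ 0 := by
      rintro rfl
      rw [show g = 1 from Equiv.ext (by simpa using hg), orderOf_one] at hord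
      exact Nat.not_prime_one hord
    exact ⟨Equiv.mulLeft₀ b⁻¹ (inv_ne_zero hb), ⟨Units.mk0 _ (inv_ne_zero hb), 0, by simp⟩, 1, 1, one_ne_zero, fun y => by
      simp [hg, Equiv.Perm.inv_def, mul_add, hb]⟩
  have h1 : (a : GaloisField p 2) - 1 ≠ 0 := sub_ne_zero.2 (by simpa using ha)
  have h2 : ∀ y, (Equiv.addRight (b / (a - 1)) * g * (Equiv.addRight (b / (a - 1)))⁻¹ : Equiv.Perm _) y = a * y := fun y => by
    simp [hg, Equiv.Perm.inv_def]; field_simp; ring
  have h3 : ∀ k : ℕ, ((Equiv.addRight (b / (a - 1)) * g * (Equiv.addRight (b / (a - 1)))⁻¹ : Equiv.Perm _) ^ k) 1 = a ^ k := fun k => by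
    induction k with
    | zero => simp
    | succ k ih => rw [pow_succ', Equiv.Perm.mul_apply, ih, h2, pow_succ']
  have h4 := h3 (orderOf g)
  rw [conj_pow, pow_orderOf_eq_one] at h4
  have hp := Fact.out (p := p.Prime)
  have h5 : orderOf a = orderOf g := have := Fact.mk hord; orderOf_eq_prime (Units.ext (by simpa using h4.symm)) ha
  have h6 := orderOf_dvd_natCard a
  have h7 : 2 ^ s = p + 1 := by have := Nat.one_le_two_pow (n := s); omega
  rw [Nat.card_units, GaloisField.card p 2 two_ne_zero, h5, show p ^ 2 - 1 = 2 ^ s * (p - 1) by rw [h7, ← Nat.sq_sub_sq]] at h6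
  have h8 : orderOf g ∣ p - 1 := (hord.dvd_mul.1 h6).elim (fun h => by
    rw [(Nat.prime_dvd_prime_iff_eq hord Nat.prime_two).1 (hord.dvd_of_dvd_pow h)]
    rcases s with _ | s
    · have := hp.two_le; omega
    · rw [pow_succ] at h7; omega) id
  have h9 : (a : GaloisField p 2) ^ p = a := by
    rw [← pow_sub_one_mul hp.ne_zero, ← Units.val_pow_eq_pow_val, orderOf_dvd_iff_pow_eq_one.1 (h5 ▸ h8)]
    simp
  obtain ⟨c, hc⟩ : ∃ c : ZMod p, algebraMap _ (GaloisField p 2) c = a := by
    have := (Subfield.mem_bot_iff_pow_eq_self (GaloisField p 2) p).2 h9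
    rwa [← ZMod.fieldRange_castHom_eq_bot p, show ZMod.castHom _ _ = algebraMap (ZMod p) (GaloisField p 2) from Subsingleton.elim _ _] at this
  exact ⟨Equiv.addRight (b / (a - 1)), ⟨1, b / (a - 1), by simp⟩, c, 0, fun e => a.ne_zero (by rw [← hc, e, map_zero]), fun y => by rw [h2, hc, map_zero, add_zero]⟩

end Cfsg.Agent.S5728
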