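import Cfsg.Statements.S5729
import Cfsg.Agent.H3.Pm1

set_option autoImplicit false
open Cfsg

namespace Cfsg.Agent.S5729

open CfsgPm MulAction CfsgH8 Subgroup Finset

/-- Let a finite group G act faithfully and transitively on a set with n ≥ 3 points. Then either G is a Frobenius permutation group (Frobenius as a permutation group: transitive, some non-identity element fixes a point, and no non-identity element fixes two points) of order n(n − 1) and exactly |G|/n of its elements are derangements (fix no point), or the number of derangements is greater than |G|/n. -/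
theorem result {G Ω : Type*} [Group G] [Finite G] [MulAction G Ω] [FaithfulSMul G Ω] [Fintype Ω] (htr : MulAction.IsPretransitive G Ω) (hn : 3 ≤ Fintype.card Ω) :
    ((MulAction.IsPretransitive G Ω ∧ (∃ g : G, g ≠ 1 ∧ ∃ ω : Ω, g • ω = ω) ∧ ∀ g : G, g ≠ 1 → Nat.card (MulAction.fixedBy Ω g) ≤ 1) ∧ Nat.card G = Fintype.card Ω * (Fintype.card Ω - 1) ∧ Fintype.card Ω * Nat.card {g : G // ∀ ω : Ω, g • ω ≠ ω} = Nat.card G) ∨
    Nat.card G < Fintype.card Ω * Nat.card {g : G // ∀ ω : Ω, g • ω ≠ ω} := by
  classical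
  have : Nontrivial Ω := Fintype.one_lt_card_iff_nontrivial.1 (by omega)
  rw [← Nat.card_eq_fintype_card] at hn ⊢
  refine or_iff_not_imp_right.2 fun h => ?_
  obtain ⟨h1, h2⟩ := cam_coh (G := G) (Ω := Ω)
  have h3 := two_le_rank (G := G) (Ω := Ω)
  have h4 : 0 < Nat.card G := Nat.card_pos
  have := Fintype.ofFinite G
  push Not at h
  have h5 : Nat.card (orbitRel.Quotient G (Ω × Ω)) = 2 := by zify at *; nlinarith
  rw [h5] at h1 h2
  have h6 : ∀ g : G, g ≠ 1 → fx Ω g ≤ 1 := fun g hg => (h2 (by zify at *; linarith) g).resolve_right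
    fun h => hg (eq_of_smul_eq_smul (α := Ω) (by simpa using h))
  have h7 := sum_fx_trans (G := G) (Ω := Ω)
  have h8 := sum_fx_sq (G := G) (Ω := Ω)
  rw [← add_sum_erase _ _ (mem_univ 1), fx_one] at h7 h8
  rw [h5, sum_congr rfl (g := fun g => fx Ω g) fun g hg => by
    have := h6 g (mem_erase.1 hg).1
    interval_cases fx Ω g <;> rfl] at h8
  have h9 : Nat.card G = Nat.card Ω * (Nat.card Ω - 1) := by zify [show 1 ≤ Nat.card Ω by omega] at *; linarith
  refine ⟨⟨htr, by_contra fun hc => ?_, h6⟩, h9, by zify at *; linarith⟩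
  rw [sum_eq_zero fun g hg => fx_eq_zero.2 fun a e => hc ⟨g, (mem_erase.1 hg).1, a, e⟩, h9] at h7
  have : Nat.card Ω * 2 ≤ Nat.card Ω * (Nat.card Ω - 1) := Nat.mul_le_mul_left _ (by omega)
  omega

end Cfsg.Agent.S5729
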