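import Cfsg.Statements.S5738

set_option autoImplicit false
open Cfsg

namespace Cfsg.Agent.S5738

open Subgroup

/-- Let F ⊆ K be finite fields with |F| = q and [K : F] = n ≥ 2, so |K| = q^n. Regard K as an n-dimensional F-vector space; the multiplications by non-zero elements of K form a cyclic subgroup of GL_F(K) of order q^n − 1 acting regularly on the non-zero vectors (a Singer group). Its normaliser in GL_F(K) has order n·(q^n − 1). -/
theorem result {F K : Type*} [Field F] [Fintype F] [Field K] [Fintype K] [Algebra F K] (n : ℕ) (hn : 2 ≤ n) (hdim : Module.finrank F K = n) :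
    Nat.card (Subgroup.normalizer (((Units.map ((Algebra.lmul F K : K →ₐ[F] Module.End F K) : K →* Module.End F K)).range : Subgroup (Module.End F K)ˣ) : Set (Module.End F K)ˣ)) = n * (Fintype.card K - 1) := by
  classical
  set f := Units.map ((Algebra.lmul F K : K →ₐ[F] Module.End F K) : K →* Module.End F K) with hf
  have ne : ∀ g : (Module.End F K)ˣ, g.1 1 ≠ 0 := fun g e =>
    one_ne_zero ((Module.End.isUnit_iff _).1 g.isUnit |>.1 (e.trans (map_zero _).symm))
  let a : (K ≃ₐ[F] K) → (Module.End F K)ˣ := fun σ => ⟨σ.toLinearMap, σ.symm.toLinearMap, by ext; simp, by ext; simp⟩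
  have : Finite (Module.End F K) := Finite.of_injective _ DFunLike.coe_injective
  have ha : ∀ σ x, (a σ).1 x = σ x := fun _ _ => rfl
  have h1 : ∀ σ, a σ ∈ normalizer (f.range : Set (Module.End F K)ˣ) := fun σ => mem_normalizer_fintype (by
    rintro _ ⟨x, rfl⟩
    exact ⟨Units.map (σ : K →* K) x, eq_mul_inv_of_mul_eq (Units.ext (LinearMap.ext fun y => by simp [hf, ha]))⟩)
  rw [← hdim, ← IsGalois.card_aut_eq_finrank, ← Nat.card_eq_fintype_card, ← Nat.card_units, ← Nat.card_prod]
  refine (Nat.card_eq_of_bijective (fun p : (K ≃ₐ[F] K) × Kˣ => (⟨f p.2 * a p.1, mul_mem (le_normalizer ⟨_, rfl⟩) (h1 _)⟩ :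
    normalizer (f.range : Set (Module.End F K)ˣ))) ⟨?_, ?_⟩).symm
  · rintro ⟨σ, x⟩ ⟨τ, y⟩ e
    have e := fun z => LinearMap.congr_fun (congrArg (fun u => u.1.1) e) z
    simp only [hf, Units.val_mul, Module.End.mul_apply, ha, Units.coe_map, MonoidHom.coe_coe, Algebra.coe_lmul_eq_mul,
      LinearMap.mul_apply'] at e
    obtain rfl : x = y := Units.ext (by simpa using e 1)
    exact Prod.ext (AlgEquiv.ext fun z => mul_left_cancel₀ x.ne_zero (e z)) rfl
  rintro ⟨g, hg⟩
  have h2 : ∀ x y, g.1 1 * g.1 (x * y) = g.1 x * g.1 y := fun x y => by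
    rcases eq_or_ne x 0 with rfl | hx
    · simp
    obtain ⟨z, e⟩ := (mem_normalizer_iff.1 hg _).1 ⟨Units.mk0 x hx, rfl⟩
    have e := fun y => LinearMap.congr_fun (congrArg Units.val (eq_mul_inv_iff_mul_eq.1 e)) y
    simp only [hf, Units.val_mul, Module.End.mul_apply, Units.coe_map, MonoidHom.coe_coe, Algebra.coe_lmul_eq_mul,
      LinearMap.mul_apply', Units.val_mk0] at e
    rw [← e y, ← mul_one x, ← e 1]; ring
  refine ⟨⟨AlgEquiv.ofBijective (AlgHom.ofLinearMap (Algebra.lmul F K (g.1 1)⁻¹ * g.1) (by simp [ne g]) fun x y => ?_)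
    (AlgHom.bijective _), Units.mk0 _ (ne g)⟩, Subtype.ext (Units.ext (LinearMap.ext fun x => by simp [hf, ha, ne g]))⟩
  have := ne g
  simp only [Module.End.mul_apply, Algebra.coe_lmul_eq_mul, LinearMap.mul_apply']
  field_simp
  exact h2 x y

end Cfsg.Agent.S5738
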