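import Cfsg.Statements.S5739

set_option autoImplicit false
open Cfsg

namespace Cfsg.Agent.S5739

open Subgroup

/-- Let F ⊆ K be finite fields with |F| = q and [K : F] = n ≥ 2, and let M ≤ GL_F(K) be the Singer group of multiplications by non-zero elements of K. If g ∈ GL_F(K) does not normalise M, then the order of M ∩ gMg⁻¹ divides q^r − 1 for some proper divisor r of n. In particular, when n is prime, that order divides q − 1. -/
theorem result {F K : Type*} [Field F] [Fintype F] [Field K] [Fintype K] [Algebra F K] (n : ℕ) (hn : 2 ≤ n) (hdim : Module.finrank F K = n)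
    (g : (Module.End F K)ˣ) (hg : ((Units.map ((Algebra.lmul F K : K →ₐ[F] Module.End F K) : K →* Module.End F K)).range).map (MulAut.conj g).toMonoidHom ≠ (Units.map ((Algebra.lmul F K : K →ₐ[F] Module.End F K) : K →* Module.End F K)).range) :
    ∃ r : ℕ, 1 ≤ r ∧ r ∣ n ∧ r < n ∧ Nat.card ↥(((Units.map ((Algebra.lmul F K : K →ₐ[F] Module.End F K) : K →* Module.End F K)).range).map (MulAut.conj g).toMonoidHom ⊓ (Units.map ((Algebra.lmul F K : K →ₐ[F] Module.End F K) : K →* Module.End F K)).range) ∣ Fintype.card F ^ r - 1 := by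
  classical
  set f := Units.map ((Algebra.lmul F K : K →ₐ[F] Module.End F K) : K →* Module.End F K) with hf
  let L : Subalgebra F K :=
    { carrier := {x | ∃ y, g.1 * Algebra.lmul F K y = Algebra.lmul F K x * g.1}
      mul_mem' := fun {x x'} ⟨y, h⟩ ⟨y', h'⟩ => ⟨y * y', by rw [map_mul, map_mul, ← mul_assoc, h, mul_assoc, h', mul_assoc]⟩
      add_mem' := fun {x x'} ⟨y, h⟩ ⟨y', h'⟩ => ⟨y + y', by rw [map_add, map_add, mul_add, add_mul, h, h']⟩
      algebraMap_mem' := fun c => ⟨algebraMap F K c, by rw [AlgHom.commutes, Algebra.commutes]⟩ }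
  have : Finite (Module.End F K) := Finite.of_injective _ DFunLike.coe_injective
  letI : Field L := (Finite.isField_of_domain L).toField
  have h1 := Module.finrank_mul_finrank F L K
  refine ⟨Module.finrank F L, Module.finrank_pos, ⟨_, hdim ▸ h1.symm⟩, ?_, ?_⟩
  · rw [← hdim]
    refine Submodule.finrank_lt (s := Subalgebra.toSubmodule L) fun e => hg (eq_of_le_of_card_ge ?_
      (card_map_of_injective (MulAut.conj g).injective).le).symm
    rintro _ ⟨x, rfl⟩
    obtain ⟨y, h⟩ := e.ge (Submodule.mem_top (x := x.1))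
    have hy : y ≠ 0 := by
      rintro rfl
      exact (f x * g).ne_zero (h.symm.trans (by simp))
    exact ⟨_, ⟨Units.mk0 y hy, rfl⟩, mul_inv_eq_of_eq_mul (Units.ext h)⟩
  rw [← Nat.card_eq_fintype_card, ← Module.natCard_eq_pow_finrank, ← Nat.card_units]
  refine (card_dvd_of_le (K := (f.comp (Units.map (L.val : L →* K))).range) ?_).trans (card_range_dvd _)
  rintro _ ⟨⟨_, ⟨y, rfl⟩, h⟩, x, rfl⟩
  exact ⟨Units.mk0 ⟨x, y, congrArg Units.val (mul_inv_eq_iff_eq_mul.1 h)⟩ fun e => x.ne_zero (congrArg Subtype.val e),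
    congrArg f (Units.ext rfl)⟩

end Cfsg.Agent.S5739
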