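import Cfsg.Statements.S5747

set_option autoImplicit false
open Cfsg

namespace Cfsg.Agent.S5747

section
variable (G : Type*) {Ω : Type*} [Group G] [MulAction G Ω]
def Bs {t : ℕ} (f : Fin t → Ω) : Prop := ∀ g : G, (∀ i, g • f i = f i) → g = 1
def Ir {t : ℕ} (f : Fin t → Ω) : Prop := ∀ i, ∃ g : G, (∀ j, j < i → g • f j = f j) ∧ g • f i ≠ f i
def Mn {t : ℕ} (f : Fin t → Ω) : Prop := ∀ i, ∃ g : G, (∀ j, j ≠ i → g • f j = f j) ∧ g • f i ≠ f i
variable {G}
theorem ir_snoc {t : ℕ} (f : Fin t → Ω) (y : Ω) :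
    Ir G (Fin.snoc f y : Fin (t + 1) → Ω) ↔ Ir G f ∧ ∃ g : G, (∀ j, g • f j = f j) ∧ g • y ≠ y := by
  simp [Ir, Fin.forall_fin_succ', Fin.castSucc_lt_last, (Fin.castSucc_lt_last _).not_gt]
theorem prune : ∀ {t : ℕ} (f : Fin t → Ω), ∃ t' ≤ t, ∃ f' : Fin t' → Ω, Ir G f' ∧
    (∀ g : G, (∀ i, g • f' i = f' i) ↔ ∀ i, g • f i = f i) ∧ (t' = t → Ir G f)
  | 0, f => ⟨0, le_rfl, f, fun i => i.elim0, fun _ => Iff.rfl, fun _ i => i.elim0⟩
  | t + 1, f => by
    rw [← Fin.snoc_init_self f]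
    obtain ⟨t', h, f', h1, h2, h3⟩ := prune (Fin.init f)
    by_cases c : ∃ g : G, (∀ j, g • Fin.init f j = Fin.init f j) ∧ g • f (Fin.last t) ≠ f (Fin.last t)
    · exact ⟨t' + 1, by omega, Fin.snoc f' (f (Fin.last t)), (ir_snoc _ _).2 ⟨h1, by simpa only [h2] using c⟩,
        fun g => by simp only [Fin.forall_fin_succ', Fin.snoc_castSucc, Fin.snoc_last, h2], fun e => (ir_snoc _ _).2 ⟨h3 (by omega), c⟩⟩
    · push Not at c
      exact ⟨t', by omega, f', h1, fun g => by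
        simpa only [Fin.forall_fin_succ', Fin.snoc_castSucc, Fin.snoc_last, h2, iff_self_and] using c g, by omega⟩
theorem Mn.comp {t : ℕ} {f : Fin t → Ω} (h : Mn G f) (σ : Equiv.Perm (Fin t)) : Mn G (f ∘ σ) := fun i =>
  (h (σ i)).imp fun _ h => ⟨fun j e => h.1 _ (σ.injective.ne e), h.2⟩
theorem Bs.comp {t : ℕ} {f : Fin t → Ω} (h : Bs G f) (σ : Equiv.Perm (Fin t)) : Bs G (f ∘ σ) := fun g e =>
  h g fun i => by simpa using e (σ.symm i)
theorem Mn.ir {t : ℕ} {f : Fin t → Ω} (h : Mn G f) : Ir G f := fun i => (h i).imp fun _ h => ⟨fun j e => h.1 j e.ne, h.2⟩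
open Classical in
theorem len_le (H : ∀ (t : ℕ) (f : Fin t → Ω), Bs G f → Ir G f → Mn G f) {t' : ℕ} {f' : Fin t' → Ω} (h' : Bs G f') (n : ℕ) :
    ∀ {t : ℕ} (f : Fin t → Ω), Bs G f → Mn G f → (Finset.univ.filter fun i => f i ∉ Set.range f').card = n → t ≤ t' := by
  induction n with
  | zero =>
    intro t f _ h2 h3
    have h3 : ∀ i, ∃ j, f' j = f i := by simpa using h3
    choose k hk using h3
    simpa using Fintype.card_le_of_injective k fun i j e => by_contra fun c => by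
      obtain ⟨g, h4, h5⟩ := h2 i
      exact h5 (by rw [← hk, e, hk, h4 j (Ne.symm c)])
  | succ n ih =>
    intro t f h1 h2 h3
    obtain ⟨i, hi⟩ := Finset.card_pos.1 (h3.ge.trans_lt' n.succ_pos)
    obtain _ | t := t
    · exact i.elim0
    wlog e : i = Fin.last t generalizing f i
    · refine this (f ∘ Equiv.swap i (Fin.last t)) (h1.comp _) (h2.comp _) (h3 ▸ Finset.card_equiv (Equiv.swap i (Fin.last t)) (by simp))
        _ (by simpa using hi) rfl
    subst e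
    obtain ⟨g, h4, h5⟩ := h2 (Fin.last t)
    obtain ⟨k, hk⟩ : ∃ k, g • f' k ≠ f' k := by_contra fun c => h5 (by rw [h' g (by simpa using c), one_smul])
    have h6 : Ir G (Fin.snoc (Fin.init f) (f' k) : Fin (t + 1) → Ω) := (ir_snoc _ _).2
      ⟨((ir_snoc _ _).1 ((Fin.snoc_init_self f).symm ▸ h2.ir)).1, g, fun j => h4 _ (Fin.castSucc_ne_last j), hk⟩
    have h7 : Bs G (Fin.snoc (Fin.init f) (f' k) : Fin (t + 1) → Ω) := fun a ha => by_contra fun c => by
      have b : ∀ a : G, (∀ j, a • Fin.init f j = Fin.init f j) → a • f (Fin.last t) = f (Fin.last t) → a = 1 := fun a h h' =>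
        h1 a (Fin.forall_fin_succ'.2 ⟨h, h'⟩)
      obtain ⟨u, u1, u2⟩ := H _ (Fin.snoc (Fin.snoc (Fin.init f) (f' k)) (f (Fin.last t))) (fun a h => b a
        (fun j => by simpa using h j.castSucc.castSucc) (by simpa using h (Fin.last _)))
        ((ir_snoc _ _).2 ⟨h6, a, ha, fun e => c (b a (fun j => by simpa using ha j.castSucc) e)⟩) (Fin.last t).castSucc
      exact u2 (by
        rw [b u (fun j => by simpa using u1 j.castSucc.castSucc (by simp)) (by simpa using u1 (Fin.last _) (Fin.castSucc_ne_last _).symm), one_smul])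
    refine ih _ h7 (H _ _ h7 h6) ?_
    rw [← Nat.add_right_cancel_iff (n := 1), ← h3, Finset.card_erase_add_one hi |>.symm]
    congr 2
    ext j
    induction j using Fin.lastCases <;> simp [Fin.init]
end

/-- Let a finite group G act on a finite set Ω. An irredundant base is a sequence of points ω₁, …, ω_t whose pointwise stabiliser is trivial and in which each ω_i is moved by some element fixing ω₁, …, ω_{i−1}. Then all irredundant bases have the same length if and only if every reordering of an irredundant base is again an irredundant base. -/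
theorem result {G Ω : Type*} [Group G] [Finite G] [MulAction G Ω] [Fintype Ω] :
    (∀ (t t' : ℕ) (f : Fin t → Ω) (f' : Fin t' → Ω), ((∀ g : G, (∀ i : Fin t, g • f i = f i) → g = 1) ∧ ∀ i : Fin t, ∃ g : G, (∀ j : Fin t, j < i → g • f j = f j) ∧ g • f i ≠ f i) → ((∀ g : G, (∀ i : Fin t', g • f' i = f' i) → g = 1) ∧ ∀ i : Fin t', ∃ g : G, (∀ j : Fin t', j < i → g • f' j = f' j) ∧ g • f' i ≠ f' i) → t = t') ↔
    (∀ (t : ℕ) (f : Fin t → Ω) (σ : Equiv.Perm (Fin t)), ((∀ g : G, (∀ i : Fin t, g • f i = f i) → g = 1) ∧ ∀ i : Fin t, ∃ g : G, (∀ j : Fin t, j < i → g • f j = f j) ∧ g • f i ≠ f i) → ((∀ g : G, (∀ i : Fin t, g • (f ∘ σ) i = (f ∘ σ) i) → g = 1) ∧ ∀ i : Fin t, ∃ g : G, (∀ j : Fin t, j < i → g • (f ∘ σ) j = (f ∘ σ) j) ∧ g • (f ∘ σ) i ≠ (f ∘ σ) i)) := by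
  refine ⟨fun h t f σ hf => ⟨Bs.comp hf.1 σ, ?_⟩, fun h => ?_⟩
  · obtain ⟨t', -, f', h1, h2, h3⟩ := prune (G := G) (f ∘ σ)
    exact h3 (h _ _ f' f ⟨fun g e => Bs.comp hf.1 σ g ((h2 g).1 e), h1⟩ hf)
  have H : ∀ (t : ℕ) (f : Fin t → Ω), Bs G f → Ir G f → Mn G f := fun t f h1 h2 i => by
    obtain _ | t := t
    · exact i.elim0
    obtain ⟨g, h3, h4⟩ := (h _ f (Equiv.swap i (Fin.last t)) ⟨h1, h2⟩).2 (Fin.last t)
    exact ⟨g, fun j e => by
      simpa using h3 (Equiv.swap i (Fin.last t) j) (Fin.lt_last_iff_ne_last.2 fun c => e (by simpa using congrArg (Equiv.swap i (Fin.last t)) c)),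
      by simpa using h4⟩
  exact fun t t' f f' h1 h2 => (len_le H h2.1 _ f h1.1 (H _ _ h1.1 h1.2) rfl).antisymm (len_le H h1.1 _ f' h2.1 (H _ _ h2.1 h2.2) rfl)

end Cfsg.Agent.S5747
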