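import Cfsg.Statements.S5748
import Cfsg.Agent.H1.IA3

set_option autoImplicit false
open Cfsg

namespace Cfsg.Agent.S5748

/-- A finite non-abelian simple group in which commuting is a transitive relation on the non-identity elements (equivalently, every non-identity element has abelian centraliser) is isomorphic to PSL₂ over a field with 2^f elements for some f ≥ 2; conversely these groups have that property. -/
theorem result {G : Type*} [Group G] [Finite G] [IsSimpleGroup G] (hG : ¬ IsMulCommutative G) :
    (∀ a b c : G, a ≠ 1 → b ≠ 1 → c ≠ 1 → Commute a b → Commute b c → Commute a c) ↔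
    ∃ (F : Type) (_ : Field F) (_ : Fintype F) (f : ℕ), 2 ≤ f ∧ Fintype.card F = 2 ^ f ∧ Nonempty (G ≃* Matrix.ProjectiveSpecialLinearGroup (Fin 2) F) := by
  open Subgroup CfsgH1 CfsgFT CfsgH2 CfsgH1.L2 in
  constructor
  · intro h
    obtain ⟨n, h1, h2⟩ := IA.simple (G := G) (fun s hs a b ha hb => by
      by_cases k1 : a = 1
      · simp [k1]
      by_cases k2 : b = 1
      · simp [k2]
      exact h a s b k1 (ne_one_of_two hs) k2 ha hb.symm) (CfsgH8.NAS.of_comm hG)
    letI := Fintype.ofFinite (GaloisField 2 n)
    exact ⟨GaloisField 2 n, inferInstance, this, n, h1, by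
      rw [← Nat.card_eq_fintype_card, GaloisField.card 2 n (by omega)], h2⟩
  · rintro ⟨F, _, _, f, h1, h2, ⟨e⟩⟩ a b c - hb - k1 k2
    haveI : CharP F 2 := charP_of_card_eq_prime_pow h2
    have e := e.trans pslEquiv
    have := ct_two (e.map_ne_one_iff.2 hb) (k1.map e) (k2.symm.map e)
    exact e.injective (by simpa using this.eq)

end Cfsg.Agent.S5748
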