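import Cfsg.Statements.S5754

set_option autoImplicit false
open Cfsg

namespace Cfsg.Agent.S5754

theorem refl_ex {F V : Type*} [Field F] [AddCommGroup V] [Module F V] (Q : QuadraticForm F V) {d : V} (hd : Q d ≠ 0) :
    ∃ r : Q.IsometryEquiv Q, ∀ v, r v = v - ((Q d)⁻¹ * QuadraticMap.polar Q d v) • d := by
  have h : ((Q d)⁻¹ • Q.polarBilin d : Module.Dual F V) d = 2 := by
    rw [LinearMap.smul_apply, QuadraticMap.polarBilin_apply_apply, QuadraticMap.polar_self, two_smul, smul_eq_mul]
    field_simp; norm_num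
  refine ⟨⟨Module.reflection h, fun v => ?_⟩, fun v => Module.reflection_apply v h⟩
  simp only [AddHom.toFun_eq_coe, LinearMap.coe_toAddHom, LinearEquiv.coe_coe, Module.reflection_apply,
    LinearMap.smul_apply, QuadraticMap.polarBilin_apply_apply, smul_eq_mul]
  rw [sub_eq_add_neg, QuadraticMap.map_add Q, QuadraticMap.map_neg, QuadraticMap.map_smul, QuadraticMap.polar_neg_right,
    QuadraticMap.polar_smul_right, QuadraticMap.polar_comm Q v d]
  simp only [smul_eq_mul]
  field_simp
  ring

theorem polar_eq {F V : Type*} [Field F] [AddCommGroup V] [Module F V] (Q : QuadraticForm F V) (a b : V) :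
    QuadraticMap.polar Q a b = Q a + Q b - Q (a - b) := by
  rw [sub_eq_add_neg a, QuadraticMap.map_add Q, QuadraticMap.map_neg, QuadraticMap.polar_neg_right]; ring

theorem witt {F V ι : Type*} [Field F] [AddCommGroup V] [Module F V] (Q : QuadraticForm F V) (hQ : Q.Anisotropic)
    (x y : ι → V) (h1 : ∀ i, Q (x i) = Q (y i)) (h2 : ∀ i j, Q (x i - x j) = Q (y i - y j)) (s : Finset ι) :
    ∃ φ : Q.IsometryEquiv Q, ∀ i ∈ s, φ (x i) = y i := by
  classical
  induction s using Finset.induction_on with
  | empty => exact ⟨.refl Q, by simp⟩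
  | insert k s _ ih =>
    obtain ⟨φ, h⟩ := ih
    by_cases e : φ (x k) = y k
    · exact ⟨φ, by simpa [e] using h⟩
    have n : Q (φ (x k) - y k) ≠ 0 := fun c => e (sub_eq_zero.1 (hQ _ c))
    obtain ⟨r, hr⟩ := refl_ex Q n
    refine ⟨φ.trans r, fun i hi => ?_⟩
    change r (φ (x i)) = _
    rw [hr, QuadraticMap.polar_sub_left, polar_eq, polar_eq, ← map_sub, φ.map_app, φ.map_app, φ.map_app]
    rcases Finset.mem_insert.1 hi with rfl | hi
    · rw [← neg_sub (φ (x i)), QuadraticMap.map_neg, sub_self, map_zero, ← h1,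
        show Q (x i) + Q (x i) - 0 - (Q (x i) + Q (x i) - Q (φ (x i) - y i)) = Q (φ (x i) - y i) by ring,
        inv_mul_cancel₀ n, one_smul, sub_sub_cancel]
    · rw [h i hi, h1, h2, h1, sub_self, mul_zero, zero_smul, sub_zero]

/-- Let V be a finite-dimensional vector space over a finite field F carrying an anisotropic quadratic form Q (Q(v) = 0 only for v = 0). Then the group of all maps v ↦ φ(v) + c, with φ an isometry of Q and c ∈ V, acts on V as a binary permutation group: given n ≥ 2 and two n-tuples u, u' of vectors such that every pair of corresponding entries of u is carried to that of u' by such a map, one such map carries u to u'. -/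
theorem result {F V : Type*} [Field F] [Finite F] [AddCommGroup V] [Module F V] [Module.Finite F V]
    (Q : QuadraticForm F V) (hQ : Q.Anisotropic) (n : ℕ) (hn : 2 ≤ n) (u u' : Fin n → V)
    (h2 : ∀ i j : Fin n, i ≠ j → ∃ (φ : Q.IsometryEquiv Q) (c : V), φ (u i) + c = u' i ∧ φ (u j) + c = u' j) :
    ∃ (φ : Q.IsometryEquiv Q) (c : V), ∀ i, φ (u i) + c = u' i := by
  have k : ∀ i j, Q (u i - u j) = Q (u' i - u' j) := fun i j => by
    by_cases e : i = j
    · simp [e]
    obtain ⟨φ, c, a, b⟩ := h2 i j e
    rw [← a, ← b, add_sub_add_right_eq_sub, ← map_sub, φ.map_app]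
  let o : Fin n := ⟨0, by omega⟩
  obtain ⟨φ, h⟩ := witt Q hQ (fun i => u i - u o) (fun i => u' i - u' o) (fun i => k i o)
    (fun i j => by simpa using k i j) Finset.univ
  refine ⟨φ, u' o - φ (u o), fun i => ?_⟩
  have := h i (Finset.mem_univ i)
  rw [map_sub] at this
  rw [← add_sub_assoc, add_sub_right_comm, this, sub_add_cancel]

end Cfsg.Agent.S5754
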