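import Cfsg.Statements.S5763
import Cfsg.Agent.H3.S8c

set_option autoImplicit false
open Cfsg

namespace Cfsg.Agent.S5763

open CfsgH7 CfsgS8 MulAction Subgroup Equiv
/-- In the symmetric group on 8 letters any two Sylow 2-subgroups have non-trivial intersection: for a Sylow 2-subgroup H and every element x, H ∩ xHx⁻¹ ≠ 1. -/
theorem result (H : Sylow 2 (Equiv.Perm (Fin 8))) (x : Equiv.Perm (Fin 8)) :
    (H : Subgroup (Equiv.Perm (Fin 8))) ⊓ (H : Subgroup (Equiv.Perm (Fin 8))).map (MulAut.conj x).toMonoidHom ≠ ⊥ := by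
  have c : Nat.card (Perm (Fin 8)) = 40320 := by rw [Nat.card_perm, Nat.card_fin]; rfl
  obtain ⟨a1, a2, a3, a4, a5, a6, a7, a8, a9⟩ := c0
  have f := Act.full_clo (A := A) (permAct_valid a1) a2 a3
  have t := (Act.full_of_card (A := A) (H := ⊤) (fun t m => (permAct_valid a7 t m).imp fun _ h => ⟨trivial, h⟩) a8 (by rw [card_top, c, a9])).1
  obtain ⟨g, hg⟩ := exists_conj_le Nat.prime_two (f.card.trans a4) (by rw [c]; decide) H.2
  have e : cj g H = A.clo (Fmt.gens L0) := eq_of_le_of_card_ge hg (by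
    rw [card_cj, H.card_eq_multiplicity, c, f.card, a4, Nat.factorization_def _ Nat.prime_two]; decide +kernel)
  obtain ⟨s, r, h⟩ := t.all c1 (mem_top (g * x * g⁻¹))
  obtain ⟨y, m, h⟩ := (lany_iff _ _).1 h
  obtain ⟨u, hu, q⟩ := f.2.1.siftAll a5 y m
  have := (f.mem_iff (r.conj q)).2 ((force_eq _ _).symm.trans h)
  rw [← e, mem_cj] at this hu
  refine fun z => (by simpa [q.isOne_iff] using (lall_iff _ _).1 a6 y m : u ≠ 1) ?_
  have : x * (g⁻¹ * u * g) * x⁻¹ = 1 := mem_bot.1 (z.le ⟨show _ ∈ H.1 by convert this using 1; group, ⟨_, hu, rfl⟩⟩)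
  rw [show u = (g * x⁻¹) * (x * (g⁻¹ * u * g) * x⁻¹) * (g * x⁻¹)⁻¹ by group, this]; group

end Cfsg.Agent.S5763
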