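import Cfsg.Statements.S5790
import Cfsg.Agent.H5.As12

set_option autoImplicit false
open Cfsg

namespace Cfsg.Agent.S5790

open CfsgH5

/-- Every maximal subgroup of Sp_4(q), q ≥ 4 even, is of one of the listed geometric types or lies in the residual class. Let F be a finite field of even order q ≥ 4, f the standard alternating form on F^4 (coordinates Fin 2 ⊕ Fin 2), and H a maximal subgroup of Sp_4(F) (inside GL_4(F)). Then H is the intersection with Sp_4(F) of one of: the stabiliser of a non-zero totally isotropic subspace; the stabiliser of a decomposition into two orthogonal non-degenerate 2-spaces; the normaliser of a degree-2 subfield K of the matrix algebra, self-adjoint with f(k v, v) = 0; a subfield group whose F₀-structure carries a non-zero multiple of f, |F| = |F₀|^r with r prime; the similarity group of a non-degenerate quadratic form whose polar form is f — or else H lies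 in the residual class of the symplectic case. -/
theorem result {F : Type*} [Field F] [Fintype F] (heven : ¬ Odd (Fintype.card F)) (h4 : 4 ≤ Fintype.card F) (H : Subgroup (Matrix.GeneralLinearGroup (Fin 2 ⊕ Fin 2) F)) (hH : Cfsg.Geo.IsMaximalIn (Cfsg.spGL 2 F) H) :
    (∃ W : Submodule F (Fin 2 ⊕ Fin 2 → F), W ≠ ⊥ ∧ Cfsg.Geo.IsTotallySingularFor (Cfsg.sympForm 2 F) W ∧ H = Cfsg.Geo.subspaceStabilizer W ⊓ Cfsg.spGL 2 F) ∨
    (∃ D : Fin 2 → Submodule F (Fin 2 ⊕ Fin 2 → F), Cfsg.Geo.IsNondegenerateMDecomposition (Cfsg.sympForm 2 F) 2 D ∧ H = Cfsg.Geo.decompositionStabilizer D ⊓ Cfsg.spGL 2 F) ∨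
    (∃ K : Subalgebra F (Matrix (Fin 2 ⊕ Fin 2) (Fin 2 ⊕ Fin 2) F), Cfsg.Geo.IsFieldSubalgebra 2 K ∧ Cfsg.Geo.IsSelfAdjointFor (Cfsg.sympForm 2 F) K ∧ (∀ k ∈ K, ∀ v : (Fin 2 ⊕ Fin 2 → F), (Cfsg.sympForm 2 F) (Matrix.mulVec k v) v = 0) ∧ H = Cfsg.Geo.subalgebraNormalizer K ⊓ Cfsg.spGL 2 F) ∨
    (∃ (F₀ : Subfield F) (r : ℕ) (P : Matrix.GeneralLinearGroup (Fin 2 ⊕ Fin 2) F) (ζ : F), r.Prime ∧ Fintype.card F = Nat.card F₀ ^ r ∧ ζ ≠ 0 ∧ Cfsg.Geo.IsFormRationalStructure (Cfsg.sympForm 2 F) F₀ ζ P ∧ H = Cfsg.Geo.subfieldSubgroup F₀ P ⊓ Cfsg.spGL 2 F) ∨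
    (∃ Q : (Fin 2 ⊕ Fin 2 → F) → F, Cfsg.Geo.IsNondegenerateQuadraticForm Q ∧ (∀ u v : (Fin 2 ⊕ Fin 2 → F), QuadraticMap.polar Q u v = (Cfsg.sympForm 2 F) u v) ∧ H = Cfsg.Geo.quadSimilarityGroup Q ⊓ Cfsg.spGL 2 F) ∨
    Cfsg.Geo.InSymplecticResidualClass H := by
  have hn : Fintype.card (Fin 2 ⊕ Fin 2) = 4 := by simp
  simp only [← spS_f, ← spS_iso]
  rcases sp_max' (by omega) (fun _ => by omega) hH with ⟨W, h1, h2, h⟩ | ⟨W, h1, h2, h3, h4, h5, h⟩ |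
    ⟨t, k, D, h1, h2, h3, h4, h5, h⟩ | ⟨k, D, h0, h1, h2, h3, h4, h⟩ | ⟨r, K, h1, h2, h3, h4, h5, h⟩ |
    ⟨K, h0, h1, h2, h3, h⟩ | ⟨a, b, e, P, f₁, f₂, h0, h1, h2, h3, h4, h5, h6, h7, h8, h9, h⟩ |
    ⟨F₀, r, P, ζ, h1, h2, h3, h4, h⟩ | ⟨k, R, h1, h0, h2, h3, h4, h5, h6, h7, h8, h⟩ |
    ⟨k, t, e, P, f₁, h0, h1, h2, h3, h4, h5, h6, h⟩ | ⟨Q, h0, h1, h2, h⟩ | h
  · exact Or.inl (⟨W, h1, h2, h⟩)
  · obtain ⟨j, hj⟩ := h4
    omega
  · rw [hn] at h2
    obtain ⟨j, hj⟩ := h4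
    have ht : t ≤ 4 := Nat.le_of_dvd (by omega) ⟨k, h2.symm⟩
    obtain ⟨rfl, rfl⟩ : (t = 2 ∧ k = 2) := by
      interval_cases t <;> omega
    exact Or.inr (Or.inl (⟨D, h1, h⟩))
  · exact absurd h0 heven
  · rw [hn] at h2
    have ht : 2 * r ≤ 4 := Nat.le_of_dvd (by omega) h2
    have ht' : r ≤ 2 := by omega
    obtain rfl : r = 2 := by
      interval_cases r <;> first | omega | exact absurd h1 (by decide)
    exact Or.inr (Or.inr (Or.inl (⟨K, h3, h4, h5, h⟩)))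
  · exact absurd h0 heven
  · rw [hn] at h1
    obtain ⟨j, hj⟩ := h3
    have ht : a ≤ 4 := Nat.le_of_dvd (by omega) ⟨b, h1.symm⟩
    interval_cases a <;> omega
  · exact Or.inr (Or.inr (Or.inr (Or.inl (⟨F₀, r, P, ζ, h1, h2, h3, h4, h⟩))))
  · exact absurd h0 heven
  · rw [hn] at h1
    have h7 := Nat.pow_le_pow_right (n := k) (by omega) h2
    obtain rfl : k = 2 := by
      by_contra h8
      have := Nat.pow_le_pow_left (show 3 ≤ k by omega) 3
      omega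
    have h8 : t < 4 := (Nat.pow_lt_pow_iff_right (a := 2) (by norm_num)).1 (by omega)
    obtain rfl : t = 3 := by omega
    omega
  · exact Or.inr (Or.inr (Or.inr (Or.inr (Or.inl (⟨Q, h1, h2, h⟩)))))
  · exact Or.inr (Or.inr (Or.inr (Or.inr (Or.inr (h)))))

end Cfsg.Agent.S5790
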