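import Cfsg.Statements.S5793
import Cfsg.Agent.H5.As11

set_option autoImplicit false
open Cfsg

namespace Cfsg.Agent.S5793

open CfsgH5

/-- Every maximal subgroup of SL_5(q) is of one of the listed geometric types or lies in the residual class. Let F be a finite field with q elements (p its characteristic) and H a maximal subgroup of SL_5(F) (inside GL_5(F)). Then H is the intersection with SL_5(F) of one of: the stabiliser of a proper non-zero subspace; for q ≥ 5, the stabiliser of a decomposition into 5 independent 1-spaces; the normaliser of a degree-5 subfield of the matrix algebra; a subfield group for a subfield F₀ with |F| = |F₀|^r, r prime; for q = p prime with p ≡ 1 mod 5, the normaliser of an absolutely irreducible 5-subgroup R of exponent 5 and order 5^(1+2m) with centre of order 5, all of whose characteristic abelian subgroups are cyclic, F being the smallest field of characteristic p containing the fifth roots of unity (here R is extraspecial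 of order 125); for q odd, the similarity group of a non-degenerate quadratic form; the similarity group of a non-degenerate unitary form — or else H lies in the residual class of the linear case (modulo scalars H is almost simple, with absolutely irreducible perfect socle preimage realisable over no proper subfield and fixing no non-degenerate quadratic, symplectic or unitary form). -/
theorem result {F : Type*} [Field F] [Fintype F] (H : Subgroup (Matrix.GeneralLinearGroup (Fin 5) F)) (hH : Cfsg.Geo.IsMaximalIn (Cfsg.Geo.specialLinear (Fin 5) F) H) :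
    (∃ W : Submodule F (Fin 5 → F), W ≠ ⊥ ∧ W ≠ ⊤ ∧ H = Cfsg.Geo.subspaceStabilizer W ⊓ Cfsg.Geo.specialLinear (Fin 5) F) ∨
    (5 ≤ Fintype.card F ∧ ∃ D : Fin 5 → Submodule F (Fin 5 → F), Cfsg.Geo.IsMDecomposition 1 D ∧ H = Cfsg.Geo.decompositionStabilizer D ⊓ Cfsg.Geo.specialLinear (Fin 5) F) ∨
    (∃ K : Subalgebra F (Matrix (Fin 5) (Fin 5) F), Cfsg.Geo.IsFieldSubalgebra 5 K ∧ H = Cfsg.Geo.subalgebraNormalizer K ⊓ Cfsg.Geo.specialLinear (Fin 5) F) ∨
    (∃ (F₀ : Subfield F) (r : ℕ) (P : Matrix.GeneralLinearGroup (Fin 5) F), r.Prime ∧ Fintype.card F = Nat.card F₀ ^ r ∧ H = Cfsg.Geo.subfieldSubgroup F₀ P ⊓ Cfsg.Geo.specialLinear (Fin 5) F) ∨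
    ((∃ p : ℕ, p.Prime ∧ Fintype.card F = p ∧ (p % 5 = 1)) ∧ ∃ R : Subgroup (Matrix.GeneralLinearGroup (Fin 5) F), Cfsg.Geo.IsLinearSymplecticTypeData 5 R ∧ H = Cfsg.Geo.subgroupNormalizer R ⊓ Cfsg.Geo.specialLinear (Fin 5) F) ∨
    (Odd (Fintype.card F) ∧ ∃ Q : (Fin 5 → F) → F, Cfsg.Geo.IsNondegenerateQuadraticForm Q ∧ H = Cfsg.Geo.quadSimilarityGroup Q ⊓ Cfsg.Geo.specialLinear (Fin 5) F) ∨
    (∃ (σ : F ≃+* F) (f : (Fin 5 → F) → (Fin 5 → F) → F), Cfsg.Geo.IsUnitaryForm σ f ∧ H = Cfsg.Geo.similarityGroup f ⊓ Cfsg.Geo.specialLinear (Fin 5) F) ∨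
    Cfsg.Geo.InLinearResidualClass H := by
  rcases lin_max (by simp) hH with ⟨W, h1, h2, h⟩ | ⟨t, m, D, h1, h2, h3, h4, h5, h6, h7, h⟩ |
    ⟨r, K, h1, h2, h3, h4, h⟩ | ⟨a, b, e, P, h1, h2, h3, h4, h⟩ | ⟨F₀, r, P, h1, h2, h⟩ |
    ⟨r, m, R, h1, h2, h3, h⟩ | ⟨m, t, e, P, h1, h2, h3, h⟩ | ⟨f, h1, h2, h⟩ | ⟨σ, f, h1, h⟩ | ⟨Q, h1, h2, h⟩ | h
  · exact Or.inl (⟨W, h1, h2, h⟩)
  · rw [Fintype.card_fin] at h2
    have ht : t ≤ 5 := Nat.le_of_dvd (by omega) ⟨m, h2.symm⟩
    obtain ⟨rfl, rfl⟩ : (t = 5 ∧ m = 1) := by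
      interval_cases t <;> omega
    exact Or.inr (Or.inl (⟨by omega, D, h1, h⟩))
  · rw [Fintype.card_fin] at h3 h4
    have ht : r ≤ 5 := Nat.le_of_dvd (by omega) h3
    obtain rfl : r = 5 := by
      interval_cases r <;> first | omega | exact absurd h1 (by decide)
    exact Or.inr (Or.inr (Or.inl (⟨K, h2, h⟩)))
  · rw [Fintype.card_fin] at h3
    have ht : a ≤ 3 := by nlinarith
    interval_cases a <;> omega
  · exact Or.inr (Or.inr (Or.inr (Or.inl (⟨F₀, r, P, h1, h2, h⟩))))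
  · rw [Fintype.card_fin] at h3
    obtain rfl : r = 5 := eq_of_pow_eq h2 (by norm_num) (k := 1) (by norm_num) h3
    obtain ⟨p, e, h4, h5, h6, ⟨d, h7⟩, h8, h9⟩ := lin_data_odd h1 (by norm_num)
    have h10 : p % 5 < 5 := Nat.mod_lt _ (by norm_num)
    have h11 : p % 5 ≠ 0 := fun h0 => by simp [h0, h7] at h8
    have h12 : e ≤ 4 := h9 _ (by norm_num)
      ((by decide : ∀ s < 5, s ≠ 0 → s ^ 4 % 5 = 1) _ h10 h11)
    have h13 : e = 1 ∧ p % 5 = 1 :=
      (by set_option synthInstance.maxSize 4000 in decide +kernel : ∀ s < 5, ∀ e < 5, e % 2 = 1 → s ^ e % 5 = 1 →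
        (∀ d < e, 0 < d → s ^ d % 5 ≠ 1) → e = 1 ∧ s = 1) _ h10 e (by omega) (by omega) h8
        fun d h1 h2 h3 => absurd (h9 d h2 h3) (by omega)
    rw [h13.1, pow_one] at h6
    exact Or.inr (Or.inr (Or.inr (Or.inr (Or.inl (⟨⟨p, h4, h6, h13.2⟩, R, h1, h⟩)))))
  · rw [Fintype.card_fin] at h3
    have h4 := Nat.pow_le_pow_right (n := m) (by omega) h2
    obtain rfl : m = 3 := by nlinarith
    have h5 : t < 3 := (Nat.pow_lt_pow_iff_right (a := 3) (by norm_num)).1 (by omega)
    obtain rfl : t = 2 := by omega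
    omega
  · exact absurd h2 (by simp; decide)
  · exact Or.inr (Or.inr (Or.inr (Or.inr (Or.inr (Or.inr (Or.inl (⟨σ, f, h1, h⟩)))))))
  · exact Or.inr (Or.inr (Or.inr (Or.inr (Or.inr (Or.inl (⟨h1, Q, h2, h⟩))))))
  · exact Or.inr (Or.inr (Or.inr (Or.inr (Or.inr (Or.inr (Or.inr (h)))))))

end Cfsg.Agent.S5793
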