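import Cfsg.Statements.S5811
import Cfsg.Agent.H5.As14

set_option autoImplicit false
open Cfsg

namespace Cfsg.Agent.S5811

open CfsgH5

/-- Every maximal subgroup of SU_7(q) is of one of the listed geometric types or lies in the residual class. Let F be the field with q² elements (characteristic p), f the standard unitary form Σ u_i v_i^q on F^7, and H a maximal subgroup of SU_7(q) (inside GL_7(F)). Then H is the intersection with SU_7(q) of one of: the stabiliser of a non-zero totally isotropic subspace; the stabiliser of a non-degenerate 1-, 2- or 3-space; the stabiliser of a decomposition into seven mutually orthogonal non-degenerate 1-spaces; the normaliser of an adjoint-closed degree-7 subfield of the matrix algebra; a subfield group of odd prime index whose F₀-structure carries f; for q odd, a subfield group of index 2 whose F₀-structure carries f; for q = p prime with p ≡ 6 mod 7, or q = p³ with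 p ≡ 3 or 5 mod 7, the normaliser of an absolutely irreducible 7-group R of exponent 7, order 343 and centre of order 7, all of whose characteristic abelian subgroups are cyclic, contained in the similarity group of f — or else H lies in the residual class of the unitary case (modulo scalars H is almost simple, with absolutely irreducible perfect socle preimage realisable over no proper subfield and fixing no non-degenerate quadratic or symplectic form). -/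
theorem result {F : Type*} [Field F] [Fintype F] (q : ℕ) (hF : Fintype.card F = q ^ 2) (H : Subgroup (Matrix.GeneralLinearGroup (Fin 7) F)) (hH : Cfsg.Geo.IsMaximalIn (Cfsg.GU 7 F q ⊓ Cfsg.Geo.specialLinear (Fin 7) F) H) :
    (∃ W : Submodule F (Fin 7 → F), W ≠ ⊥ ∧ Cfsg.Geo.IsTotallySingularFor (Cfsg.hermForm 7 F q) W ∧ H = Cfsg.Geo.subspaceStabilizer W ⊓ (Cfsg.GU 7 F q ⊓ Cfsg.Geo.specialLinear (Fin 7) F)) ∨
    (∃ W : Submodule F (Fin 7 → F), W ≠ ⊥ ∧ Cfsg.Geo.IsNondegenerateOn (Cfsg.hermForm 7 F q) W ∧ 2 * Module.finrank F W < 7 ∧ H = Cfsg.Geo.subspaceStabilizer W ⊓ (Cfsg.GU 7 F q ⊓ Cfsg.Geo.specialLinear (Fin 7) F)) ∨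
    (∃ D : Fin 7 → Submodule F (Fin 7 → F), Cfsg.Geo.IsNondegenerateMDecomposition (Cfsg.hermForm 7 F q) 1 D ∧ H = Cfsg.Geo.decompositionStabilizer D ⊓ (Cfsg.GU 7 F q ⊓ Cfsg.Geo.specialLinear (Fin 7) F)) ∨
    (∃ K : Subalgebra F (Matrix (Fin 7) (Fin 7) F), Cfsg.Geo.IsFieldSubalgebra 7 K ∧ Cfsg.Geo.IsAdjointClosedFor (Cfsg.hermForm 7 F q) K ∧ H = Cfsg.Geo.subalgebraNormalizer K ⊓ (Cfsg.GU 7 F q ⊓ Cfsg.Geo.specialLinear (Fin 7) F)) ∨
    (∃ (F₀ : Subfield F) (r : ℕ) (P : Matrix.GeneralLinearGroup (Fin 7) F), r.Prime ∧ Odd r ∧ Fintype.card F = Nat.card F₀ ^ r ∧ Cfsg.Geo.IsFormRationalStructure (Cfsg.hermForm 7 F q) F₀ 1 P ∧ H = Cfsg.Geo.subfieldSubgroup F₀ P ⊓ (Cfsg.GU 7 F q ⊓ Cfsg.Geo.specialLinear (Fin 7) F)) ∨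
    (Odd q ∧ ∃ (F₀ : Subfield F) (P : Matrix.GeneralLinearGroup (Fin 7) F), Fintype.card F = Nat.card F₀ ^ 2 ∧ Cfsg.Geo.IsFormRationalStructure (Cfsg.hermForm 7 F q) F₀ 1 P ∧ H = Cfsg.Geo.subfieldSubgroup F₀ P ⊓ (Cfsg.GU 7 F q ⊓ Cfsg.Geo.specialLinear (Fin 7) F)) ∨
    (∃ (p : ℕ) (R : Subgroup (Matrix.GeneralLinearGroup (Fin 7) F)), p.Prime ∧ CharP F p ∧ ((q = p ∧ p % 7 = 6) ∨ (q = p ^ 3 ∧ (p % 7 = 3 ∨ p % 7 = 5))) ∧ Cfsg.Geo.IsSymplecticTypeGroup 7 R ∧ Cfsg.Geo.ActsAbsolutelyIrreducibly (Cfsg.Geo.matrixSet R) ∧ R ≤ Cfsg.Geo.similarityGroup (Cfsg.hermForm 7 F q) ∧ Nat.card R = 343 ∧ Nat.card (Subgroup.center R) = 7 ∧ H = Cfsg.Geo.subgroupNormalizer R ⊓ (Cfsg.GU 7 F q ⊓ Cfsg.Geo.specialLinear (Fin 7) F)) ∨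
    Cfsg.Geo.InUnitaryResidualClass H := by
  have hn : Fintype.card (Fin 7) = 7 := by simp
  have hq2 := two_le_of_card_sq hF
  simp only [← suS_f hF]
  rcases su_max' hF (by omega) hH with ⟨W, h1, h2, h⟩ | ⟨W, h1, h2, h3, h⟩ |
    ⟨t, k, D, h1, h2, h3, h4, h⟩ | ⟨k, D, h1, h2, h3, h⟩ | ⟨r, K, h1, h0, h2, h3, h4, h⟩ |
    ⟨a, b, e, P, f₁, f₂, h1, h2, h3, h4, h5, h6, h7, h⟩ | ⟨F₀, r, P, h1, h2, h3, h4, h⟩ |
    ⟨F₀, P, h0, h1, h2, h⟩ | ⟨F₀, P, ζ, h0, h1, h2, h3, h4, h5, h⟩ |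
    ⟨r, k, p, d, R, h1, h2, h3, h4, h5, h6, h7, h8, h9, h10, h11, h12, h13, h14, h⟩ |
    ⟨k, R, h1, h2, h3, h4, h5, h6, h7, h8, h⟩ | ⟨k, t, e, P, f₁, h1, h2, h3, h4, h5, h6, h⟩ | h
  · exact Or.inl (⟨W, h1, h2, h⟩)
  · exact Or.inr (Or.inl (⟨W, h1, h2, by omega, h⟩))
  · rw [hn] at h2
    have ht : t ≤ 7 := Nat.le_of_dvd (by omega) ⟨k, h2.symm⟩
    obtain ⟨rfl, rfl⟩ : (t = 7 ∧ k = 1) := by
      interval_cases t <;> omega
    exact Or.inr (Or.inr (Or.inl (⟨D, h1, h⟩)))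
  · omega
  · rw [hn] at h2
    have ht : r ≤ 7 := Nat.le_of_dvd (by omega) h2
    obtain rfl : r = 7 := by
      interval_cases r <;> first | omega | exact absurd h1 (by decide) | exact absurd h0 (by decide)
    exact Or.inr (Or.inr (Or.inr (Or.inl (⟨K, h3, h4, h⟩))))
  · rw [hn] at h1
    have ht : a ≤ 7 := Nat.le_of_dvd (by omega) ⟨b, h1.symm⟩
    interval_cases a <;> omega
  · exact Or.inr (Or.inr (Or.inr (Or.inr (Or.inl (⟨F₀, r, P, h1, h2, h3, h4, h⟩)))))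
  · exact Or.inr (Or.inr (Or.inr (Or.inr (Or.inr (Or.inl (⟨h0, F₀, P, h1, h2, h⟩))))))
  · exact absurd h0 (by simp; decide)
  · obtain rfl : r = 7 := eq_of_pow_eq h1.prime (by norm_num) (k := 1) (by norm_num) (hn.symm.trans h6)
    obtain rfl : k = 1 := Nat.pow_right_injective (a := 7) (a₂ := 1) (by norm_num) (h6.symm.trans hn)
    have h20 : p % 7 < 7 := Nat.mod_lt _ (by norm_num)
    have h21 : p % 7 ≠ 0 := fun h0 => by simp [h0, h7.ne'] at h8
    have h22 : 2 * d ≤ 6 := h9 _ (by norm_num)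
      ((by decide : ∀ s < 7, s ≠ 0 → s ^ 6 % 7 = 1) _ h20 h21)
    have h23 : (d = 1 ∧ (p % 7 = 6)) ∨ (d = 3 ∧ (p % 7 = 3 ∨ p % 7 = 5)) :=
      (by set_option synthInstance.maxSize 4000 in decide +kernel : ∀ s < 7, ∀ d < 7, 0 < d → s ^ (2 * d) % 7 = 1 →
        (∀ e < 2 * d, 0 < e → s ^ e % 7 ≠ 1) → (d = 1 ∧ (s = 6)) ∨ (d = 3 ∧ (s = 3 ∨ s = 5))) _ h20 d (by omega) h7 h8
        fun e h1 h2 h3 => absurd (h9 e h2 h3) (by omega)
    exact Or.inr (Or.inr (Or.inr (Or.inr (Or.inr (Or.inr (Or.inl (⟨p, R, h2, h3, h23.imp (fun h => ⟨by simpa [h.1] using h4, h.2⟩) (fun h => ⟨by simpa [h.1] using h4, h.2⟩), h10, h11, h12.trans (SForm.iso_le_sim _), h13, h14, h⟩)))))))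
  · exact absurd (eq_of_pow_eq Nat.prime_two (p := 7) (by norm_num) (k := 1) (by norm_num) (hn.symm.trans h3)) (by norm_num)
  · rw [hn] at h1
    have h7 := Nat.pow_le_pow_right (n := k) (by omega) h3
    obtain rfl : k = 3 := by nlinarith
    have h8 : t < 3 := (Nat.pow_lt_pow_iff_right (a := 3) (by norm_num)).1 (by omega)
    obtain rfl : t = 2 := by omega
    omega
  · exact Or.inr (Or.inr (Or.inr (Or.inr (Or.inr (Or.inr (Or.inr (h)))))))

end Cfsg.Agent.S5811
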