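import Cfsg.Statements.S5814
import Cfsg.Agent.H5.As19

set_option autoImplicit false
open Cfsg

namespace Cfsg.Agent.S5814

open CfsgH5
theorem pow_mod_four {q m : ℕ} (h : Odd q) (hm : Even m) : q ^ m % 4 = 1 := by
  obtain ⟨m, rfl⟩ := hm
  obtain ⟨k, rfl⟩ := h
  rw [← two_mul, pow_mul, Nat.pow_mod, show (2 * k + 1) ^ 2 = 1 + 4 * (k ^ 2 + k) by ring]
  simp

theorem pow_five_mod {q : ℕ} : q ^ 5 % 4 = 1 ↔ q % 4 = 1 := by
  rw [Nat.pow_mod]
  have := Nat.mod_lt q (show 0 < 4 by norm_num)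
  interval_cases q % 4 <;> simp

/-- Every maximal subgroup of Ω_7(q), q odd, is of one of the listed geometric types or lies in the residual class. Let F be a finite field of odd order q, Q the standard quadratic form x₀² + Σ x_i y_i on F^7 (coordinates Unit ⊕ (Fin 3 ⊕ Fin 3)), Ω the commutator subgroup of its isometry group, and H a maximal subgroup of Ω (inside GL_7(F)). Then H is the intersection with Ω of one of: the stabiliser of a non-zero totally singular subspace; the stabiliser of a non-zero non-degenerate subspace of even dimension (not a plus-type plane when q = 3); for q prime, the stabiliser of a decomposition into seven pairwise orthogonal, pairwise isometric non-degenerate 1-spaces; a subfield group (|F| = |F₀|^r, r prime) whose F₀-structure carries Q — or else H lies in the residual class of the orthogonal case (modulo scalars H is almost simple, with absolutely irreducible perfect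 socle preimage realisable over no proper subfield and fixing no non-degenerate unitary form). -/
theorem result {F : Type*} [Field F] [Fintype F] (hodd : Odd (Fintype.card F)) (H : Subgroup (Matrix.GeneralLinearGroup (Unit ⊕ (Fin 3 ⊕ Fin 3)) F)) (hH : Cfsg.Geo.IsMaximalIn (Cfsg.Geo.omegaGL (Cfsg.quadFormOdd 3 F)) H) :
    (∃ W : Submodule F (Unit ⊕ (Fin 3 ⊕ Fin 3) → F), W ≠ ⊥ ∧ Cfsg.Geo.IsTotallySingularQuad (Cfsg.quadFormOdd 3 F) W ∧ H = Cfsg.Geo.subspaceStabilizer W ⊓ Cfsg.Geo.omegaGL (Cfsg.quadFormOdd 3 F)) ∨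
    (∃ W : Submodule F (Unit ⊕ (Fin 3 ⊕ Fin 3) → F), W ≠ ⊥ ∧ Even (Module.finrank F W) ∧ Cfsg.Geo.IsNondegenerateOn (QuadraticMap.polar (Cfsg.quadFormOdd 3 F)) W ∧ ¬ (Fintype.card F = 3 ∧ Module.finrank F W = 2 ∧ Cfsg.Geo.IsPlusTypeOn (Cfsg.quadFormOdd 3 F) W) ∧ H = Cfsg.Geo.subspaceStabilizer W ⊓ Cfsg.Geo.omegaGL (Cfsg.quadFormOdd 3 F)) ∨
    ((Fintype.card F).Prime ∧ ∃ D : Fin 7 → Submodule F (Unit ⊕ (Fin 3 ⊕ Fin 3) → F), Cfsg.Geo.IsOrthogonalMDecomposition (Cfsg.quadFormOdd 3 F) 1 D ∧ H = Cfsg.Geo.decompositionStabilizer D ⊓ Cfsg.Geo.omegaGL (Cfsg.quadFormOdd 3 F)) ∨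
    (∃ (F₀ : Subfield F) (r : ℕ) (P : Matrix.GeneralLinearGroup (Unit ⊕ (Fin 3 ⊕ Fin 3)) F), r.Prime ∧ Fintype.card F = Nat.card F₀ ^ r ∧ Cfsg.Geo.IsQuadFormRationalStructure (Cfsg.quadFormOdd 3 F) F₀ P ∧ H = Cfsg.Geo.subfieldSubgroup F₀ P ⊓ Cfsg.Geo.omegaGL (Cfsg.quadFormOdd 3 F)) ∨
    Cfsg.Geo.InOrthogonalResidualClass H := by
  have hn : Fintype.card (Unit ⊕ (Fin 3 ⊕ Fin 3)) = 7 := by simp
  rcases o_max (nondegQ_odd hodd 3) (by omega) hH with ⟨W, h1, h2, h3, h⟩ | ⟨W, h0, h1, h2, h3, h4, h⟩ |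
    ⟨W, h0, h1, h2, h3, h4, h5, h6, h7, h8, h⟩ | ⟨k, D, h1, h2, h3, h4, h5, h6, h⟩ | ⟨v, h1, h2, h⟩ |
    ⟨t, k, D, h1, h2, h3, h4, h5, h6, h7, h8, h9, h10, h⟩ | ⟨k, D, h1, h2, h3, h4, h5, h⟩ |
    ⟨r, K, h1, h2, h3, h4, h5, h6, h7, h⟩ | ⟨K, h1, h2, h3, h4, h5, h6, h⟩ |
    ⟨a, b, e, P, f₁, f₂, h0, h1, h2, h3, h4, h5, h6, h7, h8, h9, h10, h⟩ |
    ⟨a, b, e, P, f₁, f₂, h1, h2, h3, h4, h5, h6, h7, h8, h9, h10, h11, h⟩ |
    ⟨F₀, r, P, ζ, h1, h2, h3, h4, h5, h⟩ | ⟨k, h1, h2⟩ | ⟨k, t, e, P, f₁, h0, h1, h2, h3, h4, h5, h6, h⟩ |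
    ⟨k, t, h1, h2, h3, h4, h5⟩ | h
  · exact Or.inl (⟨W, h1, h2, h⟩)
  · exact Or.inr (Or.inl (⟨W, h1, h2, h3, h4, h⟩))
  · exact absurd (hn ▸ h0) (by decide)
  · obtain ⟨j, hj⟩ := h1
    omega
  · exact absurd hodd h1
  · rw [hn] at h2
    have ht : t ≤ 7 := Nat.le_of_dvd (by omega) ⟨k, h2.symm⟩
    obtain ⟨rfl, rfl⟩ : (t = 7 ∧ k = 1) := by
      interval_cases t <;> omega
    exact Or.inr (Or.inr (Or.inl (⟨h4 rfl, D, h1, h⟩)))
  · obtain ⟨j, hj⟩ := h3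
    omega
  · rw [hn] at h2 h3 h4 h5
    have ht : r ≤ 7 := Nat.le_of_dvd (by omega) h2
    interval_cases r <;> first | omega | exact absurd h1 (by decide)
  · omega
  · rw [hn] at h1
    have ht : a ≤ 7 := Nat.le_of_dvd (by omega) ⟨b, h1.symm⟩
    interval_cases a <;> omega
  · rw [hn] at h1
    obtain ⟨j, hj⟩ := h4
    obtain ⟨l, hl⟩ := h5
    have ht : a ≤ 7 := Nat.le_of_dvd (by omega) ⟨b, h1.symm⟩
    interval_cases a <;> omega
  · obtain ⟨P', h6, h7⟩ := rational_quadOdd hodd h3 h4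
    exact Or.inr (Or.inr (Or.inr (Or.inl (⟨F₀, r, P', h1, h2, h6, h7 ▸ h⟩))))
  · exact absurd ((Nat.prime_dvd_prime_iff_eq (by norm_num) Nat.prime_two).1 (Nat.Prime.dvd_of_dvd_pow (p := 7) (by norm_num) (n := k) (by rw [← h1, hn]; all_goals norm_num))) (by norm_num)
  · rw [hn] at h1
    have h7 := Nat.pow_le_pow_right (n := k) (by omega) h3
    obtain rfl : k = 3 := by nlinarith
    have h8 : t < 3 := (Nat.pow_lt_pow_iff_right (a := 3) (by norm_num)).1 (by omega)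
    obtain rfl : t = 2 := by omega
    omega
  · rw [hn] at h1
    obtain ⟨j, hj⟩ := h4
    have h7 := Nat.pow_le_pow_right (n := k) (by omega) h3
    have h8 : k < 4 := by nlinarith
    obtain rfl : k = 2 := by omega
    have h8 : t < 4 := (Nat.pow_lt_pow_iff_right (a := 2) (by norm_num)).1 (by omega)
    interval_cases t <;> omega
  · exact Or.inr (Or.inr (Or.inr (Or.inr (h))))

end Cfsg.Agent.S5814
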