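import Cfsg.Statements.S5826
import Cfsg.Agent.H5.As19

set_option autoImplicit false
open Cfsg

namespace Cfsg.Agent.S5826

open CfsgH5
theorem pow_mod_four {q m : ℕ} (h : Odd q) (hm : Even m) : q ^ m % 4 = 1 := by
  obtain ⟨m, rfl⟩ := hm
  obtain ⟨k, rfl⟩ := h
  rw [← two_mul, pow_mul, Nat.pow_mod, show (2 * k + 1) ^ 2 = 1 + 4 * (k ^ 2 + k) by ring]
  simp

theorem pow_five_mod {q : ℕ} : q ^ 5 % 4 = 1 ↔ q % 4 = 1 := by
  rw [Nat.pow_mod]
  have := Nat.mod_lt q (show 0 < 4 by norm_num)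
  interval_cases q % 4 <;> simp

/-- Every maximal subgroup of Ω_8^-(q) is of one of the listed geometric types or lies in the residual class. Let F be a finite field with q elements, Q a non-degenerate quadratic form on F^8 of minus type (no totally singular 4-space), Ω the commutator subgroup of its isometry group, and H a maximal subgroup of Ω (inside GL_8(F)). Then H is the intersection with Ω of one of: the stabiliser of a non-zero totally singular subspace; for q odd, the stabiliser of a non-degenerate subspace of odd dimension; the stabiliser of a non-degenerate 2-space of minus type; for q ≥ 4, the stabiliser of a non-degenerate 2-space of plus type; the stabiliser of a non-degenerate 4-space; for q even, the stabiliser of the span of a non-singular vector; the normaliser of a degree-2 subfield of the matrix algebra; a subfield group of odd prime index whose F₀-structure carries a non-zero multiple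 of Q — or else H lies in the residual class of the orthogonal case (modulo scalars H is almost simple, with absolutely irreducible perfect socle preimage realisable over no proper subfield and fixing no non-degenerate unitary form). -/
theorem result {F : Type*} [Field F] [Fintype F] (Q : (Fin 8 → F) → F) (hQ : Cfsg.Geo.IsNondegenerateQuadraticForm Q) (hminus : ¬ Cfsg.Geo.IsPlusTypeOn Q ⊤) (H : Subgroup (Matrix.GeneralLinearGroup (Fin 8) F)) (hH : Cfsg.Geo.IsMaximalIn (Cfsg.Geo.omegaGL Q) H) :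
    (∃ W : Submodule F (Fin 8 → F), W ≠ ⊥ ∧ Cfsg.Geo.IsTotallySingularQuad Q W ∧ H = Cfsg.Geo.subspaceStabilizer W ⊓ Cfsg.Geo.omegaGL Q) ∨
    (Odd (Fintype.card F) ∧ ∃ W : Submodule F (Fin 8 → F), W ≠ ⊥ ∧ W ≠ ⊤ ∧ Odd (Module.finrank F W) ∧ Cfsg.Geo.IsNondegenerateOn (QuadraticMap.polar Q) W ∧ H = Cfsg.Geo.subspaceStabilizer W ⊓ Cfsg.Geo.omegaGL Q) ∨
    (∃ W : Submodule F (Fin 8 → F), Module.finrank F W = 2 ∧ Cfsg.Geo.IsNondegenerateOn (QuadraticMap.polar Q) W ∧ ¬ Cfsg.Geo.IsPlusTypeOn Q W ∧ H = Cfsg.Geo.subspaceStabilizer W ⊓ Cfsg.Geo.omegaGL Q) ∨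
    (4 ≤ Fintype.card F ∧ ∃ W : Submodule F (Fin 8 → F), Module.finrank F W = 2 ∧ Cfsg.Geo.IsNondegenerateOn (QuadraticMap.polar Q) W ∧ Cfsg.Geo.IsPlusTypeOn Q W ∧ H = Cfsg.Geo.subspaceStabilizer W ⊓ Cfsg.Geo.omegaGL Q) ∨
    (∃ W : Submodule F (Fin 8 → F), Module.finrank F W = 4 ∧ Cfsg.Geo.IsNondegenerateOn (QuadraticMap.polar Q) W ∧ H = Cfsg.Geo.subspaceStabilizer W ⊓ Cfsg.Geo.omegaGL Q) ∨
    (¬ Odd (Fintype.card F) ∧ ∃ v : (Fin 8 → F), Q v ≠ 0 ∧ H = Cfsg.Geo.subspaceStabilizer (Submodule.span F {v}) ⊓ Cfsg.Geo.omegaGL Q) ∨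
    (∃ K : Subalgebra F (Matrix (Fin 8) (Fin 8) F), Cfsg.Geo.IsFieldSubalgebra 2 K ∧ H = Cfsg.Geo.subalgebraNormalizer K ⊓ Cfsg.Geo.omegaGL Q) ∨
    (∃ (F₀ : Subfield F) (r : ℕ) (P : Matrix.GeneralLinearGroup (Fin 8) F) (ζ : F), r.Prime ∧ Odd r ∧ Fintype.card F = Nat.card F₀ ^ r ∧ ζ ≠ 0 ∧ Cfsg.Geo.IsQuadFormRationalStructure (fun v : Fin 8 → F => ζ * Q v) F₀ P ∧ H = Cfsg.Geo.subfieldSubgroup F₀ P ⊓ Cfsg.Geo.omegaGL Q) ∨
    Cfsg.Geo.InOrthogonalResidualClass H := by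
  have hn : Fintype.card (Fin 8) = 8 := by simp
  rcases o_max hQ (by omega) hH with ⟨W, h1, h2, h3, h⟩ | ⟨W, h0, h1, h2, h3, h4, h⟩ |
    ⟨W, h0, h1, h2, h3, h4, h5, h6, h7, h8, h⟩ | ⟨k, D, h1, h2, h3, h4, h5, h6, h⟩ | ⟨v, h1, h2, h⟩ |
    ⟨t, k, D, h1, h2, h3, h4, h5, h6, h7, h8, h9, h10, h⟩ | ⟨k, D, h1, h2, h3, h4, h5, h⟩ |
    ⟨r, K, h1, h2, h3, h4, h5, h6, h7, h⟩ | ⟨K, h1, h2, h3, h4, h5, h6, h⟩ |
    ⟨a, b, e, P, f₁, f₂, h0, h1, h2, h3, h4, h5, h6, h7, h8, h9, h10, h⟩ |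
    ⟨a, b, e, P, f₁, f₂, h1, h2, h3, h4, h5, h6, h7, h8, h9, h10, h11, h⟩ |
    ⟨F₀, r, P, ζ, h1, h2, h3, h4, h5, h⟩ | ⟨k, h1, h2⟩ | ⟨k, t, e, P, f₁, h0, h1, h2, h3, h4, h5, h6, h⟩ |
    ⟨k, t, h1, h2, h3, h4, h5⟩ | h
  · exact Or.inl (⟨W, h1, h2, h⟩)
  · exact absurd (hn ▸ h0) (by decide)
  · rcases Nat.even_or_odd (Module.finrank F W) with h9 | h9
    swap
    · exact Or.inr (Or.inl (⟨h7 h9, W, h1, h2, h9, h3, h⟩))
    obtain h10 | h10 : Module.finrank F W = 2 ∨ Module.finrank F W = 4 := by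
      obtain ⟨j, hj⟩ := h9; omega
    · by_cases h11 : Cfsg.Geo.IsPlusTypeOn Q W
      · exact Or.inr (Or.inr (Or.inr (Or.inl (⟨h8 h10 h11, W, h10, h3, h11, h⟩))))
      · exact Or.inr (Or.inr (Or.inl (⟨W, h10, h3, h11, h⟩)))
    · exact Or.inr (Or.inr (Or.inr (Or.inr (Or.inl (⟨W, h10, h3, h⟩)))))
  · obtain ⟨j, hj⟩ := h1
    omega
  · exact Or.inr (Or.inr (Or.inr (Or.inr (Or.inr (Or.inl (⟨h1, v, h2, h⟩))))))
  · rw [hn] at h2
    have ht : t ≤ 8 := Nat.le_of_dvd (by omega) ⟨k, h2.symm⟩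
    obtain ⟨rfl, rfl⟩ | ⟨rfl, rfl⟩ | ⟨rfl, rfl⟩ : (t = 2 ∧ k = 4) ∨ (t = 4 ∧ k = 2) ∨ (t = 8 ∧ k = 1) := by
      interval_cases t <;> omega
    · exact absurd ((h6 (by decide) 0).2 (Or.inr (by decide))) hminus
    · exact absurd ((h6 (by decide) 0).2 (Or.inr (by decide))) hminus
    · exact absurd ((h7 (by decide) (by decide) 4 hn).2 (pow_mod_four (h5 (by decide)) (by decide))) hminus
  · exact absurd h4 hminus
  · rw [hn] at h2 h3 h4 h5
    have ht : r ≤ 8 := Nat.le_of_dvd (by omega) h2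
    obtain rfl : r = 2 := by
      interval_cases r <;> first | omega | exact absurd h1 (by decide)
    exact Or.inr (Or.inr (Or.inr (Or.inr (Or.inr (Or.inr (Or.inl (⟨K, h6, h⟩)))))))
  · exact Or.inr (Or.inr (Or.inr (Or.inr (Or.inr (Or.inr (Or.inl (⟨K, h3, h⟩)))))))
  · rw [hn] at h1
    have ht : a ≤ 8 := Nat.le_of_dvd (by omega) ⟨b, h1.symm⟩
    interval_cases a <;> omega
  · exact absurd h6 hminus
  · exact Or.inr (Or.inr (Or.inr (Or.inr (Or.inr (Or.inr (Or.inr (Or.inl (⟨F₀, r, P, ζ, h1, h5 (by simp; decide) hminus, h2, h3, h4, h⟩))))))))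
  · exact absurd h2 hminus
  · rw [hn] at h1
    have h7 := Nat.pow_le_pow_right (n := k) (by omega) h3
    obtain rfl : k = 3 := by nlinarith
    have h8 : t < 3 := (Nat.pow_lt_pow_iff_right (a := 3) (by norm_num)).1 (by omega)
    obtain rfl : t = 2 := by omega
    omega
  · exact absurd h5 hminus
  · exact Or.inr (Or.inr (Or.inr (Or.inr (Or.inr (Or.inr (Or.inr (Or.inr (h))))))))

end Cfsg.Agent.S5826
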