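import Cfsg.Statements.S5887
import Cfsg.Agent.H9.FX1

set_option autoImplicit false
open Cfsg

namespace Cfsg.Agent.S5887

/-- Let F be a finite field, n a positive integer and r a composite number (r > 1, not prime) that divides n with r < n. Let K be a subalgebra of the algebra of n × n matrices over F which is a field of degree r over F (commutative, every non-zero element invertible, of dimension r over F). Then the normaliser N of K in GL_n(F) (a group of type ΓL_{n/r}(F_{q^r})) is not a maximal subgroup of GL_n(F), and N ∩ SL_n(F) is not a maximal subgroup of SL_n(F): both lie properly inside the normaliser of an intermediate subfield of prime degree over F. -/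
theorem result {F : Type*} [Field F]
    [Fintype F] (n r : ℕ) (hr1 : 1 < r) (hrp : ¬ r.Prime) (hrn : r ∣ n) (hlt : r < n)
    (K : Subalgebra F (Matrix (Fin n) (Fin n) F)) (hK : Cfsg.Geo.IsFieldSubalgebra r K) :
    ¬ IsCoatom (Cfsg.Geo.subalgebraNormalizer K) ∧
      ¬ Cfsg.Geo.IsMaximalIn (Cfsg.Geo.specialLinear (Fin n) F)
        (Cfsg.Geo.subalgebraNormalizer K ⊓ Cfsg.Geo.specialLinear (Fin n) F) := by
  open Module Matrix CfsgH5 CfsgH5.Form Cfsg.Geo CfsgH9.FX in
    have : Nonempty (Fin n) := ⟨⟨0, by omega⟩⟩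
    obtain ⟨L, _, _, _, ψ, rfl, rfl⟩ := exists_field hK
    letI : Module L (Fin n → F) := Module.compHom _ ((toLinAlgEquiv' : Matrix (Fin n) (Fin n) F ≃ₐ[F] _).toAlgHom.comp ψ).toRingHom
    have hs : ∀ (c : L) (v : Fin n → F), c • v = ψ c *ᵥ v := fun _ _ => rfl
    have : IsScalarTower F L (Fin n → F) := ⟨fun a c v => by simp [hs, smul_mulVec]⟩
    have : FiniteDimensional L (Fin n → F) := Module.Finite.of_finite
    have hl : 1 < finrank L (Fin n → F) :=
      lt_of_mul_lt_mul_left (a := finrank F L) (by simpa [finrank_mul_finrank] using hlt) (Nat.zero_le _)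
    have : Nontrivial (Fin n → F) := inferInstance
    obtain ⟨w, hw⟩ := exists_ne (0 : Fin n → F)
    obtain ⟨y, hy⟩ := exists_notMem_of_finrank_lt (H := Submodule.span L {w}) ((finrank_span_single_le _).trans_lt hl)
    obtain ⟨χ, h3, h4⟩ := exists_dual_pair hy
    obtain ⟨θ, h5, h6⟩ := exists_dual_pair (notMem_span_symm hw hy)
    have key : ∀ ρ : L →ₗ[F] L, ∃ g ∈ specialLinear (Fin n) F, ∀ c,
        (g.val * ψ c * g⁻¹.val ∈ ψ.range → ρ c = c * ρ 1) ∧ ((∀ x, ρ (c * x) = c * ρ x) → g.val * ψ c * g⁻¹.val = ψ c) := by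
      intro ρ
      obtain ⟨g, h1, h2⟩ := CfsgH9.TX.exists_sl (f := bk w ρ χ) (by simp [h4])
      obtain ⟨a, ha, e⟩ := exists_sl h1
      refine ⟨a, ha, fun c => ⟨fun ⟨d, hd⟩ => ?_, fun h => ?_⟩⟩
      · have := congrArg (· *ᵥ y) (Units.eq_mul_inv_iff_mul_eq _ |>.1 hd)
        simp only [← mulVec_mulVec, e, h2, bk_apply] at this
        change d • _ = c • y + ρ (χ (c • y)) • w at this
        have h7 := congrArg χ this
        have h8 := congrArg θ this
        simp [h3, h4, h5, h6] at h7 h8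
        rw [← h8, h7]
      · rw [Units.mul_inv_eq_iff_eq_mul]
        refine Matrix.ext_iff_mulVec.2 fun v => ?_
        simp only [← mulVec_mulVec, e, h2, bk_apply, ← hs]
        simp [h, mul_smul]
    obtain ⟨s, hs1, hs2, hs3⟩ := Nat.exists_dvd_of_not_prime2 hr1 hrp
    set σ := FiniteField.frobeniusAlgEquivOfAlgebraic F L
    have oσ : orderOf σ = finrank F L := FiniteField.orderOf_frobeniusAlgEquivOfAlgebraic F L
    have hσ : ∀ c, (σ ^ s) c = c ^ Fintype.card F ^ s := fun c => by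
      rw [AlgEquiv.coe_pow]
      exact congrFun (FiniteField.coe_frobeniusAlgEquivOfAlgebraic_iterate F L s) c
    obtain ⟨c₁, hc₁⟩ : ∃ c, (σ ^ s) c ≠ c := by
      by_contra! h
      have := Nat.le_of_dvd (by omega) (oσ ▸ orderOf_dvd_of_pow_eq_one (AlgEquiv.ext h : σ ^ s = 1))
      omega
    obtain ⟨c₂, hc₂, hc₃⟩ : ∃ c, (σ ^ s) c = c ∧ σ c ≠ c := by
      by_contra! h
      have : σ ∈ Subgroup.zpowers (σ ^ s) := by
        rw [← IntermediateField.fixingSubgroup_fixedField (Subgroup.zpowers (σ ^ s)), IntermediateField.mem_fixingSubgroup_iff]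
        exact fun x hx => h x ((IntermediateField.mem_fixedField_iff _ _).1 hx _ (Subgroup.mem_zpowers _))
      have := Nat.le_of_dvd (orderOf_pos _) (orderOf_dvd_of_mem_zpowers this)
      rw [orderOf_pow' _ (by omega), oσ, Nat.gcd_eq_right hs1] at this
      exact absurd this (not_le.2 (Nat.div_lt_self (by omega) hs2))
    set A := (AlgHom.equalizer (σ ^ s).toAlgHom (AlgHom.id F L)).map ψ
    have mA : ∀ k, k ∈ A ↔ k ∈ ψ.range ∧ k ^ Fintype.card F ^ s = k := fun k =>
      ⟨fun ⟨c, h1, h2⟩ => h2 ▸ ⟨⟨c, rfl⟩, (map_pow ψ _ _).symm.trans (congrArg ψ ((hσ c).symm.trans h1))⟩,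
        fun ⟨⟨c, h1⟩, h2⟩ => ⟨c, (hσ c).trans (ψ.toRingHom.injective ((map_pow ψ _ _).trans (h1 ▸ h2))), h1⟩⟩
    have le : subalgebraNormalizer ψ.range ≤ subalgebraNormalizer A := fun g hg k => by
      rw [mA, mA, ← hg k, Units.conj_pow, Units.mul_left_inj, Units.mul_right_inj]
    obtain ⟨g₁, a₁, b₁⟩ := key (σ ^ s).toLinearMap
    obtain ⟨g₂, a₂, b₂⟩ := key σ.toLinearMap
    have n₁ : g₁ ∉ subalgebraNormalizer ψ.range := fun h => hc₁ (by simpa using (b₁ c₁).1 ((h _).1 ⟨c₁, rfl⟩))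
    have n₂ : g₂ ∉ subalgebraNormalizer A := fun h =>
      hc₃ (by simpa using (b₂ c₂).1 ((mA _).1 ((h _).1 ⟨c₂, hc₂, rfl⟩)).1)
    have m₁ : g₁ ∈ subalgebraNormalizer A := fun k => by
      have fx : ∀ k ∈ A, g₁.val * k * g₁⁻¹.val = k := by
        rintro _ ⟨c, hc, rfl⟩
        exact (b₁ c).2 fun x => (map_mul (σ ^ s) c x).trans (congrArg (· * _) hc)
      refine ⟨fun h => (fx k h).symm ▸ h, fun h => ?_⟩
      have := fx _ h
      rw [Units.mul_left_inj, Units.mul_right_inj] at this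
      exact this ▸ h
    refine ⟨fun h => n₂ ((h.2 _ (lt_of_le_not_ge le fun k => n₁ (k m₁))).ge trivial), fun h => ?_⟩
    rcases h.2 _ (inf_le_inf_right _ le) inf_le_right with e | e
    · exact n₁ (e.le ⟨m₁, a₁⟩).1
    · exact n₂ (e.ge a₂).1

end Cfsg.Agent.S5887
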