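import Cfsg.Statements.S5890
import Cfsg.Agent.H1.Dk6

set_option autoImplicit false
open Cfsg

namespace Cfsg.Agent.S5890

/-- Let F be a finite field with q ≥ 4 elements, let L ≤ PGL₂(F) be the image of SL₂(F) (a copy of PSL₂(F), of index gcd(2, q − 1)), and let M be a maximal subgroup of PGL₂(F) that does not contain L. Suppose q ∉ {7, 9, 11} and that q is not a prime congruent to ±11 or ±19 modulo 40. Then M ∩ L is a maximal subgroup of L. (For the excluded q there are maximal subgroups of PGL₂(q) — dihedral groups of order 12 and 16 at q = 7, of order 20 and 16 at q = 9, of order 20 at q = 11, and S₄ at the excluded primes — whose intersection with L is not maximal in L.) -/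
theorem result {F : Type*} [Field F]
    [Fintype F] (h4 : 4 ≤ Fintype.card F) (h7 : Fintype.card F ≠ 7) (h9 : Fintype.card F ≠ 9) (h11 : Fintype.card F ≠ 11)
    (h40 : (Fintype.card F).Prime → Fintype.card F % 40 ∉ ({11, 19, 21, 29} : Finset ℕ))
    (M : Subgroup (Matrix.ProjGenLinGroup (Fin 2) F)) (hM : IsCoatom M)
    (hML : ¬ (Matrix.ProjGenLinGroup.mk.comp Matrix.SpecialLinearGroup.toGL).range ≤ M) :
    IsCoatom ((M ⊓ (Matrix.ProjGenLinGroup.mk.comp Matrix.SpecialLinearGroup.toGL).range).subgroupOf
      (Matrix.ProjGenLinGroup.mk.comp Matrix.SpecialLinearGroup.toGL).range) := by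
  open Subgroup CfsgH1 CfsgH1.L2 CfsgH2 in
  classical
  suffices h : IsCoatom (M.comap io) by
    let e : P2 F ≃* LP F := eLP
    convert (OrderIso.isCoatom_iff e.mapSubgroup _).2 h using 1
    ext x
    obtain ⟨x, rfl⟩ := e.surjective x
    exact (and_iff_left (e x).2).trans (mem_map_iff_mem (f := e.toMonoidHom) (K := M.comap io) e.injective).symm
  rcases Nat.even_or_odd (Fintype.card F) with o | o
  · exact isCoatom_comap_of_surjective (MonoidHom.range_eq_top.1 (range_io.trans (LP_top o))) hM
  have := Nat.odd_iff.1 o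
  rcases maxG o h4 hM hML with ⟨c, rfl⟩ | ⟨w, hw, rfl, k⟩ | ⟨k1, k2, -, -, k3, k4⟩ | ⟨K, _, _, f, c, r, k1, k2, k3, rfl⟩
  · obtain ⟨s, e⟩ := cj_BP c
    rw [e, comap_io_cj, comap_io_BP]
    exact coatom_cj max_B s
  · obtain ⟨s, hs, e, c⟩ := hw.exists_S h4
    rw [← e, comap_TN hs]
    have := hw.card_PG
    exact max_T hs (by omega)
  · haveI := Fact.mk k1
    haveI := charP_of_card_eq_prime (R := F) rfl
    have := h40 k1
    simp only [Finset.mem_insert, Finset.mem_singleton] at this
    exact max_A4 _ rfl (by omega) k2 (by omega) k3 k4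
  · exact max_RS f k1 k3 o (by rintro rfl; exact absurd k2 (by decide)) ((map_comap_io' _).trans (inf_eq_RS f o k3 k2 c))

end Cfsg.Agent.S5890
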