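import Cfsg.Statements.S5892
import Cfsg.Agent.H1.Dk6

set_option autoImplicit false
open Cfsg

namespace Cfsg.Agent.S5892

/-- Let F be a finite field of odd order q ≥ 5 and characteristic p, and let M be a maximal subgroup of PSL₂(F). Then one of the following holds: |M| = q(q − 1)/2 (the stabiliser of a point of the projective line); q ≥ 13 and M is dihedral of order q − 1; q ∉ {7, 9} and M is dihedral of order q + 1; q = q₀² and M ≅ PGL₂(F₀) with |F₀| = q₀; q = q₀^r for an odd prime r and M ≅ PSL₂(F₀) with |F₀| = q₀; q ≡ ±1 (mod 10) with q = p or q = p², p ≡ ±3 (mod 10), and M ≅ A₅; q = p ≡ ±3 (mod 8), q ≢ ±1 (mod 10), and M ≅ A₄; or q = p ≡ ±1 (mod 8) and M ≅ S₄. -/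
theorem result {F : Type*} [Field F] [Fintype F] (p : ℕ)
    [Fact p.Prime] [CharP F p] (hodd : Odd (Fintype.card F)) (h5 : 5 ≤ Fintype.card F)
    (M : Subgroup (Matrix.ProjectiveSpecialLinearGroup (Fin 2) F)) (hM : IsCoatom M) :
    2 * Nat.card M = Fintype.card F * (Fintype.card F - 1) ∨
    (13 ≤ Fintype.card F ∧ (∃ k : ℕ, 2 * k = Fintype.card F - 1 ∧ Nonempty (M ≃* DihedralGroup k))) ∨
    (Fintype.card F ≠ 7 ∧ Fintype.card F ≠ 9 ∧ (∃ k : ℕ, 2 * k = Fintype.card F + 1 ∧ Nonempty (M ≃* DihedralGroup k))) ∨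
    (∃ (F₀ : Type) (_ : Field F₀) (_ : Fintype F₀), Fintype.card F = Fintype.card F₀ ^ 2 ∧
        Nonempty (M ≃* Matrix.ProjGenLinGroup (Fin 2) F₀)) ∨
    (∃ (F₀ : Type) (_ : Field F₀) (_ : Fintype F₀) (r : ℕ), r.Prime ∧ Odd r ∧ Fintype.card F = Fintype.card F₀ ^ r ∧
        Nonempty (M ≃* Matrix.ProjectiveSpecialLinearGroup (Fin 2) F₀)) ∨
    ((Fintype.card F % 10 = 1 ∨ Fintype.card F % 10 = 9) ∧
        (Fintype.card F = p ∨ (Fintype.card F = p ^ 2 ∧ (p % 10 = 3 ∨ p % 10 = 7))) ∧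
        Nonempty (M ≃* alternatingGroup (Fin 5))) ∨
    (Fintype.card F = p ∧ (p % 8 = 3 ∨ p % 8 = 5) ∧ ¬ (p % 10 = 1 ∨ p % 10 = 9) ∧
        Nonempty (M ≃* alternatingGroup (Fin 4))) ∨
    (Fintype.card F = p ∧ (p % 8 = 1 ∨ p % 8 = 7) ∧ Nonempty (M ≃* Equiv.Perm (Fin 4))) := by
  open Subgroup CfsgH1 CfsgH1.L2 CfsgH2 in
  classical
  have o := Nat.odd_iff.1 hodd
  rcases dicksonP' p hM.1 with ⟨w, hw, k⟩ | ⟨c, k⟩ | k | k
  · obtain rfl := TN_eq (by omega) hM hw k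
    have n := mt (T_not_max hw) (not_not.2 hM)
    have e := hw.dihedral
    rw [d_odd hodd] at e
    rcases hw.card_cases with c | c
    · exact .inr (.inl ⟨by omega, _, by omega, e⟩)
    · exact .inr (.inr (.inl ⟨by omega, by omega, _, by omega, e⟩))
  · have := card_BB (F := F)
    rw [d_odd hodd, ← card_cj c, ← BB_eq hM k, mul_comm] at this
    exact .inl this
  · iterate 5 right
    rcases k.2.1 with c | c | c
    · obtain ⟨e, V, hV, rfl⟩ := max_klein p hodd (by omega) hM k (.inl c)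
      have h8 : Fintype.card F % 8 = 3 ∨ Fintype.card F % 8 = 5 := by_contra fun h => by
        have := c.symm.trans ((card_normV hodd hV).2.2 (by omega)); omega
      exact .inr (.inl ⟨e, e ▸ h8, fun h => max_A4_cond h8 (e ▸ h) hV hM, k.1.alt4 c⟩)
    · obtain ⟨e, V, hV, rfl⟩ := max_klein p hodd (by omega) hM k (.inr c)
      have h8 : Fintype.card F % 8 = 1 ∨ Fintype.card F % 8 = 7 := by_contra fun h => by
        have := c.symm.trans ((card_normV hodd hV).2.1 (by omega)); omega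
      exact .inr (.inr ⟨e, e ▸ h8, k.1.perm4 c⟩)
    · exact .inl ⟨(max_A5_cond p hodd hM k c).1, (max_A5_cond p hodd hM k c).2, k.1.alt5 c⟩
  · obtain ⟨K, j, i, r, -, k1, k2, ⟨-, rfl, k⟩ | ⟨k3, k⟩⟩ := max_sub hM k
    · exact .inr (.inr (.inr (.inl ⟨K, j, i, k2.symm, k⟩)))
    · exact .inr (.inr (.inr (.inr (.inl ⟨K, j, i, r, k1, k3.resolve_left (Nat.not_even_iff_odd.2 hodd), k2.symm, k⟩))))

end Cfsg.Agent.S5892
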