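import Cfsg.Statements.S5905

set_option autoImplicit false
open Cfsg

namespace Cfsg.Agent.S5905

open Subgroup Equiv
theorem mem_part {Ω ι : Type*} (f : Ω → ι) (g : Perm Ω) :
    g ∈ closure {g : Perm Ω | ∀ x y : Ω, f x = f y ↔ f (g x) = f (g y)} ↔ ∀ x y : Ω, f x = f y ↔ f (g x) = f (g y) := by
  refine ⟨fun h => ?_, fun h => subset_closure h⟩
  induction h using closure_induction with
  | mem _ h => exact h
  | one => exact fun _ _ => Iff.rfl
  | mul _ _ _ _ h h' => exact fun x y => (h' x y).trans (h _ _)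
  | inv g _ h => exact fun x y => by simpa using (h (g⁻¹ x) (g⁻¹ y)).symm

/-- Let Ω be a finite set and f : Ω → Fin b a map onto b ≥ 2 labels whose fibres all have the same size a ≥ 2 (a partition of Ω into b blocks of size a, so |Ω| = ab). Then the stabilizer of this partition in the symmetric group on Ω — the permutations g such that x and y lie in the same block exactly when g x and g y do, a group isomorphic to the imprimitive wreath product S_a ≀ S_b — is a maximal subgroup of the symmetric group. -/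
theorem result {Ω : Type*} [Fintype Ω] [DecidableEq Ω] (a b : ℕ) (ha : 2 ≤ a) (hb : 2 ≤ b)
    (f : Ω → Fin b) (hf : ∀ i : Fin b, Nat.card {x : Ω // f x = i} = a) :
    IsCoatom (Subgroup.closure {g : Equiv.Perm Ω | ∀ x y : Ω, f x = f y ↔ f (g x) = f (g y)}) := by
  have e := Equiv.ofFiberEquiv_map (f := f) (g := (Prod.fst : Fin b × Fin a → Fin b)) fun i => Classical.choice (Finite.card_eq.1 (by
    rw [hf, Nat.card_congr (Equiv.prodSubtypeFstEquivSubtypeProd (p := (· = i)))]; simp))
  generalize Equiv.ofFiberEquiv _ = φ at e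
  have hs : ∀ x y, f x = f y → swap x y ∈ closure {g : Perm Ω | ∀ x y : Ω, f x = f y ↔ f (g x) = f (g y)} := fun x y h =>
    subset_closure fun u v => by rw [apply_swap_eq_self h, apply_swap_eq_self h]
  refine ⟨fun h => ?_, fun K hK => ?_⟩
  · have := (mem_part f _).1 (h.ge (mem_top (swap (φ.symm (⟨0, by omega⟩, ⟨0, by omega⟩)) (φ.symm (⟨1, by omega⟩, ⟨0, by omega⟩)))))
      (φ.symm (⟨0, by omega⟩, ⟨0, by omega⟩)) (φ.symm (⟨0, by omega⟩, ⟨1, by omega⟩))
    rw [swap_apply_left, swap_apply_of_ne_of_ne (by simp) (by simp)] at this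
    simp [← e] at this
  obtain ⟨u, v, h1, h2⟩ : ∃ u v, f u ≠ f v ∧ swap u v ∈ K := by
    obtain ⟨g, hg, h⟩ := SetLike.exists_of_lt hK
    obtain ⟨x, y, h⟩ : ∃ x y, ¬ (f x = f y ↔ f (g x) = f (g y)) := by simpa [mem_part] using h
    by_cases c : f x = f y
    · exact ⟨g x, g y, by tauto, swap_apply_apply g x y ▸ mul_mem (mul_mem hg (hK.le (hs _ _ c))) (inv_mem hg)⟩
    · refine ⟨x, y, c, ?_⟩
      have := mul_mem (mul_mem (inv_mem hg) (hK.le (hs (g x) (g y) (by tauto)))) hg
      simpa [swap_apply_apply, mul_assoc] using this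
  rw [eq_top_iff, ← Perm.closure_isSwap, closure_le]
  rintro _ ⟨s, t, -, rfl⟩
  by_cases c : f s = f t
  · exact hK.le (hs _ _ c)
  obtain ⟨τ, h3, h4⟩ := (MulAction.is_two_pretransitive_iff.1 (Perm.isMultiplyPretransitive (Fin b) 2)) h1 c
  set w := φ.symm.permCongr (prodCongr τ (Equiv.refl _))
  have hw : ∀ x, f (w x) = τ (f x) := fun x => by simp [w, ← e]
  have : w ∈ K := hK.le (subset_closure fun x y => by simp [hw])
  exact SubmonoidClass.swap_mem_trans K (hK.le (hs _ _ ((hw u).trans h3).symm)) (SubmonoidClass.swap_mem_trans K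
    (swap_apply_apply w u v ▸ mul_mem (mul_mem this h2) (inv_mem this)) (hK.le (hs _ _ ((hw v).trans h4))))

end Cfsg.Agent.S5905
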