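import Cfsg.Statements.S5894
import Cfsg.Agent.S5905
import Cfsg.Agent.H3.Sn2

set_option autoImplicit false
open Cfsg

namespace Cfsg.Agent.S5894

open Subgroup Equiv Equiv.Perm MulAction
open scoped Pointwise

/-- For every m ≥ 2 the symmetric group on 2m letters has a maximal subgroup M of index 2m together with a maximal subgroup H of M that is not second maximal: some maximal subgroup K of the symmetric group contains H without H being maximal in K. (One may take M the stabiliser of a letter, H ≅ S_m × S_{m−1} inside it, and K ≅ S_m ≀ S₂ the stabiliser of a partition into two m-sets, with H < S_m × S_m < K.) So the prime-index hypothesis in the second-maximality criterion cannot be relaxed to any even index ≥ 4. -/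
theorem result (m : ℕ) (hm : 2 ≤ m) :
    ∃ M H K : Subgroup (Equiv.Perm (Fin (2 * m))), IsCoatom M ∧ M.index = 2 * m ∧ H ≤ M ∧ IsCoatom (H.subgroupOf M) ∧
      IsCoatom K ∧ H ≤ K ∧ ¬ IsCoatom (H.subgroupOf K) := by
  set φ : Fin (2 * m) ≃ Fin 2 × Fin m := finProdFinEquiv.symm
  set z : Fin m := ⟨0, by omega⟩
  set w : Fin m := ⟨1, by omega⟩
  have zw : z ≠ w := by simp [z, w]
  set o := φ.symm (0, z) with ho
  have e : (ofSubtype (p := (· ≠ o))).range = stabilizer (Perm (Fin (2 * m))) o := by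
    ext g
    rw [mem_range_ofSubtype_iff, mem_stabilizer_iff]
    exact ⟨fun h => by_contra fun e => h (Finset.mem_coe.2 (mem_support.2 e)) rfl,
      fun h x hx e => mem_support.1 (Finset.mem_coe.1 hx) (e ▸ h)⟩
  have c : ∀ i, Nat.card {x // (φ x).1 = i} = m := fun i => by
    rw [Nat.card_congr (φ.subtypeEquiv (q := fun p => p.1 = i) fun _ => Iff.rfl),
      Nat.card_congr (Equiv.prodSubtypeFstEquivSubtypeProd (p := (· = i)))]
    simp
  set s : Set {x // x ≠ o} := {x | (φ x).1 = 1}
  have h1 : IsCoatom (stabilizer (Perm {x // x ≠ o}) s) := isCoatom_stabilizer ⟨⟨φ.symm (1, z), by simp [ho]⟩, by simp [s]⟩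
    ⟨⟨φ.symm (0, w), by simp [ho, zw.symm]⟩, by simp [s]⟩ (by simp; omega)
  let J : Subgroup (Perm (Fin (2 * m))) :=
    { carrier := {g | ∀ x, (φ (g x)).1 = (φ x).1}, one_mem' := fun _ => rfl
      mul_mem' := fun h h' x => (h _).trans (h' x), inv_mem' := fun {g} h x => by simpa using (h (g⁻¹ x)).symm }
  have h2 : (stabilizer (Perm {x // x ≠ o}) s).map ofSubtype ≤ J := by
    rintro _ ⟨g, hg, rfl⟩ x
    by_cases hx : x ≠ o
    · have := mem_stabilizer_set.1 hg ⟨x, hx⟩
      rw [ofSubtype_apply_of_mem g hx]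
      exact (by decide : ∀ a b : Fin 2, (a = 1 ↔ b = 1) → a = b) _ _ this
    · rw [ofSubtype_apply_of_not_mem g hx]
  have h3 : J ≤ closure {g : Perm (Fin (2 * m)) | ∀ x y, (φ x).1 = (φ y).1 ↔ (φ (g x)).1 = (φ (g y)).1} := fun g hg =>
    subset_closure fun x y => by rw [hg, hg]
  have : Nontrivial (Fin (2 * m)) := Fin.nontrivial_iff_two_le.2 (by omega)
  refine ⟨(ofSubtype (p := (· ≠ o))).range, _, _, e ▸ IsPreprimitive.isCoatom_stabilizer_of_isPreprimitive _ o,
    by rw [e, CfsgPm.index_stab, Fintype.card_fin], map_le_range _ _, ?_, S5905.result m 2 hm le_rfl _ c, h2.trans h3, fun h => ?_⟩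
  · convert ((MonoidHom.ofInjective ofSubtype_injective).mapSubgroup.isCoatom_iff _).2 h1
    ext ⟨_, g, rfl⟩
    exact ⟨fun ⟨k, hk, h⟩ => ⟨k, hk, Subtype.ext h⟩, fun ⟨k, hk, h⟩ => ⟨k, hk, congrArg Subtype.val h⟩⟩
  have h4 : swap o (φ.symm (0, w)) ∈ J := fun x => apply_swap_eq_self (v := fun x => (φ x).1) (by simp [ho]) x
  have := (subgroupOf_eq_top.1 (h.2 _ (lt_of_le_of_ne (subgroupOf_mono _ h2) fun h => ?_))
    (subset_closure (show φ.symm.permCongr (prodCongr (swap 0 1) (Equiv.refl _)) ∈ _ from fun x y => by simp))) o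
  · simp [ho] at this
  · have := (e.le (map_le_range _ _ (h.ge (show (⟨_, h3 h4⟩ : Subgroup.closure _) ∈ _ from h4))) :)
    simp [ho, zw.symm] at this

end Cfsg.Agent.S5894
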