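import Cfsg.Statements.S5895
import Cfsg.Agent.H5.Restrict
import Cfsg.Agent.H5.Lin

set_option autoImplicit false
open Cfsg

namespace Cfsg.Agent.S5895

/-- For every prime p and every d ≥ 2 there is a finite group G with a maximal subgroup M of index p^d and a maximal subgroup H of M that is not second maximal in G: some maximal subgroup K of G contains H without H being maximal in K. (One may take G the affine group V ⋊ GL(V) of V = 𝔽_p^d, M = GL(V), H the stabiliser in M of a line W of V, and K = V ⋊ H, with H < W ⋊ H < K.) So the prime-index hypothesis in the second-maximality criterion cannot be relaxed to prime-power index. -/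
theorem result (p d : ℕ) (hp : p.Prime)
    (hd : 2 ≤ d) :
    ∃ (G : Type) (_ : Group G) (_ : Finite G) (M H K : Subgroup G), IsCoatom M ∧ M.index = p ^ d ∧ H ≤ M ∧
      IsCoatom (H.subgroupOf M) ∧ IsCoatom K ∧ H ≤ K ∧ ¬ IsCoatom (H.subgroupOf K) := by
  haveI := Fact.mk hp
  have co : ∀ {G : Type} [Group G] (H : Subgroup G), (∃ g, g ∉ H) →
      (∀ g ∉ H, ∀ g' ∉ H, ∃ s ∈ H, (s * g)⁻¹ * g' ∈ H) → IsCoatom H := fun H ⟨g, hg⟩ h =>
    ⟨fun e => hg (e.ge trivial), fun L hL => eq_top_iff.2 fun x _ => by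
      obtain ⟨y, h1, h2⟩ := SetLike.exists_of_lt hL
      by_cases hx : x ∈ H
      · exact hL.le hx
      obtain ⟨s, h3, h4⟩ := h y h2 x hx
      simpa only [mul_inv_cancel_left] using mul_mem (mul_mem (hL.le h3) h1) (hL.le h4)⟩
  let V := Fin d → ZMod p
  have hV : Module.finrank (ZMod p) V = d := by simp [V]
  have hc : Nat.card V = p ^ d := by simp [V]
  haveI : Finite (V ≃ₗ[ZMod p] V) := Finite.of_injective _ DFunLike.coe_injective
  let φ : (V ≃ₗ[ZMod p] V) →* MulAut (Multiplicative V) :=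
    ⟨⟨fun g => AddEquiv.toMultiplicative g.toAddEquiv, rfl⟩, fun _ _ => rfl⟩
  have hφ : ∀ g v, φ g v = .ofAdd (g v.toAdd) := fun _ _ => rfl
  have hφ' : ∀ g v, (φ g).symm v = .ofAdd (g.symm v.toAdd) := fun _ _ => rfl
  haveI := Module.nontrivial_of_finrank_pos (R := ZMod p) (M := V) (by omega)
  obtain ⟨w, hw⟩ := exists_ne (0 : V)
  obtain ⟨w', hw'⟩ := CfsgH5.exists_notMem_of_finrank_lt (H := Submodule.span (ZMod p) {w})
    ((finrank_span_singleton hw).trans_lt (by omega))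
  let S := CfsgH5.stab (ZMod p) (Submodule.span (ZMod p) {w} : Set V)
  have hS : ∀ g, g ∈ S ↔ g w ∈ Submodule.span (ZMod p) {w} := fun g =>
    ⟨fun h => CfsgH5.stab_apply h (Submodule.mem_span_singleton_self w), fun h => CfsgH5.mem_stab_of_le fun v hv => by
      obtain ⟨c, rfl⟩ := Submodule.mem_span_singleton.1 hv
      simpa using Submodule.smul_mem _ c h⟩
  have h1 : ∀ {a b : V}, a ≠ 0 → b ≠ 0 → ∃ g : V ≃ₗ[ZMod p] V, g a = b := fun {x y} a b =>
    (CfsgH5.exists_gl_map_fam (a := fun _ : Unit => x) (b := fun _ => y) (LinearIndependent.of_subsingleton () a)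
      (LinearIndependent.of_subsingleton () b)).imp fun _ h => h ()
  have h2 : ∀ g ∉ S, ∀ g' ∉ S, ∃ s ∈ S, (s * g)⁻¹ * g' ∈ S := fun g a g' b => by
    have li : ∀ g ∉ S, LinearIndependent (ZMod p) ![w, g w] := fun g a => (LinearIndependent.pair_iff' hw).2
      fun c e => a ((hS g).2 (Submodule.mem_span_singleton.2 ⟨c, e⟩))
    obtain ⟨s, e⟩ := CfsgH5.exists_gl_map_fam (li g a) (li g' b)
    have e0 : s w = w := e 0
    have e1 : s (g w) = g' w := e 1
    exact ⟨s, (hS s).2 (by simp [e0]), (hS _).2 (by simp [← e1])⟩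
  obtain ⟨t, ht⟩ := h1 hw (fun e => hw' (by simp [e]) : w' ≠ 0)
  have ht' : t ∉ S := fun e => hw' (ht ▸ (hS t).1 e)
  let M := (SemidirectProduct.inr (φ := φ)).range
  have hM : ∀ g, g ∈ M ↔ g.left = 1 := fun g => ⟨by rintro ⟨a, rfl⟩; rfl, fun e => ⟨g.right, by ext <;> simp [e]⟩⟩
  let K := S.comap (SemidirectProduct.rightHom (φ := φ))
  have hK : ∀ g, g ∈ K ↔ g.right ∈ S := fun _ => Iff.rfl
  haveI : Finite (Multiplicative V ⋊[φ] (V ≃ₗ[ZMod p] V)) := Finite.of_equiv _ SemidirectProduct.equivProd.symm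
  refine ⟨_, _, this, M, M ⊓ K, K, co _ ⟨.inl (.ofAdd w), by simp [hM, hw]⟩ fun g a g' b => ?_, ?_, inf_le_left,
    co _ ⟨⟨.inr t, t, rfl⟩, fun e => ht' e.2⟩ fun g a g' b => ?_, co _ ⟨.inr t, ht'⟩ fun g a g' b => ?_, inf_le_right,
    fun e => ?_⟩
  · obtain ⟨s, e⟩ := h1 (a := g.left.toAdd) (b := g'.left.toAdd) (by simpa [hM] using a) (by simpa [hM] using b)
    exact ⟨.inr s, ⟨s, rfl⟩, by simp [hM, hφ', ← e]⟩
  · have := M.index_mul_card
    rw [Nat.card_congr SemidirectProduct.equivProd, Nat.card_prod,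
      ← Nat.card_congr (MonoidHom.ofInjective SemidirectProduct.inr_injective).toEquiv] at this
    exact (Nat.eq_of_mul_eq_mul_right Nat.card_pos this).trans hc
  · obtain ⟨s, c, e⟩ := h2 g.1.right (fun e => a ⟨g.2, e⟩) g'.1.right fun e => b ⟨g'.2, e⟩
    exact ⟨⟨.inr s, s, rfl⟩, ⟨⟨s, rfl⟩, c⟩, ((⟨.inr s, s, rfl⟩ * g)⁻¹ * g').2, by simpa [hK] using e⟩
  · obtain ⟨s, c, e⟩ := h2 g.right a g'.right b
    exact ⟨.inr s, c, by simpa [hK] using e⟩
  let L : Subgroup K := ⟨⟨⟨{g | g.1.left.toAdd ∈ Submodule.span (ZMod p) {w}}, fun {a b} c e => by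
    simpa [hφ] using add_mem c (CfsgH5.stab_apply a.2 e)⟩, by simp⟩, fun {a} c => by
    simpa [hφ'] using CfsgH5.stab_apply (inv_mem (a.2 : a.1.right ∈ S)) (neg_mem c)⟩
  refine hw' ((e.2 L (lt_of_le_of_ne (fun g a => ?_) fun e' => hw ?_)).ge
    (Subgroup.mem_top ⟨.inl (.ofAdd w'), S.one_mem⟩))
  · change _ ∈ Submodule.span _ _
    rw [show g.1.left = 1 from (hM _).1 a.1]
    exact zero_mem _
  · exact (hM _).1 (e'.ge (show (⟨.inl (.ofAdd w), S.one_mem⟩ : K) ∈ L from Submodule.mem_span_singleton_self w)).1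

end Cfsg.Agent.S5895
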