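import Cfsg.Statements.S5896
import Cfsg.Agent.H2.Focal
import Cfsg.Agent.H2.PGroup
import Cfsg.Agent.H1.Coprime
import Cfsg.Agent.H3.Burnside

set_option autoImplicit false
open Cfsg

namespace Cfsg.Agent.S5896
open Subgroup CfsgH2
open scoped commutatorElement

def der {G : Type*} [Group G] (K : Subgroup G) : ℕ → Subgroup G
  | 0 => K
  | n + 1 => ⁅der K n, der K n⁆

theorem der_map {G G' : Type*} [Group G] [Group G'] (f : G →* G') (K : Subgroup G) (n : ℕ) :
    (der K n).map f = der (K.map f) n := by
  induction n with
  | zero => rfl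
  | succ n ih => rw [der, der, Subgroup.map_commutator, ih]

theorem der_top {G : Type*} [Group G] (n : ℕ) : der (⊤ : Subgroup G) n = derivedSeries G n := by
  induction n with
  | zero => rfl
  | succ n ih => rw [der, ih, derivedSeries_succ]

theorem map_ds {G : Type*} [Group G] (K : Subgroup G) (n : ℕ) :
    (derivedSeries K n).map K.subtype = der K n := by
  rw [← der_top, der_map, ← MonoidHom.range_eq_map, range_subtype]

theorem der_mono {G : Type*} [Group G] {K L : Subgroup G} (h : K ≤ L) (n : ℕ) : der K n ≤ der L n := by
  induction n with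
  | zero => exact h
  | succ n ih => exact commutator_mono ih ih

theorem der_le {G : Type*} [Group G] (K : Subgroup G) (n : ℕ) : der K n ≤ K := by
  induction n with
  | zero => exact le_rfl
  | succ n ih => exact commutator_le_of_le ih ih

theorem le_norm_der {G : Type*} [Group G] (K : Subgroup G) (n : ℕ) : K ≤ normalizer (der K n : Set G) := by
  induction n with
  | zero => exact le_normalizer
  | succ n ih => exact le_normalizer_commutator' ih ih

theorem step {G Γ : Type} [Group G] [Finite G] [Group Γ] [Finite Γ] (π : Γ →* G) (s : G →* Γ)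
    (hs : ∀ g, π (s g) = g) (hcop : (Nat.card G).Coprime (Nat.card π.ker)) (hsol : Group.IsSolvable π.ker)
    (hf : ∀ g, s g ∈ centralizer (π.ker : Set Γ) → g = 1) (H : Subgroup G) (d : ℕ)
    (h1 : _root_.commutator G = ⊤) (h2 : IsCoatom H) (h3 : Group.IsSolvable H) (h4 : derivedSeries H d ≠ ⊥) :
    ∃ (G : Type) (_ : Group G) (_ : Finite G) (H : Subgroup G), _root_.commutator G = ⊤ ∧ IsCoatom H ∧
      Group.IsSolvable H ∧ derivedSeries H (d + 1) ≠ ⊥ := by
  have sinj : Function.Injective s := Function.LeftInverse.injective hs
  set B := π.ker with hB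
  set S := s.range with hS
  have cc : ∀ A : Subgroup Γ, A ≤ S → ⁅⁅B, A⁆, A⁆ = ⁅B, A⁆ := fun A hA =>
    CfsgH1.commutator_commutator_eq le_normalizer_of_normal
      (hcop.coprime_dvd_left ((card_dvd_of_le hA).trans (card_range_dvd s)))
  set N := ⁅B, S⁆ ⊔ S with hN
  have hSS : ⁅S, S⁆ = S := by
    rw [hS, MonoidHom.range_eq_map, ← Subgroup.map_commutator, ← _root_.commutator, h1]
  have hNN : ⁅N, N⁆ = N := by
    refine le_antisymm (commutator_le_of_le le_rfl le_rfl) (sup_le ?_ ?_)
    · exact (cc S le_rfl).ge.trans (commutator_mono le_sup_left le_sup_right)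
    · exact hSS.ge.trans (commutator_mono le_sup_right le_sup_right)
  let f : N →* G := π.comp N.subtype
  have fs : Function.Surjective f := fun g => ⟨⟨s g, mem_sup_right ⟨g, rfl⟩⟩, hs g⟩
  refine ⟨N, inferInstance, inferInstance, H.comap f, ?_, isCoatom_comap_of_surjective fs h2, ?_, ?_⟩
  · apply map_injective N.subtype_injective
    rw [_root_.commutator, Subgroup.map_commutator, ← MonoidHom.range_eq_map, range_subtype, hNN]
  · let ι : (f.subgroupComap H).ker →* B :=
      MonoidHom.codRestrict (N.subtype.comp ((H.comap f).subtype.comp (f.subgroupComap H).ker.subtype)) B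
        fun x => congrArg Subtype.val x.2
    haveI : Group.IsSolvable (f.subgroupComap H).ker := Group.isSolvable_of_isSolvable_injective (f := ι) fun a b e =>
      Subtype.ext (Subtype.ext (Subtype.ext (congrArg (fun x : B => (x : Γ)) e)))
    exact Group.isSolvable_of_ker_le_range (f.subgroupComap H).ker.subtype (f.subgroupComap H)
      (by rw [range_subtype])
  · intro h0
    set H' := (H.comap f).map N.subtype with hH'
    have e0 : der H' (d + 1) = ⊥ := by rw [hH', ← der_map, ← map_ds, h0, Subgroup.map_bot, Subgroup.map_bot]
    set A := der (H.map s) d with hA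
    have l1 : H.map s ≤ H' := by
      rintro _ ⟨g, hg, rfl⟩
      exact ⟨⟨s g, mem_sup_right ⟨g, rfl⟩⟩, show π (s g) ∈ H by rwa [hs], rfl⟩
    have l2 : ⁅B, S⁆ ≤ H' := fun b hb => ⟨⟨b, mem_sup_left hb⟩,
      show π b ∈ H by rw [MonoidHom.mem_ker.1 (commutator_le_left B S hb)]; exact one_mem _, rfl⟩
    have l3 : A ≤ S := (der_le _ _).trans (map_le_range s H)
    have l4 : A ≤ der H' d := der_mono l1 d
    have l5 : ⁅B, A⁆ ≤ der H' d := by
      rw [← cc A l3]
      refine (commutator_mono ((commutator_mono le_rfl l3).trans l2) l4).trans ?_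
      rw [commutator_comm]
      exact commutator_le_left_of_normalizer (le_norm_der H' d)
    have l6 : ⁅B, A⁆ = ⊥ := by
      rw [← cc A l3, eq_bot_iff, ← e0]
      exact commutator_mono l5 l4
    rw [commutator_comm, commutator_eq_bot_iff_le_centralizer] at l6
    apply h4
    rw [← map_eq_bot_iff_of_injective _ H.subtype_injective, map_ds, eq_bot_iff]
    intro g hg
    exact hf g (l6 (hA ▸ der_map s H d ▸ mem_map_of_mem s hg))

/-- Finite perfect groups have solvable maximal subgroups of unbounded derived length: for every d there is a finite perfect group G (equal to its commutator subgroup) with a solvable maximal subgroup H whose derived length exceeds d, i.e. the d-th term of the derived series of H is non-trivial. (Take the derived subgroup of a wreath product S ≀ A₅ with S solvable of large derived length, and H the preimage of a maximal subgroup of A₅.) -/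
theorem result (d : ℕ) :
    ∃ (G : Type) (_ : Group G) (_ : Finite G) (H : Subgroup G), commutator G = ⊤ ∧ IsCoatom H ∧ Group.IsSolvable H ∧
      derivedSeries H d ≠ ⊥ := by
  induction d with
  | zero =>
    haveI : Fact (Nat.Prime 5) := ⟨by norm_num⟩
    haveI := alternatingGroup.isPretransitive_of_three_le_card (Fin 5) (by simp)
    have h1 : (MulAction.stabilizer (alternatingGroup (Fin 5)) (0 : Fin 5)).index = 5 := by
      rw [MulAction.index_stabilizer_of_transitive]; simp
    have h2 := (MulAction.stabilizer (alternatingGroup (Fin 5)) (0 : Fin 5)).card_mul_index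
    have h3 : Nat.card (alternatingGroup (Fin 5)) = 60 := by
      have := two_mul_card_alternatingGroup (α := Fin 5)
      rw [Fintype.card_perm, Fintype.card_fin, ← Nat.card_eq_fintype_card] at this
      rw [show Nat.factorial 5 = 120 by decide] at this
      omega
    rw [h1, h3] at h2
    have h4 : Nat.card (MulAction.stabilizer (alternatingGroup (Fin 5)) (0 : Fin 5)) = 12 := by omega
    refine ⟨alternatingGroup (Fin 5), inferInstance, inferInstance, _, commutator_alternatingGroup_eq_top (by simp),
      isCoatom_of_index_prime h1, CfsgH3.isSolvable_of_card_dvd_pow_mul_pow (p := 2) (q := 3) (a := 2) (b := 1)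
        Nat.prime_two Nat.prime_three (by rw [h4]; norm_num), fun e => ?_⟩
    have := congrArg (fun K : Subgroup _ => Nat.card K) e
    simp only [derivedSeries_zero, card_top, card_bot, h4] at this
    omega
  | succ d ih =>
    classical
    obtain ⟨G, _, _, H, h1, h2, h3, h4⟩ := ih
    obtain ⟨p, hp1, hp⟩ := Nat.exists_infinite_primes (Nat.card G + 1)
    haveI := Fact.mk hp
    let C := Multiplicative (ZMod p)
    let φ : G →* MulAut (G → C) := mulAutArrow
    haveI : Finite ((G → C) ⋊[φ] G) := Finite.of_equiv _ SemidirectProduct.equivProd.symm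
    have hk : (SemidirectProduct.rightHom : (G → C) ⋊[φ] G →* G).ker = SemidirectProduct.inl.range :=
      SemidirectProduct.range_inl_eq_ker_rightHom.symm
    refine step (Γ := (G → C) ⋊[φ] G) SemidirectProduct.rightHom SemidirectProduct.inr
      SemidirectProduct.rightHom_inr ?_ ?_ ?_ H d h1 h2 h3 h4
    · rw [hk, ← Nat.card_congr (MonoidHom.ofInjective SemidirectProduct.inl_injective).toEquiv, Nat.card_fun]
      refine Nat.Coprime.pow_right _ ?_
      rw [show Nat.card C = p from Nat.card_zmod p]
      exact ((Nat.Prime.coprime_iff_not_dvd hp).2 fun h => by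
        have := Nat.le_of_dvd Nat.card_pos h; omega).symm
    · rw [hk]
      exact Group.isSolvable_of_surjective (MonoidHom.rangeRestrict_surjective _)
    · intro g hg
      rw [hk] at hg
      have e := hg _ ⟨Pi.mulSingle 1 (Multiplicative.ofAdd 1), rfl⟩
      have e1 := congrFun (congrArg SemidirectProduct.left e) g
      by_contra hne
      simp only [SemidirectProduct.mul_left, SemidirectProduct.left_inl, SemidirectProduct.right_inl,
        SemidirectProduct.left_inr, SemidirectProduct.right_inr, map_one, mul_one, one_mul,
        Pi.mulSingle_eq_of_ne hne] at e1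
      have e2 : (φ g (Pi.mulSingle 1 (Multiplicative.ofAdd 1))) g =
          (Pi.mulSingle 1 (Multiplicative.ofAdd 1) : G → C) (g⁻¹ • g) := rfl
      rw [e2, smul_eq_mul, inv_mul_cancel, Pi.mulSingle_eq_same] at e1
      exact one_ne_zero (α := ZMod p) (congrArg Multiplicative.toAdd e1).symm


end Cfsg.Agent.S5896
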