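import Cfsg.Statements.S5902
import Cfsg.Agent.S5901
import Cfsg.Agent.H2.SylowIn
import Cfsg.Agent.H1.Fact

set_option autoImplicit false
open Cfsg

namespace Cfsg.Agent.S5902

open Subgroup CfsgH2

/-- Let G be a finite group, X a subgroup whose own subgroup lattice is complemented, and suppose X lies in exactly one maximal subgroup M of G. Then every subgroup H of G not contained in the normal core of M has a complement in the subgroup lattice of G (some C with H ⊔ C = G and H ⊓ C = 1); in particular the subgroup lattice of G modulo the normal core of M is complemented. -/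
theorem result {G : Type*} [Group G] [Finite G] (X M : Subgroup G)
    (hK : ComplementedLattice (Subgroup X))
    (hM : IsCoatom M) (hXM : X ≤ M) (huniq : ∀ M' : Subgroup G, IsCoatom M' → X ≤ M' → M' = M) :
    (∀ H : Subgroup G, ¬ H ≤ M.normalCore → ∃ C : Subgroup G, H ⊔ C = ⊤ ∧ H ⊓ C = ⊥) ∧
    ComplementedLattice (Subgroup (G ⧸ M.normalCore)) := by
  have h1 : ∀ H : Subgroup G, ¬ H ≤ M.normalCore → ∃ C : Subgroup G, H ⊔ C = ⊤ ∧ H ⊓ C = ⊥ := fun H hH => by
    obtain ⟨g, hg⟩ : ∃ g, ¬ cj g H ≤ M := by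
      by_contra! h; exact hH fun x hx g => h g (conj_mem_cj g hx)
    obtain ⟨C, h1, h2⟩ := S5901.result ⊥ X M bot_le (fun e => hM.1 (top_le_iff.1 (e ▸ hXM))) (fun Y _ hY => by
      obtain ⟨C, h⟩ := exists_isCompl (Y.subgroupOf X)
      have e : Y = (Y.subgroupOf X).map X.subtype := by rw [subgroupOf_map_subtype, inf_eq_left.2 hY]
      refine ⟨C.map X.subtype, bot_le, map_subtype_le C, ?_, ?_⟩
      · rw [e, ← Subgroup.map_sup, h.sup_eq_top, ← MonoidHom.range_eq_map, range_subtype]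
      · rw [e, ← map_inf _ _ _ X.subtype_injective, h.inf_eq_bot, Subgroup.map_bot]) hM hXM huniq _ hg (inf_bot_eq _)
    exact ⟨cj g⁻¹ C, (cj_inj g).1 (by rw [cj_sup, cj_cj_inv, h1, cj_top]), (cj_inj g).1 (by rw [cj_inf, cj_cj_inv, h2, cj_bot])⟩
  refine ⟨h1, ⟨fun H => ?_⟩⟩
  rcases eq_or_ne H ⊥ with rfl | h
  · exact ⟨⊤, isCompl_bot_top⟩
  have hs := QuotientGroup.mk'_surjective M.normalCore
  obtain ⟨C, h2, h3⟩ := h1 (H.comap (QuotientGroup.mk' _)) fun e => h (by
    rw [← map_comap_eq_self_of_surjective hs H, Subgroup.map_eq_bot_iff, QuotientGroup.ker_mk']; exact e)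
  refine ⟨C.map (QuotientGroup.mk' _), disjoint_iff.2 (eq_bot_iff.2 ?_), codisjoint_iff.2 ?_⟩
  · rintro _ ⟨hx, c, hc, rfl⟩
    rw [mem_bot.1 (h3.le ⟨hx, hc⟩), map_one]; exact one_mem _
  · rw [← map_comap_eq_self_of_surjective hs H, ← Subgroup.map_sup, h2, map_top_of_surjective _ hs]

end Cfsg.Agent.S5902
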