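import Cfsg.Statements.S5903
import Cfsg.Agent.S5901
import Cfsg.Agent.H2.SylowIn
import Cfsg.Agent.H2.PGroup

set_option autoImplicit false
open Cfsg

namespace Cfsg.Agent.S5903

open Subgroup CfsgH2
theorem le_comap_mk' {G : Type*} [Group G] (N : Subgroup G) [N.Normal] (C : Subgroup (G ⧸ N)) : N ≤ C.comap (QuotientGroup.mk' N) :=
  (QuotientGroup.ker_mk' N).ge.trans (ker_le_comap _ C)

/-- Let G be a finite simple group, X a subgroup lying in exactly one maximal subgroup M of G, and N a subgroup of prime order with N ≤ X that is central in M. If the subgroup lattice of X/N is complemented, then the subgroup lattice of G is complemented. -/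
theorem result {G : Type*} [Group G] [Finite G] [IsSimpleGroup G] (X M N : Subgroup G)
    (hM : IsCoatom M) (hXM : X ≤ M) (huniq : ∀ M' : Subgroup G, IsCoatom M' → X ≤ M' → M' = M)
    (hNX : N ≤ X) (hN : (Nat.card N).Prime) (hcen : ∀ n ∈ N, ∀ m ∈ M, m * n = n * m)
    [(N.subgroupOf X).Normal] (hK : ComplementedLattice (Subgroup (X ⧸ N.subgroupOf X))) :
    ComplementedLattice (Subgroup G) := by
  refine ⟨fun H => ?_⟩
  by_cases h : ∃ g, ¬ cj g H ≤ M ∧ cj g H ⊓ N = ⊥
  · obtain ⟨g, hg, hg'⟩ := h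
    have hs := QuotientGroup.mk'_surjective (N.subgroupOf X)
    obtain ⟨C, h1, h2⟩ := S5901.result N X M hNX (fun e => hM.1 (top_le_iff.1 (e ▸ hXM))) (fun Y h hY => by
      obtain ⟨C, hC⟩ := exists_isCompl ((Y.subgroupOf X).map (QuotientGroup.mk' (N.subgroupOf X)))
      have e : Y = (((Y.subgroupOf X).map (QuotientGroup.mk' (N.subgroupOf X))).comap (QuotientGroup.mk' _)).map X.subtype := by
        rw [comap_map_eq, QuotientGroup.ker_mk', sup_eq_left.2 (subgroupOf_mono X h), subgroupOf_map_subtype, inf_eq_left.2 hY]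
      refine ⟨(C.comap (QuotientGroup.mk' _)).map X.subtype, fun n hn => ⟨⟨n, hNX hn⟩, ?_, rfl⟩, map_subtype_le _, ?_, ?_⟩
      · exact (le_comap_mk' _ C (mem_subgroupOf.2 (show ((⟨n, hNX hn⟩ : X) : G) ∈ N from hn)) :)
      · generalize (Y.subgroupOf X).map (QuotientGroup.mk' (N.subgroupOf X)) = Z at e hC
        rw [e, ← Subgroup.map_sup, comap_sup_eq _ Z C hs, hC.sup_eq_top, comap_top, ← MonoidHom.range_eq_map, range_subtype]
      · generalize (Y.subgroupOf X).map (QuotientGroup.mk' (N.subgroupOf X)) = Z at e hC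
        rw [e, ← map_inf _ _ _ X.subtype_injective, ← comap_inf, hC.inf_eq_bot, MonoidHom.comap_bot, QuotientGroup.ker_mk',
          subgroupOf_map_subtype, inf_eq_left.2 hNX]) hM hXM huniq _ hg hg'
    exact ⟨cj g⁻¹ C, disjoint_iff.2 ((cj_inj g).1 (by rw [cj_inf, cj_cj_inv, h2, cj_bot])),
      codisjoint_iff.2 ((cj_inj g).1 (by rw [cj_sup, cj_cj_inv, h1, cj_top]))⟩
  push Not at h
  have := Fact.mk hN
  have h1 : normalClosure (N : Set G) ≤ normalizer (H : Set G) := (closure_le _).2 fun x hx => by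
    obtain ⟨n, hn, e⟩ := Group.mem_conjugatesOfSet_iff.1 hx
    obtain ⟨g, rfl⟩ := isConj_iff.1 e
    by_cases e : cj g⁻¹ H ≤ M
    · refine centralizer_le_normalizer _ fun y hy => ?_
      have := hcen n hn _ (e (conj_mem_cj g⁻¹ hy))
      calc y * (g * n * g⁻¹) = g * (g⁻¹ * y * g⁻¹⁻¹ * n) * g⁻¹ := by simp [mul_assoc]
        _ = _ := by rw [this]; simp [mul_assoc]
    · have := ((eq_or_eq_of_relIndex_prime (p := Nat.card N) (M := ⊥) (K := cj g⁻¹ H ⊓ N) (relIndex_bot_left N) bot_le
        inf_le_right).resolve_left (h _ e)).ge hn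
      exact le_normalizer (by simpa using mem_cj.1 this.1)
  have h2 : normalClosure (N : Set G) = ⊤ := (normalClosure_normal (s := (N : Set G))).eq_bot_or_eq_top.resolve_left
    fun e => hN.ne_one (card_eq_one.2 (eq_bot_iff.2 (le_normalClosure.trans e.le)))
  have : H.Normal := normalizer_eq_top_iff.1 (top_le_iff.1 (h2.ge.trans h1))
  rcases this.eq_bot_or_eq_top with rfl | rfl
  exacts [⟨⊤, isCompl_bot_top⟩, ⟨⊥, isCompl_top_bot⟩]

end Cfsg.Agent.S5903
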