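import Cfsg.Statements.S5904

set_option autoImplicit false
open scoped Pointwise
open Cfsg

namespace Cfsg.Agent.S5904

open MulAction
open scoped Pointwise

/-- Let Ω be a finite set with more than two elements and O ⊆ Ω a subset with exactly as many elements as its complement. Then the setwise stabilizer of O in the symmetric group on Ω is not a maximal subgroup (it is properly contained in the stabilizer of the partition {O, Ω ∖ O}, which is proper). -/
theorem result {Ω : Type*} [Fintype Ω] [DecidableEq Ω] (hΩ : 2 < Fintype.card Ω)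
    (O : Set Ω) (hO : Nat.card O = Nat.card ↥Oᶜ) :
    ¬ IsCoatom (MulAction.stabilizer (Equiv.Perm Ω) O) := by
  classical
  rw [Nat.card_coe_set_eq, Nat.card_coe_set_eq] at hO
  have h1 := Set.ncard_add_ncard_compl O
  rw [Nat.card_eq_fintype_card] at h1
  obtain ⟨a, a', ha, ha', h2⟩ := (Set.one_lt_ncard_iff (s := O)).1 (by omega)
  obtain ⟨b, hb⟩ := (Set.ncard_pos (s := Oᶜ)).1 (by omega)
  obtain ⟨e⟩ : Nonempty (O ≃ ↥Oᶜ) := Finite.card_eq.1 hO
  let σ : Equiv.Perm Ω := (Equiv.Set.sumCompl O).symm.trans ((e.sumCongr e.symm).trans ((Equiv.sumComm _ _).trans (Equiv.Set.sumCompl O)))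
  have h3 : ∀ x, σ x ∈ O ↔ x ∉ O := fun x => by
    by_cases h : x ∈ O
    · simpa [σ, h, Equiv.Set.sumCompl_symm_apply_of_mem h] using fun h' => (e ⟨x, h⟩).2 h'
    · simp [σ, h, Equiv.Set.sumCompl_symm_apply_of_notMem h]
  intro h
  let K : Subgroup (Equiv.Perm Ω) :=
    { carrier := {g | ∀ x y, (g x ∈ O ↔ g y ∈ O) ↔ (x ∈ O ↔ y ∈ O)}, one_mem' := fun _ _ => Iff.rfl
      mul_mem' := fun {g h} hg hh x y => (hg _ _).trans (hh x y), inv_mem' := fun {g} hg x y => by simpa using (hg (g⁻¹ x) (g⁻¹ y)).symm }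
  have h4 := h.2 K (lt_of_le_of_ne (fun g hg x y => by rw [← Equiv.Perm.smul_def, ← Equiv.Perm.smul_def, ← Set.smul_mem_smul_set_iff (a := g) (x := x),
    ← Set.smul_mem_smul_set_iff (a := g) (x := y), mem_stabilizer_iff.1 hg]) fun e => (h3 a).1 ((mem_stabilizer_iff.1
      (e.ge (show σ ∈ K from fun x y => by simp only [h3, not_iff_not]))).le ⟨a, ha, rfl⟩) ha)
  have := h4.ge (Subgroup.mem_top (Equiv.swap a b)) a a'
  rw [Equiv.swap_apply_left, Equiv.swap_apply_of_ne_of_ne h2.symm (by rintro rfl; exact hb ha')] at this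
  exact hb ((this.2 (by simp [ha, ha'])).2 ha')

end Cfsg.Agent.S5904
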