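import Cfsg.Statements.S5908
import Cfsg.Agent.S0827

set_option autoImplicit false
open Cfsg

namespace Cfsg.Agent.S5908

open Subgroup

/-- The subgroup lattice of PSU₃(2) (the solvable group of order 72, realised over the field with 4 elements) is not complemented: some subgroup H has no subgroup X with H ⊔ X = ⊤ and H ⊓ X = ⊥. -/
theorem result {F : Type*} [Field F] [Fintype F] (hF : Fintype.card F = 4) :
    ¬ ComplementedLattice (Subgroup (Cfsg.PSU 3 F 2)) := by
  obtain ⟨N, _, -, -, ⟨e⟩⟩ := Cfsg.Agent.S0827.result hF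
  let φ := e.toMonoidHom.comp (QuotientGroup.mk' N)
  have hφ : Function.Surjective φ := e.surjective.comp (QuotientGroup.mk'_surjective N)
  intro h
  obtain ⟨K, h1, h2⟩ := exists_isCompl ((zpowers (QuaternionGroup.a 2)).comap φ)
  have k : ∀ x : QuaternionGroup 2, x = 1 ∨ x = .a 2 ∨ x * x = .a 2 := by decide
  have n : ∀ g ∈ K, φ g ≠ .a 2 := fun g m e => by
    have : g = 1 := (disjoint_def.1 h1) (mem_comap.2 (by rw [e]; exact mem_zpowers _)) m
    rw [this, map_one] at e; exact absurd e (by decide)
  have : K ≤ (zpowers (QuaternionGroup.a 2)).comap φ := fun g m => by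
    rcases k (φ g) with e | e | e
    · exact mem_comap.2 (by rw [e]; exact one_mem _)
    · exact (n g m e).elim
    · exact (n _ (mul_mem m m) (by rwa [map_mul])).elim
  rw [codisjoint_iff, sup_eq_left.2 this] at h2
  obtain ⟨g, e⟩ := hφ (.a 1)
  obtain ⟨i, hi⟩ : φ g ∈ zpowers (QuaternionGroup.a 2) := h2.ge (mem_top g)
  have c : Commute (QuaternionGroup.a 2 : QuaternionGroup 2) (.xa 0) := (by decide : _ * _ = _ * _)
  have := c.zpow_left i
  rw [show (QuaternionGroup.a 2 : QuaternionGroup 2) ^ i = .a 1 from hi.trans e] at this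
  exact absurd this.eq (by decide)

end Cfsg.Agent.S5908
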