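import Cfsg.Statements.S5909
import Cfsg.Agent.H3.Wr1

set_option autoImplicit false
open Cfsg

namespace Cfsg.Agent.S5909

open CfsgPm Equiv Equiv.Perm Subgroup MulAction
variable {a b : ℕ}
theorem pairs (ha : 2 ≤ a) (h : 2 < a ∨ 2 < b) {p q x y : Fin b × Fin a} (h1 : p.1 ≠ q.1) (h2 : x.1 ≠ y.1) :
    ∃ w : Perm (Fin b × Fin a), sign w = 1 ∧ Pres Prod.fst w ∧ w p = x ∧ w q = y := by
  obtain ⟨τ, h3, h4⟩ := (is_two_pretransitive_iff.1 (Perm.isMultiplyPretransitive (Fin b) 2)) h1 h2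
  obtain ⟨w, w1, w2, w3⟩ : ∃ w : Perm (Fin b × Fin a), Pres Prod.fst w ∧ w p = x ∧ w q = y :=
    ⟨prodShear τ fun i => if i = p.1 then swap p.2 x.2 else swap q.2 y.2, pres_of_ind τ fun _ => rfl,
      Prod.ext h3 (by simp [prodShear]), Prod.ext h4 (by simp [prodShear, h1.symm])⟩
  rcases Int.units_eq_one_or (sign w) with e | e
  · exact ⟨w, e, w1, w2, w3⟩
  obtain ⟨c, d, k1, k2, k3, k4, k5, k6⟩ : ∃ c d : Fin b × Fin a, c.1 = d.1 ∧ c ≠ d ∧ p ≠ c ∧ p ≠ d ∧ q ≠ c ∧ q ≠ d := by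
    rcases h with h | h
    · obtain ⟨k, -, k1⟩ := Fin.exists_ne_and_ne_of_two_lt p.2 p.2 h
      obtain ⟨l, l1, l2⟩ := Fin.exists_ne_and_ne_of_two_lt p.2 k h
      exact ⟨(p.1, k), (p.1, l), rfl, by grind, by grind, by grind, by grind, by grind⟩
    · obtain ⟨k, k1, k2⟩ := Fin.exists_ne_and_ne_of_two_lt p.1 q.1 h
      exact ⟨(k, ⟨0, by omega⟩), (k, ⟨1, by omega⟩), rfl, by simp, by grind, by grind, by grind, by grind⟩
  exact ⟨w * swap c d, by simp [e, k2], w1.mul (pres_swap k1), by rw [mul_apply, swap_apply_of_ne_of_ne k3 k4, w2],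
    by rw [mul_apply, swap_apply_of_ne_of_ne k5 k6, w3]⟩

instance dp : DecidablePred (Pres (Prod.fst : Fin 2 × Fin 2 → Fin 2)) := fun g => by unfold Pres; infer_instance

theorem four : ∀ g x : Perm (Fin 2 × Fin 2), sign g = 1 → sign x = 1 → ¬ Pres Prod.fst g →
    Pres Prod.fst x ∨ Pres Prod.fst (x * g⁻¹) ∨ Pres Prod.fst (x * g) := by decide +kernel

theorem fin (ha : 2 ≤ a) (h : 2 < a ∨ 2 < b) {K : Subgroup (Perm (Fin b × Fin a))} (k : ∀ g, sign g = 1 → Pres Prod.fst g → g ∈ K)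
    {c : Perm (Fin b × Fin a)} (hc : c ∈ K) (h3 : IsThreeCycle c) {p q : Fin b × Fin a} (hp : c p ≠ p) (hq : c q ≠ q) (e : p.1 ≠ q.1) :
    alternatingGroup _ ≤ K := by
  let N := Subgroup.closure {g | g ∈ K ∧ IsThreeCycle g}
  have cN : c ∈ N := subset_closure ⟨hc, h3⟩
  have T : ∀ x y : Fin b × Fin a, x.1 ≠ y.1 → ∃ n : N, n • x = y := fun x y e' => by
    obtain ⟨w, w1, w2, rfl, rfl⟩ := pairs ha h e e'
    obtain ⟨i, hi⟩ := h3.isCycle.sameCycle hp hq
    exact ⟨⟨_, normal_three K (k w w1 w2) (zpow_mem cN i)⟩, by simp [← hi]⟩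
  have : IsPretransitive N (Fin b × Fin a) := ⟨fun x y => by
    by_cases e' : x.1 = y.1
    · obtain ⟨z, hz⟩ : ∃ z : Fin b × Fin a, x.1 ≠ z.1 := by
        by_cases c : x.1 = p.1
        exacts [⟨q, c ▸ e⟩, ⟨p, c⟩]
      obtain ⟨n, rfl⟩ := T x z hz
      obtain ⟨m, hm⟩ := T _ y (e' ▸ hz.symm)
      exact ⟨m * n, by rw [mul_smul, hm]⟩
    · exact T x y e'⟩
  exact (alt_le_of_gen (closure_mono fun g hg => ⟨subset_closure hg, hg.2⟩) cN h3).trans ((closure_le _).2 fun _ h => h.1)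

theorem two (h : 2 < b) (h4 : b ≠ 4) {K : Subgroup (Perm (Fin b × Fin 2))} (k : ∀ g, sign g = 1 → Pres Prod.fst g → g ∈ K)
    {g : Perm (Fin b × Fin 2)} (hg : g ∈ K) {x y : Fin b × Fin 2} (e : x.1 = y.1) (n : (g x).1 ≠ (g y).1) : ∃ c ∈ K, IsThreeCycle c := by
  have P : ∀ u z : Fin b × Fin 2, z.1 = u.1 → z = u ∨ z = (u.1, u.2 + 1) := fun u z h => by
    simp only [Prod.ext_iff, h, true_and]; omega
  have Q : ∀ u : Fin b × Fin 2, u ≠ (u.1, u.2 + 1) := fun u => by simp [Prod.ext_iff]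
  have D : ∀ u v w z : Fin b × Fin 2, u ≠ v → w ≠ z → u.1 = v.1 → w.1 = z.1 → swap u v * swap w z ∈ K := fun u v w z h1 h2 h3 h4 =>
    k _ (by simp [h1, h2]) ((pres_swap h3).mul (pres_swap h4))
  obtain ⟨j, j1, j2⟩ := Fin.exists_ne_and_ne_of_two_lt x.1 (g⁻¹ ((g x).1, (g x).2 + 1)).1 h
  have s := mul_mem (mul_mem hg (D x y (j, 0) (j, 1) (by grind -ring) (by simp) e rfl)) (inv_mem hg)
  rw [← conj_mul, ← swap_apply_apply, ← swap_apply_apply] at s
  have hw : ∀ i, g (j, i) ≠ g x ∧ g (j, i) ≠ g y ∧ g (j, i) ≠ ((g x).1, (g x).2 + 1) := fun i =>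
    ⟨by simp; grind -ring, by simp; grind -ring, fun e => j2 (by simp [← e])⟩
  have w0 := hw 0
  have w1 := hw 1
  clear hw
  have wz : g (j, 0) ≠ g (j, 1) := by simp
  generalize g (j, 0) = w, g (j, 1) = z, g x = u, g y = v at *
  have q : swap u v * swap (u.1, u.2 + 1) (v.1, v.2 + 1) ∈ K := k _ (by simp [show u ≠ v by grind -ring, n]) (pres_of_ind (swap u.1 v.1) fun y => by
    have := P u y
    have := P v y
    have := Q u
    have := Q v
    simp only [mul_apply, swap_apply_def]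
    grind -ring)
  have r := mul_mem (inv_mem q) s
  rw [mul_inv_rev, swap_inv, swap_inv, mul_assoc, swap_mul_self_mul, swap_comm] at r
  by_cases c1 : w = (v.1, v.2 + 1)
  · exact ⟨_, r, c1 ▸ isThreeCycle_swap_mul_swap_same w0.2.2 wz w1.2.2.symm⟩
  by_cases c2 : z = (v.1, v.2 + 1)
  · exact ⟨_, r, swap_comm w z ▸ c2 ▸ isThreeCycle_swap_mul_swap_same w1.2.2 wz.symm w0.2.2.symm⟩
  by_cases c3 : w.1 = z.1
  · have := mul_mem s (D w z u _ wz (Q u) c3 rfl)
    rw [mul_assoc, swap_mul_self_mul] at this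
    exact ⟨_, this, isThreeCycle_swap_mul_swap_same (by grind -ring) (Q u) (by grind -ring)⟩
  have l1 := P u w
  have l2 := P u z
  have l3 := P v w
  have l4 := P v z
  obtain ⟨i, -, hi⟩ := Finset.exists_mem_notMem_of_card_lt_card (s := {u.1, v.1, w.1, z.1}) (t := Finset.univ) (by
    have := Finset.card_le_univ ({u.1, v.1, w.1, z.1} : Finset (Fin b))
    rw [Finset.card_eq_four.2 ⟨_, _, _, _, n, by grind -ring, by grind -ring, by grind -ring, by grind -ring, c3, rfl⟩] at this ⊢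
    simp at this ⊢; omega)
  simp only [Finset.mem_insert, Finset.mem_singleton, not_or] at hi
  have t := D u _ (i, 0) (i, 1) (Q u) (by simp) rfl rfl
  refine ⟨_, mul_mem (mul_mem (mul_mem s t) (inv_mem s)) (inv_mem t), three_of_meet (a := u) ?_ ?_ fun y => ?_⟩ <;>
    simp only [mul_apply, swap_apply_def] <;> grind -ring

/-- Let Ω be a finite set whose size is not 8, and f : Ω → Fin b a labelling with b ≥ 2 whose fibres all have the same size a ≥ 2 (a partition into b blocks of size a). Then the even permutations preserving the partition — the intersection of the imprimitive wreath product S_a ≀ S_b with the alternating group — form a maximal subgroup of the alternating group on Ω. -/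
theorem result {Ω : Type*} [Fintype Ω] [DecidableEq Ω] (h8 : Fintype.card Ω ≠ 8) (a b : ℕ) (ha : 2 ≤ a) (hb : 2 ≤ b)
    (f : Ω → Fin b) (hf : ∀ i : Fin b, Nat.card {x : Ω // f x = i} = a) :
    IsCoatom ((Subgroup.closure {g : Equiv.Perm Ω | ∀ x y : Ω, f x = f y ↔ f (g x) = f (g y)} ⊓ alternatingGroup Ω).subgroupOf (alternatingGroup Ω)) := by
  obtain ⟨c, e⟩ := coatom_wr f hf
  refine e.2 ⟨⟨swap (⟨0, by omega⟩, ⟨0, by omega⟩) (⟨0, by omega⟩, ⟨1, by omega⟩) * swap (⟨0, by omega⟩, ⟨0, by omega⟩) (⟨1, by omega⟩, ⟨0, by omega⟩),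
    ?_, fun h => ?_⟩, fun K k1 k2 g hg n => ?_⟩
  · simp
  · have := h (⟨0, by omega⟩, ⟨0, by omega⟩) (⟨0, by omega⟩, ⟨1, by omega⟩)
    simp [swap_apply_def] at this
  by_cases h : 2 < a ∨ 2 < b
  swap
  · obtain rfl : a = 2 := by omega
    obtain rfl : b = 2 := by omega
    intro x hx
    have := k1 hg
    rcases four g x this hx n with h | h | h
    · exact k2 x hx h
    · simpa using mul_mem (k2 _ (mul_mem hx (inv_mem this)) h) hg
    · simpa using mul_mem (k2 _ (mul_mem hx this) h) (inv_mem hg)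
  obtain ⟨g, hg, x, y, e, n⟩ : ∃ g ∈ K, ∃ x y : Fin b × Fin a, x.1 = y.1 ∧ (g x).1 ≠ (g y).1 := by
    obtain ⟨x, y, h⟩ : ∃ x y, ¬ (x.1 = y.1 ↔ (g x).1 = (g y).1) := by simpa only [Pres, not_forall] using n
    by_cases c : x.1 = y.1
    exacts [⟨g, hg, x, y, c, by tauto⟩, ⟨g⁻¹, inv_mem hg, g x, g y, by tauto, by simpa⟩]
  by_cases h' : 2 < a
  · obtain ⟨k, l1, l2⟩ := Fin.exists_ne_and_ne_of_two_lt x.2 y.2 h'
    have t := isThreeCycle_swap_mul_swap_same (a := x) (b := y) (c := (x.1, k)) (by grind) (by grind) (by grind)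
    refine fin ha h k2 (mul_mem (mul_mem hg (k2 _ t.sign ((pres_swap e).mul (pres_swap rfl)))) (inv_mem hg))
      ((cycleType_conj ..).trans t) ?_ ?_ n <;> simp [swap_apply_def] <;> grind
  obtain rfl : a = 2 := by omega
  obtain ⟨c, hc, t⟩ := two (by omega) (by omega) k2 hg e n
  obtain ⟨p, q, r, l1, l2, l3, l4⟩ := Finset.card_eq_three.1 t.card_support
  have m : ∀ z ∈ ({p, q, r} : Finset _), c z ≠ z := fun z hz => mem_support.1 (l4 ▸ hz)
  by_cases d : p.1 = q.1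
  · refine fin ha h k2 hc t (m p (by simp)) (m r (by simp)) fun d' => ?_
    simp only [ne_eq, Prod.ext_iff, ← d, ← d', true_and] at l1 l2 l3
    omega
  · exact fin ha h k2 hc t (m p (by simp)) (m q (by simp)) d

end Cfsg.Agent.S5909
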