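import Cfsg.Statements.S5910
import Cfsg.Agent.H3.Wr1

set_option autoImplicit false
open Cfsg

namespace Cfsg.Agent.S5910

open CfsgPm Equiv Equiv.Perm
/-- The ternary operation of the affine space. -/
def m (x y z : Fin 4 × Fin 2) : Fin 4 × Fin 2 := (x.1 ^^^ y.1 ^^^ z.1, x.2 + y.2 + z.2)
/-- The affine group. -/
def K : Subgroup (Perm (Fin 4 × Fin 2)) where
  carrier := {g | ∀ x y z, g (m x y z) = m (g x) (g y) (g z)}
  mul_mem' := fun a b x y z => by simp only [mul_apply]; rw [b, a]
  one_mem' := fun _ _ _ => rfl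
  inv_mem' := fun {g} a x y z => g.injective (by rw [a]; simp)

/-- Let Ω be a set with 8 elements and f : Ω → Fin 4 a labelling whose four fibres all have size 2 (a partition of the 8 points into 4 pairs). Then the group of even permutations preserving this partition, (S₂ ≀ S₄) ∩ A₈, is not a maximal subgroup of the alternating group A₈ (it lies in a subgroup isomorphic to the affine group AGL₃(2)). -/
theorem result {Ω : Type*} [Fintype Ω] [DecidableEq Ω] (h8 : Fintype.card Ω = 8)
    (f : Ω → Fin 4) (hf : ∀ i : Fin 4, Nat.card {x : Ω // f x = i} = 2) :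
    ¬ IsCoatom ((Subgroup.closure {g : Equiv.Perm Ω | ∀ x y : Ω, f x = f y ↔ f (g x) = f (g y)} ⊓ alternatingGroup Ω).subgroupOf (alternatingGroup Ω)) := by
  rw [(coatom_wr f hf).2]
  rintro ⟨-, h⟩
  have := h (K ⊓ alternatingGroup _) inf_le_right (fun g s p => ⟨?_, s⟩) (swap (1, 0) (0, 1) * swap (3, 0) (2, 1))
    ⟨show ∀ x y z, _ by decide +kernel, by simp⟩ (fun h => absurd (h (0, 0) (0, 1)) (by decide))
    (show swap (0, 0) (0, 1) * swap (0, 0) (1, 0) ∈ _ by simp)
  · exact absurd (this.1 (1, 1) (2, 0) (2, 1)) (by decide)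
  let τ := Equiv.ofBijective (fun i => (g (i, 0)).1) (Finite.injective_iff_bijective.1 fun i j e => (p (i, 0) (j, 0)).2 e)
  let σ := fun i => Equiv.ofBijective (fun e => (g (i, e)).2) (Finite.injective_iff_bijective.1 fun j k e =>
    congrArg Prod.snd (g.injective (Prod.ext ((p (i, j) (i, k)).1 rfl) e)))
  have e : g = prodCongrLeft (fun _ => τ) * prodCongrRight σ := Equiv.ext fun x => Prod.ext ((p x (x.1, 0)).1 rfl) rfl
  clear_value τ σ
  subst e
  rw [Perm.sign_mul, sign_prodCongrLeft, sign_prodCongrRight, Fin.prod_univ_two, Int.units_mul_self, one_mul] at s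
  refine K.mul_mem (show ∀ x y z, _ from ?_) (show ∀ x y z, _ from ?_)
  · clear p s; revert τ; decide +kernel
  · clear p; revert σ; decide +kernel

end Cfsg.Agent.S5910
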