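import Cfsg.Statements.S5911
import Cfsg.Agent.H3.Sn2

set_option autoImplicit false
open Cfsg

namespace Cfsg.Agent.S5911

open Subgroup MulAction CfsgPm

/-- Let Ω be a finite set whose size n is not 6. Then every subgroup of the symmetric group on Ω of index n is the stabilizer of a point. -/
theorem result {Ω : Type*} [Fintype Ω] [DecidableEq Ω] (h6 : Fintype.card Ω ≠ 6)
    (H : Subgroup (Equiv.Perm Ω)) (hH : H.index = Fintype.card Ω) :
    ∃ x : Ω, H = MulAction.stabilizer (Equiv.Perm Ω) x := by
  by_cases h7 : 7 ≤ Fintype.card Ω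
  · by_contra h
    have := bochert H fun g hg h3 => h (stab_of_three (by omega) hH hg h3)
    have := two_mul_lt h7
    omega
  have h0 := H.index_ne_zero_of_finite
  obtain ⟨a⟩ : Nonempty Ω := Fintype.card_pos_iff.1 (by omega)
  by_cases h1 : Fintype.card Ω = 1
  · have := Fintype.card_le_one_iff_subsingleton.1 h1.le
    exact ⟨a, eq_stab hH fun _ _ => Subsingleton.elim _ _⟩
  obtain ⟨o, ho⟩ := fix_of_index (fun _ => Set.powersetCard.isPretransitive) hH.le fun tr => by
    have := (stabilizer H a).index_dvd_card
    have h2 := H.card_mul_index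
    rw [index_stabilizer_of_transitive, Nat.card_eq_fintype_card (α := Ω)] at this
    rw [hH, Nat.card_perm, Nat.card_eq_fintype_card (α := Ω)] at h2
    generalize Nat.card H = m at *
    generalize Fintype.card Ω = n at *
    have : n < 7 := by omega
    interval_cases n <;> norm_num [Nat.factorial] at h2 <;> omega
  exact ⟨o, eq_stab hH ho⟩

end Cfsg.Agent.S5911
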