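import Cfsg.Statements.S5912
import Cfsg.Agent.H3.Sn2

set_option autoImplicit false
open Cfsg

namespace Cfsg.Agent.S5912

open Subgroup MulAction CfsgPm

/-- The symmetric group on a 6-element set Ω has exactly two conjugacy classes of subgroups of index 6: there are two non-conjugate subgroups of index 6 (a point stabilizer and a transitive subgroup isomorphic to S₅), and every subgroup of index 6 is conjugate to one of them. -/
theorem result {Ω : Type*} [Fintype Ω] [DecidableEq Ω] (h6 : Fintype.card Ω = 6) :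
    ∃ H₁ H₂ : Subgroup (Equiv.Perm Ω), H₁.index = 6 ∧ H₂.index = 6 ∧
      (¬ ∃ g : Equiv.Perm Ω, Subgroup.map (MulAut.conj g).toMonoidHom H₁ = H₂) ∧
      ∀ H : Subgroup (Equiv.Perm Ω), H.index = 6 →
        ∃ g : Equiv.Perm Ω, Subgroup.map (MulAut.conj g).toMonoidHom H₁ = H ∨ Subgroup.map (MulAut.conj g).toMonoidHom H₂ = H := by
  obtain ⟨K, h1, h2⟩ := six_exists h6
  obtain ⟨a⟩ : Nonempty Ω := Fintype.card_pos_iff.1 (by omega)
  refine ⟨_, K, (index_stab a).trans h6, h1, fun ⟨g, hg⟩ => h2 _ (hg.symm.trans (map_conj_stab g a)), fun H hH => ?_⟩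
  by_cases h : ∃ o : Ω, H = stabilizer (Equiv.Perm Ω) o
  · obtain ⟨o, rfl⟩ := h
    exact ⟨Equiv.swap a o, Or.inl (by rw [map_conj_stab, Equiv.swap_apply_left])⟩
  obtain ⟨ψ, hψ⟩ := coset_iso (by omega) (h1.trans h6.symm) a
  obtain ⟨b, hb⟩ := six_map h6 h1 hH h2 (not_exists.1 h) ψ hψ
  refine ⟨ψ.symm (Equiv.swap a b), Or.inr (map_injective (f := ψ.toMonoidHom) ψ.injective ?_)⟩
  rw [hb, ← Equiv.swap_apply_left a b, ← map_conj_stab, ← hψ, map_map, map_map]
  congr 1
  ext1 x
  simp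

end Cfsg.Agent.S5912
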