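import Cfsg.Statements.S5913
import Cfsg.Agent.H8.MinNormal

set_option autoImplicit false
open Cfsg

namespace Cfsg.Agent.S5913

open Subgroup
open scoped commutatorElement
theorem single {S ι : Type*} [Group S] [IsSimpleGroup S] [DecidableEq ι] (N : Subgroup (ι → S)) [hN : N.Normal] {i : ι} {s : S} (h1 : s ≠ 1)
    (h : Pi.mulSingle i s ∈ N) (t : S) : Pi.mulSingle i t ∈ N :=
  (((hN.comap (MonoidHom.mulSingle (fun _ => S) i)).eq_bot_or_eq_top.resolve_left fun e => h1 (e.le h)).ge (mem_top t) :)

theorem single' {S ι : Type*} [Group S] [IsSimpleGroup S] (hS : ¬ IsMulCommutative S) [DecidableEq ι] (N : Subgroup (ι → S)) [hN : N.Normal]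
    {i : ι} {x : ι → S} (hx : x ∈ N) (h : x i ≠ 1) (t : S) : Pi.mulSingle i t ∈ N := by
  obtain ⟨u, hu⟩ := not_forall.1 (mt (CfsgH8.eq_one_of_central hS) h)
  refine single N (mt commutatorElement_eq_one_iff_mul_comm.1 hu) ?_ t
  convert mul_mem hx (hN.conj_mem _ (inv_mem hx) (Pi.mulSingle i u)) using 1
  ext j
  rcases eq_or_ne j i with rfl | e
  · simp [commutatorElement_def, mul_assoc]
  · simp [e]

/-- Let S be a non-abelian simple group and n a natural number. Every normal subgroup N of the direct power S^n (functions Fin n → S) is a subproduct: there is a set T of coordinates such that N consists exactly of the elements whose coordinates outside T are trivial. In particular the minimal normal subgroups of S^n are its n factors. -/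
theorem result {S : Type*} [Group S] [IsSimpleGroup S] (hS : ¬ IsMulCommutative S) (n : ℕ)
    (N : Subgroup (Fin n → S)) [N.Normal] :
    ∃ T : Finset (Fin n), ∀ x : Fin n → S, x ∈ N ↔ ∀ i, i ∉ T → x i = 1 := by
  classical
  refine ⟨Finset.univ.filter fun i => ∃ x ∈ N, x i ≠ 1, fun x => ⟨fun hx i hi => by_contra fun h => hi (by simpa using ⟨x, hx, h⟩),
    fun h => pi_mem_of_mulSingle_mem x fun i => ?_⟩⟩
  by_cases e : ∃ x ∈ N, x i ≠ 1
  · obtain ⟨y, hy, e⟩ := e; exact single' hS N hy e _
  · rw [h i (by simpa using e), Pi.mulSingle_one]; exact one_mem N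

end Cfsg.Agent.S5913
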