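import Cfsg.Statements.S5914
import Cfsg.Agent.S5913

set_option autoImplicit false
open Cfsg

namespace Cfsg.Agent.S5914

open Subgroup

/-- A non-trivial finite group G is characteristically simple (its only characteristic subgroups are 1 and G) if and only if G is isomorphic to a direct power S^n (n ≥ 1) of some simple group S (possibly cyclic of prime order). -/
theorem result {G : Type*} [Group G] [Finite G] [Nontrivial G] :
    (∀ H : Subgroup G, H.Characteristic → H = ⊥ ∨ H = ⊤) ↔
    ∃ (S : Type) (_ : Group S) (_ : IsSimpleGroup S) (n : ℕ), 1 ≤ n ∧ Nonempty (G ≃* (Fin n → S)) := by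
  refine ⟨fun h => ?_, fun ⟨S, _, _, n, _, ⟨e⟩⟩ H hH => ?_⟩
  · have : Finite (G ⋊[MonoidHom.id _] MulAut G) := Finite.of_equiv _ SemidirectProduct.equivProd.symm
    have : (SemidirectProduct.inl : G →* G ⋊[MonoidHom.id _] MulAut G).range.Normal := by
      rw [SemidirectProduct.range_inl_eq_ker_rightHom]; infer_instance
    obtain ⟨T, _, m, h1, h2, ⟨e⟩⟩ := CfsgH8.min_normal_pow (SemidirectProduct.inl : G →* G ⋊[MonoidHom.id _] MulAut G).range
      (fun e => by
        obtain ⟨x, hx⟩ := exists_ne (1 : G)
        exact hx (SemidirectProduct.inl_injective ((mem_bot.1 (e.le ⟨x, rfl⟩)).trans (map_one _).symm)))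
      fun M hM hle => (h (M.comap SemidirectProduct.inl) (characteristic_iff_le_comap.2 fun φ x hx => by
        show SemidirectProduct.inl ((MonoidHom.id _ φ) x) ∈ M
        rw [SemidirectProduct.inl_aut, map_inv]
        exact hM.conj_mem _ hx _)).imp
        (fun e => by rw [← map_comap_eq_self hle, e, Subgroup.map_bot]) fun e => by
          rw [← map_comap_eq_self hle, e, MonoidHom.range_eq_map]
    exact ⟨T, _, h1, m, h2, ⟨(MonoidHom.ofInjective SemidirectProduct.inl_injective).trans e⟩⟩
  have hK : ∀ φ : (Fin n → S) ≃* (Fin n → S), ∀ x ∈ H.map e.toMonoidHom, φ x ∈ H.map e.toMonoidHom := by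
    rintro φ _ ⟨x, hx, rfl⟩
    exact ⟨_, characteristic_iff_le_comap.1 hH ((e.trans φ).trans e.symm) hx, e.apply_symm_apply _⟩
  have : (H.map e.toMonoidHom).Normal := Normal.map inferInstance _ e.surjective
  refine or_iff_not_imp_left.2 fun h0 => map_injective (f := e.toMonoidHom) e.injective ?_
  rw [map_top_of_surjective _ e.surjective]
  obtain ⟨⟨x, hx⟩, h1⟩ := ne_bot_iff_exists_ne_one.1 (mt (map_eq_bot_iff_of_injective H (f := e.toMonoidHom) e.injective).1 h0)
  generalize H.map e.toMonoidHom = K at *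
  obtain ⟨i, hi⟩ := Function.ne_iff.1 fun e => h1 (Subtype.ext e)
  obtain ⟨j, s, hs, h⟩ : ∃ j s, s ≠ 1 ∧ Pi.mulSingle j s ∈ K := by
    by_cases hS : IsMulCommutative S
    swap
    · exact ⟨i, x i, hi, S5913.single' hS K hx hi _⟩
    by_cases h : ∃ j, j ≠ i
    · obtain ⟨j, h⟩ := h
      letI : CommGroup S := { (inferInstance : Group S) with mul_comm := hS.1.1 }
      refine ⟨j, x i, hi, (K.mul_mem_cancel_left hx).1 (hK
        { toFun := fun y => y * Pi.mulSingle j (y i), invFun := fun y => y * (Pi.mulSingle j (y i))⁻¹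
          left_inv := fun y => by simp [h.symm], right_inv := fun y => by simp [h.symm]
          map_mul' := fun y z => by simp [Pi.mulSingle_mul, mul_mul_mul_comm] } x hx)⟩
    · push Not at h
      refine ⟨i, x i, hi, ?_⟩
      convert hx
      ext j; simp [h j]
  refine eq_top_iff.2 fun y _ => pi_mem_of_mulSingle_mem y fun k => S5913.single K hs ?_ _
  convert hK (MulEquiv.arrowCongr (Equiv.swap j k) (MulEquiv.refl S)) _ h
  ext l
  simp [Pi.mulSingle_apply, Equiv.swap_apply_eq_iff]

end Cfsg.Agent.S5914
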