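import Cfsg.Statements.S5939
import Cfsg.Agent.H1.Dk5

set_option autoImplicit false
open Cfsg

namespace Cfsg.Agent.S5939

/-- Let p be a prime and F a finite field of characteristic p such that either F has p elements and p ≡ ±1 (mod 10), or F has p² elements and p ≡ ±3 (mod 10). Then PSL_2(F) has a maximal subgroup isomorphic to the alternating group A_5. -/
theorem result {F : Type*} [Field F] [Fintype F] (p : ℕ) [Fact p.Prime] [CharP F p] (h : (Fintype.card F = p ∧ (p % 10 = 1 ∨ p % 10 = 9)) ∨ (Fintype.card F = p ^ 2 ∧ (p % 10 = 3 ∨ p % 10 = 7))) : ∃ H : Subgroup (Matrix.ProjectiveSpecialLinearGroup (Fin 2) F), IsCoatom H ∧ Nonempty (H ≃* alternatingGroup (Fin 5)) := by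
  open Subgroup CfsgH1 CfsgH1.L2 CfsgH2 in
  classical
  have := (Fact.out : p.Prime).two_le
  obtain ⟨H, ⟨e⟩⟩ := exists_A5 (F := F) (Dvd.dvd.mul_left ((Nat.modEq_iff_dvd' (Nat.one_le_pow _ _ Fintype.card_pos)).1 (by
    have t := Nat.mod_mod_of_dvd p (by norm_num : 5 ∣ 10)
    rcases h with ⟨h, k | k⟩ | ⟨h, k | k⟩ <;> rw [k] at t <;> simp [h, Nat.ModEq, Nat.pow_mod, ← t])) _)
  exact ⟨H, max_A5 p (h.imp_left fun k => ⟨k.1, by omega⟩) (ncn_A5 e) (card_of_A5 e), ⟨e⟩⟩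

end Cfsg.Agent.S5939
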