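import Cfsg.Statements.S5944
import Cfsg.Agent.H3.Sn1

set_option autoImplicit false
open Cfsg

namespace Cfsg.Agent.S5944

open Subgroup MulAction

/-- For n ≠ 4, every proper subgroup of the symmetric group S_n other than the alternating group A_n has index at least n. -/
theorem result (n : ℕ) (hn : n ≠ 4) (H : Subgroup (Equiv.Perm (Fin n))) (hH : H ≠ ⊤) (hA : H ≠ alternatingGroup (Fin n)) : n ≤ H.index := by
  classical
  by_contra! h
  have h0 := H.index_ne_zero_of_finite
  have h1 := mt index_eq_one.1 hH
  have h2 := mt Equiv.Perm.eq_alternatingGroup_of_index_eq_two hA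
  have h3 : Function.Injective (toPermHom (Equiv.Perm (Fin n)) (Equiv.Perm (Fin n) ⧸ H)) := by
    rw [← MonoidHom.ker_eq_bot_iff, ← normalCore_eq_ker]
    refine (H.normalCore.bot_or_nontrivial).resolve_right fun h => ?_
    have := index_antitone ((Equiv.Perm.alternatingGroup_le_of_normal (by simp; omega) h).trans H.normalCore_le)
    have : Nontrivial (Fin n) := Fin.nontrivial_iff_two_le.2 (by omega)
    rw [alternatingGroup.index_eq_two] at *
    omega
  have := Nat.card_le_card_of_injective _ h3
  rw [Nat.card_perm, Nat.card_perm, Nat.card_eq_fintype_card, Fintype.card_fin, ← index] at this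
  exact this.not_gt ((Nat.factorial_lt (by omega)).2 h)

end Cfsg.Agent.S5944
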