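import Cfsg.Statements.S5945
import Cfsg.Agent.H3.Sn2

set_option autoImplicit false
open Cfsg

namespace Cfsg.Agent.S5945

open Subgroup MulAction CfsgPm

/-- The symmetric group S_6 has exactly 12 subgroups of index 6; each of them is isomorphic to S_5, and at least one of them is not the stabilizer of any point. -/
theorem result : Nat.card {H : Subgroup (Equiv.Perm (Fin 6)) // H.index = 6} = 12 ∧ (∀ H : Subgroup (Equiv.Perm (Fin 6)), H.index = 6 → Nonempty (H ≃* Equiv.Perm (Fin 5))) ∧ ∃ H : Subgroup (Equiv.Perm (Fin 6)), H.index = 6 ∧ ∀ a : Fin 6, H ≠ MulAction.stabilizer (Equiv.Perm (Fin 6)) a := by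
  have h6 := Fintype.card_fin 6
  obtain ⟨K, h1, h2⟩ := six_exists h6
  refine ⟨?_, fun H hH => ?_, K, h1, h2⟩
  swap
  · obtain ⟨ψ, hψ⟩ := coset_iso (by simp) (hH.trans h6.symm) 0
    obtain ⟨e⟩ := stab_iso (0 : Fin 6)
    exact ⟨(((ψ.subgroupMap H).trans (MulEquiv.subgroupCongr hψ)).trans e).trans (Fintype.equivFinOfCardEq (by simp)).permCongrHom⟩
  obtain ⟨ψ, hψ⟩ := coset_iso (by simp) (h1.trans h6.symm) 0
  have inj : ∀ a b : Fin 6, stabilizer (Equiv.Perm (Fin 6)) a = stabilizer (Equiv.Perm (Fin 6)) b → a = b := fun a b e =>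
    fix_uniq (fun _ => Set.powersetCard.isPretransitive) (by simp) (index_stab b).le (fun _ h => e.ge h) fun _ h => h
  have ne : ∀ a b : Fin 6, (stabilizer (Equiv.Perm (Fin 6)) a).map ψ.toMonoidHom ≠ stabilizer (Equiv.Perm (Fin 6)) b := fun a b e => by
    refine h2 (ψ.symm (Equiv.swap b 0) a) (map_injective (f := ψ.toMonoidHom) ψ.injective ?_)
    rw [hψ, ← Equiv.swap_apply_left b 0, ← map_conj_stab, ← e, ← map_conj_stab, map_map, map_map]
    congr 1
    ext1 x
    simp
  refine (Nat.card_eq_of_bijective (Sum.elim (fun a : Fin 6 => (⟨_, (index_stab a).trans h6⟩ : {H : Subgroup (Equiv.Perm (Fin 6)) // H.index = 6}))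
    fun a : Fin 6 => ⟨(stabilizer (Equiv.Perm (Fin 6)) a).comap ψ.toMonoidHom,
      by rw [index_comap_of_surjective _ ψ.surjective, index_stab, h6]⟩) ⟨?_, fun ⟨H, hH⟩ => ?_⟩).symm.trans (by simp)
  · have m := fun H => map_comap_eq_self_of_surjective (f := ψ.toMonoidHom) ψ.surjective H
    rintro (a | a) (b | b) e <;> have e := congrArg Subtype.val e
    · rw [inj a b e]
    · exact (ne a b ((congrArg (map ψ.toMonoidHom) e).trans (m _))).elim
    · exact (ne b a ((congrArg (map ψ.toMonoidHom) e.symm).trans (m _))).elim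
    · rw [inj a b (comap_injective (f := ψ.toMonoidHom) ψ.surjective e)]
  by_cases h : ∃ o : Fin 6, H = stabilizer (Equiv.Perm (Fin 6)) o
  · obtain ⟨o, rfl⟩ := h
    exact ⟨.inl o, rfl⟩
  obtain ⟨b, hb⟩ := six_map h6 h1 hH h2 (not_exists.1 h) ψ hψ
  exact ⟨.inr b, Subtype.ext ((congrArg (comap ψ.toMonoidHom) hb.symm).trans (comap_map_eq_self_of_injective ψ.injective H))⟩

end Cfsg.Agent.S5945
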