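import Cfsg.Statements.S5947
import Cfsg.Agent.S2904

set_option autoImplicit false
open Cfsg

namespace Cfsg.Agent.S5947

open Subgroup
theorem prime_of {q a : ℕ} (hq : IsPrimePow q) (h : q + 1 = 2 ^ a) : q.Prime := by
  obtain ⟨p, k, hp, hk, rfl⟩ := (isPrimePow_nat_iff _).1 hq
  have h2 := hp.two_le
  rcases k.even_or_odd' with ⟨m, rfl | rfl⟩
  · have h3 : 2 ≤ p ^ (2 * m) := h2.trans (Nat.le_self_pow hk.ne' p)
    obtain ⟨a, rfl⟩ := Nat.exists_eq_add_of_le' (show 2 ≤ a from by_contra fun e => by interval_cases a <;> omega)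
    rw [pow_mul', pow_add] at h
    rcases (p ^ m).even_or_odd' with ⟨t, e | e⟩ <;> rw [e] at h <;> ring_nf at h <;> omega
  obtain ⟨t, ht⟩ := Odd.nat_add_dvd_pow_add_pow p 1 (odd_two_mul_add_one m)
  rw [one_pow] at ht
  obtain ⟨j, -, e⟩ := (Nat.dvd_prime_pow Nat.prime_two).1 (show t ∣ 2 ^ a from ⟨p + 1, by rw [← h, ht, mul_comm]⟩)
  rcases j with _ | j
  · rw [e, pow_zero, mul_one, Nat.add_right_cancel_iff] at ht
    rwa [ht]
  have o : Odd p := hp.odd_of_ne_two (by
    rintro rfl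
    obtain _ | a := a
    · simp at h
    · rw [pow_succ, pow_succ] at h; omega)
  obtain ⟨s, rfl⟩ := o
  have c : 1 ≡ (2 * s + 1) ^ 2 [MOD 2 * (2 * s + 1 + 1)] := (Nat.modEq_iff_dvd' (by nlinarith)).2 ⟨s, by
    rw [Nat.sub_eq_iff_eq_add (by nlinarith)]; ring⟩
  have := ((c.pow m).mul_right (2 * s + 1)).add_right 1
  rw [one_pow, one_mul, ← pow_mul, ← pow_succ, ht, e] at this
  have := Nat.le_of_dvd (by omega) ((this.dvd_iff dvd_rfl).2 ⟨2 ^ j, by ring⟩)
  omega

/-- Let F ⊆ K be finite fields with |F| = q and [K : F] = n ≥ 2, regard K as an n-dimensional F-vector space, and let M ≤ GL_F(K) be the Singer group of multiplications by non-zero elements of K (cyclic of order q^n − 1). Assume (n, q) ≠ (6, 2), and that it is not the case that n = 2 with q a prime such that q + 1 is a power of 2. Then every abelian subgroup of GL_F(K) of order q^n − 1 is conjugate to M. -/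
theorem result {F K : Type*} [Field F] [Fintype F] [Field K] [Fintype K] [Algebra F K] (n : ℕ) (hn : 2 ≤ n) (hdim : Module.finrank F K = n)
    (hex1 : ¬ (n = 6 ∧ Fintype.card F = 2))
    (hex2 : ¬ (n = 2 ∧ (Fintype.card F).Prime ∧ ∃ a : ℕ, Fintype.card F + 1 = 2 ^ a))
    (U : Subgroup (Module.End F K)ˣ) (hU : IsMulCommutative U) (hcard : Nat.card U = Fintype.card K - 1) :
    ∃ g : (Module.End F K)ˣ, U.map (MulAut.conj g).toMonoidHom = (Units.map ((Algebra.lmul F K : K →ₐ[F] Module.End F K) : K →* Module.End F K)).range := by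
  classical
  have hK := Module.card_eq_pow_finrank (K := F) (V := K)
  rw [hdim] at hK
  obtain ⟨r, hr, h1, h2⟩ := S2904.result (Fintype.card F) n Fintype.one_lt_card hn (fun h => hex1 h.symm)
    fun ⟨h, a, e⟩ => hex2 ⟨h, prime_of (FiniteField.isPrimePow_card F) e, a, e⟩
  have := Fact.mk hr
  have : Finite (Module.End F K) := Finite.of_injective _ DFunLike.coe_injective
  obtain ⟨x, hx⟩ := exists_prime_orderOf_dvd_card' (G := U) r (by rwa [hcard, hK])
  have q0 : ∀ k, 1 ≤ Fintype.card F ^ k := fun k => Nat.one_le_pow _ _ Fintype.card_pos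
  have hF : ¬ r ∣ Fintype.card F := fun d => hr.not_dvd_one ((Nat.dvd_sub_iff_right (q0 n) (dvd_pow d (by omega))).1 h1)
  have fx : ∀ W : Submodule F K, (∀ v ∈ W, x.1.1 v ∈ W) → Fintype.card F ^ Module.finrank F W ≡
      Fintype.card F ^ Module.finrank F ↥(W ⊓ LinearMap.ker (x.1.1 - 1)) [MOD r] := fun W h => by
    rw [← Module.card_eq_pow_finrank, ← Module.card_eq_pow_finrank]
    have := Equiv.Perm.card_fixedPoints_modEq (α := W) (f := fun v => ⟨_, h v v.2⟩) (p := r) (n := 1) (by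
      have : ∀ k (v : W), (((show Function.End W from fun v => ⟨_, h v v.2⟩) ^ k) v : K) = (x ^ k).1.1 v := fun k v => by
        induction k with
        | zero => rfl
        | succ k ih => rw [pow_succ', pow_succ']; exact congrArg x.1.1 ih
      funext v
      exact Subtype.ext ((this _ v).trans (by rw [pow_one, ← hx, pow_orderOf_eq_one]; rfl)))
    convert this using 1
    exact Fintype.card_congr ⟨fun v => ⟨⟨v, v.2.1⟩, Subtype.ext (sub_eq_zero.1 v.2.2)⟩,
      fun v => ⟨v.1, v.1.2, sub_eq_zero.2 (congrArg Subtype.val v.2)⟩, fun _ => rfl, fun _ => rfl⟩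
  have f0 : LinearMap.ker (x.1.1 - 1) = ⊥ := Submodule.finrank_eq_zero.1 (by_contra fun e => by
    have a := fx ⊤ fun _ _ => trivial
    have b := Submodule.finrank_lt (s := LinearMap.ker (x.1.1 - 1)) fun e => hr.ne_one (by
      rw [← hx, orderOf_eq_one_iff]; exact Subtype.ext (Units.ext (sub_eq_zero.1 (LinearMap.ker_eq_top.1 e))))
    rw [top_inf_eq, finrank_top, hdim] at *
    generalize Module.finrank F (LinearMap.ker (x.1.1 - 1)) = j at *
    obtain ⟨i, rfl⟩ := Nat.exists_eq_add_of_le b.le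
    refine h2 i (by omega) (by omega) ((Nat.modEq_iff_dvd' (q0 _)).1 (Nat.ModEq.cancel_left_of_coprime (c := Fintype.card F ^ j)
      ((hr.coprime_iff_not_dvd.2 hF).pow_right j) ?_))
    rw [mul_one, ← pow_add]
    exact a.symm)
  have irr : ∀ W : Submodule F K, (∀ v ∈ W, x.1.1 v ∈ W) → W ≠ ⊥ → W = ⊤ := fun W h e => by_contra fun e' => by
    have a := fx W h
    rw [f0, inf_bot_eq, finrank_bot, pow_zero] at a
    exact h2 _ (Nat.pos_of_ne_zero (mt Submodule.finrank_eq_zero.1 e)) (hdim ▸ Submodule.finrank_lt e') ((Nat.modEq_iff_dvd' (q0 _)).1 a.symm)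
  let C := Subalgebra.centralizer F {x.1.1}
  have hC : ∀ c ∈ C, ∀ v ≠ 0, c v = 0 → c = 0 := fun c hc v h h' => LinearMap.ker_eq_top.1 (irr _ (fun w hw => by
    rw [LinearMap.mem_ker, ← Module.End.mul_apply, ← hc _ rfl, Module.End.mul_apply, hw, map_zero])
    ((Submodule.ne_bot_iff _).2 ⟨v, h', h⟩))
  have hUC : ∀ u : U, u.1.1 ∈ C := fun u => by
    rintro _ rfl
    exact congrArg (·.1.1) (mul_comm' x u)
  have : NoZeroDivisors C := ⟨fun {a b} h => or_iff_not_imp_right.2 fun e => Subtype.ext (hC _ a.2 (b.1 1)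
    (fun e' => e (Subtype.ext (hC _ b.2 1 one_ne_zero e'))) (LinearMap.congr_fun (congrArg Subtype.val h) 1))⟩
  have : IsDomain C := NoZeroDivisors.to_isDomain C
  letI : Field C := (Finite.isDomain_to_isField C).toField
  let ev : C →ₗ[F] K := LinearMap.applyₗ 1 ∘ₗ C.val.toLinearMap
  have ne : ∀ g : (Module.End F K)ˣ, g.1 1 ≠ 0 := fun g e =>
    one_ne_zero ((Module.End.isUnit_iff _).1 g.isUnit |>.1 (e.trans (map_zero _).symm))
  have h3 : Function.Injective ev := (injective_iff_map_eq_zero _).2 fun c h => Subtype.ext (hC _ c.2 1 one_ne_zero h)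
  have h4 : Function.Surjective ev := fun v => by
    rcases eq_or_ne v 0 with rfl | h
    · exact ⟨0, rfl⟩
    obtain ⟨u, hu⟩ := ((Nat.bijective_iff_injective_and_card fun u : U => Units.mk0 _ (ne u)).2 ⟨fun u w e =>
      Subtype.ext (Units.ext (congrArg Subtype.val (@h3 ⟨_, hUC u⟩ ⟨_, hUC w⟩ (congrArg Units.val e)))),
      by rw [hcard, Nat.card_units, Nat.card_eq_fintype_card]⟩).2 (Units.mk0 v h)
    exact ⟨⟨_, hUC u⟩, congrArg Units.val hu⟩
  let e := LinearEquiv.ofBijective ev ⟨h3, h4⟩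
  obtain ⟨φ⟩ := FiniteField.nonempty_algHom_of_finrank_dvd (F := F) (K := C) (L := K) e.finrank_eq.dvd
  have h5 : Function.Bijective φ := (Nat.bijective_iff_injective_and_card _).2 ⟨φ.injective, Nat.card_congr e.toEquiv⟩
  let g := e.symm.trans (LinearEquiv.ofBijective φ.toLinearMap h5)
  have hg : ∀ c, g (e c) = φ c := fun c => congrArg φ (e.symm_apply_apply c)
  refine ⟨⟨g.toLinearMap, g.symm.toLinearMap, by ext; simp, by ext; simp⟩, eq_of_le_of_card_ge ?_ ?_⟩
  · rintro _ ⟨u, hu, rfl⟩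
    refine ⟨Units.mk0 (φ ⟨_, hUC ⟨u, hu⟩⟩) fun h => u.ne_zero (congrArg Subtype.val ((map_eq_zero φ).1 h)),
      eq_mul_inv_of_mul_eq (Units.ext (LinearMap.ext fun v => ?_))⟩
    obtain ⟨c, rfl⟩ := e.surjective v
    exact (congrArg _ (hg c)).trans ((map_mul φ _ c).symm.trans (hg _).symm)
  rw [card_map_of_injective (MulAut.conj _).injective, hcard, ← Nat.card_eq_fintype_card, ← Nat.card_units]
  exact Nat.le_of_dvd Nat.card_pos (card_range_dvd _)

end Cfsg.Agent.S5947
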