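import Cfsg.Statements.S5949
import Cfsg.Agent.H5.El1

set_option autoImplicit false
open scoped MatrixGroups
open Cfsg

namespace Cfsg.Agent.S5949

open CfsgH5 Pointwise Module

/-- Elements of prime order of PSL_n(q) with no fixed `m`-space. Here `T = PSL_n(F)` for a field `F` with `q = p^f` elements (`n ≥ 2`, `(n, q) ≠ (2, 2), (2, 3)`); an element of `T` of prime order `r` is represented by a matrix `x` of determinant 1 with `x^r` scalar and `x` not scalar; `i` denotes the multiplicative order of `q` modulo `r` (when `r ≠ p`), and `(a)_r` the `r`-part of `a`. Let `1 ≤ m ≤ n/2` and let `r` be a prime dividing the number of `m`-dimensional subspaces of `F^n`. Then every element of `T` of order `r` fixes some `m`-dimensional subspace (the action on `m`-spaces is `r`-elusive) if and only if `r ≠ p` and either (i) `i = 1` and (`r ∣ m`, or `(q−1)_r ≥ (n)_r` where in addition `q ≡ 1 (mod 4)` is required when `r = 2` and `n` is even), or (ii) `2 ≤ i ≤ m` and `n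 mod i ≥ m mod i`. -/
theorem result {F : Type*} [Field F] [Fintype F] {p : ℕ} [Fact p.Prime] [CharP F p] {q : ℕ} (hq : Fintype.card F = q)
    (n m : ℕ) (hn : 2 ≤ n) (hT : (n, q) ≠ (2, 2) ∧ (n, q) ≠ (2, 3)) (hm : 1 ≤ m) (hmn : 2 * m ≤ n)
    (r : ℕ) [Fact r.Prime] (hrΩ : r ∣ Nat.card {W : Submodule F (Fin n → F) // Module.finrank F ↥W = m}) :
    (∀ x : Matrix.SpecialLinearGroup (Fin n) F,
      (∃ c : F, ((x ^ r : Matrix.SpecialLinearGroup (Fin n) F) : Matrix (Fin n) (Fin n) F) = c • (1 : Matrix (Fin n) (Fin n) F)) →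
      (∀ c : F, (x : Matrix (Fin n) (Fin n) F) ≠ c • (1 : Matrix (Fin n) (Fin n) F)) →
      ∃ W : Submodule F (Fin n → F), Module.finrank F ↥W = m ∧ W.map (Matrix.toLin' (x : Matrix (Fin n) (Fin n) F)) ≤ W) ↔
    (r ≠ p ∧
      ((orderOf (q : ZMod r) = 1 ∧ (r ∣ m ∨ (padicValNat r n ≤ padicValNat r (q - 1) ∧ (r = 2 → Even n → q % 4 = 1)))) ∨
       (2 ≤ orderOf (q : ZMod r) ∧ orderOf (q : ZMod r) ≤ m ∧ m % orderOf (q : ZMod r) ≤ n % orderOf (q : ZMod r)))) := by
  classical
  have hr : r.Prime := Fact.out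
  haveI : Nonempty (Fin n) := ⟨⟨0, by omega⟩⟩
  haveI := Module.finite_of_finite F (M := Fin n → F)
  subst hq
  have hV : finrank F (Fin n → F) = n := by simp
  have hrp : r ≠ p := by
    rintro rfl
    obtain ⟨u, h1, -⟩ := exists_ru (F := F) (V := Fin n → F) (by omega)
    obtain ⟨k, hk⟩ := exists_ru_pow r ((ru_iff (by omega)).1 h1).1
    obtain ⟨h2, h3⟩ := h1.exists_inv (by omega) (m := m) (by omega)
    refine not_dvd_of_fixed (fun W : Submodule F (Fin n → F) => finrank F W = m) hk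
      (fun W h => (LinearEquiv.finrank_map_eq u W).trans h)
      ⟨_, ⟨h2, map_eq_of_le h3 rfl⟩, fun W h => ?_⟩ hrΩ
    exact h.1 ▸ h1.inv_eq fun v hv => h.2.le ⟨v, hv, rfl⟩
  have h0 := cast_ne_of_ne (F := F) p hr hrp
  have hj : ∃ j, n - m < j ∧ j ≤ n ∧ orderOf (Fintype.card F : ZMod r) ∣ j := by
    obtain ⟨B, hB⟩ := (coordSub F n m).exists_isCompl
    have h1 := finrank_coordSub (F := F) (show m ≤ n by omega)
    have h2 := Submodule.finrank_add_eq_of_isCompl hB
    obtain ⟨j, h3, h4, h5⟩ := gl_dvd (coordSub F n m) {W | finrank F W = m} (fun W =>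
      ⟨fun h => exists_gl_map_submodule (h1.trans h.symm), by
        rintro ⟨g, rfl⟩
        exact (LinearEquiv.finrank_map_eq g _).trans h1⟩) hB
      (fun g h _ => map_eq_of_le (fun v hv => (h v hv).symm ▸ hv) rfl) hr h0 hrΩ
    exact ⟨j, by omega, by omega, h5⟩
  rw [sl_forall (fun g => ∃ W : Submodule F (Fin n → F), finrank F W = m ∧ ∀ v ∈ W, g.toLinearMap v ∈ W)
    (fun x => by simp only [Submodule.map_le_iff_le_comap]; rfl),
    lin_red (V := Fin n → F) hr h0 (by omega) _ (fun c g => by simp only [inv_smul_iff]; exact id)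
      (fun k e => ∃ a ≤ k, ∃ b ≤ e, m = orderOf (Fintype.card F : ZMod r) * a + b)
      (fun g s e h => (inv_iff (sqfree_X_pow_sub_one h0) h.aeval).trans (h.sub_iff hr h0)) (r ∣ m)
      (fun g k l h1 h2 h3 => (inv_iff (sqfree_sub_C h0 l) (aeval_of_pow h1)).trans (by
        rw [h3, sub_rep_iff, Polynomial.natDegree_X_pow_sub_C]
        exact ⟨fun ⟨j, _, e⟩ => e ▸ Dvd.intro_left _ rfl, fun ⟨j, e⟩ =>
          ⟨j, Nat.le_of_mul_le_mul_left (by rw [← e, mul_comm]; omega) hr.pos, e.trans (mul_comm _ _)⟩⟩))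
      (fun k e h1 h2 => ⟨min k m, by omega, m - min k m, by omega, by rw [h2]; omega⟩), hV,
    arith_sub (ord_pos hr h0).1 (by omega) hj]
  simp [hrp]

end Cfsg.Agent.S5949
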