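import Cfsg.Statements.S5950
import Cfsg.Agent.H5.El1

set_option autoImplicit false
open scoped MatrixGroups
open Cfsg

namespace Cfsg.Agent.S5950

open CfsgH5 Pointwise Module

/-- Elements of prime order of PSL_n(q) fixing no decomposition `F^n = U ⊕ W` with `dim U = m`. Here `T = PSL_n(F)` for a field `F` with `q = p^f` elements (`n ≥ 2`, `(n, q) ≠ (2, 2), (2, 3)`); an element of `T` of prime order `r` is represented by a matrix `x` of determinant 1 with `x^r` scalar and `x` not scalar; `i` denotes the multiplicative order of `q` modulo `r` (when `r ≠ p`), and `(a)_r` the `r`-part of `a`. Let `n ≥ 3`, `1 ≤ m < n/2`, and let `r` be a prime dividing the number of such decompositions (unordered pairs `{U, W}` of complementary subspaces with `dim U = m`; since `m ≠ n − m` these are the ordered pairs with `dim U = m`). Then every element of `T` of order `r` fixes such a pair (fixes both `U` and `W` for some complementary `U, W` with `dim U = m`) if and only if one of: (i) `r = p > 2` and every partition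 of `n` into parts of size at most `p` contains, as a sub-multiset, a partition of `m`; (ii) `r = p = 2` and `n` is odd or `m` is even; (iii) `r ≠ p`, `i = 1`, and `r ∣ m` or `(q−1)_r ≥ (n)_r` (with `q ≡ 1 (mod 4)` required when `r = 2` and `n` is even); (iv) `r ≠ p`, `2 ≤ i ≤ m` and `n mod i ≥ m mod i`. -/
theorem result {F : Type*} [Field F] [Fintype F] {p : ℕ} [Fact p.Prime] [CharP F p] {q : ℕ} (hq : Fintype.card F = q)
    (n m : ℕ) (hn : 3 ≤ n) (hm : 1 ≤ m) (hmn : 2 * m < n)
    (r : ℕ) [Fact r.Prime]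
    (hrΩ : r ∣ Nat.card {P : Submodule F (Fin n → F) × Submodule F (Fin n → F) // IsCompl P.1 P.2 ∧ Module.finrank F ↥P.1 = m}) :
    (∀ x : Matrix.SpecialLinearGroup (Fin n) F,
      (∃ c : F, ((x ^ r : Matrix.SpecialLinearGroup (Fin n) F) : Matrix (Fin n) (Fin n) F) = c • (1 : Matrix (Fin n) (Fin n) F)) →
      (∀ c : F, (x : Matrix (Fin n) (Fin n) F) ≠ c • (1 : Matrix (Fin n) (Fin n) F)) →
      ∃ U W : Submodule F (Fin n → F), IsCompl U W ∧ Module.finrank F ↥U = m ∧
        U.map (Matrix.toLin' (x : Matrix (Fin n) (Fin n) F)) ≤ U ∧ W.map (Matrix.toLin' (x : Matrix (Fin n) (Fin n) F)) ≤ W) ↔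
    ((r = p ∧ 2 < p ∧ (∀ μ : Multiset ℕ, (∀ a ∈ μ, 0 < a ∧ a ≤ p) → μ.sum = n → ∃ ν : Multiset ℕ, ν ≤ μ ∧ ν.sum = m)) ∨
     (r = p ∧ p = 2 ∧ (Odd n ∨ Even m)) ∨
     (r ≠ p ∧
      ((orderOf (q : ZMod r) = 1 ∧ (r ∣ m ∨ (padicValNat r n ≤ padicValNat r (q - 1) ∧ (r = 2 → Even n → q % 4 = 1)))) ∨
       (2 ≤ orderOf (q : ZMod r) ∧ orderOf (q : ZMod r) ≤ m ∧ m % orderOf (q : ZMod r) ≤ n % orderOf (q : ZMod r))))) := by
  classical
  have hr : r.Prime := Fact.out
  haveI : Nonempty (Fin n) := ⟨⟨0, by omega⟩⟩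
  haveI := Module.finite_of_finite F (M := Fin n → F)
  subst hq
  have hV : finrank F (Fin n → F) = n := by simp
  rw [sl_forall (fun g => ∃ U W : Submodule F (Fin n → F), IsCompl U W ∧ finrank F U = m ∧
      (∀ v ∈ U, g.toLinearMap v ∈ U) ∧ ∀ v ∈ W, g.toLinearMap v ∈ W)
    (fun x => by simp only [Submodule.map_le_iff_le_comap]; rfl)]
  by_cases hrp : r = p
  · subst hrp
    rw [unip_red (V := Fin n → F) r _ (fun c g => by simp only [inv_smul_iff]; exact id) (fun μ => ∃ ν ≤ μ, ν.sum = m)
      (fun g h => compl_iff.trans (sub_unip h))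
      ⟨.replicate m 1, (Multiset.replicate_le_replicate _).2 (by omega), by simp⟩, hV]
    rcases hr.two_le.eq_or_lt with rfl | h2
    · simp only [lt_irrefl, false_and, and_false, true_and, false_or, ne_eq, not_true, or_false]
      refine ⟨fun H => by_contra fun h => ?_, fun H μ h1 h2 => ?_⟩
      · simp only [not_or, Nat.not_odd_iff_even, Nat.not_even_iff_odd, Nat.even_iff, Nat.odd_iff] at h
        obtain ⟨ν, h1, h2⟩ := H (.replicate (n / 2) 2) (by simp +contextual [Multiset.mem_replicate])
          (by simp; omega)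
        obtain ⟨j, -, rfl⟩ := Multiset.le_replicate_iff.1 h1
        simp at h2; omega
      have h3 : μ = .replicate (μ.count 2) 2 + .replicate (μ.count 1) 1 := Multiset.ext.2 fun a => by
        simp only [Multiset.count_add, Multiset.count_replicate]
        split_ifs with h h' h'
        · omega
        · simp [h]
        · simp [h']
        · exact Multiset.count_eq_zero.2 fun e => by have := h1 a e; omega
      generalize μ.count 2 = a, μ.count 1 = b at h3
      subst h3
      simp only [Multiset.sum_add, Multiset.sum_replicate, smul_eq_mul, Nat.odd_iff, Nat.even_iff] at h2 H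
      exact ⟨.replicate (min a (m / 2)) 2 + .replicate (m - 2 * min a (m / 2)) 1, add_le_add
        ((Multiset.replicate_le_replicate _).2 (by omega))
        ((Multiset.replicate_le_replicate _).2 (by omega)), by simp; omega⟩
    · simp [h2, h2.ne']
  have h0 := cast_ne_of_ne (F := F) p hr hrp
  have hj : ∃ j, n - m < j ∧ j ≤ n ∧ orderOf (Fintype.card F : ZMod r) ∣ j := by
    obtain ⟨B, hB⟩ := (coordSub F n m).exists_isCompl
    have h1 := finrank_coordSub (F := F) (show m ≤ n by omega)
    have h2 := Submodule.finrank_add_eq_of_isCompl hB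
    obtain ⟨j, h3, h4, h5⟩ := gl_dvd (coordSub F n m, B) {P | IsCompl P.1 P.2 ∧ finrank F P.1 = m} (fun P =>
      ⟨fun h => (exists_map_compl hB h.1 (h1.trans h.2.symm)).imp fun g e => Prod.ext e.1 e.2, by
        rintro ⟨g, rfl⟩
        exact ⟨(Submodule.orderIsoMapComap g).isCompl hB, (LinearEquiv.finrank_map_eq g _).trans h1⟩⟩) hB
      (fun g h h' => Prod.ext (map_eq_of_le (fun v hv => (h v hv).symm ▸ hv) rfl)
        (map_eq_of_le h' rfl)) hr h0 hrΩ
    exact ⟨j, by omega, by omega, h5⟩
  rw [lin_red (V := Fin n → F) hr h0 (by omega) _ (fun c g => by simp only [inv_smul_iff]; exact id)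
      (fun k e => ∃ a ≤ k, ∃ b ≤ e, m = orderOf (Fintype.card F : ZMod r) * a + b)
      (fun g s e h => compl_iff.trans (h.sub_iff hr h0)) (r ∣ m)
      (fun g k l h1 h2 h3 => compl_iff.trans (by
        rw [h3, sub_rep_iff, Polynomial.natDegree_X_pow_sub_C]
        exact ⟨fun ⟨j, _, e⟩ => e ▸ Dvd.intro_left _ rfl, fun ⟨j, e⟩ =>
          ⟨j, Nat.le_of_mul_le_mul_left (by rw [← e, mul_comm]; omega) hr.pos, e.trans (mul_comm _ _)⟩⟩))
      (fun k e h1 h2 => ⟨min k m, by omega, m - min k m, by omega, by rw [h2]; omega⟩), hV,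
    arith_sub (ord_pos hr h0).1 (by omega) hj]
  simp [hrp]

end Cfsg.Agent.S5950
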