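import Cfsg.Statements.S5951
import Cfsg.Agent.H5.El1

set_option autoImplicit false
open scoped MatrixGroups
open Cfsg

namespace Cfsg.Agent.S5951

open CfsgH5 Pointwise Module

/-- Elements of prime order of PSL_n(q) fixing no pair of subspaces `U < W` with `dim U = m`, `dim W = n − m`. Here `T = PSL_n(F)` for a field `F` with `q = p^f` elements (`n ≥ 2`, `(n, q) ≠ (2, 2), (2, 3)`); an element of `T` of prime order `r` is represented by a matrix `x` of determinant 1 with `x^r` scalar and `x` not scalar; `i` denotes the multiplicative order of `q` modulo `r` (when `r ≠ p`), and `(a)_r` the `r`-part of `a`. Let `1 ≤ m < n/2` and let `r` be a prime dividing the number of such pairs. Then every element of `T` of order `r` fixes such a pair (both `U` and `W`) if and only if `r ≠ p` and either (i) `i = 1` and (`r ∣ m`, or `(q−1)_r ≥ (n)_r` with `q ≡ 1 (mod 4)` required when `r = 2` and `n` is even), or (ii) `2 ≤ i ≤ m` and `n mod i ≥ 2 (m mod i)`. -/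
theorem result {F : Type*} [Field F] [Fintype F] {p : ℕ} [Fact p.Prime] [CharP F p] {q : ℕ} (hq : Fintype.card F = q)
    (n m : ℕ) (hn : 2 ≤ n) (hT : (n, q) ≠ (2, 2) ∧ (n, q) ≠ (2, 3)) (hm : 1 ≤ m) (hmn : 2 * m < n)
    (r : ℕ) [Fact r.Prime]
    (hrΩ : r ∣ Nat.card {P : Submodule F (Fin n → F) × Submodule F (Fin n → F) //
        P.1 ≤ P.2 ∧ Module.finrank F ↥P.1 = m ∧ Module.finrank F ↥P.2 = n - m}) :
    (∀ x : Matrix.SpecialLinearGroup (Fin n) F,
      (∃ c : F, ((x ^ r : Matrix.SpecialLinearGroup (Fin n) F) : Matrix (Fin n) (Fin n) F) = c • (1 : Matrix (Fin n) (Fin n) F)) →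
      (∀ c : F, (x : Matrix (Fin n) (Fin n) F) ≠ c • (1 : Matrix (Fin n) (Fin n) F)) →
      ∃ U W : Submodule F (Fin n → F), U ≤ W ∧ Module.finrank F ↥U = m ∧ Module.finrank F ↥W = n - m ∧
        U.map (Matrix.toLin' (x : Matrix (Fin n) (Fin n) F)) ≤ U ∧ W.map (Matrix.toLin' (x : Matrix (Fin n) (Fin n) F)) ≤ W) ↔
    (r ≠ p ∧
      ((orderOf (q : ZMod r) = 1 ∧ (r ∣ m ∨ (padicValNat r n ≤ padicValNat r (q - 1) ∧ (r = 2 → Even n → q % 4 = 1)))) ∨
       (2 ≤ orderOf (q : ZMod r) ∧ orderOf (q : ZMod r) ≤ m ∧ 2 * (m % orderOf (q : ZMod r)) ≤ n % orderOf (q : ZMod r)))) := by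
  classical
  have hr : r.Prime := Fact.out
  haveI : Nonempty (Fin n) := ⟨⟨0, by omega⟩⟩
  haveI := Module.finite_of_finite F (M := Fin n → F)
  subst hq
  have hV : finrank F (Fin n → F) = n := by simp
  have hinv : ∀ (g : (Fin n → F) ≃ₗ[F] (Fin n → F)) (P : Submodule F (Fin n → F) × Submodule F (Fin n → F)),
      P.1 ≤ P.2 ∧ finrank F P.1 = m ∧ finrank F P.2 = n - m →
      (g • P).1 ≤ (g • P).2 ∧ finrank F (g • P).1 = m ∧ finrank F (g • P).2 = n - m := fun g P h =>
    ⟨Submodule.map_mono h.1, (LinearEquiv.finrank_map_eq g _).trans h.2.1,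
      (LinearEquiv.finrank_map_eq g _).trans h.2.2⟩
  have hrp : r ≠ p := by
    rintro rfl
    obtain ⟨u, h1, -⟩ := exists_ru (F := F) (V := Fin n → F) (by omega)
    obtain ⟨k, hk⟩ := exists_ru_pow r ((ru_iff (by omega)).1 h1).1
    obtain ⟨h2, h3⟩ := h1.exists_inv (by omega) (m := m) (by omega)
    obtain ⟨h4, h5⟩ := h1.exists_inv (by omega) (m := n - m) (by omega)
    refine not_dvd_of_fixed _ hk (hinv u) ⟨(_, _), ⟨⟨LinearMap.iterateKer _ |>.monotone (show m ≤ n - m by omega),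
      h2, h4⟩, Prod.ext (map_eq_of_le h3 rfl) (map_eq_of_le h5 rfl)⟩, fun W h => Prod.ext ?_ ?_⟩ hrΩ
    · exact h.1.2.1 ▸ h1.inv_eq fun v hv => (congrArg Prod.fst h.2).le ⟨v, hv, rfl⟩
    · exact h.1.2.2 ▸ h1.inv_eq fun v hv => (congrArg Prod.snd h.2).le ⟨v, hv, rfl⟩
  have h0 := cast_ne_of_ne (F := F) p hr hrp
  have hj : ∃ j, n - 2 * m < j ∧ j ≤ n ∧ orderOf (Fintype.card F : ZMod r) ∣ j := by
    obtain ⟨B, hB⟩ := (coordSub F n (2 * m)).exists_isCompl
    have h1 := finrank_coordSub (F := F) (show 2 * m ≤ n by omega)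
    have h2 := Submodule.finrank_add_eq_of_isCompl hB
    obtain ⟨U, h3, h4⟩ := exists_le_finrank (coordSub F n (2 * m)) (k := m) (by omega)
    have h5 := Submodule.finrank_sup_add_finrank_inf_eq U B
    rw [(hB.disjoint.mono_left h3).eq_bot, finrank_bot] at h5
    have h6 : finrank F ↥(U ⊔ B) = n - m := by omega
    obtain ⟨j, h3, h4, h5⟩ := gl_dvd (U, U ⊔ B) {P | P.1 ≤ P.2 ∧ finrank F P.1 = m ∧ finrank F P.2 = n - m}
      (fun P => ⟨fun h => (exists_map_flag le_sup_left h.1 (h4.trans h.2.1.symm) (h6.trans h.2.2.symm)).imp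
        fun g e => Prod.ext e.1 e.2, by
        rintro ⟨g, rfl⟩
        exact hinv g _ ⟨le_sup_left, h4, h6⟩⟩) hB
      (fun g h h' => by
        have e1 : U.map (g : _ →ₗ[F] _) = U := map_eq_of_le (fun v hv => (h v (h3 hv)).symm ▸ hv) rfl
        exact Prod.ext e1 ((Submodule.map_sup _ _ _).trans (congrArg₂ (· ⊔ ·) e1 (map_eq_of_le h' rfl)))) hr h0 hrΩ
    exact ⟨j, by omega, by omega, h5⟩
  set i := orderOf (Fintype.card F : ZMod r) with hi
  have hi0 : 0 < i := (ord_pos hr h0).1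
  rw [sl_forall (fun g => ∃ U W : Submodule F (Fin n → F), U ≤ W ∧ finrank F U = m ∧ finrank F W = n - m ∧
      (∀ v ∈ U, g.toLinearMap v ∈ U) ∧ ∀ v ∈ W, g.toLinearMap v ∈ W)
    (fun x => by simp only [Submodule.map_le_iff_le_comap]; rfl),
    lin_red (V := Fin n → F) hr h0 (by omega) _ (fun c g => by simp only [inv_smul_iff]; exact id)
      (fun k e => ∃ a' ≤ k, ∃ b' ≤ e, n - m = i * a' + b' ∧ ∃ a ≤ a', ∃ b ≤ b', m = i * a + b)
      (fun g s e h => (flag_iff (sqfree_X_pow_sub_one h0) h.aeval).trans ?_) (r ∣ m)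
      (fun g k l h1 h2 h3 => (flag_iff (sqfree_sub_C h0 l) (aeval_of_pow h1)).trans ?_)
      (fun k e h1 h2 => ⟨min k (n - m), by omega, n - m - min k (n - m), by omega, by rw [hi, h2]; omega,
        min k m, by omega, m - min k m, by omega, by rw [hi, h2]; omega⟩), hV, ← hi]
  · simp only [hrp, ne_eq, not_false_eq_true, true_and]
    refine or_congr Iff.rfl (and_congr_right fun _ => ?_)
    obtain ⟨_, h1, h2, j, rfl⟩ := hj
    have h3 := Nat.div_add_mod n i
    have h4 := Nat.mod_lt n hi0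
    have h5 := Nat.div_add_mod m i
    have h6 : j ≤ n / i := (Nat.le_div_iff_mul_le hi0).2 (by rwa [mul_comm])
    have h7 := Nat.mul_le_mul_left i h6
    refine ⟨fun H => ?_, fun H k e _ h8 => ?_⟩
    · obtain ⟨a', h8, b', h9, h10, a, -, b, h11, rfl⟩ := H (n / i) (n % i)
        (by rcases j with _ | j <;> omega) h3.symm
      obtain ⟨c, e⟩ := Nat.exists_eq_add_of_le h8
      rw [e, mul_add] at h3 h7
      have h12 : i * a + b = i * c + (n % i - b') := by omega
      have h13 := congrArg (· % i) h12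
      simp only [Nat.mul_add_mod, Nat.mod_eq_of_lt (show b < i by omega),
        Nat.mod_eq_of_lt (show n % i - b' < i by omega)] at h13
      rw [Nat.mul_add_mod, Nat.mod_eq_of_lt (by omega)]
      refine ⟨?_, by omega⟩
      rcases a with _ | a
      · omega
      · exact (Nat.le_mul_of_pos_right _ a.succ_pos).trans le_self_add
    have h9 : n % i ≤ e := by rw [h8, Nat.mul_add_mod]; exact Nat.mod_le _ _
    rcases le_total (2 * (m / i)) k with h | h
    · obtain ⟨c, rfl⟩ := Nat.exists_eq_add_of_le h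
      refine ⟨m / i + c, by omega, e - m % i, by omega, ?_, m / i, by omega, m % i, by omega, h5.symm⟩
      rw [mul_add, mul_left_comm] at h8
      rw [mul_add]; omega
    · obtain ⟨c, hc⟩ : ∃ c, k = min k (m / i) + c := ⟨k - min k (m / i), by omega⟩
      have h10 : c ≤ min k (m / i) := by omega
      have h11 := Nat.mul_le_mul_left i h10
      have h12 := Nat.mul_le_mul_left i (min_le_right k (m / i))
      generalize min k (m / i) = a at *
      subst hc
      rw [mul_add] at h8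
      exact ⟨a, by omega, n - m - i * a, by omega, by omega, a, le_rfl, m - i * a, by omega, by omega⟩
  · rw [h.eq]
    refine ⟨fun ⟨s, t, h1, h2, h3, h4⟩ => ?_, fun ⟨a', h1, b', h2, h3, a, h4, b, h5, h6⟩ => ?_⟩
    · obtain ⟨t', h5, e', h6, rfl⟩ := le_add_rep h2
      have h7 := fun a ha => h.deg hr h0 a (Multiset.mem_of_le h5 ha)
      refine ⟨_, Multiset.card_le_card h5, e', h6, ?_, h3 ▸ sub_cy h7 h1⟩
      rw [← h4, dg0_add, dg0_const h7, dg0_rep]; simp [hi]
    · obtain ⟨t', h7, rfl, h8, h9⟩ := exists_sub_cy (h.deg hr h0) h1 h2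
      obtain ⟨s', -, -, h10, h11⟩ := exists_sub_cy (fun a ha => h.deg hr h0 a (Multiset.mem_of_le h7 ha)) h4 h5
      exact ⟨_, _, h10, h8, h11.trans h6.symm, h9.trans h3.symm⟩
  · rw [h3]
    refine ⟨fun ⟨s, t, h4, h5, h6, _⟩ => ?_, fun ⟨j, e⟩ => ?_⟩
    · obtain ⟨j, -, e⟩ := sub_rep_iff.1 ⟨s, h4.trans h5, h6⟩
      rw [e, Polynomial.natDegree_X_pow_sub_C]
      exact Dvd.intro_left _ rfl
    · have h4 : 2 * j ≤ k := Nat.le_of_mul_le_mul_left (by rw [mul_left_comm, ← e, mul_comm r]; omega) hr.pos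
      refine ⟨.replicate j _, .replicate (k - j) _, (Multiset.replicate_le_replicate _).2 (by omega),
        (Multiset.replicate_le_replicate _).2 (by omega), ?_, ?_⟩
      · rw [dg0_rep, Polynomial.natDegree_X_pow_sub_C, e, mul_comm]
      · rw [dg0_rep, Polynomial.natDegree_X_pow_sub_C, Nat.sub_mul, e, mul_comm r, ← h2, hV]

end Cfsg.Agent.S5951
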