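import Cfsg.Statements.S5952

set_option autoImplicit false
open Cfsg

namespace Cfsg.Agent.S5952

open Submodule Module

/-- Which dimensions of invariant subspaces a semisimple linear map has. Let `V` be a finite-dimensional vector space over a field `F` and `f` an invertible semisimple linear map of `V`. Suppose `V` is the internal direct sum of the fixed space `C_V(f)` (the eigenspace for 1) and subspaces `U_1, …, U_s`, each `f`-invariant of dimension `a ≥ 1` on which `f` acts irreducibly (no `f`-invariant subspaces other than 0 and `U_j`). Let `0 < m < dim V` and `ℓ = m mod a`. Then `f` leaves some `m`-dimensional subspace invariant if and only if `dim C_V(f) ≥ m`, or `a ≤ m` and `dim C_V(f) ≥ ℓ`. -/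
theorem result {F V : Type*} [Field F] [AddCommGroup V] [Module F V]
    [FiniteDimensional F V] (f : V →ₗ[F] V) (hf : Function.Bijective f) (hss : Module.End.IsSemisimple f)
    {s a : ℕ} (ha : 1 ≤ a) (U : Fin s → Submodule F V)
    (hUinv : ∀ j, (U j).map f ≤ U j) (hUdim : ∀ j, Module.finrank F ↥(U j) = a)
    (hUirr : ∀ j, ∀ W : Submodule F V, W ≤ U j → W.map f ≤ W → W = ⊥ ∨ W = U j)
    (hdec : DirectSum.IsInternal (fun o : Option (Fin s) => o.elim (Module.End.eigenspace f 1) U))
    (m : ℕ) (hm : 0 < m) (hmV : m < Module.finrank F V) :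
    (∃ W : Submodule F V, Module.finrank F ↥W = m ∧ W.map f ≤ W) ↔
    (m ≤ Module.finrank F ↥(Module.End.eigenspace f 1) ∨
      (a ≤ m ∧ m % a ≤ Module.finrank F ↥(Module.End.eigenspace f 1))) := by
  classical
  set C := Module.End.eigenspace f 1
  have hC : ∀ C' ≤ C, C'.map f ≤ C' := by
    rintro C' h _ ⟨x, hx, rfl⟩
    rwa [Module.End.mem_eigenspace_iff.1 (h hx), one_smul]
  have inv : ∀ C' ≤ C, ∀ T : Finset (Fin s), (C' ⊔ T.sup U).map f ≤ C' ⊔ T.sup U := fun C' h T => by
    rw [Submodule.map_sup, Finset.sup_eq_iSup, Submodule.map_iSup]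
    refine sup_le_sup (hC _ h) (iSup_mono fun j => ?_)
    rw [Submodule.map_iSup]
    exact iSup_mono fun _ => hUinv j
  have dim : ∀ C' ≤ C, ∀ T : Finset (Fin s), finrank F ↥(C' ⊔ T.sup U) = finrank F C' + T.card * a := fun C' h T => by
    induction T using Finset.induction with
    | empty => rw [Finset.sup_empty, sup_bot_eq]; simp
    | insert j T hj ih =>
      have := finrank_sup_add_finrank_inf_eq (U j) (C' ⊔ T.sup U)
      have d : Disjoint (U j) (C' ⊔ T.sup U) := (hdec.submodule_iSupIndep (some j)).mono_right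
        (sup_le (h.trans (le_iSup₂_of_le none (by simp) le_rfl))
        (Finset.sup_le fun i hi => le_iSup₂_of_le (some i) (by rintro ⟨⟩; exact hj hi) le_rfl))
      rw [d.eq_bot, finrank_bot, ih, hUdim] at this
      rw [Finset.sup_insert, sup_left_comm, Finset.card_insert_of_notMem hj, add_mul]
      omega
  have top : C ⊔ Finset.univ.sup U = ⊤ := top_le_iff.1 (hdec.submodule_iSup_eq_top.ge.trans (iSup_le fun o => by
    cases o
    exacts [le_sup_left, le_sup_of_le_right (Finset.le_sup (f := U) (Finset.mem_univ _))]))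
  refine ⟨fun ⟨W, h1, h2⟩ => ?_, fun h => ?_⟩
  · have : ∀ T : Finset (Fin s), ∃ t, finrank F ↥(W ⊓ (C ⊔ T.sup U)) = finrank F ↥(W ⊓ C) + t * a := fun T => by
      induction T using Finset.induction with
      | empty => exact ⟨0, by rw [Finset.sup_empty, sup_bot_eq]; simp⟩
      | insert j T hj ih =>
        obtain ⟨t, ih⟩ := ih
        have le : C ⊔ T.sup U ≤ C ⊔ (insert j T).sup U := sup_le_sup_left (Finset.sup_mono (Finset.subset_insert _ _)) _
        have e := finrank_sup_add_finrank_inf_eq (W ⊓ (C ⊔ (insert j T).sup U)) (C ⊔ T.sup U)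
        rw [inf_assoc, inf_eq_right.2 le, ih] at e
        have m : (C ⊔ T.sup U) ⊔ U j ⊓ (W ⊓ (C ⊔ (insert j T).sup U) ⊔ (C ⊔ T.sup U)) = W ⊓ (C ⊔ (insert j T).sup U) ⊔ (C ⊔ T.sup U) := by
          rw [← sup_inf_assoc_of_le _ le_sup_right, inf_eq_right]
          exact (sup_le inf_le_right le).trans_eq (by rw [Finset.sup_insert, sup_left_comm, sup_comm])
        rcases hUirr j _ inf_le_left ((map_inf_le f).trans (inf_le_inf (hUinv j) ((Submodule.map_sup _ _ f).trans_le (sup_le_sup
          ((map_inf_le f).trans (inf_le_inf h2 (inv _ le_rfl _))) (inv _ le_rfl T))))) with h | h <;> rw [← m, h] at e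
        · exact ⟨t, by rw [sup_bot_eq] at e; omega⟩
        · rw [sup_comm, sup_left_comm, ← Finset.sup_insert, dim _ le_rfl, dim _ le_rfl, Finset.card_insert_of_notMem hj, add_mul] at e
          exact ⟨t + 1, by rw [add_mul]; omega⟩
    obtain ⟨t, ht⟩ := this Finset.univ
    rw [top, inf_top_eq, h1] at ht
    have := finrank_mono (inf_le_right (a := W) (b := C))
    obtain _ | t := t
    · left; omega
    · exact Or.inr ⟨by rw [ht, add_mul]; omega, by rw [ht, Nat.add_mul_mod_self_right]; exact (Nat.mod_le _ _).trans this⟩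
  have := dim _ le_rfl Finset.univ
  rw [top, finrank_top, Finset.card_fin] at this
  obtain ⟨j, i, hj, hi, e⟩ : ∃ j i, j ≤ s ∧ i ≤ finrank F C ∧ i + j * a = m := by
    rcases h with h | h
    · exact ⟨0, m, by omega, h, by simp⟩
    by_cases c : m / a ≤ s
    · exact ⟨_, _, c, h.2, Nat.mod_add_div' m a⟩
    · have := (Nat.mul_le_mul_right a (not_le.1 c).le).trans (Nat.div_mul_le_self m a)
      exact ⟨_, m - s * a, le_rfl, by omega, by omega⟩
  obtain ⟨T, -, rfl⟩ := Finset.exists_subset_card_eq (hj.trans (Finset.card_fin s).ge)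
  obtain ⟨v, hv⟩ := exists_linearIndependent_of_le_finrank hi
  obtain ⟨C', h1⟩ : ∃ C' : Submodule F C, finrank F C' = i := ⟨_, (finrank_span_eq_card hv).trans (Fintype.card_fin i)⟩
  refine ⟨_, ?_, inv _ (map_subtype_le C C') T⟩
  rw [dim _ (map_subtype_le C C'), finrank_map_subtype_eq, h1, e]

end Cfsg.Agent.S5952
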