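import Cfsg.Statements.S5953
import Cfsg.Agent.H5.El10

set_option autoImplicit false
open scoped MatrixGroups
open Cfsg

namespace Cfsg.Agent.S5953

open CfsgH5 Pointwise Module Polynomial

/-- Elements of prime order of PSU_n(q) with no fixed totally isotropic `m`-space. Here `T = PSU_n(q)` (`n ≥ 3`, `(n, q) ≠ (3, 2)`), realised through the matrices of determinant 1 over the field `F` with `q²` elements preserving the Hermitian form `h(u, v) = Σ u_i v_i^q`; an element of `T` of prime order `r` is such a matrix `x` with `x^r` scalar and `x` not scalar. For `r ≠ p` let `i` be the multiplicative order of `q` modulo `r`, `b = i/2` for `i` even and `b = i` for `i` odd, `c = i, i/2, 2i` according as `i ≡ 0, 2 (mod 4)` or `i` odd, and write `k = n mod c`, `ℓ = m mod b`, `ℓ' = m mod c`, `n' = ⌊n/b⌋`, `m' = ⌊m/b⌋`, `s = (r−1)/b`; `(a)_r` is the `r`-part of `a`. Let `1 ≤ m ≤ n/2` and let `r` be a prime dividing the number of totally isotropic `m`-spaces. Then every element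 of `T` of order `r` fixes a totally isotropic `m`-space if and only if either (i) `r = 2`, `p ≠ 2`, and (`m < n/2` or `(q+1)_2 ≤ (n)_2`); or (ii) `r ≠ p`, `r > 2`, `b ≤ m`, `k ≥ 2ℓ`, and either `i ≢ 2 (mod 4)`, or `i ≡ 2 (mod 4)`, `n' − 2m' ≥ s` and (`i > 2`, or `i = 2` and (`r ∣ m` or `(q+1)_r ≥ (n)_r`)). -/
theorem result {F : Type*} [Field F] [Fintype F] {p : ℕ} [Fact p.Prime] [CharP F p] {q : ℕ} (hq : Fintype.card F = q ^ 2)
    (n m : ℕ) (hn : 3 ≤ n) (hT : (n, q) ≠ (3, 2)) (hm : 1 ≤ m) (hmn : 2 * m ≤ n)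
    (r : ℕ) [Fact r.Prime]
    (hrΩ : r ∣ Nat.card {W : Submodule F (Fin n → F) // Module.finrank F ↥W = m ∧ (∀ u ∈ W, ∀ v ∈ W, Cfsg.hermForm n F q u v = 0)})
    (i b c : ℕ) (hi : i = orderOf (q : ZMod r)) (hb : b = if Even i then i / 2 else i)
    (hc : c = if i % 4 = 0 then i else if i % 4 = 2 then i / 2 else 2 * i) :
    (∀ x : Matrix.SpecialLinearGroup (Fin n) F, x ∈ Cfsg.SU n F q →
      (∃ z : F, ((x ^ r : Matrix.SpecialLinearGroup (Fin n) F) : Matrix (Fin n) (Fin n) F) = z • (1 : Matrix (Fin n) (Fin n) F)) →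
      (∀ z : F, (x : Matrix (Fin n) (Fin n) F) ≠ z • (1 : Matrix (Fin n) (Fin n) F)) →
      ∃ W : Submodule F (Fin n → F), Module.finrank F ↥W = m ∧ (∀ u ∈ W, ∀ v ∈ W, Cfsg.hermForm n F q u v = 0) ∧
        W.map (Matrix.toLin' (x : Matrix (Fin n) (Fin n) F)) ≤ W) ↔
    ((r = 2 ∧ p ≠ 2 ∧ (2 * m < n ∨ padicValNat 2 (q + 1) ≤ padicValNat 2 n)) ∨
     (r ≠ p ∧ 2 < r ∧ b ≤ m ∧ 2 * (m % b) ≤ n % c ∧
       (i % 4 ≠ 2 ∨ (i % 4 = 2 ∧ (r - 1) / b + 2 * (m / b) ≤ n / b ∧
         (2 < i ∨ (i = 2 ∧ (r ∣ m ∨ padicValNat r n ≤ padicValNat r (q + 1)))))))) := by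
  classical
  have hr : r.Prime := Fact.out
  subst hi hb hc
  have hS := uForm_nondeg hq n
  have hV : finrank F (Fin n → F) = n := by simp
  have hM : (uParam hq).IsMax := unitParam_isMax _ _
  have hts : ∀ W : Submodule F (Fin n → F), (∀ u ∈ W, ∀ v ∈ W, (uForm hq n).B u v = 0) ↔ (uForm hq n).TotSing W :=
    fun W => ⟨Form.totSing_of_isMax hM, fun h u hu => Form.mem_perp.1 (h.le_perp hu)⟩
  simp only [← uForm_B hq, hts] at hrΩ ⊢
  have hrp : r ≠ p := by
    rintro rfl
    obtain ⟨u, h1, -, h2⟩ := exists_ru (F := F) (V := Fin n → F) (by omega)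
    obtain ⟨g, h3, h4⟩ := hS.unit_exists_nil ((ru_iff (by omega)).1 h1).1
    exact hS.ru_ts hM r h3 ((h2 _).2 h4) (by omega) (by omega) hrΩ
  have h0 := cast_ne_of_ne (F := F) p hr hrp
  have hq1 := q_pos hq
  rw [su_forall hq (by omega) (fun g => ∃ W : Submodule F _, finrank F W = m ∧ (uForm hq n).TotSing W ∧ ∀ v ∈ W, g v ∈ W)
    fun x => by simp only [Submodule.map_le_iff_le_comap]; rfl]
  have hP : ∀ (c : Fˣ) (g : (Fin n → F) ≃ₗ[F] (Fin n → F)), (∃ W : Submodule F _, finrank F W = m ∧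
      (uForm hq n).TotSing W ∧ ∀ v ∈ W, (scE (Fin n → F) c * g) v ∈ W) → ∃ W : Submodule F _, finrank F W = m ∧
        (uForm hq n).TotSing W ∧ ∀ v ∈ W, g v ∈ W := fun c g => by
    simp only [← LinearEquiv.coe_coe, inv_smul_iff]; exact id
  have key : ∀ g ∈ (uForm hq n).isom, ∀ l, g ^ r = scE _ l → ∀ (L : Finset F[X]) u, ed g.toLinearMap = L.val + (u + u) →
      (∀ a ∈ ed g.toLinearMap, a.natDegree = 1 ∧ du (frobQ hq) a = a) → ((∃ W : Submodule F _, finrank F W = m ∧
        (uForm hq n).TotSing W ∧ ∀ v ∈ W, g v ∈ W) ↔ L.card + 2 * m ≤ n) := fun g hg l hl L u e h => by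
    have h1 := dg0_ed g.toLinearMap
    rw [dg0_const fun a ha => (h a ha).1, e] at h1
    simp only [Multiset.card_add, Finset.card_val] at h1
    have h2 : ∀ s ≤ ed g.toLinearMap, s.map (du (frobQ hq)) = s ∧ dg0 s = s.card := fun s hs =>
      ⟨map_fix fun a ha => (h a (Multiset.mem_of_le hs ha)).2, by
        rw [dg0_const fun a ha => (h a (Multiset.mem_of_le hs ha)).1, one_mul]⟩
    rw [hS.u_ts hg (sqfree_sub_C h0 l) (aeval_of_pow hl)]
    refine ⟨fun ⟨s, a1, a2⟩ => ?_, fun H => ?_⟩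
    · have a3 := h2 s ((Multiset.le_add_right _ _).trans a1)
      rw [a3.1, e] at a1
      have := dbl_bound a1
      omega
    · obtain ⟨s, a1, a2⟩ := exists_le_card u (k := m) (by omega)
      have a3 := ((add_le_add a1 a1).trans (Multiset.le_add_left _ L.val)).trans e.ge
      have a4 := h2 s ((Multiset.le_add_right _ _).trans a3)
      exact ⟨s, by rwa [a4.1], by omega⟩
  by_cases hr2 : r = 2
  · subst hr2
    have h2 : (2 : F) ≠ 0 := by simpa using h0
    obtain ⟨t, ht⟩ : Odd q := (Nat.odd_pow_iff two_ne_zero).1 (hq ▸ odd_of_two_ne h2)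
    have h3 : ∀ c : F, (-c) ^ (q + 1) = c ^ (q + 1) := fun c => (show Even (q + 1) from ⟨t + 1, by omega⟩).neg_pow c
    have h4 : ∀ {c : F} {a b : ℕ}, c ^ (q + 1) = 1 → ∀ x ∈ Multiset.replicate a (X - C c) +
        Multiset.replicate b (X - C (-c)), x.natDegree = 1 ∧ du (frobQ hq) x = x := fun a1 x hx => by
      rcases Multiset.mem_add.1 hx with e | e <;> rw [Multiset.eq_of_mem_replicate e]
      · exact ⟨natDegree_X_sub_C _, du_lin hq a1⟩
      · exact ⟨natDegree_X_sub_C _, du_lin hq ((h3 _).trans a1)⟩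
    simp only [hrp.symm, ne_eq, not_false_eq_true, true_and, lt_irrefl, false_and, and_false, or_false]
    refine ⟨fun H => or_iff_not_imp_left.2 fun e => not_lt.1 fun e' => ?_, fun H g hg ⟨⟨l, hl⟩, _⟩ => ?_⟩
    · have a0 : 2 ^ (padicValNat 2 n + 1) ∣ q + 1 := (padicValNat_dvd_iff_le (by omega)).2 e'
      obtain ⟨c, a1, a2⟩ := exists_neg_pow (F := F) (n := n) (by omega) (card_sub_one hq ▸ a0.mul_right _)
      have a3 : c.1 ^ (q + 1) = 1 := let ⟨k, hk⟩ := a0; by rw [hk, pow_mul, a1, one_pow]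
      obtain ⟨g, b1, ⟨⟨l, hl⟩, b2⟩, b3⟩ := hS.u_exists_inv h2 (a := 1) (b := n - 1) (by omega) (by omega) (.inl a3)
        (by omega) (by rw [(show Odd (n - 1) from ⟨m - 1, by omega⟩).neg_pow, mul_neg, ← pow_add,
          Nat.add_sub_cancel' (by omega), a2, neg_neg])
      have a4 : (X - C c.1 : F[X]) ≠ X - C (-c.1) := fun e => h2 (by
        simpa using show 2 * c.1 = 0 by linear_combination C_injective (sub_right_inj.1 e))
      have := (key g b1.1 l hl {X - C c.1, X - C (-c.1)} (Multiset.replicate (m - 1) (X - C (-c.1))) (by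
        rw [b3, show n - 1 = m - 1 + (m - 1) + 1 by omega, Multiset.replicate_succ _ (_ + _), Multiset.replicate_add,
          Finset.insert_val_of_notMem (by simpa using a4)]; rfl) (b3 ▸ h4 a3)).1 (H g b1 ⟨⟨l, hl⟩, b2⟩)
      rw [Finset.card_pair a4] at this
      omega
    · rw [hS.u_ts hg.1 (sqfree_sub_C h0 l) (aeval_of_pow hl)]
      obtain ⟨c, a, b, a1 | ⟨a1, rfl⟩, a2⟩ := hS.u_inv (by omega) h2 hg.1 hl <;> obtain ⟨a3, a4⟩ := det_lin a2
      · have a5 : m ≤ a / 2 + b / 2 := not_lt.1 fun e => neg_pow_false h2 (by omega) (H.resolve_left (by omega)) a1 (by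
          rw [mem_slSub.1 hg.2, (Nat.odd_iff.2 (by omega) : Odd b).neg_pow, mul_neg, ← pow_add, ← a3, hV] at a4
          rw [a4, neg_neg])
        refine ⟨Multiset.replicate (min m (a / 2)) (X - C c) + Multiset.replicate (m - min m (a / 2)) (X - C (-c)), ?_,
          by simp [dg0_rep, -map_neg]⟩
        rw [map_fix fun x hx => (h4 a1 x hx).2, a2, add_add_add_comm, ← Multiset.replicate_add,
          ← Multiset.replicate_add]
        exact add_le_add ((Multiset.replicate_le_replicate _).2 (by omega))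
          ((Multiset.replicate_le_replicate _).2 (by omega))
      · refine ⟨Multiset.replicate m (X - C c), ?_, by simp [dg0_rep]⟩
        rw [Multiset.map_replicate, du_lin' hq a1, a2]
        exact add_le_add ((Multiset.replicate_le_replicate _).2 (by omega))
          ((Multiset.replicate_le_replicate _).2 (by omega))
  have h3 : 2 < r := hr.two_le.lt_of_ne' hr2
  have h5 := ord_sq hq hr h0
  simp only [hrp, hr2, h3, ne_eq, not_false_eq_true, true_and, false_and, false_or, ← h5]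
  by_cases hi : orderOf (q : ZMod r) = 2
  · have h4 := (ord_two_iff hr hr2).1 hi
    simp only [hi, even_two, if_true] at h5
    simp only [hi, h5, hm, Nat.mod_one, Nat.div_one]
    simp only [Nat.reduceMod, Nat.reduceDiv, if_true, Nat.mod_one, le_refl, not_true_eq_false, false_or, true_and,
      lt_irrefl, OfNat.ofNat_ne_zero, if_false, mul_zero]
    refine ⟨fun H => ⟨not_lt.1 fun e => ?_, or_iff_not_imp_right.2 fun e => ?_⟩, fun H g hg a => ?_⟩
    · obtain ⟨ζ, hζ⟩ := exists_orderOf_field (F := F) (d := r) (card_sub_one hq ▸ h4.mul_right _)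
      obtain ⟨l, hl⟩ : ∃ l, n = l + 2 * (m - 1) := ⟨n - 2 * (m - 1), by omega⟩
      let f : ℕ → F := fun j => (ζ ^ (2 * j) * (ζ ^ (l - 1))⁻¹ : Fˣ)
      have a1 : ∀ j, f j ^ r = 1 := fun j => by
        simp only [f, ← Units.val_pow_eq_pow_val, mul_pow, inv_pow, ← pow_mul, mul_comm _ r]
        simp [pow_mul, hζ ▸ pow_orderOf_eq_one ζ]
      have a0 : orderOf (ζ ^ 2) = r := by
        rw [Nat.Coprime.orderOf_pow (hζ ▸ (Nat.coprime_primes hr Nat.prime_two).2 hr2), hζ]
      have a2 : ∀ i < l, ∀ j < l, (X - C (f i) : F[X]) = X - C (f j) → i = j := fun i hi j hj e =>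
        pow_injOn_Iio_orderOf (x := ζ ^ 2) (by simp [a0]; omega) (by simp [a0]; omega)
          (Units.ext (by simpa [f, pow_mul] using C_injective (sub_right_inj.1 e)))
      have a3 : ∀ x ∈ (Multiset.range l).map f + (Multiset.replicate (m - 1) 1 + Multiset.replicate (m - 1) 1),
          x ^ r = 1 := by simpa [or_imp, forall_and, Multiset.mem_replicate] using fun j _ => a1 j
      have a4 := fun (x : F) hx => show x ^ (q + 1) = 1 by rw [h4.choose_spec, pow_mul, a3 x hx, one_pow]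
      obtain ⟨g, b1, b2⟩ := hS.u_exists_diag a4 (by simp; omega) (by
        simp only [Multiset.prod_add, Multiset.prod_replicate, one_pow, mul_one, f]
        rw [← Finset.range_val, ← Finset.prod_eq_multiset_prod, ← Units.coe_prod, Finset.prod_mul_distrib,
          Finset.prod_pow_eq_pow_sum, ← Finset.mul_sum, mul_comm 2, Finset.sum_range_id_mul_two]
        simp [← pow_mul, mul_comm l])
      have b3 : PE r g := pe_of_ed (l := 1) (x := X - C (f 0)) (y := X - C (f 1)) (by
        simpa [b2, -Multiset.map_add, dvd_iff_isRoot, sub_eq_zero] using a3) (by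
          simp only [b2, Multiset.map_add, Multiset.mem_add, Multiset.mem_map, Multiset.mem_range]
          exact .inl ⟨_, ⟨0, by omega, rfl⟩, rfl⟩) (by
          simp only [b2, Multiset.map_add, Multiset.mem_add, Multiset.mem_map, Multiset.mem_range]
          exact .inl ⟨_, ⟨1, by omega, rfl⟩, rfl⟩) (.inl fun e => by simpa using a2 0 (by omega) 1 (by omega) e)
      obtain ⟨l', hl'⟩ := b3.1
      have := (key g b1.1 l' hl' ⟨(Multiset.range l).map fun j => X - C (f j), Multiset.Nodup.map_on (by simpa using a2)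
        (Multiset.nodup_range l)⟩ (Multiset.replicate (m - 1) (X - C 1)) (by simp [b2]) (by
          simpa [b2, -Multiset.map_add] using fun x hx => du_lin hq (a4 x hx))).1 (H g b1 b3)
      simp at this
      omega
    · obtain ⟨g, a1, a2, k, l, -, -, a3, -⟩ := (hS.u_irr (by omega) hr hr2 h4).2 (hV.symm ▸ e)
      obtain ⟨l', hl'⟩ := a2.1
      obtain ⟨s, a4, a5⟩ := (hS.u_ts a1.1 (sqfree_sub_C h0 l') (aeval_of_pow hl')).1 (H g a1 a2)
      obtain ⟨j, -, a6⟩ := sub_rep_iff.1 ⟨s, a3 ▸ (Multiset.le_add_right _ _).trans a4, a5⟩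
      exact ⟨j, by rw [a6, natDegree_X_pow_sub_C, mul_comm]⟩
    · obtain ⟨l, hl⟩ := a.1
      obtain ⟨c, a1, a2⟩ | ⟨a1, a2, k, a3, a4⟩ := hS.u_cases (by omega) hr hr2 h4 hg.1 hl
      · obtain ⟨s, e, a3⟩ := exists_cy hr h0 a2
        obtain ⟨L, u, a4⟩ := exists_dbl' (ed (scE _ c * g).toLinearMap)
        have a5 : ∀ x ∈ ed (scE _ c * g).toLinearMap, x.natDegree = 1 ∧ du (frobQ hq) x = x := fun x hx => by
          rcases Multiset.mem_add.1 (a3.eq ▸ hx) with e | e
          · exact ⟨by rw [a3.deg hr h0 x e, h5], (du_frob_iff hq hr hr2 h0 (a3.mem x e)).2 (by rw [hi])⟩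
          · simp [Multiset.eq_of_mem_replicate e]
        refine hP c g ((key _ (mul_mem (Form.u_scE_mem a1) hg.1) 1 (a2.trans (map_one _).symm) L u a4 a5).2 ?_)
        have a6 := dg0_ed (scE _ c * g).toLinearMap
        rw [dg0_const fun a ha => (a5 a ha).1, a4] at a6
        have a7 : L.card ≤ (cyT F r).card + 1 := (Finset.card_le_card (t := insert (X - 1) (cyT F r)) fun x hx => by
          rcases Multiset.mem_add.1 (a3.eq ▸ a4 ▸ Multiset.mem_add.2 (.inl hx)) with e | e
          · exact Finset.mem_insert_of_mem (a3.mem x e)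
          · simp [Multiset.eq_of_mem_replicate e]).trans (Finset.card_insert_le _ _)
        rw [(cyT_spec hr h0).2, h5] at a7
        obtain ⟨_, _⟩ := hr.odd_of_ne_two hr2
        simp only [Multiset.card_add, Finset.card_val] at a6
        omega
      · have a5 : l.1 ^ (q + 1) = 1 := by simpa using congrArg Units.val a2
        obtain ⟨j, rfl⟩ := H.2.resolve_right fun e => (hS.u_irr (by omega) hr hr2 h4).1
          ⟨g, hg, a, k, l, a1, a5, a3, a4⟩ (hV.symm ▸ e)
        rw [pow_succ'] at a5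
        refine (hS.u_ts hg.1 (sqfree_sub_C h0 l) (aeval_of_pow hl)).2 ⟨Multiset.replicate j (X ^ r - C l.1), ?_,
          by rw [dg0_rep, natDegree_X_pow_sub_C, mul_comm]⟩
        rw [Multiset.map_replicate, du_X_pow_sub_C hr.ne_zero l.ne_zero, frobQ_apply, ← eq_inv_of_mul_eq_one_left a5,
          a3, ← Multiset.replicate_add, Multiset.replicate_le_replicate]
        exact Nat.le_of_mul_le_mul_left (by rw [mul_comm r k, mul_add]; omega) hr.pos
  obtain ⟨U, a1, a2, -⟩ := (hS.u_ts (one_mem _) (sqfree_sub_C h0 1) (aeval_of_pow (by simp)) (x := m)).2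
    ⟨Multiset.replicate m (X - 1), by
      rw [show ed (1 : (Fin n → F) ≃ₗ[F] _).toLinearMap = _ from pr_one.ed_eq fun a ha => by
        simpa [Multiset.eq_of_mem_replicate ha] using pp_unip (F := F) one_pos, Multiset.map_replicate, du_X_sub_one,
        ← Multiset.replicate_add, Multiset.replicate_le_replicate]
      omega, by simp [dg0_rep]⟩
  obtain ⟨e, f, a3, -⟩ := hS.exists_hypFam_span' a2 a1
  have hj := hS.ts_dvd (hS.u_rat hr hr2 h0 _) a3 hrΩ
  rw [hS.u_red ((Nat.Prime.coprime_iff_not_dvd hr).2 fun e => hi ((ord_two_iff hr hr2).2 e)) (by omega) hP]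
  by_cases h6 : orderOf (q : ZMod r) % 4 = 2
  · rw [if_pos (Nat.even_iff.2 (by omega))] at h5
    rw [if_neg (by omega), if_pos h6, ← h5] at hj ⊢
    rw [hS.ts_fix hS.u_embAll (fun a ha => (du_frob_iff hq hr hr2 h0 ha).2 h6) hr hr2 h0
      (fun g hg _ => (hS.u_rc hg).rt) (by omega) (fun k _ => exU_u_one k) hj, hV]
    simp [h6, show 2 < orderOf (q : ZMod r) by omega]
  · have h7 : (if orderOf (q : ZMod r) % 4 = 0 then orderOf (q : ZMod r) else if orderOf (q : ZMod r) % 4 = 2 then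
        orderOf (q : ZMod r) / 2 else 2 * orderOf (q : ZMod r)) = 2 * orderOf (Fintype.card F : ZMod r) := by
      rw [h5]; simp only [Nat.even_iff]; split_ifs <;> omega
    rw [h7] at hj ⊢
    rw [hS.ts_free hS.u_embAll (fun a ha e => h6 ((du_frob_iff hq hr hr2 h0 ha).1 e)) hr hr2 h0
      (fun g hg _ => (hS.u_rc hg).rt) (by omega) (fun k _ => exU_u_one k) hj, hV]
    simp [h6]

end Cfsg.Agent.S5953
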