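import Cfsg.Statements.S5954
import Cfsg.Agent.H5.El8

set_option autoImplicit false
open scoped MatrixGroups
open Cfsg

namespace Cfsg.Agent.S5954

open CfsgH5 Pointwise Module Polynomial

/-- Elements of prime order of PSU_n(q) with no fixed nondegenerate `m`-space. Here `T = PSU_n(q)` (`n ≥ 3`, `(n, q) ≠ (3, 2)`), realised through the matrices of determinant 1 over the field `F` with `q²` elements preserving the Hermitian form `h(u, v) = Σ u_i v_i^q`; an element of `T` of prime order `r` is such a matrix `x` with `x^r` scalar and `x` not scalar. For `r ≠ p` let `i` be the multiplicative order of `q` modulo `r`, `b = i/2` for `i` even and `b = i` for `i` odd, `c = i, i/2, 2i` according as `i ≡ 0, 2 (mod 4)` or `i` odd, and write `k = n mod c`, `ℓ = m mod b`, `ℓ' = m mod c`, `n' = ⌊n/b⌋`, `m' = ⌊m/b⌋`, `s = (r−1)/b`; `(a)_r` is the `r`-part of `a`. Let `1 ≤ m < n/2` and let `r` be a prime dividing the number of nondegenerate `m`-spaces. Then every element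 of `T` of order `r` fixes a nondegenerate `m`-space if and only if one of: (i) `r = p > 2` and every partition of `n` into parts of size at most `p` contains (as a sub-multiset) a partition of `m`; (ii) `r = p = 2` and (`n` is odd or `m` is even); (iii) `r = 2 ≠ p` and (`n` is odd, or `m` is even, or `(q+1)_2 ≥ (n)_2` and `q ≡ 3 (mod 4)`); (iv) `r ≠ p`, `r > 2`, and either `i ≠ 2`, `c ≤ m` and `k ≥ ℓ'`, or `i = 2` and (`r ∣ m` or `(q+1)_r ≥ (n)_r`). -/
theorem result {F : Type*} [Field F] [Fintype F] {p : ℕ} [Fact p.Prime] [CharP F p] {q : ℕ} (hq : Fintype.card F = q ^ 2)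
    (n m : ℕ) (hn : 3 ≤ n) (hT : (n, q) ≠ (3, 2)) (hm : 1 ≤ m) (hmn : 2 * m < n)
    (r : ℕ) [Fact r.Prime]
    (hrΩ : r ∣ Nat.card {W : Submodule F (Fin n → F) // Module.finrank F ↥W = m ∧ (∀ u ∈ W, u ≠ 0 → ∃ v ∈ W, Cfsg.hermForm n F q u v ≠ 0)})
    (i b c : ℕ) (hi : i = orderOf (q : ZMod r)) (hb : b = if Even i then i / 2 else i)
    (hc : c = if i % 4 = 0 then i else if i % 4 = 2 then i / 2 else 2 * i) :
    (∀ x : Matrix.SpecialLinearGroup (Fin n) F, x ∈ Cfsg.SU n F q →
      (∃ z : F, ((x ^ r : Matrix.SpecialLinearGroup (Fin n) F) : Matrix (Fin n) (Fin n) F) = z • (1 : Matrix (Fin n) (Fin n) F)) →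
      (∀ z : F, (x : Matrix (Fin n) (Fin n) F) ≠ z • (1 : Matrix (Fin n) (Fin n) F)) →
      ∃ W : Submodule F (Fin n → F), Module.finrank F ↥W = m ∧ (∀ u ∈ W, u ≠ 0 → ∃ v ∈ W, Cfsg.hermForm n F q u v ≠ 0) ∧
        W.map (Matrix.toLin' (x : Matrix (Fin n) (Fin n) F)) ≤ W) ↔
    ((r = p ∧ 2 < p ∧ (∀ μ : Multiset ℕ, (∀ a ∈ μ, 0 < a ∧ a ≤ p) → μ.sum = n → ∃ ν : Multiset ℕ, ν ≤ μ ∧ ν.sum = m)) ∨
     (r = p ∧ p = 2 ∧ (Odd n ∨ Even m)) ∨
     (r = 2 ∧ p ≠ 2 ∧ (Odd n ∨ Even m ∨ (padicValNat 2 n ≤ padicValNat 2 (q + 1) ∧ q % 4 = 3))) ∨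
     (r ≠ p ∧ 2 < r ∧ ((i ≠ 2 ∧ c ≤ m ∧ m % c ≤ n % c) ∨ (i = 2 ∧ (r ∣ m ∨ padicValNat r n ≤ padicValNat r (q + 1)))))) := by
  classical
  have hr : r.Prime := Fact.out
  subst hi hc
  have hS := uForm_nondeg hq n
  have hV : finrank F (Fin n → F) = n := by simp
  simp only [← uForm_B hq, nd_iff'] at hrΩ ⊢
  rw [su_forall hq (by omega) (fun g => ∃ W : Submodule F _, finrank F W = m ∧ (uForm hq n).NondegOn W ∧ ∀ v ∈ W, g v ∈ W)
    fun x => by simp only [Submodule.map_le_iff_le_comap]; rfl]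
  have hP : ∀ (c : Fˣ) (g : (Fin n → F) ≃ₗ[F] (Fin n → F)), (∃ W : Submodule F _, finrank F W = m ∧
      (uForm hq n).NondegOn W ∧ ∀ v ∈ W, (scE (Fin n → F) c * g) v ∈ W) → ∃ W : Submodule F _, finrank F W = m ∧
        (uForm hq n).NondegOn W ∧ ∀ v ∈ W, g v ∈ W := fun c g => by
    simp only [← LinearEquiv.coe_coe, inv_smul_iff]; exact id
  have hlin : ∀ g ∈ (uForm hq n).isom, (∀ a ∈ ed g.toLinearMap, a.natDegree = 1 ∧ du (frobQ hq) a = a) →
      ∃ W : Submodule F _, finrank F W = m ∧ (uForm hq n).NondegOn W ∧ ∀ v ∈ W, g v ∈ W := fun g hg h => by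
    have := dg0_ed g.toLinearMap
    rw [dg0_const fun a ha => (h a ha).1] at this
    obtain ⟨s, h1, h2⟩ := exists_le_card (ed g.toLinearMap) (k := m) (by omega)
    exact (hS.u_nd hg).2 ⟨s, h1, map_fix fun a ha => (h a (Multiset.mem_of_le h1 ha)).2, by
      rw [dg0_const fun a ha => (h a (Multiset.mem_of_le h1 ha)).1, h2, one_mul]⟩
  by_cases hrp : r = p
  · subst hrp
    have h1 : r ∣ q := hr.dvd_of_dvd_pow (hq ▸ p_dvd_card r)
    have key : (∀ g ∈ (uForm hq n).isom, g ^ r = 1 → g ≠ 1 → ∃ W : Submodule F _, finrank F W = m ∧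
        (uForm hq n).NondegOn W ∧ ∀ v ∈ W, g v ∈ W) ↔ ∀ μ : Multiset ℕ, (∀ a ∈ μ, 0 < a ∧ a ≤ r) → μ.sum = n →
          μ ≠ Multiset.replicate n 1 → ∃ ν ≤ μ, ν.sum = m := by
      have h2 : ∀ g ∈ (uForm hq n).isom, IsNilpotent (g.toLinearMap - 1) → ((∃ W : Submodule F _, finrank F W = m ∧
          (uForm hq n).NondegOn W ∧ ∀ v ∈ W, g v ∈ W) ↔ ∃ ν ≤ jt g.toLinearMap, ν.sum = m) := fun g hg h => by
        rw [hS.u_nd hg, ← sub_unip h]
        refine exists_congr fun s => and_congr_right fun a => and_iff_right (map_fix fun b hb => ?_)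
        obtain ⟨e, -, rfl⟩ := Multiset.mem_map.1 (ed_eq_jt h ▸ Multiset.mem_of_le a hb)
        simp
      refine ⟨fun H μ a1 a2 a3 => ?_, fun H g hg a1 a2 => ?_⟩
      · obtain ⟨g, b1, rfl⟩ := exists_jt (F := F) (V := Fin n → F) (fun e he => (a1 e he).1) (a2.trans hV.symm)
        obtain ⟨g', b2, b3⟩ := hS.unit_exists_nil b1
        have b4 : IsNilpotent (g'.toLinearMap - 1) :=
          (((ed_eq_jt b1 ▸ pr_ed _ : Pr g.toLinearMap _).of_sim b3).jt jt_pos).1
        have b5 := (jt_prime r b4).2 ⟨fun e he => (a1 e (b3.jt ▸ he)).2, by rw [← b3.jt, hV]; exact a3⟩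
        exact b3.jt ▸ (h2 g' b2 b4).1 (H g' b2 b5.1 b5.2)
      · have b4 := nil_of_pow r a1
        have b5 := (jt_prime r b4).1 ⟨a1, a2⟩
        exact (h2 g hg b4).2 (H _ (fun e he => ⟨jt_pos e he, b5.1 e he⟩) ((jt_sum _).trans hV) (by simpa using b5.2))
    rw [hS.u_red ((Nat.Prime.coprime_iff_not_dvd hr).2 fun e => hr.one_lt.ne' (Nat.dvd_one.1 ((Nat.dvd_add_right h1).1 e)))
      (by omega) hP, key]
    by_cases h2 : r = 2
    · subst h2
      simp only [lt_irrefl, false_and, and_false, false_or, true_and, ne_eq, not_true_eq_false, or_false]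
      refine ⟨fun H => or_iff_not_imp_left.2 fun e => ?_, fun H μ a1 a2 _ => ?_⟩
      · obtain ⟨k, rfl⟩ := Nat.not_odd_iff_even.1 e
        obtain ⟨ν, a1, rfl⟩ := H (Multiset.replicate k 2) (fun a ha => by simp [Multiset.eq_of_mem_replicate ha])
          (by simp; omega) fun e => by have := congrArg Multiset.card e; simp at this; omega
        obtain ⟨j, -, rfl⟩ := Multiset.le_replicate_iff.1 a1
        simp
      · obtain ⟨a, b, rfl⟩ := eq_rep_add_rep (x := 2) (y := 1) μ fun a ha => by have := a1 a ha; omega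
        simp only [Multiset.sum_add, Multiset.sum_replicate, smul_eq_mul, Nat.odd_iff, Nat.even_iff] at a2 H
        refine ⟨Multiset.replicate (min a (m / 2)) 2 + Multiset.replicate (m - 2 * min a (m / 2)) 1, add_le_add
          ((Multiset.replicate_le_replicate _).2 (by omega)) ((Multiset.replicate_le_replicate _).2 (by omega)), ?_⟩
        simp only [Multiset.sum_add, Multiset.sum_replicate, smul_eq_mul]
        omega
    · simp only [h2, hr.two_le.lt_of_ne' h2, false_and, and_false, false_or, true_and, ne_eq, not_true_eq_false, or_false]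
      refine ⟨fun H μ a1 a2 => ?_, fun H μ a1 a2 _ => H μ a1 a2⟩
      by_cases e : μ = Multiset.replicate n 1
      · exact ⟨Multiset.replicate m 1, e ▸ (Multiset.replicate_le_replicate _).2 (by omega), by simp⟩
      · exact H μ a1 a2 e
  have h0 := cast_ne_of_ne (F := F) p hr hrp
  have hq1 := q_pos hq
  by_cases hr2 : r = 2
  · subst hr2
    have h2 : (2 : F) ≠ 0 := by simpa using h0
    obtain ⟨t, ht⟩ : Odd q := (Nat.odd_pow_iff two_ne_zero).1 (hq ▸ odd_of_two_ne h2)
    have h3 : ∀ c : F, (-c) ^ (q + 1) = c ^ (q + 1) := fun c => (show Even (q + 1) from ⟨t + 1, by omega⟩).neg_pow c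
    have h4 : ∀ (c : F) (k : ℕ), c ^ k * (-c) ^ k = (-1) ^ k * c ^ (2 * k) := fun c k => by rw [neg_pow c]; ring
    have h5 : ∀ {c : F} {k : ℕ} {s : Multiset F[X]}, c ^ (q + 1) = -1 → s ≤ Multiset.replicate k (X - C c) +
        Multiset.replicate k (X - C (-c)) → s.map (du (frobQ hq)) = s → Even (dg0 s) := fun {c k s} a1 a2 a3 => by
      have a4 : ∀ a ∈ s, a = X - C c ∨ a = X - C (-c) := fun a ha => (Multiset.mem_add.1 (Multiset.mem_of_le a2 ha)).imp
        Multiset.eq_of_mem_replicate Multiset.eq_of_mem_replicate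
      have a5 : c ≠ -c := fun e => by
        obtain rfl : c = 0 := by simpa [h2] using show 2 * c = 0 by linear_combination e
        simp at a1
      obtain ⟨u, rfl⟩ := exists_half s (fun a ha => by
        rcases a4 a ha with rfl | rfl <;> simp [du_lin' hq a1, du_lin' hq ((h3 c).trans a1), -map_neg, a5, a5.symm]) a3
      rw [dg0_const (i := 1) fun a ha => by rcases a4 a ha with rfl | rfl <;> exact natDegree_X_sub_C _]
      simp
    simp only [hrp, Ne.symm hrp, ne_eq, not_false_eq_true, true_and, lt_irrefl, false_and, and_false, or_false, false_or]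
    refine ⟨fun H => ?_, fun H g hg ⟨⟨l, hl⟩, _⟩ => ?_⟩
    · by_contra e
      simp only [not_or, Nat.not_odd_iff_even] at e
      obtain ⟨⟨k, hk⟩, e1, e2⟩ := e
      obtain ⟨c, a1, a2⟩ : ∃ c : F, c ^ (q + 1) = -1 ∧ (-1) ^ k * c ^ (2 * k) = 1 := by
        by_cases e3 : q % 4 = 3
        · have a3 : 2 ^ (padicValNat 2 (q + 1) + 1) ∣ n := (padicValNat_dvd_iff_le (by omega)).2 (by
            simpa [e3] using e2)
          obtain ⟨c, a1, a2⟩ := exists_neg_pow (F := F) (n := q + 1) (by omega) (by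
            rw [card_sub_one hq, pow_succ]; exact Nat.mul_dvd_mul pow_padicValNat_dvd (by omega))
          have a4 := one_le_padicValNat_of_dvd (p := 2) (n := q + 1) (by omega) (by omega)
          have a5 := (pow_dvd_pow 2 (show 2 ≤ padicValNat 2 (q + 1) + 1 by omega)).trans a3
          obtain ⟨j, hj⟩ := a3
          exact ⟨c, a2, by rw [two_mul, ← hk, hj, pow_mul, a1, Even.neg_one_pow (Nat.even_iff.2 (by omega))]; simp⟩
        · obtain ⟨c, hc⟩ := (sq_neg_one_iff (odd_of_two_ne h2)).2 (by rw [hq, ht]; ring_nf; omega)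
          exact ⟨c, by rw [show q + 1 = 2 * (t + 1) by omega, pow_mul, hc, Odd.neg_one_pow (Nat.odd_iff.2 (by omega))],
            by rw [pow_mul, hc, ← mul_pow]; simp⟩
      obtain ⟨g, b1, b2, b3⟩ := hS.u_exists_inv h2 (a := k) (b := k) (by omega) (by omega) (.inr ⟨a1, rfl⟩) (by omega)
        ((h4 c k).trans a2)
      obtain ⟨s, b4, b5, rfl⟩ := (hS.u_nd b1.1).1 (H g b1 b2)
      exact e1 (h5 a1 (b3 ▸ b4) b5)
    · obtain ⟨c, a, b, a1 | ⟨a1, rfl⟩, a2⟩ := hS.u_inv (by omega) h2 hg.1 hl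
      · refine hlin g hg.1 fun x hx => ?_
        rcases Multiset.mem_add.1 (a2 ▸ hx) with e | e <;> rw [Multiset.eq_of_mem_replicate e]
        · exact ⟨natDegree_X_sub_C _, du_lin hq a1⟩
        · exact ⟨natDegree_X_sub_C _, du_lin hq ((h3 c).trans a1)⟩
      obtain ⟨a3, a4⟩ := det_lin a2
      rw [mem_slSub.1 hg.2, h4] at a4
      rcases H with H | ⟨k, hk⟩ | ⟨H, H'⟩
      · exact absurd H (Nat.not_odd_iff_even.2 ⟨a, by omega⟩)
      · refine (hS.u_nd hg.1).2 ⟨Multiset.replicate k (X - C c) + Multiset.replicate k (X - C (-c)), (add_le_add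
          ((Multiset.replicate_le_replicate _).2 (by omega)) ((Multiset.replicate_le_replicate _).2 (by omega))).trans
            a2.ge, ?_,
          by simp [dg0_rep, hk, -map_neg]⟩
        rw [Multiset.map_add, Multiset.map_replicate, Multiset.map_replicate, du_lin' hq a1,
          du_lin' hq ((h3 c).trans a1), neg_neg, add_comm]
      · rcases a.even_or_odd with e | e
        · exact absurd a1 (neg_pow_false h2 (by omega) H (by
            rw [e.neg_one_pow, one_mul] at a4; rw [show n = 2 * a by omega, ← a4]))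
        · refine absurd a1 (neg_pow_false h2 (N := 2 ^ 2 * a) (by omega) ?_ ?_)
          · rw [padicValNat.mul (by omega) (by omega), padicValNat.prime_pow,
              padicValNat.eq_zero_of_not_dvd e.not_two_dvd_nat, add_zero, ← padicValNat_dvd_iff_le (by omega)]
            omega
          · rw [e.neg_one_pow, neg_one_mul, eq_neg_iff_add_eq_zero, add_comm, add_eq_zero_iff_eq_neg] at a4
            rw [sq, mul_assoc, mul_comm, pow_mul, a4]
            simp
  have h3 : 2 < r := hr.two_le.lt_of_ne' hr2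
  simp only [hrp, hr2, h3, ne_eq, not_false_eq_true, true_and, false_and, false_or]
  by_cases hi : orderOf (q : ZMod r) = 2
  · have h4 := (ord_two_iff hr hr2).1 hi
    simp only [hi, not_true_eq_false, false_and, false_or, true_and]
    refine ⟨fun H => or_iff_not_imp_right.2 fun e => ?_, fun H g hg a => ?_⟩
    · obtain ⟨g, a1, a2, k, l, -, -, a3, -⟩ := (hS.u_irr (by omega) hr hr2 h4).2 (hV.symm ▸ e)
      obtain ⟨s, a4, -, a5⟩ := (hS.u_nd a1.1).1 (H g a1 a2)
      obtain ⟨j, -, a6⟩ := sub_rep_iff.1 ⟨s, a3 ▸ a4, a5⟩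
      exact ⟨j, by rw [a6, natDegree_X_pow_sub_C, mul_comm]⟩
    · obtain ⟨l, hl⟩ := a.1
      obtain ⟨c, a1, a2⟩ | ⟨a1, a2, k, a3, a4⟩ := hS.u_cases (by omega) hr hr2 h4 hg.1 hl
      · obtain ⟨s, e, a3⟩ := exists_cy hr h0 a2
        refine hP c g (hlin _ (mul_mem (Form.u_scE_mem a1) hg.1) fun x hx => ?_)
        rcases Multiset.mem_add.1 (a3.eq ▸ hx) with e | e
        · exact ⟨by rw [a3.deg hr h0 x e, ord_sq hq hr h0, hi]; simp, (du_frob_iff hq hr hr2 h0 (a3.mem x e)).2 (by rw [hi])⟩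
        · simp [Multiset.eq_of_mem_replicate e]
      · have a5 : l.1 ^ (q + 1) = 1 := by simpa using congrArg Units.val a2
        obtain ⟨j, rfl⟩ := H.resolve_right fun e => (hS.u_irr (by omega) hr hr2 h4).1
          ⟨g, hg, a, k, l, a1, a5, a3, a4⟩ (hV.symm ▸ e)
        rw [pow_succ'] at a5
        exact (hS.u_nd hg.1).2 ⟨Multiset.replicate j (X ^ r - C l.1), ((Multiset.replicate_le_replicate _).2
          (Nat.le_of_mul_le_mul_left (by rw [mul_comm r k]; omega) hr.pos)).trans a3.ge, by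
            rw [Multiset.map_replicate, du_X_pow_sub_C hr.ne_zero l.ne_zero, frobQ_apply, ← eq_inv_of_mul_eq_one_left a5],
          by rw [dg0_rep, natDegree_X_pow_sub_C, mul_comm]⟩
  · obtain ⟨U, a1, a2, -⟩ := (hS.u_nd (one_mem _) (x := m)).2 ⟨Multiset.replicate m (X - 1), by
      rw [show ed (1 : (Fin n → F) ≃ₗ[F] _).toLinearMap = _ from pr_one.ed_eq fun a ha => by
        simpa [Multiset.eq_of_mem_replicate ha] using pp_unip (F := F) one_pos, Multiset.replicate_le_replicate]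
      omega, by simp, by simp [dg0_rep]⟩
    rw [hS.u_red ((Nat.Prime.coprime_iff_not_dvd hr).2 fun e => hi ((ord_two_iff hr hr2).2 e)) (by omega) hP,
      hS.nd_red hS.u_embAll (u_DT hq hr hr2 h0) hr hr2 h0 (fun g hg _ => hS.u_rc hg) (by omega) (fun k _ => exU_u_one k)
        (hS.nd_dvd (hS.u_rat hr hr2 h0 m) a2 a1 (fun W b1 b2 => a2.res.unit_exists_isom (frobQ_ne hq) b1.res
          (a1.trans b2.symm)) hrΩ), hV]
    simp [hi]

end Cfsg.Agent.S5954
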