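import Cfsg.Statements.S5955
import Cfsg.Agent.H5.El8

set_option autoImplicit false
open scoped MatrixGroups
open Cfsg

namespace Cfsg.Agent.S5955

open CfsgH5 Pointwise Module Polynomial

/-- Elements of prime order of PSp_n(q) with no fixed totally isotropic `m`-space. Here `T = PSp_n(q)` with `n = 2d ≥ 4`, `(n, q) ≠ (4, 2)`, realised through the symplectic matrices over the field `F` with `q` elements (preserving the standard alternating form); an element of `T` of prime order `r` is such a matrix `x` with `x^r` scalar and `x` not scalar. For `r ≠ p` let `i` be the multiplicative order of `q` modulo `r`, `c = i` for `i` even and `c = 2i` for `i` odd, and write `k = n mod c`, `ℓ = m mod i`, `ℓ' = m mod c`, `n' = ⌊n/i⌋`, `m' = ⌊m/i⌋`, `t = (r−1)/i`. Let `1 ≤ m ≤ n/2` and let `r` be a prime dividing the number of totally isotropic `m`-spaces. Then every element of `T` of order `r` fixes a totally isotropic `m`-space if and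 only if either (i) `r = 2 ≠ p` and (`m` is even or `q ≡ 1 (mod 4)`); or (ii) `r ≠ p`, `r > 2`, `i ≤ m`, `k ≥ 2ℓ`, and (`i` is odd or `n' − 2m' ≥ t`). -/
theorem result {F : Type*} [Field F] [Fintype F] {p : ℕ} [Fact p.Prime] [CharP F p] {q : ℕ} (hq : Fintype.card F = q)
    (d m : ℕ) (hd : 2 ≤ d) (hT : (d, q) ≠ (2, 2)) (hm : 1 ≤ m) (hmd : m ≤ d)
    (r : ℕ) [Fact r.Prime]
    (hrΩ : r ∣ Nat.card {W : Submodule F (Fin d ⊕ Fin d → F) // Module.finrank F ↥W = m ∧ (∀ u ∈ W, ∀ v ∈ W, Cfsg.sympForm d F u v = 0)})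
    (i c : ℕ) (hi : i = orderOf (q : ZMod r)) (hc : c = if Even i then i else 2 * i) :
    (∀ x : ↥(Matrix.symplecticGroup (Fin d) F),
      (∃ z : F, ((x ^ r : ↥(Matrix.symplecticGroup (Fin d) F)) : Matrix (Fin d ⊕ Fin d) (Fin d ⊕ Fin d) F) = z • (1 : Matrix (Fin d ⊕ Fin d) (Fin d ⊕ Fin d) F)) →
      (∀ z : F, (x : Matrix (Fin d ⊕ Fin d) (Fin d ⊕ Fin d) F) ≠ z • (1 : Matrix (Fin d ⊕ Fin d) (Fin d ⊕ Fin d) F)) →
      ∃ W : Submodule F (Fin d ⊕ Fin d → F), Module.finrank F ↥W = m ∧ (∀ u ∈ W, ∀ v ∈ W, Cfsg.sympForm d F u v = 0) ∧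
        W.map (Matrix.toLin' (x : Matrix (Fin d ⊕ Fin d) (Fin d ⊕ Fin d) F)) ≤ W) ↔
    ((r = 2 ∧ p ≠ 2 ∧ (Even m ∨ q % 4 = 1)) ∨
     (r ≠ p ∧ 2 < r ∧ i ≤ m ∧ 2 * (m % i) ≤ (2 * d) % c ∧ (Odd i ∨ (r - 1) / i + 2 * (m / i) ≤ (2 * d) / i))) := by
  have hr : r.Prime := Fact.out
  subst hq hi hc
  have hS := spForm_nondeg (F := F) d
  have hV := finrank_sp (F := F) d
  simp only [sp_ts_iff, spHom_coe] at hrΩ ⊢
  have hrp : r ≠ p := by
    rintro rfl
    obtain ⟨u, h1, h2⟩ := Form.sp_exists_ru (d - 1) hS (by omega)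
    exact hS.ru_ts spParam_isMax r h1 h2 (by omega) (by omega) hrΩ
  have h0 := cast_ne_of_ne (F := F) p hr hrp
  rw [sp_forall (by omega) (fun g => ∃ W : Submodule F _, finrank F W = m ∧ (spForm d F).TotSing W ∧ ∀ v ∈ W, g v ∈ W)
    fun x => by simp only [Submodule.map_le_iff_le_comap]; rfl]
  by_cases hr2 : r = 2
  · subst hr2
    have h2 : (2 : F) ≠ 0 := by simpa using h0
    have h4 : ((4 : ℕ) : F) ≠ 0 := by simpa [show (4 : F) = 2 * 2 by norm_num] using h2
    have h5 := sq_neg_one_iff (odd_of_two_ne h2)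
    simp only [hrp.symm, ne_eq, not_false_eq_true, true_and, lt_irrefl, false_and, and_false, or_false]
    refine ⟨fun H => or_iff_not_imp_right.2 fun e => ?_, fun H g hg ⟨⟨l, hl⟩, _⟩ => ?_⟩
    · obtain ⟨j, b1, b2, -⟩ := exists_spJ (F := F) d
      obtain ⟨c, hc⟩ | ⟨-, k, h6, -⟩ := inv_cases b2
      · exact absurd (h5.1 ⟨c, by simpa using congrArg Units.val hc.symm⟩) e
      obtain ⟨W, a1, -, a2⟩ := H j b1 ⟨⟨_, b2⟩, fun c hc => e (h5.1 ⟨c, by
        rw [hc, ← map_pow, (scE_inj (by omega)).eq_iff] at b2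
        simpa using congrArg Units.val b2⟩)⟩
      obtain ⟨i, -, a3⟩ := sub_rep_iff.1 (h6 ▸ (inv_iff (sqfree_sub_C h0 _) (aeval_of_pow b2)).1 ⟨W, a1, a2⟩)
      exact ⟨i, by rw [a3, natDegree_X_pow_sub_C]; omega⟩
    · obtain ⟨h1, ⟨u, h3, h6⟩ | ⟨rfl, h3, k, h6, h7⟩⟩ := hS.sp_inv hg h2 (by omega) hl
      · have := dg0_ed g.toLinearMap
        rw [h3, dg0_add, dg0_du fun a ha => coeff_ed_ne g a (by simp [h3, ha]), dg0_const h6] at this
        obtain ⟨s, a1, a2⟩ := exists_le_card u (k := m) (by omega)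
        exact (hS.sp_ts hg h4 h1).2 ⟨s, h3 ▸ add_le_add a1 (Multiset.map_le_map a1), by
          rw [dg0_const fun a ha => h6 a (Multiset.mem_of_le a1 ha), a2, one_mul]⟩
      · obtain ⟨i, rfl⟩ := H.resolve_right fun e => let ⟨c, hc⟩ := h5.2 e; h3 c hc
        refine (hS.sp_ts hg h4 h1).2 ⟨Multiset.replicate i (X ^ 2 - C (-1)), ?_, by
          rw [dg0_rep, natDegree_X_pow_sub_C]; omega⟩
        rw [h6, Multiset.map_replicate, du_X_pow_sub_C two_ne_zero (by simp), RingHom.id_apply, inv_neg_one,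
          ← Multiset.replicate_add, Multiset.replicate_le_replicate]
        omega
  have hj := hS.ts_dvd (hS.sp_rat hr h0 _) ((spForm_hypFam d).comp (Fin.castLE_injective hmd)) hrΩ
  have h3 : 2 < r := hr.two_le.lt_of_ne' hr2
  rw [hS.sp_red hr hr2 (by omega) fun c g => by simp only [← LinearEquiv.coe_coe, inv_smul_iff]; exact id]
  rcases id_DT (σ := (spParam F).σ) (fun _ => rfl) hr hr2 h0 with ⟨h1, h2⟩ | ⟨h1, h2⟩ <;> rw [h2] at hj ⊢
  · have h4 : Even (orderOf (Fintype.card F : ZMod r)) := by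
      by_contra e
      have := (ord_pos hr h0).1
      rw [if_neg e] at h2
      omega
    rw [hS.ts_fix hS.sp_embAll h1 hr hr2 h0 (fun g hg e => (hS.rc_sp hg h0 e).rt) (by omega)
      (fun k hk => exU_sp_one ((Nat.even_add.1 (hk h4)).1 hS.sp_even)) hj, hV]
    simp [hr2, hrp, h3, Nat.not_odd_iff_even.2 h4]
  · have h4 : Odd (orderOf (Fintype.card F : ZMod r)) := by
      by_contra e
      have := (ord_pos hr h0).1
      rw [if_pos (Nat.not_odd_iff_even.1 e)] at h2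
      omega
    rw [hS.ts_free hS.sp_embAll h1 hr hr2 h0 (fun g hg e => (hS.rc_sp hg h0 e).rt) (by omega)
      (fun k hk => exU_sp_one ((Nat.even_add.1 hk).1 hS.sp_even)) hj, hV]
    simp [hr2, hrp, h3, h4]

end Cfsg.Agent.S5955
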