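import Cfsg.Statements.S5956
import Cfsg.Agent.H5.El14

set_option autoImplicit false
open scoped MatrixGroups
open Cfsg

namespace Cfsg.Agent.S5956

open CfsgH5 Pointwise Module Polynomial

/-- Elements of prime order of PSp_n(q) with no fixed nondegenerate `m`-space. Here `T = PSp_n(q)` with `n = 2d ≥ 4`, `(n, q) ≠ (4, 2)`, realised through the symplectic matrices over the field `F` with `q` elements (preserving the standard alternating form); an element of `T` of prime order `r` is such a matrix `x` with `x^r` scalar and `x` not scalar. For `r ≠ p` let `i` be the multiplicative order of `q` modulo `r`, `c = i` for `i` even and `c = 2i` for `i` odd, and write `k = n mod c`, `ℓ = m mod i`, `ℓ' = m mod c`, `n' = ⌊n/i⌋`, `m' = ⌊m/i⌋`, `t = (r−1)/i`. Let `m` be even with `2 ≤ m < n/2` and let `r` be a prime dividing the number of nondegenerate `m`-spaces. Then every element of `T` of order `r` fixes a nondegenerate `m`-space if and only if one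 of: (i) `r = p > 2` and every partition of `n` into parts of size at most `p` in which every odd part has even multiplicity contains (as a sub-multiset) a partition of `m` in which every odd part has even multiplicity; (ii) `r = p = 2` and (`n ≡ 2 (mod 4)` or `m ≡ 0 (mod 4)`); (iii) `r = 2 ≠ p`; (iv) `r ≠ p`, `r > 2`, `c ≤ m` and `k ≥ ℓ'`. -/
theorem result {F : Type*} [Field F] [Fintype F] {p : ℕ} [Fact p.Prime] [CharP F p] {q : ℕ} (hq : Fintype.card F = q)
    (d m : ℕ) (hd : 2 ≤ d) (hT : (d, q) ≠ (2, 2)) (hm : 2 ≤ m) (hme : Even m) (hmd : m < d)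
    (r : ℕ) [Fact r.Prime]
    (hrΩ : r ∣ Nat.card {W : Submodule F (Fin d ⊕ Fin d → F) // Module.finrank F ↥W = m ∧ (∀ u ∈ W, u ≠ 0 → ∃ v ∈ W, Cfsg.sympForm d F u v ≠ 0)})
    (i c : ℕ) (hi : i = orderOf (q : ZMod r)) (hc : c = if Even i then i else 2 * i) :
    (∀ x : ↥(Matrix.symplecticGroup (Fin d) F),
      (∃ z : F, ((x ^ r : ↥(Matrix.symplecticGroup (Fin d) F)) : Matrix (Fin d ⊕ Fin d) (Fin d ⊕ Fin d) F) = z • (1 : Matrix (Fin d ⊕ Fin d) (Fin d ⊕ Fin d) F)) →
      (∀ z : F, (x : Matrix (Fin d ⊕ Fin d) (Fin d ⊕ Fin d) F) ≠ z • (1 : Matrix (Fin d ⊕ Fin d) (Fin d ⊕ Fin d) F)) →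
      ∃ W : Submodule F (Fin d ⊕ Fin d → F), Module.finrank F ↥W = m ∧ (∀ u ∈ W, u ≠ 0 → ∃ v ∈ W, Cfsg.sympForm d F u v ≠ 0) ∧
        W.map (Matrix.toLin' (x : Matrix (Fin d ⊕ Fin d) (Fin d ⊕ Fin d) F)) ≤ W) ↔
    ((r = p ∧ 2 < p ∧ (∀ μ : Multiset ℕ, (∀ a ∈ μ, 0 < a ∧ a ≤ p) → (∀ a : ℕ, Odd a → Even (μ.count a)) → μ.sum = 2 * d →
        ∃ ν : Multiset ℕ, ν ≤ μ ∧ ν.sum = m ∧ ∀ a : ℕ, Odd a → Even (ν.count a))) ∨
     (r = p ∧ p = 2 ∧ ((2 * d) % 4 = 2 ∨ m % 4 = 0)) ∨
     (r = 2 ∧ p ≠ 2) ∨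
     (r ≠ p ∧ 2 < r ∧ c ≤ m ∧ m % c ≤ (2 * d) % c)) := by
  classical
  have hr : r.Prime := Fact.out
  subst hq hi hc
  have hS := spForm_nondeg (F := F) d
  have hV := finrank_sp (F := F) d
  simp only [← spForm_B, nd_iff'] at hrΩ ⊢
  rw [sp_forall (by omega) (fun g => ∃ W : Submodule F _, finrank F W = m ∧ (spForm d F).NondegOn W ∧ ∀ v ∈ W, g v ∈ W)
    fun x => by simp only [Submodule.map_le_iff_le_comap]; rfl]
  generalize spForm d F = S at *
  obtain ⟨y, rfl⟩ := hme.two_dvd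
  by_cases hr2 : r = 2
  · subst hr2
    by_cases hp : p = 2
    · subst hp
      have h2 : (2 : F) = 0 := by simpa using CharP.cast_eq_zero F 2
      have h3 : ∀ c : Fˣ, scE (Fin d ⊕ Fin d → F) c ∈ S.isom → c = 1 := fun c h => Units.ext (sq_inj_of_two h2 (by
        simpa using congrArg Units.val (sp_scE hS (by omega) c h)))
      simp only [lt_irrefl, false_and, and_false, false_or, true_and, ne_eq, not_true_eq_false, or_false]
      refine ⟨fun H => by_contra fun e => ?_, fun H g hg ⟨⟨l, hl⟩, _⟩ => ?_⟩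
      · obtain ⟨t, a1, a2, a3, a4⟩ := (hS.sp_ex2 h2 hV le_rfl).1 (Nat.even_iff.2 (by omega))
        refine (hS.sp_inv2 h2 a1 a2 hV (by omega) (by omega)).1 (H t a1 ⟨⟨1, by rw [sq, a2, map_one]⟩, fun c hc => ?_⟩)
          ⟨a4, a3, Nat.odd_iff.2 (by omega)⟩
        rw [hc, h3 c (hc ▸ a1), map_one, mov_one, finrank_bot] at a3
        omega
      · rw [h3 l (hl ▸ pow_mem hg 2), map_one, sq] at hl
        refine (hS.sp_inv2 h2 hg hl hV (by omega) (by omega)).2 fun ⟨a1, a2, a3⟩ => ?_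
        have := hS.even_of_alt h2 (fun _ => rfl) hg hl a1
        rw [Nat.odd_iff] at a3
        rw [a2, Nat.even_iff] at this
        omega
    · have h2 : (2 : F) ≠ 0 := by simpa using cast_ne_of_ne (F := F) p hr (Ne.symm hp)
      exact iff_of_true (fun g hg ⟨⟨l, hl⟩, _⟩ => hS.sp_inv_nd h2 hg hl (by omega)) (by simp [hp])
  have h3 : 2 < r := hr.two_le.lt_of_ne' hr2
  rw [hS.sp_red hr hr2 (by omega) fun c g => by simp only [← LinearEquiv.coe_coe, inv_smul_iff]; exact id]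
  by_cases hrp : r = p
  · subst hrp
    have h2 : (2 : F) ≠ 0 := by simpa using cast_ne_of_ne (F := F) r Nat.prime_two (Ne.symm hr2)
    simp only [hr2, h3, false_and, and_false, false_or, true_and, ne_eq, not_true_eq_false, or_false]
    refine ⟨fun H μ a1 a2 a3 => ?_, fun H g hg a1 a2 => ?_⟩
    · by_cases e : μ = Multiset.replicate (2 * d) 1
      · refine ⟨Multiset.replicate (2 * y) 1, e ▸ (Multiset.replicate_le_replicate _).2 (by omega), by simp, fun a _ => ?_⟩
        rw [Multiset.count_replicate]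
        split_ifs <;> simp
      obtain ⟨g, b1, b2⟩ := hS.sp_exists_unip (fun e he => (a1 e he).1) (a3.trans hV.symm) a2
      obtain ⟨b3, rfl⟩ := b2.jt fun e he => (a1 e he).1
      have b5 := (jt_prime r b3).2 ⟨fun e he => (a1 e he).2, by rwa [hV]⟩
      obtain ⟨W, c1, c2, c3⟩ := H g b1 b5.1 b5.2
      obtain ⟨a, c4, -, c5, c6⟩ := Form.unip_split b1 c2 c3 b3
      exact ⟨_, c6, (jt_sum _).trans c1, fun j hj => c2.res.sp_parity c4 c5 hj⟩
    · have b4 := nil_of_pow r a1
      have b5 := (jt_prime r b4).1 ⟨a1, a2⟩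
      obtain ⟨ν, c1, c2, c3⟩ := H _ (fun e he => ⟨jt_pos e he, b5.1 e he⟩) (fun j hj => hS.sp_parity hg b4 hj)
        ((jt_sum _).trans hV)
      exact c2 ▸ Form.sp_unip_sub h2 _ hS rfl hg b4 ν c1 c3
  have h0 := cast_ne_of_ne (F := F) p hr hrp
  obtain ⟨U, -, a1, a2⟩ := hS.top.sp_sub (k := y) (by simp; omega)
  rw [hS.nd_red hS.sp_embAll (id_DT (fun _ => rfl) hr hr2 h0) hr hr2 h0 (fun g hg e => hS.rc_sp hg h0 e) (by omega)
    (fun k ⟨a, ha⟩ => exU_sp_one (by
      have : Even (a * if Even (orderOf (Fintype.card F : ZMod r)) then orderOf (Fintype.card F : ZMod r) else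
          2 * orderOf (Fintype.card F : ZMod r)) := Even.mul_left (by split_ifs with h; exacts [h, even_two_mul _]) a
      rw [Nat.even_iff] at this ⊢
      rw [mul_comm] at this
      omega))
    (hS.nd_dvd (hS.sp_rat hr h0 _) a2 a1 (fun W b1 b2 => a2.res.sp_exists_isom' b1.res (a1.trans b2.symm)) hrΩ), hV]
  simp [hr2, hrp, h3]

end Cfsg.Agent.S5956
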