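import Cfsg.Statements.S5957
import Cfsg.Agent.H5.El2

set_option autoImplicit false
open scoped MatrixGroups
open Cfsg

namespace Cfsg.Agent.S5957

open CfsgH5 Pointwise Module Polynomial

/-- Involutions of PSL_n(q) and imprimitive subgroups. Here `T = PSL_n(F)` for a field `F` with `q = p^f` elements (`n ≥ 2`, `(n, q) ≠ (2, 2), (2, 3)`), `n = a·t` with `t ≥ 2`, and Ω is the set of direct-sum decompositions of `F^n` into `t` subspaces of dimension `a` (unordered; their number is the number of ordered ones divided by `t!`), whose stabilizers are the imprimitive subgroups of type GL_a(q) ≀ S_t (maximal except in some small cases; maximality is not assumed); an element of `T` of prime order `r` (a matrix `x` of determinant 1 with `x^r` scalar, `x` not scalar) fixes a point of Ω when it permutes the summands of some such decomposition. If the number of such decompositions is even, then every involution of `T` stabilizes one of them (the action is 2-elusive). -/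
theorem result {F : Type*} [Field F] [Fintype F] {p : ℕ} [Fact p.Prime] [CharP F p] {q : ℕ} (hq : Fintype.card F = q)
    (n a t : ℕ) (hn : 2 ≤ n) (hT : (n, q) ≠ (2, 2) ∧ (n, q) ≠ (2, 3)) (hat : n = a * t) (ha : 1 ≤ a) (ht : 2 ≤ t)
    (hΩ : 2 ∣ Nat.card {D : Fin t → Submodule F (Fin n → F) // Cfsg.Geo.IsMDecomposition a D} / Nat.factorial t)
    (x : Matrix.SpecialLinearGroup (Fin n) F)
    (hx1 : ∃ z : F, ((x ^ 2 : Matrix.SpecialLinearGroup (Fin n) F) : Matrix (Fin n) (Fin n) F) = z • (1 : Matrix (Fin n) (Fin n) F))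
    (hx2 : ∀ z : F, (x : Matrix (Fin n) (Fin n) F) ≠ z • (1 : Matrix (Fin n) (Fin n) F)) :
    ∃ D : Fin t → Submodule F (Fin n → F), Cfsg.Geo.IsMDecomposition a D ∧
        ∃ σ : Equiv.Perm (Fin t), ∀ j, (D j).map (Matrix.toLin' (x : Matrix (Fin n) (Fin n) F)) = D (σ j) := by
  classical
  haveI : Nonempty (Fin n) := ⟨⟨0, by omega⟩⟩
  have hV : finrank F (Fin n → F) = n := by simp
  revert x
  rw [sl_forall (fun g => ∃ D : Fin t → Submodule F (Fin n → F), Cfsg.Geo.IsMDecomposition a D ∧
    ∃ σ : Equiv.Perm (Fin t), ∀ j, (D j).map g.toLinearMap = D (σ j)) (fun x => by rw [slHom_coe])]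
  rintro g - ⟨⟨l, h⟩, -⟩
  have h1 := (filter_ne_add (ed g.toLinearMap) (X ^ 2 - C l.1)).symm
  have h2 : ∀ b ∈ (ed g.toLinearMap).filter (· ≠ X ^ 2 - C l.1), b.natDegree = 1 := fun b hb => by
    obtain ⟨h2, h3⟩ := Multiset.mem_filter.1 hb
    have h4 := pow_eq_scE.1 h b h2
    have h5 := natDegree_le_of_dvd h4 (monic_X_pow_sub_C _ two_ne_zero).ne_zero
    have h6 := (pp_ed h2).deg_pos
    have h7 := mt (fun e => eq_of_monic_of_dvd_of_natDegree_le (monic_ed _ b h2)
      (monic_X_pow_sub_C _ two_ne_zero) h4 e) (Ne.symm h3)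
    rw [natDegree_X_pow_sub_C] at h5 h7
    omega
  have h3 := dg0_ed g.toLinearMap
  generalize (ed g.toLinearMap).filter (· ≠ X ^ 2 - C l.1) = d, (ed g.toLinearMap).count (X ^ 2 - C l.1) = s at h1 h2
  rw [h1, dg0_add, dg0_const h2, dg0_rep, natDegree_X_pow_sub_C, hV] at h3
  have h4 := Nat.div_add_mod s a
  have h5 := Nat.mod_lt s (show 0 < a by omega)
  obtain ⟨t', rfl⟩ : ∃ t', t = s / a * 2 + t' := Nat.exists_eq_add_of_le
    (Nat.le_of_mul_le_mul_left (by rw [← mul_assoc]; omega) (show 0 < a by omega))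
  rw [mul_add, ← mul_assoc] at hat
  have h6 := pd_lin' h two_pos (a := a) (i := 2) (k := s / a) (t := t') (d := d)
    (m := .replicate (s % a) (X ^ 2 - C l.1)) (w := .replicate (s / a * a) (X ^ 2 - C l.1))
    (fun b hb => Multiset.eq_of_mem_replicate hb ▸ natDegree_X_pow_sub_C) h2 (by simp; omega)
    (by
      rw [Multiset.card_replicate]
      rcases t' with _ | _ | t'
      · omega
      · omega
      · rw [add_assoc, add_mul]; omega)
    (by rw [← add_assoc, ← Multiset.replicate_add, mul_comm, h4, add_comm, h1]) fun _ => id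
  obtain ⟨D, h7, h8⟩ := h6.out (fun _ => id) ha ht (by rw [hV, mul_add, ← mul_assoc, hat])
  exact ⟨D, h7.1, h8⟩

end Cfsg.Agent.S5957
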