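import Cfsg.Statements.S5958
import Cfsg.Agent.H5.El2

set_option autoImplicit false
open scoped MatrixGroups
open Cfsg

namespace Cfsg.Agent.S5958

open CfsgH5 Pointwise Module Polynomial

/-- Elements of odd prime order of PSL_n(q) and imprimitive subgroups. Here `T = PSL_n(F)` for a field `F` with `q = p^f` elements (`n ≥ 2`, `(n, q) ≠ (2, 2), (2, 3)`), `n = a·t` with `t ≥ 2`, and Ω is the set of direct-sum decompositions of `F^n` into `t` subspaces of dimension `a` (unordered; their number is the number of ordered ones divided by `t!`), whose stabilizers are the imprimitive subgroups of type GL_a(q) ≀ S_t (maximal except in some small cases; maximality is not assumed); an element of `T` of prime order `r` (a matrix `x` of determinant 1 with `x^r` scalar, `x` not scalar) fixes a point of Ω when it permutes the summands of some such decomposition. Let `r ≠ p` be an odd prime dividing the number of such decompositions, let `c` be the multiplicative order of `q` modulo `r`, and write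 `k = n mod c`, `ℓ = a mod c`. Then every element of `T` of order `r` stabilizes such a decomposition if and only if either `a = 1`, `c = r − 1 > 1` and `n ≤ k·r`, or `c ≤ a` and `k = t·ℓ`. -/
theorem result {F : Type*} [Field F] [Fintype F] {p : ℕ} [Fact p.Prime] [CharP F p] {q : ℕ} (hq : Fintype.card F = q)
    (n a t : ℕ) (hn : 2 ≤ n) (hT : (n, q) ≠ (2, 2) ∧ (n, q) ≠ (2, 3)) (hat : n = a * t) (ha : 1 ≤ a) (ht : 2 ≤ t)
    (r : ℕ) [Fact r.Prime] (hr2 : r ≠ 2) (hrp : r ≠ p) (hΩ : r ∣ Nat.card {D : Fin t → Submodule F (Fin n → F) // Cfsg.Geo.IsMDecomposition a D} / Nat.factorial t)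
    (c : ℕ) (hc : c = orderOf (q : ZMod r)) :
    (∀ x : Matrix.SpecialLinearGroup (Fin n) F,
      (∃ z : F, ((x ^ r : Matrix.SpecialLinearGroup (Fin n) F) : Matrix (Fin n) (Fin n) F) = z • (1 : Matrix (Fin n) (Fin n) F)) →
      (∀ z : F, (x : Matrix (Fin n) (Fin n) F) ≠ z • (1 : Matrix (Fin n) (Fin n) F)) →
      ∃ D : Fin t → Submodule F (Fin n → F), Cfsg.Geo.IsMDecomposition a D ∧
        ∃ σ : Equiv.Perm (Fin t), ∀ j, (D j).map (Matrix.toLin' (x : Matrix (Fin n) (Fin n) F)) = D (σ j)) ↔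
    ((a = 1 ∧ 1 < c ∧ c = r - 1 ∧ n ≤ (n % c) * r) ∨ (c ≤ a ∧ n % c = t * (a % c))) := by
  classical
  haveI : Nonempty (Fin n) := ⟨⟨0, by omega⟩⟩
  haveI := Module.finite_of_finite F (M := Fin n → F)
  have hV : finrank F (Fin n → F) = n := by simp
  have hr : r.Prime := Fact.out
  subst hq
  have h0 := cast_ne_of_ne (F := F) p hr hrp
  obtain ⟨c0, cd, -⟩ := ord_pos hr h0
  have hcn : c ≤ n := by
    replace hΩ := dvd_of_dvd_div (fact_dvd_card (fun D : Fin t → Submodule F (Fin n → F) =>
      Cfsg.Geo.IsMDecomposition a D) (fun σ D h => isM_comp h σ) fun D => isM_ne) hΩ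
    obtain ⟨D, hD⟩ : ∃ D : Fin t → Submodule F (Fin n → F), Cfsg.Geo.IsMDecomposition a D := by
      have h := pd_lin' (F := F) (V := Fin n → F) (g := 1) (l := 1) (r := 1) (by simp) one_pos (a := a) (i := 1)
        (k := 0) (t := t) (m := 0) (w := 0) (d := .replicate (finrank F (Fin n → F)) (X - 1)) (by simp)
        (by simp [Multiset.mem_replicate]) (by simp [hat]) (by simp) (by
          simp only [zero_add]
          exact (pr_one (V := Fin n → F)).ed_eq (by
            simpa [Multiset.mem_replicate] using fun _ => by simpa using pp_unip (F := F) one_pos))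
        (by simp)
      rw [zero_mul, zero_add] at h
      obtain ⟨D, h, -⟩ := h.out (fun _ => id) ha ht (hV.trans hat)
      exact ⟨_, h.1⟩
    obtain ⟨j, h1, h2, h3⟩ := gl_dvd D {E | Cfsg.Geo.IsMDecomposition a E} (fun E => ⟨fun h => by
      obtain ⟨g, hg⟩ := exists_glue hD.4 hD.5 h.4 h.5 fun j =>
        LinearEquiv.ofFinrankEq _ _ ((hD.3 j).trans (h.3 j).symm)
      exact ⟨g, funext fun j => map_eq_of_le (fun v hv => (hg j ⟨v, hv⟩).symm ▸ Subtype.prop _)
        ((hD.3 j).trans (h.3 j).symm)⟩, by rintro ⟨g, rfl⟩; exact isM_map hD g⟩) isCompl_top_bot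
      (fun g h _ => by rw [show g = 1 from LinearEquiv.ext fun v => h v trivial, one_smul]) hr h0 hΩ
    exact hc ▸ (Nat.le_of_dvd (by omega) h3).trans (hV ▸ h2)
  rw [sl_forall (fun g => ∃ D : Fin t → Submodule F (Fin n → F), Cfsg.Geo.IsMDecomposition a D ∧
    ∃ σ : Equiv.Perm (Fin t), ∀ j, (D j).map g.toLinearMap = D (σ j)) (fun x => by rw [slHom_coe])]
  have out : ∀ g : (Fin n → F) ≃ₗ[F] (Fin n → F), ∀ t', t' = t → PD (fun _ _ => True) (finrank F · = a) g ⊤ t' →
      ∃ D : Fin t → Submodule F (Fin n → F), Cfsg.Geo.IsMDecomposition a D ∧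
      ∃ σ : Equiv.Perm (Fin t), ∀ j, (D j).map g.toLinearMap = D (σ j) := fun g t' e h => by
    subst e
    obtain ⟨D, h7, h8⟩ := h.out (fun _ => id) ha ht (hV.trans hat)
    exact ⟨D, h7.1, h8⟩
  have key : ∀ (g : (Fin n → F) ≃ₗ[F] (Fin n → F)) m e, CY r g m e → m.card ≤ t * (a / c) →
      PD (fun _ _ => True) (finrank F · = a) g ⊤ (0 * r + t) := fun g m e h h1 =>
    pd_lin' (h.pow.trans (scE _).map_one.symm) hr.pos (i := c) (w := 0) (d := .replicate e (X - 1))
      (hc ▸ h.deg hr h0) (by simp [Multiset.mem_replicate])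
      (by rw [Multiset.card_replicate, hc, ← h.dim hr h0, hV, hat]) h1 (by rw [h.eq, zero_add]) (by simp)
  have h1 := Nat.div_add_mod n c
  have h2 := Nat.div_add_mod a c
  have h3 := Nat.mod_lt n (hc ▸ c0 : 0 < c)
  by_cases hd : r ∣ Fintype.card F - 1
  · have hc1 : c = 1 := hc.trans ((ord_eq_one_iff Fintype.card_pos).2 hd)
    refine iff_of_true (fun g _ ⟨⟨l, h⟩, _⟩ => ?_) (.inr (by simp [hc1, Nat.mod_one, ha]))
    rcases pow_cases hr h with ⟨b, h4⟩ | ⟨-, k, h4, h5⟩
    · obtain ⟨m, e, h5⟩ := exists_cy hr h0 h4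
      have := out _ _ (by simp) (key _ m e h5 (by
        have := h5.dim hr h0
        rw [← hc, hc1, hV] at this
        rw [hc1, Nat.div_one, mul_comm]; omega))
      simpa only [map_smul_eq] using this
    rw [hV, hat] at h5
    rcases hr.dvd_mul.1 (h5 ▸ Dvd.intro_left _ rfl : r ∣ a * t) with ⟨b, rfl⟩ | ⟨b, rfl⟩
    · obtain rfl : k = t * b := Nat.eq_of_mul_eq_mul_right hr.pos (by rw [← h5]; ring)
      exact out _ _ (by simp) (pd_lin' h hr.pos (i := r) (k := 0) (t := t) (w := 0) (d := 0)
        (m := .replicate (t * b) (X ^ r - C l.1))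
        (fun b hb => Multiset.eq_of_mem_replicate hb ▸ natDegree_X_pow_sub_C) (by simp) (by simp; ring)
        (by simp [Nat.mul_div_cancel_left _ hr.pos]) (by simp [h4]) (by simp))
    · obtain rfl : k = b * a := Nat.eq_of_mul_eq_mul_right hr.pos (by rw [← h5]; ring)
      exact out _ _ (by ring) (pd_lin' h hr.pos (i := 1) (k := b) (t := 0) (m := 0) (d := 0)
        (by simp) (by simp) (by simp) (by simp) (by simp [h4]) fun _ => id)
  have hc1 : 1 < c := by have := mt (ord_eq_one_iff Fintype.card_pos).1 hd; omega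
  refine ⟨fun H => ?_, fun H => (pe_red hr hd _ (fun c g => by simp only [map_smul_eq]; exact id)).2
    fun g h4 h5 => ?_⟩
  · have L : ∀ k, 0 < k → c * k ≤ n → ∃ (j : ℕ) (T : Finset (Fin t)) (α β : Fin t → ℕ), t = j * r + T.card ∧
        (∀ i ∈ T, a = c * α i + β i) ∧ n - c * k = j * a + ∑ i ∈ T, β i ∧
        k = j * a * (cyT F r).card + ∑ i ∈ T, α i ∧ (0 < j → (cyT F r).card ≤ 1) := fun k h4 h5 => by
      obtain ⟨g, h6, h7, P, h8⟩ := exists_cy_sl (V := Fin n → F) hr h0 hd h4 (by rw [← hc, hV]; exact h5)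
      obtain ⟨D, h9, σ, h10⟩ := H g h6 h7
      obtain ⟨j, T, α, β, e1, e2, e3, e4, e5⟩ := dec_rep h9.4 h9.5 h9.2 h9.3 h10 hr h0 h8
      refine ⟨j, T, α, β, by simpa using e1, hc ▸ e2, by rwa [hV, ← hc] at e3, by simpa using e4, fun hj =>
        Finset.card_le_one_iff_subset_singleton.2 ⟨P, fun b hb => Finset.mem_singleton.2
          (Multiset.eq_of_mem_replicate (Multiset.mem_of_le e5 ((Multiset.mem_nsmul_of_ne_zero
            (Nat.mul_pos hj ha).ne').2 hb)))⟩⟩
    obtain ⟨j, T, α, β, e1, e2, e3, -, -⟩ := L (n / c) (Nat.div_pos hcn (by omega)) (by omega)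
    rw [show n - c * (n / c) = n % c by omega] at e3
    have e6 : ∀ i ∈ T, β i = a % c := fun i hi => by
      have := Finset.single_le_sum (f := β) (fun _ _ => zero_le) hi
      rw [e2 i hi, Nat.mul_add_mod, Nat.mod_eq_of_lt (by omega)]
    rw [Finset.sum_congr rfl e6, Finset.sum_const, smul_eq_mul] at e3
    generalize T.card = τ at e1 e3
    rcases le_or_gt c a with h | h
    · rcases j with _ | j
      · exact .inr ⟨h, by rw [e3, e1]; simp⟩
      · rw [add_mul] at e3; omega
    obtain ⟨j', T', α', β', -, e7, -, e8, e9⟩ := L 1 one_pos (by omega)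
    rw [Finset.sum_eq_zero fun i hi => by
      have := e7 i hi
      rcases e : α' i with _ | b
      · rfl
      · rw [e, mul_add] at this; omega] at e8
    have e10 := Nat.eq_one_of_mul_eq_one_right e8.symm
    have e11 := Nat.eq_one_of_mul_eq_one_left e8.symm
    have e12 := Nat.eq_one_of_mul_eq_one_left e10
    rw [(cyT_spec hr h0).2, ← hc] at e11
    refine .inl ⟨e12, hc1, ?_, ?_⟩
    · rw [← Nat.mul_div_cancel' (hc ▸ cd : c ∣ r - 1), e11, mul_one]
    · rw [e3, hat, e1, e12, Nat.mod_eq_of_lt hc1]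
      nlinarith [hr.one_le]
  obtain ⟨m, e, h6⟩ := exists_cy hr h0 h4
  have h7 := h6.dim hr h0
  rw [← hc, hV] at h7
  have h8 : m.card ≤ n / c := (Nat.le_div_iff_mul_le (by omega)).2 (by rw [mul_comm]; omega)
  rcases H with ⟨rfl, -, e1, e2⟩ | ⟨e1, e2⟩
  · have e3 := Nat.mul_le_mul_left c h8
    obtain rfl : r = c + 1 := by have := hr.pos; omega
    have e4 : n / c ≤ n % c := Nat.le_of_mul_le_mul_left (by rw [mul_add] at e2; linarith) (show 0 < c by omega)
    obtain ⟨P, hP⟩ := Finset.card_eq_one.1 (show (cyT F (c + 1)).card = 1 by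
      rw [(cyT_spec hr h0).2, ← hc]; simp; exact Nat.div_self (by omega))
    obtain ⟨f, rfl⟩ : ∃ f, e = m.card + f := Nat.exists_eq_add_of_le (by omega)
    refine out _ _ (by linarith) (pd_lin' (h4.trans (scE _).map_one.symm) hr.pos (i := 1) (k := m.card) (t := f)
      (m := 0) (w := m.card • rg0 F (c + 1)) (d := .replicate f (X - 1)) (by simp)
      (by simp [Multiset.mem_replicate]) (by simp) (by simp) ?_ fun A h => by
        simpa using (iv_reg hr h0).2 h)
    rw [h6.eq, rg0, hP, Multiset.replicate_add, zero_add, ← add_assoc, ← Multiset.singleton_add, smul_add,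
      Finset.singleton_val, Multiset.nsmul_singleton, Multiset.nsmul_singleton, add_comm m,
      ← (Multiset.eq_replicate_card (a := P)).2 fun b hb => by simpa [hP] using h6.mem b hb]
  · refine out _ _ (by simp) (key g m e h6 (h8.trans (le_of_eq (Nat.eq_of_mul_eq_mul_left (show 0 < c by omega) ?_))))
    have : n = c * (t * (a / c)) + t * (a % c) := by rw [hat, ← mul_left_comm t, ← mul_add, h2, mul_comm]
    omega

end Cfsg.Agent.S5958
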