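import Cfsg.Statements.S5959
import Cfsg.Agent.H5.El2

set_option autoImplicit false
open scoped MatrixGroups
open Cfsg

namespace Cfsg.Agent.S5959

open CfsgH5 Pointwise Module Polynomial

/-- Elements of order `p` of PSL_n(q) and imprimitive subgroups: a necessary condition. Here `T = PSL_n(F)` for a field `F` with `q = p^f` elements (`n ≥ 2`, `(n, q) ≠ (2, 2), (2, 3)`), `n = a·t` with `t ≥ 2`, and Ω is the set of direct-sum decompositions of `F^n` into `t` subspaces of dimension `a` (unordered; their number is the number of ordered ones divided by `t!`), whose stabilizers are the imprimitive subgroups of type GL_a(q) ≀ S_t (maximal except in some small cases; maximality is not assumed); an element of `T` of prime order `r` (a matrix `x` of determinant 1 with `x^r` scalar, `x` not scalar) fixes a point of Ω when it permutes the summands of some such decomposition. Suppose `p > 2` divides the number of such decompositions. If every element of `T` of order `p` stabilizes such a decomposition, then every partition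 of `n` into parts of size at most `p` in which the part `p` occurs fewer than `a` times contains (as a sub-multiset) a partition of `a`. -/
theorem result {F : Type*} [Field F] [Fintype F] {p : ℕ} [Fact p.Prime] [CharP F p] {q : ℕ} (hq : Fintype.card F = q)
    (n a t : ℕ) (hn : 2 ≤ n) (hT : (n, q) ≠ (2, 2) ∧ (n, q) ≠ (2, 3)) (hat : n = a * t) (ha : 1 ≤ a) (ht : 2 ≤ t)
    (hp : 2 < p) (hΩ : p ∣ Nat.card {D : Fin t → Submodule F (Fin n → F) // Cfsg.Geo.IsMDecomposition a D} / Nat.factorial t)
    (h : ∀ x : Matrix.SpecialLinearGroup (Fin n) F,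
      (∃ z : F, ((x ^ p : Matrix.SpecialLinearGroup (Fin n) F) : Matrix (Fin n) (Fin n) F) = z • (1 : Matrix (Fin n) (Fin n) F)) →
      (∀ z : F, (x : Matrix (Fin n) (Fin n) F) ≠ z • (1 : Matrix (Fin n) (Fin n) F)) →
      ∃ D : Fin t → Submodule F (Fin n → F), Cfsg.Geo.IsMDecomposition a D ∧
        ∃ σ : Equiv.Perm (Fin t), ∀ j, (D j).map (Matrix.toLin' (x : Matrix (Fin n) (Fin n) F)) = D (σ j)) :
    (∀ μ : Multiset ℕ, (∀ b ∈ μ, 0 < b ∧ b ≤ p) → μ.sum = n → μ.count p < a → ∃ ν : Multiset ℕ, ν ≤ μ ∧ ν.sum = a) := by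
  classical
  haveI : Nonempty (Fin n) := ⟨⟨0, by omega⟩⟩
  have hV : finrank F (Fin n → F) = n := by simp
  have hr : p.Prime := Fact.out
  rw [sl_forall (fun g => ∃ D : Fin t → Submodule F (Fin n → F), Cfsg.Geo.IsMDecomposition a D ∧
    ∃ σ : Equiv.Perm (Fin t), ∀ j, (D j).map g.toLinearMap = D (σ j)) (fun x => by rw [slHom_coe]),
    pe_red (V := Fin n → F) hr (not_dvd_card_sub p) _ (fun c g => by simp only [map_smul_eq]; exact id)] at h
  intro μ h1 h2 h3
  by_cases e : μ = .replicate (finrank F (Fin n → F)) 1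
  · exact ⟨.replicate a 1, e ▸ (Multiset.replicate_le_replicate _).2 (by rw [hV, hat]; nlinarith), by simp⟩
  obtain ⟨g, h4, rfl⟩ := exists_jt (F := F) (V := Fin n → F) (fun a ha => (h1 a ha).1) (h2.trans hV.symm)
  have h5 := (jt_prime p h4).2 ⟨fun a ha => (h1 a ha).2, e⟩
  obtain ⟨D, h6, σ, h7⟩ := h g h5.1 h5.2
  obtain ⟨k, T, s, w, h8, h9, ⟨W, h10, h11⟩, h12, h13⟩ := dec_struct h6.4 h6.5 h6.2 h6.3 h7
    (h5.1.trans (scE _).map_one.symm) hr
  rcases T.eq_empty_or_nonempty with rfl | ⟨j, hj⟩
  · have h14 : (X ^ p - C (1 : Fˣ).1 : F[X]) = (X - 1) ^ p := by simp [sub_pow_char]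
    rw [h14] at h10
    rw [h11.unique h10 h12 fun b hb => Multiset.eq_of_mem_replicate hb ▸ pp_unip hr.pos, ed_eq_jt h4] at h13
    have h15 := congrArg (Multiset.count ((X - 1) ^ p)) h13
    rw [Multiset.count_map_eq_count' _ _ fun a b e => by
      simpa [natDegree_X_sub_one_pow] using congrArg natDegree e] at h15
    rcases k with _ | k
    · simp at h8; omega
    · simp [add_mul] at h15; omega
  exact (sub_unip h4).1 ⟨s j, h13 ▸ (Finset.single_le_sum (fun _ _ => zero_le) hj).trans le_add_self,
    (h9 j hj).2.1⟩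

end Cfsg.Agent.S5959
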