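import Cfsg.Statements.S5960
import Cfsg.Agent.H5.El15

set_option autoImplicit false
open scoped MatrixGroups
open Cfsg

namespace Cfsg.Agent.S5960

open CfsgH5 Pointwise Module Polynomial

/-- Involutions of PSp_n(q) and imprimitive subgroups. Here `T = PSp_n(q)`, `n = 2d ≥ 4`, `(n, q) ≠ (4, 2)`, realised through the symplectic matrices over the field `F` with `q` elements and the standard alternating form; `n = a·t` with `a` even and `t ≥ 2`, and Ω is the (nonempty) set of orthogonal decompositions of `F^n` into `t` nondegenerate subspaces of dimension `a` (unordered; counted as ordered ones divided by `t!`), whose stabilizers are the imprimitive subgroups of type Sp_a(q) ≀ S_t (maximality is not assumed); an element of `T` of prime order `r` (a symplectic matrix `x` with `x^r` scalar, `x` not scalar) fixes a point of Ω when it permutes the summands of some such decomposition. If the number of such decompositions is even, then every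 involution of `T` stabilizes one of them (the action is 2-elusive). -/
theorem result {F : Type*} [Field F] [Fintype F] {p : ℕ} [Fact p.Prime] [CharP F p] {q : ℕ} (hq : Fintype.card F = q)
    (d : ℕ) (hd : 2 ≤ d) (hT : (d, q) ≠ (2, 2))
    (a t : ℕ) (hat : 2 * d = a * t) (ha : 2 ≤ a) (hae : Even a) (ht : 2 ≤ t) (hΩ : 2 ∣ Nat.card {D : Fin t → Submodule F (Fin d ⊕ Fin d → F) // (Cfsg.Geo.IsMDecomposition a D ∧ (∀ j, ∀ u ∈ D j, u ≠ 0 → ∃ v ∈ D j, Cfsg.sympForm d F u v ≠ 0) ∧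
          (∀ j j', j ≠ j' → ∀ u ∈ D j, ∀ v ∈ D j', Cfsg.sympForm d F u v = 0))} / Nat.factorial t)
    (x : ↥(Matrix.symplecticGroup (Fin d) F))
    (hx1 : ∃ z : F, ((x ^ 2 : ↥(Matrix.symplecticGroup (Fin d) F)) : Matrix (Fin d ⊕ Fin d) (Fin d ⊕ Fin d) F) = z • (1 : Matrix (Fin d ⊕ Fin d) (Fin d ⊕ Fin d) F))
    (hx2 : ∀ z : F, (x : Matrix (Fin d ⊕ Fin d) (Fin d ⊕ Fin d) F) ≠ z • (1 : Matrix (Fin d ⊕ Fin d) (Fin d ⊕ Fin d) F)) :
    ∃ D : Fin t → Submodule F (Fin d ⊕ Fin d → F), (Cfsg.Geo.IsMDecomposition a D ∧ (∀ j, ∀ u ∈ D j, u ≠ 0 → ∃ v ∈ D j, Cfsg.sympForm d F u v ≠ 0) ∧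
          (∀ j j', j ≠ j' → ∀ u ∈ D j, ∀ v ∈ D j', Cfsg.sympForm d F u v = 0)) ∧
        ∃ σ : Equiv.Perm (Fin t), ∀ j, (D j).map (Matrix.toLin' (x : Matrix (Fin d ⊕ Fin d) (Fin d ⊕ Fin d) F)) = D (σ j) := by
  classical
  have hS := spForm_nondeg (F := F) d
  have hV := finrank_sp (F := F) d
  revert x
  simp only [← spForm_B, nd_iff']
  rw [sp_forall (by omega) (fun g => ∃ D : Fin t → Submodule F (Fin d ⊕ Fin d → F), (Cfsg.Geo.IsMDecomposition a D ∧
    (∀ j, (spForm d F).NondegOn (D j)) ∧ ∀ j j', j ≠ j' → ∀ u ∈ D j, ∀ v ∈ D j', (spForm d F).B u v = 0) ∧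
      ∃ σ : Equiv.Perm (Fin t), ∀ j, (D j).map g.toLinearMap = D (σ j)) fun x => by rw [spHom_coe]]
  rintro g hg ⟨⟨l, hl⟩, -⟩
  obtain ⟨y, rfl⟩ := hae.two_dvd
  suffices PD _ (fun U => finrank F U = 2 * y ∧ (spForm d F).NondegOn U) g ⊤ t by
    obtain ⟨D, ⟨a1, a2, a3⟩, a4⟩ := this.out (fun _ h => h.1) (by omega) ht (hV.trans hat)
    exact ⟨D, ⟨a1, fun j => (a2 j).2, a3⟩, a4⟩
  by_cases h2 : (2 : F) = 0
  · have h3 : l = 1 := Units.ext (sq_inj_of_two h2 (by
      simpa using congrArg Units.val (sp_scE hS (by omega) l (hl ▸ pow_mem hg 2))))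
    rw [h3, map_one, sq] at hl
    exact Form.sp_pd2' h2 (by omega) t hS hg hl (by rw [hV, hat, mul_assoc])
  · exact Form.sp_pd2 h2 t hS hg hl (hV.trans hat)

end Cfsg.Agent.S5960
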