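import Cfsg.Statements.S5961
import Cfsg.Agent.H5.El15

set_option autoImplicit false
open scoped MatrixGroups
open Cfsg

namespace Cfsg.Agent.S5961

open CfsgH5 Pointwise Module Polynomial

/-- Elements of odd prime order of PSp_n(q) and imprimitive subgroups. Here `T = PSp_n(q)`, `n = 2d ≥ 4`, `(n, q) ≠ (4, 2)`, realised through the symplectic matrices over the field `F` with `q` elements and the standard alternating form; `n = a·t` with `a` even and `t ≥ 2`, and Ω is the (nonempty) set of orthogonal decompositions of `F^n` into `t` nondegenerate subspaces of dimension `a` (unordered; counted as ordered ones divided by `t!`), whose stabilizers are the imprimitive subgroups of type Sp_a(q) ≀ S_t (maximality is not assumed); an element of `T` of prime order `r` (a symplectic matrix `x` with `x^r` scalar, `x` not scalar) fixes a point of Ω when it permutes the summands of some such decomposition. Let `r ≠ p` be an odd prime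 dividing the number of such decompositions, let `i` be the multiplicative order of `q` modulo `r`, `c = i` if `i` is even and `c = 2i` if `i` is odd, and write `k = n mod c`, `ℓ = a mod c`. Then every element of `T` of order `r` stabilizes such a decomposition if and only if `c ≤ a` and `k = t·ℓ`. -/
theorem result {F : Type*} [Field F] [Fintype F] {p : ℕ} [Fact p.Prime] [CharP F p] {q : ℕ} (hq : Fintype.card F = q)
    (d : ℕ) (hd : 2 ≤ d) (hT : (d, q) ≠ (2, 2))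
    (a t : ℕ) (hat : 2 * d = a * t) (ha : 2 ≤ a) (hae : Even a) (ht : 2 ≤ t)
    (r : ℕ) [Fact r.Prime] (hr2 : r ≠ 2) (hrp : r ≠ p) (hΩ : r ∣ Nat.card {D : Fin t → Submodule F (Fin d ⊕ Fin d → F) // (Cfsg.Geo.IsMDecomposition a D ∧ (∀ j, ∀ u ∈ D j, u ≠ 0 → ∃ v ∈ D j, Cfsg.sympForm d F u v ≠ 0) ∧
          (∀ j j', j ≠ j' → ∀ u ∈ D j, ∀ v ∈ D j', Cfsg.sympForm d F u v = 0))} / Nat.factorial t)
    (i c : ℕ) (hi : i = orderOf (q : ZMod r)) (hc : c = if Even i then i else 2 * i) :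
    (∀ x : ↥(Matrix.symplecticGroup (Fin d) F),
      (∃ z : F, ((x ^ r : ↥(Matrix.symplecticGroup (Fin d) F)) : Matrix (Fin d ⊕ Fin d) (Fin d ⊕ Fin d) F) = z • (1 : Matrix (Fin d ⊕ Fin d) (Fin d ⊕ Fin d) F)) →
      (∀ z : F, (x : Matrix (Fin d ⊕ Fin d) (Fin d ⊕ Fin d) F) ≠ z • (1 : Matrix (Fin d ⊕ Fin d) (Fin d ⊕ Fin d) F)) →
      ∃ D : Fin t → Submodule F (Fin d ⊕ Fin d → F), (Cfsg.Geo.IsMDecomposition a D ∧ (∀ j, ∀ u ∈ D j, u ≠ 0 → ∃ v ∈ D j, Cfsg.sympForm d F u v ≠ 0) ∧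
          (∀ j j', j ≠ j' → ∀ u ∈ D j, ∀ v ∈ D j', Cfsg.sympForm d F u v = 0)) ∧
        ∃ σ : Equiv.Perm (Fin t), ∀ j, (D j).map (Matrix.toLin' (x : Matrix (Fin d ⊕ Fin d) (Fin d ⊕ Fin d) F)) = D (σ j)) ↔
    (c ≤ a ∧ (2 * d) % c = t * (a % c)) := by
  classical
  have hr : r.Prime := Fact.out
  subst hq hi
  haveI := Module.finite_of_finite F (M := Fin d ⊕ Fin d → F)
  have hS := spForm_nondeg (F := F) d
  have hV := finrank_sp (F := F) d
  have h0 := cast_ne_of_ne (F := F) p hr hrp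
  simp only [← spForm_B, nd_iff'] at hΩ ⊢
  rw [sp_forall (by omega) (fun g => ∃ D : Fin t → Submodule F (Fin d ⊕ Fin d → F), (Cfsg.Geo.IsMDecomposition a D ∧
    (∀ j, (spForm d F).NondegOn (D j)) ∧ ∀ j j', j ≠ j' → ∀ u ∈ D j, ∀ v ∈ D j', (spForm d F).B u v = 0) ∧
      ∃ σ : Equiv.Perm (Fin t), ∀ j, (D j).map g.toLinearMap = D (σ j)) fun x => by rw [spHom_coe]]
  generalize spForm d F = S at *
  have hD : DT (spParam F).σ r c := hc ▸ id_DT (fun _ => rfl) hr hr2 h0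
  have h1 : Even c := by rw [hc]; split_ifs with h; exacts [h, even_two_mul _]
  have h2 := hD.pos hr h0
  have h3 : c ≤ r - 1 := by
    obtain ⟨-, ⟨k, hk⟩, -⟩ := ord_pos hr h0
    have := hr.two_le
    refine Nat.le_of_dvd (by omega) ?_
    rw [hc, hk]
    split_ifs with h
    · simp
    · obtain ⟨j, rfl⟩ := (Nat.even_mul.1 (hk ▸ (hr.odd_of_ne_two hr2).tsub_odd odd_one)).resolve_left h
      exact ⟨j, by ring⟩
  have out : ∀ g ∈ S.isom, g ^ r = 1 → finrank F (mov g) ≤ c * (a / c) * t →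
      ∃ D : Fin t → Submodule F (Fin d ⊕ Fin d → F), (Cfsg.Geo.IsMDecomposition a D ∧ (∀ j, S.NondegOn (D j)) ∧
        ∀ j j', j ≠ j' → ∀ u ∈ D j, ∀ v ∈ D j', S.B u v = 0) ∧
          ∃ σ : Equiv.Perm (Fin t), ∀ j, (D j).map g.toLinearMap = D (σ j) := fun g a1 a2 a3 => by
    obtain ⟨D, ⟨b1, b2, b3⟩, b4⟩ := (Form.sp_pd hD h1 hr hr2 h0 hae t hS a1 a2 (hV.trans hat) a3).out (fun _ h => h.1)
      (by omega) ht (hV.trans hat)
    exact ⟨D, ⟨b1, fun j => (b2 j).2, b3⟩, b4⟩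
  have hcn : c ≤ 2 * d := by
    replace hΩ := dvd_of_dvd_div (fact_dvd_card (fun D : Fin t → Submodule F (Fin d ⊕ Fin d → F) =>
      Cfsg.Geo.IsMDecomposition a D ∧ (∀ j, S.NondegOn (D j)) ∧ ∀ j j', j ≠ j' → ∀ u ∈ D j, ∀ v ∈ D j', S.B u v = 0)
      (fun σ D h => ⟨isM_comp h.1 σ, fun j => h.2.1 _, fun i j e => h.2.2 _ _ (σ.injective.ne e)⟩)
        fun D h => isM_ne h.1) hΩ
    obtain ⟨D, b1, -⟩ := out 1 (one_mem _) (one_pow _) (by rw [mov_one, finrank_bot]; exact Nat.zero_le _)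
    obtain ⟨R, b2, b3⟩ := hS.sp_rat hr h0 _ ⊤ hS.top rfl
    obtain ⟨j, b4, b5, b6⟩ := b3 (hΩ.trans (Form.Nondeg.dvd_of_orbit D {E | Cfsg.Geo.IsMDecomposition a E ∧
      (∀ j, S.NondegOn (E j)) ∧ ∀ j j', j ≠ j' → ∀ u ∈ E j, ∀ v ∈ E j', S.B u v = 0} (fun E => ⟨fun h =>
        Form.nd_orbit b1.1.4 b1.1.5 h.1.4 h.1.5 b1.2.2 h.2.2 fun j => (b1.2.1 j).res.sp_exists_isom' (h.2.1 j).res
          ((b1.1.3 j).trans (h.1.3 j).symm), by
            rintro ⟨g, hg, rfl⟩
            refine ⟨isM_map b1.1 g, fun j => (b1.2.1 j).map hg, ?_⟩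
            rintro i j e _ ⟨u, hu, rfl⟩ _ ⟨v, hv, rfl⟩
            exact (hg.1 u v).trans (b1.2.2 i j e u hu v hv)⟩) hS.top
            (fun g h _ => by rw [show g = 1 from LinearEquiv.ext fun v => h v trivial, one_smul]) b2))
    exact hc ▸ (Nat.le_of_dvd (by omega) b6).trans (hV ▸ b5)
  have h4 := Nat.div_add_mod (2 * d) c
  have h5 := Nat.div_add_mod a c
  have h6 := Nat.mod_lt (2 * d) h2
  rw [hS.sp_red hr hr2 (by omega) fun c g => by simp only [map_smul_eq]; exact id]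
  refine ⟨fun H => ?_, fun H g hg a1 _ => out g hg a1 ?_⟩
  · have L : ∀ K, 0 < K → c * K ≤ 2 * d → ∃ (j : ℕ) (T : Finset (Fin t)) (α β : Fin t → ℕ), t = j * r + T.card ∧
        (∀ i ∈ T, a = c * α i + β i) ∧ 2 * d - c * K = j * a + ∑ i ∈ T, β i ∧
          c * K = j * a * (r - 1) + c * ∑ i ∈ T, α i := fun K a1 a2 => by
      obtain ⟨m, b1, b2, b3⟩ := hD.exists (spParam F).σσ hr h0 K
      obtain ⟨g, b4, b5⟩ := hS.sp_embAll.exists_cy (e := 2 * d - c * K) hr hr2 h0 b1 b2 (by omega)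
      obtain ⟨D, ⟨b6, b7, -⟩, σ, b8⟩ := H g b4 b5.pow fun e => by
        have := (b5.mov hr h0).2.1
        rw [e, mov_one, finrank_bot, b3] at this
        exact (Nat.mul_pos h2 a1).ne this
      simpa only [Fintype.card_fin, b3] using Form.dec_nd b6.4 b6.5 b6.2 b6.3 b8 hr h0 b5 b4 b7 hD
    obtain ⟨j, T, α, β, -, e2, -, e4⟩ := L 1 one_pos (by omega)
    obtain rfl : j = 0 := by
      by_contra e
      have := Nat.mul_le_mul_right (r - 1) (Nat.mul_le_mul (Nat.one_le_iff_ne_zero.2 e) ha)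
      omega
    obtain ⟨i, e5, e6⟩ := Finset.exists_ne_zero_of_sum_ne_zero (s := T) (f := α) fun e => by
      rw [e] at e4; omega
    have e7 := Nat.mul_le_mul_left c (Nat.one_le_iff_ne_zero.2 e6)
    have e8 := e2 i e5
    obtain ⟨j, T, α, β, e1, e2, e3, -⟩ := L (2 * d / c) (Nat.div_pos hcn h2) (by omega)
    rw [show 2 * d - c * (2 * d / c) = 2 * d % c by omega] at e3
    have e9 : ∀ i ∈ T, β i = a % c := fun i hi => by
      have := Finset.single_le_sum (f := β) (fun _ _ => zero_le) hi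
      rw [e2 i hi, Nat.mul_add_mod, Nat.mod_eq_of_lt (by omega)]
    rw [Finset.sum_congr rfl e9, Finset.sum_const, smul_eq_mul] at e3
    rcases j with _ | j
    · exact ⟨by omega, by rw [e3, show T.card = t by omega]; simp⟩
    · rw [add_mul] at e3; omega
  · obtain ⟨m, e, b1⟩ := exists_cy hr h0 a1
    obtain ⟨K, b2, -⟩ := hD.blk0 (spParam F).σσ hr h0 b1.mem (b1.ed1_eq hr h0 ▸ hS.ed1_du hg)
    obtain ⟨-, b3, b4⟩ := b1.mov hr h0
    have b5 := Nat.mul_le_mul_left c ((Nat.le_div_iff_mul_le h2).2 (show K * c ≤ 2 * d by rw [mul_comm]; omega))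
    have : 2 * d = c * (a / c) * t + t * (a % c) := by rw [hat, mul_comm t, ← add_mul, h5]
    omega

end Cfsg.Agent.S5961
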