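import Cfsg.Statements.S5962
import Cfsg.Agent.H5.El8

set_option autoImplicit false
open scoped MatrixGroups
open Cfsg

namespace Cfsg.Agent.S5962

open CfsgH5 Pointwise Module Polynomial

/-- Involutions of PSp_n(q), q odd, and the subgroups GL_{n/2}(q).2. Here `T = PSp_n(q)`, `n = 2d ≥ 4`, `q` odd, realised through the symplectic matrices over the field `F` with `q` elements; Ω is the set of unordered pairs `{U, W}` of complementary totally isotropic `d`-spaces (`F^n = U ⊕ W`), whose stabilizers are the subgroups of type GL_d(q).2 (maximal except in some small cases; maximality is not assumed); an element of `T` of prime order `r` (a symplectic matrix `x` with `x^r` scalar, `x` not scalar) fixes such a pair when it fixes or interchanges `U` and `W`. If the number of such pairs is even, every involution of `T` fixes one of them (the action is 2-elusive). -/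
theorem result {F : Type*} [Field F] [Fintype F] {p : ℕ} [Fact p.Prime] [CharP F p] {q : ℕ} (hq : Fintype.card F = q)
    (d : ℕ) (hd : 2 ≤ d) (hT : (d, q) ≠ (2, 2)) (hodd : Odd q)
    (hΩ : 2 ∣ Nat.card {P : Submodule F (Fin d ⊕ Fin d → F) × Submodule F (Fin d ⊕ Fin d → F) // IsCompl P.1 P.2 ∧ (∀ u ∈ P.1, ∀ v ∈ P.1, Cfsg.sympForm d F u v = 0) ∧ (∀ u ∈ P.2, ∀ v ∈ P.2, Cfsg.sympForm d F u v = 0)} / 2)
    (x : ↥(Matrix.symplecticGroup (Fin d) F))
    (hx1 : ∃ z : F, ((x ^ 2 : ↥(Matrix.symplecticGroup (Fin d) F)) : Matrix (Fin d ⊕ Fin d) (Fin d ⊕ Fin d) F) = z • (1 : Matrix (Fin d ⊕ Fin d) (Fin d ⊕ Fin d) F))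
    (hx2 : ∀ z : F, (x : Matrix (Fin d ⊕ Fin d) (Fin d ⊕ Fin d) F) ≠ z • (1 : Matrix (Fin d ⊕ Fin d) (Fin d ⊕ Fin d) F)) :
    ∃ U W : Submodule F (Fin d ⊕ Fin d → F), IsCompl U W ∧ (∀ u ∈ U, ∀ v ∈ U, Cfsg.sympForm d F u v = 0) ∧ (∀ u ∈ W, ∀ v ∈ W, Cfsg.sympForm d F u v = 0) ∧
        ((U.map (Matrix.toLin' (x : Matrix (Fin d ⊕ Fin d) (Fin d ⊕ Fin d) F)) = U ∧ W.map (Matrix.toLin' (x : Matrix (Fin d ⊕ Fin d) (Fin d ⊕ Fin d) F)) = W) ∨
         (U.map (Matrix.toLin' (x : Matrix (Fin d ⊕ Fin d) (Fin d ⊕ Fin d) F)) = W ∧ W.map (Matrix.toLin' (x : Matrix (Fin d ⊕ Fin d) (Fin d ⊕ Fin d) F)) = U)) := by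
  haveI : Nonempty (Fin d ⊕ Fin d) := ⟨.inl ⟨0, by omega⟩⟩
  subst hq
  have h2 := two_ne_of_odd hodd
  have hS := spForm_nondeg (F := F) d
  have hV := finrank_sp (F := F) d
  have hg := spHom_mem d x
  simp only [sp_ts_iff, spHom_coe]
  obtain ⟨l, hl⟩ := ((pe_iff (spHom d F) Subtype.val (spHom_apply d)).2 ⟨hx1, hx2⟩).1
  have h4 : ((4 : ℕ) : F) ≠ 0 := by simpa [show (4 : F) = 2 * 2 by norm_num] using h2
  obtain ⟨h1, ⟨u, h3, -⟩ | ⟨rfl, h3, k, h5, h6⟩⟩ := hS.sp_inv hg h2 (by omega) hl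
  · obtain ⟨U, W, a1, a2, a3, a4, a5, a6, a7⟩ := (hS.rc_sp hg h4 h1).rt.ts (h3.trans (add_zero _).symm) exU_zero
    have := dg0_ed (spHom d F x).toLinearMap
    rw [h3, dg0_add, dg0_du fun a ha => coeff_ed_ne (spHom d F x) a (by simp [h3, ha])] at this
    exact ⟨U, W, (Submodule.isCompl_iff_disjoint _ _ (by omega)).2 a3, a1, a2,
      .inl ⟨map_eq_of_le a6 rfl, map_eq_of_le a7 rfl⟩⟩
  · obtain ⟨j, b1, b2, U, W, a1, a2, a3, a4, a5⟩ := exists_spJ (F := F) d
    have b3 : j ^ 4 = 1 := by rw [show 4 = 2 * 2 from rfl, pow_mul, b2, ← map_pow]; simp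
    have b4 := (X_pow_sub_C_irreducible_iff_of_prime (a := ((-1 : Fˣ) : F)) Nat.prime_two).2 h3
    obtain ⟨c, c1, c2⟩ := (hS.sp_ic hS b1 hg h4 b3 (sim_of_irr (monic_X_pow_sub_C _ two_ne_zero) b4
      (aeval_of_pow b2) (aeval_of_pow hl) rfl)).conj
    have key : ∀ U : Submodule F (Fin d ⊕ Fin d → F), (U.map c.toLinearMap).map (spHom d F x).toLinearMap =
        (U.map j.toLinearMap).map c.toLinearMap := fun U => by
      rw [← c2, ← Submodule.map_comp, ← Submodule.map_comp]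
      exact congrArg (Submodule.map · U) (LinearMap.ext fun v => by simp)
    exact ⟨_, _, (Submodule.orderIsoMapComap c).isCompl a1, a2.map c1, a3.map c1,
      .inr ⟨(key U).trans (by rw [a4]; rfl), (key W).trans (by rw [a5]; rfl)⟩⟩

end Cfsg.Agent.S5962
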