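import Cfsg.Statements.S5963
import Cfsg.Agent.H5.El8

set_option autoImplicit false
open scoped MatrixGroups
open Cfsg

namespace Cfsg.Agent.S5963

open CfsgH5 Pointwise Module Polynomial

/-- Derangements of odd prime order of PSp_n(q), q odd, on pairs of complementary totally isotropic subspaces. Here `T = PSp_n(q)`, `n = 2d ≥ 4`, `q` odd, realised through the symplectic matrices over the field `F` with `q` elements; Ω is the set of unordered pairs `{U, W}` of complementary totally isotropic `d`-spaces (`F^n = U ⊕ W`), whose stabilizers are the subgroups of type GL_d(q).2 (maximal except in some small cases; maximality is not assumed); an element of `T` of prime order `r` (a symplectic matrix `x` with `x^r` scalar, `x` not scalar) fixes such a pair when it fixes or interchanges `U` and `W`. For every odd prime `r ≠ p` dividing the number of such pairs, some element of `T` of order `r` fixes no such pair (the action is never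 `r`-elusive for odd `r ≠ p`). -/
theorem result {F : Type*} [Field F] [Fintype F] {p : ℕ} [Fact p.Prime] [CharP F p] {q : ℕ} (hq : Fintype.card F = q)
    (d : ℕ) (hd : 2 ≤ d) (hT : (d, q) ≠ (2, 2)) (hodd : Odd q)
    (r : ℕ) [Fact r.Prime] (hr2 : r ≠ 2) (hrp : r ≠ p) (hΩ : r ∣ Nat.card {P : Submodule F (Fin d ⊕ Fin d → F) × Submodule F (Fin d ⊕ Fin d → F) // IsCompl P.1 P.2 ∧ (∀ u ∈ P.1, ∀ v ∈ P.1, Cfsg.sympForm d F u v = 0) ∧ (∀ u ∈ P.2, ∀ v ∈ P.2, Cfsg.sympForm d F u v = 0)} / 2) :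
    ∃ x : ↥(Matrix.symplecticGroup (Fin d) F),
      (∃ z : F, ((x ^ r : ↥(Matrix.symplecticGroup (Fin d) F)) : Matrix (Fin d ⊕ Fin d) (Fin d ⊕ Fin d) F) = z • (1 : Matrix (Fin d ⊕ Fin d) (Fin d ⊕ Fin d) F)) ∧
      (∀ z : F, (x : Matrix (Fin d ⊕ Fin d) (Fin d ⊕ Fin d) F) ≠ z • (1 : Matrix (Fin d ⊕ Fin d) (Fin d ⊕ Fin d) F)) ∧
      ¬ (∃ U W : Submodule F (Fin d ⊕ Fin d → F), IsCompl U W ∧ (∀ u ∈ U, ∀ v ∈ U, Cfsg.sympForm d F u v = 0) ∧ (∀ u ∈ W, ∀ v ∈ W, Cfsg.sympForm d F u v = 0) ∧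
        ((U.map (Matrix.toLin' (x : Matrix (Fin d ⊕ Fin d) (Fin d ⊕ Fin d) F)) = U ∧ W.map (Matrix.toLin' (x : Matrix (Fin d ⊕ Fin d) (Fin d ⊕ Fin d) F)) = W) ∨
         (U.map (Matrix.toLin' (x : Matrix (Fin d ⊕ Fin d) (Fin d ⊕ Fin d) F)) = W ∧ W.map (Matrix.toLin' (x : Matrix (Fin d ⊕ Fin d) (Fin d ⊕ Fin d) F)) = U))) := by
  classical
  have hr : r.Prime := Fact.out
  haveI : Nonempty (Fin d ⊕ Fin d) := ⟨.inl ⟨0, by omega⟩⟩
  subst hq
  have h0 := cast_ne_of_ne (F := F) p hr hrp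
  have hS := spForm_nondeg (F := F) d
  have hV := finrank_sp (F := F) d
  have h := spForm_hypFam (F := F) d
  simp only [sp_ts_iff, spHom_coe] at hΩ ⊢
  obtain ⟨R, h1, h2⟩ := sp_gl_ratio hr h0 d
  obtain ⟨j, h3, h4, h5⟩ := h2 ((dvd_of_dvd_div (two_dvd_pairs (by omega) _) hΩ).trans (hS.pair_dvd hV
    ((Form.sp_card d hS hV).trans h1) (h.isCompl (by simp [two_mul])) h.totSing_left h.totSing_right))
  rw [← ZMod.natCast_eq_zero_iff, Nat.cast_add, Nat.cast_pow, Nat.cast_one, add_eq_zero_iff_eq_neg] at h5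
  obtain ⟨l, h6, h7⟩ := zmod_neg_dvd hr hr2 h5
  have h8 := Nat.le_of_dvd h3 h7
  obtain ⟨a, ha⟩ := (ord_pos hr h0).2.2
  have h9 := (du_id_iff (σ := RingHom.id F) p (fun _ => rfl) hr hr2 h0 ha).2 (by simp [h6])
  obtain ⟨g, hg, hc⟩ := hS.sp_embAll.exists_cy (m := {a}) (e := 2 * d - 2 * l) hr hr2 h0 (by simpa)
    (congrArg singleton h9) (by rw [dg0_cy hr h0 (by simpa), h6]; simp; omega)
  obtain ⟨x, rfl⟩ := exists_spHom hg
  have h10 := (pe_iff (spHom d F) Subtype.val (spHom_apply d)).1 (pe_of_cop hc.pow (by simp [hc.eq_one_iff hr h0])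
    (by omega) (fun c e => sp_scE hS (by omega) c (e ▸ hg)) ((Nat.coprime_primes hr Nat.prime_two).2 hr2))
  refine ⟨x, h10.1, h10.2, fun ⟨U, W, a1, a2, a3, a4⟩ => a4.elim (fun a4 => ?_) fun a4 =>
    ne_of_isCompl a1 (by omega) (no_swap (hr.odd_of_ne_two hr2) hc.pow a4.1 a4.2)⟩
  obtain ⟨s, hs⟩ := hS.pair_eq hg (fun v hv => a4.1.le ⟨v, hv, rfl⟩) (fun v hv => a4.2.le ⟨v, hv, rfl⟩) a1
    a2.le_perp a3.le_perp
  have b1 : a ≠ X - 1 := fun e => one_notMem_cyT hr h0 (e ▸ ha)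
  have b2 : ∀ b ∈ s, b = a ∨ b = X - 1 := fun b hb => by
    have : b ∈ ed (spHom d F x).toLinearMap := by simp [hs, hb]
    rw [hc.eq] at this
    exact (Multiset.mem_add.1 this).imp Multiset.mem_singleton.1 Multiset.eq_of_mem_replicate
  rw [map_fix (δ := du (spParam F).σ) fun b hb => by rcases b2 b hb with rfl | rfl; exacts [h9, du_X_sub_one], hc.eq] at hs
  have := congrArg (Multiset.count a) hs
  simp [Multiset.count_replicate, b1.symm] at this
  omega

end Cfsg.Agent.S5963
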