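import Cfsg.Statements.S5964
import Cfsg.Agent.H9.EG5

set_option autoImplicit false
open scoped MatrixGroups
open Cfsg

namespace Cfsg.Agent.S5964

/-- Involutions of PSL_n(q) and subfield subgroups. Here `T = PSL_n(F)` for a field `F` with `q = p^f` elements (`n ≥ 2`, `(n, q) ≠ (2, 2), (2, 3)`), `F₀` is the subfield with `q₀` elements where `q = q₀^k` for a prime `k`, and `H` is the subgroup of matrices of determinant 1 lying in the subfield group of `F₀` (invertible matrices over `F₀` times scalars) — a maximal subgroup of type GL_n(q₀) (the case `n = 2`, `q₀ = 2` is excluded); Ω is the set of `T`-conjugates of `H` (cosets of `H`), so an element of `T` of prime order `r` (a matrix `x` of determinant 1 with `x^r` scalar, `x` not scalar) fixes a point of Ω when some conjugate of `x` by a matrix of determinant 1 lies in `H`. Suppose the index of `H` is even. Then every involution of `T` is conjugate in `T` into `H` if and only if either `q` is even,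 or `k = 2` and `(n)_2 ≤ (q − 1)_2`. (For `q` odd and `k` odd the index of `H` is odd, so that case does not arise.) -/
theorem result {F : Type*} [Field F] [Fintype F] {p : ℕ} [Fact p.Prime] [CharP F p] {q : ℕ} (hq : Fintype.card F = q)
    (n : ℕ) (hn : 2 ≤ n) (hT : (n, q) ≠ (2, 2) ∧ (n, q) ≠ (2, 3))
    (F₀ : Subfield F) (k q₀ : ℕ) (hk : k.Prime) (hF₀ : Nat.card ↥F₀ = q₀) (hqk : q = q₀ ^ k) (hC5 : ¬ (n = 2 ∧ q₀ = 2)) (hΩ : 2 ∣ ((Cfsg.Geo.subfieldSubgroup F₀ 1).comap (Matrix.SpecialLinearGroup.toGL : Matrix.SpecialLinearGroup (Fin n) F →* GL (Fin n) F)).index) :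
    (∀ x : Matrix.SpecialLinearGroup (Fin n) F,
      (∃ z : F, ((x ^ 2 : Matrix.SpecialLinearGroup (Fin n) F) : Matrix (Fin n) (Fin n) F) = z • (1 : Matrix (Fin n) (Fin n) F)) →
      (∀ z : F, (x : Matrix (Fin n) (Fin n) F) ≠ z • (1 : Matrix (Fin n) (Fin n) F)) →
      ∃ P : Matrix.SpecialLinearGroup (Fin n) F, P⁻¹ * x * P ∈ ((Cfsg.Geo.subfieldSubgroup F₀ 1).comap (Matrix.SpecialLinearGroup.toGL : Matrix.SpecialLinearGroup (Fin n) F →* GL (Fin n) F))) ↔
    (Odd q → (k = 2 ∧ padicValNat 2 n ≤ padicValNat 2 (q - 1))) := by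
  open CfsgH5 CfsgH9.EG Module Polynomial in
  subst hq hF₀
  have : Nonempty (Fin n) := ⟨⟨0, by omega⟩⟩
  have hV : finrank F (Fin n → F) = n := by simp
  have := Fintype.ofFinite F₀
  have hH := sf_lin (ι := Fin n) F₀
  rw [Nat.card_eq_fintype_card] at hqk
  rw [idx_sl] at hΩ
  rw [el_sl]
  by_cases h2 : p = 2
  · subst h2
    exact iff_of_true (el_two (by omega) hH.sc fun g h _ => hH.unip (nil_of_pow 2 h)) fun h => absurd h (by
      rw [Nat.odd_iff, FiniteField.even_card_of_char_two (ringChar.eq F 2)]; omega)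
  have h0 := cast_ne_of_ne (F := F) p Nat.prime_two (Ne.symm h2)
  have hd := two_dvd (F := F) (by exact_mod_cast h0)
  have ho : Odd (Fintype.card F) := by have := Fintype.card_pos (α := F); rw [Nat.odd_iff]; omega
  obtain ⟨t, ht⟩ : Odd (Fintype.card F₀) := (Nat.odd_pow_iff hk.ne_zero).1 (hqk ▸ ho)
  obtain ⟨j, -, -, -, h⟩ := hH.idx hqk Nat.prime_two h0 hΩ
  obtain rfl : k = 2 := ((Nat.prime_dvd_prime_iff_eq Nat.prime_two hk).1 (h (Dvd.dvd.trans ⟨t, by rw [ht]; push_cast; ring⟩ (sub_one_dvd_pow_sub_one _ j)))).symm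
  have h4 : Fintype.card F % 4 = 1 := by rw [hqk, ht, show (2 * t + 1) ^ 2 = 1 + 4 * (t * (t + 1)) by ring]; simp
  have h5 := exists_irr_sl_iff (V := Fin n → F) Nat.prime_two hd (by omega)
  simp only [ho, true_and, forall_const, hV, h4, implies_true, and_true] at h5 ⊢
  refine ⟨fun E => by_contra fun hv => ?_, fun hv => el_of Nat.prime_two h0 (by omega) hH.sc (fun y c h6 _ _ => ?_)
    fun g hg l h6 _ k h7 h8 h9 => absurd hv (h5.1 ⟨g, hg, h9, k, l, h6, by omega, h8⟩)⟩
  · obtain ⟨g, hg, h1, m, l, h3, -, h6⟩ := h5.2 hv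
    obtain ⟨l, rfl⟩ : ∃ u : Fˣ, u = l := ⟨Units.mk0 l fun e => h3 0 (by simp [e]), rfl⟩
    obtain ⟨u, h7, e⟩ := E.si' h1 hg
    obtain ⟨c, y, rfl⟩ := (hH _).1 h7
    obtain ⟨a, ha⟩ := rho_sc (c := (c ^ 2)⁻¹ * l) F₀.subtype (g := y ^ 2) (by
      rw [map_mul, map_inv, eq_inv_mul_iff_mul_eq, map_pow (rho _), ← scE_mul_pow, pow_eq_scE, ← sim_iff_ed.1 e, h6]
      simp +contextual [Multiset.mem_replicate])
    obtain ⟨d, hd⟩ := sub_sq F₀.subtype hqk hd a
    exact h3 (c * d) (by rw [mul_pow, hd, ha]; simp)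
  · obtain ⟨k, e, h⟩ := exists_pm (by exact_mod_cast h0) h6
    exact hH.suf h (by simp [ht, pow_succ, pow_mul])

end Cfsg.Agent.S5964
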