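import Cfsg.Statements.S5965
import Cfsg.Agent.H9.EG5

set_option autoImplicit false
open scoped MatrixGroups
open Cfsg

namespace Cfsg.Agent.S5965

/-- Elements of odd prime order r ≠ p of PSL_n(q) and subfield subgroups. Here `T = PSL_n(F)` for a field `F` with `q = p^f` elements (`n ≥ 2`, `(n, q) ≠ (2, 2), (2, 3)`), `F₀` is the subfield with `q₀` elements where `q = q₀^k` for a prime `k`, and `H` is the subgroup of matrices of determinant 1 lying in the subfield group of `F₀` (invertible matrices over `F₀` times scalars) — a maximal subgroup of type GL_n(q₀) (the case `n = 2`, `q₀ = 2` is excluded); Ω is the set of `T`-conjugates of `H` (cosets of `H`), so an element of `T` of prime order `r` (a matrix `x` of determinant 1 with `x^r` scalar, `x` not scalar) fixes a point of Ω when some conjugate of `x` by a matrix of determinant 1 lies in `H`. Let `r ≠ p` be an odd prime dividing the index of `H`, with `(n, r) ≠ (6, 3)` and, when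 `r = k` divides `q₀ − 1`, with `(n)_r ≤ (q − 1)_r`. Then every element of `T` of order `r` is conjugate in `T` into `H` if and only if `r = k`, or `k = 2`, `r = n ∈ {3, 5}` and `(q₀ + 1)_r = r`. The two excluded cases, `(n, r) = (6, 3)` and `r = k ∣ q₀ − 1` with `(n)_r > (q − 1)_r`, are ones where this criterion can fail, so they are left out. -/
theorem result {F : Type*} [Field F] [Fintype F] {p : ℕ} [Fact p.Prime] [CharP F p] {q : ℕ} (hq : Fintype.card F = q)
    (n : ℕ) (hn : 2 ≤ n) (hT : (n, q) ≠ (2, 2) ∧ (n, q) ≠ (2, 3))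
    (F₀ : Subfield F) (k q₀ : ℕ) (hk : k.Prime) (hF₀ : Nat.card ↥F₀ = q₀) (hqk : q = q₀ ^ k) (hC5 : ¬ (n = 2 ∧ q₀ = 2)) (r : ℕ) [Fact r.Prime] (hr2 : r ≠ 2) (hrp : r ≠ p) (hgap : ¬ (n = 6 ∧ r = 3)) (hgapk : r = k → r ∣ q₀ - 1 → padicValNat r n ≤ padicValNat r (q - 1)) (hΩ : r ∣ ((Cfsg.Geo.subfieldSubgroup F₀ 1).comap (Matrix.SpecialLinearGroup.toGL : Matrix.SpecialLinearGroup (Fin n) F →* GL (Fin n) F)).index) :
    (∀ x : Matrix.SpecialLinearGroup (Fin n) F,
      (∃ z : F, ((x ^ r : Matrix.SpecialLinearGroup (Fin n) F) : Matrix (Fin n) (Fin n) F) = z • (1 : Matrix (Fin n) (Fin n) F)) →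
      (∀ z : F, (x : Matrix (Fin n) (Fin n) F) ≠ z • (1 : Matrix (Fin n) (Fin n) F)) →
      ∃ P : Matrix.SpecialLinearGroup (Fin n) F, P⁻¹ * x * P ∈ ((Cfsg.Geo.subfieldSubgroup F₀ 1).comap (Matrix.SpecialLinearGroup.toGL : Matrix.SpecialLinearGroup (Fin n) F →* GL (Fin n) F))) ↔
    (r = k ∨ (k = 2 ∧ r = n ∧ (n = 3 ∨ n = 5) ∧ padicValNat r (q₀ + 1) = 1)) := by
  open CfsgH5 CfsgH9.EG Module Polynomial in
  subst hq hF₀
  have : Nonempty (Fin n) := ⟨⟨0, by omega⟩⟩
  have hV : finrank F (Fin n → F) = n := by simp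
  have := Fintype.ofFinite F₀
  have hH := sf_lin (ι := Fin n) F₀
  have hr : r.Prime := Fact.out
  rw [Nat.card_eq_fintype_card] at hqk hgapk ⊢
  rw [idx_sl] at hΩ
  rw [el_sl]
  have h0 := cast_ne_of_ne (F := F) p hr hrp
  have h0' : (r : F₀) ≠ 0 := fun e => h0 (by simpa using congrArg F₀.subtype e)
  have q0 := Fintype.one_lt_card (α := F₀)
  have hc : (Fintype.card F : ZMod r) = (Fintype.card F₀ : ZMod r) ^ k := by rw [hqk, Nat.cast_pow]
  by_cases hrk : r = k
  · subst hrk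
    rw [ZMod.pow_card] at hc
    refine iff_of_true (el_of hr h0 (by omega) hH.sc (fun y _ h _ _ => hH.cy hr h0 (by rw [hc]) h) fun g hg l h6 _ k h7 h8 h9 => ?_) (.inl rfl)
    have hd := not_pow_dvd hr h6
    exact absurd ((exists_irr_sl_iff hr hd (by omega)).1 ⟨g, hg, h9, k, l, h6, h7, h8⟩) (by
      simpa [hr2] using hgapk rfl (by rwa [← ord_eq_one_iff (by omega), ← hc, ord_eq_one_iff Fintype.card_pos]))
  obtain ⟨j, j2, jn, h1, h2⟩ := hH.idx hqk hr h0 hΩ
  rw [← ord_dvd_int] at h1 h2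
  replace h2 := mt h2 (mt (Nat.prime_dvd_prime_iff_eq hr hk).1 hrk)
  have i0 := (ord_pos hr h0').1
  have i1 := (ord_pos hr h0).1
  have hi : orderOf (Fintype.card F₀ : ZMod r) = orderOf (Fintype.card F : ZMod r) * k := by
    rw [hc, orderOf_pow' _ hk.ne_zero] at h1 ⊢
    rcases (Nat.dvd_prime hk).1 (Nat.gcd_dvd_right (orderOf (Fintype.card F₀ : ZMod r)) k) with h | h
    · simp [h, h2] at h1
    · rw [h, Nat.div_mul_cancel (h ▸ Nat.gcd_dvd_left _ k)]
  simp only [hrk, false_or, Fintype.card_fin] at jn ⊢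
  have e2 : k = 2 → Fintype.card F - 1 = (Fintype.card F₀ + 1) * (Fintype.card F₀ - 1) := by
    rintro rfl; rw [hqk, ← Nat.sq_sub_sq, one_pow]
  by_cases hd : r ∣ Fintype.card F - 1
  swap
  · refine iff_of_false (hH.not_cy hr h0 hd (by simpa using (Nat.le_of_dvd (by omega) h1).trans jn) ?_) fun ⟨h3, _, _, h4⟩ =>
      hd (e2 h3 ▸ (dvd_of_one_le_padicValNat h4.ge).mul_right _)
    have := hk.two_le; nlinarith
  rw [(ord_eq_one_iff Fintype.card_pos).2 hd, one_mul] at hi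
  by_cases hk2 : k = 2
  · subst hk2
    have h3 : ¬ r ∣ Fintype.card F₀ - 1 := by rw [← ord_eq_one_iff (by omega)]; omega
    have h4 : r ∣ Fintype.card F₀ + 1 := (hr.dvd_mul.1 (e2 rfl ▸ hd)).resolve_right h3
    have h5 : ∀ M : Multiset Fˣ, (∀ a ∈ M, a ^ r = 1) → M.map (· ^ Nat.card F₀) = M.map (·⁻¹) := fun M h => Multiset.map_congr rfl fun a ha => by
      obtain ⟨t, ht⟩ := h4
      rw [eq_inv_iff_mul_eq_one, ← pow_succ, Nat.card_eq_fintype_card, ht, pow_mul, h a ha, one_pow]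
    have n3 : 3 ≤ n := by rw [hi] at h2; omega
    rw [el_sym hr2 hd (by omega) (by rwa [hV]) hH.sc (fun h h6 M h7 h8 => h5 M h8 ▸ hH.nec h6 h7) fun _ y M h6 h7 h8 => hH.suf h6 ((h5 M h7).trans h8),
      hV, e2 rfl, padicValNat.mul (by omega) (by omega), padicValNat.eq_zero_of_not_dvd h3]
    omega
  refine iff_of_false (fun E => ?_) fun h => hk2 h.1
  obtain ⟨ψ, hψ, h3⟩ := exists_chi hd
  have h4 : ψ 1 ≠ ψ (-1) := fun e => hr2 ((Nat.prime_dvd_prime_iff_eq hr Nat.prime_two).1 ((ZMod.natCast_eq_zero_iff 2 r).1 (by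
    linear_combination hψ e)))
  obtain ⟨g, hg⟩ := exists_dg (V := Fin n → F) (M := (({1, -1} : Multiset (ZMod r)) + .replicate (n - 2) 0).map ψ) (by simp; omega)
  obtain ⟨u, h5, e⟩ := E.si' (hg.pe (by simpa only [Multiset.forall_mem_map_iff] using fun a _ => (h3 _).2 ⟨a, rfl⟩) (by simp) (by simp) h4)
    (hg.mem_sl.2 (by rw [prod_chi]; simp))
  obtain ⟨d, h6⟩ := hH.nec h5 (hg.sim e)
  obtain ⟨t, rfl⟩ := (h3 d).1 (by
    obtain ⟨b, h7, h8⟩ := Multiset.mem_map.1 (h6 ▸ Multiset.mem_map_of_mem (d * ·) (Multiset.mem_map_of_mem ψ (a := 1) (by simp)))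
    obtain ⟨a, -, rfl⟩ := Multiset.mem_map.1 h7
    have := congrArg (· ^ r) h8
    simpa [mul_pow, pow_right_comm _ _ r, (h3 _).2 ⟨a, rfl⟩, (h3 _).2 ⟨1, rfl⟩] using this.symm)
  have h7 : (({1, -1} : Multiset (ZMod r)) + .replicate (n - 2) 0).map (t + ·) = ({1, -1} + .replicate (n - 2) 0 : Multiset (ZMod r)).map ((Fintype.card F₀ : ZMod r) * ·) :=
    Multiset.map_injective hψ (by simpa only [Multiset.map_map, Function.comp_def, AddChar.map_add_eq_mul, ← nsmul_eq_mul, AddChar.map_nsmul_eq_pow,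
      Nat.card_eq_fintype_card] using h6)
  have h8 := congrArg Multiset.sum h7
  have h9 := congrArg (fun m => (m.map (· ^ 2)).sum) h7
  simp at h8 h9
  have : (2 : ZMod r) ≠ 0 := fun e => hr2 ((Nat.prime_dvd_prime_iff_eq hr Nat.prime_two).1 ((ZMod.natCast_eq_zero_iff 2 r).1 e))
  exact hk2 ((Nat.prime_dvd_prime_iff_eq hk Nat.prime_two).1 (hi ▸ orderOf_dvd_of_pow_eq_one (mul_left_cancel₀ this (by linear_combination t * h8 - h9))))

end Cfsg.Agent.S5965
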