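import Cfsg.Statements.S5966
import Cfsg.Agent.H9.EG5

set_option autoImplicit false
open scoped MatrixGroups
open Cfsg

namespace Cfsg.Agent.S5966

/-- Elements of order 3 of PSL_n(q) in characteristic 3 and subfield subgroups. Here `T = PSL_n(F)` for a field `F` with `q` elements, `q` a power of 3 (`n ≥ 2`, `(n, q) ≠ (2, 2), (2, 3)`), `F₀` is the subfield with `q₀` elements where `q = q₀^k` for a prime `k`, and `H` is the subgroup of matrices of determinant 1 lying in the subfield group of `F₀` (invertible matrices over `F₀` times scalars) — a maximal subgroup of type GL_n(q₀) (the case `n = 2`, `q₀ = 2` is excluded); Ω is the set of `T`-conjugates of `H` (cosets of `H`), so an element of `T` of prime order `r` (a matrix `x` of determinant 1 with `x^r` scalar, `x` not scalar) fixes a point of Ω when some conjugate of `x` by a matrix of determinant 1 lies in `H`. Suppose 3 divides the index of `H`. Then every element of `T` of order 3 is conjugate in `T` into `H` if and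 only if `n` is odd, or `n` is even and `k > 2`. -/
theorem result {F : Type*} [Field F] [Fintype F] [CharP F 3] {q : ℕ} (hq : Fintype.card F = q)
    (n : ℕ) (hn : 2 ≤ n) (hT : (n, q) ≠ (2, 3))
    (F₀ : Subfield F) (k q₀ : ℕ) (hk : k.Prime) (hF₀ : Nat.card ↥F₀ = q₀) (hqk : q = q₀ ^ k) (hC5 : ¬ (n = 2 ∧ q₀ = 2)) (hΩ : 3 ∣ ((Cfsg.Geo.subfieldSubgroup F₀ 1).comap (Matrix.SpecialLinearGroup.toGL : Matrix.SpecialLinearGroup (Fin n) F →* GL (Fin n) F)).index) :
    (∀ x : Matrix.SpecialLinearGroup (Fin n) F,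
      (∃ z : F, ((x ^ 3 : Matrix.SpecialLinearGroup (Fin n) F) : Matrix (Fin n) (Fin n) F) = z • (1 : Matrix (Fin n) (Fin n) F)) →
      (∀ z : F, (x : Matrix (Fin n) (Fin n) F) ≠ z • (1 : Matrix (Fin n) (Fin n) F)) →
      ∃ P : Matrix.SpecialLinearGroup (Fin n) F, P⁻¹ * x * P ∈ ((Cfsg.Geo.subfieldSubgroup F₀ 1).comap (Matrix.SpecialLinearGroup.toGL : Matrix.SpecialLinearGroup (Fin n) F →* GL (Fin n) F))) ↔
    (Odd n ∨ (Even n ∧ 2 < k)) := by
  open CfsgH5 CfsgH9.EG Module Polynomial in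
  subst hq hF₀
  have : Nonempty (Fin n) := ⟨⟨0, by omega⟩⟩
  have hV : finrank F (Fin n → F) = n := by simp
  have := Fintype.ofFinite F₀
  have := Fact.mk Nat.prime_three
  have hH := sf_lin (ι := Fin n) F₀
  rw [Nat.card_eq_fintype_card] at hqk
  rw [el_sl]
  refine ⟨fun E => by_contra fun h => ?_, fun h => (el_unip 3 hH.sc).2 fun g h1 h2 => ?_⟩
  · obtain ⟨m, hm⟩ : Even n := by grind
    obtain rfl : k = 2 := by have := hk.two_le; grind
    exact hH.not_two hqk 3 (by omega) (m := m) (by simp; omega) E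
  have h3 := nil_of_pow 3 h1
  by_cases h4 : ∀ e ∈ jt (g : End F (Fin n → F)), e = 2
  · have h5 := jt_sum (g : End F (Fin n → F))
    rw [Multiset.eq_replicate_card.2 h4, Multiset.sum_replicate, hV, smul_eq_mul] at h5
    obtain ⟨e, he⟩ := exists_mem_jt (by omega) (g : End F (Fin n → F))
    obtain ⟨t, ht⟩ := Multiset.exists_cons_of_mem (h4 e he ▸ he)
    have h6 := ed_eq_jt h3
    rw [ht, Multiset.map_cons] at h6
    refine (hH.unip h3).cs' fun c => ?_
    obtain ⟨a, d, e⟩ := odd_dec F₀.subtype hqk (two_dvd (by exact_mod_cast cast_ne_of_ne (F := F) 3 Nat.prime_two (by omega)))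
      (hk.odd_of_ne_two (by grind)) c
    obtain ⟨u, rfl⟩ := det_surj (V := Fin n → F₀) (by simp; omega) a
    have ha := monic_ed (g : End F (Fin n → F)) _ (h6 ▸ Multiset.mem_cons_self _ _)
    have e1 : Algebra.norm F (algebraMap F (AdjoinRoot ((X - 1 : F[X]) ^ 2)) d) = d ^ 2 := by
      have := ha.finite_adjoinRoot
      rw [Algebra.norm_algebraMap, (AdjoinRoot.powerBasis' ha).finrank, AdjoinRoot.powerBasis'_dim, natDegree_X_sub_one_pow]
    obtain ⟨D, h7, h8⟩ := (h6 ▸ pr_ed (g : End F (Fin n → F))).exists_cent (h6 ▸ monic_ed _) (c := algebraMap F _ d)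
      (e1 ▸ left_ne_zero_of_mul (e ▸ c.ne_zero))
    exact ⟨D, LinearEquiv.ext h7, _, hH.mem u, Units.ext (by rw [Units.val_mul, rho_det, LinearEquiv.coe_det, h8, e1, e])⟩
  push Not at h4
  obtain ⟨e, he, h4⟩ := h4
  have h5 := ((jt_prime 3 h3).1 ⟨h1, h2⟩).1 e he
  have h6 := jt_pos e he
  refine (hH.unip h3).cs (fd_unip h3 he fun c => ?_)
  interval_cases e
  exacts [⟨c, pow_one _⟩, absurd rfl h4, exists_root_p 3 c.1]

end Cfsg.Agent.S5966
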