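import Cfsg.Statements.S5967
import Cfsg.Agent.H9.EG3

set_option autoImplicit false
open scoped MatrixGroups
open Cfsg

namespace Cfsg.Agent.S5967

/-- Involutions of PSL_n(q) and the symplectic-type subgroups. Here `T = PSL_n(F)` for a field `F` with `q` elements, `n ≥ 4` even, `f` is a nondegenerate alternating form on `F^n`, and `H` is the subgroup of matrices of determinant 1 preserving `f` up to a scalar — a maximal subgroup of type Sp_n(q); Ω is the set of `T`-conjugates of `H` (cosets of `H`), so an element of `T` of prime order `r` (a matrix `x` of determinant 1 with `x^r` scalar, `x` not scalar) fixes a point of Ω when some conjugate of `x` by a matrix of determinant 1 preserves `f` up to a scalar. Suppose the index of `H` is even. Then every involution of `T` is conjugate in `T` into `H` if and only if `(q − 1)_2 ≤ (n)_2`. -/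
theorem result {F : Type*} [Field F] [Fintype F] {p : ℕ} [Fact p.Prime] [CharP F p] {q : ℕ} (hq : Fintype.card F = q)
    (n : ℕ) (hn : 4 ≤ n) (he : Even n) (f : (Fin n → F) → (Fin n → F) → F) (hf : Cfsg.Geo.IsSymplecticForm f)
    (hΩ : 2 ∣ ((Cfsg.Geo.similarityGroup f).comap (Matrix.SpecialLinearGroup.toGL : Matrix.SpecialLinearGroup (Fin n) F →* GL (Fin n) F)).index) :
    (∀ x : Matrix.SpecialLinearGroup (Fin n) F,
      (∃ z : F, ((x ^ 2 : Matrix.SpecialLinearGroup (Fin n) F) : Matrix (Fin n) (Fin n) F) = z • (1 : Matrix (Fin n) (Fin n) F)) →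
      (∀ z : F, (x : Matrix (Fin n) (Fin n) F) ≠ z • (1 : Matrix (Fin n) (Fin n) F)) →
      ∃ P : Matrix.SpecialLinearGroup (Fin n) F, P⁻¹ * x * P ∈ ((Cfsg.Geo.similarityGroup f).comap (Matrix.SpecialLinearGroup.toGL : Matrix.SpecialLinearGroup (Fin n) F →* GL (Fin n) F))) ↔
    padicValNat 2 (q - 1) ≤ padicValNat 2 n := by
  open CfsgH5 CfsgH9.EG Module Polynomial in
  subst hq
  have : Nonempty (Fin n) := ⟨⟨0, by omega⟩⟩
  let S := Form.ofAlt f hf.bilinear.add_left hf.bilinear.smul_left (fun x y => hf.skew y x) hf.alternating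
  have hS : S.Nondeg := fun x h => by_contra fun e => (hf.nondegenerate x e).1.elim fun y n => n (h y)
  have hV : finrank F (Fin n → F) = n := by simp
  rw [el_sl, show f = S.B from rfl, lin_sim]
  by_cases hp : p = 2
  · subst hp
    refine iff_of_true (el_two (by omega) sc_simH fun g h1 _ => ?_) (by simp [val_zero])
    obtain ⟨k, e, h⟩ := jt_two h1
    have := jt_sum (g : End F (Fin n → F))
    obtain ⟨g', h2, h3⟩ := hS.sp_exists_unip (m := jt (g : End F (Fin n → F))) jt_pos this fun j hj => by
      simp only [h, hV, Multiset.sum_add, Multiset.sum_replicate, smul_eq_mul, Multiset.count_add, Multiset.count_replicate, Nat.even_iff, Nat.odd_iff] at *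
      split_ifs <;> omega
    exact ⟨g', isom_le h2, (ed_eq_jt (nil_of_pow 2 h1) ▸ pr_ed _).sim h3⟩
  have h2 : (2 : F) ≠ 0 := cast_ne_of_ne p Nat.prime_two (Ne.symm hp)
  refine ⟨fun E => le_of_not_gt fun h => ?_, fun h => el_of Nat.prime_two h2 (by omega) sc_simH (fun y c h1 h3 _ => ?_) fun g _ l h1 h3 k h4 _ _ => ?_⟩
  · obtain ⟨y, c, w, h3, h4, -, h5, h6⟩ := wit_refl (V := Fin n → F) (F := F) Nat.prime_two (by omega) (by rwa [hV])
    obtain ⟨k, ⟨d, hk⟩, e⟩ := E.si sc_simH h4 h3
    have h7 := hk.dg hS (h6.sim e)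
    simp only [Multiset.map_add, Multiset.map_singleton, Multiset.map_replicate, mul_one, map_one, inv_one] at h7
    have := hS.sp_det ((spParam_isMax.mem_isom S).2 fun u v => by rw [hk, inv_eq_one.1 (refl_fix (by omega) h7)]; simp)
    rw [← LinearEquiv.coe_det, (h6.sim e).det] at this
    exact h5 (by simpa using this)
  · obtain ⟨k, e, h4⟩ := inv_even h2 (by omega) (by rwa [hV]) h1 h3
    have := h4.card
    refine si_of_emb ((spForm_nondeg k).sp_emb hS (by simp at this ⊢; omega)) (g := scE _ (-1)) ((spParam_isMax.mem_isom _).2 fun u v => by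
      simp [Form.smul_left]) (DG.scE (-1)) monic_lin (e := e) (by simpa [DG, finrank_sp, two_mul] using h4)
  · obtain ⟨φ, hφ⟩ := (spForm_nondeg k).sp_iso hS (by rw [finrank_sp]; omega)
    refine si_of_conj φ (sim_blk (a := 0) (b := fun _ => l.1) (c := 1) (by simp) h1 h3 (by simpa using h4)) fun h hh => ⟨-l, fun u v => ?_⟩
    obtain ⟨u, rfl⟩ := φ.surjective u
    obtain ⟨v, rfl⟩ := φ.surjective v
    simp only [hh, hφ.B, spForm_B, sympForm_eq, Finset.mul_sum]
    exact Finset.sum_congr rfl fun i _ => by simp [blk]; ring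

end Cfsg.Agent.S5967
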