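import Cfsg.Statements.S5968
import Cfsg.Agent.H9.EG3

set_option autoImplicit false
open scoped MatrixGroups
open Cfsg

namespace Cfsg.Agent.S5968

/-- Derangements of odd prime order of PSL_n(q) on the cosets of a symplectic-type subgroup. Here `T = PSL_n(F)` for a field `F` with `q` elements, `n ≥ 4` even, `f` is a nondegenerate alternating form on `F^n`, and `H` is the subgroup of matrices of determinant 1 preserving `f` up to a scalar — a maximal subgroup of type Sp_n(q); Ω is the set of `T`-conjugates of `H` (cosets of `H`), so an element of `T` of prime order `r` (a matrix `x` of determinant 1 with `x^r` scalar, `x` not scalar) fixes a point of Ω when some conjugate of `x` by a matrix of determinant 1 preserves `f` up to a scalar. For every odd prime `r` dividing the index of `H`, with `(n, r) ≠ (6, 3)`, there is an element of `T` of order `r` with no conjugate in `H`. (For `n = 6`, `r = 3` this can fail: when `(q − 1)_3 = 3` every element of order 3 is conjugate into `H`.) -/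
theorem result {F : Type*} [Field F] [Fintype F] {p : ℕ} [Fact p.Prime] [CharP F p] {q : ℕ} (hq : Fintype.card F = q)
    (n : ℕ) (hn : 4 ≤ n) (he : Even n) (f : (Fin n → F) → (Fin n → F) → F) (hf : Cfsg.Geo.IsSymplecticForm f)
    (r : ℕ) [Fact r.Prime] (hr2 : r ≠ 2) (hgap : ¬ (n = 6 ∧ r = 3)) (hΩ : r ∣ ((Cfsg.Geo.similarityGroup f).comap (Matrix.SpecialLinearGroup.toGL : Matrix.SpecialLinearGroup (Fin n) F →* GL (Fin n) F)).index) :
    ∃ x : Matrix.SpecialLinearGroup (Fin n) F,
      (∃ z : F, ((x ^ r : Matrix.SpecialLinearGroup (Fin n) F) : Matrix (Fin n) (Fin n) F) = z • (1 : Matrix (Fin n) (Fin n) F)) ∧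
      (∀ z : F, (x : Matrix (Fin n) (Fin n) F) ≠ z • (1 : Matrix (Fin n) (Fin n) F)) ∧
      ∀ P : Matrix.SpecialLinearGroup (Fin n) F, P⁻¹ * x * P ∉ ((Cfsg.Geo.similarityGroup f).comap (Matrix.SpecialLinearGroup.toGL : Matrix.SpecialLinearGroup (Fin n) F →* GL (Fin n) F)) := by
  open CfsgH5 CfsgH9.EG Module Polynomial in
  subst hq
  have hr : r.Prime := Fact.out
  have : Nonempty (Fin n) := ⟨⟨0, by omega⟩⟩
  let S := Form.ofAlt f hf.bilinear.add_left hf.bilinear.smul_left (fun x y => hf.skew y x) hf.alternating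
  have hS : S.Nondeg := fun x h => by_contra fun e => (hf.nondegenerate x e).1.elim fun y n => n (h y)
  have hV : finrank F (Fin n → F) = n := by simp
  by_contra! E
  rw [el_sl, show f = S.B from rfl, lin_sim] at E
  rw [idx_sl, show f = S.B from rfl, lin_sim] at hΩ
  by_cases hp : r = p
  · subst hp
    obtain ⟨g, h1, h2, h3, h4, -⟩ := wit_unip (V := Fin n → F) (F := F) r (e := 3) (by norm_num) (hr.two_le.lt_of_ne' hr2) (by omega)
    obtain ⟨k, ⟨c, hk⟩, e⟩ := si_of_cs ((el_unip r sc_simH).1 E g h1 h2)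
    have := hS.sp_parity (hk.isom spParam_isMax hS (by omega) hr (not_dvd_card_sub r) (sim_pow e h1)) (nil_of_pow r (sim_pow e h1)) (j := 3) (by decide)
    simp [← e.jt, h4, Multiset.count_replicate] at this
  have h0 := cast_ne_of_ne (F := F) p hr hp
  by_cases hd : r ∣ Fintype.card F - 1
  · have := ((el_sym hr2 hd (by omega) (by rwa [hV]) sc_simH (nec_sym hS fun _ _ => rfl) fun h => absurd he (by simpa using h)).1 E)
    rw [Nat.even_iff] at he; omega
  obtain ⟨m, rfl⟩ := he.two_dvd
  obtain ⟨e⟩ := hS.sp_nonempty_equiv hV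
  obtain ⟨j, h1, h2⟩ := (odd_of_idx hr h0 hΩ (m := m) (e := 0) hV (by omega) (A := 1) (R := 1) (x := Fintype.card F ^ m ^ 2) (by
    rw [Nat.card_congr e.toEquiv, card_sp, Nat.card_eq_fintype_card, mul_one, mul_comm]
    simp [Nat.cast_sub (Nat.one_le_pow _ _ Fintype.card_pos)]) one_ne_zero (by simp)).resolve_right
      fun h => hr.one_lt.ne' (Nat.dvd_one.1 (Int.natCast_dvd_natCast.1 h))
  exact not_el_odd spParam_isMax rfl hS hr hr2 h0 hd (by omega) h2 E

end Cfsg.Agent.S5968
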