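import Cfsg.Statements.S5969
import Cfsg.Agent.H9.EG4

set_option autoImplicit false
open scoped MatrixGroups
open Cfsg

namespace Cfsg.Agent.S5969

/-- Involutions of PSL_n(q) and extension-field subgroups of degree 2. Here `T = PSL_n(F)` for a field `F` with `q = p^f` elements (`n ≥ 2`, `(n, q) ≠ (2, 2), (2, 3)`), `k` is a prime dividing `n`, `K` is a subalgebra of the `n × n` matrices that is a field of degree `k` over `F` (an extension-field structure F_{q^k} on `F^n`), and `H` is the subgroup of matrices of determinant 1 normalizing `K` — a subgroup of type GL_{n/k}(q^k) (maximal except in some small cases; maximality is not assumed); Ω is the set of cosets of `H` in `T`, so an element of `T` of prime order `r` (a matrix `x` of determinant 1 with `x^r` scalar, `x` not scalar) fixes a point of Ω when some conjugate of `x` by a matrix of determinant 1 normalizes `K`. Take `k = 2` and suppose the index of `H` is even. Then every involution of `T` is conjugate in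 `T` into `H` if and only if `n = 2`, or `q` is odd and `(q − 1)_2 ≤ (n)_2`. -/
theorem result {F : Type*} [Field F] [Fintype F] {p : ℕ} [Fact p.Prime] [CharP F p] {q : ℕ} (hq : Fintype.card F = q)
    (n : ℕ) (hn : 2 ≤ n) (hT : (n, q) ≠ (2, 2) ∧ (n, q) ≠ (2, 3))
    (k : ℕ) (hk : k.Prime) (hkn : k ∣ n) (K : Subalgebra F (Matrix (Fin n) (Fin n) F)) (hK : Cfsg.Geo.IsFieldSubalgebra k K) (hk2 : k = 2) (hΩ : 2 ∣ ((Cfsg.Geo.subalgebraNormalizer K).comap (Matrix.SpecialLinearGroup.toGL : Matrix.SpecialLinearGroup (Fin n) F →* GL (Fin n) F)).index) :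
    (∀ x : Matrix.SpecialLinearGroup (Fin n) F,
      (∃ z : F, ((x ^ 2 : Matrix.SpecialLinearGroup (Fin n) F) : Matrix (Fin n) (Fin n) F) = z • (1 : Matrix (Fin n) (Fin n) F)) →
      (∀ z : F, (x : Matrix (Fin n) (Fin n) F) ≠ z • (1 : Matrix (Fin n) (Fin n) F)) →
      ∃ P : Matrix.SpecialLinearGroup (Fin n) F, P⁻¹ * x * P ∈ ((Cfsg.Geo.subalgebraNormalizer K).comap (Matrix.SpecialLinearGroup.toGL : Matrix.SpecialLinearGroup (Fin n) F →* GL (Fin n) F))) ↔
    (n = 2 ∨ (Odd q ∧ padicValNat 2 (q - 1) ≤ padicValNat 2 n)) := by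
  open CfsgH5 CfsgH9.EG Module Polynomial in
  subst hq hk2
  have : Nonempty (Fin n) := ⟨⟨0, by omega⟩⟩
  have hV : finrank F (Fin n → F) = n := by simp
  obtain ⟨L, _, _, _, _, _, hL, hH⟩ := exists_xh hK
  rw [el_sl]
  by_cases h2 : n = 2
  · obtain ⟨s, h3, h4, h5, -⟩ := hH.frob (by omega) (by omega)
    rw [hL] at h4
    refine iff_of_true ?_ (.inl h2)
    by_cases hp : p = 2
    · subst hp
      exact el_two (by omega) hH.sc fun g h6 h7 => ⟨s, h3, sim_two (by omega) h6 (pe_of_pow hk (not_dvd_card_sub 2) h6 h7).2.2 h4 h5⟩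
    · exact el_of hk (cast_ne_of_ne p hk (Ne.symm hp)) (by omega) hH.sc (fun y c h6 _ h7 => ⟨s, h3, sim_two (by omega) h6 h7.2 h4 h5⟩)
        fun g _ l h6 h7 _ _ _ _ => hH.irr hk hL h6 h7
  have h3 := hH.rk1 (hL ▸ hk) (by omega)
  simp only [h2, false_or]
  by_cases hp : p = 2
  · subst hp
    exact iff_of_false (not_el_rk 2 hH.sc (by omega) h3) fun h => (Nat.not_even_iff_odd.2 h.1) (p_dvd_card 2 |> even_iff_two_dvd.2)
  have h0 : (2 : F) ≠ 0 := cast_ne_of_ne p hk (Ne.symm hp)
  refine ⟨fun E => ⟨odd_card_of_two_ne_zero h0, le_of_not_gt fun h => not_el_refl hk hH.sc (by omega) h3 (by rwa [hV]) E⟩, fun h =>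
    el_of hk h0 (by omega) hH.sc (fun y c h1 h4 _ => ?_) fun g _ l h6 h7 _ _ _ _ => hH.irr hk hL h6 h7⟩
  obtain ⟨k, e, h5⟩ := inv_even h0 (by omega) (by rw [hV]; exact h.2) h1 h4
  exact hH.pm hL h5

end Cfsg.Agent.S5969
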