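import Cfsg.Statements.S5970
import Cfsg.Agent.H9.EG4

set_option autoImplicit false
open scoped MatrixGroups
open Cfsg

namespace Cfsg.Agent.S5970

/-- Elements of order `n` of PSL_n(q), `n` prime, and the normalizer of a Singer cycle. Here `T = PSL_n(F)` for a field `F` with `q = p^f` elements (`n ≥ 2`, `(n, q) ≠ (2, 2), (2, 3)`), `k` is a prime dividing `n`, `K` is a subalgebra of the `n × n` matrices that is a field of degree `k` over `F` (an extension-field structure F_{q^k} on `F^n`), and `H` is the subgroup of matrices of determinant 1 normalizing `K` — a subgroup of type GL_{n/k}(q^k) (maximal except in some small cases; maximality is not assumed); Ω is the set of cosets of `H` in `T`, so an element of `T` of prime order `r` (a matrix `x` of determinant 1 with `x^r` scalar, `x` not scalar) fixes a point of Ω when some conjugate of `x` by a matrix of determinant 1 normalizes `K`. Take `k = n > 3` prime with `n ≠ p` (so `H` is the normalizer of a Singer cycle), and suppose `n` divides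 the index of `H`. Then every element of `T` of order `n` is conjugate in `T` into `H` if and only if the multiplicative order of `q` modulo `n` is `n − 1`. -/
theorem result {F : Type*} [Field F] [Fintype F] {p : ℕ} [Fact p.Prime] [CharP F p] {q : ℕ} (hq : Fintype.card F = q)
    (n : ℕ) (hn : 2 ≤ n) (hT : (n, q) ≠ (2, 2) ∧ (n, q) ≠ (2, 3))
    (k : ℕ) (hk : k.Prime) (hkn : k ∣ n) (K : Subalgebra F (Matrix (Fin n) (Fin n) F)) (hK : Cfsg.Geo.IsFieldSubalgebra k K) (hkn' : k = n) (hn3 : 3 < n) (hnp : n ≠ p) (hΩ : n ∣ ((Cfsg.Geo.subalgebraNormalizer K).comap (Matrix.SpecialLinearGroup.toGL : Matrix.SpecialLinearGroup (Fin n) F →* GL (Fin n) F)).index) :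
    (∀ x : Matrix.SpecialLinearGroup (Fin n) F,
      (∃ z : F, ((x ^ n : Matrix.SpecialLinearGroup (Fin n) F) : Matrix (Fin n) (Fin n) F) = z • (1 : Matrix (Fin n) (Fin n) F)) →
      (∀ z : F, (x : Matrix (Fin n) (Fin n) F) ≠ z • (1 : Matrix (Fin n) (Fin n) F)) →
      ∃ P : Matrix.SpecialLinearGroup (Fin n) F, P⁻¹ * x * P ∈ ((Cfsg.Geo.subalgebraNormalizer K).comap (Matrix.SpecialLinearGroup.toGL : Matrix.SpecialLinearGroup (Fin n) F →* GL (Fin n) F))) ↔
    orderOf (q : ZMod n) = n - 1 := by
  open CfsgH5 CfsgH9.EG Module Polynomial in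
  subst hq hkn'
  have : Nonempty (Fin k) := ⟨⟨0, by omega⟩⟩
  have hV : finrank F (Fin k → F) = k := by simp
  obtain ⟨L, _, _, _, _, _, hL, hH⟩ := exists_xh hK
  have h0 := cast_ne_of_ne (F := F) p hk hnp
  rw [el_sl]
  refine ⟨fun E => by_contra fun h => ?_, hH.singer hk h0 (by omega) hV hL⟩
  have key : ∀ {g j}, g ∈ slSub F (Fin k → F) → PE k g → RK g j → 0 < j → j + 2 ≤ k → False := fun h1 h2 h3 h4 h5 => by
    obtain ⟨u, h6, e⟩ := E.si' h2 h1
    have := Nat.le_of_dvd h4 (hH.rk (hL ▸ hk) h6 (h3.sim e) (.inr ⟨by omega, by omega⟩)); omega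
  by_cases hd : k ∣ Fintype.card F - 1
  · obtain ⟨w, hw⟩ := exists_orderOf_field (F := F) hd
    have h1 : w ≠ 1 := by rintro rfl; simp at hw; omega
    have h2 : w ^ k = 1 := hw ▸ pow_orderOf_eq_one w
    obtain ⟨g, hg⟩ := exists_dg (V := Fin k → F) (M := {w, w⁻¹} + .replicate (k - 2) 1) (by simp; omega)
    exact key (hg.mem_sl.2 (by simp)) (hg.pe (a := w) (b := 1) (by simp +contextual [h2, Multiset.mem_replicate, or_imp]) (by simp)
      (by simp [Multiset.mem_replicate]; omega) h1) (hg.rk rfl (by simp [h1.symm, eq_comm (a := (1 : Fˣ)), h1])) (by simp) (by simp; omega)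
  obtain ⟨h1, h2, -⟩ := ord_pos (F := F) hk h0
  have h3 := Nat.le_of_dvd (by omega) h2
  obtain ⟨g, h4, h5, a, h6⟩ := exists_cy_sl (V := Fin k → F) hk h0 hd one_pos (by omega)
  refine key h4 h5 (j := orderOf (Fintype.card F : ZMod k)) ⟨1, ?_⟩ h1 (by omega)
  classical
  have := deg_gcd_pow (monic_X_sub_C (1 : F)) 1 1
  rw [(pr_ed _).finrank_ker (monic_ed _), h6.eq, Multiset.map_add, dg0_add, Multiset.map_replicate, Multiset.map_replicate, dg0_rep, dg0_rep,
    deg_gcd_cop ((cyT_coprime hk (by omega) h0 (h6.mem a (Multiset.mem_singleton_self a))).of_isCoprime_of_dvd_right ⟨X + 1, by simp; ring⟩)]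
  simp at this; simp [this]; omega

end Cfsg.Agent.S5970
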