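import Cfsg.Statements.S5971
import Cfsg.Agent.H9.EG4

set_option autoImplicit false
open scoped MatrixGroups
open Cfsg

namespace Cfsg.Agent.S5971

theorem z3 : ∀ a b c : ZMod 3, ({a, b, c} : Multiset (ZMod 3)).sum = 0 → (b = a ∧ c = a) ∨ ({a, b, c} : Multiset (ZMod 3)) = {0, 1, 2} := by
  decide +kernel

/-- Elements of order 3 of PSL_3(q) and the normalizer of a Singer cycle. Here `T = PSL_n(F)` for a field `F` with `q = p^f` elements (`n ≥ 2`, `(n, q) ≠ (2, 2), (2, 3)`), `k` is a prime dividing `n`, `K` is a subalgebra of the `n × n` matrices that is a field of degree `k` over `F` (an extension-field structure F_{q^k} on `F^n`), and `H` is the subgroup of matrices of determinant 1 normalizing `K` — a subgroup of type GL_{n/k}(q^k) (maximal except in some small cases; maximality is not assumed); Ω is the set of cosets of `H` in `T`, so an element of `T` of prime order `r` (a matrix `x` of determinant 1 with `x^r` scalar, `x` not scalar) fixes a point of Ω when some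 conjugate of `x` by a matrix of determinant 1 normalizes `K`. Take `n = k = 3` and suppose 3 divides the index of `H`. Then every element of `T` of order 3 is conjugate in `T` into `H` if and only if `q ≡ 4, 7` or `8 (mod 9)`. -/
theorem result {F : Type*} [Field F] [Fintype F] {p : ℕ} [Fact p.Prime] [CharP F p] {q : ℕ} (hq : Fintype.card F = q)
    (n : ℕ) (hn : n = 3) (k : ℕ) (hk : k.Prime) (hkn : k ∣ n) (K : Subalgebra F (Matrix (Fin n) (Fin n) F)) (hK : Cfsg.Geo.IsFieldSubalgebra k K) (hk3 : k = 3) (hΩ : 3 ∣ ((Cfsg.Geo.subalgebraNormalizer K).comap (Matrix.SpecialLinearGroup.toGL : Matrix.SpecialLinearGroup (Fin n) F →* GL (Fin n) F)).index) :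
    (∀ x : Matrix.SpecialLinearGroup (Fin n) F,
      (∃ z : F, ((x ^ 3 : Matrix.SpecialLinearGroup (Fin n) F) : Matrix (Fin n) (Fin n) F) = z • (1 : Matrix (Fin n) (Fin n) F)) →
      (∀ z : F, (x : Matrix (Fin n) (Fin n) F) ≠ z • (1 : Matrix (Fin n) (Fin n) F)) →
      ∃ P : Matrix.SpecialLinearGroup (Fin n) F, P⁻¹ * x * P ∈ ((Cfsg.Geo.subalgebraNormalizer K).comap (Matrix.SpecialLinearGroup.toGL : Matrix.SpecialLinearGroup (Fin n) F →* GL (Fin n) F))) ↔
    (q % 9 = 4 ∨ q % 9 = 7 ∨ q % 9 = 8) := by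
  open CfsgH5 CfsgH9.EG Module Polynomial in
  subst hq hk3 hn
  have hV : finrank F (Fin 3 → F) = 3 := by simp
  obtain ⟨L, _, _, _, _, _, hL, hH⟩ := exists_xh hK
  have h3 := hH.rk1 (hL ▸ hk) (by omega)
  rw [el_sl]
  by_cases hp : p = 3
  · subst hp
    exact iff_of_false (not_el_rk 3 hH.sc (by omega) h3) (by have := p_dvd_card (F := F) 3; omega)
  have h0 := cast_ne_of_ne (F := F) p hk (Ne.symm hp)
  have q3 : ¬ 3 ∣ Fintype.card F := fun h => not_dvd_q hk h0 (Int.natCast_dvd_natCast.2 h)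
  have q1 := Fintype.one_lt_card (α := F)
  obtain ⟨s, h4, h5, h6, h7⟩ := hH.frob (hV.trans hL.symm) (by omega)
  rw [hL] at h5 h7
  have h8 : s ∈ slSub F _ := mem_slSub_iff.2 (by rw [h7, hV]; simp; norm_num)
  by_cases hd : 3 ∣ Fintype.card F - 1
  · by_cases h9 : 9 ∣ Fintype.card F - 1
    · exact iff_of_false (not_el_refl hk hH.sc (by omega) h3 (by
        rw [hV, padicValNat_self]; exact (padicValNat_dvd_iff_le (n := 2) (by omega)).1 h9)) (by omega)
    refine iff_of_true (el_of hk h0 (by omega) hH.sc (fun y c h1 h2 h => ⟨s, h4, ?_⟩) fun g _ l h6 h7 _ _ _ _ => hH.irr hk hL h6 h7) (by omega)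
    obtain ⟨ψ, hψ, e⟩ := exists_chi hd
    have k : ∀ {y : (Fin 3 → F) ≃ₗ[F] _}, y ^ 3 = 1 → y ∈ slSub F _ → (∀ l, y ≠ scE _ l) → DG y (({0, 1, 2} : Multiset (ZMod 3)).map ψ) := fun {y} h1 h2 h => by
      obtain ⟨M, hM⟩ := exists_dg_pow hk hd h1
      obtain ⟨N, rfl⟩ := exists_dz e (hM.pow_iff.1 h1)
      obtain ⟨a, b, c, rfl⟩ := Multiset.card_eq_three.1 (by simpa using hM.card : N.card = 3)
      have := hψ ((prod_chi ψ _).symm.trans ((hM.mem_sl.1 h2).trans ψ.map_zero_eq_one.symm))
      rcases z3 a b c this with ⟨rfl, rfl⟩ | e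
      exacts [(h (ψ c) (eq_scE_of_ed (by simp [hM.ed]))).elim, e ▸ hM]
    refine Pr.sim (k h1 ?_ h.2) (k h5 h8 h6)
    have e1 : c ^ 3 * LinearEquiv.det y = 1 := by simpa [slSub, det_scE] using h2
    rwa [pow_eq_one_of_val hk (n := 3) (by norm_num) (w := c) (by
      rw [padicValNat_self]; exact le_of_not_gt fun h => h9 ((padicValNat_dvd_iff_le (n := 2) (by omega)).2 h)) (by
      rw [eq_inv_of_mul_eq_one_left e1, inv_pow, ← map_pow, h1, map_one, inv_one]), one_mul] at e1
  refine iff_of_true (hH.singer hk h0 (by omega) hV hL ?_) ?_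
  · obtain ⟨-, h2, -⟩ := ord_pos (F := F) hk h0
    exact ((Nat.dvd_prime Nat.prime_two).1 h2).resolve_left (mt (ord_eq_one_iff (by omega)).1 hd)
  rw [idx_sl] at hΩ
  have := Int.natCast_dvd_natCast.2 (idx_dvd hΩ ((Subgroup.zpowers_le).2 h4) (m := 1) (by omega) (by
    rintro _ ⟨j, rfl⟩; rw [pow_one]; exact zpow_mem h8 j))
  rw [Nat.card_zpowers, orderOf_eq_prime h5 (by simpa using h6 1), mul_one, card_gl, hV, Nat.cast_mul, Nat.cast_sub q1.le] at this
  simp only [Finset.prod_range_succ, Finset.prod_range_zero, one_mul, zero_add, pow_one] at this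
  rw [mul_assoc (_ - _), mul_left_comm, mul_comm, Nat.cast_one, mul_dvd_mul_iff_left (by omega), ← ZMod.intCast_zmod_eq_zero_iff_dvd] at this
  push_cast at this
  rw [← ZMod.natCast_mod] at this
  by_contra h
  obtain e | e : Fintype.card F % 9 = 2 ∨ Fintype.card F % 9 = 5 := by omega
  all_goals rw [e] at this; revert this; decide

end Cfsg.Agent.S5971
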