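import Cfsg.Statements.S5972
import Cfsg.Agent.H5.El10

set_option autoImplicit false
open scoped MatrixGroups
open Cfsg

namespace Cfsg.Agent.S5972

open CfsgH5 Pointwise Module Polynomial

/-- Elements of prime order of Ω_n(q), n = 2d+1 ≥ 7, q odd, with no fixed totally singular `m`-space. Here `T = Ω_n(q)` is realised as the commutator subgroup of the isometry group of the quadratic form `x₀² + Σ xᵢyᵢ` over the field `F` with `q` elements (it has trivial centre, so its elements of prime order `r` are used directly); let `1 ≤ m ≤ d` and let `r` be a prime dividing the number of totally singular `m`-spaces. For `r ≠ p` let `i` be the multiplicative order of `q` modulo `r`, `c = i` for `i` even and `c = 2i` for `i` odd, and write `k = n mod c`, `ℓ = m mod i`, `n' = ⌊n/i⌋`, `m' = ⌊m/i⌋`, `t = (r−1)/i`. Then every element of `T` of order `r` fixes some totally singular `m`-space if and only if either (i) `r = 2` and (`m < (n−1)/2` or `q ≡ 1 (mod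 4)`); or (ii) `r ≠ p` is odd, `i ≤ m`, `k > 2ℓ`, and (`i` is odd or `n' − 2m' ≥ t`). -/
theorem result {F : Type*} [Field F] [Fintype F] {p : ℕ} [Fact p.Prime] [CharP F p] {q : ℕ} (hq : Fintype.card F = q) (hqodd : Odd q)
    (d m : ℕ) (hd : 3 ≤ d) (hm : 1 ≤ m) (hmd : m ≤ d)
    (r : ℕ) [Fact r.Prime]
    (hrΩ : r ∣ Nat.card {W : Submodule F (Unit ⊕ (Fin d ⊕ Fin d) → F) // Module.finrank F ↥W = m ∧ (∀ w ∈ W, Cfsg.quadFormOdd d F w = 0)})
    (i c : ℕ) (hi : i = orderOf (q : ZMod r)) (hc : c = if Even i then i else 2 * i) :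
    (∀ x : GL (Unit ⊕ (Fin d ⊕ Fin d)) F, x ∈ Cfsg.Geo.omegaGL (Cfsg.quadFormOdd d F) → orderOf x = r →
      ∃ W : Submodule F (Unit ⊕ (Fin d ⊕ Fin d) → F), Module.finrank F ↥W = m ∧ (∀ w ∈ W, Cfsg.quadFormOdd d F w = 0) ∧
        W.map (Matrix.toLin' (x : Matrix (Unit ⊕ (Fin d ⊕ Fin d)) (Unit ⊕ (Fin d ⊕ Fin d)) F)) ≤ W) ↔
    ((r = 2 ∧ (m < d ∨ q % 4 = 1)) ∨
     (r ≠ p ∧ 2 < r ∧ i ≤ m ∧ 2 * (m % i) < (2 * d + 1) % c ∧ (Odd i ∨ (r - 1) / i + 2 * (m / i) ≤ (2 * d + 1) / i))) := by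
  have hr : r.Prime := Fact.out
  subst hq hi hc
  have h2 := two_ne_of_odd hqodd
  have hS := oddForm_nondeg (F := F) d h2
  have hV := finrank_odd (F := F) d
  have ho : Odd (finrank F (Unit ⊕ (Fin d ⊕ Fin d) → F)) := ⟨d, hV⟩
  simp only [← Form.totSing_iff (oddForm_Q d)] at hrΩ ⊢
  have hrp : r ≠ p := by
    rintro rfl
    obtain ⟨u, h1, h3⟩ := Form.orth_exists_ru d hS hV
    exact hS.ru_ts (orthParam_isMax h2) r h1 h3 (by omega) (by omega) hrΩ
  have h0 := cast_ne_of_ne (F := F) p hr hrp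
  rw [om_forall' (oddForm_Q d) hr (fun g => ∃ W : Submodule F _, finrank F W = m ∧ (oddForm d F).TotSing W ∧
    ∀ v ∈ W, g v ∈ W) fun x => by simp only [Submodule.map_le_iff_le_comap]; rfl]
  by_cases hr2 : r = 2
  · subst hr2
    simp only [true_and, lt_irrefl, false_and, and_false, or_false, ← chi_neg_one_eq_one_iff hqodd]
    refine ⟨fun H => or_iff_not_imp_left.2 fun e => ?_, fun H g hg h1 h3 => ?_⟩
    · obtain ⟨A, a1, a2, a3⟩ := hS.exists_sub h2 (k := 2) 1 (by omega) (by omega) (by omega)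
      obtain ⟨g, b1, b2, rfl, b3⟩ := a1.exists_inv h2
      obtain ⟨W, c1, c2, c3⟩ := H g ((hS.inv_om h2 a1 b3).2 ⟨by simp [a2], a3⟩) b2 fun e => by
        rw [mov_eq_bot_iff.2 e] at a2; simp at a2
      have c4 := Form.cop_split b1 h0 b2 c3
      rw [hS.fix_eq b1] at c4
      have c5 := (Form.ts_sup (c2.mono inf_le_left) (c2.mono inf_le_left) a1 inf_le_right inf_le_right).2
      have c6 := (a1.perp hS).two_mul_le inf_le_right (c2.mono (inf_le_left (b := (oddForm d F).perp (mov g))))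
      have c7 := a1.finrank_add
      have c8 := a1.two_mul_le inf_le_right (c2.mono inf_le_left)
      rw [c4] at c5
      have := (a1.res.isPlus_iff_disc h2 (m := 1) a2).1 (Form.isPlus_res_iff.2
        ⟨_, inf_le_right, c2.mono inf_le_left, by omega⟩)
      rwa [a3, pow_one, eq_comm] at this
    · obtain ⟨a1, a2, a3, a4⟩ := hS.inv_struct h2 (Form.om_le_isom hg) h1
      obtain ⟨⟨k, hk⟩, a5⟩ := (hS.inv_om h2 a1 a2).1 hg
      have a6 := a1.finrank_add
      have a7 := Submodule.one_le_finrank_iff.2 (mt mov_eq_bot_iff.1 h3)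
      obtain ⟨Y, b1, b2, b3⟩ := (a1.perp hS).exists_ts (k := min m (d - k)) (.inl (by omega))
      obtain ⟨X, c1, c2, c3⟩ := a1.exists_ts (k := m - min m (d - k)) (H.elim (fun _ => .inl (by omega)) fun h =>
        (show 2 * (m - min m (d - k)) ≤ finrank F (mov g) by omega).lt_or_eq.imp_right fun e =>
          ⟨e, (a1.res.isPlus_iff_disc h2 e.symm).2 (by rw [a5, h, one_pow])⟩)
      have := Form.ts_sup c2 b2 a1 c1 b1
      exact ⟨_, by omega, this.1, Form.inv_sup (a3 X c1) (a4 Y b1)⟩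
  have hj := hS.ts_dvd (hS.o_rat ho hr h0 (even_two_mul m)) ((oddForm_hypFam d).comp (Fin.castLE_injective hmd)) hrΩ
  have h3 : 2 < r := hr.two_le.lt_of_ne' hr2
  have h5 : ∀ c, Even c → ∀ x, 2 * x ≤ (2 * d + 1) % c ↔ 2 * x < (2 * d + 1) % c := fun c hc x => by
    have := Nat.mod_mod_of_dvd (2 * d + 1) hc.two_dvd
    omega
  have h6 := fun g hg e => hS.o_rt ho (g := g) hg h0 (hr.odd_of_ne_two hr2) e
  rw [hS.om_odd (by omega) (hr.odd_of_ne_two hr2)]
  rcases id_DT (σ := (orthParam F).σ) (fun _ => rfl) hr hr2 h0 with ⟨h1, h7⟩ | ⟨h1, h7⟩ <;> rw [h7] at hj ⊢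
  · have h4 : Even (orderOf (Fintype.card F : ZMod r)) := by
      by_contra e
      have := (ord_pos hr h0).1
      rw [if_neg e] at h7
      omega
    rw [hS.ts_fix (hS.o_embAll ho) h1 hr hr2 h0 h6 (by omega) (fun k _ => exU_o_one h2 k) hj, hV, h5 _ h4]
    simp [hr2, hrp, h3, Nat.not_odd_iff_even.2 h4]
  · have h4 : Odd (orderOf (Fintype.card F : ZMod r)) := by
      by_contra e
      have := (ord_pos hr h0).1
      rw [if_pos (Nat.not_odd_iff_even.1 e)] at h7
      omega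
    rw [hS.ts_free (hS.o_embAll ho) h1 hr hr2 h0 h6 (by omega) (fun k _ => exU_o_one h2 k) hj, hV,
      h5 _ (even_two_mul _)]
    simp [hr2, hrp, h3, h4]

end Cfsg.Agent.S5972
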