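import Cfsg.Statements.S5973
import Cfsg.Agent.H5.El12

set_option autoImplicit false
open scoped MatrixGroups
open Cfsg

namespace Cfsg.Agent.S5973

open CfsgH5 Pointwise Module Polynomial

/-- Elements of prime order of PΩ⁺_n(q), n = 2d ≥ 8, with no fixed totally singular `m`-space, `m < n/2`. Here `T = PΩ⁺_n(q)` is realised through `Ω⁺_n(q)`, the commutator subgroup of the isometry group of the quadratic form `Σ xᵢyᵢ` over the field `F` with `q` elements; an element of `T` of prime order `r` is an element `x` of `Ω⁺_n(q)` with `x^r` scalar and `x` not scalar. Let `1 ≤ m < d` and let `r` be a prime dividing the number of totally singular `m`-spaces. For `r ≠ p` let `i` be the multiplicative order of `q` modulo `r`, `c = i` for `i` even and `c = 2i` for `i` odd, and write `k = n mod c`, `ℓ = m mod i`, `n' = ⌊n/i⌋`, `m' = ⌊m/i⌋`, `t = (r−1)/i`. Then every element of `T` of order `r` fixes some totally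 singular `m`-space if and only if one of: (i) `r = 2 ≠ p` and either `q ≡ 1 (mod 4)`, or `q ≡ 3 (mod 4)`, `m ≤ n/2 − 2` and (`m` even or `n ≡ 2 (mod 4)`); (ii) `r ≠ p` odd, `i` odd, `i ≤ m` and `k ≥ 2ℓ`; (iii) `r ≠ p` odd, `i` even, `i ≤ m`, `n' − 2m' ≥ t`, and one of: `i ≥ 2ℓ`, `k = 0`, `n/i` odd and `n' − 2m' > t`; or `k ≥ 2ℓ` and `n'` even; or `k > 2ℓ` and `n'` odd. -/
theorem result {F : Type*} [Field F] [Fintype F] {p : ℕ} [Fact p.Prime] [CharP F p] {q : ℕ} (hq : Fintype.card F = q)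
    (d m : ℕ) (hd : 4 ≤ d) (hm : 1 ≤ m) (hmd : m < d)
    (r : ℕ) [Fact r.Prime]
    (hrΩ : r ∣ Nat.card {W : Submodule F (Fin d ⊕ Fin d → F) // Module.finrank F ↥W = m ∧ (∀ w ∈ W, Cfsg.quadFormPlus d F w = 0)})
    (i c : ℕ) (hi : i = orderOf (q : ZMod r)) (hc : c = if Even i then i else 2 * i) :
    (∀ x : GL (Fin d ⊕ Fin d) F, x ∈ Cfsg.Geo.omegaGL (Cfsg.quadFormPlus d F) →
      (∃ z : F, ((x ^ r : GL (Fin d ⊕ Fin d) F) : Matrix (Fin d ⊕ Fin d) (Fin d ⊕ Fin d) F) = z • (1 : Matrix (Fin d ⊕ Fin d) (Fin d ⊕ Fin d) F)) →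
      (∀ z : F, (x : Matrix (Fin d ⊕ Fin d) (Fin d ⊕ Fin d) F) ≠ z • (1 : Matrix (Fin d ⊕ Fin d) (Fin d ⊕ Fin d) F)) →
      ∃ W : Submodule F (Fin d ⊕ Fin d → F), Module.finrank F ↥W = m ∧ (∀ w ∈ W, Cfsg.quadFormPlus d F w = 0) ∧
        W.map (Matrix.toLin' (x : Matrix (Fin d ⊕ Fin d) (Fin d ⊕ Fin d) F)) ≤ W) ↔
    ((r = 2 ∧ p ≠ 2 ∧ (q % 4 = 1 ∨ (q % 4 = 3 ∧ m + 2 ≤ d ∧ (Even m ∨ (2 * d) % 4 = 2)))) ∨
     (r ≠ p ∧ 2 < r ∧ Odd i ∧ i ≤ m ∧ 2 * (m % i) ≤ (2 * d) % c) ∨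
     (r ≠ p ∧ 2 < r ∧ Even i ∧ i ≤ m ∧ (r - 1) / i + 2 * (m / i) ≤ (2 * d) / i ∧
       ((2 * (m % i) ≤ i ∧ (2 * d) % c = 0 ∧ Odd ((2 * d) / i) ∧ (r - 1) / i + 2 * (m / i) < (2 * d) / i) ∨
        (2 * (m % i) ≤ (2 * d) % c ∧ Even ((2 * d) / i)) ∨
        (2 * (m % i) < (2 * d) % c ∧ Odd ((2 * d) / i))))) := by
  have hr : r.Prime := Fact.out
  subst hq
  haveI : Nonempty (Fin d) := ⟨⟨0, by omega⟩⟩
  have hS := plusForm_nondeg (F := F) d
  have hV := finrank_sp (F := F) d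
  have ht := Form.tp_eq_one_iff.2 (plusForm_isPlus (F := F) d)
  simp only [← Form.totSing_iff (plusForm_Q d)] at hrΩ ⊢
  have hrp : r ≠ p := by
    rintro rfl
    exact hS.o_ts_p r (k := d - m - 1) (by omega) hrΩ
  have h0 := cast_ne_of_ne (F := F) p hr hrp
  rw [om_forall (plusForm_Q d) (fun g => ∃ W : Submodule F _, finrank F W = m ∧ (plusForm d F).TotSing W ∧
    ∀ v ∈ W, g v ∈ W) fun x => by simp only [Submodule.map_le_iff_le_comap]; rfl]
  by_cases hr2 : r = 2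
  · subst hr2
    have h2 : (2 : F) ≠ 0 := by simpa using h0
    have ho := odd_of_two_ne h2
    have h3 := chi_neg_one_eq_one_iff ho
    have h4 := Nat.odd_iff.1 ho
    simp only [hrp.symm, ne_eq, not_false_eq_true, true_and, lt_irrefl, false_and, and_false, or_false]
    rw [hS.om_inv h2 (by omega) hV, ht]
    refine ⟨fun H => or_iff_not_imp_left.2 fun e => ?_, fun H => ⟨fun g hg a1 l k a2 a3 a4 a5 a6 => ?_,
      fun g hg a1 a2 _ => ?_⟩⟩
    · have h5 := Int.units_ne_iff_eq_neg.1 (mt h3.1 e)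
      obtain ⟨g, a1, a2, a3, a4⟩ := hS.exists_inv' h2 (l := 2 * 1) (by omega)
      obtain ⟨a, b, b1, b2, b3⟩ := (hS.inv_ts h2 a1 a2 (k := d - 1) a3 (by omega) a4).1
        (H.1 g a1 a2 1 (d - 1) one_pos (by omega) (by omega) a3 a4)
      rw [pow_one, h3] at b2
      rw [pow_one, ht, h3] at b3
      refine ⟨by omega, by omega, or_iff_not_imp_right.2 fun e' => ?_⟩
      have h6 : Even d := Nat.even_iff.2 (by omega)
      have h7 : chi (-1 : F) ^ d = 1 := by rw [h5, h6.neg_one_pow]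
      obtain ⟨j, c1, c2⟩ := hS.exists_J' h2 hV (ht ▸ h7)
      obtain ⟨W, c3, -, c4⟩ := H.2 j c1 c2 h7 (Int.units_pow_eq_pow_mod_two _ _ ▸ by rw [Nat.even_iff.1 h6, pow_zero])
      exact c3 ▸ Form.J_even h2 c1 c2 c4 e
    · refine (hS.inv_ts h2 hg a1 (k := k) a5 (by omega) a6).2 (H.elim (fun e => ?_) fun e => ?_)
      · simp only [h3.2 e, one_pow, ht, and_true]
        exact ⟨min m l, m - min m l, by omega⟩
      · exact ⟨min m (l - 1), m - min m (l - 1), by omega, .inl (by omega), .inl (by omega)⟩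
    · obtain ⟨d', b1, -, b2⟩ := hS.J_ex h2 hg a1
      obtain ⟨W, b3, b4⟩ := b2 m (by omega) (H.elim .inr fun e => .inl (e.2.2.resolve_right fun e' => by
        rw [Int.units_ne_iff_eq_neg.1 (mt h3.1 (by omega)), (Nat.odd_iff.2 (by omega) : Odd d).neg_one_pow] at a2
        exact absurd a2 (by decide)))
      exact ⟨W, b4.1, b3, b4.2⟩
  rw [hS.o_red (by omega) hr hr2 fun c g => by simp only [← LinearEquiv.coe_coe, inv_smul_iff]; exact id,
    hS.o_ts (y := 0) hV hm hmd (fun k => by rw [ht, neg_one_pow_eq_one_iff_even (by decide), Nat.even_iff]) zero_le_one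
      hr hr2 h0 hrΩ hi]
  have h3 : 2 < r := hr.two_le.lt_of_ne' hr2
  split_ifs at hc ⊢ with h
  · simp [hr2, hrp, h3, h, Nat.not_odd_iff_even.2 h, hc, Nat.even_iff, Nat.odd_iff]
  · simp [hr2, hrp, h3, h, Nat.not_even_iff_odd.1 h, hc, le_iff_lt_or_eq (a := 2 * (m % i))]

end Cfsg.Agent.S5973
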