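import Cfsg.Statements.S5974
import Cfsg.Agent.H5.El13

set_option autoImplicit false
open scoped MatrixGroups
open Cfsg

namespace Cfsg.Agent.S5974

open CfsgH5 Pointwise Module Polynomial

/-- Elements of prime order of PΩ⁺_n(q), n = 2d ≥ 8, with no fixed nondegenerate hyperbolic `m`-space. Here `T = PΩ⁺_n(q)` is realised through `Ω⁺_n(q)`, the commutator subgroup of the isometry group of `Q = Σ xᵢyᵢ` over the field `F` with `q` elements; an element of `T` of prime order `r` is an element `x` of `Ω⁺_n(q)` with `x^r` scalar and `x` not scalar. A hyperbolic `m`-space is a subspace `W` of even dimension `m` on which the polar form of `Q` is nondegenerate and which contains a totally singular subspace of dimension `m/2`. Let `m` be even with `2 ≤ m < n/2`, and let `r` be a prime dividing the number of hyperbolic `m`-spaces, with `r = 2` or `r ≠ p`. For `r ≠ p` let `i` be the multiplicative order of `q` modulo `r`, `c = i` for `i`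 even and `c = 2i` for `i` odd, and write `k = n mod c`, `ℓ' = m mod c`. Then every element of `T` of order `r` fixes some hyperbolic `m`-space if and only if one of: (i) `r = 2` and (`n ≡ 2 (mod 4)`, or `m ≡ 0 (mod 4)`, or `q ≡ 1 (mod 4)`); (ii) `r ≠ p` odd, `i` odd, `c ≤ m` and `k ≥ ℓ'`; (iii) `r ≠ p` odd, `i` even, and either `k = 0` and (`n/i` odd, or `ℓ' = 0` and `m/i` even), or `i ≤ m` and (`k > ℓ' > 0`, or `k = ℓ' > 0` and `(n + m − 2k)/i` even, or `k > ℓ' = 0` and `m/i` even). -/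
theorem result {F : Type*} [Field F] [Fintype F] {p : ℕ} [Fact p.Prime] [CharP F p] {q : ℕ} (hq : Fintype.card F = q)
    (d m : ℕ) (hd : 4 ≤ d) (hm : 2 ≤ m) (hme : Even m) (hmd : m < d)
    (r : ℕ) [Fact r.Prime] (hr : r = 2 ∨ r ≠ p)
    (hrΩ : r ∣ Nat.card {W : Submodule F (Fin d ⊕ Fin d → F) // (Module.finrank F ↥W = m ∧ (∀ u ∈ W, u ≠ 0 → ∃ v ∈ W, QuadraticMap.polar (Cfsg.quadFormPlus d F) u v ≠ 0) ∧
          ∃ U : Submodule F (Fin d ⊕ Fin d → F), U ≤ W ∧ 2 * Module.finrank F ↥U = m ∧ ∀ u ∈ U, Cfsg.quadFormPlus d F u = 0)})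
    (i c : ℕ) (hi : i = orderOf (q : ZMod r)) (hc : c = if Even i then i else 2 * i) :
    (∀ x : GL (Fin d ⊕ Fin d) F, x ∈ Cfsg.Geo.omegaGL (Cfsg.quadFormPlus d F) →
      (∃ z : F, ((x ^ r : GL (Fin d ⊕ Fin d) F) : Matrix (Fin d ⊕ Fin d) (Fin d ⊕ Fin d) F) = z • (1 : Matrix (Fin d ⊕ Fin d) (Fin d ⊕ Fin d) F)) →
      (∀ z : F, (x : Matrix (Fin d ⊕ Fin d) (Fin d ⊕ Fin d) F) ≠ z • (1 : Matrix (Fin d ⊕ Fin d) (Fin d ⊕ Fin d) F)) →
      ∃ W : Submodule F (Fin d ⊕ Fin d → F), (Module.finrank F ↥W = m ∧ (∀ u ∈ W, u ≠ 0 → ∃ v ∈ W, QuadraticMap.polar (Cfsg.quadFormPlus d F) u v ≠ 0) ∧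
          ∃ U : Submodule F (Fin d ⊕ Fin d → F), U ≤ W ∧ 2 * Module.finrank F ↥U = m ∧ ∀ u ∈ U, Cfsg.quadFormPlus d F u = 0) ∧
        W.map (Matrix.toLin' (x : Matrix (Fin d ⊕ Fin d) (Fin d ⊕ Fin d) F)) ≤ W) ↔
    ((r = 2 ∧ ((2 * d) % 4 = 2 ∨ m % 4 = 0 ∨ q % 4 = 1)) ∨
     (r ≠ p ∧ 2 < r ∧ Odd i ∧ c ≤ m ∧ m % c ≤ (2 * d) % c) ∨
     (r ≠ p ∧ 2 < r ∧ Even i ∧
       (((2 * d) % c = 0 ∧ (Odd ((2 * d) / i) ∨ (m % c = 0 ∧ Even (m / i)))) ∨
        (i ≤ m ∧ ((m % c < (2 * d) % c ∧ 0 < m % c) ∨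
                  ((2 * d) % c = m % c ∧ 0 < m % c ∧ Even ((2 * d + m - 2 * ((2 * d) % c)) / i)) ∨
                  (0 < (2 * d) % c ∧ m % c = 0 ∧ Even (m / i))))))) := by
  have hr' : r.Prime := Fact.out
  subst hq hi
  haveI : Nonempty (Fin d) := ⟨⟨0, by omega⟩⟩
  have hS := plusForm_nondeg (F := F) d
  have hV := finrank_sp (F := F) d
  have ht := Form.tp_eq_one_iff.2 (plusForm_isPlus (F := F) d)
  have h9 : ∀ W : Submodule F _, finrank F W = m → ((∃ U ≤ W, 2 * finrank F U = m ∧ ∀ u ∈ U, Cfsg.quadFormPlus d F u = 0) ↔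
      ((plusForm d F).res W).tp = 1) := fun W e => by
    simp only [Form.tp_eq_one_iff, Form.isPlus_res_iff, Form.totSing_iff (plusForm_Q d), e, and_comm]
  simp only [polar_eq_B (plusForm_Q d), nd_iff', fun W : Submodule F _ => (and_congr_right fun a =>
    and_congr_right fun _ => h9 W a : finrank F W = m ∧ (plusForm d F).NondegOn W ∧ _ ↔ _)] at hrΩ ⊢
  rw [om_forall (plusForm_Q d) (fun g => ∃ W : Submodule F _, (finrank F W = m ∧ (plusForm d F).NondegOn W ∧
    ((plusForm d F).res W).tp = 1) ∧ ∀ v ∈ W, g v ∈ W) fun x => by simp only [Submodule.map_le_iff_le_comap]; rfl]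
  obtain ⟨y, rfl⟩ := hme.two_dvd
  by_cases hr2 : r = 2
  · subst hr2
    simp only [true_and, lt_irrefl, false_and, and_false, or_false]
    by_cases hp2 : p = 2
    · subst hp2
      have h1 := p_dvd_card (F := F) 2
      rw [hS.inv2_ev (by simpa using CharP.cast_eq_zero F 2) hV (by omega) (by omega) (by omega), ht]
      simp
      omega
    have h2 : (2 : F) ≠ 0 := by simpa using cast_ne_of_ne (F := F) p hr' (Ne.symm hp2)
    have hodd := odd_of_two_ne h2
    have h3 := chi_neg_one_eq_one_iff hodd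
    have h4 := chi_two_iff hodd
    have h5 := Nat.odd_iff.1 hodd
    rw [hS.inv_ev h2 hV (by omega) (by omega), ht, Int.units_pow_eq_pow_mod_two, Int.units_pow_eq_pow_mod_two (chi 2),
      Int.units_pow_eq_pow_mod_two _ y]
    rcases Nat.mod_two_eq_zero_or_one d with e | e <;> rcases Nat.mod_two_eq_zero_or_one y with e' | e' <;>
      simp [e, e', ← Int.units_ne_iff_eq_neg, h3, h4, hp2, Nat.even_iff, Nat.odd_iff] <;> omega
  rw [hS.o_red (by omega) hr' hr2 fun c g => by simp only [← LinearEquiv.coe_coe, inv_smul_iff]; exact id]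
  have hrp := hr.resolve_left hr2
  have h0 := cast_ne_of_ne (F := F) p hr' hrp
  have hε := bt_id hr' h0
  rw [← hc] at hε
  rw [hS.o_ev hV hme (by omega) (by omega) _ hr' hr2 h0 hε hc hrΩ, ht]
  have h3 : 2 < r := hr'.two_le.lt_of_ne' hr2
  have h4 := (ord_pos hr' h0).1
  have h6 : 0 < c → 2 * y % c = 2 * d % c → (2 * d + 2 * y - 2 * (2 * d % c)) / c = 2 * y / c + 2 * d / c := fun a e =>
    Nat.div_eq_of_eq_mul_right a (by
      have := Nat.div_add_mod (2 * y) c; have := Nat.div_add_mod (2 * d) c; rw [mul_add]; omega)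
  have h7 : 2 * y % c = 0 → c ≤ 2 * y := fun e => Nat.le_of_dvd (by omega) (Nat.dvd_of_mod_eq_zero e)
  split_ifs at hc ⊢ with h
  · simp only [hr2, h3, h, Nat.not_odd_iff_even.2 h, ← hc, ← mul_assoc, ← pow_add, mul_one, mul_neg, neg_inj, ne_eq,
      neg_one_pow_eq_one_iff_even (R := ℤˣ) (by decide), neg_one_pow_eq_neg_one_iff_odd (R := ℤˣ) (by decide)]
    grind
  · simp only [hr2, h3, h, Nat.not_even_iff_odd.1 h, one_pow, one_mul, ne_eq, show (1 : ℤˣ) ≠ -1 by decide]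
    grind

end Cfsg.Agent.S5974
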