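import Cfsg.Statements.S5979
import Cfsg.Agent.H9.EG6

set_option autoImplicit false
open scoped MatrixGroups
open Cfsg

namespace Cfsg.Agent.S5979

/-- Elements of prime order of PSL_n(q) and the stabilizers of tensor decompositions with factors of different dimensions. Here `T = PSL_n(F)` for a field `F` with `q` elements and `n = a·b` with `2 ≤ a < b`; a tensor decomposition `F^n ≅ F^a ⊗ F^b` is given by a bijection `e` of index sets and a change of basis `P`, and `H` is the subgroup of matrices of determinant 1 in its stabilizer (the conjugate by `P` of the group of Kronecker products `g₁ ⊗ g₂`) — a subgroup of type GL_a(q) ⊗ GL_b(q) (maximality is not assumed); Ω is the set of cosets of `H` in `T`, so an element of `T` of prime order `r` (a matrix `x` of determinant 1 with `x^r` scalar, `x` not scalar) fixes a point of Ω exactly when some conjugate of `x` by a matrix of determinant 1 lies in `H`. Let `r` be a prime dividing the index of `H`. Then every element of `T` of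 order `r` fixes a point of Ω if and only if `r = 2`, `a = 2`, `q` is odd and `(q − 1)_2 ≤ (n)_2` (2-parts). -/
theorem result {F : Type*} [Field F] [Fintype F] {p : ℕ} [Fact p.Prime] [CharP F p] {q : ℕ} (hq : Fintype.card F = q)
    (n a b : ℕ) (hab : n = a * b) (ha : 2 ≤ a) (hlt : a < b) (e : Fin n ≃ Fin a × Fin b) (P : GL (Fin n) F)
    (r : ℕ) [Fact r.Prime]
    (hΩ : r ∣ (Cfsg.Geo.tensorProductSubgroup a b e P).relIndex (Cfsg.Geo.specialLinear (Fin n) F)) :
    (∀ x ∈ Cfsg.Geo.specialLinear (Fin n) F, (∃ z : F, ((x ^ r : GL (Fin n) F) : Matrix (Fin n) (Fin n) F) = z • (1 : Matrix (Fin n) (Fin n) F)) →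
      (∀ z : F, (x : Matrix (Fin n) (Fin n) F) ≠ z • (1 : Matrix (Fin n) (Fin n) F)) →
      ∃ g ∈ Cfsg.Geo.specialLinear (Fin n) F, g⁻¹ * x * g ∈ Cfsg.Geo.tensorProductSubgroup a b e P) ↔
    (r = 2 ∧ a = 2 ∧ Odd q ∧ padicValNat 2 (q - 1) ≤ padicValNat 2 n) := by
  open CfsgH5 CfsgH9.EG Module Polynomial in
  subst hq
  have hn : 2 * 3 ≤ n := hab ▸ Nat.mul_le_mul ha (by omega)
  have : Nonempty (Fin n) := ⟨⟨0, by omega⟩⟩
  have hV : finrank F (Fin n → F) = n := by simp
  have hr : r.Prime := Fact.out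
  have hS := tp_sc (e := e) (P := P)
  have nec := fun g => tp_nec (e := e) (P := P) (g := g) (by omega) (by omega)
  have dg : ∀ {g} {M N : Multiset Fˣ} {x k l}, SI _ g → DG g M → M = .replicate k x + N → x ∉ N → RK g l → l < b → a ∣ k := fun h1 h2 h3 h4 h5 h6 =>
    (nec _ h1).elim (fun ⟨s, h⟩ => by
      rw [h2.ed, h3, Multiset.map_add, Multiset.map_replicate] at h
      exact not_count h (mt (Multiset.mem_map_of_injective lin_inj).1 h4)) fun h => absurd (h.1 _ h5) (by omega)
  have rk1 : ∀ h ∈ lin (Cfsg.Geo.tensorProductSubgroup a b e P), ¬ RK h 1 := fun h h1 h2 => by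
    rcases nec _ (.of_mem h1) with ⟨s, h3⟩ | h3
    · obtain ⟨c, h2⟩ := h2
      rw [(pr_ed _).finrank_ker (monic_ed _), h3, Multiset.map_nsmul, dg0, Multiset.map_nsmul, Multiset.sum_nsmul, hV, hab, smul_eq_mul] at h2
      have := Nat.le_of_dvd one_pos ((Nat.dvd_add_right (dvd_mul_right a _)).1 (h2 ▸ dvd_mul_right a b)); omega
    · have := h3.1 _ h2; omega
  rw [idx_gl] at hΩ
  rw [el_gl]
  by_cases hrp : r = p
  · subst hrp
    refine iff_of_false (not_el_rk r hS (by omega) rk1) fun ⟨h1, _, h2, _⟩ => ?_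
    subst h1
    rw [Nat.odd_iff, FiniteField.even_card_of_char_two (ringChar.eq F 2)] at h2; omega
  have h0 := cast_ne_of_ne (F := F) p hr hrp
  by_cases hd : r ∣ Fintype.card F - 1
  swap
  · refine iff_of_false (fun E => ?_) fun ⟨h1, _, h2, _⟩ => hd (by subst h1; have := Fintype.card_pos (α := F); rw [Nat.odd_iff] at h2; omega)
    obtain ⟨u, h1, h2, h3⟩ := exists_sl_prime (F := F) (m := n) hr (by
      rw [Nat.card_congr (MonoidHom.ofInjective slHom_inj).toEquiv, range_slHom]
      exact hΩ.trans (Subgroup.relIndex_dvd_card _ _))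
    obtain ⟨g, h4, h5, x, h6⟩ := exists_cy_sl (V := Fin n → F) hr h0 hd one_pos (by simpa only [mul_one] using ord_le_of_pe hr h0 hd (pe_of_pow hr hd h2 h3).2)
    have h7 := h6.mem x (Multiset.mem_singleton_self x)
    rcases nec _ (E.si' h5 h4) with ⟨s, h⟩ | h
    · have := Nat.le_of_dvd one_pos (not_count (h6.eq.symm.trans h) fun h => one_notMem_cyT hr h0 (Multiset.eq_of_mem_replicate h ▸ h7)); omega
    · obtain ⟨A, hA⟩ := h.2 r h6.pow
      have h8 := ord_le_of_pe hr h0 hd hA
      have := h.1 (orderOf (Fintype.card F : ZMod r)) ⟨1, by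
        rw [C_1, ker_one (h6.eq ▸ pr_ed _) fun y hy => Multiset.eq_of_mem_replicate hy ▸ ⟨(mem_cyT.1 h7).2.1, cy_cop hr h0 (mem_cyT.1 h7).2.2⟩]
        simp at h8 ⊢; have : a ≤ n := hab ▸ Nat.le_mul_of_pos_right _ (by omega); omega⟩
      simp at h8; omega
  obtain ⟨w, hw⟩ := exists_orderOf_field (F := F) hd
  have h1 : w ≠ 1 := by rintro rfl; simp at hw; exact hr.one_lt.ne hw
  have h2 : w ^ r = 1 := hw ▸ pow_orderOf_eq_one w
  obtain ⟨g, hg⟩ := exists_dg (V := Fin n → F) (M := {w, w⁻¹} + .replicate (n - 2) 1) (by simp; omega)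
  have h3 := fun E : EL r _ => E.si' (H := lin (Cfsg.Geo.tensorProductSubgroup a b e P)) (hg.pe (a := w) (b := 1)
    (by simp +contextual [h2, Multiset.mem_replicate, or_imp]) (by simp) (by simp [Multiset.mem_replicate]; omega) h1) (hg.mem_sl.2 (by simp))
  have h4 : RK g 2 := hg.rk rfl (by simp [h1.symm, eq_comm (a := (1 : Fˣ)), h1])
  by_cases h5 : r = 2
  swap
  · refine iff_of_false (fun E => ?_) fun h => h5 h.1
    have := Nat.le_of_dvd one_pos (dg (k := 1) (x := w) (N := {w⁻¹} + .replicate (n - 2) 1) (h3 E) hg (by simp [Multiset.cons_swap]) (by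
      simpa [Multiset.mem_replicate, h1, eq_inv_iff_mul_eq_one, ← sq] using fun h => h5 ((Nat.prime_dvd_prime_iff_eq hr Nat.prime_two).1
        (hw ▸ orderOf_dvd_of_pow_eq_one h))) h4 (by omega)); omega
  subst h5
  have h5 : (2 : F) ≠ 0 := by exact_mod_cast h0
  have ho : Odd (Fintype.card F) := by have := Fintype.card_pos (α := F); rw [Nat.odd_iff]; omega
  simp only [ho, true_and]
  refine ⟨fun E => ⟨?_, not_lt.1 fun h => not_el_refl hr hS (by omega) rk1 (by rwa [hV]) E⟩, fun ⟨h6, h7⟩ => ?_⟩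
  · have := Nat.le_of_dvd two_pos (dg (k := 2) (x := w) (N := .replicate (n - 2) 1) (h3 E) hg (by
      rw [show w⁻¹ = w by rw [inv_eq_iff_mul_eq_one, ← sq, h2]]; rfl) (by simp [Multiset.mem_replicate, h1]) h4 (by omega)); omega
  subst h6
  refine el_of hr h0 (by omega) hS (fun y c h6 h8 _ => ?_) fun g _ l h6 h8 _ _ _ _ => ?_
  · obtain ⟨k, t, h9⟩ := inv_even h5 (by omega) (by rwa [hV]) h6 h8
    have := h9.card
    simp only [Multiset.card_add, Multiset.card_replicate, hV] at this
    obtain ⟨D, hD⟩ := exists_dg (F := F) (V := Fin b → F) (M := .replicate k (-1) + .replicate (b - k) 1) (by simp; omega)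
    obtain ⟨B, rfl⟩ := (glEquiv _ F).surjective D
    refine tp_si.2 ⟨1, B, Pr.sim h9 ?_⟩
    have h10 := pr_one_kron (κ := Fin 2) hD
    rw [← Multiset.map_nsmul, Fintype.card_fin, nsmul_add, Multiset.nsmul_replicate, Multiset.nsmul_replicate, show 2 * (b - k) = t by omega] at h10
    exact h10
  · let A : GL (Fin 2) F := .mkOfDetNeZero !![0, l; 1, 0] (by simp [Matrix.det_fin_two])
    refine tp_si.2 ⟨A, 1, sim_of_irr (monic_X_pow_sub_C l.1 two_ne_zero) ((X_pow_sub_C_irreducible_iff_of_prime hr).2 h6) (aeval_of_pow h8)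
      (aeval_of_pow ?_) (by simp [hab])⟩
    rw [← map_pow, kG_pow, one_pow, show A ^ 2 = scG _ l from Units.ext (by
      ext i j; fin_cases i <;> fin_cases j <;> simp [A, sq, scG_coe])]
    exact LinearEquiv.ext fun v => by simp [scE_apply, kG_coe, scG_coe, Matrix.smul_kronecker, Matrix.smul_mulVec]

end Cfsg.Agent.S5979
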