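import Cfsg.Statements.S5981
import Cfsg.Agent.H9.EG3

set_option autoImplicit false
open scoped MatrixGroups
open Cfsg

namespace Cfsg.Agent.S5981

/-- Elements of prime order of PSL_n(q), q odd, and the subgroups of orthogonal type. Here `T = PSL_n(F)` for a field `F` with `q` elements, `q` odd, `n ≥ 3`; `Q` is a non-degenerate quadratic form on `F^n` (of either type when `n` is even) and `H` is the subgroup of matrices of determinant 1 that preserve `Q` up to a scalar — a subgroup of type O^ε_n(q) (maximality is not assumed); Ω is the set of cosets of `H` in `T`, so an element of `T` of prime order `r` (a matrix `x` of determinant 1 with `x^r` scalar, `x` not scalar) fixes a point of Ω exactly when some conjugate of `x` by a matrix of determinant 1 preserves `Q` up to a scalar. Let `r` be a prime dividing the index of `H`, with `(n, r) ≠ (6, 3)`. Then every element of `T` of order `r` fixes a point of Ω if and only if `r = 2`, or `r ∈ {3, 5}`, `n = r` and `(q −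 1)_r = r` (the `r`-part of `q − 1` is exactly `r`). The case `(n, r) = (6, 3)` is not covered by this statement. -/
theorem result {F : Type*} [Field F] [Fintype F] {p : ℕ} [Fact p.Prime] [CharP F p] {q : ℕ} (hq : Fintype.card F = q)
    (hodd : Odd q) (n : ℕ) (hn : 3 ≤ n) (Q : (Fin n → F) → F) (hQ : Cfsg.Geo.IsNondegenerateQuadraticForm Q)
    (r : ℕ) [Fact r.Prime] (hgap : ¬ (n = 6 ∧ r = 3))
    (hΩ : r ∣ (Cfsg.Geo.quadSimilarityGroup Q).relIndex (Cfsg.Geo.specialLinear (Fin n) F)) :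
    (∀ x ∈ Cfsg.Geo.specialLinear (Fin n) F, (∃ z : F, ((x ^ r : GL (Fin n) F) : Matrix (Fin n) (Fin n) F) = z • (1 : Matrix (Fin n) (Fin n) F)) →
      (∀ z : F, (x : Matrix (Fin n) (Fin n) F) ≠ z • (1 : Matrix (Fin n) (Fin n) F)) →
      ∃ g ∈ Cfsg.Geo.specialLinear (Fin n) F, g⁻¹ * x * g ∈ Cfsg.Geo.quadSimilarityGroup Q) ↔
    (r = 2 ∨ ((r = 3 ∨ r = 5) ∧ n = r ∧ padicValNat r (q - 1) = 1)) := by
  open CfsgH5 CfsgH9.EG Module Polynomial in
  subst hq
  have hr : r.Prime := Fact.out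
  have : Nonempty (Fin n) := ⟨⟨0, by omega⟩⟩
  have h2 := two_ne_zero_of_odd hodd
  have hS := geoForm_nondeg hQ
  have hV : finrank F (Fin n → F) = n := by simp
  rw [el_gl, lin_quad hQ h2]
  rw [idx_gl, lin_quad hQ h2] at hΩ
  generalize geoForm hQ = S at *
  have hT := orthParam_isMax h2
  by_cases hr2 : r = 2
  · subst hr2
    refine iff_of_true (el_of hr h2 (by omega) sc_simH (fun y c h1 _ _ => ?_) fun g _ l h1 h3 k h4 _ _ => ?_) (.inl rfl)
    · obtain ⟨k, e, h4⟩ := exists_pm h2 h1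
      obtain ⟨w, φ, hφ⟩ := orth_basis hS h2 (ι := Fin k ⊕ Fin e) (by simpa using h4.card)
      obtain ⟨ψ, hψ⟩ := Pr.sim h4 (by simpa using Pr.prod (DG.scE (V := Fin k → F) (-1 : Fˣ)) (DG.scE (V := Fin e → F) (1 : Fˣ)))
      refine si_of_conj ((LinearEquiv.sumArrowLequivProdArrow _ _ F F).symm.trans φ) ⟨ψ, hψ⟩ fun h hh => ⟨1, sm_of_Q fun v => ?_⟩
      obtain ⟨v, rfl⟩ := ((LinearEquiv.sumArrowLequivProdArrow _ _ F F).symm.trans φ).surjective v
      rw [hh]; simp [hφ]; rfl
    · obtain ⟨w, φ, hφ⟩ := orth_basis hS h2 (ι := Fin k ⊕ Fin k) (by simp; omega)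
      choose a c hac using fun i => exists_sq_add_sq h2 (w (.inl i)).ne_zero (w (.inr i)).ne_zero (l * w (.inl i))
      refine si_of_conj φ (sim_blk (a := a) (b := fun i => w (.inr i) * c i / w (.inl i)) (c := c) (fun i => by
        field_simp; linear_combination hac i) h1 h3 (by simpa using h4)) fun h hh => ⟨l, sm_of_Q fun v => ?_⟩
      obtain ⟨v, rfl⟩ := φ.surjective v
      simp only [hh, hφ, Fintype.sum_sum_type, ← Finset.sum_add_distrib, Finset.mul_sum]
      refine Finset.sum_congr rfl fun i _ => ?_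
      simp only [blk, LinearMap.coe_mk, AddHom.coe_mk, Sum.elim_inl, Sum.elim_inr]
      field_simp
      linear_combination (w (.inl i) * v (.inl i) ^ 2 + w (.inr i) * v (.inr i) ^ 2) * hac i
  simp only [hr2, false_or]
  by_cases hp : r = p
  · subst hp
    refine iff_of_false (fun E => ?_) (by simp [val_zero])
    obtain ⟨g, h1, h3, -, h4, -⟩ := wit_unip (V := Fin n → F) (F := F) r le_rfl hr.two_le (by omega)
    obtain ⟨k, ⟨c, hk⟩, e⟩ := si_of_cs ((el_unip r sc_simH).1 E g h1 h3)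
    have := hS.orth_parity h2 (hk.isom hT hS (by omega) hr (not_dvd_card_sub r) (sim_pow e h1)) (nil_of_pow r (sim_pow e h1)) (j := 2) (by decide)
    simp [← e.jt, h4, Multiset.count_replicate] at this
  have h0 := cast_ne_of_ne (F := F) p hr hp
  by_cases hd : r ∣ Fintype.card F - 1
  · rw [el_sym hr2 hd (by omega) (by rwa [hV]) sc_simH (nec_sym hS fun _ _ => rfl) fun h y M h1 h3 h4 => orth_suf hS hr hr2 h0 h (h1.pow_iff.2 h3) (by
      rw [h1.ed, du_lin]; simp [h4]), hV]
  refine iff_of_false (fun E => ?_) (by simp [padicValNat.eq_zero_of_not_dvd hd])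
  obtain ⟨m, rfl | rfl⟩ := n.even_or_odd'
  · obtain ⟨m, rfl⟩ : ∃ k, m = k + 1 := ⟨m - 1, by omega⟩
    have t : (S.tp : ℤ) * S.tp = 1 := by simp [← Units.val_mul]
    have := odd_of_idx hr h0 hΩ (m := m) (e := 2) hV (by omega) (A := Fintype.card F ^ (m + 1) - S.tp)
      (R := (Fintype.card F ^ (2 * m + 1) - 1) * (Fintype.card F ^ (m + 1) + S.tp)) (x := 2 * Fintype.card F ^ ((m + 1) * m))
      (by rw [Form.orth_card_even m hS hV, Nat.card_eq_fintype_card]; ring) (fun e => by
        have := pow_sub_ne (j := 2 * m + 1) (Fintype.one_lt_card (α := F))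
        exact this (by linear_combination (Fintype.card F ^ (m + 1) + S.tp) * e + t)) (by
        simp only [Finset.prod_range_succ, Finset.prod_range_zero]; linear_combination (Fintype.card F ^ (2 * m + 1) - 1) * t)
    rw [(Nat.prime_iff_prime_int.1 hr).dvd_mul, ← ord_dvd_int] at this
    rcases this with ⟨j, h3, h4⟩ | h4 | h4
    · exact not_el_odd hT rfl hS hr hr2 h0 hd (by omega) h4 E
    · exact not_el_odd hT rfl hS hr hr2 h0 hd (by omega) h4 E
    obtain ⟨k, hk⟩ : orderOf (Fintype.card F : ZMod r) ∣ 2 * (m + 1) := ord_dvd_int.2 (h4.trans ⟨Fintype.card F ^ (m + 1) - S.tp, by linear_combination t⟩)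
    obtain ⟨g, h5, h6, a, h7⟩ := exists_cy_sl (V := Fin (2 * (m + 1)) → F) hr h0 hd (k := k) (Nat.pos_of_ne_zero (by rintro rfl; omega)) (by omega)
    obtain ⟨u, ⟨c, hu⟩, e⟩ := E.si' h6 h5
    have := hS.tp_of_fpf hV hr h0 (hu.isom hT hS (by omega) hr hd (sim_pow e h7.pow)) (sim_pow e h7.pow) fun v hv =>
      (pr_ed _).eq_zero (monic_ed _) (q := X ^ 2 - 1) (by
        rw [← sim_iff_ed.1 e, h7.eq, hV, hk, Nat.sub_self, Multiset.replicate_zero, add_zero]
        exact fun b hb => cyT_coprime hr hr2 h0 (h7.mem b hb)) v (by simp [sq, hv])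
    rw [← ZMod.intCast_zmod_eq_zero_iff_dvd] at h4
    simp only [Int.cast_add, Int.cast_pow, Int.cast_natCast, ← Nat.card_eq_fintype_card, this, ← two_mul] at h4
    have e2 : ((S.tp : ℤ) : ZMod r) * (S.tp : ℤ) = 1 := by rw [← Int.cast_mul, t, Int.cast_one]
    exact hr2 ((Nat.prime_dvd_prime_iff_eq hr Nat.prime_two).1 ((ZMod.natCast_eq_zero_iff 2 r).1 (by
      push_cast; linear_combination ((S.tp : ℤ) : ZMod r) * h4 - 2 * e2)))
  · rcases odd_of_idx hr h0 hΩ (m := m) (e := 1) hV (by omega) (A := 1) (R := Fintype.card F ^ (2 * m + 1) - 1) (x := 2 * Fintype.card F ^ m ^ 2) (by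
      rw [Form.orth_card_odd m hS hV, Nat.card_eq_fintype_card, mul_one, mul_comm]
      simp [Nat.cast_sub (Nat.one_le_pow _ _ Fintype.card_pos)]) one_ne_zero (by simp) with ⟨j, h3, h4⟩ | h4
    · exact not_el_odd hT rfl hS hr hr2 h0 hd (by omega) h4 E
    · exact not_el_odd hT rfl hS hr hr2 h0 hd (by omega) (ord_dvd_int.2 h4) E

end Cfsg.Agent.S5981
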