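import Cfsg.Statements.S5982
import Cfsg.Agent.H9.EG3

set_option autoImplicit false
open scoped MatrixGroups
open Cfsg

namespace Cfsg.Agent.S5982

/-- Elements of prime order of PSL_n(q), q = q₀², and the subgroups of unitary type. Here `T = PSL_n(F)` for a field `F` with `q = q₀²` elements (`n ≥ 3`), `f` is a non-degenerate unitary form on `F^n` for the involutory automorphism `x ↦ x^{q₀}`, and `H` is the subgroup of matrices of determinant 1 that preserve `f` up to a scalar — a subgroup of type GU_n(q₀) (maximality is not assumed); Ω is the set of cosets of `H` in `T`, so an element of `T` of prime order `r` (a matrix `x` of determinant 1 with `x^r` scalar, `x` not scalar) fixes a point of Ω exactly when some conjugate of `x` by a matrix of determinant 1 preserves `f` up to a scalar. Let `r` be a prime dividing the index of `H`, with `r = 2` or `r` different from the characteristic `p`, and with `(n, r) ≠ (6, 3)`. Then every element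 of `T` of order `r` fixes a point of Ω if and only if either `r = 2` and (`p = 2` or `(n)_2 ≤ (q − 1)_2`), or `r ∈ {3, 5}`, `n = r` and `(q₀ − 1)_r = r`. (Odd `r = p` and the case `(n, r) = (6, 3)` are not covered by this statement.) -/
theorem result {F : Type*} [Field F] [Fintype F] {p : ℕ} [Fact p.Prime] [CharP F p] {q : ℕ} (hq : Fintype.card F = q)
    (q₀ : ℕ) (hq₀ : q = q₀ ^ 2) (n : ℕ) (hn : 3 ≤ n) (f : (Fin n → F) → (Fin n → F) → F) (hf : Cfsg.Geo.IsUnitaryFormPow q₀ f)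
    (r : ℕ) [Fact r.Prime] (hr : r = 2 ∨ r ≠ p) (hgap : ¬ (n = 6 ∧ r = 3))
    (hΩ : r ∣ (Cfsg.Geo.similarityGroup f).relIndex (Cfsg.Geo.specialLinear (Fin n) F)) :
    (∀ x ∈ Cfsg.Geo.specialLinear (Fin n) F, (∃ z : F, ((x ^ r : GL (Fin n) F) : Matrix (Fin n) (Fin n) F) = z • (1 : Matrix (Fin n) (Fin n) F)) →
      (∀ z : F, (x : Matrix (Fin n) (Fin n) F) ≠ z • (1 : Matrix (Fin n) (Fin n) F)) →
      ∃ g ∈ Cfsg.Geo.specialLinear (Fin n) F, g⁻¹ * x * g ∈ Cfsg.Geo.similarityGroup f) ↔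
    ((r = 2 ∧ (p = 2 ∨ padicValNat 2 n ≤ padicValNat 2 (q - 1))) ∨ ((r = 3 ∨ r = 5) ∧ n = r ∧ padicValNat r (q₀ - 1) = 1)) := by
  open CfsgH5 CfsgH9.EG Module Polynomial in
  subst hq
  have hp := hr
  have hr : r.Prime := Fact.out
  have : Nonempty (Fin n) := ⟨⟨0, by omega⟩⟩
  let S : Form (uParam hq₀) (Fin n → F) := Form.ofHerm (frobQ hq₀) (frobQ_invol hq₀) (frobQ_ne hq₀) f hf.add_left hf.smul_left fun x y => hf.herm y x
  have hS : S.Nondeg := fun x h => by_contra fun e => (hf.nondegenerate x e).1.elim fun y n => n (h y)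
  have hV : finrank F (Fin n → F) = n := by simp
  rw [el_gl, show f = S.B from rfl, lin_sim]
  rw [idx_gl, show f = S.B from rfl, lin_sim] at hΩ
  have hT : (uParam hq₀).IsMax := unitParam_isMax _ _
  have q2 := two_le_of_card_sq hq₀
  have su : ∀ {y M}, DG y M → (∀ a ∈ M, (Units.map (frobQ hq₀).toMonoidHom a)⁻¹ = a) ∨ (M.map (·⁻¹) = M ∧ ∀ a ∈ M, frobQ hq₀ a = a) → SI (simH S) y := fun {y M} h1 h2 =>
    (hS.unit_exists (by
      rw [h1.ed, du_lin]; congr 1
      rcases h2 with h2 | h2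
      · exact (Multiset.map_congr rfl h2).trans M.map_id'
      · exact (Multiset.map_congr rfl fun a ha => congrArg _ (Units.ext (h2.2 a ha))).trans h2.1)).imp fun _ h => ⟨isom_le h.1, h.2⟩
  by_cases hr2 : r = 2
  · subst hr2
    simp only [true_and, OfNat.ofNat_eq_ofNat, Nat.reduceEqDiff, or_self, false_and, or_false]
    by_cases hp : p = 2
    · subst hp
      exact iff_of_true (el_two (by omega) sc_simH fun g h1 _ => (hS.unit_exists_nil (nil_of_pow 2 h1)).imp fun _ h => ⟨isom_le h.1, h.2⟩) (.inl rfl)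
    have h2 : (2 : F) ≠ 0 := cast_ne_of_ne p Nat.prime_two (Ne.symm hp)
    have o : Odd q₀ := (Nat.odd_pow_iff two_ne_zero).1 (hq₀ ▸ odd_card_of_two_ne_zero h2)
    have h4 : Fintype.card F % 4 = 1 := by obtain ⟨k, rfl⟩ := o; rw [hq₀, show (2 * k + 1) ^ 2 = 1 + 4 * (k ^ 2 + k) by ring]; simp
    have key := exists_irr_sl_iff (V := Fin n → F) hr (two_dvd h2) (by omega)
    simp only [hV, h4, implies_true, and_true] at key
    simp only [hp, false_or]
    refine ⟨fun E => by_contra fun h => ?_, fun h => el_of hr h2 (by omega) sc_simH (fun y c h1 _ _ => ?_)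
      fun g hg l h1 _ k h3 h5 h6 => absurd h (key.1 ⟨g, hg, h6, k, l, h1, hV ▸ h3, h5⟩)⟩
    · obtain ⟨g, hg, h6, k, l, h1, h3, h5⟩ := key.2 h
      obtain ⟨u, ⟨c, hu⟩, e⟩ := E.si' h6 hg
      have l0 : l ≠ 0 := fun e => h1 0 (by simp [e])
      have e1 : u ^ 2 = scE _ (Units.mk0 l l0) := pow_eq_scE.2 fun a ha => by
        rw [← sim_iff_ed.1 e, h5] at ha; rw [Multiset.eq_of_mem_replicate ha]; rfl
      have e2 := (hu.pow 2).unique hS (by omega) (d := Units.mk0 l l0 * Units.map (frobQ hq₀).toMonoidHom (Units.mk0 l l0)) fun u v => by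
        simp [e1, S.smul_left]; ring
      have e3 := hu.unique hS (by omega) (d := Units.map (frobQ hq₀).toMonoidHom c) fun x y => by
        rw [S.unit_herm, hu, map_mul, ← S.unit_herm]; rfl
      replace e2 : c.1 ^ 2 = l * l ^ q₀ := congrArg Units.val e2
      replace e3 : c.1 = c.1 ^ q₀ := congrArg Units.val e3
      obtain ⟨j, rfl⟩ := o
      obtain ⟨d, hd⟩ := (pow_iff_field (two_dvd h2) l0).2 (by
        rw [hq₀, show (2 * j + 1) ^ 2 - 1 = 2 * ((1 + (2 * j + 1)) * j) by rw [Nat.sub_eq_of_eq_add]; ring, Nat.mul_div_cancel_left _ two_pos,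
          pow_mul, pow_add, pow_one, ← e2, ← pow_mul]
        exact mul_right_cancel₀ c.ne_zero (by rw [← pow_succ, ← e3, one_mul]))
      exact h1 d hd
    · obtain ⟨k, e, h3⟩ := exists_pm h2 h1
      exact su h3 (.inl fun a ha => by
        rcases Multiset.mem_add.1 ha with h | h <;> rw [Multiset.eq_of_mem_replicate h] <;> ext <;> simp)
  have h0 := cast_ne_of_ne (F := F) p hr (hp.resolve_left hr2)
  have hq0 : ¬ (r : ℤ) ∣ q₀ := fun h => not_dvd_q hr h0 (by rw [hq₀]; push_cast; exact h.pow two_ne_zero)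
  have cq : (Fintype.card F : ℤ) = q₀ ^ 2 := by simp [hq₀]
  obtain ⟨n, rfl⟩ : ∃ m, n = m + 1 := ⟨n - 1, by omega⟩
  obtain ⟨j, h1, h2⟩ : ∃ j ∈ Finset.range n, (r : ℤ) ∣ q₀ ^ (j + 1 + 1) + (-1) ^ (j + 1 + 1) := by
    have := Int.natCast_dvd_natCast.2 (idx_dvd hΩ isom_le (m := q₀ + 1) (by omega) fun k hk => Units.ext (by
      simpa [pow_succ', frobQ] using hS.unit_det hk))
    rw [Nat.cast_mul, Nat.cast_mul, Nat.cast_mul, hS.cast_card_unit hV, card_gl, hV, Nat.cast_sub Fintype.card_pos, cq,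
      Fin.prod_univ_eq_prod_range (fun i => (q₀ : ℤ) ^ (i + 1) - (-1) ^ (i + 1)), ← pow_mul,
      Finset.prod_congr rfl (f := fun i => ((q₀ : ℤ) ^ 2) ^ (i + 1) - 1) (g := fun i => ((q₀ : ℤ) ^ (i + 1) - (-1) ^ (i + 1)) * (q₀ ^ (i + 1) + (-1) ^ (i + 1))) fun i _ => by
        rw [← pow_mul, mul_comm 2, pow_mul, mul_comm, ← sq_sub_sq, ← pow_mul (-1), mul_comm _ 2, pow_mul (-1)]; simp,
      Finset.prod_mul_distrib, Finset.prod_range_succ' fun i => (q₀ : ℤ) ^ (i + 1) + (-1) ^ (i + 1)] at this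
    refine ((Nat.prime_iff_prime_int.1 hr).dvd_finset_prod_iff _).1 (ar0 hr hq0 (A := (∏ i ∈ Finset.range (n + 1), ((q₀ : ℤ) ^ (i + 1) - (-1) ^ (i + 1))) * (q₀ ^ 2 - 1))
      (mul_ne_zero (Finset.prod_ne_zero_iff.2 fun i _ e => ?_) (pow_sub_ne q2)) (x := q₀ ^ ((n + 1) * (n + 1 - 1) / 2)) (b := 2 * (n + 1).choose 2) (by convert this using 1 <;> push_cast <;> ring))
    have : (1 : ℤ) < q₀ ^ (i + 1) := one_lt_pow₀ (by exact_mod_cast q2) i.succ_ne_zero
    rcases neg_one_pow_eq_or ℤ (i + 1) with h | h <;> omega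
  rw [← ZMod.intCast_zmod_eq_zero_iff_dvd] at h2
  push_cast at h2
  have h3 := Finset.mem_range.1 h1
  have ne : (-1 : ZMod r) ≠ 1 := fun e => hr2 ((Nat.prime_dvd_prime_iff_eq hr Nat.prime_two).1 ((ZMod.natCast_eq_zero_iff 2 r).1 (by
    push_cast; linear_combination -e)))
  have h4 : orderOf (q₀ : ZMod r) % 4 ≠ 2 ∧ orderOf (Fintype.card F : ZMod r) ∣ j + 1 + 1 := by
    rw [orderOf_dvd_iff_pow_eq_one, hq₀, Nat.cast_pow, ← pow_mul, mul_comm, pow_mul]
    rcases (j + 1 + 1).even_or_odd with o | o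
    · rw [o.neg_one_pow, add_eq_zero_iff_eq_neg] at h2
      refine ⟨fun e => ?_, by simp [h2]⟩
      obtain ⟨l, h5, h6⟩ := zmod_neg_dvd hr hr2 h2
      exact ne (h2 ▸ orderOf_dvd_iff_pow_eq_one.1 (h5 ▸ Nat.Coprime.mul_dvd_of_dvd_of_dvd (Nat.coprime_two_left.2 (Nat.odd_iff.2 (by omega))) o.two_dvd h6))
    · rw [o.neg_one_pow, add_neg_eq_zero] at h2
      exact ⟨fun e => by have := Nat.odd_iff.1 (o.of_dvd_nat (orderOf_dvd_of_pow_eq_one h2)); omega, by simp [h2]⟩
  simp only [hr2, false_and, false_or]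
  by_cases hd : r ∣ Fintype.card F - 1
  · have h5 : (q₀ : ZMod r) = 1 := by
      have := orderOf_eq_one_iff.1 ((ord_eq_one_iff Fintype.card_pos).2 hd)
      rw [hq₀, Nat.cast_pow] at this
      rcases (Nat.dvd_prime Nat.prime_two).1 (orderOf_dvd_of_pow_eq_one this) with h | h
      exacts [orderOf_eq_one_iff.1 h, (h4.1 (by rw [h])).elim]
    have h6 : r ∣ q₀ - 1 := (ord_eq_one_iff (by omega)).1 (orderOf_eq_one_iff.2 h5)
    have fx : ∀ a : Fˣ, a ^ r = 1 → frobQ hq₀ a = a := fun a ha => by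
      obtain ⟨k, hk⟩ := h6
      change a.1 ^ q₀ = a
      rw [show q₀ = r * k + 1 by omega, pow_succ, pow_mul, ← Units.val_pow_eq_pow_val, ha]; simp
    rw [el_sym hr2 hd (by omega) (by rwa [hV]) sc_simH (nec_sym hS fx) fun _ y M h1 h3 h4 => su h1 (.inr ⟨h4, fun a ha => fx a (h3 a ha)⟩), hV, hq₀,
      show q₀ ^ 2 - 1 = (q₀ + 1) * (q₀ - 1) from Nat.sq_sub_sq q₀ 1, padicValNat.mul (by omega) (by omega), padicValNat.eq_zero_of_not_dvd fun h => ne (by
        have := (ZMod.natCast_eq_zero_iff _ _).2 h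
        push_cast at this; linear_combination h5 - this), zero_add]
  refine iff_of_false (not_el_cy hT hS (fun _ h => h) hr h0 hd ((Nat.le_of_dvd (by omega) h4.2).trans (by omega)) fun a ha => mt (du_frob_iff hq₀ hr hr2 h0 ha).1 h4.1) ?_
  simp [padicValNat.eq_zero_of_not_dvd fun h : r ∣ q₀ - 1 => hd (hq₀ ▸ h.trans (by simpa using Nat.sub_dvd_pow_sub_pow q₀ 1 2))]

end Cfsg.Agent.S5982
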