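import Cfsg.Statements.S5983
import Cfsg.Agent.H5.El14

set_option autoImplicit false
open scoped MatrixGroups
open Cfsg

namespace Cfsg.Agent.S5983

open CfsgH5 Pointwise Module Polynomial

/-- Elements of prime order of PSp_n(q), q even, and the subgroups of orthogonal type. Here `T = Sp_{2d}(F)` for a field `F` of characteristic 2 with `q` elements (`d ≥ 2`, `(d, q) ≠ (2, 2)`), realised as the invertible matrices preserving the standard alternating form; `Q` is a non-degenerate quadratic form on `F^{2d}` whose polar form is that alternating form, and `H` is the subgroup of `T` preserving `Q` up to a scalar (equivalently preserving `Q`) — a subgroup of type O^±_{2d}(q) (maximality is not assumed); `Q` is of plus type when `F^{2d}` contains a `d`-dimensional subspace on which `Q` vanishes, of minus type otherwise. Ω is the set of cosets of `H` in `T`, so an element of `T` of prime order `r` (`x ∈ T` with `x^r` scalar, `x` not scalar) fixes a point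 of Ω exactly when some `T`-conjugate of `x` preserves `Q`. Let `r` be a prime dividing the index of `H`. Then every element of `T` of order `r` fixes a point of Ω if and only if `r = 2` and either `Q` is of plus type or `d` is odd. -/
theorem result {F : Type*} [Field F] [Fintype F] {p : ℕ} [Fact p.Prime] [CharP F p] {q : ℕ} (hq : Fintype.card F = q)
    (hp : p = 2) (d : ℕ) (hd : 2 ≤ d) (hT : (d, q) ≠ (2, 2)) (Q : (Fin d ⊕ Fin d → F) → F) (hQ : Cfsg.Geo.IsNondegenerateQuadraticForm Q)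
    (hQf : ∀ u v, QuadraticMap.polar Q u v = Cfsg.sympForm d F u v)
    (r : ℕ) [Fact r.Prime]
    (hΩ : r ∣ (Cfsg.Geo.quadSimilarityGroup Q).relIndex (Cfsg.spGL d F)) :
    (∀ x ∈ Cfsg.spGL d F, (∃ z : F, ((x ^ r : GL (Fin d ⊕ Fin d) F) : Matrix (Fin d ⊕ Fin d) (Fin d ⊕ Fin d) F) = z • (1 : Matrix (Fin d ⊕ Fin d) (Fin d ⊕ Fin d) F)) →
      (∀ z : F, (x : Matrix (Fin d ⊕ Fin d) (Fin d ⊕ Fin d) F) ≠ z • (1 : Matrix (Fin d ⊕ Fin d) (Fin d ⊕ Fin d) F)) →
      ∃ g ∈ Cfsg.spGL d F, g⁻¹ * x * g ∈ Cfsg.Geo.quadSimilarityGroup Q) ↔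
    (r = 2 ∧ (Cfsg.Geo.IsPlusTypeOn Q ⊤ ∨ Odd d)) := by
  subst hp
  haveI : Nonempty (Fin d) := ⟨⟨0, by omega⟩⟩
  have hS := geoForm_nondeg hQ
  have h0 := polar_eq_B (geoForm_Q hQ)
  have hB : (spForm d F).B = (geoForm hQ).B := by rw [spForm_B, ← h0]; ext u v; rw [hQf]
  have h1 : ∀ x : GL (Fin d ⊕ Fin d) F, glEquiv _ F x ∈ (spForm d F).isom →
      (x ∈ Cfsg.Geo.quadSimilarityGroup Q ↔ glEquiv _ F x ∈ (geoForm hQ).isom) := fun x hx => by
    simp only [Form.orth_mem_isom, geoForm_Q, glEquiv_apply]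
    refine ⟨fun ⟨c, hc⟩ v => ?_, fun h => ⟨1, fun v => (h v).trans (by simp)⟩⟩
    obtain ⟨u, hu⟩ := exists_ne (0 : Fin d ⊕ Fin d → F)
    obtain ⟨w, hw⟩ := hS.exists_ne hu
    have h2 := hx.1 w u
    rw [hB, ← h0] at h2
    rw [← h0] at hw
    simp only [QuadraticMap.polar, glEquiv_apply, ← Matrix.mulVec_add, hc] at h2 hw
    have h3 : (c : F) = 1 := mul_right_cancel₀ hw (by linear_combination h2)
    rw [hc, h3, one_mul]
  have h2 : Cfsg.Geo.IsPlusTypeOn Q ⊤ ↔ (geoForm hQ).IsPlus := by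
    rw [isPlusTypeOn_iff (geoForm_Q hQ), Form.isPlus_res_iff]
    simp only [le_top, true_and, finrank_top]
    exact exists_congr fun _ => ⟨fun h => ⟨h.1, h.2⟩, fun h => ⟨h.1, h.2⟩⟩
  rw [spGL_eq] at hΩ ⊢
  rw [← Subgroup.inf_relIndex_right, show _ ⊓ _ = ((geoForm hQ).isom.comap (glEquiv _ F).toMonoidHom) ⊓ _ from
    Subgroup.ext fun x => and_congr_left (h1 x), Subgroup.inf_relIndex_right, Subgroup.relIndex_comap,
    Subgroup.map_comap_eq_self_of_surjective (glEquiv _ F).surjective] at hΩ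
  rw [gl_forall (fun g => ∃ k ∈ (spForm d F).isom, k⁻¹ * g * k ∈ (geoForm hQ).isom) fun x hx => ⟨fun ⟨g, a1, a2⟩ =>
    ⟨_, a1, by simpa using (h1 _ (by simpa using mul_mem (mul_mem (inv_mem a1) hx) a1)).1 a2⟩, fun ⟨k, a1, a2⟩ =>
      ⟨(glEquiv _ F).symm k, by simpa using a1, (h1 _ (by simpa using mul_mem (mul_mem (inv_mem a1) hx) a1)).2
        (by simpa using a2)⟩⟩, hS.sp_orth hB (finrank_sp d) hd Fact.out hΩ, h2]

end Cfsg.Agent.S5983
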