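import Cfsg.Statements.S5984
import Cfsg.Agent.H5.El11

set_option autoImplicit false
open scoped MatrixGroups
open Cfsg

namespace Cfsg.Agent.S5984

open CfsgH5 Pointwise Module Polynomial

/-- Elements of prime order of PSU_n(q) and the stabilizers of pairs of complementary totally singular subspaces. Here `T = PSU_n(q)` is realised through `SU_n(q)`, the matrices of determinant 1 over the field `F` with `q²` elements preserving the hermitian form `Σ uᵢ vᵢ^q`, with `n ≥ 4` even; `D` is a pair of complementary subspaces of dimension `n/2` on each of which the form vanishes identically, and `H` is the subgroup of `SU_n(q)` fixing or interchanging the two members — a subgroup of type GL_{n/2}(q²).2 (maximality is not assumed). Ω is the set of cosets of `H`, so an element of `T` of prime order `r` (`x ∈ SU_n(q)` with `x^r` scalar, `x` not scalar) fixes a point of Ω exactly when some `SU_n(q)`-conjugate of `x` lies in `H`. Let `r` be a prime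 dividing the index of `H`. Then every element of `T` of order `r` fixes a point of Ω if and only if `r = 2`, `q` is odd and `(q + 1)_2 ≤ (n)_2` (2-parts). -/
theorem result {F : Type*} [Field F] [Fintype F] {p : ℕ} [Fact p.Prime] [CharP F p] {q : ℕ} (hq : Fintype.card F = q ^ 2)
    (n : ℕ) (hn : 4 ≤ n) (he : Even n) (D : Fin 2 → Submodule F (Fin n → F)) (hD : Cfsg.Geo.IsMDecomposition (n / 2) D)
    (hDs : ∀ i, Cfsg.Geo.IsTotallySingularFor (Cfsg.hermForm n F q) (D i))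
    (r : ℕ) [Fact r.Prime]
    (hΩ : r ∣ (Cfsg.Geo.decompositionStabilizer D).relIndex (Cfsg.GU n F q ⊓ Cfsg.Geo.specialLinear (Fin n) F)) :
    (∀ x ∈ Cfsg.GU n F q ⊓ Cfsg.Geo.specialLinear (Fin n) F, (∃ z : F, ((x ^ r : GL (Fin n) F) : Matrix (Fin n) (Fin n) F) = z • (1 : Matrix (Fin n) (Fin n) F)) →
      (∀ z : F, (x : Matrix (Fin n) (Fin n) F) ≠ z • (1 : Matrix (Fin n) (Fin n) F)) →
      ∃ g ∈ Cfsg.GU n F q ⊓ Cfsg.Geo.specialLinear (Fin n) F, g⁻¹ * x * g ∈ Cfsg.Geo.decompositionStabilizer D) ↔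
    (r = 2 ∧ Odd q ∧ padicValNat 2 (q + 1) ≤ padicValNat 2 n) := by
  classical
  have hr : r.Prime := Fact.out
  obtain ⟨d, rfl⟩ := he.two_dvd
  haveI : Nonempty (Fin (2 * d)) := ⟨⟨0, by omega⟩⟩
  haveI := Module.finite_of_finite F (M := Fin (2 * d) → F)
  have hS := uForm_nondeg hq (2 * d)
  have hV : finrank F (Fin (2 * d) → F) = 2 * d := by simp
  have hM : (uParam hq).IsMax := unitParam_isMax _ _
  have hD' : (uForm hq (2 * d)).TSP (D 0) (D 1) :=
    ⟨Form.totSing_of_isMax hM (hDs 0), Form.totSing_of_isMax hM (hDs 1), isCompl_of_decomp hD⟩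
  have hq1 := q_pos hq
  rw [SU_gl_eq hq] at hΩ ⊢
  have cj : ∀ (A B : Submodule F (Fin (2 * d) → F)) (k x : (Fin (2 * d) → F) ≃ₗ[F] (Fin (2 * d) → F)),
      A.map (k⁻¹ * x * k).toLinearMap = B ↔ (A.map k.toLinearMap).map x.toLinearMap = B.map k.toLinearMap :=
    fun A B k x => by
      change (k⁻¹ * x * k) • A = B ↔ x • k • A = k • B
      rw [mul_smul, mul_smul, inv_smul_eq_iff]
  rw [gl_forall (fun g => ∃ U W, (uForm hq (2 * d)).TSP U W ∧ ((U.map g.toLinearMap = U ∧ W.map g.toLinearMap = W) ∨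
      (U.map g.toLinearMap = W ∧ W.map g.toLinearMap = U))) fun x _ => by
    simp only [mem_decompositionStabilizer_two, map_mul, map_inv, cj]
    refine ⟨fun ⟨g, a1, a2⟩ => ⟨_, _, hD'.map a1.1, a2⟩, fun ⟨U, W, a1, a2⟩ => ?_⟩
    obtain ⟨k, b1, rfl, rfl⟩ := hD'.u_map hS a1 (by omega)
    exact ⟨(glEquiv _ F).symm k, by simpa using b1, by simpa using a2⟩]
  generalize uForm hq (2 * d) = S at *
  have hP : ∀ (c : Fˣ) (g : (Fin (2 * d) → F) ≃ₗ[F] (Fin (2 * d) → F)), (∃ U W, S.TSP U W ∧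
      ((U.map (scE _ c * g).toLinearMap = U ∧ W.map (scE _ c * g).toLinearMap = W) ∨
      (U.map (scE _ c * g).toLinearMap = W ∧ W.map (scE _ c * g).toLinearMap = U))) → ∃ U W, S.TSP U W ∧
        ((U.map g.toLinearMap = U ∧ W.map g.toLinearMap = W) ∨ (U.map g.toLinearMap = W ∧ W.map g.toLinearMap = U)) :=
    fun c g => by simp only [map_smul_eq]; exact id
  have key : ∀ g ∈ S.isom, (∀ a ∈ ed g.toLinearMap, du (frobQ hq) a = a) → ∀ U W, S.TSP U W →
      U.map g.toLinearMap = U ∧ W.map g.toLinearMap = W → ∃ s, ed g.toLinearMap = s + s := fun g hg h U W a1 a2 => by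
    obtain ⟨s, hs⟩ := hS.pair_eq hg (fun v hv => a2.1.le ⟨v, hv, rfl⟩) (fun v hv => a2.2.le ⟨v, hv, rfl⟩) a1.c
      a1.d.le_perp a1.e.le_perp
    exact ⟨s, hs.trans (congrArg _ (map_fix fun a ha => h a (by simp [hs, ha])))⟩
  by_cases hrp : r = p
  · subst hrp
    have h1 : r ∣ q := hr.dvd_of_dvd_pow (hq ▸ p_dvd_card r)
    refine iff_of_false (fun H => ?_) fun ⟨a, b, _⟩ => b.not_two_dvd_nat (a ▸ h1)
    rw [hS.u_red ((Nat.Prime.coprime_iff_not_dvd hr).2 fun e => hr.one_lt.ne' (Nat.dvd_one.1 ((Nat.dvd_add_right h1).1 e)))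
      (by omega) hP] at H
    obtain ⟨g, b1, b0⟩ := exists_jt (F := F) (V := Fin (2 * d) → F) (m := 2 ::ₘ Multiset.replicate (2 * d - 2) 1)
      (by simp [Multiset.mem_replicate]) (by simp; omega)
    obtain ⟨g', b2, b3⟩ := hS.unit_exists_nil b1
    have b4 : IsNilpotent (g'.toLinearMap - 1) :=
      (((ed_eq_jt b1 ▸ pr_ed _ : Pr g.toLinearMap _).of_sim b3).jt jt_pos).1
    rw [b3.jt] at b0
    have b5 := (jt_prime r b4).2 ⟨by simpa [b0, Multiset.mem_replicate, hr.two_le] using fun _ => hr.one_le,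
      fun e => absurd (Multiset.eq_of_mem_replicate (e ▸ b0 ▸ Multiset.mem_cons_self _ _ : 2 ∈ _)) (by decide)⟩
    have b6 := finrank_ker_one b4
    obtain ⟨U, W, a1, a2 | a2⟩ := H g' b2 b5.1 b5.2
    · obtain ⟨s, hs⟩ := key g' b2 (by simp [ed_eq_jt b4]) U W a1 a2
      have := congrArg Multiset.card hs
      simp [ed_eq_jt b4, b0] at this
      omega
    · have := swap_le a1.c a2.1 (U := LinearMap.ker (g'.toLinearMap - 1)) (l := 1) fun v hv => by
        simpa [sub_eq_zero] using hv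
      have := a1.symm.two_mul hS
      simp [b0] at b6
      omega
  have h0 := cast_ne_of_ne (F := F) p hr hrp
  by_cases hr2 : r = 2
  · subst hr2
    have h2 : (2 : F) ≠ 0 := by simpa using h0
    have ho : Odd q := (Nat.odd_pow_iff two_ne_zero).1 (hq ▸ odd_of_two_ne h2)
    obtain ⟨t, ht⟩ := id ho
    have h3 : ∀ c : F, (-c) ^ (q + 1) = c ^ (q + 1) := fun c => (show Even (q + 1) from ⟨t + 1, by omega⟩).neg_pow c
    have h4 : ∀ {c : F} {a b : ℕ}, c ^ (q + 1) = 1 → ∀ x ∈ Multiset.replicate a (X - C c) +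
        Multiset.replicate b (X - C (-c)), du (frobQ hq) x = x := fun a1 x hx => by
      rcases Multiset.mem_add.1 hx with e | e <;> rw [Multiset.eq_of_mem_replicate e]
      exacts [du_lin hq a1, du_lin hq ((h3 _).trans a1)]
    simp only [ho, true_and]
    refine ⟨fun H => not_lt.1 fun e' => ?_, fun H g hg ⟨⟨l, hl⟩, _⟩ => ?_⟩
    · have a0 : 2 ^ (padicValNat 2 (2 * d) + 1) ∣ q + 1 := (padicValNat_dvd_iff_le (by omega)).2 e'
      obtain ⟨c, a1, a2⟩ := exists_neg_pow (F := F) (n := 2 * d) (by omega) (card_sub_one hq ▸ a0.mul_right _)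
      have a3 : c.1 ^ (q + 1) = 1 := let ⟨k, hk⟩ := a0; by rw [hk, pow_mul, a1, one_pow]
      obtain ⟨g, b1, b2, b3⟩ := hS.u_exists_inv h2 (a := 1) (b := 2 * d - 1) (by omega) (by omega) (.inl a3)
        (by omega) (by rw [(show Odd (2 * d - 1) from ⟨d - 1, by omega⟩).neg_pow, mul_neg, ← pow_add,
          Nat.add_sub_cancel' (by omega), a2, neg_neg])
      have a4 : (X - C c.1 : F[X]) ≠ X - C (-c.1) := fun e => h2 (by
        simpa using show 2 * c.1 = 0 by linear_combination C_injective (sub_right_inj.1 e))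
      obtain ⟨U, W, a5, a6 | a6⟩ := H g b1 b2
      · obtain ⟨s, hs⟩ := key g b1.1 (b3 ▸ h4 a3) U W a5 a6
        have := congrArg (Multiset.count (X - C c.1)) (b3.symm.trans hs)
        simp only [Multiset.count_add, Multiset.count_replicate, if_neg a4.symm, if_true] at this
        omega
      · obtain ⟨B, -, c1, c2⟩ := (iv_ed g.toLinearMap).exists_le (monic_ed _) ((Multiset.le_add_left _ _).trans b3.ge)
        have := swap_le a5.c a6.1 (U := B) (l := -c.1) fun v hv => by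
          have := (c1.aeval_iff (q := X - C (-c.1))).2 (fun a ha => Multiset.eq_of_mem_replicate ha ▸ dvd_rfl) v hv
          rwa [map_sub, aeval_X, aeval_C, LinearMap.sub_apply, sub_eq_zero] at this
        have := a5.symm.two_mul hS
        rw [dg0_rep, natDegree_X_sub_C] at c2
        omega
    · suffices ∃ s, ed g.toLinearMap = s + s.map (du (frobQ hq)) by
        obtain ⟨s, hs⟩ := this
        obtain ⟨U, W, a1, a2, a3, a4, a5, a6, a7⟩ := (hS.u_rc hg.1).rt.ts (hs.trans (add_zero _).symm) exU_zero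
        have := dg0_ed g.toLinearMap
        rw [hs, dg0_add, dg0_du fun a ha => coeff_ed_ne g a (by simp [hs, ha])] at this
        exact ⟨U, W, ⟨a1, a2, (Submodule.isCompl_iff_disjoint _ _ (by omega)).2 a3⟩,
          .inl ⟨map_eq_of_le a6 rfl, map_eq_of_le a7 rfl⟩⟩
      obtain ⟨c, a, b, a1 | ⟨a1, rfl⟩, a2⟩ := hS.u_inv (by omega) h2 hg.1 hl <;> obtain ⟨a3, a4⟩ := det_lin a2
      · obtain ⟨b, rfl⟩ : Even b := Nat.not_odd_iff_even.1 fun e => neg_pow_false h2 (by omega) H a1 (by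
          rw [mem_slSub.1 hg.2, e.neg_pow, mul_neg, ← pow_add, ← a3, hV] at a4
          rw [a4, neg_neg])
        obtain ⟨a, rfl⟩ : Even a := Nat.even_iff.2 (by omega)
        exact ⟨Multiset.replicate a (X - C c) + Multiset.replicate b (X - C (-c)), by
          rw [map_fix (h4 a1), a2, add_add_add_comm, ← Multiset.replicate_add, ← Multiset.replicate_add]⟩
      · exact ⟨Multiset.replicate a (X - C c), by rw [Multiset.map_replicate, du_lin' hq a1, a2]⟩
  refine iff_of_false (fun H => ?_) fun h => hr2 h.1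
  suffices ∃ g ∈ S.isom, g ^ r = 1 ∧ (∀ a ∈ ed g.toLinearMap, du (frobQ hq) a = a) ∧ (∃ a, (ed g.toLinearMap).count a = 1) ∧
      ∃ U W, S.TSP U W ∧ ((U.map g.toLinearMap = U ∧ W.map g.toLinearMap = W) ∨
        (U.map g.toLinearMap = W ∧ W.map g.toLinearMap = U)) by
    obtain ⟨g, a1, a2, a3, ⟨a, a4⟩, U, W, a5, a6 | a6⟩ := this
    · obtain ⟨s, hs⟩ := key g a1 a3 U W a5 a6
      rw [hs, Multiset.count_add] at a4
      omega
    · exact ne_of_isCompl a5.c (by omega) (no_swap (hr.odd_of_ne_two hr2) a2 a6.1 a6.2)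
  by_cases h4 : r ∣ q + 1
  · obtain ⟨ζ, hζ⟩ := exists_orderOf_field (F := F) (d := r) (card_sub_one hq ▸ h4.mul_right _)
    have a1 : ζ.1 ^ r = 1 := by rw [← Units.val_pow_eq_pow_val, ← hζ, pow_orderOf_eq_one, Units.val_one]
    have a2 : ζ.1 ≠ 1 := fun e => hr.one_lt.ne' (by rw [← hζ, Units.ext (show ζ.1 = (1 : Fˣ) from e), orderOf_one])
    have a5 : ζ.1 ≠ (ζ.1)⁻¹ := fun e => hr2 ((Nat.prime_dvd_prime_iff_eq hr Nat.prime_two).1 (hζ ▸
      orderOf_dvd_of_pow_eq_one (Units.ext (by simpa [sq] using mul_eq_one_iff_eq_inv₀ ζ.ne_zero |>.2 e))))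
    have a3 : ∀ x ∈ ζ.1 ::ₘ (ζ.1)⁻¹ ::ₘ Multiset.replicate (2 * d - 2) 1, x ^ r = 1 := by
      simp [Multiset.mem_replicate, a1]
    have a4 := fun (x : F) hx => show x ^ (q + 1) = 1 by rw [h4.choose_spec, pow_mul, a3 x hx, one_pow]
    obtain ⟨g, b1, b2⟩ := hS.u_exists_diag a4 (by simp; omega) (by simp)
    have b4 : ∀ a ∈ ed g.toLinearMap, a ∣ X ^ r - C (1 : Fˣ).1 := by
      rw [b2, Multiset.forall_mem_map_iff]
      simpa only [dvd_iff_isRoot, sub_eq_zero, IsRoot, eval_sub, eval_pow, eval_X, eval_C, Units.val_one] using a3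
    refine ⟨g, b1.1, (pow_eq_scE.2 b4).trans (map_one _), by
      rw [b2, Multiset.forall_mem_map_iff]; exact fun x hx => du_lin hq (a4 x hx), ⟨X - C ζ.1, ?_⟩, H g b1
        (pe_of_ed b4 (x := X - C ζ.1) (y := X - C (ζ.1)⁻¹) (by simp [b2]) (by simp [b2]) (.inl (by simpa using a5)))⟩
    rw [b2, Multiset.count_map_eq_count' _ _ fun a b e => C_injective (sub_right_inj.1 e)]
    simp [a5, Multiset.count_replicate, a2.symm]
  obtain ⟨R, h1, h2⟩ := u_gl_ratio hq hr h0 d
  obtain ⟨j, h3, h5⟩ := h2 (hΩ.trans ((relIndex_dvd (glEquiv _ F).toMonoidHom _ _ (D 0, D 1) {X | IsCompl X.1 X.2 ∧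
    S.TotSing X.1 ∧ S.TotSing X.2} (fun y => ⟨fun a => by
      obtain ⟨k, b1, b2, b3⟩ := hD'.u_map hS ⟨a.2.1, a.2.2, a.1⟩ (by omega)
      exact ⟨(glEquiv _ F).symm k, by simpa using b1, by simpa using Prod.ext b2 b3⟩, by
      rintro ⟨g, a, rfl⟩
      exact ⟨(hD'.map a.1).c, (hD'.map a.1).d, (hD'.map a.1).e⟩⟩) fun g _ e =>
        (mem_decompositionStabilizer_two g).2 (.inl (Prod.ext_iff.1 e))).trans
      (hS.pair_dvd hV ((Form.unit_card hq _ hS hV).trans h1) hD'.c hD'.d hD'.e)))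
  rw [← ZMod.natCast_eq_zero_iff, Nat.cast_add, Nat.cast_pow, Nat.cast_one, add_eq_zero_iff_eq_neg] at h5
  obtain ⟨l, h6, h7⟩ := zmod_neg_dvd hr hr2 h5
  have h8 := Nat.le_of_dvd (by omega) h7
  have h11 : Odd l := Odd.of_dvd_nat (odd_two_mul_add_one j) h7
  have h12 := ord_sq hq hr h0
  rw [h6, if_pos (even_two_mul l), Nat.mul_div_cancel_left _ two_pos] at h12
  obtain ⟨a, ha⟩ := (ord_pos hr h0).2.2
  have h9 := (du_frob_iff hq hr hr2 h0 ha).2 (by rw [h6]; obtain ⟨_, rfl⟩ := h11; omega)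
  obtain ⟨g, hg, hc⟩ := hS.u_embAll.exists_cy (m := {a}) (e := 2 * d - l) hr hr2 h0 (by simpa)
    (congrArg singleton h9) (by rw [dg0_cy hr h0 (by simpa), h12]; simp; omega)
  have b1 : a ≠ X - 1 := fun e => one_notMem_cyT hr h0 (e ▸ ha)
  rw [hS.u_red ((Nat.Prime.coprime_iff_not_dvd hr).2 h4) (by omega) hP] at H
  exact ⟨g, hg, hc.pow, by simp [hc.eq, h9, Multiset.mem_replicate], ⟨a, by
    simp [hc.eq, Multiset.count_replicate, b1.symm]⟩, H g hg hc.pow (by simp [hc.eq_one_iff hr h0])⟩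

end Cfsg.Agent.S5984
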