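import Cfsg.Statements.S5987
import Cfsg.Agent.H5.El12

set_option autoImplicit false
open scoped MatrixGroups
open Cfsg

namespace Cfsg.Agent.S5987

open CfsgH5 Pointwise Module Polynomial

/-- Elements of prime order of PΩ⁻_n(q) with no fixed totally singular `m`-space. Here `T = PΩ⁻_n(F)`, `n = 2d ≥ 8`, realised through `Ω⁻_n(q)`, the commutator subgroup of the isometry group of `Q = Σ_{i<d−1} xᵢyᵢ + z₁² + a z₁z₂ + b z₂²` with `z₁² + a z₁z₂ + b z₂²` anisotropic, over the field `F` with `q` elements; an element of `T` of prime order `r` is an element `x` of `Ω⁻_n(q)` with `x^r` scalar and `x` not scalar. Let `1 ≤ m ≤ d − 1` and let `r` be a prime dividing the number of totally singular `m`-spaces (subspaces of dimension `m` on which `Q` vanishes); for `r ≠ p` let `i` be the multiplicative order of `q` modulo `r`, `c = i` for `i` even and `c = 2i` for `i` odd, and write `k = n mod c`, `ℓ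 = m mod i`, `n' = ⌊n/i⌋`, `m' = ⌊m/i⌋`, `t = (r−1)/i`. Then every element of `T` of order `r` fixes some totally singular `m`-space if and only if one of: (i) `r = 2 ≠ p` and (`n ≡ 0 (mod 4)`, or `m` is even, or `q ≢ 7 (mod 8)`); (ii) `r ≠ p` odd, `i` odd, `i ≤ m` and (`k = 0` or `k > 2ℓ`); (iii) `r ≠ p` odd, `i` even, `i ≤ m`, `n' − 2m' ≥ t`, and one of: (a) `i ≥ 2ℓ`, `k = 0`, `n/i` even and `n' − 2m' > t` (all four); (b) `k ≥ 2ℓ` and `n'` odd; (c) `k > 2ℓ` and `n'` even. -/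
theorem result {F : Type*} [Field F] [Fintype F] {p : ℕ} [Fact p.Prime] [CharP F p] {q : ℕ} (hq : Fintype.card F = q)
    (d m : ℕ) (hd : 4 ≤ d) (hm : 1 ≤ m) (hmd : m + 1 ≤ d) (a b : F) (hab : ∀ x y : F, x ^ 2 + a * x * y + b * y ^ 2 = 0 → x = 0 ∧ y = 0)
    (r : ℕ) [Fact r.Prime]
    (hrΩ : r ∣ Nat.card {W : Submodule F ((Fin (d - 1) ⊕ Fin (d - 1)) ⊕ Fin 2 → F) // Module.finrank F ↥W = m ∧ Cfsg.Geo.IsTotallySingularQuad (Cfsg.quadFormMinus (d - 1) F a b) W})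
    (i c : ℕ) (hi : i = orderOf (q : ZMod r)) (hc : c = if Even i then i else 2 * i) :
    (∀ x : GL ((Fin (d - 1) ⊕ Fin (d - 1)) ⊕ Fin 2) F, x ∈ Cfsg.Geo.omegaGL (Cfsg.quadFormMinus (d - 1) F a b) →
      (∃ z : F, ((x ^ r : GL ((Fin (d - 1) ⊕ Fin (d - 1)) ⊕ Fin 2) F) : Matrix ((Fin (d - 1) ⊕ Fin (d - 1)) ⊕ Fin 2) ((Fin (d - 1) ⊕ Fin (d - 1)) ⊕ Fin 2) F) = z • (1 : Matrix ((Fin (d - 1) ⊕ Fin (d - 1)) ⊕ Fin 2) ((Fin (d - 1) ⊕ Fin (d - 1)) ⊕ Fin 2) F)) →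
      (∀ z : F, (x : Matrix ((Fin (d - 1) ⊕ Fin (d - 1)) ⊕ Fin 2) ((Fin (d - 1) ⊕ Fin (d - 1)) ⊕ Fin 2) F) ≠ z • (1 : Matrix ((Fin (d - 1) ⊕ Fin (d - 1)) ⊕ Fin 2) ((Fin (d - 1) ⊕ Fin (d - 1)) ⊕ Fin 2) F)) →
      ∃ W : Submodule F ((Fin (d - 1) ⊕ Fin (d - 1)) ⊕ Fin 2 → F), (Module.finrank F ↥W = m ∧ Cfsg.Geo.IsTotallySingularQuad (Cfsg.quadFormMinus (d - 1) F a b) W) ∧ W.map (Matrix.toLin' (x : Matrix ((Fin (d - 1) ⊕ Fin (d - 1)) ⊕ Fin 2) ((Fin (d - 1) ⊕ Fin (d - 1)) ⊕ Fin 2) F)) ≤ W) ↔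
    ((r = 2 ∧ p ≠ 2 ∧ (Even d ∨ Even m ∨ q % 8 ≠ 7)) ∨
     (r ≠ p ∧ 2 < r ∧ Odd i ∧ i ≤ m ∧ ((2 * d) % c = 0 ∨ 2 * (m % i) < (2 * d) % c)) ∨
     (r ≠ p ∧ 2 < r ∧ Even i ∧ i ≤ m ∧ (r - 1) / i + 2 * (m / i) ≤ (2 * d) / i ∧
       ((2 * (m % i) ≤ i ∧ (2 * d) % c = 0 ∧ Even ((2 * d) / i) ∧ (r - 1) / i + 2 * (m / i) < (2 * d) / i) ∨
        (2 * (m % i) ≤ (2 * d) % c ∧ Odd ((2 * d) / i)) ∨
        (2 * (m % i) < (2 * d) % c ∧ Even ((2 * d) / i))))) := by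
  have hr : r.Prime := Fact.out
  subst hq
  have hS := minusForm_nondeg (F := F) (d - 1) hab
  have hV := finrank_minus' (F := F) (m := d) (by omega)
  have ht := Form.tp_eq_neg_one_iff.2 (minusForm_not_isPlus (F := F) (d - 1) hab)
  simp only [Cfsg.Geo.IsTotallySingularQuad, ← Form.totSing_iff (minusForm_Q (d - 1) a b)] at hrΩ ⊢
  have hrp : r ≠ p := by
    rintro rfl
    exact hS.o_ts_p r (k := d - m - 1) (by omega) hrΩ
  have h0 := cast_ne_of_ne (F := F) p hr hrp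
  rw [om_forall (minusForm_Q (d - 1) a b) (fun g => ∃ W : Submodule F _, finrank F W = m ∧
    (minusForm (d - 1) F a b).TotSing W ∧ ∀ v ∈ W, g v ∈ W) fun x => by
      simp only [Submodule.map_le_iff_le_comap, and_assoc]; rfl]
  by_cases hr2 : r = 2
  · subst hr2
    have h2 : (2 : F) ≠ 0 := by simpa using h0
    have ho := odd_of_two_ne h2
    have h3 := chi_neg_one_eq_one_iff ho
    have h4 := Nat.odd_iff.1 ho
    simp only [hrp.symm, ne_eq, not_false_eq_true, true_and, lt_irrefl, false_and, and_false, or_false]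
    rw [hS.om_inv h2 (by omega) hV, ht]
    refine ⟨fun H => or_iff_not_imp_left.2 fun e => or_iff_not_imp_right.2 fun e' => ?_,
      fun H => ⟨fun g hg a1 l k a2 a3 a4 a5 a6 => ?_, fun g hg a1 a2 a3 => ?_⟩⟩
    · have h7 : chi (-1 : F) ^ d = -1 := by
        rw [Int.units_ne_iff_eq_neg.1 (mt h3.1 (by omega)), (Nat.not_even_iff_odd.1 e).neg_one_pow]
      obtain ⟨j, c1, c2⟩ := hS.exists_J' h2 hV (ht ▸ h7)
      obtain ⟨W, c3, -, c4⟩ := H.2 j c1 c2 h7 (by rw [(chi_two_iff ho).2 (by omega), one_pow])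
      exact c3 ▸ Form.J_even h2 c1 c2 c4 (by omega)
    · refine (hS.inv_ts h2 hg a1 (k := k) a5 (by omega) a6).2 ?_
      rcases Int.units_eq_one_or (chi (-1 : F) ^ l) with e | e <;> simp only [e, ht, and_true]
      · exact ⟨min m l, m - min m l, by omega, by omega, .inl (by omega)⟩
      · exact ⟨m - min m k, min m k, by omega, .inl (by omega), by omega⟩
    · obtain ⟨d', b1, -, b2⟩ := hS.J_ex h2 hg a1
      have h5 : ¬ Even d := fun e => by
        rw [Int.units_pow_eq_pow_mod_two, Nat.even_iff.1 e, pow_zero] at a2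
        exact absurd a2 (by decide)
      rw [Int.units_pow_eq_pow_mod_two, Nat.odd_iff.1 (Nat.not_even_iff_odd.1 h5), pow_one] at a2 a3
      have h6 := mt h3.2 (by rw [a2]; decide)
      have h7 := (chi_two_iff ho).1 a3
      obtain ⟨W, b3, b4⟩ := b2 m (by omega) (.inl ((H.resolve_left h5).resolve_right (by omega)))
      exact ⟨W, b4.1, b3, b4.2⟩
  rw [hS.o_red (by omega) hr hr2 fun c g => by simp only [← LinearEquiv.coe_coe, inv_smul_iff]; exact id,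
    hS.o_ts (y := 1) hV hm hmd (fun k => by rw [ht, neg_one_pow_eq_neg_one_iff_odd (by decide), Nat.odd_iff]) le_rfl
      hr hr2 h0 hrΩ hi]
  have h3 : 2 < r := hr.two_le.lt_of_ne' hr2
  split_ifs at hc ⊢ with h
  · simp [hr2, hrp, h3, h, Nat.not_odd_iff_even.2 h, hc, Nat.even_iff, Nat.odd_iff]
  · simp [hr2, hrp, h3, h, Nat.not_even_iff_odd.1 h, hc]

end Cfsg.Agent.S5987
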