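import Cfsg.Statements.S5989
import Cfsg.Agent.H5.El13

set_option autoImplicit false
open scoped MatrixGroups
open Cfsg

namespace Cfsg.Agent.S5989

open CfsgH5 Pointwise Module Polynomial

/-- Elements of prime order of PΩ⁺_n(q), q odd, with no fixed nondegenerate `m`-space of odd dimension. Here `T = PΩ⁺_n(F)`, `n = 2d ≥ 8`, realised through `Ω⁺_n(q)`, the commutator subgroup of the isometry group of `Q = Σ xᵢyᵢ` over the field `F` with `q` elements; an element of `T` of prime order `r` is an element `x` of `Ω⁺_n(q)` with `x^r` scalar and `x` not scalar; `q` and `m` are odd, `1 ≤ m < n/2`. The nondegenerate `m`-spaces (subspaces on which the polar form is nondegenerate) fall into two isometry classes, each an orbit of `T`, and the two actions are equivalent; fix one such space `W₀` and let Ω be the set of nondegenerate `m`-spaces isometric to `W₀` (some linear isomorphism preserves `Q`). Let `r` be a prime dividing the size of Ω; for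 `r ≠ p` let `i` be the multiplicative order of `q` modulo `r`, `c = i` for `i` even and `c = 2i` for `i` odd, and write `k = n mod c`, `ℓ = m mod i`, `ℓ' = m mod c`, `n' = ⌊n/i⌋`, `m' = ⌊m/i⌋`, `t = (r−1)/i`. Then every element of `T` of order `r` fixes a member of Ω if and only if one of: (i) `r = 2`, `n ≡ 2 (mod 4)` and `q ≢ 1 (mod 8)`; (ii) `r ≠ p` odd, `i` odd, `c ≤ m` and `k > ℓ' > 0`; (iii) `r ≠ p` odd, `i` even, and either `k = 0` and `n/i` odd, or `i ≤ m` and `k > ℓ' > 0`. (For `r = p` there is always an element of order `p` fixing no member of Ω.) -/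
theorem result {F : Type*} [Field F] [Fintype F] {p : ℕ} [Fact p.Prime] [CharP F p] {q : ℕ} (hq : Fintype.card F = q)
    (hodd : Odd q) (d m : ℕ) (hd : 4 ≤ d) (hm : Odd m) (hmd : m < d)
    (W₀ : Submodule F (Fin d ⊕ Fin d → F)) (hW₀ : Module.finrank F ↥W₀ = m ∧ Cfsg.Geo.IsNondegenerateOn (QuadraticMap.polar (Cfsg.quadFormPlus d F)) W₀)
    (r : ℕ) [Fact r.Prime]
    (hrΩ : r ∣ Nat.card {W : Submodule F (Fin d ⊕ Fin d → F) // Module.finrank F ↥W = m ∧ Cfsg.Geo.IsNondegenerateOn (QuadraticMap.polar (Cfsg.quadFormPlus d F)) W ∧ Cfsg.Geo.AreIsometricFor (Cfsg.quadFormPlus d F) W W₀})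
    (i c : ℕ) (hi : i = orderOf (q : ZMod r)) (hc : c = if Even i then i else 2 * i) :
    (∀ x : GL (Fin d ⊕ Fin d) F, x ∈ Cfsg.Geo.omegaGL (Cfsg.quadFormPlus d F) →
      (∃ z : F, ((x ^ r : GL (Fin d ⊕ Fin d) F) : Matrix (Fin d ⊕ Fin d) (Fin d ⊕ Fin d) F) = z • (1 : Matrix (Fin d ⊕ Fin d) (Fin d ⊕ Fin d) F)) →
      (∀ z : F, (x : Matrix (Fin d ⊕ Fin d) (Fin d ⊕ Fin d) F) ≠ z • (1 : Matrix (Fin d ⊕ Fin d) (Fin d ⊕ Fin d) F)) →
      ∃ W : Submodule F (Fin d ⊕ Fin d → F), (Module.finrank F ↥W = m ∧ Cfsg.Geo.IsNondegenerateOn (QuadraticMap.polar (Cfsg.quadFormPlus d F)) W ∧ Cfsg.Geo.AreIsometricFor (Cfsg.quadFormPlus d F) W W₀) ∧ W.map (Matrix.toLin' (x : Matrix (Fin d ⊕ Fin d) (Fin d ⊕ Fin d) F)) ≤ W) ↔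
    ((r = 2 ∧ Odd d ∧ q % 8 ≠ 1) ∨
     (r ≠ p ∧ 2 < r ∧ Odd i ∧ c ≤ m ∧ 0 < m % c ∧ m % c < (2 * d) % c) ∨
     (r ≠ p ∧ 2 < r ∧ Even i ∧ (((2 * d) % c = 0 ∧ Odd ((2 * d) / i)) ∨ (i ≤ m ∧ 0 < m % c ∧ m % c < (2 * d) % c)))) := by
  have hr : r.Prime := Fact.out
  subst hq hi
  haveI : Nonempty (Fin d) := ⟨⟨0, by omega⟩⟩
  have h2 := two_ne_of_odd hodd
  have hp2 : p ≠ 2 := by rintro rfl; exact h2 (by simpa using CharP.cast_eq_zero F 2)
  have hS := plusForm_nondeg (F := F) d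
  have hV := finrank_sp (F := F) d
  have ht := Form.tp_eq_one_iff.2 (plusForm_isPlus (F := F) d)
  simp only [polar_eq_B (plusForm_Q d), isNondegenerateOn_iff, areIsometricFor_iff (plusForm_Q d)] at hrΩ hW₀ ⊢
  obtain ⟨rfl, hW⟩ := hW₀
  simp only [fun W : Submodule F _ => (and_congr_right fun a => and_congr_right fun b => hW.iso_disc h2 b a :
    finrank F W = finrank F W₀ ∧ (plusForm d F).NondegOn W ∧ _ ↔ _)] at hrΩ ⊢
  rw [om_forall (plusForm_Q d) (fun g => ∃ W : Submodule F _, (finrank F W = finrank F W₀ ∧ (plusForm d F).NondegOn W ∧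
    ((plusForm d F).res W).disc = ((plusForm d F).res W₀).disc) ∧ ∀ v ∈ W, g v ∈ W)
    fun x => by simp only [Submodule.map_le_iff_le_comap]; rfl]
  by_cases hr2 : r = 2
  · subst hr2
    have h3 := chi_neg_one_eq_one_iff hodd
    have h4 := chi_two_iff hodd
    have h5 := Nat.odd_iff.1 hodd
    simp only [true_and, lt_irrefl, false_and, and_false, or_false]
    rw [hS.inv_odd h2 hV hm (by omega), ht, Int.units_pow_eq_pow_mod_two, Int.units_pow_eq_pow_mod_two (chi 2)]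
    rcases Nat.mod_two_eq_zero_or_one d with e | e <;> simp [e, h3, h4, Nat.odd_iff]
    omega
  rw [hS.o_red (by omega) hr hr2 fun c g => by simp only [← LinearEquiv.coe_coe, inv_smul_iff]; exact id]
  by_cases hrp : r = p
  · subst hrp
    exact iff_of_false (hS.unip_odd r hp2 hd hV hm _) (by simp [hr2])
  have h0 := cast_ne_of_ne (F := F) p hr hrp
  have hε := bt_id hr h0
  rw [← hc] at hε
  rw [hS.o_odd h2 hV hW hm hr hr2 h0 hε hc hrΩ, ht]
  obtain ⟨l, hl, -⟩ := id hε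
  have h3 : 2 < r := hr.two_le.lt_of_ne' hr2
  have h4 := Nat.mod_mod_of_dvd (2 * d) (Dvd.intro _ hl.symm)
  have h5 := Nat.mod_mod_of_dvd (finrank F W₀) (Dvd.intro _ hl.symm)
  have h6 := Nat.odd_iff.1 hm
  split_ifs at hc ⊢ with h
  · simp only [hr2, h3, h, Nat.not_odd_iff_even.2 h, ← hc, neg_one_pow_eq_one_iff_even (R := ℤˣ) (by decide)]
    grind
  · simp only [hr2, h3, h, Nat.not_even_iff_odd.1 h, one_pow, not_true]
    grind

end Cfsg.Agent.S5989
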