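import Cfsg.Statements.S5993
import Cfsg.Agent.H5.El10

set_option autoImplicit false
open scoped MatrixGroups
open Cfsg

namespace Cfsg.Agent.S5993

open CfsgH5 Pointwise Module Polynomial

/-- Elements of prime order of Ω_n(q), nq odd, with no fixed elliptic `m`-space. Here `T = Ω_n(F)`, `n = 2d+1 ≥ 7`, `q` odd, realised as the commutator subgroup of the isometry group of `Q = x₀² + Σ xᵢyᵢ` over the field `F` with `q` elements (trivial centre, so its elements of prime order `r` are used directly); a nondegenerate `m`-space (even `m`) is a subspace on which the polar form of `Q` is nondegenerate; it is hyperbolic if it contains an `m/2`-dimensional subspace on which `Q` vanishes, elliptic otherwise. Let `m` be even with `2 ≤ m ≤ n − 1` (no restriction `m < n/2`) and let `r` be a prime dividing the number of elliptic `m`-spaces; for `r ≠ p` let `i` be the multiplicative order of `q` modulo `r`, `c = i` for `i` even and `c = 2i` for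 `i` odd, and write `k = n mod c`, `ℓ' = m mod c`. Then every element of `T` of order `r` fixes some elliptic `m`-space if and only if `r = 2`, or `r ≠ p` is odd and one of: (i) `i` odd, `c ≤ m` and `k > ℓ' > 0`; (ii) `i` even, `i ≤ m`, `k > ℓ'`, and `m/i` odd whenever `ℓ' = 0`. (For `r = p` there is always an element of order `p` fixing no elliptic `m`-space.) -/
theorem result {F : Type*} [Field F] [Fintype F] {p : ℕ} [Fact p.Prime] [CharP F p] {q : ℕ} (hq : Fintype.card F = q) (hqodd : Odd q)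
    (d m : ℕ) (hd : 3 ≤ d) (hm : 2 ≤ m) (hme : Even m) (hmn : m ≤ 2 * d)
    (r : ℕ) [Fact r.Prime]
    (hrΩ : r ∣ Nat.card {W : Submodule F (Unit ⊕ (Fin d ⊕ Fin d) → F) // Module.finrank F ↥W = m ∧ Cfsg.Geo.IsNondegenerateOn (QuadraticMap.polar (Cfsg.quadFormOdd d F)) W ∧ ¬ Cfsg.Geo.IsPlusTypeOn (Cfsg.quadFormOdd d F) W})
    (i c : ℕ) (hi : i = orderOf (q : ZMod r)) (hc : c = if Even i then i else 2 * i) :
    (∀ x : GL (Unit ⊕ (Fin d ⊕ Fin d)) F, x ∈ Cfsg.Geo.omegaGL (Cfsg.quadFormOdd d F) → orderOf x = r →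
      ∃ W : Submodule F (Unit ⊕ (Fin d ⊕ Fin d) → F), (Module.finrank F ↥W = m ∧ Cfsg.Geo.IsNondegenerateOn (QuadraticMap.polar (Cfsg.quadFormOdd d F)) W ∧ ¬ Cfsg.Geo.IsPlusTypeOn (Cfsg.quadFormOdd d F) W) ∧ W.map (Matrix.toLin' (x : Matrix (Unit ⊕ (Fin d ⊕ Fin d)) (Unit ⊕ (Fin d ⊕ Fin d)) F)) ≤ W) ↔
    (r = 2 ∨
     (r ≠ p ∧ 2 < r ∧ Odd i ∧ c ≤ m ∧ 0 < m % c ∧ m % c < (2 * d + 1) % c) ∨
     (r ≠ p ∧ 2 < r ∧ Even i ∧ i ≤ m ∧ m % c < (2 * d + 1) % c ∧ (0 < m % c ∨ Odd (m / i)))) := by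
  have hr : r.Prime := Fact.out
  subst hq hi
  have h2 := two_ne_of_odd hqodd
  have hp2 : p ≠ 2 := by rintro rfl; exact h2 (by simpa using CharP.cast_eq_zero F 2)
  have hS := oddForm_nondeg (F := F) d h2
  have hV := finrank_odd (F := F) d
  have ho : Odd (finrank F (Unit ⊕ (Fin d ⊕ Fin d) → F)) := ⟨d, hV⟩
  simp only [polar_eq_B (oddForm_Q d), isNondegenerateOn_iff, isPlusTypeOn_iff (oddForm_Q d),
    ← Form.tp_eq_neg_one_iff] at hrΩ ⊢
  rw [om_forall' (oddForm_Q d) hr (fun g => ∃ W : Submodule F _, (finrank F W = m ∧ (oddForm d F).NondegOn W ∧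
    ((oddForm d F).res W).tp = -1) ∧ ∀ v ∈ W, g v ∈ W) fun x => by simp only [Submodule.map_le_iff_le_comap]; rfl]
  obtain ⟨k, hk⟩ := id hme
  by_cases hr2 : r = 2
  · subst hr2
    refine iff_of_true (fun g hg h1 h3 => ?_) (.inl rfl)
    obtain ⟨a1, a2, a3, a4⟩ := hS.inv_struct h2 (Form.om_le_isom hg) h1
    obtain ⟨⟨l, hl⟩, -⟩ := (hS.inv_om h2 a1 a2).1 hg
    have a6 := a1.finrank_add
    have a7 := Submodule.one_le_finrank_iff.2 (mt mov_eq_bot_iff.1 h3)
    obtain ⟨X, b1, Y, b2, b3, b4, b5⟩ := hS.exists_sum h2 a1 (a := max 1 (m + l + l - (2 * d + 1)))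
      (b := m - max 1 (m + l + l - (2 * d + 1))) (by omega) (by omega) (.inl (by omega)) (chi (-1 : F) ^ k * -1)
    exact ⟨_, ⟨by omega, b3, mul_left_cancel ((b3.res.disc_eq_tp h2 (by omega)).symm.trans b5)⟩,
      Form.inv_sup (a3 X b1) (a4 Y b2)⟩
  rw [hS.om_odd (by omega) (hr.odd_of_ne_two hr2)]
  by_cases hrp : r = p
  · subst hrp
    refine iff_of_false (fun H => ?_) (by simp [hr2])
    obtain ⟨g, a1, a2, a3, a4⟩ := hS.unip_cex r hp2 (k := d / 2) (by omega) (ω := {2 * (d % 2) + 1})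
      (by simp; omega) (by simp; omega) (by simp)
    obtain ⟨W, h4, h5⟩ := H g a1 a2 a3
    obtain ⟨j, ω, b1, b2, b3⟩ := a4 W h4.2.1 h5
    rcases Multiset.le_singleton.1 b1 with rfl | rfl
    · exact Form.tp_eq_neg_one_iff.1 h4.2.2 (b3 rfl)
    · simp at b2; omega
  have h0 := cast_ne_of_ne (F := F) p hr hrp
  have hD := id_DT (σ := (orthParam F).σ) (fun _ => rfl) hr hr2 h0
  have hε := bt_id hr h0
  obtain ⟨U, a1, a2, a3⟩ := hS.exists_tp hme (-1) (by omega) (by omega) (by omega)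
  have hj := hS.nd_dvd' (hS.o_rat ho hr h0 hme) a1 a2 (fun W => a2 ▸ a3 ▸ a1.iso_tp (a2 ▸ hme)) hrΩ
  rw [← hc] at hD hε hj
  obtain ⟨l, hl, -⟩ := id hε
  rw [hS.blk_red (hS.o_embAll ho) hD hr hr2 h0 _
    fun g hg s e K h _ h1 h3 => (hS.cy_ndt hg h hD h1 hε hr hr2 h0 hme (-1)).trans (exists_congr fun a =>
      and_congr_right fun _ => exists_congr fun b => and_congr_right fun _ => and_congr_right fun h4 =>
        and_iff_left fun e => by rw [hl, mul_assoc] at h3 h4; omega), arith_typ (hD.pos hr h0) (by omega) hj, hV]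
  have h3 : 2 < r := hr.two_le.lt_of_ne' hr2
  have h4 := Nat.mod_mod_of_dvd (2 * d + 1) (Dvd.intro _ hl.symm)
  have h5 := Nat.mod_mod_of_dvd m (Dvd.intro _ hl.symm)
  split_ifs at hc ⊢ with h
  · simp only [hr2, h3, h, Nat.not_odd_iff_even.2 h, ← hc, neg_one_pow_eq_neg_one_iff_odd (R := ℤˣ) (by decide)]
    grind
  · simp only [hr2, h3, h, Nat.not_even_iff_odd.1 h, one_pow, show (1 : ℤˣ) ≠ -1 by decide]
    grind

end Cfsg.Agent.S5993
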