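import Cfsg.Statements.S5994
import Cfsg.Agent.H5.El10

set_option autoImplicit false
open scoped MatrixGroups
open Cfsg

namespace Cfsg.Agent.S5994

open CfsgH5 Pointwise Module Polynomial

/-- A necessary condition for every element of order p of PΩ⁻_n(q), q odd, to fix an elliptic `m`-space. Here `T = PΩ⁻_n(F)`, `n = 2d ≥ 8`, realised through `Ω⁻_n(q)`, the commutator subgroup of the isometry group of `Q = Σ_{i<d−1} xᵢyᵢ + z₁² + a z₁z₂ + b z₂²` with `z₁² + a z₁z₂ + b z₂²` anisotropic, over the field `F` with `q` elements; an element of `T` of prime order `r` is an element `x` of `Ω⁻_n(q)` with `x^r` scalar and `x` not scalar; `q` is odd; a nondegenerate `m`-space (even `m`) is a subspace on which the polar form of `Q` is nondegenerate; it is hyperbolic if it contains an `m/2`-dimensional subspace on which `Q` vanishes, elliptic otherwise. Let `m` be even with `2 ≤ m ≤ n − 2` and suppose `p` divides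 the number of elliptic `m`-spaces. If every element of `T` of order `p` fixes some elliptic `m`-space, then `n ≡ m (mod 4)` and every partition of `n` into parts of size at most `p` in which every even part has even multiplicity contains (as a sub-multiset) a partition of `m` in which every even part has even multiplicity. -/
theorem result {F : Type*} [Field F] [Fintype F] {p : ℕ} [Fact p.Prime] [CharP F p] {q : ℕ} (hq : Fintype.card F = q) (hqodd : Odd q)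
    (d m : ℕ) (hd : 4 ≤ d) (hm : 2 ≤ m) (hme : Even m) (hmn : m + 2 ≤ 2 * d) (a b : F) (hab : ∀ x y : F, x ^ 2 + a * x * y + b * y ^ 2 = 0 → x = 0 ∧ y = 0)
    (hpΩ : p ∣ Nat.card {W : Submodule F ((Fin (d - 1) ⊕ Fin (d - 1)) ⊕ Fin 2 → F) // Module.finrank F ↥W = m ∧ Cfsg.Geo.IsNondegenerateOn (QuadraticMap.polar (Cfsg.quadFormMinus (d - 1) F a b)) W ∧ ¬ Cfsg.Geo.IsPlusTypeOn (Cfsg.quadFormMinus (d - 1) F a b) W}) :
    (∀ x : GL ((Fin (d - 1) ⊕ Fin (d - 1)) ⊕ Fin 2) F, x ∈ Cfsg.Geo.omegaGL (Cfsg.quadFormMinus (d - 1) F a b) →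
      (∃ z : F, ((x ^ p : GL ((Fin (d - 1) ⊕ Fin (d - 1)) ⊕ Fin 2) F) : Matrix ((Fin (d - 1) ⊕ Fin (d - 1)) ⊕ Fin 2) ((Fin (d - 1) ⊕ Fin (d - 1)) ⊕ Fin 2) F) = z • (1 : Matrix ((Fin (d - 1) ⊕ Fin (d - 1)) ⊕ Fin 2) ((Fin (d - 1) ⊕ Fin (d - 1)) ⊕ Fin 2) F)) →
      (∀ z : F, (x : Matrix ((Fin (d - 1) ⊕ Fin (d - 1)) ⊕ Fin 2) ((Fin (d - 1) ⊕ Fin (d - 1)) ⊕ Fin 2) F) ≠ z • (1 : Matrix ((Fin (d - 1) ⊕ Fin (d - 1)) ⊕ Fin 2) ((Fin (d - 1) ⊕ Fin (d - 1)) ⊕ Fin 2) F)) →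
      ∃ W : Submodule F ((Fin (d - 1) ⊕ Fin (d - 1)) ⊕ Fin 2 → F), (Module.finrank F ↥W = m ∧ Cfsg.Geo.IsNondegenerateOn (QuadraticMap.polar (Cfsg.quadFormMinus (d - 1) F a b)) W ∧ ¬ Cfsg.Geo.IsPlusTypeOn (Cfsg.quadFormMinus (d - 1) F a b) W) ∧ W.map (Matrix.toLin' (x : Matrix ((Fin (d - 1) ⊕ Fin (d - 1)) ⊕ Fin 2) ((Fin (d - 1) ⊕ Fin (d - 1)) ⊕ Fin 2) F)) ≤ W) →
    ((2 * d) % 4 = m % 4 ∧ (∀ μ : Multiset ℕ, (∀ e ∈ μ, 0 < e ∧ e ≤ p) → (∀ e : ℕ, Even e → Even (μ.count e)) → μ.sum = 2 * d →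
        ∃ ν : Multiset ℕ, ν ≤ μ ∧ ν.sum = m ∧ ∀ e : ℕ, Even e → Even (ν.count e))) := by
  subst hq
  have h2 := two_ne_of_odd hqodd
  have hp2 : p ≠ 2 := by rintro rfl; exact h2 (by simpa using CharP.cast_eq_zero F 2)
  have hS := minusForm_nondeg (F := F) (d - 1) hab
  have hV := finrank_minus' (F := F) (m := d) (by omega)
  simp only [polar_eq_B (minusForm_Q (d - 1) a b), isNondegenerateOn_iff, isPlusTypeOn_iff (minusForm_Q (d - 1) a b)]
  rw [om_forall (minusForm_Q (d - 1) a b) (fun g => ∃ W : Submodule F _, (finrank F W = m ∧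
    (minusForm (d - 1) F a b).NondegOn W ∧ ¬ ((minusForm (d - 1) F a b).res W).IsPlus) ∧ ∀ v ∈ W, g v ∈ W)
    (fun x => by simp only [Submodule.map_le_iff_le_comap]; rfl),
    hS.o_red (by omega) Fact.out hp2 fun c g => by simp only [← LinearEquiv.coe_coe, inv_smul_iff]; exact id]
  refine fun H => ⟨?_, fun μ a b c => hS.unip_red p hp2 hme (by omega) (fun g hg h1 h3 =>
    let ⟨W, h4, h5⟩ := H g hg h1 h3; ⟨W, h4.1, h4.2.1, h5⟩) μ a b (c.trans hV.symm)⟩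
  obtain ⟨g, a1, a2, a3, a4⟩ := hS.unip_cex p hp2 (k := (d - 1) / 2) (by omega)
    (ω := {2 * ((d - 1) % 2) + 1} + Multiset.replicate 1 1) (by simp; omega) (by simp; omega) (by simp)
  obtain ⟨W, h4, h5⟩ := H g a1 a2 a3
  obtain ⟨j, ω, b1, b2, b3⟩ := a4 W h4.2.1 h5
  obtain ⟨_, _⟩ := hme
  obtain ⟨ω, b4, i, b5, rfl⟩ := le_add_rep b1
  have := mt b3 h4.2.2
  rcases Multiset.le_singleton.1 b4 with rfl | rfl <;> interval_cases i <;> simp at b2 this <;> omega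

end Cfsg.Agent.S5994
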