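import Cfsg.Statements.S5995
import Cfsg.Agent.H5.El10

set_option autoImplicit false
open scoped MatrixGroups
open Cfsg

namespace Cfsg.Agent.S5995

open CfsgH5 Pointwise Module Polynomial

/-- A necessary condition for every element of order p of Ω_n(q), nq odd, to fix a hyperbolic `m`-space. Here `T = Ω_n(F)`, `n = 2d+1 ≥ 7`, `q` odd, realised as the commutator subgroup of the isometry group of `Q = x₀² + Σ xᵢyᵢ` over the field `F` with `q` elements (trivial centre, so its elements of prime order `r` are used directly); a nondegenerate `m`-space (even `m`) is a subspace on which the polar form of `Q` is nondegenerate; it is hyperbolic if it contains an `m/2`-dimensional subspace on which `Q` vanishes, elliptic otherwise. Let `m` be even with `2 ≤ m ≤ n − 1` and suppose `p` divides the number of hyperbolic `m`-spaces. If every element of `T` of order `p` fixes some hyperbolic `m`-space, then `m ≡ 0 (mod 4)` and every partition of `n` into parts of size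 at most `p` in which every even part has even multiplicity contains (as a sub-multiset) a partition of `m` in which every even part has even multiplicity. -/
theorem result {F : Type*} [Field F] [Fintype F] {p : ℕ} [Fact p.Prime] [CharP F p] {q : ℕ} (hq : Fintype.card F = q) (hqodd : Odd q)
    (d m : ℕ) (hd : 3 ≤ d) (hm : 2 ≤ m) (hme : Even m) (hmn : m ≤ 2 * d)
    (hpΩ : p ∣ Nat.card {W : Submodule F (Unit ⊕ (Fin d ⊕ Fin d) → F) // Module.finrank F ↥W = m ∧ Cfsg.Geo.IsNondegenerateOn (QuadraticMap.polar (Cfsg.quadFormOdd d F)) W ∧ Cfsg.Geo.IsPlusTypeOn (Cfsg.quadFormOdd d F) W}) :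
    (∀ x : GL (Unit ⊕ (Fin d ⊕ Fin d)) F, x ∈ Cfsg.Geo.omegaGL (Cfsg.quadFormOdd d F) → orderOf x = p →
      ∃ W : Submodule F (Unit ⊕ (Fin d ⊕ Fin d) → F), (Module.finrank F ↥W = m ∧ Cfsg.Geo.IsNondegenerateOn (QuadraticMap.polar (Cfsg.quadFormOdd d F)) W ∧ Cfsg.Geo.IsPlusTypeOn (Cfsg.quadFormOdd d F) W) ∧ W.map (Matrix.toLin' (x : Matrix (Unit ⊕ (Fin d ⊕ Fin d)) (Unit ⊕ (Fin d ⊕ Fin d)) F)) ≤ W) →
    (m % 4 = 0 ∧ (∀ μ : Multiset ℕ, (∀ e ∈ μ, 0 < e ∧ e ≤ p) → (∀ e : ℕ, Even e → Even (μ.count e)) → μ.sum = 2 * d + 1 →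
        ∃ ν : Multiset ℕ, ν ≤ μ ∧ ν.sum = m ∧ ∀ e : ℕ, Even e → Even (ν.count e))) := by
  subst hq
  have h2 := two_ne_of_odd hqodd
  have hp2 : p ≠ 2 := by rintro rfl; exact h2 (by simpa using CharP.cast_eq_zero F 2)
  have hS := oddForm_nondeg (F := F) d h2
  have hV := finrank_odd (F := F) d
  simp only [polar_eq_B (oddForm_Q d), isNondegenerateOn_iff]
  rw [om_forall' (oddForm_Q d) Fact.out (fun g => ∃ W : Submodule F _, (finrank F W = m ∧ (oddForm d F).NondegOn W ∧
    Cfsg.Geo.IsPlusTypeOn (Cfsg.quadFormOdd d F) W) ∧ ∀ v ∈ W, g v ∈ W)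
    (fun x => by simp only [Submodule.map_le_iff_le_comap]; rfl),
    hS.om_odd (by omega) ((Fact.out : p.Prime).odd_of_ne_two hp2)]
  refine fun H => ⟨?_, fun μ a b c => hS.unip_red p hp2 hme (by omega) (fun g hg h1 h3 =>
    let ⟨W, h4, h5⟩ := H g hg h1 h3; ⟨W, h4.1, h4.2.1, h5⟩) μ a b (c.trans hV.symm)⟩
  obtain ⟨g, a1, a2, a3, a4⟩ := hS.unip_cex p hp2 (k := d / 2) (by omega) (ω := {2 * (d % 2) + 1})
    (by simp; omega) (by simp; omega) (by simp)
  obtain ⟨W, h4, h5⟩ := H g a1 a2 a3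
  obtain ⟨j, ω, b1, b2, -⟩ := a4 W h4.2.1 h5
  obtain ⟨_, _⟩ := hme
  rcases Multiset.le_singleton.1 b1 with rfl | rfl <;> simp at b2 <;> omega

end Cfsg.Agent.S5995
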