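import Cfsg.Statements.S5997
import Cfsg.Agent.H1.Dk8

set_option autoImplicit false
open scoped MatrixGroups
open Cfsg

namespace Cfsg.Agent.S5997

open CfsgH1.L2 CfsgH2 Subgroup Matrix
open Matrix.SpecialLinearGroup (toGL)

/-- Elements of prime order of PSL_2(p) and the normalizer of a quaternion subgroup. Here `T = PSL_2(F)` for the field `F` with `p` elements, `p ≥ 5` prime; `R` is a subgroup of GL_2(F) isomorphic to the quaternion group of order 8 (an absolutely irreducible 2-group of symplectic type), and `H` is the subgroup of matrices of determinant 1 normalizing `R` — a subgroup of type 2^{1+2}.O₂⁻(2), isomorphic modulo scalars to A₄ or S₄ (maximality is not assumed). Ω is the set of cosets of `H` in `T`, so an element of `T` of prime order `r` (a matrix `x` of determinant 1 with `x^r` scalar, `x` not scalar) fixes a point of Ω exactly when some conjugate of `x` by a matrix of determinant 1 normalizes `R`. Let `r` be a prime dividing the index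 of `H`. Then every element of `T` of order `r` fixes a point of Ω if and only if `r = 2` or `r = 3`. -/
theorem result {F : Type*} [Field F] [Fintype F] {p : ℕ} [Fact p.Prime] [CharP F p] (hF : Fintype.card F = p) (hp : 5 ≤ p)
    (R : Subgroup (GL (Fin 2) F)) (hR : Nonempty (↥R ≃* QuaternionGroup 2))
    (r : ℕ) [Fact r.Prime]
    (hΩ : r ∣ (Cfsg.Geo.subgroupNormalizer R).relIndex (Cfsg.Geo.specialLinear (Fin 2) F)) :
    (∀ x ∈ Cfsg.Geo.specialLinear (Fin 2) F, (∃ z : F, ((x ^ r : GL (Fin 2) F) : Matrix (Fin 2) (Fin 2) F) = z • (1 : Matrix (Fin 2) (Fin 2) F)) →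
      (∀ z : F, (x : Matrix (Fin 2) (Fin 2) F) ≠ z • (1 : Matrix (Fin 2) (Fin 2) F)) →
      ∃ g ∈ Cfsg.Geo.specialLinear (Fin 2) F, g⁻¹ * x * g ∈ Cfsg.Geo.subgroupNormalizer R) ↔ (r = 2 ∨ r = 3) := by
  classical
  obtain ⟨e⟩ := hR
  obtain ⟨a, b, k, o⟩ := exists_idx2_of_quaternion e
  have h2 : (2 : F) ≠ 0 := two_ne' (p := p) (by omega)
  have a2 : a * a ≠ 1 := fun e => by
    have := orderOf_dvd_iff_pow_eq_one.2 ((pow_two a).trans e); rw [o] at this; omega
  have nc : b * a ≠ a * b := fun e => a2 (by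
    have := k.conj; rw [e, mul_inv_cancel_right, _root_.zpow_neg_one] at this; nth_rw 1 [this]; simp)
  have bb : b * b = a * a := by rw [k.sq, zpow_natCast, pow_two]
  have a4 : a * a * (a * a) = 1 := by rw [← pow_two, ← pow_two, ← pow_mul]; exact o ▸ pow_orderOf_eq_one a
  have sz : Sc (a * a).val := by_contra fun n => nc (comm_cent n
    (CfsgFT.mem_cent1.2 (by rw [← bb, mul_assoc])) (CfsgFT.mem_cent1.2 (by rw [mul_assoc])))
  have zz : (a * a).val = (-1 : F) • (1 : M2 F) := by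
    have := congrFun (congrFun (congrArg (fun g : G2 F => g.val) a4) 0) 0
    rw [Units.val_mul, mul2, sz.1] at this
    rcases mul_self_eq_one_iff.1 (by simpa using this : (a * a).val 0 0 * (a * a).val 0 0 = 1) with c | c
    · exact (a2 (Units.ext (by rw [sz.eq, c]; simp))).elim
    · rw [sz.eq, c]
  have key : ∀ g : G2 F, g * g = a * a → ¬ Sc g.val → g.val.det = 1 ∧ g.val.trace = 0 := fun g e n => by
    have := lin_inj n (a' := -1) (b' := 0) ((cayley g.val).symm.trans (by rw [← Units.val_mul, e, zz]; simp))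
    exact ⟨neg_injective this.1, this.2⟩
  obtain ⟨da, ta⟩ := key a rfl fun s => nc (Units.ext (s.comm _).symm)
  obtain ⟨db, tb⟩ := key b bb fun s => nc (Units.ext (s.comm _))
  obtain ⟨i, rfl⟩ : ∃ i : S2 F, toGL i = a := ⟨ofG a (Units.ext da), toGL_ofG _ _⟩
  obtain ⟨j, rfl⟩ : ∃ j : S2 F, toGL j = b := ⟨ofG b (Units.ext db), toGL_ofG _ _⟩
  have Q : Qu i j := ⟨h2, ta, tb, tG_inj (by simpa using k.conj)⟩
  have eN : (Cfsg.Geo.subgroupNormalizer R).comap (toGL : S2 F →* G2 F) = normalizer (closure {i, j} : Subgroup (S2 F)) := by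
    have : R = (closure {i, j}).map (toGL : S2 F →* G2 F) := by rw [k.eq_closure, MonoidHom.map_closure, Set.image_pair]
    rw [Cfsg.Geo.subgroupNormalizer, comap_normalizer_eq_of_le_range
      (this ▸ map_le_range _ _), this, comap_map_eq_self_of_injective fun _ _ => tG_inj]
  have eS : Cfsg.Geo.specialLinear (Fin 2) F = (toGL : S2 F →* G2 F).range :=
    Subgroup.ext fun g => ⟨fun h => ⟨ofG g h, toGL_ofG _ _⟩, by rintro ⟨s, rfl⟩; exact det_tG s⟩
  have mN : ∀ s : S2 F, toGL s ∈ Cfsg.Geo.subgroupNormalizer R ↔ s ∈ normalizer (closure {i, j} : Subgroup (S2 F)) :=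
    fun s => by rw [← eN]; rfl
  rw [eS] at hΩ ⊢
  rw [← index_comap, eN] at hΩ
  refine ⟨fun h => ?_, fun h => ?_⟩
  · obtain ⟨s, hs⟩ := exists_prime_orderOf_dvd_card' r (hΩ.trans (index_dvd_card _))
    by_contra n
    obtain ⟨_, ⟨g, rfl⟩, m⟩ := h _ ⟨s, rfl⟩ ⟨1, by rw [← map_pow, ← hs, pow_orderOf_eq_one]; simp⟩ fun z e => by
      have : orderOf s ∣ 2 := orderOf_dvd_of_pow_eq_one (by rcases scS.1 (sc_iff.2 ⟨z, e⟩) with e | e <;> simp [e])
      rw [hs] at this
      exact n (.inl ((Nat.prime_dvd_prime_iff_eq Fact.out Nat.prime_two).1 this))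
    rw [← map_inv, ← map_mul, ← map_mul, mN] at m
    have d := Subgroup.orderOf_dvd_natCard _ m
    have : orderOf (g⁻¹ * s * g) = r := by simpa [hs] using (MulAut.conj g⁻¹).orderOf_eq s
    have o := Nat.odd_iff.1 (odd_q h2)
    have d : r ∣ 2 ^ 4 * 3 := by
      rw [this] at d
      rcases (by omega : (Fintype.card F % 8 = 3 ∨ Fintype.card F % 8 = 5) ∨ Fintype.card F % 8 = 1 ∨ Fintype.card F % 8 = 7) with c | c
      · exact (Q.card_norm'.1 c ▸ d).trans (by norm_num)
      · rwa [Q.card_norm'.2 c] at d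
    rcases (Fact.out : r.Prime).dvd_mul.1 d with d | d
    · exact n (.inl ((Nat.prime_dvd_prime_iff_eq Fact.out Nat.prime_two).1 ((Fact.out : r.Prime).dvd_of_dvd_pow d)))
    · exact n (.inr ((Nat.prime_dvd_prime_iff_eq Fact.out Nat.prime_three).1 d))
  rintro _ ⟨s, rfl⟩ hz hn
  have ns : ¬ Sc s.val := fun e => let ⟨z, e⟩ := sc_iff.1 e; hn z e
  have pz : pr s ^ r = 1 := by rw [← map_pow] at hz ⊢; exact pr_eq_one.2 (sc_iff.2 hz)
  suffices ∃ u : S2 F, u ∈ normalizer (closure {i, j} : Subgroup (S2 F)) ∧ Ss u.val ∧ s.val.trace = u.val.trace by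
    obtain ⟨u, m, su, t⟩ := this
    obtain ⟨c, rfl⟩ := isConj_iff.1 (isConj_of_tr su t)
    exact ⟨_, ⟨c, rfl⟩, by rw [← map_inv, ← map_mul, ← map_mul, mN]; simpa [mul_assoc] using m⟩
  rcases h with rfl | rfl
  · exact ⟨i, le_normalizer Q.idx2.a_mem, Q.ss, ((pr_pow ns).1.1 pz).trans Q.ti.symm⟩
  obtain ⟨g, hg⟩ := Q.exists_sl23
  have gN : g ∈ normalizer (closure {i, j} : Subgroup (S2 F)) := mem_normalizer_of_cj_le (by
    rw [cj, MonoidHom.map_closure, closure_le]
    rintro _ ⟨x, rfl | rfl, rfl⟩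
    · exact (hg.gc ▸ Q.idx2.b_mem : g * x * g⁻¹ ∈ closure {x, j})
    · exact (hg.gy ▸ mul_mem Q.idx2.a_mem Q.idx2.b_mem : g * x * g⁻¹ ∈ closure {i, x}))
  have ng : ¬ Sc g.val := fun s => hg.notMem (by
    rw [← hg.gc, ← mem_center_iff.1 (mem_centerS.2 s), mul_inv_cancel_right]; exact mem_zpowers i)
  have g3 : pr g ^ 3 = 1 := by rw [← map_pow, hg.cube, map_one]
  have sg : Ss g.val := ((casesS g).resolve_left ng).resolve_right fun ⟨u, ev, _⟩ => by
    have := Nat.le_of_dvd (by norm_num) (jor_pr p ev ng ▸ orderOf_dvd_of_pow_eq_one g3); omega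
  rcases sq_eq_sq_iff_eq_or_eq_neg.1 (((pr_pow ns).2.1.1 pz).trans ((pr_pow ng).2.1.1 g3).symm) with t | t
  · exact ⟨g, gN, sg, t⟩
  · exact ⟨-g, by simpa using mul_mem (le_normalizer Q.neg_mem) gN, sg.neg, t.trans (trS_neg g).symm⟩

end Cfsg.Agent.S5997
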